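import Mathlib
import Cfsg.Prelude.Def_Transfer

set_option autoImplicit false

namespace Cfsg.Agent.Lib.Helper1

open Subgroup

/-- An automorphism of prime power order `q` of a finite group `T` is trivial if `q` divides none
of the numbers `|T| - d`, `d` a proper divisor of `|T|` (fixed point counting). -/
theorem mulAut_eq_one_of_pow_prime_eq_one {T : Type*} [Group T] [Finite T] (φ : MulAut T) (q : ℕ)
    [hq : Fact q.Prime] (hφ : φ ^ q = 1)
    (h : ∀ d, d ∣ Nat.card T → d < Nat.card T → ¬ q ∣ (Nat.card T - d)) : φ = 1 := by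
  set Q : Subgroup (MulAut T) := zpowers φ with hQ
  have hQp : IsPGroup q Q := by
    rintro ⟨g, hg⟩
    obtain ⟨k, rfl⟩ := Subgroup.mem_zpowers_iff.mp hg
    refine ⟨1, Subtype.ext ?_⟩
    simp only [pow_one, Subgroup.coe_pow, Subgroup.coe_one]
    rw [← zpow_natCast, ← zpow_mul, mul_comm, zpow_mul, zpow_natCast, hφ, one_zpow]
  set F : Subgroup T := FixedPoints.subgroup Q T with hF
  have hmod : Nat.card T ≡ Nat.card (MulAction.fixedPoints Q T) [MOD q] :=
    hQp.card_modEq_card_fixedPoints T
  have hcardF : Nat.card (MulAction.fixedPoints Q T) = Nat.card F := rfl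
  rw [hcardF] at hmod
  have hdvd : Nat.card F ∣ Nat.card T := Subgroup.card_subgroup_dvd_card F
  have hle : Nat.card F ≤ Nat.card T := Subgroup.card_le_card_group F
  have hFtop : F = ⊤ := by
    by_contra hne
    have hlt : Nat.card F < Nat.card T :=
      lt_of_le_of_ne hle (fun h' => hne ((Subgroup.card_eq_iff_eq_top F).mp h'))
    apply h _ hdvd hlt
    exact (Nat.modEq_iff_dvd' hle).mp hmod.symm
  ext t
  have ht : t ∈ F := hFtop ▸ Subgroup.mem_top t
  rw [hF, FixedPoints.mem_subgroup] at ht
  exact ht ⟨φ, Subgroup.mem_zpowers φ⟩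

/-- A criterion for `N_G(P) ≤ C_G(P)` for an abelian Sylow subgroup. -/
theorem normalizer_le_centralizer_of_not_dvd {G : Type*} [Group G] [Finite G] {p : ℕ}
    [Fact p.Prime] (P : Sylow p G) [IsMulCommutative P]
    (h : ∀ q : ℕ, q.Prime → q ≠ p → q ∣ Nat.card G → ∀ d, d ∣ Nat.card P → d < Nat.card P →
      ¬ q ∣ (Nat.card P - d)) :
    normalizer ((P : Subgroup G) : Set G) ≤ centralizer ((P : Subgroup G) : Set G) := by
  have hp : p.Prime := Fact.out
  set f := (P : Subgroup G).normalizerMonoidHom with hf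
  have hker : f.ker = (centralizer ((P : Subgroup G) : Set G)).subgroupOf
      (normalizer ((P : Subgroup G) : Set G)) := Subgroup.normalizerMonoidHom_ker _
  -- the image of `N` in `Aut P` is trivial
  have hrange : f.range = ⊥ := by
    by_contra hne
    have hcard : 1 < Nat.card f.range := (Subgroup.one_lt_card_iff_ne_bot _).mpr hne
    obtain ⟨q, hq, hqd⟩ := Nat.exists_prime_and_dvd (ne_of_gt hcard)
    have : Fact q.Prime := ⟨hq⟩
    -- `|range| = |N : C|` divides `|G : P|` and `|G|`
    have hcr : Nat.card f.range = f.ker.index := by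
      rw [← Nat.card_congr (QuotientGroup.quotientKerEquivRange f).toEquiv]; rfl
    have hidx : f.ker.index = (centralizer ((P : Subgroup G) : Set G)).relIndex
        (normalizer ((P : Subgroup G) : Set G)) := by rw [hker]; rfl
    have hPC : (P : Subgroup G) ≤ centralizer ((P : Subgroup G) : Set G) := P.le_centralizer
    have h1 : (centralizer ((P : Subgroup G) : Set G)).relIndex
        (normalizer ((P : Subgroup G) : Set G)) ∣ (P : Subgroup G).index :=
      (Subgroup.relIndex_dvd_of_le_left _ hPC).trans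
        (Subgroup.relIndex_dvd_index_of_le Subgroup.le_normalizer)
    have hqidx : q ∣ (P : Subgroup G).index := by rw [hcr, hidx] at hqd; exact hqd.trans h1
    have hqp : q ≠ p := by
      rintro rfl
      exact P.not_dvd_index hqidx
    have hqG : q ∣ Nat.card G := hqidx.trans (Subgroup.index_dvd_card _)
    obtain ⟨ψ, hψ⟩ := exists_prime_orderOf_dvd_card' (G := f.range) q hqd
    have hψ' : orderOf (ψ : MulAut P) = q := by rw [Subgroup.orderOf_coe]; exact hψ
    have hψq : (ψ : MulAut P) ^ q = 1 := hψ' ▸ pow_orderOf_eq_one _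
    have h2 := mulAut_eq_one_of_pow_prime_eq_one (ψ : MulAut P) q hψq (h q hq hqp hqG)
    rw [h2, orderOf_one] at hψ'
    exact hq.ne_one hψ'.symm
  intro n hn
  have h1 : f ⟨n, hn⟩ ∈ f.range := ⟨_, rfl⟩
  rw [hrange, Subgroup.mem_bot, ← MonoidHom.mem_ker, hker, Subgroup.mem_subgroupOf] at h1
  exact h1

/-- Burnside's normal `p`-complement theorem in the `Cfsg` form. -/
theorem hasNormalPComplement_of_normalizer_le_centralizer {G : Type*} [Group G] [Finite G]
    {p : ℕ} [Fact p.Prime] (P : Sylow p G)
    (hP : normalizer ((P : Subgroup G) : Set G) ≤ centralizer ((P : Subgroup G) : Set G)) :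
    Cfsg.HasNormalPComplement p G :=
  ⟨P, (MonoidHom.transferSylow P hP).ker, inferInstance,
    MonoidHom.ker_transferSylow_isComplement' P hP⟩

end Cfsg.Agent.Lib.Helper1
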