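import Mathlib
import Cfsg.Prelude.Def_Solvable

set_option autoImplicit false
open Pointwise

namespace Cfsg.Agent.Lib.Helper1

/-- The `p`-core is a normal subgroup. -/
theorem pCore_normal (p : ℕ) (G : Type*) [Group G] : (Cfsg.pCore p G).Normal :=
  Subgroup.sSup_normal _ (fun _ h => h.1)

theorem pPrimeCore_normal (p : ℕ) (G : Type*) [Group G] : (Cfsg.pPrimeCore p G).Normal :=
  Subgroup.sSup_normal _ (fun _ h => h.1)

theorem fittingSubgroup_normal (G : Type*) [Group G] : (Cfsg.fittingSubgroup G).Normal :=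
  Subgroup.sSup_normal _ (fun _ h => h.1)

/-- The `p`-core is below each Sylow `p`-subgroup. -/
theorem pCore_le_sylow {p : ℕ} {G : Type*} [Group G] (P : Sylow p G) :
    Cfsg.pCore p G ≤ (P : Subgroup G) := by
  apply sSup_le
  rintro N ⟨hN, hNp⟩
  exact hNp.le_sylow_of_normal P

/-- The `p`-core of a finite group is a `p`-group. -/
theorem pCore_isPGroup (p : ℕ) [Fact p.Prime] (G : Type*) [Group G] [Finite G] :
    IsPGroup p (Cfsg.pCore p G) := by
  obtain ⟨P⟩ : Nonempty (Sylow p G) := inferInstance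
  exact P.isPGroup'.to_le (pCore_le_sylow P)

/-- A normal `p`-subgroup lies in the `p`-core. -/
theorem le_pCore {p : ℕ} {G : Type*} [Group G] {N : Subgroup G} (hN : N.Normal)
    (hp : IsPGroup p N) : N ≤ Cfsg.pCore p G :=
  le_sSup ⟨hN, hp⟩

theorem le_fittingSubgroup {G : Type*} [Group G] {N : Subgroup G} (hN : N.Normal)
    (hn : Group.IsNilpotent N) : N ≤ Cfsg.fittingSubgroup G :=
  le_sSup ⟨hN, hn⟩

/-- A subgroup of a finite group containing a Sylow `p`-subgroup for each prime `p` is everything. -/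
theorem eq_top_of_forall_sylow_le {G : Type*} [Group G] [Finite G] (K : Subgroup G)
    (h : ∀ p : ℕ, ∀ _ : Fact p.Prime, ∃ P : Sylow p G, (P : Subgroup G) ≤ K) : K = ⊤ := by
  rw [← Subgroup.index_eq_one]
  rw [Nat.eq_one_iff_not_exists_prime_dvd]
  intro p hp hdvd
  obtain ⟨P, hP⟩ := h p ⟨hp⟩
  have : Fact p.Prime := ⟨hp⟩
  exact P.not_dvd_index (dvd_trans hdvd (Subgroup.index_dvd_of_le hP))

/-- the `p`-core is trivial if `p` does not divide the order. -/
theorem pCore_eq_bot_of_not_dvd {p : ℕ} [Fact p.Prime] {G : Type*} [Group G] [Finite G]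
    (h : ¬ p ∣ Nat.card G) : Cfsg.pCore p G = ⊥ := by
  have h1 := pCore_isPGroup p G
  obtain ⟨n, hn⟩ := IsPGroup.iff_card.mp h1
  have h2 : Nat.card (Cfsg.pCore p G) ∣ Nat.card G := Subgroup.card_subgroup_dvd_card _
  rw [hn] at h2
  rcases Nat.eq_zero_or_pos n with h0 | hpos
  · rw [h0, pow_zero] at hn
    exact Subgroup.card_eq_one.mp hn
  · exact absurd (dvd_trans (dvd_pow_self p hpos.ne') h2) h

/-- elements of `O_p(G)` and `O_q(G)` commute for distinct primes. -/
theorem pCore_commute {p q : ℕ} [Fact p.Prime] [Fact q.Prime] (hpq : p ≠ q) {G : Type*} [Group G]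
    [Finite G] (x y : G) (hx : x ∈ Cfsg.pCore p G) (hy : y ∈ Cfsg.pCore q G) : Commute x y := by
  apply Subgroup.commute_of_normal_of_disjoint _ _ (pCore_normal p G) (pCore_normal q G) _ x y hx hy
  apply Subgroup.disjoint_of_coprime_natCard
  obtain ⟨n, hn⟩ := IsPGroup.iff_card.mp (pCore_isPGroup p G)
  obtain ⟨m, hm⟩ := IsPGroup.iff_card.mp (pCore_isPGroup q G)
  rw [hn, hm]
  exact Nat.Coprime.pow _ _ ((Nat.coprime_primes Fact.out Fact.out).mpr hpq)

/-- The join of the `p`-cores over all primes is nilpotent. -/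
theorem iSup_pCore_isNilpotent (G : Type*) [Group G] [Finite G] :
    Group.IsNilpotent (⨆ p : Nat.Primes, Cfsg.pCore (p : ℕ) G : Subgroup G) := by
  classical
  let ι := (Nat.card G).primeFactors
  let H : ι → Subgroup G := fun p => Cfsg.pCore (p : ℕ) G
  have hprime : ∀ p : ι, Fact (Nat.Prime (p : ℕ)) := fun p => ⟨Nat.prime_of_mem_primeFactors p.2⟩
  have hcomm : Pairwise fun i j : ι => ∀ x y : G, x ∈ H i → y ∈ H j → Commute x y := by
    intro i j hij x y hx hy
    have := hprime i
    have := hprime j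
    exact pCore_commute (fun h => hij (Subtype.ext h)) x y hx hy
  have hnil : ∀ i : ι, Group.IsNilpotent (H i) := fun i => by
    have := hprime i
    exact (pCore_isPGroup (i : ℕ) G).isNilpotent
  have hrange : (Subgroup.noncommPiCoprod hcomm).range = ⨆ i : ι, H i :=
    Subgroup.noncommPiCoprod_range
  have heq : (⨆ p : Nat.Primes, Cfsg.pCore (p : ℕ) G : Subgroup G) = ⨆ i : ι, H i := by
    apply le_antisymm
    · apply iSup_le
      intro p
      have : Fact (Nat.Prime (p : ℕ)) := ⟨p.2⟩
      by_cases hp : (p : ℕ) ∣ Nat.card G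
      · have hmem : (p : ℕ) ∈ (Nat.card G).primeFactors :=
          Nat.mem_primeFactors.mpr ⟨p.2, hp, Nat.card_pos.ne'⟩
        exact le_iSup H ⟨(p : ℕ), hmem⟩
      · rw [pCore_eq_bot_of_not_dvd hp]
        exact bot_le
    · apply iSup_le
      intro i
      exact le_iSup (fun p : Nat.Primes => Cfsg.pCore (p : ℕ) G) ⟨(i : ℕ), (hprime i).out⟩
  rw [heq, ← hrange]
  have : Group.IsNilpotent (∀ i : ι, H i) := Group.isNilpotent_pi
  exact Group.nilpotent_of_surjective (Subgroup.noncommPiCoprod hcomm).rangeRestrict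
    (Subgroup.noncommPiCoprod hcomm).rangeRestrict_surjective

/-- A normal nilpotent subgroup lies in the join of the `p`-cores. -/
theorem le_iSup_pCore_of_normal_of_isNilpotent {G : Type*} [Group G] [Finite G] (N : Subgroup G)
    (hN : N.Normal) (hn : Group.IsNilpotent N) :
    N ≤ ⨆ p : Nat.Primes, Cfsg.pCore (p : ℕ) G := by
  classical
  set F : Subgroup G := ⨆ p : Nat.Primes, Cfsg.pCore (p : ℕ) G with hF
  have key : F.subgroupOf N = ⊤ := by
    apply eq_top_of_forall_sylow_le
    intro p hp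
    have := hp
    obtain ⟨P⟩ : Nonempty (Sylow p N) := inferInstance
    refine ⟨P, ?_⟩
    have : (P : Subgroup N).Characteristic := Sylow.characteristic_of_normal P inferInstance
    have h1 : ((P : Subgroup N).map N.subtype).Normal := inferInstance
    have h2 : IsPGroup p ((P : Subgroup N).map N.subtype) := P.isPGroup'.map N.subtype
    have h3 : (P : Subgroup N).map N.subtype ≤ Cfsg.pCore p G := le_pCore h1 h2
    have h4 : Cfsg.pCore p G ≤ F := le_iSup (fun p : Nat.Primes => Cfsg.pCore (p : ℕ) G) ⟨p, hp.out⟩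
    intro x hx
    rw [Subgroup.mem_subgroupOf]
    exact h4 (h3 ⟨x, hx, rfl⟩)
  exact Subgroup.subgroupOf_eq_top.mp key

/-- `F(G) = ⨆ p, O_p(G)` for a finite group. -/
theorem fittingSubgroup_eq_iSup_pCore (G : Type*) [Group G] [Finite G] :
    Cfsg.fittingSubgroup G = ⨆ p : Nat.Primes, Cfsg.pCore (p : ℕ) G := by
  apply le_antisymm
  · apply sSup_le
    rintro N ⟨hN, hn⟩
    exact le_iSup_pCore_of_normal_of_isNilpotent N hN hn
  · apply iSup_le
    intro p
    have : Fact (Nat.Prime (p : ℕ)) := ⟨p.2⟩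
    exact le_fittingSubgroup (pCore_normal _ G) (pCore_isPGroup (p : ℕ) G).isNilpotent

/-- Fitting's theorem for finite groups. -/
theorem fittingSubgroup_isNilpotent (G : Type*) [Group G] [Finite G] :
    Group.IsNilpotent (Cfsg.fittingSubgroup G) := by
  rw [fittingSubgroup_eq_iSup_pCore]
  exact iSup_pCore_isNilpotent G

end Cfsg.Agent.Lib.Helper1
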