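import Mathlib

set_option autoImplicit false
open Pointwise

namespace Cfsg.Agent.Lib.Helper1

/-- `N` is a minimal normal subgroup of `G`. -/
def IsMinNormal {G : Type*} [Group G] (N : Subgroup G) : Prop :=
  N.Normal ∧ N ≠ ⊥ ∧ ∀ M : Subgroup G, M.Normal → M ≤ N → M = ⊥ ∨ M = N

/-- Every nontrivial normal subgroup of a finite group contains a minimal normal subgroup. -/
theorem exists_isMinNormal_le {G : Type*} [Group G] [Finite G] (K : Subgroup G) (hK : K.Normal)
    (hK1 : K ≠ ⊥) : ∃ N : Subgroup G, IsMinNormal N ∧ N ≤ K := by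
  classical
  let S : Set (Subgroup G) := {H | H.Normal ∧ H ≠ ⊥ ∧ H ≤ K}
  have hne : S.Nonempty := ⟨K, hK, hK1, le_rfl⟩
  obtain ⟨N, ⟨hNn, hN1, hNK⟩, hmin⟩ := (wellFounded_lt (α := Subgroup G)).has_min S hne
  refine ⟨N, ⟨hNn, hN1, fun M hMn hMN => ?_⟩, hNK⟩
  by_cases hM : M = ⊥
  · exact Or.inl hM
  · right
    by_contra hne
    exact hmin M ⟨hMn, hM, hMN.trans hNK⟩ (lt_of_le_of_ne hMN hne)

theorem exists_isMinNormal {G : Type*} [Group G] [Finite G] [Nontrivial G] :
    ∃ N : Subgroup G, IsMinNormal N := by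
  obtain ⟨N, hN, -⟩ := exists_isMinNormal_le (⊤ : Subgroup G) inferInstance top_ne_bot
  exact ⟨N, hN⟩

/-- A minimal normal subgroup of a finite solvable group is abelian. -/
theorem IsMinNormal.isMulCommutative {G : Type*} [Group G] [Group.IsSolvable G]
    {N : Subgroup G} (hN : IsMinNormal N) : IsMulCommutative N := by
  obtain ⟨hNn, hN1, hmin⟩ := hN
  have h1 : ⁅N, N⁆ < N := Group.IsSolvable.commutator_lt_of_ne_bot hN1
  have h2 : (⁅N, N⁆ : Subgroup G).Normal := inferInstance
  rcases hmin _ h2 h1.le with h | h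
  · exact Subgroup.commutator_self_eq_bot_iff.mp h
  · exact absurd h h1.ne

/-- A minimal normal subgroup of a finite solvable group has prime exponent. -/
theorem IsMinNormal.exists_prime_pow_eq_one {G : Type*} [Group G] [Finite G] [Group.IsSolvable G]
    {N : Subgroup G} (hN : IsMinNormal N) : ∃ p : ℕ, p.Prime ∧ ∀ x ∈ N, x ^ p = 1 := by
  classical
  have hcomm : IsMulCommutative N := hN.isMulCommutative
  obtain ⟨hNn, hN1, hmin⟩ := hN
  have hcard : Nat.card N ≠ 1 := fun h => hN1 (Subgroup.card_eq_one.mp h)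
  obtain ⟨p, hp, hpdvd⟩ := Nat.exists_prime_and_dvd hcard
  refine ⟨p, hp, ?_⟩
  have : Fact p.Prime := ⟨hp⟩
  -- the subgroup of elements of order dividing p
  let Ω : Subgroup G :=
    { carrier := {x | x ∈ N ∧ x ^ p = 1}
      one_mem' := ⟨N.one_mem, one_pow p⟩
      mul_mem' := by
        rintro a b ⟨ha, hap⟩ ⟨hb, hbp⟩
        refine ⟨N.mul_mem ha hb, ?_⟩
        have hab : Commute a b := by
          have := mul_comm' (⟨a, ha⟩ : N) ⟨b, hb⟩
          exact congrArg Subtype.val this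
        rw [hab.mul_pow, hap, hbp, one_mul]
      inv_mem' := by
        rintro a ⟨ha, hap⟩
        exact ⟨N.inv_mem ha, by rw [inv_pow, hap, inv_one]⟩ }
  have hΩN : Ω ≤ N := fun x hx => hx.1
  have hΩn : Ω.Normal := by
    constructor
    rintro x ⟨hx, hxp⟩ g
    refine ⟨hNn.conj_mem x hx g, ?_⟩
    rw [conj_pow, hxp, mul_one, mul_inv_cancel]
  have hΩ1 : Ω ≠ ⊥ := by
    obtain ⟨x, hx⟩ := exists_prime_orderOf_dvd_card' (G := N) p hpdvd
    intro h
    have hxΩ : (x : G) ∈ Ω := by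
      refine ⟨x.2, ?_⟩
      have : x ^ p = 1 := by rw [← hx]; exact pow_orderOf_eq_one x
      exact_mod_cast congrArg Subtype.val this
    rw [h, Subgroup.mem_bot] at hxΩ
    have hx1 : x = 1 := Subtype.ext hxΩ
    rw [hx1, orderOf_one] at hx
    exact hp.one_lt.ne hx
  rcases hmin Ω hΩn hΩN with h | h
  · exact absurd h hΩ1
  · intro x hx
    rw [← h] at hx
    exact hx.2

/-- A minimal normal subgroup of a finite solvable group is a `p`-group for some prime `p`. -/
theorem IsMinNormal.exists_prime_isPGroup {G : Type*} [Group G] [Finite G] [Group.IsSolvable G]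
    {N : Subgroup G} (hN : IsMinNormal N) : ∃ p : ℕ, p.Prime ∧ IsPGroup p N := by
  obtain ⟨p, hp, h⟩ := hN.exists_prime_pow_eq_one
  refine ⟨p, hp, fun x => ⟨1, ?_⟩⟩
  rw [pow_one]
  exact Subtype.ext (by simpa using h x x.2)

end Cfsg.Agent.Lib.Helper1
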