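import Mathlib

set_option autoImplicit false

namespace Cfsg.Agent.Lib.Helper1

open Finset

/-- in a finite abelian group, if the `q`-torsion has at most `q` elements for all primes `q`,
then the `n`-torsion has at most `n` elements for all `n` -/
theorem card_pow_eq_one_le_of_prime {α : Type*} [CommGroup α] [Fintype α] [DecidableEq α]
    (hq : ∀ q : ℕ, q.Prime → #{a : α | a ^ q = 1} ≤ q) :
    ∀ n : ℕ, 0 < n → #{a : α | a ^ n = 1} ≤ n := by
  intro n
  induction n using Nat.strong_induction_on with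
  | _ n ih =>
  intro hn
  by_cases h1 : n = 1
  · subst h1
    have : ({a : α | a ^ 1 = 1} : Finset α) = {1} := by
      ext a; simp
    rw [this]; simp
  have hqp : n.minFac.Prime := Nat.minFac_prime h1
  set q := n.minFac with hqdef
  obtain ⟨m, hm⟩ : q ∣ n := Nat.minFac_dvd n
  have hmpos : 0 < m := by
    rcases Nat.eq_zero_or_pos m with h | h
    · rw [h, mul_zero] at hm; omega
    · exact h
  have hmlt : m < n := by
    rw [hm]
    have := hqp.one_lt
    nlinarith
  have hmaps : ∀ a ∈ ({a : α | a ^ n = 1} : Finset α), a ^ q ∈ ({a : α | a ^ m = 1} : Finset α) := by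
    intro a ha
    simp only [mem_filter, mem_univ, true_and] at ha ⊢
    rw [← pow_mul, ← hm, ha]
  have hfib : ∀ b ∈ ({a : α | a ^ m = 1} : Finset α),
      #{a ∈ ({a : α | a ^ n = 1} : Finset α) | a ^ q = b} ≤ q := by
    intro b _
    rcases Finset.eq_empty_or_nonempty
      ({a ∈ ({a : α | a ^ n = 1} : Finset α) | a ^ q = b}) with he | ⟨a₀, ha₀⟩
    · rw [he]; simp
    · refine le_trans ?_ (hq q hqp)
      apply Finset.card_le_card_of_injOn (fun a => a * a₀⁻¹)
      · intro a ha
        simp only [coe_filter, mem_filter, mem_univ, true_and, Set.mem_setOf_eq] at ha ha₀ ⊢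
        rw [mul_pow, inv_pow, ha.2, ha₀.2, mul_inv_cancel]
      · intro a _ a' _ h
        exact mul_right_cancel h
  calc #{a : α | a ^ n = 1} ≤ q * #{a : α | a ^ m = 1} :=
        Finset.card_le_mul_card_image_of_maps_to hmaps q hfib
    _ ≤ q * m := Nat.mul_le_mul_left _ (ih m hmlt hmpos)
    _ = n := hm.symm

/-- a finite noncyclic abelian group contains, for some prime `q`, elements `a, b` of order dividing
`q` with `b ≠ 1` and `a ∉ ⟨b⟩` -/
theorem exists_noncyclic_pair {α : Type*} [CommGroup α] [Finite α] (h : ¬ IsCyclic α) :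
    ∃ q : ℕ, q.Prime ∧ ∃ a b : α, a ^ q = 1 ∧ b ^ q = 1 ∧ b ≠ 1 ∧ ∀ j : ℕ, a * b ^ j ≠ 1 := by
  classical
  have := Fintype.ofFinite α
  have hex : ∃ q : ℕ, q.Prime ∧ q < #{a : α | a ^ q = 1} := by
    by_contra hcon
    apply h
    apply isCyclic_of_card_pow_eq_one_le
    apply card_pow_eq_one_le_of_prime
    intro q hq
    by_contra hlt
    exact hcon ⟨q, hq, not_le.mp hlt⟩
  obtain ⟨q, hq, hlt⟩ := hex
  refine ⟨q, hq, ?_⟩
  have h1 : 1 < #{a : α | a ^ q = 1} := lt_trans hq.one_lt hlt
  obtain ⟨b, hb, hb1⟩ := Finset.exists_mem_ne h1 1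
  have hbq : b ^ q = 1 := by simpa using hb
  have : Fact q.Prime := ⟨hq⟩
  have hord : orderOf b = q := orderOf_eq_prime hbq hb1
  -- some element of the `q`-torsion is outside `⟨b⟩`
  have hex2 : ∃ a ∈ ({a : α | a ^ q = 1} : Finset α), a ∉ Subgroup.zpowers b := by
    by_contra hcon
    have hcon' : ∀ a ∈ ({a : α | a ^ q = 1} : Finset α), a ∈ Subgroup.zpowers b := by
      intro a ha
      by_contra hna
      exact hcon ⟨a, ha, hna⟩
    have hsub : ({a : α | a ^ q = 1} : Finset α) ⊆ (Subgroup.zpowers b : Set α).toFinset := by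
      intro a ha
      rw [Set.mem_toFinset]
      exact hcon' a ha
    have hcard := Finset.card_le_card hsub
    rw [Set.toFinset_card] at hcard
    have h2 : Fintype.card (Subgroup.zpowers b : Set α) = q := by
      rw [← Nat.card_eq_fintype_card]
      exact (Nat.card_zpowers b).trans hord
    omega
  obtain ⟨a, ha, hna⟩ := hex2
  refine ⟨a, b, by simpa using ha, hbq, hb1, ?_⟩
  intro j hj
  apply hna
  have : a = (b ^ j)⁻¹ := eq_inv_of_mul_eq_one_left hj
  rw [this]
  exact Subgroup.inv_mem _ (Subgroup.pow_mem _ (Subgroup.mem_zpowers b) j)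

end Cfsg.Agent.Lib.Helper1
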