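import Mathlib

set_option autoImplicit false
open Pointwise

namespace Cfsg.Agent.Lib.Helper1

/-- Sylow conjugacy inside a subgroup: if `P` and `g • P` both lie in `K`, then some `c ∈ K`
has `c * g ∈ N_G(P)`. -/
theorem exists_mem_mul_mem_normalizer {G : Type*} [Group G] [Finite G] {p : ℕ} [Fact p.Prime]
    (P : Sylow p G) (K : Subgroup G) (g : G) (h1 : (P : Subgroup G) ≤ K)
    (h2 : ((g • P : Sylow p G) : Subgroup G) ≤ K) :
    ∃ c ∈ K, c * g ∈ Subgroup.normalizer ((P : Subgroup G) : Set G) := by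
  obtain ⟨h, hh⟩ := MulAction.exists_smul_eq K ((g • P).subtype h2) (P.subtype h1)
  simp_rw [Sylow.smul_subtype, Subgroup.smul_def, smul_smul] at hh
  exact ⟨h, h.2, Sylow.smul_eq_iff_mem_normalizer.mp (Sylow.subtype_injective hh)⟩

/-- membership in a conjugate subgroup -/
theorem mem_conj_smul_iff {G : Type*} [Group G] (H : Subgroup G) (g x : G) :
    x ∈ MulAut.conj g • H ↔ g⁻¹ * x * g ∈ H := by
  rw [Subgroup.mem_pointwise_smul_iff_inv_smul_mem]
  simp [MulAut.smul_def, MulAut.conj_apply]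

theorem mem_map_conj_iff {G : Type*} [Group G] (H : Subgroup G) (g x : G) :
    x ∈ H.map (MulAut.conj g).toMonoidHom ↔ g⁻¹ * x * g ∈ H := by
  rw [← mem_conj_smul_iff]
  rfl

theorem mem_sylow_smul_iff {G : Type*} [Group G] {p : ℕ} (P : Sylow p G) (g x : G) :
    x ∈ ((g • P : Sylow p G) : Subgroup G) ↔ g⁻¹ * x * g ∈ (P : Subgroup G) := by
  rw [Sylow.coe_subgroup_smul]
  exact mem_conj_smul_iff _ _ _

end Cfsg.Agent.Lib.Helper1
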