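import Mathlib

set_option autoImplicit false
open Pointwise

namespace Cfsg.Agent.Lib.Helper1

open MulOpposite MulAction Subgroup Subgroup.leftTransversals

/-- The class in `A.QuotientDiff` of the transversal given by a complement. -/
noncomputable def complementClass {G : Type*} [Group G] (A : Subgroup G) [IsMulCommutative A]
    [A.FiniteIndex] (K : Subgroup G) (hK : IsComplement' A K) : A.QuotientDiff :=
  Quotient.mk'' (⟨(K : Set G), hK.symm⟩ : A.LeftTransversal)

theorem le_stabilizer_complementClass {G : Type*} [Group G] (A : Subgroup G) [IsMulCommutative A]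
    [A.FiniteIndex] [A.Normal] (K : Subgroup G) (hK : IsComplement' A K) :
    K ≤ stabilizer G (complementClass A K hK) := by
  intro k hk
  rw [mem_stabilizer_iff]
  show Quotient.mk'' (op k⁻¹ • (⟨(K : Set G), hK.symm⟩ : A.LeftTransversal)) = _
  unfold complementClass
  congr 1
  apply Subtype.ext
  show op k⁻¹ • (K : Set G) = K
  exact op_smul_coe_set (K.inv_mem hk)

theorem stabilizer_complementClass {G : Type*} [Group G] [Finite G] (A : Subgroup G)
    [IsMulCommutative A] [A.Normal] (hA : Nat.Coprime (Nat.card A) A.index)
    (K : Subgroup G) (hK : IsComplement' A K) :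
    stabilizer G (complementClass A K hK) = K := by
  symm
  apply Subgroup.eq_of_le_of_card_ge (le_stabilizer_complementClass A K hK)
  have h1 : IsComplement' A (stabilizer G (complementClass A K hK)) :=
    isComplement'_stabilizer_of_coprime hA
  have h2 := h1.card_mul_card
  have h3 := hK.card_mul_card
  have hpos : 0 < Nat.card A := Nat.card_pos
  have : Nat.card (stabilizer G (complementClass A K hK)) = Nat.card K :=
    Nat.eq_of_mul_eq_mul_left hpos (h2.trans h3.symm)
  exact this.le

/-- **Schur–Zassenhaus, conjugacy, abelian case**: complements of an abelian normal Hall subgroup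
are conjugate under the subgroup. -/
theorem exists_conj_eq_of_isComplement'_of_abelian {G : Type*} [Group G] [Finite G]
    (A : Subgroup G) [A.Normal] [IsMulCommutative A] (hA : Nat.Coprime (Nat.card A) A.index)
    (H K : Subgroup G) (hH : IsComplement' A H) (hK : IsComplement' A K) :
    ∃ a ∈ A, MulAut.conj a • H = K := by
  obtain ⟨a, ha⟩ := exists_smul_eq hA (complementClass A H hH) (complementClass A K hK)
  refine ⟨a, a.2, ?_⟩
  have h1 := stabilizer_smul_eq_stabilizer_map_conj (a : G) (complementClass A H hH)
  have ha' : (a : G) • complementClass A H hH = complementClass A K hK := ha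
  rw [ha', stabilizer_complementClass A hA K hK, stabilizer_complementClass A hA H hH] at h1
  rw [h1]
  rfl

end Cfsg.Agent.Lib.Helper1
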