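import Mathlib
import Cfsg.Agent.Lib.Helper1.Basic

set_option autoImplicit false
open Pointwise

namespace Cfsg.Agent.Lib.Helper1

open Subgroup

/-- Decomposition given by a complement. -/
theorem IsComplement'.exists_mul_eq {G : Type*} [Group G] {N H : Subgroup G}
    (h : IsComplement' N H) (g : G) : ∃ n ∈ N, ∃ k ∈ H, n * k = g := by
  obtain ⟨⟨n, k⟩, hnk⟩ := h.2 g
  exact ⟨n.1, n.2, k.1, k.2, hnk⟩

/-- A complement restricts to any intermediate subgroup containing it (Dedekind). -/
theorem isComplement'_subgroupOf {G : Type*} [Group G] {N H L : Subgroup G}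
    (h : IsComplement' N H) (hHL : H ≤ L) :
    IsComplement' (N.subgroupOf L) (H.subgroupOf L) := by
  apply isComplement'_of_disjoint_and_mul_eq_univ
  · rw [Subgroup.disjoint_def]
    intro x hx1 hx2
    rw [mem_subgroupOf] at hx1 hx2
    exact Subtype.ext (Subgroup.disjoint_def.mp h.disjoint hx1 hx2)
  · rw [Set.eq_univ_iff_forall]
    intro l
    obtain ⟨n, hn, k, hk, hnk⟩ := IsComplement'.exists_mul_eq h (l : G)
    have hnL : n ∈ L := by
      have : n = l * k⁻¹ := by rw [← hnk]; group
      rw [this]; exact L.mul_mem l.2 (L.inv_mem (hHL hk))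
    refine ⟨⟨n, hnL⟩, ?_, ⟨k, hHL hk⟩, ?_, Subtype.ext hnk⟩
    · exact mem_subgroupOf.mpr hn
    · exact mem_subgroupOf.mpr hk

/-- If `N ⊓ K = ⊥`, `N` normalized by `L` and `N ⊔ K = L`, then they are complements in `L`. -/
theorem isComplement'_subgroupOf_of_sup_eq {G : Type*} [Group G] {N K L : Subgroup G}
    (hNL : N ≤ L) (hKL : K ≤ L) (hdisj : Disjoint N K)
    (hsup : ∀ l ∈ L, ∃ n ∈ N, ∃ k ∈ K, n * k = l) :
    IsComplement' (N.subgroupOf L) (K.subgroupOf L) := by
  apply isComplement'_of_disjoint_and_mul_eq_univ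
  · rw [Subgroup.disjoint_def]
    intro x hx1 hx2
    rw [mem_subgroupOf] at hx1 hx2
    exact Subtype.ext (Subgroup.disjoint_def.mp hdisj hx1 hx2)
  · rw [Set.eq_univ_iff_forall]
    intro l
    obtain ⟨n, hn, k, hk, hnk⟩ := hsup l l.2
    exact ⟨⟨n, hNL hn⟩, mem_subgroupOf.mpr hn, ⟨k, hKL hk⟩, mem_subgroupOf.mpr hk, Subtype.ext hnk⟩

/-- Images of complements of coprime orders under a surjective homomorphism are complements. -/
theorem isComplement'_map {G G' : Type*} [Group G] [Group G'] [Finite G] {N H : Subgroup G}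
    (h : IsComplement' N H) (hcop : Nat.Coprime (Nat.card N) (Nat.card H)) (f : G →* G')
    (hf : Function.Surjective f) : IsComplement' (N.map f) (H.map f) := by
  apply isComplement'_of_disjoint_and_mul_eq_univ
  · apply disjoint_of_coprime_natCard
    exact Nat.Coprime.of_dvd (Subgroup.card_map_dvd N f) (Subgroup.card_map_dvd H f) hcop
  · rw [Set.eq_univ_iff_forall]
    intro g'
    obtain ⟨g, rfl⟩ := hf g'
    obtain ⟨n, hn, k, hk, hnk⟩ := IsComplement'.exists_mul_eq h g
    exact ⟨f n, ⟨n, hn, rfl⟩, f k, ⟨k, hk, rfl⟩, by show f n * f k = f g; rw [← map_mul, hnk]⟩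

/-- For a complement `H` of `N`, `|N|` coprime to `N.index` iff `|N|` coprime to `|H|`. -/
theorem IsComplement'.coprime_card {G : Type*} [Group G] {N H : Subgroup G}
    (h : IsComplement' N H) (hcop : Nat.Coprime (Nat.card N) N.index) :
    Nat.Coprime (Nat.card N) (Nat.card H) := by
  rw [← h.symm.index_eq_card]; exact hcop

theorem IsComplement'.coprime_index {G : Type*} [Group G] {N H : Subgroup G}
    (h : IsComplement' N H) (hcop : Nat.Coprime (Nat.card N) (Nat.card H)) :
    Nat.Coprime (Nat.card N) N.index := by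
  rw [h.symm.index_eq_card]; exact hcop

/-- conjugation commutes with `subgroupOf`/`map subtype` -/
theorem map_subtype_conj_smul {G : Type*} [Group G] (L : Subgroup G) (l : L) (X : Subgroup L) :
    (MulAut.conj l • X).map L.subtype = MulAut.conj (l : G) • X.map L.subtype := by
  ext x
  rw [mem_conj_smul_iff, Subgroup.mem_map, Subgroup.mem_map]
  constructor
  · rintro ⟨y, hy, rfl⟩
    rw [mem_conj_smul_iff] at hy
    exact ⟨l⁻¹ * y * l, hy, rfl⟩
  · rintro ⟨y, hy, hyx⟩
    refine ⟨l * y * l⁻¹, ?_, ?_⟩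
    · rw [mem_conj_smul_iff]
      simpa [mul_assoc] using hy
    · have : (y : G) = (l : G)⁻¹ * x * l := hyx
      simp [this, mul_assoc]

/-- conjugacy in a subgroup gives conjugacy in the group -/
theorem conj_eq_of_subgroupOf_conj_eq {G : Type*} [Group G] {L H K : Subgroup G} (hHL : H ≤ L)
    (hKL : K ≤ L) (l : L) (h : MulAut.conj l • H.subgroupOf L = K.subgroupOf L) :
    MulAut.conj (l : G) • H = K := by
  have := congrArg (Subgroup.map L.subtype) h
  rwa [map_subtype_conj_smul, map_subgroupOf_eq_of_le hHL, map_subgroupOf_eq_of_le hKL] at this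

/-- conjugation commutes with maps -/
theorem map_conj_smul {G G' : Type*} [Group G] [Group G'] (f : G →* G') (g : G) (X : Subgroup G) :
    (MulAut.conj g • X).map f = MulAut.conj (f g) • X.map f := by
  ext x
  rw [mem_conj_smul_iff, Subgroup.mem_map, Subgroup.mem_map]
  constructor
  · rintro ⟨y, hy, rfl⟩
    rw [mem_conj_smul_iff] at hy
    exact ⟨g⁻¹ * y * g, hy, by simp⟩
  · rintro ⟨y, hy, hyx⟩
    refine ⟨g * y * g⁻¹, ?_, ?_⟩
    · rw [mem_conj_smul_iff]
      simpa [mul_assoc] using hy
    · simp [hyx, mul_assoc]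

/-- a conjugate of a complement of a normal subgroup is a complement -/
theorem isComplement'_conj_smul {G : Type*} [Group G] {N H : Subgroup G} [N.Normal]
    (h : IsComplement' N H) (g : G) : IsComplement' N (MulAut.conj g • H) := by
  apply isComplement'_of_disjoint_and_mul_eq_univ
  · rw [Subgroup.disjoint_def]
    intro x hx1 hx2
    rw [mem_conj_smul_iff] at hx2
    have hx1' : g⁻¹ * x * g ∈ N := by
      have := (inferInstance : N.Normal).conj_mem x hx1 g⁻¹
      simpa using this
    have := Subgroup.disjoint_def.mp h.disjoint hx1' hx2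
    have h2 : x = g * (g⁻¹ * x * g) * g⁻¹ := by group
    rw [h2, this]; group
  · rw [Set.eq_univ_iff_forall]
    intro x
    obtain ⟨n, hn, k, hk, hnk⟩ := IsComplement'.exists_mul_eq h (g⁻¹ * x * g)
    refine ⟨g * n * g⁻¹, (inferInstance : N.Normal).conj_mem n hn g, g * k * g⁻¹, ?_, ?_⟩
    · rw [SetLike.mem_coe, mem_conj_smul_iff]
      simpa [mul_assoc] using hk
    · show g * n * g⁻¹ * (g * k * g⁻¹) = x
      have : g * n * g⁻¹ * (g * k * g⁻¹) = g * (n * k) * g⁻¹ := by group
      rw [this, hnk]; group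

theorem card_conj_smul {G : Type*} [Group G] (H : Subgroup G) (g : G) :
    Nat.card (MulAut.conj g • H : Subgroup G) = Nat.card H := by
  exact Nat.card_congr (Subgroup.equivSMul (MulAut.conj g) H).symm.toEquiv

end Cfsg.Agent.Lib.Helper1
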