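import Mathlib
import Cfsg.Agent.Lib.Helper1.Basic
import Cfsg.Agent.Lib.Helper1.Transport
import Cfsg.Agent.Lib.Helper1.SchurZassenhaus
import Cfsg.Agent.Lib.Helper1.MinNormal

set_option autoImplicit false
open Pointwise

namespace Cfsg.Agent.Lib.Helper1

open Subgroup

universe u

/-- card of a proper subgroup is smaller -/
theorem card_lt_of_ne_top {G : Type*} [Group G] [Finite G] {L : Subgroup G} (h : L ≠ ⊤) :
    Nat.card L < Nat.card G :=
  lt_of_le_of_ne (Subgroup.card_le_card_group L) (fun h' => h ((Subgroup.card_eq_iff_eq_top L).mp h'))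

/-- card of a quotient by a nontrivial normal subgroup is smaller -/
theorem card_quotient_lt_of_ne_bot {G : Type*} [Group G] [Finite G] {M : Subgroup G}
    (h : M ≠ ⊥) : Nat.card (G ⧸ M) < Nat.card G := by
  rw [Subgroup.card_eq_card_quotient_mul_card_subgroup M]
  have h1 : 1 < Nat.card M := (Subgroup.one_lt_card_iff_ne_bot M).mpr h
  have h2 : 0 < Nat.card (G ⧸ M) := Nat.card_pos
  nlinarith

/-- decomposition of elements of `comap π (map π K)` -/
theorem exists_mul_of_mem_comap_map {G : Type*} [Group G] (M K : Subgroup G) [M.Normal] (l : G)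
    (hl : l ∈ (K.map (QuotientGroup.mk' M)).comap (QuotientGroup.mk' M)) :
    ∃ m ∈ M, ∃ k ∈ K, m * k = l := by
  rw [Subgroup.mem_comap, Subgroup.mem_map] at hl
  obtain ⟨k, hk, hkl⟩ := hl
  refine ⟨l * k⁻¹, ?_, k, hk, by group⟩
  rw [← QuotientGroup.eq_one_iff]
  have : (QuotientGroup.mk' M) (l * k⁻¹) = 1 := by
    rw [map_mul, map_inv, hkl, mul_inv_cancel]
  exact this

/-- **Schur–Zassenhaus conjugacy** when the normal Hall subgroup is solvable. -/
theorem sz_conj_of_solvable_normal : ∀ (n : ℕ) (G : Type u) [Group G] [Finite G],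
    Nat.card G = n → ∀ (N : Subgroup G) [N.Normal], Nat.Coprime (Nat.card N) N.index →
    Group.IsSolvable N → ∀ H K : Subgroup G, IsComplement' N H → IsComplement' N K →
    ∃ g : G, MulAut.conj g • H = K := by
  intro n
  induction n using Nat.strong_induction_on with
  | _ n ih =>
    intro G _ _ hcard N _ hcop hsolv H K hH hK
    set M : Subgroup G := ⁅N, N⁆ with hM
    have hMn : M.Normal := inferInstance
    have hMN : M ≤ N := Subgroup.commutator_le_left N N
    by_cases hM1 : M = ⊥
    · -- abelian case
      have hab : IsMulCommutative N := Subgroup.commutator_self_eq_bot_iff.mp hM1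
      obtain ⟨a, -, ha⟩ := exists_conj_eq_of_isComplement'_of_abelian N hcop H K hH hK
      exact ⟨a, ha⟩
    · -- pass to the quotient by `M`
      have hN1 : N ≠ ⊥ := by
        rintro h
        apply hM1
        rw [hM, h]
        exact Subgroup.commutator_bot_left ⊥
      have hMltN : M < N := by
        have : Nontrivial N := (Subgroup.nontrivial_iff_ne_bot N).mpr hN1
        have h1 := Group.IsSolvable.commutator_lt_top_of_nontrivial N
        have h2 : (commutator N).map N.subtype = M := Subgroup.map_subtype_commutator N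
        refine lt_of_le_of_ne hMN fun h => ?_
        rw [← h2] at h
        have h3 : (commutator N).map N.subtype = (⊤ : Subgroup N).map N.subtype := by
          rw [h, ← MonoidHom.range_eq_map, Subgroup.range_subtype]
        have h4 := Subgroup.map_injective N.subtype_injective h3
        exact h1.ne h4
      set π := QuotientGroup.mk' M with hπ
      have hsur : Function.Surjective π := QuotientGroup.mk'_surjective M
      have hcopNH : Nat.Coprime (Nat.card N) (Nat.card H) := IsComplement'.coprime_card hH hcop
      have hcopNK : Nat.Coprime (Nat.card N) (Nat.card K) := IsComplement'.coprime_card hK hcop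
      have hN'n : (N.map π).Normal := Normal.map inferInstance π hsur
      have hH' : IsComplement' (N.map π) (H.map π) := isComplement'_map hH hcopNH π hsur
      have hK' : IsComplement' (N.map π) (K.map π) := isComplement'_map hK hcopNK π hsur
      have hcop' : Nat.Coprime (Nat.card (N.map π)) (N.map π).index := by
        apply IsComplement'.coprime_index hH'
        exact Nat.Coprime.of_dvd (Subgroup.card_map_dvd N π) (Subgroup.card_map_dvd H π) hcopNH
      have hsolv' : Group.IsSolvable (N.map π) :=
        Group.isSolvable_of_surjective (f := π.subgroupMap N) (π.subgroupMap_surjective N)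
      have hlt : Nat.card (G ⧸ M) < n := hcard ▸ card_quotient_lt_of_ne_bot hM1
      obtain ⟨gbar, hgbar⟩ := ih _ hlt (G ⧸ M) rfl (N.map π) hcop' hsolv' _ _ hH' hK'
      obtain ⟨g, rfl⟩ := hsur gbar
      set H₁ : Subgroup G := MulAut.conj g • H with hH₁
      have hH₁c : IsComplement' N H₁ := isComplement'_conj_smul hH g
      have hmapH₁ : H₁.map π = K.map π := by rw [hH₁, map_conj_smul, hgbar]
      set L : Subgroup G := (K.map π).comap π with hL
      have hKL : K ≤ L := Subgroup.le_comap_map π K
      have hH₁L : H₁ ≤ L := by rw [hL, ← hmapH₁]; exact Subgroup.le_comap_map π H₁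
      have hML : M ≤ L := by
        intro m hm
        rw [hL, Subgroup.mem_comap]
        have : π m = 1 := (QuotientGroup.eq_one_iff m).mpr hm
        rw [this]; exact Subgroup.one_mem _
      have hdK : Disjoint M K := hK.disjoint.mono_left hMN
      have hdH₁ : Disjoint M H₁ := hH₁c.disjoint.mono_left hMN
      have hsupK : ∀ l ∈ L, ∃ m ∈ M, ∃ k ∈ K, m * k = l :=
        fun l hl => exists_mul_of_mem_comap_map M K l hl
      have hsupH₁ : ∀ l ∈ L, ∃ m ∈ M, ∃ k ∈ H₁, m * k = l := by
        intro l hl
        apply exists_mul_of_mem_comap_map M H₁ l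
        rw [hmapH₁]; exact hl
      have hKc : IsComplement' (M.subgroupOf L) (K.subgroupOf L) :=
        isComplement'_subgroupOf_of_sup_eq hML hKL hdK hsupK
      have hH₁c' : IsComplement' (M.subgroupOf L) (H₁.subgroupOf L) :=
        isComplement'_subgroupOf_of_sup_eq hML hH₁L hdH₁ hsupH₁
      have hLtop : L ≠ ⊤ := by
        intro hLtop
        apply hMltN.ne
        apply le_antisymm hMN
        intro x hx
        obtain ⟨m, hm, k, hk, hmk⟩ := hsupK x (hLtop ▸ Subgroup.mem_top x)
        have hkN : k ∈ N := by
          have : k = m⁻¹ * x := by rw [← hmk]; group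
          rw [this]; exact N.mul_mem (N.inv_mem (hMN hm)) hx
        have hk1 : k = 1 := Subgroup.disjoint_def.mp hK.disjoint hkN hk
        rw [← hmk, hk1, mul_one]; exact hm
      have hltL : Nat.card L < n := hcard ▸ card_lt_of_ne_top hLtop
      have hcopL : Nat.Coprime (Nat.card (M.subgroupOf L)) (M.subgroupOf L).index := by
        apply IsComplement'.coprime_index hKc
        have h1 : Nat.card (M.subgroupOf L) = Nat.card M :=
          Nat.card_congr (Subgroup.subgroupOfEquivOfLe hML).toEquiv
        have h2 : Nat.card (K.subgroupOf L) = Nat.card K :=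
          Nat.card_congr (Subgroup.subgroupOfEquivOfLe hKL).toEquiv
        rw [h1, h2]
        exact Nat.Coprime.of_dvd_left (Subgroup.card_dvd_of_le hMN) hcopNK
      have hsolvL : Group.IsSolvable (M.subgroupOf L) := by
        let f : M.subgroupOf L →* N :=
          ((L.subtype.comp (M.subgroupOf L).subtype).codRestrict N
            (fun x => hMN (Subgroup.mem_subgroupOf.mp x.2)))
        have hf : Function.Injective f := by
          intro x y hxy
          have : ((x : L) : G) = ((y : L) : G) := congrArg (fun z : N => (z : G)) hxy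
          exact Subtype.ext (Subtype.ext this)
        exact Group.isSolvable_of_isSolvable_injective hf
      obtain ⟨l, hl⟩ := ih _ hltL L rfl (M.subgroupOf L) hcopL hsolvL _ _ hH₁c' hKc
      have := conj_eq_of_subgroupOf_conj_eq hH₁L hKL l hl
      refine ⟨(l : G) * g, ?_⟩
      rw [map_mul, mul_smul]
      exact this


/-- Dedekind: a complement of `N` meets any `L ≥ N` in a complement of `N` in `L`. -/
theorem isComplement'_subgroupOf_inf {G : Type*} [Group G] {N H L : Subgroup G}
    (h : IsComplement' N H) (hNL : N ≤ L) :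
    IsComplement' (N.subgroupOf L) ((H ⊓ L).subgroupOf L) := by
  apply isComplement'_of_disjoint_and_mul_eq_univ
  · rw [Subgroup.disjoint_def]
    intro x hx1 hx2
    rw [mem_subgroupOf] at hx1 hx2
    exact Subtype.ext (Subgroup.disjoint_def.mp h.disjoint hx1 hx2.1)
  · rw [Set.eq_univ_iff_forall]
    intro l
    obtain ⟨n, hn, k, hk, hnk⟩ := IsComplement'.exists_mul_eq h (l : G)
    have hkL : k ∈ L := by
      have : k = n⁻¹ * l := by rw [← hnk]; group
      rw [this]; exact L.mul_mem (L.inv_mem (hNL hn)) l.2
    exact ⟨⟨n, hNL hn⟩, mem_subgroupOf.mpr hn, ⟨k, hkL⟩, mem_subgroupOf.mpr ⟨hk, hkL⟩,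
      Subtype.ext hnk⟩

theorem card_mul_card_inf_of_isComplement' {G : Type*} [Group G] {N H L : Subgroup G}
    (h : IsComplement' N H) (hNL : N ≤ L) :
    Nat.card N * Nat.card (H ⊓ L : Subgroup G) = Nat.card L := by
  have h1 := (isComplement'_subgroupOf_inf h hNL).card_mul_card
  have h2 : Nat.card (N.subgroupOf L) = Nat.card N :=
    Nat.card_congr (Subgroup.subgroupOfEquivOfLe hNL).toEquiv
  have h3 : Nat.card ((H ⊓ L).subgroupOf L) = Nat.card (H ⊓ L : Subgroup G) :=
    Nat.card_congr (Subgroup.subgroupOfEquivOfLe inf_le_right).toEquiv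
  rw [h2, h3] at h1
  exact h1

theorem conj_inv_mem_iff_of_normal {G : Type*} [Group G] {M : Subgroup G} (hM : M.Normal)
    (a x : G) : a⁻¹ * x * a ∈ M ↔ x ∈ M := by
  constructor
  · intro h
    have := hM.conj_mem _ h a
    simpa [mul_assoc] using this
  · intro h
    have := hM.conj_mem _ h a⁻¹
    simpa [mul_assoc] using this

/-- **Schur–Zassenhaus conjugacy** when the quotient by the normal Hall subgroup is solvable. -/
theorem sz_conj_of_solvable_quotient : ∀ (n : ℕ) (G : Type u) [Group G] [Finite G],
    Nat.card G = n → ∀ (N : Subgroup G) [N.Normal], Nat.Coprime (Nat.card N) N.index →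
    Group.IsSolvable (G ⧸ N) → ∀ H K : Subgroup G, IsComplement' N H → IsComplement' N K →
    ∃ g : G, MulAut.conj g • H = K := by
  intro n
  induction n using Nat.strong_induction_on with
  | _ n ih =>
    intro G _ _ hcard N _ hcop hsolv H K hH hK
    classical
    by_cases hNtop : N = ⊤
    · subst hNtop
      rw [isComplement'_top_left] at hH hK
      exact ⟨1, by rw [hH, hK, map_one, one_smul]⟩
    -- a minimal normal subgroup of the quotient
    set π := QuotientGroup.mk' N with hπ
    have hsur : Function.Surjective π := QuotientGroup.mk'_surjective N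
    have hnt : Nontrivial (G ⧸ N) := by
      rw [← Finite.one_lt_card_iff_nontrivial, ← Subgroup.index_eq_card]
      have h1 : N.index ≠ 1 := fun h => hNtop (Subgroup.index_eq_one.mp h)
      have h0 : N.index ≠ 0 := Subgroup.index_ne_zero_of_finite
      omega
    obtain ⟨Mbar, hMbar⟩ := exists_isMinNormal (G := G ⧸ N)
    obtain ⟨p, hp, hMbarp⟩ := hMbar.exists_prime_isPGroup
    have hMbarn : Mbar.Normal := hMbar.1
    have hMbar1 : Mbar ≠ ⊥ := hMbar.2.1
    have : Fact p.Prime := ⟨hp⟩
    set M : Subgroup G := Mbar.comap π with hM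
    have hMn : M.Normal := hMbarn.comap π
    have hNM : N ≤ M := by
      intro x hx
      rw [hM, Subgroup.mem_comap]
      have : π x = 1 := (QuotientGroup.eq_one_iff x).mpr hx
      rw [this]; exact Subgroup.one_mem _
    -- p does not divide |N|
    have hpN : ¬ p ∣ Nat.card N := by
      obtain ⟨k, hk⟩ := IsPGroup.iff_card.mp hMbarp
      have hk0 : k ≠ 0 := by
        rintro rfl
        rw [pow_zero] at hk
        exact hMbar1 (Subgroup.card_eq_one.mp hk)
      have h1 : p ∣ Nat.card Mbar := by rw [hk]; exact dvd_pow_self p hk0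
      have h2 : p ∣ N.index := by
        rw [Subgroup.index_eq_card]
        exact dvd_trans h1 (Subgroup.card_subgroup_dvd_card Mbar)
      intro h3
      exact hp.one_lt.ne' (Nat.eq_one_of_dvd_coprimes hcop h3 h2)
    -- `M ⊓ X` is a p-group for any complement X
    have hpgrp : ∀ X : Subgroup G, IsComplement' N X → IsPGroup p (X ⊓ M : Subgroup G) := by
      intro X hX x
      obtain ⟨x, hxX, hxM⟩ := x
      have hπx : π x ∈ Mbar := hxM
      obtain ⟨j, hj⟩ := hMbarp ⟨π x, hπx⟩
      refine ⟨j, Subtype.ext ?_⟩
      have h1 : (π x) ^ (p ^ j) = 1 := congrArg Subtype.val hj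
      rw [← map_pow] at h1
      have h2 : x ^ (p ^ j) ∈ N := (QuotientGroup.eq_one_iff _).mp h1
      have h3 : x ^ (p ^ j) ∈ X := X.pow_mem hxX _
      exact Subgroup.disjoint_def.mp hX.disjoint h2 h3
    have hcardH := card_mul_card_inf_of_isComplement' hH hNM
    have hcardK := card_mul_card_inf_of_isComplement' hK hNM
    have hNpos : 0 < Nat.card N := Nat.card_pos
    have hcardHK : Nat.card (H ⊓ M : Subgroup G) = Nat.card (K ⊓ M : Subgroup G) :=
      Nat.eq_of_mul_eq_mul_left hNpos (hcardH.trans hcardK.symm)
    -- Sylow subgroups of G containing them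
    obtain ⟨Q, hQ⟩ := (hpgrp K hK).exists_le_sylow
    obtain ⟨Q', hQ'⟩ := (hpgrp H hH).exists_le_sylow
    obtain ⟨g, hg⟩ := MulAction.exists_smul_eq G Q' Q
    -- `Q ⊓ M = K ⊓ M`
    have hQM : (Q : Subgroup G) ⊓ M = K ⊓ M := by
      symm
      apply Subgroup.eq_of_le_of_card_ge (le_inf hQ inf_le_right)
      have hQMp : IsPGroup p ((Q : Subgroup G) ⊓ M : Subgroup G) := Q.isPGroup'.to_le inf_le_left
      obtain ⟨j, hj⟩ := IsPGroup.iff_card.mp hQMp
      have h1 : Nat.card ((Q : Subgroup G) ⊓ M : Subgroup G) ∣ Nat.card M :=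
        Subgroup.card_dvd_of_le inf_le_right
      rw [← hcardK] at h1
      have h2 : Nat.Coprime (Nat.card ((Q : Subgroup G) ⊓ M : Subgroup G)) (Nat.card N) := by
        rw [hj]
        exact Nat.Coprime.pow_left _ ((Nat.Prime.coprime_iff_not_dvd hp).mpr hpN)
      exact Nat.le_of_dvd Nat.card_pos (h2.dvd_of_dvd_mul_left h1)
    -- conjugate `H` by `g`
    set H₁ : Subgroup G := MulAut.conj g • H with hH₁
    have hH₁c : IsComplement' N H₁ := isComplement'_conj_smul hH g
    have hH₁M : H₁ ⊓ M = K ⊓ M := by
      have hle : H₁ ⊓ M ≤ K ⊓ M := by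
        rw [← hQM]
        rintro x ⟨hx1, hx2⟩
        refine ⟨?_, hx2⟩
        have hx1 : x ∈ MulAut.conj g • H := hx1
        have hx2 : x ∈ M := hx2
        rw [mem_conj_smul_iff] at hx1
        have hx3 : g⁻¹ * x * g ∈ M := (conj_inv_mem_iff_of_normal hMn g x).mpr hx2
        have hx4 : g⁻¹ * x * g ∈ (Q' : Subgroup G) := hQ' ⟨hx1, hx3⟩
        rw [← hg]
        exact (mem_sylow_smul_iff Q' g x).mpr hx4
      apply Subgroup.eq_of_le_of_card_ge hle
      rw [← hcardHK]
      have hc := card_mul_card_inf_of_isComplement' hH₁c hNM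
      exact (Nat.eq_of_mul_eq_mul_left hNpos (hcardH.trans hc.symm)).le
    set P : Subgroup G := K ⊓ M with hP
    have hP1 : P ≠ ⊥ := by
      intro h
      rw [h, Subgroup.card_bot, mul_one] at hcardK
      have hMN : M = N := (Subgroup.eq_of_le_of_card_ge hNM hcardK.ge).symm
      apply hMbar1
      rw [← Subgroup.map_comap_eq_self_of_surjective hsur Mbar, ← hM, hMN,
        Subgroup.map_eq_bot_iff, hπ, QuotientGroup.ker_mk']
    set L : Subgroup G := Subgroup.normalizer (P : Set G) with hL
    have hnormX : ∀ X : Subgroup G, X ⊓ M = P → X ≤ L := by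
      intro X hX x hx
      rw [hL, Subgroup.mem_normalizer_iff]
      intro y
      rw [← hX]
      constructor
      · rintro ⟨hy1, hy2⟩
        exact ⟨X.mul_mem (X.mul_mem hx hy1) (X.inv_mem hx), hMn.conj_mem y hy2 x⟩
      · rintro ⟨hy1, hy2⟩
        refine ⟨?_, ?_⟩
        · have := X.mul_mem (X.mul_mem (X.inv_mem hx) hy1) hx
          simpa [mul_assoc] using this
        · have := hMn.conj_mem _ hy2 x⁻¹
          simpa [mul_assoc] using this
    have hKL : K ≤ L := hnormX K rfl
    have hH₁L : H₁ ≤ L := hnormX H₁ hH₁M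
    have hcopNK : Nat.Coprime (Nat.card N) (Nat.card K) := IsComplement'.coprime_card hK hcop
    have hcopNH₁ : Nat.Coprime (Nat.card N) (Nat.card H₁) := IsComplement'.coprime_card hH₁c hcop
    -- it suffices to conjugate `H₁` to `K`
    suffices hsuff : ∃ g₂ : G, MulAut.conj g₂ • H₁ = K by
      obtain ⟨g₂, hg₂⟩ := hsuff
      exact ⟨g₂ * g, by rw [map_mul, mul_smul]; exact hg₂⟩
    by_cases hLtop : L = ⊤
    · -- `P` is normal in `G`: pass to `G ⧸ P`
      have hPn : P.Normal := Subgroup.normalizer_eq_top_iff.mp hLtop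
      set ρ := QuotientGroup.mk' P with hρ
      have hρsur : Function.Surjective ρ := QuotientGroup.mk'_surjective P
      have hN'n : (N.map ρ).Normal := Normal.map inferInstance ρ hρsur
      have hH' : IsComplement' (N.map ρ) (H₁.map ρ) := isComplement'_map hH₁c hcopNH₁ ρ hρsur
      have hK' : IsComplement' (N.map ρ) (K.map ρ) := isComplement'_map hK hcopNK ρ hρsur
      have hcop' : Nat.Coprime (Nat.card (N.map ρ)) (N.map ρ).index := by
        apply IsComplement'.coprime_index hK'
        exact Nat.Coprime.of_dvd (Subgroup.card_map_dvd N ρ) (Subgroup.card_map_dvd K ρ) hcopNK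
      have hsolv' : Group.IsSolvable ((G ⧸ P) ⧸ (N.map ρ)) := by
        have hle : N ≤ (N.map ρ).comap ρ := Subgroup.le_comap_map ρ N
        apply Group.isSolvable_of_surjective (f := QuotientGroup.map N (N.map ρ) ρ hle)
        apply QuotientGroup.map_surjective_of_surjective
        exact (QuotientGroup.mk'_surjective (N.map ρ)).comp hρsur
      have hlt : Nat.card (G ⧸ P) < n := hcard ▸ card_quotient_lt_of_ne_bot hP1
      obtain ⟨gbar, hgbar⟩ := ih _ hlt (G ⧸ P) rfl (N.map ρ) hcop' hsolv' _ _ hH' hK'
      obtain ⟨g₂, rfl⟩ := hρsur gbar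
      refine ⟨g₂, ?_⟩
      have hmap : (MulAut.conj g₂ • H₁).map ρ = K.map ρ := by rw [map_conj_smul, hgbar]
      have hPle1 : P ≤ MulAut.conj g₂ • H₁ := by
        intro x hx
        rw [mem_conj_smul_iff]
        have hx' : g₂⁻¹ * x * g₂ ∈ P := (conj_inv_mem_iff_of_normal hPn g₂ x).mpr hx
        rw [← hH₁M] at hx'
        exact hx'.1
      have hPle2 : P ≤ K := inf_le_left
      have hker : ρ.ker = P := QuotientGroup.ker_mk' P
      have h1 := congrArg (Subgroup.comap ρ) hmap
      rw [Subgroup.comap_map_eq, Subgroup.comap_map_eq, hker, sup_eq_left.mpr hPle1,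
        sup_eq_left.mpr hPle2] at h1
      exact h1
    · -- work inside `L = N_G(P)`
      have hKc : IsComplement' (N.subgroupOf L) (K.subgroupOf L) := isComplement'_subgroupOf hK hKL
      have hH₁c' : IsComplement' (N.subgroupOf L) (H₁.subgroupOf L) :=
        isComplement'_subgroupOf hH₁c hH₁L
      have hltL : Nat.card L < n := hcard ▸ card_lt_of_ne_top hLtop
      have hcopL : Nat.Coprime (Nat.card (N.subgroupOf L)) (N.subgroupOf L).index := by
        apply IsComplement'.coprime_index hKc
        have h1 : Nat.card (N.subgroupOf L) ∣ Nat.card N := by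
          have : Nat.card (N.subgroupOf L) = Nat.card (N ⊓ L : Subgroup G) := by
            rw [← Subgroup.inf_subgroupOf_right]
            exact Nat.card_congr (Subgroup.subgroupOfEquivOfLe inf_le_right).toEquiv
          rw [this]; exact Subgroup.card_dvd_of_le inf_le_left
        have h2 : Nat.card (K.subgroupOf L) = Nat.card K :=
          Nat.card_congr (Subgroup.subgroupOfEquivOfLe hKL).toEquiv
        rw [h2]
        exact Nat.Coprime.of_dvd_left h1 hcopNK
      have hsolvL : Group.IsSolvable (L ⧸ N.subgroupOf L) := by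
        have hle : N.subgroupOf L ≤ N.comap L.subtype :=
          fun x hx => Subgroup.mem_comap.mpr (Subgroup.mem_subgroupOf.mp hx)
        have hf : Function.Injective
            (QuotientGroup.map (N.subgroupOf L) N L.subtype hle) := by
          rw [← MonoidHom.ker_eq_bot_iff, QuotientGroup.ker_map]
          rw [Subgroup.map_eq_bot_iff, QuotientGroup.ker_mk']
          exact le_rfl
        exact Group.isSolvable_of_isSolvable_injective hf
      obtain ⟨l, hl⟩ := ih _ hltL L rfl (N.subgroupOf L) hcopL hsolvL _ _ hH₁c' hKc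
      exact ⟨(l : G), conj_eq_of_subgroupOf_conj_eq hH₁L hKL l hl⟩

/-- **Schur–Zassenhaus, conjugacy part** (with a solvability hypothesis). -/
theorem sz_conj {G : Type u} [Group G] [Finite G] (N : Subgroup G) [N.Normal]
    (hN : (Nat.card N).Coprime N.index)
    (hsolv : Group.IsSolvable N ∨ Group.IsSolvable (G ⧸ N))
    (H K : Subgroup G) (hH : IsComplement' N H) (hK : IsComplement' N K) :
    ∃ g : G, MulAut.conj g • H = K := by
  rcases hsolv with h | h
  · exact sz_conj_of_solvable_normal _ G rfl N hN h H K hH hK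
  · exact sz_conj_of_solvable_quotient _ G rfl N hN h H K hH hK

end Cfsg.Agent.Lib.Helper1
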