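import Mathlib
import Cfsg.Agent.Lib.Helper1.Basic
import Cfsg.Agent.Lib.Helper1.Transport
import Cfsg.Agent.Lib.Helper1.SZConj

set_option autoImplicit false
open Pointwise

namespace Cfsg.Agent.Lib.Helper1

open Subgroup

/-- `A` is a complement of `K` inside the subgroup `Γ` (internal version). -/
def IsComplIn {G : Type*} [Group G] (K A Γ : Subgroup G) : Prop :=
  K ≤ Γ ∧ A ≤ Γ ∧ Disjoint K A ∧ ∀ γ ∈ Γ, ∃ k ∈ K, ∃ a ∈ A, k * a = γ

theorem IsComplIn.isComplement' {G : Type*} [Group G] {K A Γ : Subgroup G}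
    (h : IsComplIn K A Γ) : IsComplement' (K.subgroupOf Γ) (A.subgroupOf Γ) :=
  isComplement'_subgroupOf_of_sup_eq h.1 h.2.1 h.2.2.1 h.2.2.2

theorem card_subgroupOf_of_le {G : Type*} [Group G] {H L : Subgroup G} (h : H ≤ L) :
    Nat.card (H.subgroupOf L) = Nat.card H :=
  Nat.card_congr (Subgroup.subgroupOfEquivOfLe h).toEquiv

theorem IsComplIn.card_mul_card {G : Type*} [Group G] {K A Γ : Subgroup G}
    (h : IsComplIn K A Γ) : Nat.card K * Nat.card A = Nat.card Γ := by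
  have := h.isComplement'.card_mul_card
  rwa [card_subgroupOf_of_le h.1, card_subgroupOf_of_le h.2.1] at this

/-- the join of `K` with a subgroup normalizing it and meeting it trivially -/
theorem isComplIn_sup {G : Type*} [Group G] {K A : Subgroup G}
    (hnorm : A ≤ normalizer (K : Set G)) (hd : Disjoint K A) : IsComplIn K A (K ⊔ A) := by
  refine ⟨le_sup_left, le_sup_right, hd, fun γ hγ => ?_⟩
  rw [← SetLike.mem_coe, Subgroup.coe_mul_of_right_le_normalizer_left K A hnorm, Set.mem_mul] at hγ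
  exact hγ

theorem sup_le_normalizer {G : Type*} [Group G] {K A : Subgroup G}
    (hnorm : A ≤ normalizer (K : Set G)) : K ⊔ A ≤ normalizer (K : Set G) :=
  sup_le Subgroup.le_normalizer hnorm

/-- **Internal Schur–Zassenhaus, conjugacy.** -/
theorem internal_sz_conj {G : Type*} [Group G] [Finite G] {Γ K A A₁ : Subgroup G}
    (hnorm : Γ ≤ normalizer (K : Set G)) (hA : IsComplIn K A Γ) (hA₁ : IsComplIn K A₁ Γ)
    (hcop : Nat.Coprime (Nat.card K) (Nat.card A))
    (hsolv : Group.IsSolvable K ∨ Group.IsSolvable A) : ∃ k ∈ K, MulAut.conj k • A₁ = A := by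
  have hKn : (K.subgroupOf Γ).Normal := (normal_subgroupOf_iff_le_normalizer hA.1).mpr hnorm
  have hc := hA.isComplement'
  have hc₁ := hA₁.isComplement'
  have hcopΓ : Nat.Coprime (Nat.card (K.subgroupOf Γ)) (K.subgroupOf Γ).index := by
    apply IsComplement'.coprime_index hc
    rw [card_subgroupOf_of_le hA.1, card_subgroupOf_of_le hA.2.1]; exact hcop
  have hsolvΓ : Group.IsSolvable (K.subgroupOf Γ) ∨ Group.IsSolvable (Γ ⧸ K.subgroupOf Γ) := by
    rcases hsolv with h | h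
    · left
      exact Group.isSolvable_of_isSolvable_injective
        (f := (Subgroup.subgroupOfEquivOfLe hA.1).toMonoidHom)
        (Subgroup.subgroupOfEquivOfLe hA.1).injective
    · right
      have e1 : Γ ⧸ K.subgroupOf Γ ≃* A.subgroupOf Γ := IsComplement'.QuotientMulEquiv hc.symm
      have e2 : A.subgroupOf Γ ≃* A := Subgroup.subgroupOfEquivOfLe hA.2.1
      exact Group.isSolvable_of_isSolvable_injective (f := (e1.trans e2).toMonoidHom)
        (e1.trans e2).injective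
  obtain ⟨γ, hγ⟩ := sz_conj (K.subgroupOf Γ) hcopΓ hsolvΓ _ _ hc₁ hc
  have h1 : MulAut.conj (γ : G) • A₁ = A := conj_eq_of_subgroupOf_conj_eq hA₁.2.1 hA.2.1 γ hγ
  obtain ⟨k, hk, a, ha, hka⟩ := hA.2.2.2 (γ : G) γ.2
  -- γ = k * a = a * (a⁻¹ * k * a)
  refine ⟨a⁻¹ * k * a, ?_, ?_⟩
  · have haN : a⁻¹ ∈ normalizer (K : Set G) := hnorm (Γ.inv_mem (hA.2.1 ha))
    have := (Subgroup.mem_normalizer_iff.mp haN k).mp hk
    simpa using this
  · have h2 : (γ : G) = a * (a⁻¹ * k * a) := by rw [← hka]; group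
    rw [h2, map_mul, mul_smul] at h1
    have h3 : MulAut.conj (a⁻¹ * k * a) • A₁ = MulAut.conj a⁻¹ • A := by
      rw [← h1, ← mul_smul, ← map_mul, inv_mul_cancel, map_one, one_smul]
    rw [h3]
    exact Subgroup.conj_smul_eq_self_of_mem (A.inv_mem ha)

/-- **Internal Schur–Zassenhaus, existence.** -/
theorem internal_sz_exists {G : Type*} [Group G] [Finite G] {U M : Subgroup G} (hMU : M ≤ U)
    (hnorm : U ≤ normalizer (M : Set G)) (hcop : Nat.Coprime (Nat.card M) (M.relIndex U)) :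
    ∃ A₁ : Subgroup G, IsComplIn M A₁ U := by
  have hMn : (M.subgroupOf U).Normal := (normal_subgroupOf_iff_le_normalizer hMU).mpr hnorm
  have hcop' : Nat.Coprime (Nat.card (M.subgroupOf U)) (M.subgroupOf U).index := by
    rw [card_subgroupOf_of_le hMU]; exact hcop
  obtain ⟨C, hC⟩ := Subgroup.exists_right_complement'_of_coprime hcop'
  refine ⟨C.map U.subtype, hMU, Subgroup.map_subtype_le C, ?_, ?_⟩
  · rw [Subgroup.disjoint_def]
    rintro x hxM ⟨c, hc, rfl⟩
    have h1 : c ∈ M.subgroupOf U := Subgroup.mem_subgroupOf.mpr hxM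
    have := Subgroup.disjoint_def.mp hC.disjoint h1 hc
    rw [this]; rfl
  · intro u hu
    obtain ⟨m, hm, c, hc, hmc⟩ := IsComplement'.exists_mul_eq hC ⟨u, hu⟩
    exact ⟨m, Subgroup.mem_subgroupOf.mp hm, c, ⟨c, hc, rfl⟩, congrArg Subtype.val hmc⟩

/-- **Internal Glauberman lemma**: if `A` normalizes `N`, with coprime orders and one of them
solvable, and the coset `x N` is `A`-invariant, then it contains an element centralizing `A`. -/
theorem exists_mul_mem_centralizer {G : Type*} [Group G] [Finite G] {A N : Subgroup G}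
    (hnorm : A ≤ normalizer (N : Set G)) (hcop : Nat.Coprime (Nat.card A) (Nat.card N))
    (hsolv : Group.IsSolvable A ∨ Group.IsSolvable N) (x : G)
    (hx : ∀ a ∈ A, x⁻¹ * a * x * a⁻¹ ∈ N) :
    ∃ n ∈ N, x * n ∈ centralizer (A : Set G) := by
  have hdNA : Disjoint N A := Subgroup.disjoint_of_coprime_natCard hcop.symm
  set Γ : Subgroup G := N ⊔ A with hΓ
  have hΓnorm : Γ ≤ normalizer (N : Set G) := sup_le_normalizer hnorm
  have hA : IsComplIn N A Γ := isComplIn_sup hnorm hdNA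
  set A₁ : Subgroup G := MulAut.conj x⁻¹ • A with hA₁
  have hcardA₁ : Nat.card A₁ = Nat.card A := card_conj_smul A x⁻¹
  have hmemA₁ : ∀ y, y ∈ A₁ ↔ x * y * x⁻¹ ∈ A := by
    intro y
    rw [hA₁, mem_conj_smul_iff, inv_inv]
  have hA₁Γ : A₁ ≤ Γ := by
    intro y hy
    rw [hmemA₁] at hy
    -- y = x⁻¹ a x = (x⁻¹ a x a⁻¹) a
    have h1 := hx _ hy
    have h2 : y = (x⁻¹ * (x * y * x⁻¹) * x * (x * y * x⁻¹)⁻¹) * (x * y * x⁻¹) := by group
    rw [h2]
    exact Γ.mul_mem (hA.1 h1) (hA.2.1 hy)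
  have hdNA₁ : Disjoint N A₁ := by
    apply Subgroup.disjoint_of_coprime_natCard
    rw [hcardA₁]; exact hcop.symm
  have hA₁c : IsComplIn N A₁ Γ := by
    refine ⟨hA.1, hA₁Γ, hdNA₁, fun γ hγ => ?_⟩
    obtain ⟨n, hn, a, ha, hna⟩ := hA.2.2.2 γ hγ
    -- a = (x⁻¹ a x a⁻¹)⁻¹ * (x⁻¹ a x)
    refine ⟨n * (x⁻¹ * a * x * a⁻¹)⁻¹, N.mul_mem hn (N.inv_mem (hx a ha)), x⁻¹ * a * x, ?_, ?_⟩
    · rw [hmemA₁]
      have : x * (x⁻¹ * a * x) * x⁻¹ = a := by group
      rw [this]; exact ha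
    · rw [← hna]; group
  have hsolv' : Group.IsSolvable N ∨ Group.IsSolvable A := hsolv.symm
  obtain ⟨n, hn, hnA⟩ := internal_sz_conj hΓnorm hA hA₁c hcop.symm hsolv'
  -- n x⁻¹ A x n⁻¹ = A; c = x n⁻¹
  refine ⟨n⁻¹, N.inv_mem hn, ?_⟩
  rw [Subgroup.mem_centralizer_iff]
  intro a ha
  -- (x n⁻¹)⁻¹ a (x n⁻¹) ∈ A
  have h1 : n * x⁻¹ * a * x * n⁻¹ ∈ A := by
    rw [← hnA, mem_conj_smul_iff, hmemA₁]
    have : x * (n⁻¹ * (n * x⁻¹ * a * x * n⁻¹) * n) * x⁻¹ = a := by group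
    rw [this]; exact ha
  -- and it lies in N a
  have h2 : n * x⁻¹ * a * x * n⁻¹ * a⁻¹ ∈ N := by
    have e : n * x⁻¹ * a * x * n⁻¹ * a⁻¹ = n * (x⁻¹ * a * x * a⁻¹) * (a * n⁻¹ * a⁻¹) := by group
    rw [e]
    refine N.mul_mem (N.mul_mem hn (hx a ha)) ?_
    exact (Subgroup.mem_normalizer_iff.mp (hnorm ha) n⁻¹).mp (N.inv_mem hn)
  have h3 : n * x⁻¹ * a * x * n⁻¹ * a⁻¹ ∈ A := A.mul_mem h1 (A.inv_mem ha)
  have h4 : n * x⁻¹ * a * x * n⁻¹ * a⁻¹ = 1 := Subgroup.disjoint_def.mp hdNA h2 h3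
  have h5 : a * (x * n⁻¹) = (x * n⁻¹) * (n * x⁻¹ * a * x * n⁻¹ * a⁻¹) * a := by group
  rw [h5, h4, mul_one]


/-- **Internal Glauberman lemma, existence of fixed points**: if `Γ = K A = K U` then some
`K`-conjugate of `U` contains `A`. -/
theorem exists_le_conj_smul_of_coprime {G : Type*} [Group G] [Finite G] {A K U : Subgroup G}
    (hAK : A ≤ normalizer (K : Set G)) (hcop : Nat.Coprime (Nat.card A) (Nat.card K))
    (hsolv : Group.IsSolvable A ∨ Group.IsSolvable K) (hU : U ≤ K ⊔ A)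
    (hKU : ∀ γ ∈ K ⊔ A, ∃ k ∈ K, ∃ u ∈ U, γ = k * u) :
    ∃ k ∈ K, A ≤ MulAut.conj k • U := by
  have hdKA : Disjoint K A := Subgroup.disjoint_of_coprime_natCard hcop.symm
  set Γ : Subgroup G := K ⊔ A with hΓ
  have hΓnorm : Γ ≤ normalizer (K : Set G) := sup_le_normalizer hAK
  have hA : IsComplIn K A Γ := isComplIn_sup hAK hdKA
  set M : Subgroup G := K ⊓ U with hM
  have hMU : M ≤ U := inf_le_right
  have hnormM : U ≤ normalizer (M : Set G) :=
    (le_inf (hU.trans hΓnorm) Subgroup.le_normalizer).trans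
      Subgroup.inf_normalizer_le_normalizer_inf
  have hKn : (K.subgroupOf Γ).Normal := (normal_subgroupOf_iff_le_normalizer hA.1).mpr hΓnorm
  have hrel : M.relIndex U ∣ Nat.card A := by
    rw [hM, Subgroup.inf_relIndex_right, ← Subgroup.relIndex_subgroupOf hU]
    have h1 : (K.subgroupOf Γ).relIndex (U.subgroupOf Γ) ∣ (K.subgroupOf Γ).index :=
      Subgroup.relIndex_dvd_index_of_normal _ _
    have h2 : (K.subgroupOf Γ).index = Nat.card A := by
      rw [hA.isComplement'.symm.index_eq_card, card_subgroupOf_of_le hA.2.1]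
    rwa [h2] at h1
  have hcopM : Nat.Coprime (Nat.card M) (M.relIndex U) :=
    Nat.Coprime.of_dvd (Subgroup.card_dvd_of_le inf_le_left) hrel hcop.symm
  obtain ⟨A₁, hA₁⟩ := internal_sz_exists hMU hnormM hcopM
  have hA₁c : IsComplIn K A₁ Γ := by
    refine ⟨hA.1, hA₁.2.1.trans hU, ?_, fun γ hγ => ?_⟩
    · rw [Subgroup.disjoint_def]
      intro x hxK hxA₁
      exact Subgroup.disjoint_def.mp hA₁.2.2.1 ⟨hxK, hA₁.2.1 hxA₁⟩ hxA₁
    · obtain ⟨k, hk, u, hu, rfl⟩ := hKU γ hγ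
      obtain ⟨m, hm, a₁, ha₁, rfl⟩ := hA₁.2.2.2 u hu
      exact ⟨k * m, K.mul_mem hk hm.1, a₁, ha₁, by group⟩
  obtain ⟨k, hk, hkA⟩ := internal_sz_conj hΓnorm hA hA₁c hcop.symm hsolv.symm
  refine ⟨k, hk, ?_⟩
  rw [← hkA]
  intro x hx
  rw [mem_conj_smul_iff] at hx ⊢
  exact hA₁.2.1 hx

/-- **Internal Glauberman lemma, conjugacy of fixed points.** -/
theorem exists_mem_centralizer_of_le_conj_smul {G : Type*} [Group G] [Finite G]
    {A K U : Subgroup G} (hAK : A ≤ normalizer (K : Set G))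
    (hcop : Nat.Coprime (Nat.card A) (Nat.card K))
    (hsolv : Group.IsSolvable A ∨ Group.IsSolvable K) (hAU : A ≤ U) (k : G) (hk : k ∈ K)
    (hAkU : A ≤ MulAut.conj k • U) :
    ∃ c ∈ K ⊓ centralizer (A : Set G), k⁻¹ * c ∈ U := by
  set N : Subgroup G := K ⊓ U with hN
  have hAN : A ≤ normalizer (N : Set G) :=
    (le_inf hAK (hAU.trans Subgroup.le_normalizer)).trans
      Subgroup.inf_normalizer_le_normalizer_inf
  have hcopN : Nat.Coprime (Nat.card A) (Nat.card N) :=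
    Nat.Coprime.coprime_dvd_right (Subgroup.card_dvd_of_le inf_le_left) hcop
  have hsolvN : Group.IsSolvable A ∨ Group.IsSolvable N := by
    rcases hsolv with h | h
    · exact Or.inl h
    · right
      exact Group.isSolvable_of_isSolvable_injective
        (f := Subgroup.inclusion (inf_le_left : N ≤ K)) (Subgroup.inclusion_injective _)
  have hx : ∀ a ∈ A, k⁻¹ * a * k * a⁻¹ ∈ N := by
    intro a ha
    refine ⟨?_, ?_⟩
    · have h1 : a * k * a⁻¹ ∈ K := (Subgroup.mem_normalizer_iff.mp (hAK ha) k).mp hk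
      have e : k⁻¹ * a * k * a⁻¹ = k⁻¹ * (a * k * a⁻¹) := by group
      rw [e]; exact K.mul_mem (K.inv_mem hk) h1
    · have h1 : k⁻¹ * a * k ∈ U := (mem_conj_smul_iff U k a).mp (hAkU ha)
      exact U.mul_mem h1 (U.inv_mem (hAU ha))
  obtain ⟨n, hn, hc⟩ := exists_mul_mem_centralizer hAN hcopN hsolvN k hx
  exact ⟨k * n, ⟨K.mul_mem hk hn.1, hc⟩, by rw [inv_mul_cancel_left]; exact hn.2⟩

/-- a finite subgroup mapped into itself by conjugation is normalized -/
theorem mem_normalizer_of_forall_conj_mem {G : Type*} [Group G] [Finite G] (H : Subgroup G)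
    (g : G) (h : ∀ x ∈ H, g * x * g⁻¹ ∈ H) : g ∈ normalizer (H : Set G) := by
  rw [Subgroup.mem_normalizer_iff_map_conj_eq]
  have hle : MulAut.conj g • H ≤ H := by
    intro x hx
    rw [mem_conj_smul_iff] at hx
    have := h _ hx
    simpa [mul_assoc] using this
  have hcard : Nat.card H ≤ Nat.card (MulAut.conj g • H : Subgroup G) := (card_conj_smul H g).ge
  exact Subgroup.eq_of_le_of_card_ge hle hcard

theorem conj_smul_normalizer {G : Type*} [Group G] (H : Subgroup G) (k : G) :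
    MulAut.conj k • normalizer (H : Set G) =
      normalizer ((MulAut.conj k • H : Subgroup G) : Set G) := by
  ext a
  rw [mem_conj_smul_iff, Subgroup.mem_normalizer_iff, Subgroup.mem_normalizer_iff]
  constructor
  · intro h x
    rw [mem_conj_smul_iff, mem_conj_smul_iff, h (k⁻¹ * x * k)]
    have e : k⁻¹ * a * k * (k⁻¹ * x * k) * (k⁻¹ * a * k)⁻¹ = k⁻¹ * (a * x * a⁻¹) * k := by group
    rw [e]
  · intro h x
    have := h (k * x * k⁻¹)
    rw [mem_conj_smul_iff, mem_conj_smul_iff] at this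
    have e1 : k⁻¹ * (k * x * k⁻¹) * k = x := by group
    have e2 : k⁻¹ * (a * (k * x * k⁻¹) * a⁻¹) * k = k⁻¹ * a * k * x * (k⁻¹ * a * k)⁻¹ := by group
    rw [e1, e2] at this
    exact this

/-- Frattini argument for a Sylow subgroup of a subgroup `K`, elementwise form -/
theorem frattini_sylow {G : Type*} [Group G] [Finite G] (K : Subgroup G) {p : ℕ} [Fact p.Prime]
    (P : Sylow p K) (γ : G) (hγ : γ ∈ normalizer (K : Set G)) :
    ∃ k ∈ K, k⁻¹ * γ ∈ normalizer (((P : Subgroup K).map K.subtype : Subgroup G) : Set G) := by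
  let γ' : normalizer (K : Set G) := ⟨γ, hγ⟩
  obtain ⟨k, hk⟩ := MulAction.exists_smul_eq K P (γ' • P)
  refine ⟨k, k.2, mem_normalizer_of_forall_conj_mem _ _ ?_⟩
  rintro x ⟨y, hy, rfl⟩
  have h1 : γ' • y ∈ ((γ' • P : Sylow p K) : Subgroup K) := by
    rw [Sylow.pointwise_smul_def]
    exact Subgroup.smul_mem_pointwise_smul _ _ _ hy
  rw [← hk, Sylow.coe_subgroup_smul, mem_conj_smul_iff] at h1
  refine ⟨k⁻¹ * (γ' • y) * k, h1, ?_⟩
  have e : ((γ' • y : K) : G) = γ * y * γ⁻¹ := rfl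
  simp only [Subgroup.subtype_apply, Subgroup.coe_mul, Subgroup.coe_inv, e]
  group

end Cfsg.Agent.Lib.Helper1
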