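import Mathlib

set_option autoImplicit false
open Pointwise

namespace Cfsg.Agent.Lib.Helper1

/-- In a finite `p`-group every maximal subgroup is normal. -/
theorem IsPGroup.coatom_normal {G : Type*} [Group G] [Finite G] {p : ℕ} [Fact p.Prime]
    (hG : IsPGroup p G) (M : Subgroup G) (hM : IsCoatom M) : M.Normal := by
  have : Group.IsNilpotent G := hG.isNilpotent
  exact ((Group.isNilpotent_of_finite_tfae (G := G)).out 0 2 rfl rfl |>.mp this) M hM

/-- In a finite `p`-group every maximal subgroup has index `p`. -/
theorem IsPGroup.coatom_index {G : Type*} [Group G] [Finite G] {p : ℕ} [Fact p.Prime]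
    (hG : IsPGroup p G) (M : Subgroup G) (hM : IsCoatom M) : M.index = p := by
  classical
  have hp : p.Prime := Fact.out
  have hMn : M.Normal := IsPGroup.coatom_normal hG M hM
  obtain ⟨k, hk⟩ := hG.index M
  have hk1 : k ≠ 0 := by
    rintro rfl
    rw [pow_zero, Subgroup.index_eq_one] at hk
    exact hM.1 hk
  have hcard : Nat.card (G ⧸ M) = p ^ k := by rw [← Subgroup.index_eq_card, hk]
  have hdvd : p ∣ Nat.card (G ⧸ M) := by rw [hcard]; exact dvd_pow_self p hk1
  obtain ⟨x, hx⟩ := exists_prime_orderOf_dvd_card' (G := G ⧸ M) p hdvd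
  set π := QuotientGroup.mk' M with hπ
  have hsur : Function.Surjective π := QuotientGroup.mk'_surjective _
  set K := Subgroup.zpowers x with hK
  have hKcard : Nat.card K = p := by rw [Nat.card_zpowers, hx]
  have hle : M ≤ K.comap π := by
    intro m hm
    rw [Subgroup.mem_comap]
    have : π m = 1 := (QuotientGroup.eq_one_iff m).mpr hm
    rw [this]; exact K.one_mem
  have hne : K.comap π ≠ M := by
    intro h
    have h1 : K = (K.comap π).map π := (Subgroup.map_comap_eq_self_of_surjective hsur K).symm
    rw [h] at h1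
    have h2 : M.map π = ⊥ := by
      rw [Subgroup.map_eq_bot_iff, hπ, QuotientGroup.ker_mk']
    rw [h2] at h1
    rw [h1, Subgroup.card_bot] at hKcard
    exact hp.one_lt.ne hKcard
  have htop : K.comap π = ⊤ := hM.2 _ (lt_of_le_of_ne hle (Ne.symm hne))
  have hKtop : K = ⊤ := by
    rw [← Subgroup.map_comap_eq_self_of_surjective hsur K, htop,
      Subgroup.map_top_of_surjective π hsur]
  rw [Subgroup.index_eq_card, ← Nat.card_congr (Subgroup.topEquiv (G := G ⧸ M)).toEquiv, ← hKtop]
  exact hKcard

/-- In a finite `p`-group, commutators and `p`-th powers lie in every maximal subgroup. -/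
theorem IsPGroup.commutator_le_coatom {G : Type*} [Group G] [Finite G] {p : ℕ} [Fact p.Prime]
    (hG : IsPGroup p G) (M : Subgroup G) (hM : IsCoatom M) : commutator G ≤ M := by
  have hMn : M.Normal := IsPGroup.coatom_normal hG M hM
  have hidx := IsPGroup.coatom_index hG M hM
  have hcard : Nat.card (G ⧸ M) = p := by rw [← Subgroup.index_eq_card, hidx]
  have hcyc : IsCyclic (G ⧸ M) := isCyclic_of_prime_card hcard
  have : IsMulCommutative (G ⧸ M) := IsCyclic.isMulCommutative
  exact Subgroup.Normal.quotient_commutative_iff_commutator_le.mp this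

theorem IsPGroup.pow_mem_coatom {G : Type*} [Group G] [Finite G] {p : ℕ} [Fact p.Prime]
    (hG : IsPGroup p G) (M : Subgroup G) (hM : IsCoatom M) (x : G) : x ^ p ∈ M := by
  have hMn : M.Normal := IsPGroup.coatom_normal hG M hM
  have hidx := IsPGroup.coatom_index hG M hM
  have hcard : Nat.card (G ⧸ M) = p := by rw [← Subgroup.index_eq_card, hidx]
  have h1 : (QuotientGroup.mk' M x) ^ p = 1 := by
    rw [← hcard]; exact pow_card_eq_one'
  rw [← map_pow] at h1
  exact (QuotientGroup.eq_one_iff _).mp h1

theorem IsPGroup.commutator_le_frattini {G : Type*} [Group G] [Finite G] {p : ℕ} [Fact p.Prime]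
    (hG : IsPGroup p G) : commutator G ≤ frattini G := by
  unfold frattini Order.radical
  exact le_iInf₂ fun M hM => IsPGroup.commutator_le_coatom hG M hM

theorem IsPGroup.pow_mem_frattini {G : Type*} [Group G] [Finite G] {p : ℕ} [Fact p.Prime]
    (hG : IsPGroup p G) (x : G) : x ^ p ∈ frattini G := by
  unfold frattini Order.radical
  simp only [Subgroup.mem_iInf]
  exact fun M hM => IsPGroup.pow_mem_coatom hG M hM x

end Cfsg.Agent.Lib.Helper1
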