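import Mathlib

/-!
The projection of a group onto a complement `H` of a normal subgroup `K`.
-/

namespace Cfsg.Agent.Lib.Helper1

open Subgroup

variable {G : Type*} [Group G]

/-- projection onto a complement `H` of a normal subgroup `K` -/
noncomputable def complProj {K H : Subgroup G} [K.Normal] (hc : IsComplement' K H) : G →* H :=
  (hc.symm.QuotientMulEquiv : G ⧸ K ≃* H).toMonoidHom.comp (QuotientGroup.mk' K)

variable {K H : Subgroup G} [K.Normal] (hc : IsComplement' K H)

theorem complProj_mk_eq (g : G) :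
    (QuotientGroup.mk ((complProj hc g : H) : G) : G ⧸ K) = QuotientGroup.mk g := by
  have h := (hc.symm.QuotientMulEquiv : G ⧸ K ≃* H).symm_apply_apply (QuotientGroup.mk g)
  exact h

theorem complProj_inv_mul_mem (g : G) : ((complProj hc g : H) : G)⁻¹ * g ∈ K :=
  QuotientGroup.eq.mp (complProj_mk_eq hc g)

theorem complProj_mul_inv_mem (g : G) : g * ((complProj hc g : H) : G)⁻¹ ∈ K := by
  have h := complProj_inv_mul_mem hc g
  have h2 : g * ((complProj hc g : H) : G)⁻¹ =
      ((complProj hc g : H) : G) * (((complProj hc g : H) : G)⁻¹ * g) *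
        ((complProj hc g : H) : G)⁻¹ := by group
  rw [h2]
  exact ‹K.Normal›.conj_mem _ h _

theorem complProj_of_mem {x : G} (hx : x ∈ H) : ((complProj hc x : H) : G) = x := by
  have h := (hc.symm.QuotientMulEquiv : G ⧸ K ≃* H).apply_symm_apply ⟨x, hx⟩
  have h2 : complProj hc x = ⟨x, hx⟩ := h
  rw [h2]

theorem complProj_of_mem_left {k : G} (hk : k ∈ K) : complProj hc k = 1 := by
  have : (QuotientGroup.mk k : G ⧸ K) = 1 := (QuotientGroup.eq_one_iff k).mpr hk
  show (hc.symm.QuotientMulEquiv : G ⧸ K ≃* H) (QuotientGroup.mk k) = 1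
  rw [this, map_one]

theorem complProj_unique {y g : G} (hy : y ∈ H) (h : y⁻¹ * g ∈ K) :
    ((complProj hc g : H) : G) = y := by
  have h1 : g = y * (y⁻¹ * g) := by group
  rw [h1, map_mul, complProj_of_mem_left hc h, mul_one, complProj_of_mem hc hy]

end Cfsg.Agent.Lib.Helper1
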