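import Mathlib
import Cfsg.Agent.Lib.Helper27.A7BlkG
import Cfsg.Agent.Lib.Helper24.M11VecA
import Cfsg.Agent.Lib.Helper24.M11VecC

/-!
# Simple groups of order 2520, piece (C-s7) (helper1)

In the A7 pattern `B : Blk7 x15 x6 Yf 15 1 6 (-1) 10 (-1)` of the principal `7`-block
(helper27, `Lib/Helper27/A7Blk*`), the element `s` of order `3` in the normalizer of a
Sylow `7`-subgroup satisfies `x6 s = 0` and `x15 s = 0`.  Proof: compare the dimensions of the fixed
spaces of `P = <y>` and of the Frobenius group `K = P <s>` of order `21`.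
-/

set_option autoImplicit false
set_option linter.unusedSectionVars false
set_option linter.style.haveILetI false

namespace Cfsg.Agent.Lib.Helper1.A7Cs7

open Cfsg Cfsg.Agent.CharLib Cfsg.Agent.Lib.Helper24 Cfsg.Agent.Lib.Helper24.M11Vec
  Cfsg.Agent.Lib.Helper27.A7Blk
open scoped ComplexConjugate

universe u

variable {G : Type u} [Group G] [Finite G]

/-- fixed-space dimensions of an irreducible character for a pair of subgroups `A ≤ B` -/
theorem exists_fix_dims (χ : IrrCharacter G) (A B : Subgroup G) (hAB : A ≤ B)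
    [Fintype A] [Fintype B] :
    ∃ mA mB : ℕ, mB ≤ mA ∧ ∑ a : A, (χ : G → ℂ) a = (Nat.card A : ℂ) * mA ∧
      ∑ b : B, (χ : G → ℂ) b = (Nat.card B : ℂ) * mB := by
  obtain ⟨n, ρ, hirr, hρ⟩ := χ.2
  refine ⟨Module.finrank ℂ (fixSpace ρ A), Module.finrank ℂ (fixSpace ρ B),
    Submodule.finrank_mono (fixSpace_anti ρ hAB), ?_, ?_⟩
  · rw [card_mul_finrank_fixSpace ρ A, hρ]
  · rw [card_mul_finrank_fixSpace ρ B, hρ]

/-- a nontrivial power of an element of order `7` has order `7` -/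
theorem orderOf_mem_zpowers_seven (y : G) (hy : orderOf y = 7) (x : G)
    (hx : x ∈ Subgroup.zpowers y) (hx1 : x ≠ 1) : orderOf x = 7 := by
  have h1 : orderOf x ∣ 7 := by
    have := Subgroup.orderOf_dvd_natCard _ hx
    rwa [Nat.card_zpowers, hy] at this
  rcases (Nat.dvd_prime (by norm_num : Nat.Prime 7)).mp h1 with h | h
  · exact absurd (orderOf_eq_one_iff.mp h) hx1
  · exact h

/-- an element of order `3` centralizes no nontrivial power of an element of order `7` -/
theorem free_of_order_three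
    (h7 : ∀ y : G, orderOf y = 7 → Nat.card ↥(Subgroup.centralizer ({y} : Set G)) = 7)
    (y : G) (hy : orderOf y = 7) (q : G) (hq : orderOf q = 3) :
    ∀ x ∈ Subgroup.zpowers y, q * x * q⁻¹ = x → x = 1 := by
  intro x hx hc
  by_contra hx1
  have hox := orderOf_mem_zpowers_seven y hy x hx hx1
  have hmem : q ∈ Subgroup.centralizer ({x} : Set G) := by
    rw [Subgroup.mem_centralizer_singleton_iff]
    calc q * x = (q * x * q⁻¹) * q := by group
      _ = x * q := by rw [hc]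
  have hd := Subgroup.orderOf_dvd_natCard _ hmem
  rw [h7 x hox, hq] at hd
  omega

/-- the sum of a class function over the Frobenius group `<y><s>` of order `21` -/
theorem sum_frob21
    (h7 : ∀ y : G, orderOf y = 7 → Nat.card ↥(Subgroup.centralizer ({y} : Set G)) = 7)
    (y s : G) (hy : orderOf y = 7) (hs : orderOf s = 3)
    (hsN : s ∈ Subgroup.normalizer ((Subgroup.zpowers y : Subgroup G) : Set G)) :
    ∃ K : Subgroup G, Subgroup.zpowers y ≤ K ∧ Nat.card K = 21 ∧
      ∀ [Fintype K] (f : G → ℂ), IsClassFunction G f →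
        ∑ k : K, f k = ∑ j ∈ Finset.range 7, f (y ^ j) + 7 * f s + 7 * f (s ^ 2) := by
  classical
  have hQN : Subgroup.zpowers s ≤ Subgroup.normalizer ((Subgroup.zpowers y : Subgroup G) : Set G) := by
    rw [Subgroup.zpowers_le]; exact hsN
  have hTQ : ∀ g, g ∈ Subgroup.zpowers y → g ∈ Subgroup.zpowers s → g = 1 := by
    intro g hgT hgQ
    have h1 : orderOf g ∣ 7 := by
      have := Subgroup.orderOf_dvd_natCard _ hgT
      rwa [Nat.card_zpowers, hy] at this
    have h2 : orderOf g ∣ 3 := by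
      have := Subgroup.orderOf_dvd_natCard _ hgQ
      rwa [Nat.card_zpowers, hs] at this
    have h3 : orderOf g ∣ Nat.gcd 7 3 := Nat.dvd_gcd h1 h2
    have h4 : orderOf g = 1 := by
      have : Nat.gcd 7 3 = 1 := by norm_num
      rw [this] at h3
      exact Nat.dvd_one.mp h3
    exact orderOf_eq_one_iff.mp h4
  have hs2 : orderOf (s ^ 2) = 3 := by
    rw [Nat.Coprime.orderOf_pow (by rw [hs]; norm_num), hs]
  have hs2N : s ^ 2 ∈ Subgroup.normalizer ((Subgroup.zpowers y : Subgroup G) : Set G) :=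
    Subgroup.pow_mem _ hsN 2
  refine ⟨prodSub (Subgroup.zpowers y) (Subgroup.zpowers s) hQN,
    left_le_prodSub _ _ hQN, ?_, ?_⟩
  · rw [card_prodSub _ _ hQN hTQ, Nat.card_zpowers, Nat.card_zpowers, hy, hs]
  · intro inst f hf
    letI : Fintype ↥(Subgroup.zpowers y) := Fintype.ofFinite _
    letI : Fintype ↥(Subgroup.zpowers s) := Fintype.ofFinite _
    have hcardT : Fintype.card ↥(Subgroup.zpowers y) = 7 := by
      rw [← Nat.card_eq_fintype_card, Nat.card_zpowers, hy]
    have hcoset : ∀ q : G, q ∈ Subgroup.normalizer ((Subgroup.zpowers y : Subgroup G) : Set G) →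
        orderOf q = 3 → ∑ x : ↥(Subgroup.zpowers y), f ((x : G) * q) = 7 * f q := by
      intro q hqN hq
      have h1 : ∀ x : ↥(Subgroup.zpowers y), f ((x : G) * q) = f q := by
        intro x
        obtain ⟨c, -, hc⟩ := exists_conj_coset (Subgroup.zpowers y) q hqN
          (free_of_order_three h7 y hy q hq) (x : G) x.2
        rw [← hc]
        exact hf q c
      rw [Finset.sum_congr rfl (fun x _ => h1 x), Finset.sum_const, Finset.card_univ, hcardT]
      simp
    rw [sum_prodSub _ _ hQN hTQ f,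
      Cfsg.Agent.Lib.Helper13.FrobRep.sum_zpowers_eq_sum_range s
        (fun q => ∑ x : ↥(Subgroup.zpowers y), f ((x : G) * q)), hs]
    rw [Finset.sum_range_succ, Finset.sum_range_succ, Finset.sum_range_succ,
      Finset.sum_range_zero, zero_add, pow_zero, pow_one]
    rw [hcoset s hsN hs, hcoset (s ^ 2) hs2N hs2]
    simp only [mul_one]
    rw [Cfsg.Agent.Lib.Helper13.FrobRep.sum_zpowers_eq_sum_range y f, hy]


/-- the sum of a function over `<y>`, `y` of order `7` -/
theorem sum_range_seven {X : Type*} [AddCommMonoid X] (F : ℕ → X) :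
    ∑ j ∈ Finset.range 7, F j = F 0 + ∑ j ∈ Finset.range 6, F (j + 1) := by
  rw [Finset.sum_range_succ', add_comm]

/-- **(C-s7)**: in the `A7` pattern of the principal `7`-block, there is an element `s` of order `3`
(in the normalizer of a Sylow `7`-subgroup) with `x6 s = 0` and `x15 s = 0`. -/
theorem exists_s7 [IsSimpleGroup G] (hG : Nat.card G = 2520)
    (h7 : ∀ y : G, orderOf y = 7 → Nat.card ↥(Subgroup.centralizer ({y} : Set G)) = 7)
    (h21 : ∀ y : G, orderOf y = 7 →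
      Nat.card ↥(Subgroup.normalizer ((Subgroup.zpowers y : Subgroup G) : Set G)) = 21)
    {x15 x6 : IrrCharacter G} {Yf : Finset (IrrCharacter G)}
    (B : Blk7 x15 x6 Yf 15 1 6 (-1) 10 (-1)) :
    ∃ s : G, orderOf s = 3 ∧ (x6 : G → ℂ) s = 0 ∧ (x15 : G → ℂ) s = 0 := by
  classical
  haveI : Fact (Nat.Prime 7) := ⟨by norm_num⟩
  haveI : Fact (Nat.Prime 3) := ⟨by norm_num⟩
  obtain ⟨y, hy⟩ := exists_prime_orderOf_dvd_card' (G := G) 7 (by rw [hG]; norm_num)
  obtain ⟨s0, hs0⟩ := exists_prime_orderOf_dvd_card'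
    (G := ↥(Subgroup.normalizer ((Subgroup.zpowers y : Subgroup G) : Set G))) 3
    (by rw [h21 y hy]; norm_num)
  have hs : orderOf (s0 : G) = 3 := by rw [Subgroup.orderOf_coe]; exact hs0
  have hsN : (s0 : G) ∈ Subgroup.normalizer ((Subgroup.zpowers y : Subgroup G) : Set G) := s0.2
  generalize (s0 : G) = s at hs hsN
  obtain ⟨K, hTK, hK, hsum⟩ := sum_frob21 h7 y s hy hs hsN
  letI : Fintype ↥K := Fintype.ofFinite _
  letI : Fintype ↥(Subgroup.zpowers y) := Fintype.ofFinite _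
  have hcardT : Nat.card ↥(Subgroup.zpowers y) = 7 := by rw [Nat.card_zpowers, hy]
  have hu15 := B.unique2 (by norm_num) (by norm_num) (by norm_num) (by norm_num)
  have hu6 := B.unique3 (by norm_num) (by norm_num) (by norm_num) (by norm_num)
  obtain ⟨a, ha⟩ := int_of_unique x6 hu6 s
  obtain ⟨b, hb⟩ := int_of_unique x15 hu15 s
  have ha2 : (x6 : G → ℂ) (s ^ 2) = (a : ℂ) := by
    rw [pow_eq_of_unique x6 hu6 s 2 (by rw [hs]; norm_num), ha]
  have hb2 : (x15 : G → ℂ) (s ^ 2) = (b : ℂ) := by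
    rw [pow_eq_of_unique x15 hu15 s 2 (by rw [hs]; norm_num), hb]
  have hs2 : orderOf (s ^ 2) = 3 := by
    rw [Nat.Coprime.orderOf_pow (by rw [hs]; norm_num), hs]
  have hyj : ∀ j : ℕ, j < 6 → orderOf (y ^ (j + 1)) = 7 := by
    intro j hj
    rw [Nat.Coprime.orderOf_pow, hy]
    rw [hy]
    exact (Nat.Prime.coprime_iff_not_dvd (by norm_num)).mpr
      (Nat.not_dvd_of_pos_of_lt (by omega) (by omega))
  have hcl : ∀ χ : IrrCharacter G, IsClassFunction G (χ : G → ℂ) := fun χ =>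
    IsCharacter.isClassFunction (IsIrrCharacter.isCharacter χ.2)
  -- the character x6
  have ha0 : a = 0 := by
    obtain ⟨mT, mK, hle, hT6, hK6⟩ := exists_fix_dims x6 (Subgroup.zpowers y) K hTK
    rw [hsum (x6 : G → ℂ) (hcl x6), ha, ha2, hK] at hK6
    rw [Cfsg.Agent.Lib.Helper13.FrobRep.sum_zpowers_eq_sum_range y (x6 : G → ℂ), hy, hcardT]
      at hT6
    have hS : ∑ j ∈ Finset.range 7, (x6 : G → ℂ) (y ^ j) = 0 := by
      rw [sum_range_seven, pow_zero, B.apply_one_3]
      rw [Finset.sum_congr rfl (fun j hj => (B.v7 _ (hyj j (Finset.mem_range.mp hj))).2)]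
      rw [Finset.sum_const, Finset.card_range]
      push_cast
      norm_num
    rw [hS] at hT6 hK6
    have h1 : mT = 0 := by
      have h2 : 7 * mT = 0 := by exact_mod_cast hT6.symm
      omega
    have h2 : mK = 0 := by omega
    rw [h2] at hK6
    have h3 : ((14 * a : ℤ) : ℂ) = ((0 : ℤ) : ℂ) := by
      push_cast
      push_cast at hK6
      linear_combination hK6
    have h4 : 14 * a = 0 := by exact_mod_cast h3
    omega
  subst ha0
  -- the exceptional characters
  obtain ⟨η₁, η₂, hη12, hYeq⟩ := Finset.card_eq_two.mp B.cY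
  have hη₁ : η₁ ∈ Yf := by rw [hYeq]; simp
  have hη₂ : η₂ ∈ Yf := by rw [hYeq]; simp
  have hreg : ¬ 7 ∣ orderOf s := by rw [hs]; norm_num
  have hreg2 : ¬ 7 ∣ orderOf (s ^ 2) := by rw [hs2]; norm_num
  have hηs : ∀ η ∈ Yf, (η : G → ℂ) s = ((1 + b : ℤ) : ℂ) ∧
      (η : G → ℂ) (s ^ 2) = ((1 + b : ℤ) : ℂ) := by
    intro η hη
    rw [B.eta_eq hη s hreg, B.eta_eq hη (s ^ 2) hreg2, ha, hb, ha2, hb2]
    push_cast
    constructor <;> ring
  have hsumY : ∀ j : ℕ, j < 6 →
      (η₁ : G → ℂ) (y ^ (j + 1)) + (η₂ : G → ℂ) (y ^ (j + 1)) = -1 := by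
    intro j hj
    have h := B.sum_Y_7 (y ^ (j + 1)) (hyj j hj)
    rw [hYeq, Finset.sum_pair hη12] at h
    rw [h]
    push_cast
    rfl
  obtain ⟨mT1, mK1, hle1, hT1, hK1⟩ := exists_fix_dims η₁ (Subgroup.zpowers y) K hTK
  obtain ⟨mT2, mK2, hle2, hT2, hK2⟩ := exists_fix_dims η₂ (Subgroup.zpowers y) K hTK
  rw [hsum (η₁ : G → ℂ) (hcl η₁), (hηs η₁ hη₁).1, (hηs η₁ hη₁).2, hK] at hK1
  rw [hsum (η₂ : G → ℂ) (hcl η₂), (hηs η₂ hη₂).1, (hηs η₂ hη₂).2, hK] at hK2
  rw [Cfsg.Agent.Lib.Helper13.FrobRep.sum_zpowers_eq_sum_range y (η₁ : G → ℂ), hy, hcardT] at hT1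
  rw [Cfsg.Agent.Lib.Helper13.FrobRep.sum_zpowers_eq_sum_range y (η₂ : G → ℂ), hy, hcardT] at hT2
  have hS : ∑ j ∈ Finset.range 7, (η₁ : G → ℂ) (y ^ j) +
      ∑ j ∈ Finset.range 7, (η₂ : G → ℂ) (y ^ j) = 14 := by
    rw [sum_range_seven, sum_range_seven (fun j => (η₂ : G → ℂ) (y ^ j)), pow_zero,
      B.apply_one_Y hη₁, B.apply_one_Y hη₂]
    have : ∑ j ∈ Finset.range 6, (η₁ : G → ℂ) (y ^ (j + 1)) +
        ∑ j ∈ Finset.range 6, (η₂ : G → ℂ) (y ^ (j + 1)) = -6 := by
      rw [← Finset.sum_add_distrib,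
        Finset.sum_congr rfl (fun j hj => hsumY j (Finset.mem_range.mp hj)),
        Finset.sum_const, Finset.card_range]
      norm_num
    push_cast
    linear_combination this
  have hA : ((7 * (mT1 + mT2) : ℕ) : ℂ) = ((14 : ℕ) : ℂ) := by
    push_cast
    rw [← hS, hT1, hT2]
    push_cast
    ring
  have hA' : 7 * (mT1 + mT2) = 14 := by exact_mod_cast hA
  have hBc : ((21 * ((mK1 : ℤ) + mK2) : ℤ) : ℂ) = ((14 + 28 * (1 + b) : ℤ) : ℂ) := by
    push_cast
    push_cast at hK1 hK2 hS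
    linear_combination (-1 : ℂ) * hK1 - hK2 + hS
  have hB' : 21 * ((mK1 : ℤ) + mK2) = 14 + 28 * (1 + b) := by exact_mod_cast hBc
  have hb0 : b = 0 := by omega
  subst hb0
  exact ⟨s, hs, by rw [ha]; norm_num, by rw [hb]; norm_num⟩

end Cfsg.Agent.Lib.Helper1.A7Cs7
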