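import Mathlib

set_option autoImplicit false

/-! Local analysis in a simple group of order `2520 = 2^3 * 3^2 * 5 * 7` (part A): generic
lemmas. -/

namespace Cfsg.Agent.Lib.Helper1.A7Loc

open Subgroup

variable {G : Type*} [Group G]

/-- an element of prime order `q ≥ 5` normalizing a subgroup of order `9` centralizes it -/
theorem centralizes_of_normalizes_nine [Finite G] (S : Subgroup G) (hS : Nat.card S = 9)
    (q : ℕ) [hq : Fact q.Prime] (hq5 : 5 ≤ q) (y : G) (hy : y ∈ normalizer (S : Set G))
    (hyq : orderOf y = q) : ∀ s ∈ S, y * s = s * y := by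
  classical
  set y' : normalizer (S : Set G) := ⟨y, hy⟩ with hy'
  have hpg : IsPGroup q (zpowers y') :=
    IsPGroup.of_card (n := 1) (by rw [Nat.card_zpowers, hy', Subgroup.orderOf_mk, hyq, pow_one])
  have h1 := hpg.card_modEq_card_fixedPoints (S : Subgroup G)
  -- the fixed points are the subgroup of elements commuting with `y`
  have hfix : (MulAction.fixedPoints (zpowers y') (S : Subgroup G) : Set S) =
      (((centralizer ({y} : Set G)).subgroupOf S : Subgroup S) : Set S) := by
    ext s
    simp only [MulAction.mem_fixedPoints, SetLike.mem_coe, mem_subgroupOf,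
      mem_centralizer_singleton_iff]
    constructor
    · intro h
      have h2 := h ⟨y', mem_zpowers y'⟩
      have h3 : y * (s : G) * y⁻¹ = s := congrArg Subtype.val h2
      calc (s : G) * y = y * (s : G) * y⁻¹ * y := by rw [h3]
        _ = y * s := by group
    · intro h k
      obtain ⟨n, hn⟩ := mem_zpowers_iff.mp k.2
      apply Subtype.ext
      have hk : ((k : normalizer (S : Set G)) : G) = y ^ n := by
        rw [← hn]; simp [hy']
      change ((k : normalizer (S : Set G)) : G) * (s : G) * ((k : normalizer (S : Set G)) : G)⁻¹ = s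
      rw [hk]
      have hc : Commute (s : G) y := h
      rw [((hc.zpow_right n).eq).symm, mul_inv_cancel_right]
  have hcard : Nat.card (MulAction.fixedPoints (zpowers y') (S : Subgroup G)) =
      Nat.card ((centralizer ({y} : Set G)).subgroupOf S : Subgroup S) := by
    have := congrArg (fun t : Set S => Nat.card t) hfix
    exact this
  rw [hcard, hS] at h1
  have hd : Nat.card ((centralizer ({y} : Set G)).subgroupOf S : Subgroup S) ∣ 3 ^ 2 := by
    have := Subgroup.card_subgroup_dvd_card ((centralizer ({y} : Set G)).subgroupOf S)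
    rw [hS] at this
    exact this
  obtain ⟨k, hk, hkF⟩ := (Nat.dvd_prime_pow (by norm_num)).mp hd
  have hq2 := hq.out.two_le
  have hF9 : Nat.card ((centralizer ({y} : Set G)).subgroupOf S : Subgroup S) = 9 := by
    rw [hkF] at h1 ⊢
    interval_cases k
    · exfalso
      have h2 : q ∣ 9 - 1 := (Nat.modEq_iff_dvd' (by norm_num)).mp h1.symm
      have h3 : q ∣ 2 ^ 3 := by norm_num at h2 ⊢; exact h2
      have := (Nat.prime_dvd_prime_iff_eq hq.out Nat.prime_two).mp (hq.out.dvd_of_dvd_pow h3)
      omega
    · exfalso
      have h2 : q ∣ 9 - 3 := (Nat.modEq_iff_dvd' (by norm_num)).mp h1.symm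
      have h3 : q ∣ 2 * 3 := by norm_num at h2 ⊢; exact h2
      rcases (Nat.Prime.dvd_mul hq.out).mp h3 with h | h
      · have := (Nat.prime_dvd_prime_iff_eq hq.out Nat.prime_two).mp h
        omega
      · have := (Nat.prime_dvd_prime_iff_eq hq.out Nat.prime_three).mp h
        omega
    · norm_num
  have htop : ((centralizer ({y} : Set G)).subgroupOf S : Subgroup S) = ⊤ :=
    Subgroup.eq_top_of_card_eq _ (by rw [hF9, hS])
  intro s hs
  have : (⟨s, hs⟩ : S) ∈ ((centralizer ({y} : Set G)).subgroupOf S : Subgroup S) := by
    rw [htop]; trivial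
  rw [mem_subgroupOf, mem_centralizer_singleton_iff] at this
  exact this.symm

/-- Burnside's transfer theorem in a simple group: a Sylow subgroup central in its normalizer
is trivial or everything -/
theorem false_of_normalizer_le_centralizer [Finite G] [IsSimpleGroup G] {p : ℕ}
    [Fact p.Prime] (P : Sylow p G)
    (hP : normalizer ((P : Subgroup G) : Set G) ≤ centralizer ((P : Subgroup G) : Set G))
    (h1 : Nat.card (P : Subgroup G) ≠ 1) (h2 : Nat.card (P : Subgroup G) ≠ Nat.card G) :
    False := by
  have hc := MonoidHom.ker_transferSylow_isComplement' P hP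
  have hmul := hc.card_mul_card
  rcases (MonoidHom.normal_ker (MonoidHom.transferSylow P hP)).eq_bot_or_eq_top with h | h
  · rw [h, Subgroup.card_bot, one_mul] at hmul
    exact h2 hmul
  · rw [h, Subgroup.card_top] at hmul
    have hpos : 0 < Nat.card G := Nat.card_pos
    apply h1
    have : Nat.card G * Nat.card (P : Subgroup G) = Nat.card G * 1 := by rw [hmul, mul_one]
    exact Nat.eq_of_mul_eq_mul_left hpos this

end Cfsg.Agent.Lib.Helper1.A7Loc
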