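import Mathlib

set_option autoImplicit false

/-! Local analysis in a group of order `5616 = 2^4 * 3^3 * 13`: generic lemmas (part A). -/

namespace Cfsg.Agent.Lib.Helper1.L33Loc

open Subgroup

variable {G : Type*} [Group G]

/-- conjugate elements have centralizers of the same cardinality -/
theorem card_centralizer_conj (g x : G) :
    Nat.card (centralizer ({g * x * g⁻¹} : Set G)) = Nat.card (centralizer ({x} : Set G)) := by
  apply Nat.card_congr
  refine ⟨fun y => ⟨g⁻¹ * y.1 * g, ?_⟩, fun y => ⟨g * y.1 * g⁻¹, ?_⟩, ?_, ?_⟩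
  · have hy := y.2
    rw [mem_centralizer_singleton_iff] at hy ⊢
    have : g⁻¹ * (y.1 * (g * x * g⁻¹)) * g = g⁻¹ * ((g * x * g⁻¹) * y.1) * g := by rw [hy]
    calc g⁻¹ * y.1 * g * x = g⁻¹ * (y.1 * (g * x * g⁻¹)) * g := by group
      _ = g⁻¹ * ((g * x * g⁻¹) * y.1) * g := this
      _ = x * (g⁻¹ * y.1 * g) := by group
  · have hy := y.2
    rw [mem_centralizer_singleton_iff] at hy ⊢
    calc g * y.1 * g⁻¹ * (g * x * g⁻¹) = g * (y.1 * x) * g⁻¹ := by group
      _ = g * (x * y.1) * g⁻¹ := by rw [hy]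
      _ = g * x * g⁻¹ * (g * y.1 * g⁻¹) := by group
  · intro y; apply Subtype.ext; simp [mul_assoc]
  · intro y; apply Subtype.ext; simp [mul_assoc]

theorem card_centralizer_inv (x : G) :
    Nat.card (centralizer ({x⁻¹} : Set G)) = Nat.card (centralizer ({x} : Set G)) := by
  have : centralizer ({x⁻¹} : Set G) = centralizer ({x} : Set G) := by
    ext y
    rw [mem_centralizer_singleton_iff, mem_centralizer_singleton_iff]
    constructor
    · intro h
      have := (Commute.inv_right_iff (a := y) (b := x)).mp h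
      exact this
    · intro h
      exact (Commute.inv_right_iff (a := y) (b := x)).mpr h
  rw [this]

/-- in a group of order 27 with a central element `z` of order 3, commutators lie in `⟨z⟩` -/
theorem comm_mod_central [Finite G] (V : Subgroup G) (hV : Nat.card V = 27) (z : G) (hzV : z ∈ V)
    (hz3 : orderOf z = 3) (hzc : ∀ v ∈ V, v * z = z * v) :
    ∀ a ∈ V, ∀ b ∈ V, ∃ i : ℕ, a * b = b * a * z ^ i := by
  haveI : Fact (Nat.Prime 3) := ⟨by norm_num⟩
  have hNn : (zpowers (⟨z, hzV⟩ : V)).Normal := by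
    refine ⟨fun n hn g => ?_⟩
    obtain ⟨k, rfl⟩ := mem_zpowers_iff.mp hn
    have hc : Commute g (⟨z, hzV⟩ : V) := by
      apply Subtype.ext
      exact hzc g.1 g.2
    have : g * (⟨z, hzV⟩ : V) ^ k * g⁻¹ = (⟨z, hzV⟩ : V) ^ k := by
      rw [(hc.zpow_right k).eq, mul_inv_cancel_right]
    rw [this]
    exact zpow_mem_zpowers _ k
  have hNc : Nat.card (zpowers (⟨z, hzV⟩ : V)) = 3 := by
    rw [Nat.card_zpowers, Subgroup.orderOf_mk, hz3]
  have hq : Nat.card (V ⧸ zpowers (⟨z, hzV⟩ : V)) = 3 ^ 2 := by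
    have := Subgroup.card_eq_card_quotient_mul_card_subgroup (zpowers (⟨z, hzV⟩ : V))
    rw [hV, hNc] at this
    omega
  haveI := IsPGroup.isMulCommutative_of_card_eq_prime_sq hq
  intro a ha b hb
  have h1 := mul_comm' (QuotientGroup.mk (s := zpowers (⟨z, hzV⟩ : V)) (⟨b, hb⟩ : V))
    (QuotientGroup.mk (⟨a, ha⟩ : V))
  rw [← QuotientGroup.mk_mul, ← QuotientGroup.mk_mul, QuotientGroup.eq] at h1
  rw [← mem_powers_iff_mem_zpowers, Submonoid.mem_powers_iff] at h1
  obtain ⟨i, hi⟩ := h1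
  refine ⟨i, ?_⟩
  have h2 := congrArg (Subtype.val) hi
  simp only [Subgroup.coe_pow, Subgroup.coe_mul, Subgroup.coe_inv] at h2
  rw [h2]
  group

/-- an involution `r` normalizing `V` (order 27), centralizing the central `z` (order 3), whose
fixed points on `V` lie in `⟨z⟩`, inverts `V` modulo `⟨z⟩` -/
theorem inv_mod_central [Finite G] (V : Subgroup G) (hV : Nat.card V = 27) (z : G) (hzV : z ∈ V)
    (hz3 : orderOf z = 3) (hzc : ∀ v ∈ V, v * z = z * v)
    (r : G) (hr2 : r * r = 1) (hrV : ∀ v ∈ V, r * v * r⁻¹ ∈ V) (hrz : r * z = z * r)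
    (hfix : ∀ v ∈ V, r * v = v * r → v ∈ zpowers z) :
    ∀ v ∈ V, v * (r * v * r⁻¹) ∈ zpowers z := by
  intro v hv
  obtain ⟨j, hj⟩ := comm_mod_central V hV z hzV hz3 hzc (r * v * r⁻¹) (hrV v hv) v hv
  set w := v * (r * v * r⁻¹) with hw
  have hrr : r * (r * v * r⁻¹) * r⁻¹ = v := by
    have : r * (r * v * r⁻¹) * r⁻¹ = (r * r) * v * (r * r)⁻¹ := by group
    rw [this, hr2]; simp
  have h1 : r * w * r⁻¹ = w * z ^ j := by
    have : r * w * r⁻¹ = (r * v * r⁻¹) * (r * (r * v * r⁻¹) * r⁻¹) := by rw [hw]; group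
    rw [this, hrr, hj]
  have hcz : r * z ^ j * r⁻¹ = z ^ j := by
    have hc : Commute r z := hrz
    rw [(hc.pow_right j).eq, mul_inv_cancel_right]
  have h2 : r * (w * z ^ j) * r⁻¹ = w * z ^ j * z ^ j := by
    have : r * (w * z ^ j) * r⁻¹ = (r * w * r⁻¹) * (r * z ^ j * r⁻¹) := by group
    rw [this, h1, hcz]
  have h3 : r * (r * w * r⁻¹) * r⁻¹ = w := by
    have : r * (r * w * r⁻¹) * r⁻¹ = (r * r) * w * (r * r)⁻¹ := by group
    rw [this, hr2]; simp
  rw [h1, h2] at h3
  have h4 : z ^ (j + j) = 1 := by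
    rw [pow_add]
    have : w * (z ^ j * z ^ j) = w * 1 := by rw [mul_one, ← mul_assoc]; exact h3
    exact mul_left_cancel this
  have h5 : 3 ∣ j + j := by rw [← hz3]; exact orderOf_dvd_of_pow_eq_one h4
  have h6 : 3 ∣ j := by omega
  have h7 : z ^ j = 1 := by
    rw [← hz3] at h6
    exact orderOf_dvd_iff_pow_eq_one.mp h6
  rw [h7, mul_one] at h1
  apply hfix w (V.mul_mem hv (hrV v hv))
  calc r * w = r * w * r⁻¹ * r := by group
    _ = w * r := by rw [h1]

/-- if elements of order divisible by `6` have centralizers of order `6`, the fixed points of an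
involution `r ∈ C(z)` on a subgroup `V ≤ C(z)` of order `27` lie in `⟨z⟩` -/
theorem fix_le_zpowers [Finite G]
    (h6 : ∀ w : G, 6 ∣ orderOf w → Nat.card (centralizer ({w} : Set G)) = 6)
    (V : Subgroup G) (hV : Nat.card V = 27) (z : G) (hzV : z ∈ V)
    (hz3 : orderOf z = 3) (hzc : ∀ v ∈ V, v * z = z * v)
    (r : G) (hr2 : orderOf r = 2) (hrz : r * z = z * r) :
    ∀ v ∈ V, r * v = v * r → v ∈ zpowers z := by
  have hzr : orderOf (z * r) = 6 := by
    have hc : Commute z r := hrz.symm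
    rw [hc.orderOf_mul_eq_mul_orderOf_of_coprime (by rw [hz3, hr2]; norm_num), hz3, hr2]
  have hC := h6 (z * r) (by rw [hzr])
  have hF1 : V ⊓ centralizer ({r} : Set G) ≤ centralizer ({z * r} : Set G) := by
    intro v hv
    rw [Subgroup.mem_inf] at hv
    obtain ⟨hv1, hv2⟩ := hv
    rw [mem_centralizer_singleton_iff] at hv2
    rw [mem_centralizer_singleton_iff]
    have := hzc v hv1
    calc v * (z * r) = v * z * r := by group
      _ = z * (v * r) := by rw [this]; group
      _ = z * r * v := by rw [hv2]; group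
  have hd1 : Nat.card (V ⊓ centralizer ({r} : Set G) : Subgroup G) ∣ 27 := by
    rw [← hV]; exact Subgroup.card_dvd_of_le inf_le_left
  have hd2 : Nat.card (V ⊓ centralizer ({r} : Set G) : Subgroup G) ∣ 6 := by
    rw [← hC]; exact Subgroup.card_dvd_of_le hF1
  have hd3 : Nat.card (V ⊓ centralizer ({r} : Set G) : Subgroup G) ∣ 3 := by
    have := Nat.dvd_gcd hd1 hd2
    norm_num at this
    exact this
  have hle : zpowers z ≤ V ⊓ centralizer ({r} : Set G) := by
    rw [zpowers_le]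
    exact ⟨hzV, mem_centralizer_singleton_iff.mpr hrz.symm⟩
  have hzc3 : Nat.card (zpowers z) = 3 := by rw [Nat.card_zpowers, hz3]
  have heq : zpowers z = V ⊓ centralizer ({r} : Set G) := by
    apply Subgroup.eq_of_le_of_card_ge hle
    rw [hzc3]
    exact Nat.le_of_dvd (by norm_num) hd3
  intro v hv hrv
  rw [heq]
  exact ⟨hv, mem_centralizer_singleton_iff.mpr hrv.symm⟩

/-- structure of a subgroup of order `54`: a normal subgroup of order `27` containing all
squares, and an involution -/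
theorem exists_normal_of_card_54 [Finite G] (C : Subgroup G) (hC : Nat.card C = 54) :
    ∃ V : Subgroup G, Nat.card V = 27 ∧ V ≤ C ∧
      (∀ g ∈ C, ∀ v ∈ V, g * v * g⁻¹ ∈ V) ∧ (∀ y ∈ C, y ^ 2 ∈ V) ∧
      ∃ r ∈ C, orderOf r = 2 := by
  haveI : Fact (Nat.Prime 3) := ⟨by norm_num⟩
  haveI : Fact (Nat.Prime 2) := ⟨by norm_num⟩
  obtain ⟨K, hK⟩ := Sylow.exists_subgroup_card_pow_prime (G := C) 3 (n := 3)
    (by rw [hC]; norm_num)
  have hidx : K.index = 2 := by
    have := Subgroup.card_mul_index K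
    rw [hK, hC] at this
    omega
  haveI hKn : K.Normal := Subgroup.normal_of_index_eq_two hidx
  refine ⟨K.map C.subtype, ?_, ?_, ?_, ?_, ?_⟩
  · rw [Subgroup.card_map_of_injective C.subtype_injective, hK]; norm_num
  · exact Subgroup.map_subtype_le K
  · intro g hg v hv
    obtain ⟨v0, hv0, rfl⟩ := Subgroup.mem_map.mp hv
    refine Subgroup.mem_map.mpr ⟨(⟨g, hg⟩ : C) * v0 * (⟨g, hg⟩ : C)⁻¹, hKn.conj_mem v0 hv0 _, ?_⟩
    simp
  · intro y hy
    refine Subgroup.mem_map.mpr ⟨(⟨y, hy⟩ : C) ^ 2, Subgroup.sq_mem_of_index_two hidx _, ?_⟩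
    simp
  · obtain ⟨r, hr⟩ := exists_prime_orderOf_dvd_card' (G := C) 2 (by rw [hC]; norm_num)
    exact ⟨r.1, r.2, by rw [Subgroup.orderOf_coe]; exact hr⟩

/-- an element of odd order `n` whose square lies in `V` lies in `V` -/
theorem mem_of_sq_mem (V : Subgroup G) (y : G) (n : ℕ) (hn : y ^ (2 * n + 1) = 1)
    (hy : y ^ 2 ∈ V) : y ∈ V := by
  have h1 : y = (y ^ 2) ^ (n + 1) := by
    rw [← pow_mul]
    have : 2 * (n + 1) = (2 * n + 1) + 1 := by ring
    rw [this, pow_succ, hn, one_mul]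
  rw [h1]
  exact V.pow_mem hy _

/-- the package attached to an element `z` of order `3` with `|C(z)| = 54` -/
theorem typeA_package [Finite G]
    (h6 : ∀ w : G, 6 ∣ orderOf w → Nat.card (centralizer ({w} : Set G)) = 6)
    (z : G) (hz3 : orderOf z = 3) (hC : Nat.card (centralizer ({z} : Set G)) = 54) :
    ∃ V : Subgroup G, Nat.card V = 27 ∧ V ≤ centralizer ({z} : Set G) ∧ z ∈ V ∧
      (∀ g ∈ centralizer ({z} : Set G), ∀ v ∈ V, g * v * g⁻¹ ∈ V) ∧
      (∀ y ∈ centralizer ({z} : Set G), y ^ 2 ∈ V) ∧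
      ∃ r : G, orderOf r = 2 ∧ r * z = z * r ∧ (∀ v ∈ V, r * v = v * r → v ∈ zpowers z) ∧
        (∀ v ∈ V, v * (r * v * r⁻¹) ∈ zpowers z) := by
  obtain ⟨V, hV, hVC, hconj, hsq, r, hrC, hr2⟩ := exists_normal_of_card_54 _ hC
  have hzC : z ∈ centralizer ({z} : Set G) := by rw [mem_centralizer_singleton_iff]
  have hzV : z ∈ V := by
    apply mem_of_sq_mem V z 1 _ (hsq z hzC)
    have : z ^ 3 = 1 := by rw [← hz3]; exact pow_orderOf_eq_one z
    exact this
  have hzc : ∀ v ∈ V, v * z = z * v := fun v hv =>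
    mem_centralizer_singleton_iff.mp (hVC hv)
  have hrz : r * z = z * r := mem_centralizer_singleton_iff.mp hrC
  have hfix := fix_le_zpowers h6 V hV z hzV hz3 hzc r hr2 hrz
  have hrr : r * r = 1 := by rw [← pow_two, ← hr2]; exact pow_orderOf_eq_one r
  refine ⟨V, hV, hVC, hzV, hconj, hsq, r, hr2, hrz, hfix, ?_⟩
  exact inv_mod_central V hV z hzV hz3 hzc r hrr (fun v hv => hconj r hrC v hv) hrz hfix

theorem card_sylow_three [Finite G] [Fact (Nat.Prime 3)] (hord : Nat.card G = 5616)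
    (P : Sylow 3 G) : Nat.card (P : Subgroup G) = 27 := by
  rw [P.card_eq_multiplicity, hord]
  have e : (5616 : ℕ) = 3 ^ 3 * 208 := by norm_num
  have h0 : (208 : ℕ).factorization 3 = 0 :=
    Nat.factorization_eq_zero_of_not_dvd (by norm_num)
  rw [e, Nat.factorization_mul (by norm_num) (by norm_num), Finsupp.add_apply,
    Nat.Prime.factorization_pow (by norm_num), h0]
  simp

end Cfsg.Agent.Lib.Helper1.L33Loc
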