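import Mathlib
import Cfsg.Agent.Lib.Helper1.L33LocA

set_option autoImplicit false

/-! Local analysis in a group of order `5616`: there are no elements of order `9` (part B). -/

namespace Cfsg.Agent.Lib.Helper1.L33Loc

open Subgroup

variable {G : Type*} [Group G]

set_option maxRecDepth 100000 in
theorem arith_nine : ∀ k < 9, k ≠ 0 → ∃ j < 9, (k * j) % 9 = 3 := by decide

theorem no_order_nine [Finite G] (hG : Nat.card G = 5616)
    (h3 : ∀ x : G, orderOf x = 3 → Nat.card (centralizer ({x} : Set G)) = 54 ∨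
      Nat.card (centralizer ({x} : Set G)) ∣ 9)
    (h6 : ∀ w : G, 6 ∣ orderOf w → Nat.card (centralizer ({w} : Set G)) = 6)
    (x : G) : orderOf x ≠ 9 := by
  classical
  haveI : Fact (Nat.Prime 3) := ⟨by norm_num⟩
  intro hx
  have hx9 : x ^ 9 = 1 := by rw [← hx]; exact pow_orderOf_eq_one x
  set z := x ^ 3 with hz
  have hz3 : orderOf z = 3 := by
    rw [hz, orderOf_pow_of_dvd (by norm_num) (by rw [hx]; norm_num), hx]
  have hz1 : z ^ 3 = 1 := by rw [← hz3]; exact pow_orderOf_eq_one z
  have hxz : x * z = z * x := (pow_mul_comm' x 3).symm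
  have hxC : x ∈ centralizer ({z} : Set G) := mem_centralizer_singleton_iff.mpr hxz
  rcases h3 z hz3 with hA | hB
  · obtain ⟨V, hV, hVC, hzV, hconj, hsq, r, hr2, hrz, hfix, hinv⟩ := typeA_package h6 z hz3 hA
    have hxV : x ∈ V := mem_of_sq_mem V x 4 (by simpa using hx9) (hsq x hxC)
    obtain ⟨k, hk⟩ := mem_zpowers_iff.mp (hinv x hxV)
    have h1 : r * x * r⁻¹ = x⁻¹ * z ^ k := by rw [hk]; group
    have h2 : (r * x * r⁻¹) ^ 3 = z := by
      rw [conj_pow, ← hz, hrz, mul_inv_cancel_right]
    have hxz' : Commute x z := hxz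
    have hcomm : Commute x⁻¹ (z ^ k) := (hxz'.inv_left).zpow_right k
    have h3' : (x⁻¹ * z ^ k) ^ 3 = z⁻¹ := by
      rw [hcomm.mul_pow, inv_pow, ← hz, ← zpow_natCast (z ^ k), ← zpow_mul, mul_comm k,
        zpow_mul, zpow_natCast, hz1, one_zpow, mul_one]
    rw [h1, h3'] at h2
    have h4 : z ^ 2 = 1 := by
      rw [pow_two]
      nth_rewrite 1 [← h2]
      simp
    have := orderOf_dvd_of_pow_eq_one h4
    rw [hz3] at this
    norm_num at this
  · have hzx : zpowers x ≤ centralizer ({z} : Set G) := zpowers_le.mpr hxC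
    have hcx : Nat.card (zpowers x) = 9 := by rw [Nat.card_zpowers, hx]
    have h9 : Nat.card (centralizer ({z} : Set G)) = 9 :=
      Nat.dvd_antisymm hB (by rw [← hcx]; exact Subgroup.card_dvd_of_le hzx)
    have heq : zpowers x = centralizer ({z} : Set G) :=
      Subgroup.eq_of_le_of_card_ge hzx (by rw [hcx, h9])
    have hpg : IsPGroup 3 (zpowers x) := IsPGroup.of_card (n := 2) (by rw [hcx]; norm_num)
    obtain ⟨U, hU⟩ := hpg.exists_le_sylow
    have hxU : x ∈ (U : Subgroup G) := hU (mem_zpowers x)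
    have hUc := card_sylow_three hG U
    have hx1 : x ≠ 1 := by
      rintro rfl
      rw [orderOf_one] at hx
      norm_num at hx
    haveI : Nontrivial (U : Subgroup G) :=
      ⟨⟨⟨x, hxU⟩, 1, fun h => hx1 (congrArg Subtype.val h)⟩⟩
    haveI := IsPGroup.center_nontrivial U.2
    obtain ⟨c, hc⟩ := exists_ne (1 : center (U : Subgroup G))
    have hcc : ∀ u ∈ (U : Subgroup G), u * ((c.1 : (U : Subgroup G)) : G) = c.1 * u := by
      intro u hu
      have := Subgroup.mem_center_iff.mp c.2 ⟨u, hu⟩
      exact congrArg Subtype.val this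
    have hcz : ((c.1 : (U : Subgroup G)) : G) ∈ centralizer ({z} : Set G) := by
      rw [mem_centralizer_singleton_iff]
      have : Commute ((c.1 : (U : Subgroup G)) : G) x := (hcc x hxU).symm
      exact (this.pow_right 3).eq
    rw [← heq, mem_zpowers_iff_mem_range_orderOf, hx] at hcz
    obtain ⟨k, hk, hkc⟩ := Finset.mem_image.mp hcz
    have hk0 : k ≠ 0 := by
      rintro rfl
      apply hc
      apply Subtype.ext
      apply Subtype.ext
      simpa using hkc.symm
    obtain ⟨j, -, hj⟩ := arith_nine k (Finset.mem_range.mp hk) hk0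
    have hzc : z = ((c.1 : (U : Subgroup G)) : G) ^ j := by
      rw [← hkc, ← pow_mul, ← pow_mod_orderOf, hx, hj]
    have hUle : (U : Subgroup G) ≤ centralizer ({z} : Set G) := by
      intro u hu
      rw [mem_centralizer_singleton_iff, hzc]
      have hcu : Commute u ((c.1 : (U : Subgroup G)) : G) := hcc u hu
      exact (hcu.pow_right j).eq
    have := Subgroup.card_dvd_of_le hUle
    rw [hUc, h9] at this
    norm_num at this

end Cfsg.Agent.Lib.Helper1.L33Loc
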