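import Mathlib
import Cfsg.Agent.Lib.Helper1.L33LocB

set_option autoImplicit false

/-! Local analysis in a group of order `5616`: the Sylow `3`-subgroups (part C). -/

namespace Cfsg.Agent.Lib.Helper1.L33Loc

open Subgroup

variable {G : Type*} [Group G]

/-- an element of order `3` whose centralizer has order divisible by `27` or by `2` is of
type A (centralizer of order `54`) -/
theorem card_centralizer_of_dvd
    (h3 : ∀ x : G, orderOf x = 3 → Nat.card (centralizer ({x} : Set G)) = 54 ∨
      Nat.card (centralizer ({x} : Set G)) ∣ 9)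
    (x : G) (hx : orderOf x = 3)
    (h : 27 ∣ Nat.card (centralizer ({x} : Set G)) ∨ 2 ∣ Nat.card (centralizer ({x} : Set G))) :
    Nat.card (centralizer ({x} : Set G)) = 54 := by
  rcases h3 x hx with h1 | h1
  · exact h1
  · exfalso
    rcases h with h | h
    · have := h.trans h1
      norm_num at this
    · have := h.trans h1
      norm_num at this

theorem sylow_exponent [Finite G] (hG : Nat.card G = 5616)
    (h3 : ∀ x : G, orderOf x = 3 → Nat.card (centralizer ({x} : Set G)) = 54 ∨
      Nat.card (centralizer ({x} : Set G)) ∣ 9)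
    (h6 : ∀ w : G, 6 ∣ orderOf w → Nat.card (centralizer ({w} : Set G)) = 6)
    (U : Sylow 3 G) : ∀ u ∈ (U : Subgroup G), u ^ 3 = 1 := by
  haveI : Fact (Nat.Prime 3) := ⟨by norm_num⟩
  intro u hu
  have hUc := card_sylow_three hG U
  have hd : orderOf u ∣ 3 ^ 3 := by
    have := Subgroup.orderOf_dvd_natCard _ hu
    rw [hUc] at this
    exact this
  obtain ⟨k, hk, hku⟩ := (Nat.dvd_prime_pow (by norm_num)).mp hd
  interval_cases k
  · rw [pow_zero, orderOf_eq_one_iff] at hku
    rw [hku, one_pow]
  · rw [pow_one] at hku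
    rw [← hku]; exact pow_orderOf_eq_one u
  · exact absurd hku (no_order_nine hG h3 h6 u)
  · exfalso
    apply no_order_nine hG h3 h6 (u ^ 3)
    rw [orderOf_pow_of_dvd (by norm_num) (by rw [hku]; norm_num), hku]
    norm_num

theorem centralizer_one_card [Finite G] :
    Nat.card (centralizer ({1} : Set G)) = Nat.card G := by
  have : centralizer ({1} : Set G) = ⊤ := by
    ext y
    simp [mem_centralizer_singleton_iff]
  rw [this, Subgroup.card_top]

theorem sylow_data [Finite G] (hG : Nat.card G = 5616)
    (h3 : ∀ x : G, orderOf x = 3 → Nat.card (centralizer ({x} : Set G)) = 54 ∨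
      Nat.card (centralizer ({x} : Set G)) ∣ 9)
    (h6 : ∀ w : G, 6 ∣ orderOf w → Nat.card (centralizer ({w} : Set G)) = 6)
    (hU : ∀ U : Subgroup G, Nat.card U = 27 → (∀ u ∈ U, u ^ 3 = 1) →
      Nat.card {x : G // x ∈ U ∧ Nat.card (centralizer ({x} : Set G)) = 54} = 5 ∨
      Nat.card {x : G // x ∈ U ∧ Nat.card (centralizer ({x} : Set G)) = 54} = 14)
    (U : Sylow 3 G) :
    Nat.card (U : Subgroup G) = 27 ∧ (∀ u ∈ (U : Subgroup G), u ^ 3 = 1) ∧
      ∃ z : G, z ∈ (U : Subgroup G) ∧ orderOf z = 3 ∧
        (∀ u ∈ (U : Subgroup G), u * z = z * u) ∧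
        (∀ x ∈ (U : Subgroup G), (∀ y ∈ (U : Subgroup G), x * y = y * x) → x ∈ zpowers z) ∧
        Nat.card (centralizer ({z} : Set G)) = 54 := by
  classical
  haveI : Fact (Nat.Prime 3) := ⟨by norm_num⟩
  have hUc := card_sylow_three hG U
  have hexp := sylow_exponent hG h3 h6 U
  refine ⟨hUc, hexp, ?_⟩
  -- type A for elements centralized by `U`
  have hA : ∀ x ∈ (U : Subgroup G), x ≠ 1 → (∀ y ∈ (U : Subgroup G), y * x = x * y) →
      Nat.card (centralizer ({x} : Set G)) = 54 := by
    intro x hx hx1 hxc
    have hx3 : orderOf x = 3 := orderOf_eq_prime (hexp x hx) hx1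
    apply card_centralizer_of_dvd h3 x hx3
    left
    rw [← hUc]
    apply Subgroup.card_dvd_of_le
    intro y hy
    exact mem_centralizer_singleton_iff.mpr (hxc y hy)
  -- `U` is not abelian
  have hnab : ¬ ∀ a b : (U : Subgroup G), a * b = b * a := by
    intro hab
    have hset : {x : G | x ∈ (U : Subgroup G) ∧ Nat.card (centralizer ({x} : Set G)) = 54} =
        ((U : Subgroup G) : Set G) \ {1} := by
      ext x
      simp only [Set.mem_ofPred_eq, Set.mem_sdiff, SetLike.mem_coe, Set.mem_singleton_iff]
      constructor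
      · rintro ⟨hx, hc⟩
        refine ⟨hx, ?_⟩
        rintro rfl
        rw [centralizer_one_card, hG] at hc
        norm_num at hc
      · rintro ⟨hx, hx1⟩
        refine ⟨hx, hA x hx hx1 ?_⟩
        intro y hy
        exact congrArg Subtype.val (hab ⟨y, hy⟩ ⟨x, hx⟩)
    have hcount : Nat.card {x : G // x ∈ (U : Subgroup G) ∧
        Nat.card (centralizer ({x} : Set G)) = 54} = 26 := by
      change Nat.card ↑{x : G | x ∈ (U : Subgroup G) ∧
        Nat.card (centralizer ({x} : Set G)) = 54} = 26
      rw [Nat.card_coe_set_eq, hset, Set.ncard_sdiff_singleton_of_mem (Subgroup.one_mem _),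
        ← Nat.card_coe_set_eq]
      change Nat.card (U : Subgroup G) - 1 = 26
      rw [hUc]
    rcases hU (U : Subgroup G) hUc hexp with h | h <;> rw [hcount] at h <;> norm_num at h
  -- the center of `U` has order `3`
  have hZd : Nat.card (center (U : Subgroup G)) ∣ 3 ^ 3 := by
    have := Subgroup.card_subgroup_dvd_card (center (U : Subgroup G))
    rw [hUc] at this
    exact this
  haveI : Nontrivial (U : Subgroup G) := by
    rw [← Finite.one_lt_card_iff_nontrivial, hUc]
    norm_num
  haveI hZnt := IsPGroup.center_nontrivial U.2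
  have hZ3 : Nat.card (center (U : Subgroup G)) = 3 := by
    obtain ⟨k, hk, hkZ⟩ := (Nat.dvd_prime_pow (by norm_num)).mp hZd
    interval_cases k
    · exfalso
      rw [pow_zero] at hkZ
      have := (Finite.one_lt_card_iff_nontrivial (α := center (U : Subgroup G))).mpr hZnt
      omega
    · simpa using hkZ
    · exfalso
      apply hnab
      have hq : Nat.card ((U : Subgroup G) ⧸ center (U : Subgroup G)) = 3 := by
        have := Subgroup.card_eq_card_quotient_mul_card_subgroup (center (U : Subgroup G))
        rw [hUc, hkZ] at this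
        omega
      haveI : Fact (Nat.card ((U : Subgroup G) ⧸ center (U : Subgroup G))).Prime :=
        ⟨by rw [hq]; norm_num⟩
      haveI : IsCyclic ((U : Subgroup G) ⧸ center (U : Subgroup G)) :=
        isCyclic_of_prime_card rfl
      haveI := MonoidHom.isMulCommutative_of_isCyclic_of_ker_le_center
        (QuotientGroup.mk' (center (U : Subgroup G))) (by rw [QuotientGroup.ker_mk'])
      exact fun a b => mul_comm' a b
    · exfalso
      apply hnab
      have htop : center (U : Subgroup G) = ⊤ := by
        apply Subgroup.eq_top_of_card_eq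
        rw [hkZ, hUc]
        norm_num
      intro a b
      have : b ∈ center (U : Subgroup G) := by rw [htop]; trivial
      exact Subgroup.mem_center_iff.mp this a
  obtain ⟨c, hc⟩ := exists_ne (1 : center (U : Subgroup G))
  have hcc : ∀ u ∈ (U : Subgroup G), u * ((c.1 : (U : Subgroup G)) : G) = c.1 * u := by
    intro u hu
    have := Subgroup.mem_center_iff.mp c.2 ⟨u, hu⟩
    exact congrArg Subtype.val this
  have hc1 : ((c.1 : (U : Subgroup G)) : G) ≠ 1 := by
    intro h
    apply hc
    apply Subtype.ext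
    apply Subtype.ext
    simpa using h
  have hcU : ((c.1 : (U : Subgroup G)) : G) ∈ (U : Subgroup G) := c.1.2
  have hc3 : orderOf ((c.1 : (U : Subgroup G)) : G) = 3 := orderOf_eq_prime (hexp _ hcU) hc1
  refine ⟨_, hcU, hc3, hcc, ?_, hA _ hcU hc1 hcc⟩
  intro x hx hxc
  have hxZ : (⟨x, hx⟩ : (U : Subgroup G)) ∈ center (U : Subgroup G) := by
    rw [Subgroup.mem_center_iff]
    intro g
    apply Subtype.ext
    exact (hxc g.1 g.2).symm
  have hzle : zpowers (c.1 : (U : Subgroup G)) ≤ center (U : Subgroup G) :=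
    zpowers_le.mpr c.2
  have heq : zpowers (c.1 : (U : Subgroup G)) = center (U : Subgroup G) := by
    apply Subgroup.eq_of_le_of_card_ge hzle
    rw [hZ3, Nat.card_zpowers, ← Subgroup.orderOf_coe, hc3]
  rw [← heq] at hxZ
  obtain ⟨k, hk⟩ := mem_zpowers_iff.mp hxZ
  refine mem_zpowers_iff.mpr ⟨k, ?_⟩
  have := congrArg Subtype.val hk
  simpa using this

end Cfsg.Agent.Lib.Helper1.L33Loc
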