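import Mathlib
import Cfsg.Agent.Lib.Helper1.L33LocC

set_option autoImplicit false

/-! Local analysis in a group of order `5616`: the normalizer of a Sylow `3`-subgroup has
order `108` (part D). -/

namespace Cfsg.Agent.Lib.Helper1.L33Loc

open Subgroup

variable {G : Type*} [Group G]

/-- the subgroup `V` of `typeA_package` is any subgroup of order `27` and exponent `3` inside
`C(z)`; in particular `C(z)` normalizes it -/
theorem centralizer_le_normalizer_of_card [Finite G]
    (U : Subgroup G) (hU27 : Nat.card U = 27) (hexp : ∀ u ∈ U, u ^ 3 = 1)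
    (z : G) (hzc : ∀ u ∈ U, u * z = z * u)
    (hCz : Nat.card (centralizer ({z} : Set G)) = 54) :
    centralizer ({z} : Set G) ≤ normalizer (U : Set G) := by
  obtain ⟨V, hV, hVC, hconj, hsq, -⟩ := exists_normal_of_card_54 _ hCz
  have hUV : U ≤ V := by
    intro u hu
    exact mem_of_sq_mem V u 1 (hexp u hu) (hsq u (mem_centralizer_singleton_iff.mpr (hzc u hu)))
  have hUeq : U = V := Subgroup.eq_of_le_of_card_ge hUV (by rw [hV, hU27])
  intro g hg
  rw [mem_normalizer_iff]
  intro h
  constructor
  · intro hh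
    rw [hUeq] at hh ⊢
    exact hconj g hg h hh
  · intro hh
    rw [hUeq] at hh ⊢
    have := hconj g⁻¹ (inv_mem hg) _ hh
    simpa [mul_assoc] using this

/-- the normalizer of `U` acts on `Z(U) = ⟨z⟩` -/
theorem conj_mem_zpowers_of_mem_normalizer (U : Subgroup G) (z : G) (hzU : z ∈ U)
    (hzc : ∀ u ∈ U, u * z = z * u)
    (hZ : ∀ x ∈ U, (∀ y ∈ U, x * y = y * x) → x ∈ zpowers z)
    (g : G) (hg : g ∈ normalizer (U : Set G)) : g * z * g⁻¹ ∈ zpowers z := by
  apply hZ _ ((mem_normalizer_iff.mp hg z).mp hzU)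
  intro y hy
  have hy' : g⁻¹ * y * g⁻¹⁻¹ ∈ U := (mem_normalizer_iff.mp (inv_mem hg) y).mp hy
  have h1 := hzc _ hy'
  have h2 : g * (g⁻¹ * y * g⁻¹⁻¹ * z) * g⁻¹ = g * (z * (g⁻¹ * y * g⁻¹⁻¹)) * g⁻¹ := by rw [h1]
  calc g * z * g⁻¹ * y = g * (z * (g⁻¹ * y * g⁻¹⁻¹)) * g⁻¹ := by group
    _ = g * (g⁻¹ * y * g⁻¹⁻¹ * z) * g⁻¹ := h2.symm
    _ = y * (g * z * g⁻¹) := by group

theorem eq_or_eq_inv_of_mem_zpowers [Finite G] (z : G) (hz3 : orderOf z = 3) (y : G)
    (hy : y ∈ zpowers z) (hy1 : y ≠ 1) : y = z ∨ y = z⁻¹ := by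
  classical
  rw [mem_zpowers_iff_mem_range_orderOf, hz3] at hy
  obtain ⟨k, hk, rfl⟩ := Finset.mem_image.mp hy
  have hk' := Finset.mem_range.mp hk
  have hz1 : z ^ 3 = 1 := by rw [← hz3]; exact pow_orderOf_eq_one z
  interval_cases k
  · simp at hy1
  · left; simp
  · right
    apply eq_inv_of_mul_eq_one_left
    rw [← pow_succ]
    exact hz1

theorem centralizer_zpowers_eq (z : G) :
    centralizer ((zpowers z : Subgroup G) : Set G) = centralizer ({z} : Set G) := by
  ext y
  rw [mem_centralizer_singleton_iff, mem_centralizer_iff]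
  constructor
  · intro h
    exact (h z (mem_zpowers z)).symm
  · intro h w hw
    obtain ⟨k, rfl⟩ := mem_zpowers_iff.mp hw
    have hc : Commute y z := h
    exact ((hc.zpow_right k).eq).symm

/-- `|N(⟨z⟩)|` is `54` or `108` when `|C(z)| = 54`, `z` of order `3`, `|G| = 5616` -/
theorem card_normalizer_zpowers [Finite G] (hG : Nat.card G = 5616) (z : G)
    (hz3 : orderOf z = 3) (hCz : Nat.card (centralizer ({z} : Set G)) = 54) :
    Nat.card (normalizer ((zpowers z : Subgroup G) : Set G)) = 54 ∨
      Nat.card (normalizer ((zpowers z : Subgroup G) : Set G)) = 108 := by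
  have key := card_dvd_of_injective _
    (QuotientGroup.kerLift_injective (zpowers z).normalizerMonoidHom)
  rw [normalizerMonoidHom_ker, ← index, ← relIndex, IsCyclic.card_mulAut, Nat.card_zpowers, hz3,
    Nat.totient_prime (by norm_num), centralizer_zpowers_eq] at key
  have hle : centralizer ({z} : Set G) ≤ normalizer ((zpowers z : Subgroup G) : Set G) := by
    rw [← centralizer_zpowers_eq]
    exact centralizer_le_normalizer _
  have h1 := relIndex_mul_index hle
  have h2 := Subgroup.card_mul_index (centralizer ({z} : Set G))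
  have h3 := Subgroup.card_mul_index (normalizer ((zpowers z : Subgroup G) : Set G))
  rw [hCz, hG] at h2
  rw [hG] at h3
  have hCi : (centralizer ({z} : Set G)).index = 104 := by omega
  rw [hCi] at h1
  have hr : (centralizer ({z} : Set G)).relIndex
      (normalizer ((zpowers z : Subgroup G) : Set G)) = 1 ∨
      (centralizer ({z} : Set G)).relIndex
      (normalizer ((zpowers z : Subgroup G) : Set G)) = 2 := by
    have := Nat.le_of_dvd (by norm_num) key
    have h0 : (centralizer ({z} : Set G)).relIndex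
      (normalizer ((zpowers z : Subgroup G) : Set G)) ≠ 0 := by
      intro h0
      rw [h0] at key
      norm_num at key
    omega
  rcases hr with hr | hr <;> rw [hr] at h1
  · left
    have : (normalizer ((zpowers z : Subgroup G) : Set G)).index = 104 := by omega
    rw [this] at h3
    omega
  · right
    have : (normalizer ((zpowers z : Subgroup G) : Set G)).index = 52 := by omega
    rw [this] at h3
    omega

/-- the normalizer of a Sylow `3`-subgroup has order `108` -/
theorem card_normalizer_sylow_three [Finite G] (hG : Nat.card G = 5616)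
    (U : Sylow 3 G) (hU27 : Nat.card (U : Subgroup G) = 27)
    (hexp : ∀ u ∈ (U : Subgroup G), u ^ 3 = 1)
    (z : G) (hzU : z ∈ (U : Subgroup G)) (hz3 : orderOf z = 3)
    (hzc : ∀ u ∈ (U : Subgroup G), u * z = z * u)
    (hZ : ∀ x ∈ (U : Subgroup G), (∀ y ∈ (U : Subgroup G), x * y = y * x) → x ∈ zpowers z)
    (hCz : Nat.card (centralizer ({z} : Set G)) = 54) :
    Nat.card (normalizer ((U : Subgroup G) : Set G)) = 108 := by
  haveI : Fact (Nat.Prime 3) := ⟨by norm_num⟩
  have h1 : centralizer ({z} : Set G) ≤ normalizer ((U : Subgroup G) : Set G) :=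
    centralizer_le_normalizer_of_card _ hU27 hexp z hzc hCz
  have h2 : normalizer ((U : Subgroup G) : Set G) ≤
      normalizer ((zpowers z : Subgroup G) : Set G) := by
    intro g hg
    have hgz : ∀ g ∈ normalizer ((U : Subgroup G) : Set G), ∀ w ∈ zpowers z,
        g * w * g⁻¹ ∈ zpowers z := by
      intro g hg w hw
      obtain ⟨k, rfl⟩ := mem_zpowers_iff.mp hw
      have : g * z ^ k * g⁻¹ = (g * z * g⁻¹) ^ k := by rw [conj_zpow]
      rw [this]
      exact zpow_mem (conj_mem_zpowers_of_mem_normalizer _ z hzU hzc hZ g hg) k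
    rw [mem_normalizer_iff]
    intro w
    constructor
    · exact hgz g hg w
    · intro hw
      have := hgz g⁻¹ (inv_mem hg) _ hw
      simpa [mul_assoc] using this
  have d1 := Subgroup.card_dvd_of_le h1
  have d2 := Subgroup.card_dvd_of_le h2
  rw [hCz] at d1
  have hidx : Nat.card (Sylow 3 G) = (normalizer ((U : Subgroup G) : Set G)).index :=
    Sylow.card_eq_index_normalizer U
  have hmod : Nat.card (Sylow 3 G) ≡ 1 [MOD 3] := card_sylow_modEq_one 3 G
  have hmul := Subgroup.card_mul_index (normalizer ((U : Subgroup G) : Set G))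
  rw [hG, ← hidx] at hmul
  have hcases : Nat.card (normalizer ((U : Subgroup G) : Set G)) = 54 ∨
      Nat.card (normalizer ((U : Subgroup G) : Set G)) = 108 := by
    rcases card_normalizer_zpowers hG z hz3 hCz with h | h <;> rw [h] at d2
    · left; exact Nat.dvd_antisymm d2 d1
    · obtain ⟨a, ha⟩ := d1
      obtain ⟨b, hb⟩ := d2
      rw [ha] at hb ⊢
      have : a * b = 2 := by nlinarith
      have ha2 : a ∣ 2 := ⟨b, this.symm⟩
      have := Nat.le_of_dvd (by norm_num) ha2
      interval_cases a
      · omega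
      · left; rfl
      · right; rfl
  rcases hcases with h | h
  · exfalso
    rw [h] at hmul
    have : Nat.card (Sylow 3 G) = 104 := by omega
    rw [this] at hmod
    exact absurd hmod (by decide)
  · exact h

end Cfsg.Agent.Lib.Helper1.L33Loc
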