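import Mathlib
import Cfsg.Agent.Lib.Helper1.A7LocA
import Cfsg.Agent.Lib.Helper1.L33LocD

set_option autoImplicit false

/-! Local analysis in a simple group of order `2520` (part B): Sylow subgroups of prime order,
no elements of order `15`. -/

namespace Cfsg.Agent.Lib.Helper1.A7Loc

open Subgroup Cfsg.Agent.Lib.Helper1.L33Loc

variable {G : Type*} [Group G]

theorem card_sylow_five [Finite G] [Fact (Nat.Prime 5)] (hord : Nat.card G = 2520)
    (P : Sylow 5 G) : Nat.card (P : Subgroup G) = 5 := by
  rw [P.card_eq_multiplicity, hord]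
  have e : (2520 : ℕ) = 5 * 504 := by norm_num
  have h0 : (504 : ℕ).factorization 5 = 0 :=
    Nat.factorization_eq_zero_of_not_dvd (by norm_num)
  rw [e, Nat.factorization_mul (by norm_num) (by norm_num), Finsupp.add_apply,
    Nat.Prime.factorization_self (by norm_num), h0]
  norm_num

theorem card_sylow_seven [Finite G] [Fact (Nat.Prime 7)] (hord : Nat.card G = 2520)
    (P : Sylow 7 G) : Nat.card (P : Subgroup G) = 7 := by
  rw [P.card_eq_multiplicity, hord]
  have e : (2520 : ℕ) = 7 * 360 := by norm_num
  have h0 : (360 : ℕ).factorization 7 = 0 :=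
    Nat.factorization_eq_zero_of_not_dvd (by norm_num)
  rw [e, Nat.factorization_mul (by norm_num) (by norm_num), Finsupp.add_apply,
    Nat.Prime.factorization_self (by norm_num), h0]
  norm_num

theorem card_sylow_three [Finite G] [Fact (Nat.Prime 3)] (hord : Nat.card G = 2520)
    (P : Sylow 3 G) : Nat.card (P : Subgroup G) = 9 := by
  rw [P.card_eq_multiplicity, hord]
  have e : (2520 : ℕ) = 3 ^ 2 * 280 := by norm_num
  have h0 : (280 : ℕ).factorization 3 = 0 :=
    Nat.factorization_eq_zero_of_not_dvd (by norm_num)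
  rw [e, Nat.factorization_mul (by norm_num) (by norm_num), Finsupp.add_apply,
    Nat.Prime.factorization_pow (by norm_num), h0]
  simp

theorem card_sylow_two [Finite G] [Fact (Nat.Prime 2)] (hord : Nat.card G = 2520)
    (P : Sylow 2 G) : Nat.card (P : Subgroup G) = 8 := by
  rw [P.card_eq_multiplicity, hord]
  have e : (2520 : ℕ) = 2 ^ 3 * 315 := by norm_num
  have h0 : (315 : ℕ).factorization 2 = 0 :=
    Nat.factorization_eq_zero_of_not_dvd (by norm_num)
  rw [e, Nat.factorization_mul (by norm_num) (by norm_num), Finsupp.add_apply,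
    Nat.Prime.factorization_pow (by norm_num), h0]
  simp

/-- a Sylow subgroup of prime order `p` generated by `x`: `C(P) = C(x) ≤ N(P)` and
`|N(P) : C(x)|` divides `p - 1` -/
theorem normalizer_data_of_prime [Finite G] (p : ℕ) [hp : Fact p.Prime] (P : Sylow p G)
    (hP : Nat.card (P : Subgroup G) = p) (x : G) (hx : x ∈ (P : Subgroup G)) (hx1 : x ≠ 1) :
    (P : Subgroup G) = zpowers x ∧
      centralizer ((P : Subgroup G) : Set G) = centralizer ({x} : Set G) ∧
      centralizer ({x} : Set G) ≤ normalizer ((P : Subgroup G) : Set G) ∧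
      (centralizer ({x} : Set G)).relIndex (normalizer ((P : Subgroup G) : Set G)) ∣ p - 1 := by
  have hxo : orderOf x = p := by
    have h1 : orderOf x ∣ p := by rw [← hP]; exact Subgroup.orderOf_dvd_natCard _ hx
    rcases (Nat.dvd_prime hp.out).mp h1 with h | h
    · exact absurd (orderOf_eq_one_iff.mp h) hx1
    · exact h
  have hz : zpowers x = (P : Subgroup G) := by
    apply Subgroup.eq_of_le_of_card_ge (zpowers_le.mpr hx)
    rw [Nat.card_zpowers, hxo, hP]
  have hC : centralizer ((P : Subgroup G) : Set G) = centralizer ({x} : Set G) := by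
    rw [← hz]; exact centralizer_zpowers_eq x
  haveI : Fact (Nat.card (P : Subgroup G)).Prime := ⟨by rw [hP]; exact hp.out⟩
  have hcyc : IsCyclic (P : Subgroup G) := isCyclic_of_prime_card rfl
  have key := card_dvd_of_injective _
    (QuotientGroup.kerLift_injective (P : Subgroup G).normalizerMonoidHom)
  rw [normalizerMonoidHom_ker, ← index, ← relIndex, hcyc.card_mulAut, hP,
    Nat.totient_prime hp.out, hC] at key
  refine ⟨hz.symm, hC, ?_, key⟩
  rw [← hC]
  exact centralizer_le_normalizer _

set_option maxRecDepth 100000 in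
theorem arith_45 : ∀ c ≤ 45, 45 % c = 0 → c % 15 = 0 → c = 0 ∨ c = 15 ∨ c = 45 := by decide

/-- in a simple group of order `2520` with `|C(t)| = 24` for involutions and `|C(y)| = 7` for
elements of order `7`, no element of order `5` commutes with an element of order `3` -/
theorem not_three_dvd_centralizer_five [Finite G] [IsSimpleGroup G] (hG : Nat.card G = 2520)
    (h2 : ∀ t : G, orderOf t = 2 → Nat.card (centralizer ({t} : Set G)) = 24)
    (h7 : ∀ y : G, orderOf y = 7 → Nat.card (centralizer ({y} : Set G)) = 7)
    (x : G) (hx : orderOf x = 5) : ¬ 3 ∣ Nat.card (centralizer ({x} : Set G)) := by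
  haveI : Fact (Nat.Prime 2) := ⟨by norm_num⟩
  haveI : Fact (Nat.Prime 5) := ⟨by norm_num⟩
  haveI : Fact (Nat.Prime 7) := ⟨by norm_num⟩
  intro h3
  have hx1 : x ≠ 1 := by
    rintro rfl
    rw [orderOf_one] at hx
    norm_num at hx
  have hxC : x ∈ centralizer ({x} : Set G) := by rw [mem_centralizer_singleton_iff]
  have h5 : 5 ∣ Nat.card (centralizer ({x} : Set G)) := by
    rw [← hx]; exact Subgroup.orderOf_dvd_natCard _ hxC
  have hn7 : ¬ 7 ∣ Nat.card (centralizer ({x} : Set G)) := by
    intro h
    obtain ⟨y, hy⟩ := exists_prime_orderOf_dvd_card' (G := centralizer ({x} : Set G)) 7 h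
    have hy7 : orderOf (y : G) = 7 := by rw [Subgroup.orderOf_coe]; exact hy
    have hxy : x ∈ centralizer ({(y : G)} : Set G) := by
      rw [mem_centralizer_singleton_iff]
      exact (mem_centralizer_singleton_iff.mp y.2).symm
    have := Subgroup.orderOf_dvd_natCard _ hxy
    rw [hx, h7 _ hy7] at this
    norm_num at this
  have hn2 : ¬ 2 ∣ Nat.card (centralizer ({x} : Set G)) := by
    intro h
    obtain ⟨y, hy⟩ := exists_prime_orderOf_dvd_card' (G := centralizer ({x} : Set G)) 2 h
    have hy2 : orderOf (y : G) = 2 := by rw [Subgroup.orderOf_coe]; exact hy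
    have hxy : x ∈ centralizer ({(y : G)} : Set G) := by
      rw [mem_centralizer_singleton_iff]
      exact (mem_centralizer_singleton_iff.mp y.2).symm
    have := Subgroup.orderOf_dvd_natCard _ hxy
    rw [hx, h2 _ hy2] at this
    norm_num at this
  have hdvd : Nat.card (centralizer ({x} : Set G)) ∣ 2520 := by
    rw [← hG]; exact Subgroup.card_subgroup_dvd_card _
  have hd45 : Nat.card (centralizer ({x} : Set G)) ∣ 45 := by
    have c2 : Nat.Coprime (Nat.card (centralizer ({x} : Set G))) (2 ^ 3) :=
      Nat.Coprime.pow_right 3 ((Nat.coprime_comm).mp ((Nat.Prime.coprime_iff_not_dvd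
        Nat.prime_two).mpr hn2))
    have c7 : Nat.Coprime (Nat.card (centralizer ({x} : Set G))) 7 :=
      (Nat.coprime_comm).mp ((Nat.Prime.coprime_iff_not_dvd (by norm_num)).mpr hn7)
    have e1 : (2520 : ℕ) = 2 ^ 3 * 315 := by norm_num
    rw [e1] at hdvd
    have d1 := c2.dvd_of_dvd_mul_left hdvd
    have e2 : (315 : ℕ) = 7 * 45 := by norm_num
    rw [e2] at d1
    exact c7.dvd_of_dvd_mul_left d1
  have hd15 : 15 ∣ Nat.card (centralizer ({x} : Set G)) :=
    Nat.Coprime.mul_dvd_of_dvd_of_dvd (by norm_num : Nat.Coprime 3 5) h3 h5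
  have hle45 := Nat.le_of_dvd (by norm_num) hd45
  have hcases := arith_45 _ hle45 (Nat.mod_eq_zero_of_dvd hd45) (Nat.mod_eq_zero_of_dvd hd15)
  have hpos : 0 < Nat.card (centralizer ({x} : Set G)) := Nat.card_pos
  -- the Sylow 5-subgroup
  have hpg : IsPGroup 5 (zpowers x) :=
    IsPGroup.of_card (n := 1) (by rw [Nat.card_zpowers, hx, pow_one])
  obtain ⟨Q, hQ⟩ := hpg.exists_le_sylow
  have hQc := card_sylow_five hG Q
  obtain ⟨hQz, hCQ, hle, hrel⟩ :=
    normalizer_data_of_prime 5 Q hQc x (hQ (mem_zpowers x)) hx1
  have e1 := relIndex_mul_index hle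
  have e2 := Subgroup.card_mul_index (centralizer ({x} : Set G))
  have e3 := Subgroup.card_mul_index (normalizer ((Q : Subgroup G) : Set G))
  have hidx : Nat.card (Sylow 5 G) = (normalizer ((Q : Subgroup G) : Set G)).index :=
    Sylow.card_eq_index_normalizer Q
  have hmod : Nat.card (Sylow 5 G) ≡ 1 [MOD 5] := card_sylow_modEq_one 5 G
  rw [hidx] at hmod
  rw [hG] at e2 e3
  have hj : (centralizer ({x} : Set G)).relIndex (normalizer ((Q : Subgroup G) : Set G)) = 1 ∨
      (centralizer ({x} : Set G)).relIndex (normalizer ((Q : Subgroup G) : Set G)) = 2 ∨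
      (centralizer ({x} : Set G)).relIndex (normalizer ((Q : Subgroup G) : Set G)) = 4 := by
    have hd : (centralizer ({x} : Set G)).relIndex (normalizer ((Q : Subgroup G) : Set G)) ∣
        2 ^ 2 := by simpa using hrel
    obtain ⟨k, hk, hkj⟩ := (Nat.dvd_prime_pow Nat.prime_two).mp hd
    interval_cases k <;> simp_all
  rcases hcases with h | h | h
  · omega
  · rw [h] at e2
    have hCi : (centralizer ({x} : Set G)).index = 168 := by omega
    rw [hCi] at e1
    rcases hj with hj | hj | hj <;> rw [hj] at e1
    · have : (normalizer ((Q : Subgroup G) : Set G)).index = 168 := by omega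
      rw [this] at hmod
      exact absurd hmod (by decide)
    · have : (normalizer ((Q : Subgroup G) : Set G)).index = 84 := by omega
      rw [this] at hmod
      exact absurd hmod (by decide)
    · have : (normalizer ((Q : Subgroup G) : Set G)).index = 42 := by omega
      rw [this] at hmod
      exact absurd hmod (by decide)
  · rw [h] at e2
    have hCi : (centralizer ({x} : Set G)).index = 56 := by omega
    rw [hCi] at e1
    rcases hj with hj | hj | hj <;> rw [hj] at e1
    · have hNi : (normalizer ((Q : Subgroup G) : Set G)).index = 56 := by omega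
      rw [hNi] at e3
      have hN45 : Nat.card (normalizer ((Q : Subgroup G) : Set G)) = 45 := by omega
      have heq : centralizer ({x} : Set G) = normalizer ((Q : Subgroup G) : Set G) :=
        Subgroup.eq_of_le_of_card_ge hle (by rw [hN45, h])
      apply false_of_normalizer_le_centralizer Q
      · rw [hCQ, heq]
      · rw [hQc]; norm_num
      · rw [hQc, hG]; norm_num
    · have : (normalizer ((Q : Subgroup G) : Set G)).index = 28 := by omega
      rw [this] at hmod
      exact absurd hmod (by decide)
    · have : (normalizer ((Q : Subgroup G) : Set G)).index = 14 := by omega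
      rw [this] at hmod
      exact absurd hmod (by decide)

end Cfsg.Agent.Lib.Helper1.A7Loc
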