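import Mathlib
import Cfsg.Agent.Lib.Helper1.A7LocB

set_option autoImplicit false

/-! Local analysis in a simple group of order `2520` (part C): the Sylow `3`-subgroups are
elementary abelian, self-centralizing, with normalizer of order `36`. -/

namespace Cfsg.Agent.Lib.Helper1.A7Loc

open Subgroup Cfsg.Agent.Lib.Helper1.L33Loc

variable {G : Type*} [Group G]

/-- if a prime `q` divides `|C(S)|` there is an element of order `q` centralizing `S` -/
theorem exists_centralizing_of_dvd [Finite G] (S : Subgroup G) (q : ℕ) [Fact q.Prime]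
    (h : q ∣ Nat.card (centralizer (S : Set G))) :
    ∃ w : G, orderOf w = q ∧ S ≤ centralizer ({w} : Set G) := by
  obtain ⟨w, hw⟩ := exists_prime_orderOf_dvd_card' (G := centralizer (S : Set G)) q h
  refine ⟨w, by rw [Subgroup.orderOf_coe]; exact hw, ?_⟩
  intro s hs
  rw [mem_centralizer_singleton_iff]
  exact mem_centralizer_iff.mp w.2 s hs

set_option maxRecDepth 100000 in
theorem arith_72 : ∀ n ≤ 72, 72 % n = 0 → n % 9 = 0 → n = 0 ∨ n = 9 ∨ n = 18 ∨ n = 36 ∨ n = 72 := by
  decide

theorem sylow_three_data [Finite G] [IsSimpleGroup G] (hG : Nat.card G = 2520)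
    (h2 : ∀ t : G, orderOf t = 2 → Nat.card (centralizer ({t} : Set G)) = 24)
    (h7 : ∀ y : G, orderOf y = 7 → Nat.card (centralizer ({y} : Set G)) = 7)
    (S : Sylow 3 G) :
    Nat.card (S : Subgroup G) = 9 ∧ (∀ s ∈ (S : Subgroup G), s ^ 3 = 1) ∧
      centralizer ((S : Subgroup G) : Set G) = (S : Subgroup G) ∧
      Nat.card (normalizer ((S : Subgroup G) : Set G)) = 36 := by
  haveI : Fact (Nat.Prime 2) := ⟨by norm_num⟩
  haveI : Fact (Nat.Prime 3) := ⟨by norm_num⟩
  haveI : Fact (Nat.Prime 5) := ⟨by norm_num⟩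
  haveI : Fact (Nat.Prime 7) := ⟨by norm_num⟩
  have hS9 := card_sylow_three hG S
  haveI : IsMulCommutative (S : Subgroup G) :=
    IsPGroup.isMulCommutative_of_card_eq_prime_sq (p := 3) (by rw [hS9]; norm_num)
  have hSC : (S : Subgroup G) ≤ centralizer ((S : Subgroup G) : Set G) := by
    intro a ha
    rw [mem_centralizer_iff]
    intro b hb
    exact congrArg Subtype.val (mul_comm' (⟨b, hb⟩ : (S : Subgroup G)) ⟨a, ha⟩)
  -- `C(S) = S`
  have hn2 : ¬ 2 ∣ Nat.card (centralizer ((S : Subgroup G) : Set G)) := by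
    intro h
    obtain ⟨w, hw, hSw⟩ := exists_centralizing_of_dvd (S : Subgroup G) 2 h
    have := Subgroup.card_dvd_of_le hSw
    rw [hS9, h2 w hw] at this
    norm_num at this
  have hn5 : ¬ 5 ∣ Nat.card (centralizer ((S : Subgroup G) : Set G)) := by
    intro h
    obtain ⟨w, hw, hSw⟩ := exists_centralizing_of_dvd (S : Subgroup G) 5 h
    have := Subgroup.card_dvd_of_le hSw
    rw [hS9] at this
    exact not_three_dvd_centralizer_five hG h2 h7 w hw (Dvd.dvd.trans (by norm_num) this)
  have hn7 : ¬ 7 ∣ Nat.card (centralizer ((S : Subgroup G) : Set G)) := by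
    intro h
    obtain ⟨w, hw, hSw⟩ := exists_centralizing_of_dvd (S : Subgroup G) 7 h
    have := Subgroup.card_dvd_of_le hSw
    rw [hS9, h7 w hw] at this
    norm_num at this
  have hCd : Nat.card (centralizer ((S : Subgroup G) : Set G)) ∣ 9 := by
    have hdvd : Nat.card (centralizer ((S : Subgroup G) : Set G)) ∣ 2520 := by
      rw [← hG]; exact Subgroup.card_subgroup_dvd_card _
    have c2 : Nat.Coprime (Nat.card (centralizer ((S : Subgroup G) : Set G))) (2 ^ 3) :=
      Nat.Coprime.pow_right 3 ((Nat.coprime_comm).mp ((Nat.Prime.coprime_iff_not_dvd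
        Nat.prime_two).mpr hn2))
    have c5 : Nat.Coprime (Nat.card (centralizer ((S : Subgroup G) : Set G))) 5 :=
      (Nat.coprime_comm).mp ((Nat.Prime.coprime_iff_not_dvd (by norm_num)).mpr hn5)
    have c7 : Nat.Coprime (Nat.card (centralizer ((S : Subgroup G) : Set G))) 7 :=
      (Nat.coprime_comm).mp ((Nat.Prime.coprime_iff_not_dvd (by norm_num)).mpr hn7)
    have e1 : (2520 : ℕ) = 2 ^ 3 * 315 := by norm_num
    rw [e1] at hdvd
    have d1 := c2.dvd_of_dvd_mul_left hdvd
    have e2 : (315 : ℕ) = 5 * 63 := by norm_num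
    rw [e2] at d1
    have d2 := c5.dvd_of_dvd_mul_left d1
    have e3 : (63 : ℕ) = 7 * 9 := by norm_num
    rw [e3] at d2
    exact c7.dvd_of_dvd_mul_left d2
  have hC9 : Nat.card (centralizer ((S : Subgroup G) : Set G)) = 9 :=
    Nat.dvd_antisymm hCd (by rw [← hS9]; exact Subgroup.card_dvd_of_le hSC)
  have hCS : centralizer ((S : Subgroup G) : Set G) = (S : Subgroup G) :=
    (Subgroup.eq_of_le_of_card_ge hSC (by rw [hC9, hS9])).symm
  -- the order of `N(S)`
  have hSN : (S : Subgroup G) ≤ normalizer ((S : Subgroup G) : Set G) := le_normalizer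
  have hq : ∀ q : ℕ, q.Prime → 5 ≤ q →
      ¬ q ∣ Nat.card (normalizer ((S : Subgroup G) : Set G)) := by
    intro q hqp hq5 h
    haveI : Fact q.Prime := ⟨hqp⟩
    obtain ⟨w, hw⟩ := exists_prime_orderOf_dvd_card'
      (G := normalizer ((S : Subgroup G) : Set G)) q h
    have hwq : orderOf (w : G) = q := by rw [Subgroup.orderOf_coe]; exact hw
    have hc := centralizes_of_normalizes_nine (S : Subgroup G) hS9 q hq5 w w.2 hwq
    have hwC : (w : G) ∈ centralizer ((S : Subgroup G) : Set G) := by
      rw [mem_centralizer_iff]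
      intro s hs
      exact (hc s hs).symm
    rw [hCS] at hwC
    have := Subgroup.orderOf_dvd_natCard _ hwC
    rw [hwq, hS9] at this
    have h3 : q ∣ 3 := hqp.dvd_of_dvd_pow (n := 2) (by norm_num; exact this)
    have := (Nat.prime_dvd_prime_iff_eq hqp Nat.prime_three).mp h3
    omega
  have hNd : Nat.card (normalizer ((S : Subgroup G) : Set G)) ∣ 72 := by
    have hdvd : Nat.card (normalizer ((S : Subgroup G) : Set G)) ∣ 2520 := by
      rw [← hG]; exact Subgroup.card_subgroup_dvd_card _
    have c5 : Nat.Coprime (Nat.card (normalizer ((S : Subgroup G) : Set G))) 5 :=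
      (Nat.coprime_comm).mp ((Nat.Prime.coprime_iff_not_dvd (by norm_num)).mpr
        (hq 5 (by norm_num) le_rfl))
    have c7 : Nat.Coprime (Nat.card (normalizer ((S : Subgroup G) : Set G))) 7 :=
      (Nat.coprime_comm).mp ((Nat.Prime.coprime_iff_not_dvd (by norm_num)).mpr
        (hq 7 (by norm_num) (by norm_num)))
    have e1 : (2520 : ℕ) = 5 * 504 := by norm_num
    rw [e1] at hdvd
    have d1 := c5.dvd_of_dvd_mul_left hdvd
    have e2 : (504 : ℕ) = 7 * 72 := by norm_num
    rw [e2] at d1
    exact c7.dvd_of_dvd_mul_left d1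
  have hN9 : 9 ∣ Nat.card (normalizer ((S : Subgroup G) : Set G)) := by
    rw [← hS9]; exact Subgroup.card_dvd_of_le hSN
  have hidx : Nat.card (Sylow 3 G) = (normalizer ((S : Subgroup G) : Set G)).index :=
    Sylow.card_eq_index_normalizer S
  have hmod : Nat.card (Sylow 3 G) ≡ 1 [MOD 3] := card_sylow_modEq_one 3 G
  rw [hidx] at hmod
  have e3 := Subgroup.card_mul_index (normalizer ((S : Subgroup G) : Set G))
  rw [hG] at e3
  have hcases := arith_72 _ (Nat.le_of_dvd (by norm_num) hNd) (Nat.mod_eq_zero_of_dvd hNd)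
    (Nat.mod_eq_zero_of_dvd hN9)
  have hpos : 0 < Nat.card (normalizer ((S : Subgroup G) : Set G)) := Nat.card_pos
  have hN36 : Nat.card (normalizer ((S : Subgroup G) : Set G)) = 36 := by
    rcases hcases with h | h | h | h | h
    · omega
    · exfalso
      have heq : (S : Subgroup G) = normalizer ((S : Subgroup G) : Set G) :=
        Subgroup.eq_of_le_of_card_ge hSN (by rw [h, hS9])
      apply false_of_normalizer_le_centralizer S
      · rw [hCS]; exact heq.symm.le
      · rw [hS9]; norm_num
      · rw [hS9, hG]; norm_num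
    · exfalso
      rw [h] at e3
      have : (normalizer ((S : Subgroup G) : Set G)).index = 140 := by omega
      rw [this] at hmod
      exact absurd hmod (by decide)
    · exact h
    · exfalso
      rw [h] at e3
      have : (normalizer ((S : Subgroup G) : Set G)).index = 35 := by omega
      rw [this] at hmod
      exact absurd hmod (by decide)
  refine ⟨hS9, ?_, hCS, hN36⟩
  -- `S` is not cyclic
  have hrel : (centralizer ((S : Subgroup G) : Set G)).relIndex
      (normalizer ((S : Subgroup G) : Set G)) = 4 := by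
    have e1 := relIndex_mul_index (centralizer_le_normalizer ((S : Subgroup G) : Set G))
    have e2 := Subgroup.card_mul_index (centralizer ((S : Subgroup G) : Set G))
    rw [hC9, hG] at e2
    rw [hN36] at e3
    have h1 : (centralizer ((S : Subgroup G) : Set G)).index = 280 := by omega
    have h2 : (normalizer ((S : Subgroup G) : Set G)).index = 70 := by omega
    rw [h1, h2] at e1
    omega
  have hncyc : ¬ IsCyclic (S : Subgroup G) := by
    intro hcyc
    have key := card_dvd_of_injective _
      (QuotientGroup.kerLift_injective (S : Subgroup G).normalizerMonoidHom)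
    rw [normalizerMonoidHom_ker, ← index, ← relIndex, hcyc.card_mulAut, hS9, hrel] at key
    have ht : Nat.totient 9 = 6 := by decide
    rw [ht] at key
    norm_num at key
  intro s hs
  have hd : orderOf s ∣ 3 ^ 2 := by
    have := Subgroup.orderOf_dvd_natCard _ hs
    rw [hS9] at this
    exact this
  obtain ⟨k, hk, hks⟩ := (Nat.dvd_prime_pow Nat.prime_three).mp hd
  interval_cases k
  · rw [pow_zero, orderOf_eq_one_iff] at hks
    rw [hks, one_pow]
  · rw [pow_one] at hks
    rw [← hks]; exact pow_orderOf_eq_one s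
  · exfalso
    apply hncyc
    have : orderOf (⟨s, hs⟩ : (S : Subgroup G)) = Nat.card (S : Subgroup G) := by
      rw [Subgroup.orderOf_mk, hks, hS9]; norm_num
    exact isCyclic_of_orderOf_eq_card _ this

end Cfsg.Agent.Lib.Helper1.A7Loc
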