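import Mathlib
import Cfsg.Agent.Lib.Helper1.L33LocD

set_option autoImplicit false

/-! Local analysis in a group of order `5616`: a Sylow `2`-subgroup of `N(U)`, `U` a Sylow
`3`-subgroup (part E). -/

namespace Cfsg.Agent.Lib.Helper1.L33Loc

open Subgroup

variable {G : Type*} [Group G]

theorem card_sylow_two_of_card_108 {N : Type*} [Group N] [Finite N] [Fact (Nat.Prime 2)]
    (hN : Nat.card N = 108) (T : Sylow 2 N) : Nat.card (T : Subgroup N) = 4 := by
  rw [T.card_eq_multiplicity, hN]
  have e : (108 : ℕ) = 2 ^ 2 * 27 := by norm_num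
  have h0 : (27 : ℕ).factorization 2 = 0 :=
    Nat.factorization_eq_zero_of_not_dvd (by norm_num)
  rw [e, Nat.factorization_mul (by norm_num) (by norm_num), Finsupp.add_apply,
    Nat.Prime.factorization_pow (by norm_num), h0]
  simp

theorem eq_one_or_eq_of_mem_zpowers [Finite G] (r : G) (hr2 : orderOf r = 2) (y : G)
    (hy : y ∈ zpowers r) : y = 1 ∨ y = r := by
  classical
  rw [mem_zpowers_iff_mem_range_orderOf, hr2] at hy
  obtain ⟨k, hk, rfl⟩ := Finset.mem_image.mp hy
  have hk' := Finset.mem_range.mp hk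
  interval_cases k
  · left; simp
  · right; simp

/-- the involution `r ∈ C(z)` and the element `d` of a Sylow `2`-subgroup of `N(U)` inverting
`z` -/
theorem exists_inverting [Finite G] (hG : Nat.card G = 5616)
    (h6 : ∀ w : G, 6 ∣ orderOf w → Nat.card (centralizer ({w} : Set G)) = 6)
    (U : Sylow 3 G) (hU27 : Nat.card (U : Subgroup G) = 27)
    (hexp : ∀ u ∈ (U : Subgroup G), u ^ 3 = 1)
    (z : G) (hzU : z ∈ (U : Subgroup G)) (hz3 : orderOf z = 3)
    (hzc : ∀ u ∈ (U : Subgroup G), u * z = z * u)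
    (hZ : ∀ x ∈ (U : Subgroup G), (∀ y ∈ (U : Subgroup G), x * y = y * x) → x ∈ zpowers z)
    (hCz : Nat.card (centralizer ({z} : Set G)) = 54) :
    ∃ r d : G, orderOf r = 2 ∧ r * z = z * r ∧
      (∀ v ∈ (U : Subgroup G), r * v = v * r → v ∈ zpowers z) ∧
      (∀ v ∈ (U : Subgroup G), v * (r * v * r⁻¹) ∈ zpowers z) ∧
      r ∈ normalizer ((U : Subgroup G) : Set G) ∧ d ∈ normalizer ((U : Subgroup G) : Set G) ∧
      d * z * d⁻¹ = z⁻¹ ∧ d * r = r * d ∧ (d * d = 1 ∨ d * d = r) := by
  haveI : Fact (Nat.Prime 2) := ⟨by norm_num⟩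
  have hN108 := card_normalizer_sylow_three hG U hU27 hexp z hzU hz3 hzc hZ hCz
  have hCN : centralizer ({z} : Set G) ≤ normalizer ((U : Subgroup G) : Set G) :=
    centralizer_le_normalizer_of_card _ hU27 hexp z hzc hCz
  obtain ⟨r, hr⟩ := exists_prime_orderOf_dvd_card' (G := centralizer ({z} : Set G)) 2
    (by rw [hCz]; norm_num)
  have hr2 : orderOf (r : G) = 2 := by rw [Subgroup.orderOf_coe]; exact hr
  have hrz : (r : G) * z = z * r := mem_centralizer_singleton_iff.mp r.2
  have hrN : (r : G) ∈ normalizer ((U : Subgroup G) : Set G) := hCN r.2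
  have hrr : (r : G) * r = 1 := by rw [← pow_two, ← hr2]; exact pow_orderOf_eq_one _
  have hfix := fix_le_zpowers h6 (U : Subgroup G) hU27 z hzU hz3 hzc r hr2 hrz
  have hrV : ∀ v ∈ (U : Subgroup G), (r : G) * v * (r : G)⁻¹ ∈ (U : Subgroup G) :=
    fun v hv => (mem_normalizer_iff.mp hrN v).mp hv
  have hinv := inv_mod_central (U : Subgroup G) hU27 z hzU hz3 hzc r hrr hrV hrz hfix
  -- Sylow 2-subgroup of `N(U)` containing `r`
  have hpg : IsPGroup 2 (zpowers (⟨r, hrN⟩ : normalizer ((U : Subgroup G) : Set G))) :=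
    IsPGroup.of_card (n := 1) (by rw [Nat.card_zpowers, Subgroup.orderOf_mk, hr2, pow_one])
  obtain ⟨T, hT⟩ := hpg.exists_le_sylow
  have hT4 := card_sylow_two_of_card_108 hN108 T
  haveI : IsMulCommutative ((T : Subgroup (normalizer ((U : Subgroup G) : Set G)))) :=
    IsPGroup.isMulCommutative_of_card_eq_prime_sq (p := 2) (by rw [hT4]; norm_num)
  have hrT : (⟨r, hrN⟩ : normalizer ((U : Subgroup G) : Set G)) ∈ (T : Subgroup _) :=
    hT (mem_zpowers _)
  -- the image of `T` in `G`
  have hTm : Nat.card (Subgroup.map (normalizer ((U : Subgroup G) : Set G)).subtype (T : Subgroup (normalizer ((U : Subgroup G) : Set G)))) =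
      4 := by
    rw [Subgroup.card_map_of_injective (Subgroup.subtype_injective _), hT4]
  have hex : ∃ d : normalizer ((U : Subgroup G) : Set G), d ∈ (T : Subgroup _) ∧
      (d : G) ∉ centralizer ({z} : Set G) := by
    by_contra hcon0
    have hcon : ∀ d : normalizer ((U : Subgroup G) : Set G), d ∈ (T : Subgroup _) →
        (d : G) ∈ centralizer ({z} : Set G) := fun d hd =>
      by_contra (fun h => hcon0 ⟨d, hd, h⟩)
    have hle : Subgroup.map (normalizer ((U : Subgroup G) : Set G)).subtype (T : Subgroup (normalizer ((U : Subgroup G) : Set G))) ≤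
        centralizer ({z} : Set G) := by
      intro y hy
      obtain ⟨d, hd, rfl⟩ := Subgroup.mem_map.mp hy
      exact hcon d hd
    have := Subgroup.card_dvd_of_le hle
    rw [hTm, hCz] at this
    norm_num at this
  obtain ⟨d, hdT, hdC⟩ := hex
  have hdN : (d : G) ∈ normalizer ((U : Subgroup G) : Set G) := d.2
  have hdz : (d : G) * z * (d : G)⁻¹ = z⁻¹ := by
    have h1 := conj_mem_zpowers_of_mem_normalizer _ z hzU hzc hZ d hdN
    have h2 : (d : G) * z * (d : G)⁻¹ ≠ 1 := by
      intro h
      have : z = 1 := by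
        have := congrArg (fun t => (d : G)⁻¹ * t * d) h
        simpa [mul_assoc] using this
      rw [this, orderOf_one] at hz3
      norm_num at hz3
    rcases eq_or_eq_inv_of_mem_zpowers z hz3 _ h1 h2 with h | h
    · exfalso
      apply hdC
      rw [mem_centralizer_singleton_iff]
      calc (d : G) * z = (d : G) * z * (d : G)⁻¹ * d := by group
        _ = z * d := by rw [h]
    · exact h
  have hdr : (d : G) * r = r * d := by
    have := mul_comm' (⟨d, hdT⟩ : (T : Subgroup _)) ⟨⟨r, hrN⟩, hrT⟩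
    have h2 := congrArg Subtype.val (congrArg Subtype.val this)
    simpa using h2
  have hddC : (d : G) * d ∈ centralizer ({z} : Set G) := by
    rw [mem_centralizer_singleton_iff]
    have h1 : (d : G) * z = z⁻¹ * d := by
      calc (d : G) * z = (d : G) * z * (d : G)⁻¹ * d := by group
        _ = z⁻¹ * d := by rw [hdz]
    have h2 : (d : G) * z⁻¹ = z * d := by
      have : (d : G) * z⁻¹ * (d : G)⁻¹ = z := by
        have : (d : G) * z⁻¹ * (d : G)⁻¹ = ((d : G) * z * (d : G)⁻¹)⁻¹ := by group
        rw [this, hdz, inv_inv]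
      calc (d : G) * z⁻¹ = (d : G) * z⁻¹ * (d : G)⁻¹ * d := by group
        _ = z * d := by rw [this]
    calc (d : G) * d * z = (d : G) * ((d : G) * z) := by group
      _ = (d : G) * (z⁻¹ * d) := by rw [h1]
      _ = ((d : G) * z⁻¹) * d := by group
      _ = z * d * d := by rw [h2]
      _ = z * ((d : G) * d) := by group
  -- `T ∩ C(z) = ⟨r⟩`
  have hd1 : Nat.card (Subgroup.map (normalizer ((U : Subgroup G) : Set G)).subtype (T : Subgroup (normalizer ((U : Subgroup G) : Set G))) ⊓
      centralizer ({z} : Set G) : Subgroup G) ∣ 4 := by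
    rw [← hTm]; exact Subgroup.card_dvd_of_le inf_le_left
  have hd2 : Nat.card (Subgroup.map (normalizer ((U : Subgroup G) : Set G)).subtype (T : Subgroup (normalizer ((U : Subgroup G) : Set G))) ⊓
      centralizer ({z} : Set G) : Subgroup G) ∣ 54 := by
    rw [← hCz]; exact Subgroup.card_dvd_of_le inf_le_right
  have hd3 : Nat.card (Subgroup.map (normalizer ((U : Subgroup G) : Set G)).subtype (T : Subgroup (normalizer ((U : Subgroup G) : Set G))) ⊓
      centralizer ({z} : Set G) : Subgroup G) ∣ 2 := by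
    have := Nat.dvd_gcd hd1 hd2
    have e : Nat.gcd 4 54 = 2 := by norm_num
    rwa [e] at this
  have hrmem : (r : G) ∈ (Subgroup.map (normalizer ((U : Subgroup G) : Set G)).subtype (T : Subgroup (normalizer ((U : Subgroup G) : Set G))) ⊓
      centralizer ({z} : Set G) : Subgroup G) := by
    rw [Subgroup.mem_inf]
    exact ⟨Subgroup.mem_map.mpr ⟨⟨r, hrN⟩, hrT, rfl⟩, r.2⟩
  have heq : zpowers (r : G) = (Subgroup.map
      (normalizer ((U : Subgroup G) : Set G)).subtype (T : Subgroup (normalizer ((U : Subgroup G) : Set G))) ⊓ centralizer ({z} : Set G) :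
      Subgroup G) := by
    apply Subgroup.eq_of_le_of_card_ge (zpowers_le.mpr hrmem)
    rw [Nat.card_zpowers, hr2]
    exact Nat.le_of_dvd (by norm_num) hd3
  have hdd : (d : G) * d ∈ zpowers (r : G) := by
    rw [heq, Subgroup.mem_inf]
    refine ⟨Subgroup.mem_map.mpr ⟨d * d, mul_mem hdT hdT, rfl⟩, hddC⟩
  exact ⟨r, d, hr2, hrz, hfix, hinv, hrN, hdN, hdz, hdr,
    eq_one_or_eq_of_mem_zpowers (r : G) hr2 _ hdd⟩

end Cfsg.Agent.Lib.Helper1.L33Loc
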