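import Mathlib
import Cfsg.Agent.Lib.Helper20.JanRB
import Cfsg.Agent.Lib.Helper1.A7LocC
import Cfsg.Agent.Lib.Helper1.L33LocE

set_option autoImplicit false

/-! Local analysis in a simple group of order `2520` (part D): an abelian Sylow `2`-subgroup
would be elementary abelian. -/

namespace Cfsg.Agent.Lib.Helper1.A7Loc

open Subgroup Cfsg.Agent.Lib.Helper1.L33Loc

variable {G : Type*} [Group G]

theorem commutator_eq_top_of_simple [Finite G] [IsSimpleGroup G] (hG : Nat.card G = 2520) :
    commutator G = ⊤ := by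
  haveI : Fact (Nat.Prime 2) := ⟨by norm_num⟩
  rcases (inferInstance : (commutator G).Normal).eq_bot_or_eq_top with h | h
  · exfalso
    rw [commutator_eq_bot_iff_center_eq_top] at h
    obtain ⟨T⟩ : Nonempty (Sylow 2 G) := inferInstance
    have hT8 := card_sylow_two hG T
    have hn : (T : Subgroup G).Normal := by
      refine ⟨fun n hn g => ?_⟩
      have hg : g ∈ center G := by rw [h]; trivial
      have : g * n * g⁻¹ = n := by
        rw [Subgroup.mem_center_iff] at hg
        rw [← hg n, mul_inv_cancel_right]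
      rw [this]; exact hn
    rcases hn.eq_bot_or_eq_top with h1 | h1
    · rw [h1, Subgroup.card_bot] at hT8
      norm_num at hT8
    · rw [h1, Subgroup.card_top, hG] at hT8
      norm_num at hT8
  · exact h

/-- an abelian Sylow `2`-subgroup of a simple group of order `2520` is elementary abelian -/
theorem sq_eq_one_of_comm [Finite G] [IsSimpleGroup G] (hG : Nat.card G = 2520)
    (T : Sylow 2 G) (hab : ∀ a ∈ (T : Subgroup G), ∀ b ∈ (T : Subgroup G), a * b = b * a) :
    ∀ t ∈ (T : Subgroup G), t ^ 2 = 1 := by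
  haveI : Fact (Nat.Prime 2) := ⟨by norm_num⟩
  have hT8 := card_sylow_two hG T
  have hperf := commutator_eq_top_of_simple hG
  by_contra hcon
  push Not at hcon
  obtain ⟨u, huT, hu2⟩ := hcon
  -- the case of an element of order 8: cyclic
  have hexp4 : ∀ y ∈ (T : Subgroup G), y ^ 4 = 1 := by
    intro y hy
    by_contra h4
    have hd : orderOf y ∣ 2 ^ 3 := by
      have := Subgroup.orderOf_dvd_natCard _ hy
      rw [hT8] at this
      exact this
    obtain ⟨k, hk, hky⟩ := (Nat.dvd_prime_pow Nat.prime_two).mp hd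
    have hk3 : k = 3 := by
      by_contra hne
      apply h4
      have hk2 : k ≤ 2 := by omega
      have : orderOf y ∣ 4 := by
        rw [hky]
        exact pow_dvd_pow 2 hk2
      exact orderOf_dvd_iff_pow_eq_one.mp this
    rw [hk3] at hky
    have hcyc : IsCyclic (T : Subgroup G) := by
      apply isCyclic_of_orderOf_eq_card (⟨y, hy⟩ : (T : Subgroup G))
      rw [Subgroup.orderOf_mk, hky, hT8]
      norm_num
    have hmin : (Nat.card G).minFac = 2 := by
      rw [hG]; norm_num
    apply false_of_normalizer_le_centralizer T (hcyc.normalizer_le_centralizer hmin)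
    · rw [hT8]; norm_num
    · rw [hT8, hG]; norm_num
  -- squares
  let _ : CommGroup ↥(T : Subgroup G) :=
    { (inferInstance : Group ↥(T : Subgroup G)) with
      mul_comm := fun a b => Subtype.ext (hab a a.2 b b.2) }
  let φ : (T : Subgroup G) →* (T : Subgroup G) := powMonoidHom 2
  have hφ : ∀ y : (T : Subgroup G), φ y = y ^ 2 := fun y => rfl
  have hrk : φ.range ≤ φ.ker := by
    rintro x ⟨y, rfl⟩
    rw [MonoidHom.mem_ker, hφ, hφ, ← pow_mul]
    apply Subtype.ext
    simpa using hexp4 y y.2
  have hmul : Nat.card φ.ker * Nat.card φ.range = 8 := by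
    have h1 := Subgroup.card_eq_card_quotient_mul_card_subgroup φ.ker
    rw [Nat.card_congr (QuotientGroup.quotientKerEquivRange φ).toEquiv, hT8] at h1
    rw [mul_comm]; exact h1.symm
  have hdvd : Nat.card φ.range ∣ Nat.card φ.ker := Subgroup.card_dvd_of_le hrk
  have hr2 : Nat.card φ.range ≤ 2 := by
    obtain ⟨c, hc⟩ := hdvd
    rw [hc] at hmul
    by_contra hgt
    have h3 : 3 ≤ Nat.card φ.range := by omega
    have hcpos : 1 ≤ c := by
      rcases Nat.eq_zero_or_pos c with h0 | h0
      · rw [h0] at hmul; omega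
      · exact h0
    nlinarith
  -- `u ^ 2` is the only nontrivial square
  have hu2T : (⟨u, huT⟩ : (T : Subgroup G)) ^ 2 ∈ φ.range := ⟨⟨u, huT⟩, rfl⟩
  have hu2ne : (⟨u, huT⟩ : (T : Subgroup G)) ^ 2 ≠ 1 := by
    intro h
    apply hu2
    simpa using congrArg Subtype.val h
  have hu2o : orderOf ((⟨u, huT⟩ : (T : Subgroup G)) ^ 2) = 2 := by
    apply orderOf_eq_prime
    · rw [← pow_mul]
      apply Subtype.ext
      simpa using hexp4 u huT
    · exact hu2ne
  have hzr : zpowers ((⟨u, huT⟩ : (T : Subgroup G)) ^ 2) = φ.range := by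
    apply Subgroup.eq_of_le_of_card_ge (zpowers_le.mpr hu2T)
    rw [Nat.card_zpowers, hu2o]
    exact hr2
  have hsq : ∀ y ∈ (T : Subgroup G), y ^ 2 = 1 ∨ y ^ 2 = u ^ 2 := by
    intro y hy
    have hm : (⟨y, hy⟩ : (T : Subgroup G)) ^ 2 ∈ φ.range := ⟨⟨y, hy⟩, rfl⟩
    rw [← hzr] at hm
    rcases eq_one_or_eq_of_mem_zpowers _ hu2o _ hm with h | h
    · left; simpa using congrArg Subtype.val h
    · right; simpa using congrArg Subtype.val h
  -- `u ^ 2` is centralized by `N(T)`
  apply hu2
  apply Cfsg.Agent.Lib.Helper20.JanR.eq_one_of_normalizer_centralizes hperf T hab (u ^ 2)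
    (pow_mem huT 2)
  intro n hn
  have hnu : n * u * n⁻¹ ∈ (T : Subgroup G) := (mem_normalizer_iff.mp hn u).mp huT
  have hconj : n * u ^ 2 * n⁻¹ = (n * u * n⁻¹) ^ 2 := by rw [conj_pow]
  rw [hconj]
  rcases hsq _ hnu with h | h
  · exfalso
    apply hu2
    rw [← hconj] at h
    have := congrArg (fun t => n⁻¹ * t * n) h
    simpa [mul_assoc] using this
  · exact h

end Cfsg.Agent.Lib.Helper1.A7Loc
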