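import Mathlib
import Cfsg.Agent.S0201
import Cfsg.Agent.Lib.Helper2.QuatGen
import Cfsg.Agent.Lib.Helper1.A7LocD

set_option autoImplicit false

/-! Local analysis in a simple group of order `2520` (part E): a nonabelian Sylow `2`-subgroup is
dihedral. -/

namespace Cfsg.Agent.Lib.Helper1.A7Loc

open Subgroup Cfsg.Agent.Lib.Helper1.L33Loc

variable {G : Type*} [Group G]

/-- Brauer–Suzuki: the Sylow `2`-subgroups of a simple group of order `2520` are not
quaternion -/
theorem not_quaternion [Finite G] [IsSimpleGroup G] (hG : Nat.card G = 2520) (T : Sylow 2 G)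
    (u w : G) (huT : u ∈ (T : Subgroup G)) (hwT : w ∈ (T : Subgroup G)) (hu4 : orderOf u = 4)
    (hww : w * w = u ^ 2) (hconj : w * u * w⁻¹ = u⁻¹) : False := by
  haveI : Fact (Nat.Prime 2) := ⟨by norm_num⟩
  have hT8 := card_sylow_two hG T
  have ht : orderOf u = 2 * 2 := by rw [hu4]
  have hinj := Cfsg.Agent.Lib.Helper2.quatHom_injective (n := 2) le_rfl ht hww hconj
  have hle : (Cfsg.Agent.Lib.Helper2.quatHom ht hww hconj).range ≤ (T : Subgroup G) := by
    rintro _ ⟨x, rfl⟩
    cases x with
    | a i => exact zpow_mem huT _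
    | xa i => exact mul_mem hwT (zpow_mem huT _)
  have hcard : Nat.card (Cfsg.Agent.Lib.Helper2.quatHom ht hww hconj).range = 8 := by
    rw [← Nat.card_congr (MonoidHom.ofInjective hinj).toEquiv, Nat.card_eq_fintype_card,
      QuaternionGroup.card]
  have heq : (Cfsg.Agent.Lib.Helper2.quatHom ht hww hconj).range = (T : Subgroup G) :=
    Subgroup.eq_of_le_of_card_ge hle (by rw [hcard, hT8])
  have e : (T : Subgroup G) ≃* QuaternionGroup (2 ^ (0 + 1)) :=
    (MulEquiv.subgroupCongr heq.symm).trans (MonoidHom.ofInjective hinj).symm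
  have hO : ∀ N : Subgroup G, N.Normal → Odd (Nat.card N) → N = ⊥ := by
    intro N hN hodd
    rcases hN.eq_bot_or_eq_top with h | h
    · exact h
    · exfalso
      rw [h, Subgroup.card_top, hG] at hodd
      exact absurd hodd (by decide)
  have hZ := Cfsg.Agent.S0201.result T 0 e hO
  rcases (inferInstance : (center G).Normal).eq_bot_or_eq_top with h | h
  · rw [h, Subgroup.card_bot] at hZ
    norm_num at hZ
  · rw [h, Subgroup.card_top, hG] at hZ
    norm_num at hZ

theorem eq_pow_of_mem_zpowers_four [Finite G] (u : G) (hu4 : orderOf u = 4) (y : G)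
    (hy : y ∈ zpowers u) : y = 1 ∨ y = u ∨ y = u ^ 2 ∨ y = u ^ 3 := by
  classical
  rw [mem_zpowers_iff_mem_range_orderOf, hu4] at hy
  obtain ⟨k, hk, rfl⟩ := Finset.mem_image.mp hy
  have hk' := Finset.mem_range.mp hk
  interval_cases k <;> simp

/-- a nonabelian Sylow `2`-subgroup of a simple group of order `2520` is dihedral: every
element outside a cyclic subgroup `⟨u⟩` of order `4` is an involution inverting `u` -/
theorem dihedral_of_order_four [Finite G] [IsSimpleGroup G] (hG : Nat.card G = 2520)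
    (T : Sylow 2 G)
    (hnab : ¬ ∀ a ∈ (T : Subgroup G), ∀ b ∈ (T : Subgroup G), a * b = b * a)
    (u : G) (huT : u ∈ (T : Subgroup G)) (hu4 : orderOf u = 4)
    (w : G) (hwT : w ∈ (T : Subgroup G)) (hwu : w ∉ zpowers u) :
    orderOf w = 2 ∧ w * u * w⁻¹ = u⁻¹ := by
  haveI : Fact (Nat.Prime 2) := ⟨by norm_num⟩
  have hT8 := card_sylow_two hG T
  have hu41 : u ^ 4 = 1 := by rw [← hu4]; exact pow_orderOf_eq_one u
  -- the cyclic subgroup of index 2
  have hU4c : Nat.card (zpowers (⟨u, huT⟩ : (T : Subgroup G))) = 4 := by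
    rw [Nat.card_zpowers, Subgroup.orderOf_mk, hu4]
  have hidx : (zpowers (⟨u, huT⟩ : (T : Subgroup G))).index = 2 := by
    have := Subgroup.card_mul_index (zpowers (⟨u, huT⟩ : (T : Subgroup G)))
    rw [hU4c, hT8] at this
    omega
  haveI hnorm : (zpowers (⟨u, huT⟩ : (T : Subgroup G))).Normal :=
    Subgroup.normal_of_index_eq_two hidx
  have hmem : ∀ x : (T : Subgroup G), x ∈ zpowers (⟨u, huT⟩ : (T : Subgroup G)) ↔
      (x : G) ∈ zpowers u := by
    intro x
    constructor
    · intro h
      obtain ⟨k, hk⟩ := mem_zpowers_iff.mp h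
      refine mem_zpowers_iff.mpr ⟨k, ?_⟩
      rw [← hk]; simp
    · intro h
      obtain ⟨k, hk⟩ := mem_zpowers_iff.mp h
      refine mem_zpowers_iff.mpr ⟨k, ?_⟩
      apply Subtype.ext
      rw [← hk]; simp
  have hw' : (⟨w, hwT⟩ : (T : Subgroup G)) ∉ zpowers (⟨u, huT⟩ : (T : Subgroup G)) := by
    rw [hmem]; exact hwu
  -- `w u w⁻¹ ∈ ⟨u⟩`
  have hc1 : w * u * w⁻¹ ∈ zpowers u := by
    have := hnorm.conj_mem _ (mem_zpowers (⟨u, huT⟩ : (T : Subgroup G))) ⟨w, hwT⟩
    rw [hmem] at this
    simpa using this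
  have hc4 : orderOf (w * u * w⁻¹) = 4 := by
    have : w * u * w⁻¹ = MulAut.conj w u := by simp
    rw [this, MulEquiv.orderOf_eq, hu4]
  have hu2o : orderOf (u ^ 2) = 2 := by
    rw [orderOf_pow_of_dvd (by norm_num) (by rw [hu4]; norm_num), hu4]
  have hu3 : u ^ 3 = u⁻¹ := by
    apply eq_inv_of_mul_eq_one_left
    rw [← pow_succ]; exact hu41
  -- every element of `T` is `u^i` or `w u^i`
  have hcov : ∀ a ∈ (T : Subgroup G), a ∈ zpowers u ∨ w⁻¹ * a ∈ zpowers u := by
    intro a ha
    by_cases h : a ∈ zpowers u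
    · left; exact h
    · right
      have h1 : (⟨a, ha⟩ : (T : Subgroup G)) ∉ zpowers (⟨u, huT⟩ : (T : Subgroup G)) := by
        rw [hmem]; exact h
      have h2 : (⟨w, hwT⟩ : (T : Subgroup G))⁻¹ ∉ zpowers (⟨u, huT⟩ : (T : Subgroup G)) := by
        rw [inv_mem_iff]; exact hw'
      have h3 := (Subgroup.mul_mem_iff_of_index_two hidx
        (a := (⟨w, hwT⟩ : (T : Subgroup G))⁻¹) (b := ⟨a, ha⟩)).mpr
        ⟨fun h => absurd h h2, fun h => absurd h h1⟩
      rw [hmem] at h3
      simpa using h3
  have hconj : w * u * w⁻¹ = u⁻¹ := by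
    rcases eq_pow_of_mem_zpowers_four u hu4 _ hc1 with h | h | h | h
    · rw [h, orderOf_one] at hc4; norm_num at hc4
    · -- `w` commutes with `u`: `T` abelian
      exfalso
      apply hnab
      have hwu' : w * u = u * w := by
        calc w * u = w * u * w⁻¹ * w := by group
          _ = u * w := by rw [h]
      have hk : ∀ x ∈ ({u, w} : Set G), ∀ y ∈ ({u, w} : Set G), x * y = y * x := by
        intro x hx y hy
        rcases hx with rfl | rfl <;> rcases hy with rfl | rfl
        · rfl
        · exact hwu'.symm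
        · exact hwu'
        · rfl
      have hcl : ∀ a ∈ (T : Subgroup G), a ∈ closure ({u, w} : Set G) := by
        intro a ha
        have huc : u ∈ closure ({u, w} : Set G) := subset_closure (by simp)
        have hwc : w ∈ closure ({u, w} : Set G) := subset_closure (by simp)
        rcases hcov a ha with h1 | h1
        · exact (zpowers_le.mpr huc) h1
        · have := mul_mem hwc ((zpowers_le.mpr huc) h1)
          simpa using this
      intro a ha b hb
      haveI := Subgroup.isMulCommutative_closure hk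
      have := mul_comm' (⟨a, hcl a ha⟩ : closure ({u, w} : Set G)) ⟨b, hcl b hb⟩
      exact congrArg Subtype.val this
    · rw [h, hu2o] at hc4; norm_num at hc4
    · rw [h, hu3]
  refine ⟨?_, hconj⟩
  -- `w * w ∈ ⟨u⟩`
  have hww : w * w ∈ zpowers u := by
    have := Subgroup.sq_mem_of_index_two hidx (⟨w, hwT⟩ : (T : Subgroup G))
    rw [hmem] at this
    simpa [pow_two] using this
  have hinvpow : ∀ k : ℕ, w * u ^ k * w⁻¹ = (u ^ k)⁻¹ := by
    intro k
    rw [← conj_pow, hconj, inv_pow]
  have hwwc : w * (w * w) * w⁻¹ = w * w := by group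
  have hw1 : w ≠ 1 := by
    rintro rfl
    exact hwu (one_mem _)
  have hcase : w * w = 1 := by
    rcases eq_pow_of_mem_zpowers_four u hu4 _ hww with h | h | h | h
    · exact h
    · exfalso
      have h1 := hinvpow 1
      rw [pow_one, ← h, hwwc, h] at h1
      -- u = u⁻¹
      have : u ^ 2 = 1 := by rw [pow_two]; nth_rewrite 1 [h1]; simp
      rw [this, orderOf_one] at hu2o
      norm_num at hu2o
    · exfalso
      exact not_quaternion hG T u w huT hwT hu4 h hconj
    · exfalso
      have h1 := hinvpow 3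
      rw [← h, hwwc, h, hu3, inv_inv] at h1
      -- u⁻¹ = u
      have : u ^ 2 = 1 := by rw [pow_two]; nth_rewrite 1 [← h1]; simp
      rw [this, orderOf_one] at hu2o
      norm_num at hu2o
  exact orderOf_eq_prime (by rw [pow_two]; exact hcase) hw1

/-- a nonabelian group of order `8` has an element of order `4` -/
theorem exists_order_four [Finite G] [IsSimpleGroup G] (hG : Nat.card G = 2520)
    (T : Sylow 2 G)
    (hnab : ¬ ∀ a ∈ (T : Subgroup G), ∀ b ∈ (T : Subgroup G), a * b = b * a) :
    ∃ u ∈ (T : Subgroup G), orderOf u = 4 := by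
  haveI : Fact (Nat.Prime 2) := ⟨by norm_num⟩
  have hT8 := card_sylow_two hG T
  by_contra hcon
  apply hnab
  -- exponent 2
  have hexp : ∀ y ∈ (T : Subgroup G), y * y = 1 := by
    intro y hy
    have hd : orderOf y ∣ 2 ^ 3 := by
      have := Subgroup.orderOf_dvd_natCard _ hy
      rw [hT8] at this
      exact this
    obtain ⟨k, hk, hky⟩ := (Nat.dvd_prime_pow Nat.prime_two).mp hd
    interval_cases k
    · rw [pow_zero, orderOf_eq_one_iff] at hky
      rw [hky, one_mul]
    · rw [pow_one] at hky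
      rw [← pow_two, ← hky]; exact pow_orderOf_eq_one y
    · exact absurd ⟨y, hy, hky⟩ hcon
    · exfalso
      apply hcon
      refine ⟨y ^ 2, pow_mem hy 2, ?_⟩
      rw [orderOf_pow_of_dvd (by norm_num) (by rw [hky]; norm_num), hky]
      norm_num
  intro a ha b hb
  have h1 := hexp a ha
  have h2 := hexp b hb
  have h3 := hexp (a * b) (mul_mem ha hb)
  calc a * b = a * (a * b * (a * b)) * b := by rw [h3, mul_one]
    _ = (a * a) * (b * a) * (b * b) := by group
    _ = b * a := by rw [h1, h2, one_mul, mul_one]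

/-- the Sylow `2`-subgroups of a simple group of order `2520` are elementary abelian or
dihedral -/
theorem sylow_two_data [Finite G] [IsSimpleGroup G] (hG : Nat.card G = 2520) (T : Sylow 2 G) :
    Nat.card (T : Subgroup G) = 8 ∧
      ((∀ t ∈ (T : Subgroup G), t ^ 2 = 1) ∨
        ((¬ ∀ a ∈ (T : Subgroup G), ∀ b ∈ (T : Subgroup G), a * b = b * a) ∧
          (∃ u ∈ (T : Subgroup G), orderOf u = 4) ∧
          ∀ u ∈ (T : Subgroup G), orderOf u = 4 → ∀ w ∈ (T : Subgroup G), w ∉ zpowers u →
            orderOf w = 2 ∧ w * u * w⁻¹ = u⁻¹)) := by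
  haveI : Fact (Nat.Prime 2) := ⟨by norm_num⟩
  refine ⟨card_sylow_two hG T, ?_⟩
  by_cases hab : ∀ a ∈ (T : Subgroup G), ∀ b ∈ (T : Subgroup G), a * b = b * a
  · left
    exact sq_eq_one_of_comm hG T hab
  · right
    exact ⟨hab, exists_order_four hG T hab,
      fun u huT hu4 w hwT hwu => dihedral_of_order_four hG T hab u huT hu4 w hwT hwu⟩

end Cfsg.Agent.Lib.Helper1.A7Loc
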