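import Mathlib
import Cfsg.Agent.Lib.Helper1.A7LocE

set_option autoImplicit false

/-! Local analysis in a simple group of order `2520` (part F): every element of order `4` is
inverted by an involution. -/

namespace Cfsg.Agent.Lib.Helper1.A7Loc

open Subgroup Cfsg.Agent.Lib.Helper1.L33Loc

variable {G : Type*} [Group G]

/-- in a simple group of order `2520` every element of order `4` is inverted by an involution
(the Sylow `2`-subgroups containing elements of order `4` are dihedral) -/
theorem exists_inverting_involution [Finite G] [IsSimpleGroup G] (hG : Nat.card G = 2520)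
    (u : G) (hu4 : orderOf u = 4) :
    ∃ a : G, orderOf a = 2 ∧ a * u * a⁻¹ = u⁻¹ ∧
      ∃ T : Sylow 2 G, u ∈ (T : Subgroup G) ∧ a ∈ (T : Subgroup G) ∧ a ∉ zpowers u ∧
        ∀ w ∈ (T : Subgroup G), w ∉ zpowers u → orderOf w = 2 ∧ w * u * w⁻¹ = u⁻¹ := by
  haveI : Fact (Nat.Prime 2) := ⟨by norm_num⟩
  have hpg : IsPGroup 2 (zpowers u) :=
    IsPGroup.of_card (n := 2) (by rw [Nat.card_zpowers, hu4]; norm_num)
  obtain ⟨T, hT⟩ := hpg.exists_le_sylow
  have huT : u ∈ (T : Subgroup G) := hT (mem_zpowers u)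
  obtain ⟨hT8, hcases⟩ := sylow_two_data hG T
  rcases hcases with h | ⟨hnab, -, hdih⟩
  · exfalso
    have h1 := h u huT
    have := orderOf_dvd_of_pow_eq_one h1
    rw [hu4] at this
    norm_num at this
  · -- an element of `T` outside `⟨u⟩`
    have hex : ∃ w ∈ (T : Subgroup G), w ∉ zpowers u := by
      by_contra hcon
      have hle : (T : Subgroup G) ≤ zpowers u := by
        intro w hw
        by_contra h
        exact hcon ⟨w, hw, h⟩
      have := Subgroup.card_dvd_of_le hle
      rw [hT8, Nat.card_zpowers, hu4] at this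
      norm_num at this
    obtain ⟨w, hwT, hwu⟩ := hex
    obtain ⟨h1, h2⟩ := hdih u huT hu4 w hwT hwu
    exact ⟨w, h1, h2, T, huT, hwT, hwu, fun w' hw'T hw'u => hdih u huT hu4 w' hw'T hw'u⟩

end Cfsg.Agent.Lib.Helper1.A7Loc
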