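import Mathlib
import Cfsg.Agent.Lib.Helper15.AschFormMat
import Cfsg.Agent.Lib.Helper18.AschA89Defs

/-!
# AF market (helper15), packet [ADJ]: adjoint calculus for an `RForm σ ε f` (helper1).
Exact signatures of `notes/AschForm_leaves.lean`.
-/

set_option autoImplicit false
set_option linter.unusedSectionVars false
set_option linter.unusedVariables false

namespace Cfsg.Agent.Lib.Helper1.AFLeaf
open Matrix Cfsg.Geo Cfsg.Agent.Lib.Helper20.Asch Cfsg.Agent.Lib.Helper7.AschLeaf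
open Cfsg.Agent.Lib.Helper15.AschForm Cfsg.Agent.Lib.Helper18.AschA89
open scoped Kronecker

variable {F : Type*} [Field F] [Fintype F] {n : ℕ}

section ADJ
variable {σ : F →+* F} {ε : F} {f : (Fin n → F) → (Fin n → F) → F}

/-- (ADJ1) `adjM` is an adjoint -/
theorem isAdj_adjM (hf : RForm σ ε f) (x : Matrix (Fin n) (Fin n) F) : IsAdj f x (adjM σ f x) := by
  intro u v
  have hJ : IsUnit (gramF f).det := isUnit_iff_ne_zero.mpr hf.gram_det_ne_zero
  have hmm : (adjM σ f x).map σ = (gramF f)⁻¹ * xᵀ * gramF f := by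
    unfold adjM
    ext i j
    simp only [Matrix.map_apply]
    exact hf.invol _
  rw [hf.rep, hf.rep, vmap_mulVec, hmm, Matrix.mulVec_mulVec, ← Matrix.mul_assoc, ← Matrix.mul_assoc,
    Matrix.mul_nonsing_inv _ hJ, Matrix.one_mul]
  rw [← Matrix.mulVec_mulVec, dotProduct_comm, Matrix.dotProduct_mulVec, ← Matrix.mulVec_transpose]
  exact dotProduct_comm _ _

/-- non-degeneracy on the right -/
theorem eq_zero_of_forall_left (hf : RForm σ ε f) {w : Fin n → F} (h : ∀ u, f u w = 0) : w = 0 := by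
  by_contra hw
  obtain ⟨x, hx⟩ := (hf.nondeg w hw).1
  exact hx (h x)

/-- (ADJ2) adjoints are unique (non-degeneracy) -/
theorem isAdj_unique (hf : RForm σ ε f) {x y y' : Matrix (Fin n) (Fin n) F} (h : IsAdj f x y) (h' : IsAdj f x y') :
    y = y' := by
  have key : ∀ v : Fin n → F, y *ᵥ v = y' *ᵥ v := by
    intro v
    have : y *ᵥ v - y' *ᵥ v = 0 := by
      apply eq_zero_of_forall_left hf
      intro u
      rw [hf.sub_right, ← h u v, ← h' u v, sub_self]
    exact sub_eq_zero.mp this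
  exact Matrix.mulVec_injective (funext key)

/-- (ADJ3) `IsAdj` is symmetric -/
theorem isAdj_symm (hf : RForm σ ε f) {x y : Matrix (Fin n) (Fin n) F} (h : IsAdj f x y) : IsAdj f y x := by
  intro u v
  rw [hf.herm v (y *ᵥ u), ← h v u, ← hf.herm]

/-- (ADJ4) the algebra rules -/
theorem isAdj_mul {x y x' y' : Matrix (Fin n) (Fin n) F} (h : IsAdj f x y) (h' : IsAdj f x' y') :
    IsAdj f (x * x') (y' * y) := by
  intro u v
  rw [← Matrix.mulVec_mulVec, ← Matrix.mulVec_mulVec, h, h']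

theorem isAdj_add (hf : RForm σ ε f) {x y x' y' : Matrix (Fin n) (Fin n) F} (h : IsAdj f x y) (h' : IsAdj f x' y') :
    IsAdj f (x + x') (y + y') := by
  intro u v
  rw [Matrix.add_mulVec, Matrix.add_mulVec, hf.add_left, hf.add_right, h, h']

theorem isAdj_smul (hf : RForm σ ε f) {x y : Matrix (Fin n) (Fin n) F} (h : IsAdj f x y) (c : F) :
    IsAdj f (c • x) (σ c • y) := by
  intro u v
  rw [Matrix.smul_mulVec, Matrix.smul_mulVec, hf.smul_left, hf.smul_right, hf.invol, h]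

theorem isAdj_one : IsAdj f (1 : Matrix (Fin n) (Fin n) F) 1 := by
  intro u v
  rw [Matrix.one_mulVec, Matrix.one_mulVec]

theorem isAdj_pow {x y : Matrix (Fin n) (Fin n) F} (h : IsAdj f x y) (k : ℕ) : IsAdj f (x ^ k) (y ^ k) := by
  induction k with
  | zero =>
    rw [pow_zero, pow_zero]
    exact isAdj_one
  | succ k ih =>
    rw [pow_succ, pow_succ']
    exact isAdj_mul ih h

/-- (ADJ5) the adjoint of an isometry is its inverse -/
theorem isAdj_of_mem_Isom {g : GL (Fin n) F} (hg : g ∈ Isom f) :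
    IsAdj f (g : Matrix (Fin n) (Fin n) F) ((g⁻¹ : GL (Fin n) F) : Matrix (Fin n) (Fin n) F) := by
  intro u v
  have h := hg u (((g⁻¹ : GL (Fin n) F) : Matrix (Fin n) (Fin n) F) *ᵥ v)
  have e : (g : Matrix (Fin n) (Fin n) F) *ᵥ (((g⁻¹ : GL (Fin n) F) : Matrix (Fin n) (Fin n) F) *ᵥ v) = v := by
    rw [Matrix.mulVec_mulVec, ← Units.val_mul, mul_inv_cancel, Units.val_one, Matrix.one_mulVec]
  change f ((g : Matrix (Fin n) (Fin n) F) *ᵥ u)
    ((g : Matrix (Fin n) (Fin n) F) *ᵥ (((g⁻¹ : GL (Fin n) F) : Matrix (Fin n) (Fin n) F) *ᵥ v)) = _ at h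
  rw [e] at h
  exact h

/-- (ADJ6) for a group of isometries the centraliser algebra, its centre and the enveloping algebra are closed under adjoints -/
theorem cen_adj (hf : RForm σ ε f) {X : Subgroup (GL (Fin n) F)} (hX : X ≤ Isom f)
    {T T' : Matrix (Fin n) (Fin n) F} (hT : T ∈ Cen X) (h : IsAdj f T T') : T' ∈ Cen X := by
  rw [mem_Cen] at hT ⊢
  intro x hx
  have hxi : x⁻¹ ∈ X := X.inv_mem hx
  have h1 := isAdj_of_mem_Isom (hX hxi)
  rw [inv_inv] at h1
  -- adjoint of `x⁻¹ T` is `T' x`, adjoint of `T x⁻¹` is `x T'`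
  have h2 : IsAdj f (((x⁻¹ : GL (Fin n) F) : Matrix (Fin n) (Fin n) F) * T) (T' * (x : Matrix (Fin n) (Fin n) F)) :=
    isAdj_mul h1 h
  have h3 : IsAdj f (T * ((x⁻¹ : GL (Fin n) F) : Matrix (Fin n) (Fin n) F)) ((x : Matrix (Fin n) (Fin n) F) * T') :=
    isAdj_mul h h1
  rw [hT _ hxi] at h2
  exact isAdj_unique hf h3 h2

theorem zcen_adj (hf : RForm σ ε f) {X : Subgroup (GL (Fin n) F)} (hX : X ≤ Isom f)
    {T T' : Matrix (Fin n) (Fin n) F} (hT : T ∈ ZCen X) (h : IsAdj f T T') : T' ∈ ZCen X := by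
  rw [mem_ZCen] at hT ⊢
  refine ⟨cen_adj hf hX hT.1 h, ?_⟩
  intro S hS
  have hS' : adjM σ f S ∈ Cen X := cen_adj hf hX hS (isAdj_adjM hf S)
  have hSS : IsAdj f (adjM σ f S) S := isAdj_symm hf (isAdj_adjM hf S)
  have h1 : IsAdj f (T * adjM σ f S) (S * T') := isAdj_mul h hSS
  have h2 : IsAdj f (adjM σ f S * T) (T' * S) := isAdj_mul hSS h
  rw [hT.2 _ hS'] at h2
  exact isAdj_unique hf h1 h2

theorem env_adj (hf : RForm σ ε f) {X : Subgroup (GL (Fin n) F)} (hX : X ≤ Isom f)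
    {T T' : Matrix (Fin n) (Fin n) F} (hT : T ∈ Env X) (h : IsAdj f T T') : T' ∈ Env X := by
  have key : ∀ T ∈ Env X, adjM σ f T ∈ Env X := by
    intro T hT
    unfold Env at hT ⊢
    induction hT using Algebra.adjoin_induction with
    | mem x hx =>
      obtain ⟨g, hg, rfl⟩ := hx
      have : adjM σ f (g : Matrix (Fin n) (Fin n) F) = ((g⁻¹ : GL (Fin n) F) : Matrix (Fin n) (Fin n) F) :=
        isAdj_unique hf (isAdj_adjM hf _) (isAdj_of_mem_Isom (hX hg))
      rw [this]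
      exact Algebra.subset_adjoin ⟨g⁻¹, X.inv_mem hg, rfl⟩
    | algebraMap c =>
      have h1 : IsAdj f (algebraMap F (Matrix (Fin n) (Fin n) F) c) (σ c • (1 : Matrix (Fin n) (Fin n) F)) := by
        rw [Algebra.algebraMap_eq_smul_one]
        exact isAdj_smul hf isAdj_one c
      rw [isAdj_unique hf (isAdj_adjM hf _) h1]
      exact Subalgebra.smul_mem _ (Subalgebra.one_mem _) _
    | add a b _ _ iha ihb =>
      rw [isAdj_unique hf (isAdj_adjM hf (a + b)) (isAdj_add hf (isAdj_adjM hf a) (isAdj_adjM hf b))]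
      exact Subalgebra.add_mem _ iha ihb
    | mul a b _ _ iha ihb =>
      rw [isAdj_unique hf (isAdj_adjM hf (a * b)) (isAdj_mul (isAdj_adjM hf a) (isAdj_adjM hf b))]
      exact Subalgebra.mul_mem _ ihb iha
  rw [isAdj_unique hf h (isAdj_adjM hf T)]
  exact key T hT

/-- (ADJ8) a subalgebra cut out of an adjoint-closed subalgebra by `k ^ M = k` is adjoint-closed -/
theorem adjointClosed_of_pow_eq (hf : RForm σ ε f) {K K' : Subalgebra F (Matrix (Fin n) (Fin n) F)}
    (hK : IsAdjointClosedFor f K) (M : ℕ)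
    (hmem : ∀ k : Matrix (Fin n) (Fin n) F, k ∈ K' ↔ k ∈ K ∧ k ^ M = k) : IsAdjointClosedFor f K' := by
  intro k hk
  obtain ⟨hkK, hkM⟩ := (hmem k).mp hk
  obtain ⟨k', hk'K, hadj⟩ := hK k hkK
  refine ⟨k', (hmem k').mpr ⟨hk'K, ?_⟩, hadj⟩
  have h1 : IsAdj f (k ^ M) (k' ^ M) := isAdj_pow hadj M
  rw [hkM] at h1
  exact isAdj_unique hf h1 hadj

end ADJ

end Cfsg.Agent.Lib.Helper1.AFLeaf
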