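import Mathlib
import Cfsg.Agent.Lib.Helper15.AschFormMat
import Cfsg.Agent.Lib.Helper18.AschA89Defs

/-!
# AF market (helper15), packet [KR], Kronecker part: `kron_eq_kron`, `kron_herm`, `kron_similitude` (helper1).
Exact signatures of `notes/AschForm_leaves.lean`.
-/

set_option autoImplicit false
set_option linter.unusedSectionVars false
set_option linter.unusedVariables false

namespace Cfsg.Agent.Lib.Helper1.AFLeaf
open Matrix Cfsg.Geo Cfsg.Agent.Lib.Helper20.Asch Cfsg.Agent.Lib.Helper7.AschLeaf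
open Cfsg.Agent.Lib.Helper15.AschForm Cfsg.Agent.Lib.Helper18.AschA89
open scoped Kronecker

variable {F : Type*} [Field F] [Fintype F] {n : ℕ}

/-- (KR1) -/
theorem kron_eq_kron {s k : ℕ} {A A' : Matrix (Fin s) (Fin s) F} {B B' : Matrix (Fin k) (Fin k) F}
    (h : A ⊗ₖ B = A' ⊗ₖ B') (hne : A ⊗ₖ B ≠ 0) : ∃ c : F, c ≠ 0 ∧ A' = c • A ∧ B = c • B' := by
  have hent : ∀ a c b d, A a c * B b d = A' a c * B' b d := by
    intro a c b d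
    have := congrFun (congrFun h (a, b)) (c, d)
    simpa [Matrix.kroneckerMap_apply] using this
  obtain ⟨a₀, b₀, c₀, d₀, h0⟩ : ∃ a₀ b₀ c₀ d₀, A a₀ c₀ * B b₀ d₀ ≠ 0 := by
    by_contra hcon
    push Not at hcon
    apply hne
    ext ⟨a, b⟩ ⟨c, d⟩
    simpa [Matrix.kroneckerMap_apply] using hcon a b c d
  have hA : A a₀ c₀ ≠ 0 := left_ne_zero_of_mul h0
  have hB : B b₀ d₀ ≠ 0 := right_ne_zero_of_mul h0
  have h0' : A' a₀ c₀ * B' b₀ d₀ ≠ 0 := by rw [← hent]; exact h0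
  have hA' : A' a₀ c₀ ≠ 0 := left_ne_zero_of_mul h0'
  have hB' : B' b₀ d₀ ≠ 0 := right_ne_zero_of_mul h0'
  refine ⟨B b₀ d₀ / B' b₀ d₀, div_ne_zero hB hB', ?_, ?_⟩
  · ext a c
    rw [Matrix.smul_apply, smul_eq_mul]
    have := hent a c b₀ d₀
    field_simp
    linear_combination -this
  · ext b d
    rw [Matrix.smul_apply, smul_eq_mul]
    have h1 := hent a₀ c₀ b d
    have h2 := hent a₀ c₀ b₀ d₀
    have h3 : A a₀ c₀ * (B b d * B' b₀ d₀ - B b₀ d₀ * B' b d) = 0 := by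
      have e1 : A a₀ c₀ * (B b d * B' b₀ d₀ - B b₀ d₀ * B' b d) =
          (A a₀ c₀ * B b d) * B' b₀ d₀ - (A a₀ c₀ * B b₀ d₀) * B' b d := by ring
      rw [e1, h1, h2]
      ring
    have h4 : B b d * B' b₀ d₀ - B b₀ d₀ * B' b d = 0 := by
      rcases mul_eq_zero.mp h3 with h | h
      · exact absurd h hA
      · exact h
    field_simp
    linear_combination h4

theorem map_kron (σ : F →+* F) {s k : ℕ} (A : Matrix (Fin s) (Fin s) F) (B : Matrix (Fin k) (Fin k) F) :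
    (A ⊗ₖ B).map σ = A.map σ ⊗ₖ B.map σ := by
  ext ⟨a, b⟩ ⟨c, d⟩
  simp [Matrix.kroneckerMap_apply]

theorem transpose_kron {s k : ℕ} (A : Matrix (Fin s) (Fin s) F) (B : Matrix (Fin k) (Fin k) F) :
    (A ⊗ₖ B)ᵀ = Aᵀ ⊗ₖ Bᵀ := by
  ext ⟨a, b⟩ ⟨c, d⟩
  simp [Matrix.kroneckerMap_apply]

/-- (KR3) -/
theorem kron_herm {σ : F →+* F} {ε : F} {s k : ℕ} (G₁ : Matrix (Fin s) (Fin s) F) (G₂ : Matrix (Fin k) (Fin k) F)
    (hne : G₁ ⊗ₖ G₂ ≠ 0) (hh : ((G₁ ⊗ₖ G₂).map σ)ᵀ = ε • (G₁ ⊗ₖ G₂)) :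
    ∃ ε₁ ε₂ : F, (G₁.map σ)ᵀ = ε₁ • G₁ ∧ (G₂.map σ)ᵀ = ε₂ • G₂ ∧ ε₁ * ε₂ = ε := by
  have hε : ε ≠ 0 := by
    rintro rfl
    rw [zero_smul] at hh
    apply hne
    have h1 : (G₁ ⊗ₖ G₂).map σ = 0 := by
      have := congrArg Matrix.transpose hh
      simpa using this
    ext i j
    have h2 := congrFun (congrFun h1 i) j
    rw [Matrix.map_apply, Matrix.zero_apply] at h2
    exact (map_eq_zero σ).mp h2
  have h1 : G₁ ⊗ₖ (ε • G₂) = (G₁.map σ)ᵀ ⊗ₖ (G₂.map σ)ᵀ := by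
    rw [← transpose_kron, ← map_kron, hh, Matrix.kronecker_smul]
  have hne' : G₁ ⊗ₖ (ε • G₂) ≠ 0 := by
    rw [Matrix.kronecker_smul]
    exact smul_ne_zero hε hne
  obtain ⟨c, hc0, hA, hB⟩ := kron_eq_kron h1 hne'
  refine ⟨c, ε / c, hA, ?_, by field_simp⟩
  have : (G₂.map σ)ᵀ = c⁻¹ • (ε • G₂) := by
    rw [hB, smul_smul, inv_mul_cancel₀ hc0, one_smul]
  rw [this, smul_smul]
  congr 1
  field_simp

/-- (KR4) -/
theorem kron_similitude {σ : F →+* F} {s k : ℕ} (G₁ a : Matrix (Fin s) (Fin s) F) (G₂ b : Matrix (Fin k) (Fin k) F)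
    (hne : G₁ ⊗ₖ G₂ ≠ 0) (hh : (a ⊗ₖ b)ᵀ * (G₁ ⊗ₖ G₂) * (a ⊗ₖ b).map σ = G₁ ⊗ₖ G₂) :
    ∃ c : F, c ≠ 0 ∧ aᵀ * G₁ * a.map σ = c • G₁ ∧ bᵀ * G₂ * b.map σ = c⁻¹ • G₂ := by
  have h1 : G₁ ⊗ₖ G₂ = (aᵀ * G₁ * a.map σ) ⊗ₖ (bᵀ * G₂ * b.map σ) := by
    rw [Matrix.mul_kronecker_mul, Matrix.mul_kronecker_mul, ← transpose_kron, ← map_kron, hh]
  obtain ⟨c, hc0, hA, hB⟩ := kron_eq_kron h1 hne
  refine ⟨c, hc0, hA, ?_⟩
  have : c⁻¹ • G₂ = c⁻¹ • (c • (bᵀ * G₂ * b.map σ)) := by rw [← hB]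
  rw [this, smul_smul, inv_mul_cancel₀ hc0, one_smul]

end Cfsg.Agent.Lib.Helper1.AFLeaf
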