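import Mathlib
import Cfsg.Agent.Lib.Helper15.AschFormMat
import Cfsg.Agent.Lib.Helper18.AschA89Defs
import Cfsg.Agent.Lib.Helper20.AschA89F2J

/-!
# AF market (helper15), packet [KR], pure tensor part: `ptens_eq_ptens`, `ptens_similitude`, `ptens_herm` (helper1).
Exact signatures of `notes/AschForm_leaves.lean`.
-/

set_option autoImplicit false
set_option linter.unusedSectionVars false
set_option linter.unusedVariables false

namespace Cfsg.Agent.Lib.Helper1.AFLeaf
open Matrix Cfsg.Geo Cfsg.Agent.Lib.Helper20.Asch Cfsg.Agent.Lib.Helper7.AschLeaf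
open Cfsg.Agent.Lib.Helper15.AschForm Cfsg.Agent.Lib.Helper18.AschA89
open scoped Kronecker

variable {F : Type*} [Field F] [Fintype F] {n : ℕ}

/-- the product over the updated multi-indices -/
theorem prod_update_entry {m t : ℕ} (A : Fin t → Matrix (Fin m) (Fin m) F) (x y : Fin t → Fin m) (i : Fin t)
    (a b : Fin m) :
    ∏ j, A j (Function.update x i a j) (Function.update y i b j) =
      A i a b * ∏ j ∈ Finset.univ.erase i, A j (x j) (y j) := by
  rw [← Finset.mul_prod_erase Finset.univ _ (Finset.mem_univ i), Function.update_self, Function.update_self]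
  congr 1
  apply Finset.prod_congr rfl
  intro j hj
  rw [Function.update_of_ne (Finset.ne_of_mem_erase hj), Function.update_of_ne (Finset.ne_of_mem_erase hj)]

/-- scaled version of (KR2) -/
theorem ptens_eq_smul_ptens {m t : ℕ} {A B : Fin t → Matrix (Fin m) (Fin m) F} {ε : F} (hε : ε ≠ 0)
    (h : ptens m t B = ε • ptens m t A) (hne : ptens m t A ≠ 0) :
    ∃ c : Fin t → F, (∀ i, B i = c i • A i) ∧ ∏ i, c i = ε := by
  have hent : ∀ x y : Fin t → Fin m, ε * ∏ i, A i (x i) (y i) = ∏ i, B i (x i) (y i) := by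
    intro x y
    have := congrFun (congrFun h x) y
    rw [Matrix.smul_apply, ptens_apply, ptens_apply, smul_eq_mul] at this
    exact this.symm
  obtain ⟨x₀, y₀, h0⟩ : ∃ x₀ y₀ : Fin t → Fin m, ∏ i, A i (x₀ i) (y₀ i) ≠ 0 := by
    by_contra hcon
    push Not at hcon
    apply hne
    ext x y
    rw [ptens_apply, Matrix.zero_apply]
    exact hcon x y
  have hA : ∀ i, A i (x₀ i) (y₀ i) ≠ 0 := fun i => (Finset.prod_ne_zero_iff.mp h0) i (Finset.mem_univ i)
  have h0' : ∏ i, B i (x₀ i) (y₀ i) ≠ 0 := by rw [← hent]; exact mul_ne_zero hε h0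
  have hB : ∀ i, B i (x₀ i) (y₀ i) ≠ 0 := fun i => (Finset.prod_ne_zero_iff.mp h0') i (Finset.mem_univ i)
  refine ⟨fun i => B i (x₀ i) (y₀ i) / A i (x₀ i) (y₀ i), ?_, ?_⟩
  · intro i
    ext a b
    rw [Matrix.smul_apply, smul_eq_mul]
    have h1 := hent (Function.update x₀ i a) (Function.update y₀ i b)
    rw [prod_update_entry, prod_update_entry] at h1
    have h2 := hent x₀ y₀
    rw [← Finset.mul_prod_erase Finset.univ _ (Finset.mem_univ i),
      ← Finset.mul_prod_erase Finset.univ (fun j => B j (x₀ j) (y₀ j)) (Finset.mem_univ i)] at h2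
    set PA := ∏ j ∈ Finset.univ.erase i, A j (x₀ j) (y₀ j) with hPA
    set PB := ∏ j ∈ Finset.univ.erase i, B j (x₀ j) (y₀ j) with hPB
    have hPA0 : PA ≠ 0 := by
      rw [hPA, Finset.prod_ne_zero_iff]
      intro j _
      exact hA j
    have hPB0 : PB ≠ 0 := by
      rw [hPB, Finset.prod_ne_zero_iff]
      intro j _
      exact hB j
    have hAi := hA i
    have h3 : (B i a b * A i (x₀ i) (y₀ i) - B i (x₀ i) (y₀ i) * A i a b) * (ε * PA * PB) = 0 := by
      have e : (B i a b * A i (x₀ i) (y₀ i) - B i (x₀ i) (y₀ i) * A i a b) * (ε * PA * PB) =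
          (B i a b * PB) * (ε * (A i (x₀ i) (y₀ i) * PA)) - (B i (x₀ i) (y₀ i) * PB) * (ε * (A i a b * PA)) := by ring
      rw [e, h1, h2]
      ring
    have h4 : B i a b * A i (x₀ i) (y₀ i) - B i (x₀ i) (y₀ i) * A i a b = 0 := by
      rcases mul_eq_zero.mp h3 with h | h
      · exact h
      · exact absurd h (mul_ne_zero (mul_ne_zero hε hPA0) hPB0)
    field_simp
    linear_combination h4
  · rw [Finset.prod_div_distrib, ← hent, mul_div_assoc, div_self h0, mul_one]

/-- (KR2) -/
theorem ptens_eq_ptens {m t : ℕ} {A B : Fin t → Matrix (Fin m) (Fin m) F}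
    (h : ptens m t A = ptens m t B) (hne : ptens m t A ≠ 0) :
    ∃ c : Fin t → F, (∀ i, B i = c i • A i) ∧ ∏ i, c i = 1 :=
  ptens_eq_smul_ptens one_ne_zero (by rw [one_smul]; exact h.symm) hne

theorem map_ptens (σ : F →+* F) {m t : ℕ} (A : Fin t → Matrix (Fin m) (Fin m) F) :
    (ptens m t A).map σ = ptens m t (fun i => (A i).map σ) := by
  ext x y
  rw [Matrix.map_apply, ptens_apply, ptens_apply, map_prod]
  rfl

/-- (KR5) -/
theorem ptens_similitude {σ : F →+* F} {m t : ℕ} (G a : Fin t → Matrix (Fin m) (Fin m) F)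
    (hne : ptens m t G ≠ 0) (hh : (ptens m t a)ᵀ * ptens m t G * (ptens m t a).map σ = ptens m t G) :
    ∃ c : Fin t → F, (∀ i, (a i)ᵀ * G i * (a i).map σ = c i • G i) ∧ ∏ i, c i = 1 := by
  have h1 : ptens m t G = ptens m t (fun i => (a i)ᵀ * G i * (a i).map σ) := by
    conv_lhs => rw [← hh]
    rw [Cfsg.Agent.Lib.Helper20.AschLeaf.ptens_transpose, map_ptens,
      Cfsg.Agent.Lib.Helper20.AschLeaf.ptens_mul, Cfsg.Agent.Lib.Helper20.AschLeaf.ptens_mul]
  exact ptens_eq_ptens h1 hne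

/-- (KR6) -/
theorem ptens_herm {σ : F →+* F} {ε : F} {m t : ℕ} (G : Fin t → Matrix (Fin m) (Fin m) F)
    (hne : ptens m t G ≠ 0) (hh : ((ptens m t G).map σ)ᵀ = ε • ptens m t G) :
    ∃ η : Fin t → F, (∀ i, ((G i).map σ)ᵀ = η i • G i) ∧ ∏ i, η i = ε := by
  have hε : ε ≠ 0 := by
    rintro rfl
    rw [zero_smul] at hh
    apply hne
    have h1 : (ptens m t G).map σ = 0 := by
      have := congrArg Matrix.transpose hh
      simpa using this
    ext i j
    have h2 := congrFun (congrFun h1 i) j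
    rw [Matrix.map_apply, Matrix.zero_apply] at h2
    exact (map_eq_zero σ).mp h2
  have h1 : ptens m t (fun i => ((G i).map σ)ᵀ) = ε • ptens m t G := by
    rw [← hh, map_ptens, Cfsg.Agent.Lib.Helper20.AschLeaf.ptens_transpose]
  exact ptens_eq_smul_ptens hε h1 hne

end Cfsg.Agent.Lib.Helper1.AFLeaf
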