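import Mathlib

/-!
Elements of `p`-power order in affine groups over `𝔽_p` (helper1 library):
if `N` is an elementary abelian normal `p`-subgroup of order `p ^ m` and `g ^ (p ^ r) = 1`, then for
`p ^ s ≥ m + 1` the "norm" `∏_{i < p^s} g^i n g^{-i}` is trivial and `g ^ (p ^ s)` centralizes `N`.
-/

set_option autoImplicit false
open Polynomial
open scoped IsMulCommutative

namespace Cfsg.Agent.Lib.Helper1

theorem unipotent_geom_sum {p : ℕ} [hp : Fact p.Prime] {V : Type*} [AddCommGroup V]
    [Module (ZMod p) V] [Finite V] (c : Module.End (ZMod p) V) (r : ℕ) (hc : c ^ (p ^ r) = 1)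
    (m : ℕ) (hm : Nat.card V = p ^ m) (s : ℕ) (hk : m + 1 ≤ p ^ s) :
    (∑ i ∈ Finset.range (p ^ s), c ^ i) = 0 ∧ c ^ (p ^ s) = 1 := by
  have I1 : ∀ t : ℕ, ((X : (ZMod p)[X]) - 1) ^ (p ^ t) = X ^ (p ^ t) - 1 := by
    intro t
    rw [sub_pow_char_pow, one_pow]
  have I2 : (∑ i ∈ Finset.range (p ^ s), (X : (ZMod p)[X]) ^ i) = (X - 1) ^ (p ^ s - 1) := by
    have h1 : (∑ i ∈ Finset.range (p ^ s), (X : (ZMod p)[X]) ^ i) * (X - 1) = X ^ (p ^ s) - 1 :=
      geom_sum_mul X (p ^ s)
    have h2 : ((X : (ZMod p)[X]) - 1) ^ (p ^ s - 1) * (X - 1) = X ^ (p ^ s) - 1 := by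
      rw [← pow_succ, Nat.sub_add_cancel (Nat.one_le_pow _ _ hp.out.pos), I1]
    have hne : ((X : (ZMod p)[X]) - 1) ≠ 0 := X_sub_C_ne_zero (1 : ZMod p)
    exact mul_right_cancel₀ hne (h1.trans h2.symm)
  set τ : Module.End (ZMod p) V := c - 1 with hτ
  have A1 : ∀ t : ℕ, τ ^ (p ^ t) = c ^ (p ^ t) - 1 := by
    intro t
    have := congrArg (aeval c) (I1 t)
    simpa using this
  have hnil : IsNilpotent τ := ⟨p ^ r, by rw [A1, hc, sub_self]⟩
  have hfin : Module.finrank (ZMod p) V = m := by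
    have h1 := Module.natCard_eq_pow_finrank (K := ZMod p) (V := V)
    rw [hm, Nat.card_zmod] at h1
    exact (Nat.pow_right_injective hp.out.two_le h1).symm
  have hτm : τ ^ m = 0 := by
    have h1 := IsNilpotent.charpoly_eq_X_pow_finrank hnil
    have h2 := LinearMap.aeval_self_charpoly τ
    rw [h1, map_pow, aeval_X, hfin] at h2
    exact h2
  have hτ' : ∀ j, m ≤ j → τ ^ j = 0 := by
    intro j hj
    obtain ⟨i, rfl⟩ := Nat.exists_eq_add_of_le hj
    rw [pow_add, hτm, zero_mul]
  constructor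
  · have := congrArg (aeval c) I2
    simp only [map_sum, map_pow, aeval_X, map_sub, map_one] at this
    rw [this]
    exact hτ' _ (by omega)
  · have := A1 s
    rw [hτ' _ (by omega)] at this
    exact (sub_eq_zero.mp this.symm)

theorem iterate_geom_sum {p : ℕ} [hp : Fact p.Prime] {V : Type*} [AddCommGroup V]
    [Module (ZMod p) V] [Finite V] (f : V →+ V) (r : ℕ) (hf : ∀ v, f^[p ^ r] v = v)
    (m : ℕ) (hm : Nat.card V = p ^ m) (s : ℕ) (hk : m + 1 ≤ p ^ s) (v : V) :
    (∑ i ∈ Finset.range (p ^ s), f^[i] v) = 0 ∧ f^[p ^ s] v = v := by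
  set c : Module.End (ZMod p) V := AddMonoidHom.toZModLinearMap p f with hc
  have hcpow : ∀ (i : ℕ) (w : V), (c ^ i) w = f^[i] w := by
    intro i w
    rw [Module.End.pow_apply]
    rfl
  have hc1 : c ^ (p ^ r) = 1 := by
    ext w
    rw [hcpow, hf]
    rfl
  obtain ⟨h1, h2⟩ := unipotent_geom_sum c r hc1 m hm s hk
  constructor
  · have := congrArg (fun e : Module.End (ZMod p) V => e v) h1
    simp only [LinearMap.sum_apply, LinearMap.zero_apply] at this
    rw [← this]
    exact Finset.sum_congr rfl (fun i _ => (hcpow i v).symm)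
  · have := congrArg (fun e : Module.End (ZMod p) V => e v) h2
    simp only [Module.End.one_apply] at this
    rw [← hcpow]
    exact this

/-- the product `∏_{i<k} h^i n h^{-i}` -/
def conjProd {G : Type*} [Group G] (h n : G) (k : ℕ) : G :=
  ((List.range k).map (fun i => h ^ i * n * (h ^ i)⁻¹)).prod

theorem conjProd_zero {G : Type*} [Group G] (h n : G) : conjProd h n 0 = 1 := by
  simp [conjProd]

theorem conjProd_succ {G : Type*} [Group G] (h n : G) (k : ℕ) :
    conjProd h n (k + 1) = conjProd h n k * (h ^ k * n * (h ^ k)⁻¹) := by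
  simp [conjProd, List.range_succ]

theorem mul_pow_eq_conjProd {G : Type*} [Group G] (h n : G) (k : ℕ) :
    (n * h) ^ k = conjProd h n k * h ^ k := by
  induction k with
  | zero => simp [conjProd_zero]
  | succ k ih =>
    rw [pow_succ, ih, conjProd_succ, pow_succ]
    group

theorem conj_geom_prod {G : Type*} [Group G] [Finite G] {p : ℕ} [hp : Fact p.Prime] (N : Subgroup G)
    [hNn : N.Normal] (hNc : IsMulCommutative N) (hNp : ∀ n ∈ N, n ^ p = 1) (m : ℕ)
    (hcard : Nat.card N = p ^ m) (g : G) (r : ℕ) (hg : g ^ (p ^ r) = 1) (s : ℕ)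
    (hk : m + 1 ≤ p ^ s) :
    ∀ n ∈ N, conjProd g n (p ^ s) = 1 ∧ g ^ (p ^ s) * n * (g ^ (p ^ s))⁻¹ = n := by
  haveI := hNc
  have hexp : ∀ x : Additive N, p • x = 0 := by
    intro x
    have h1 : (Additive.toMul x) ^ p = 1 := by
      apply Subtype.ext
      simpa using hNp _ (Additive.toMul x).2
    exact congrArg Additive.ofMul h1
  set cN : N →* N := (MulAut.conjNormal g : MulAut N).toMonoidHom with hcN
  have hcN1 : ∀ x : N, ((cN x : N) : G) = g * x * g⁻¹ := fun x => MulAut.conjNormal_apply g x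
  have hiter : ∀ (i : ℕ) (x : N), (((cN^[i]) x : N) : G) = g ^ i * x * (g ^ i)⁻¹ := by
    intro i
    induction i with
    | zero => intro x; simp
    | succ i ih =>
      intro x
      rw [Function.iterate_succ_apply', hcN1, ih, pow_succ']
      group
  have hiterA : ∀ (i : ℕ) (x : N), ((MonoidHom.toAdditive cN)^[i]) (Additive.ofMul x)
      = Additive.ofMul ((cN^[i]) x) := by
    intro i
    induction i with
    | zero => intro x; rfl
    | succ i ih =>
      intro x
      rw [Function.iterate_succ_apply', Function.iterate_succ_apply', ih]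
      rfl
  intro n hn
  have key := @iterate_geom_sum p hp (Additive N) _ (AddCommGroup.zmodModule hexp) _
    (MonoidHom.toAdditive cN) r (by
      intro v
      have h1 := hiterA (p ^ r) (Additive.toMul v)
      rw [ofMul_toMul] at h1
      rw [h1]
      apply congrArg Additive.ofMul
      apply Subtype.ext
      rw [hiter, hg]
      simp
      rfl) m (by rw [← hcard]; rfl) s hk (Additive.ofMul ⟨n, hn⟩)
  obtain ⟨k1, k2⟩ := key
  constructor
  · have hprod : ∀ k : ℕ, (((∏ i ∈ Finset.range k, (cN^[i]) ⟨n, hn⟩ : N)) : G) = conjProd g n k := by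
      intro k
      induction k with
      | zero => simp [conjProd_zero]
      | succ k ih =>
        rw [Finset.prod_range_succ, Subgroup.coe_mul, ih, conjProd_succ, hiter]
    rw [← hprod]
    have h2 : (∑ i ∈ Finset.range (p ^ s), Additive.ofMul ((cN^[i]) (⟨n, hn⟩ : N))) = 0 := by
      rw [← k1]
      exact Finset.sum_congr rfl (fun i _ => (hiterA i _).symm)
    rw [← ofMul_prod] at h2
    have h3 : (∏ i ∈ Finset.range (p ^ s), (cN^[i]) (⟨n, hn⟩ : N)) = 1 := h2
    rw [h3]
    rfl
  · rw [hiterA] at k2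
    have h3 : (cN^[p ^ s]) (⟨n, hn⟩ : N) = ⟨n, hn⟩ := k2
    have h4 := congrArg (fun z : N => (z : G)) h3
    simp only [hiter] at h4
    exact h4

end Cfsg.Agent.Lib.Helper1
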