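import Mathlib
import Cfsg.Agent.Lib.Helper12.Basic

set_option autoImplicit false
open scoped commutatorElement

namespace Cfsg.Agent.Lib.Helper1

open Subgroup

/-- Power formula in class 2: if `b * y = y * b * z` with `z` commuting with `y` and `b`, then
`(y * b) ^ n = y ^ n * b ^ n * z ^ (n.choose 2)`. -/
theorem mul_pow_of_commute_commutator {G : Type*} [Group G] {y b z : G} (h : b * y = y * b * z)
    (hzy : Commute z y) (hzb : Commute z b) (n : ℕ) :
    (y * b) ^ n = y ^ n * b ^ n * z ^ (n.choose 2) := by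
  have aux : ∀ k : ℕ, b ^ k * y = y * b ^ k * z ^ k := by
    intro k
    induction k with
    | zero => simp
    | succ k ih =>
      calc b ^ (k + 1) * y = b ^ k * (b * y) := by rw [pow_succ, mul_assoc]
        _ = b ^ k * (y * b * z) := by rw [h]
        _ = (b ^ k * y) * b * z := by simp only [mul_assoc]
        _ = (y * b ^ k * z ^ k) * b * z := by rw [ih]
        _ = y * b ^ k * (z ^ k * b) * z := by simp only [mul_assoc]
        _ = y * b ^ k * (b * z ^ k) * z := by rw [(hzb.pow_left k).eq]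
        _ = y * (b ^ k * b) * (z ^ k * z) := by simp only [mul_assoc]
        _ = y * b ^ (k + 1) * z ^ (k + 1) := by rw [← pow_succ, ← pow_succ]
  induction n with
  | zero => simp
  | succ n ih =>
    have hc : (n + 1).choose 2 = n.choose 2 + n := by
      rw [Nat.choose_succ_succ' n 1, Nat.choose_one_right, add_comm]
    calc (y * b) ^ (n + 1) = (y * b) ^ n * (y * b) := pow_succ _ _
      _ = y ^ n * b ^ n * z ^ (n.choose 2) * (y * b) := by rw [ih]
      _ = y ^ n * b ^ n * (z ^ (n.choose 2) * y) * b := by simp only [mul_assoc]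
      _ = y ^ n * b ^ n * (y * z ^ (n.choose 2)) * b := by rw [(hzy.pow_left _).eq]
      _ = y ^ n * (b ^ n * y) * (z ^ (n.choose 2) * b) := by simp only [mul_assoc]
      _ = y ^ n * (y * b ^ n * z ^ n) * (b * z ^ (n.choose 2)) := by
          rw [aux n, (hzb.pow_left _).eq]
      _ = y ^ n * y * b ^ n * (z ^ n * b) * z ^ (n.choose 2) := by simp only [mul_assoc]
      _ = y ^ n * y * b ^ n * (b * z ^ n) * z ^ (n.choose 2) := by rw [(hzb.pow_left n).eq]
      _ = (y ^ n * y) * (b ^ n * b) * (z ^ n * z ^ (n.choose 2)) := by simp only [mul_assoc]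
      _ = y ^ (n + 1) * b ^ (n + 1) * z ^ ((n + 1).choose 2) := by
          rw [← pow_succ, ← pow_succ, ← pow_add, hc, add_comm n (n.choose 2)]

/-- the power computations in Alperin's theorem -/
theorem alperin_pow_aux {G : Type*} [Group G] {p n : ℕ} (hp : p.Prime) (hn : p ^ n ≠ 2)
    (hn1 : 1 ≤ n) (A : Subgroup G) (hAe : ∀ a ∈ A, a ^ p ^ n = 1)
    {x y : G} (hx : x ∈ centralizer (A : Set G)) (hy : y ∈ centralizer (A : Set G))
    (hc : ⁅y, x⁆ ∈ A) (hxp : x ^ p ∈ A) :
    (x * y) ^ p ^ n = x ^ p ^ n * y ^ p ^ n ∧ ∃ a ∈ A, (x * y) ^ p = x ^ p * y ^ p * a := by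
  obtain ⟨c, hcdef⟩ : ∃ c, c = ⁅y, x⁆ := ⟨_, rfl⟩
  rw [← hcdef] at hc
  have hcx : Commute c x := (Subgroup.mem_centralizer_iff.mp hx c hc)
  have hcy : Commute c y := (Subgroup.mem_centralizer_iff.mp hy c hc)
  have h : y * x = x * y * c := by
    have h1 : y * x = c * (x * y) := by rw [hcdef, commutatorElement_def]; group
    rw [h1]; exact (hcx.mul_right hcy).eq
  have hform := mul_pow_of_commute_commutator h hcx hcy
  refine ⟨?_, c ^ (p.choose 2), A.pow_mem hc _, hform p⟩
  rw [hform (p ^ n)]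
  suffices hc1 : c ^ ((p ^ n).choose 2) = 1 by rw [hc1, mul_one]
  have hcq : c ^ p ^ n = 1 := hAe c hc
  by_cases hp2 : p = 2
  · subst hp2
    have hn2 : 2 ≤ n := by
      rcases Nat.lt_or_ge n 2 with h | h
      · exfalso; apply hn
        have : n = 1 := by omega
        rw [this]; rfl
      · exact h
    obtain ⟨m, rfl⟩ : ∃ m, n = m + 2 := ⟨n - 2, by omega⟩
    -- `c ^ (2^(m+1)) = 1`
    have hk : c ^ (2 ^ (m + 1)) = 1 := by
      have hxk : x ^ (2 ^ (m + 1)) ∈ A := by
        rw [pow_succ', pow_mul]; exact A.pow_mem hxp _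
      have h1 : y * x ^ (2 ^ (m + 1)) * y⁻¹ = x ^ (2 ^ (m + 1)) := by
        have := Subgroup.mem_centralizer_iff.mp hy _ hxk
        rw [← this]; group
      have h2 : y * x ^ (2 ^ (m + 1)) * y⁻¹ = (c * x) ^ (2 ^ (m + 1)) := by
        rw [← conj_pow]
        congr 1
        rw [hcdef, commutatorElement_def]; group
      rw [h2, hcx.mul_pow] at h1
      exact mul_eq_right.mp h1
    have hch : (2 ^ (m + 2)).choose 2 = 2 ^ (m + 1) * (2 ^ (m + 2) - 1) := by
      rw [Nat.choose_two_right]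
      have : 2 ^ (m + 2) * (2 ^ (m + 2) - 1) = 2 * (2 ^ (m + 1) * (2 ^ (m + 2) - 1)) := by
        rw [← mul_assoc, ← pow_succ']
      rw [this, Nat.mul_div_cancel_left _ (by norm_num : 0 < 2)]
    rw [hch, pow_mul, hk, one_pow]
  · have hodd : Odd (p ^ n) := (hp.odd_of_ne_two hp2).pow
    obtain ⟨k, hk⟩ := hodd
    have hch : (p ^ n).choose 2 = p ^ n * k := by
      rw [Nat.choose_two_right]
      have : p ^ n * (p ^ n - 1) = 2 * (p ^ n * k) := by
        have : p ^ n - 1 = 2 * k := by omega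
        rw [this]; ring
      rw [this, Nat.mul_div_cancel_left _ (by norm_num : 0 < 2)]
    rw [hch, pow_mul, hcq, one_pow]


/-- `A ⊔ ⟨t⟩` is a normal abelian subgroup of exponent dividing `m` when `t` centralizes `A`,
`t ^ m = 1` and `[g, t] ∈ A` for all `g`. -/
theorem sup_zpowers_normal_abelian {G : Type*} [Group G] (A : Subgroup G) [hAn : A.Normal]
    (hA : IsMulCommutative A) (m : ℕ) (hAe : ∀ a ∈ A, a ^ m = 1) {t : G}
    (ht : t ∈ centralizer (A : Set G)) (htm : t ^ m = 1) (htc : ∀ g : G, ⁅g, t⁆ ∈ A) :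
    (A ⊔ zpowers t).Normal ∧ IsMulCommutative (A ⊔ zpowers t : Subgroup G) ∧
      ∀ b ∈ A ⊔ zpowers t, b ^ m = 1 := by
  have hdec : ∀ b ∈ A ⊔ zpowers t, ∃ a ∈ A, ∃ k : ℤ, b = a * t ^ k := by
    intro b hb
    rw [← SetLike.mem_coe, Subgroup.normal_mul, Set.mem_mul] at hb
    obtain ⟨a, ha, z, hz, rfl⟩ := hb
    obtain ⟨k, rfl⟩ := Subgroup.mem_zpowers_iff.mp hz
    exact ⟨a, ha, k, rfl⟩
  have hAA : ∀ a ∈ A, ∀ a' ∈ A, Commute a a' := fun a ha a' ha' =>
    congrArg Subtype.val (mul_comm' (⟨a, ha⟩ : A) ⟨a', ha'⟩)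
  have hAt : ∀ a ∈ A, Commute a t := fun a ha => Subgroup.mem_centralizer_iff.mp ht a ha
  refine ⟨⟨?_⟩, ⟨⟨?_⟩⟩, ?_⟩
  · intro b hb g
    obtain ⟨a, ha, k, rfl⟩ := hdec b hb
    have h1 : g * (a * t ^ k) * g⁻¹ = (g * a * g⁻¹) * (g * t * g⁻¹) ^ k := by
      rw [conj_zpow]; group
    rw [h1]
    refine Subgroup.mul_mem _ (le_sup_left (a := A) (hAn.conj_mem a ha g)) (Subgroup.zpow_mem _ ?_ _)
    have h2 : g * t * g⁻¹ = ⁅g, t⁆ * t := by rw [commutatorElement_def]; group
    rw [h2]
    exact Subgroup.mul_mem _ (le_sup_left (a := A) (htc g))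
      (le_sup_right (a := A) (Subgroup.mem_zpowers t))
  · rintro ⟨b, hb⟩ ⟨b', hb'⟩
    obtain ⟨a, ha, k, rfl⟩ := hdec b hb
    obtain ⟨a', ha', k', rfl⟩ := hdec b' hb'
    apply Subtype.ext
    show a * t ^ k * (a' * t ^ k') = a' * t ^ k' * (a * t ^ k)
    have c1 : Commute (t ^ k) a' := ((hAt a' ha').zpow_right k).symm
    have c2 : Commute (t ^ k') a := ((hAt a ha).zpow_right k').symm
    have c3 : Commute (t ^ k) (t ^ k') := (Commute.refl t).zpow_zpow k k'
    calc a * t ^ k * (a' * t ^ k') = a * (t ^ k * a') * t ^ k' := by group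
      _ = a * (a' * t ^ k) * t ^ k' := by rw [c1.eq]
      _ = (a * a') * (t ^ k * t ^ k') := by group
      _ = (a' * a) * (t ^ k' * t ^ k) := by rw [(hAA a ha a' ha').eq, c3.eq]
      _ = a' * (a * t ^ k') * t ^ k := by group
      _ = a' * (t ^ k' * a) * t ^ k := by rw [c2.eq]
      _ = a' * t ^ k' * (a * t ^ k) := by group
  · intro b hb
    obtain ⟨a, ha, k, rfl⟩ := hdec b hb
    rw [((hAt a ha).zpow_right k).mul_pow, hAe a ha, one_mul, ← zpow_natCast, ← zpow_mul,
      mul_comm, zpow_mul, zpow_natCast, htm, one_zpow]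

/-- **Alperin's theorem**: if `A` is maximal among the normal abelian subgroups of exponent
dividing `p ^ n ≠ 2` of a `p`-group, then every element of `C_G(A)` of order dividing `p ^ n`
lies in `A`. -/
theorem alperin_omega_centralizer {G : Type*} [Group G] [Finite G] {p : ℕ} [hp : Fact p.Prime]
    (hG : IsPGroup p G) (n : ℕ) (hn : p ^ n ≠ 2) (A : Subgroup G) [hAn : A.Normal]
    (hA : IsMulCommutative A) (hAe : ∀ a ∈ A, a ^ p ^ n = 1)
    (hmax : ∀ B : Subgroup G, B.Normal → IsMulCommutative B → (∀ b ∈ B, b ^ p ^ n = 1) →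
      A ≤ B → B = A)
    (x : G) (hx : x ∈ centralizer (A : Set G)) (hxn : x ^ p ^ n = 1) : x ∈ A := by
  rcases Nat.eq_zero_or_pos n with hn0 | hn1
  · subst hn0
    rw [pow_zero, pow_one] at hxn
    rw [hxn]; exact A.one_mem
  obtain ⟨C, hCdef⟩ : ∃ C : Subgroup G, C = centralizer (A : Set G) := ⟨_, rfl⟩
  have hCn : C.Normal := by rw [hCdef]; infer_instance
  have hAC : A ≤ C := by
    rw [hCdef]; intro a ha
    rw [mem_centralizer_iff]; intro b hb
    exact congrArg Subtype.val (mul_comm' (⟨b, hb⟩ : A) ⟨a, ha⟩)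
  -- the pulled back upper central series of `G ⧸ A`
  obtain ⟨Z, hZdef⟩ : ∃ Z : ℕ → Subgroup G,
      Z = fun j => (Subgroup.upperCentralSeries (G ⧸ A) j).comap (QuotientGroup.mk' A) := ⟨_, rfl⟩
  have hZmem : ∀ j g, g ∈ Z j ↔ (QuotientGroup.mk' A g) ∈ Subgroup.upperCentralSeries (G ⧸ A) j := by
    intro j g; rw [hZdef]; exact Iff.rfl
  have hZn : ∀ j, (Z j).Normal := by
    intro j; rw [hZdef]; infer_instance
  have hAZ : ∀ j, A ≤ Z j := by
    intro j a ha
    rw [hZmem, QuotientGroup.mk'_apply, (QuotientGroup.eq_one_iff a).mpr ha]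
    exact Subgroup.one_mem _
  have hZ0 : ∀ a, a ∈ Z 0 → a ∈ A := by
    intro a ha
    rw [hZmem, Subgroup.upperCentralSeries_zero, Subgroup.mem_bot, QuotientGroup.mk'_apply,
      QuotientGroup.eq_one_iff] at ha
    exact ha
  have hZs : ∀ j g, g ∈ Z (j + 1) → ∀ h, ⁅g, h⁆ ∈ Z j := by
    intro j g hg h
    rw [hZmem, Subgroup.mem_upperCentralSeries_succ_iff] at hg
    have := hg (QuotientGroup.mk' A h)
    rw [← map_commutatorElement] at this
    exact (hZmem _ _).mpr this
  obtain ⟨c, hc⟩ : ∃ c, Z c = ⊤ := by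
    have : Group.IsNilpotent (G ⧸ A) := (hG.to_quotient A).isNilpotent
    obtain ⟨c, hc⟩ := Group.IsNilpotent.nilpotent (G ⧸ A)
    refine ⟨c, ?_⟩
    rw [hZdef]
    show Subgroup.comap _ _ = ⊤
    rw [hc, Subgroup.comap_top]
  -- main claim
  have main : ∀ i, ∀ x ∈ Z i, x ∈ C → x ^ p ^ n = 1 → x ^ p ∈ A → x ∈ A := by
    intro i
    induction i using Nat.strong_induction_on with
    | _ i IH =>
    obtain ⟨X, hXdef⟩ : ∃ X : G → Prop,
        X = fun x => x ∈ Z i ∧ x ∈ C ∧ x ^ p ^ n = 1 ∧ x ^ p ∈ A := ⟨_, rfl⟩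
    have hXiff : ∀ x, X x ↔ (x ∈ Z i ∧ x ∈ C ∧ x ^ p ^ n = 1 ∧ x ^ p ∈ A) := by
      intro x; rw [hXdef]
    have hXconj : ∀ x g, X x → X (g * x * g⁻¹) := by
      intro x g hX
      rw [hXiff] at hX ⊢
      obtain ⟨h1, h2, h3, h4⟩ := hX
      refine ⟨(hZn i).conj_mem x h1 g, hCn.conj_mem x h2 g, ?_, ?_⟩
      · rw [conj_pow, h3]; group
      · rw [conj_pow]; exact hAn.conj_mem _ h4 g
    -- the sub-induction
    have SC : ∀ j, j ≤ i → ∀ x, X x → ∀ g ∈ Z j, ⁅g, x⁆ ∈ A := by
      intro j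
      induction j with
      | zero =>
        intro _ x hX g hg
        have hgA := hZ0 g hg
        have hxC : x ∈ centralizer (A : Set G) := by
          rw [← hCdef]; exact ((hXiff x).mp hX).2.1
        have := Subgroup.mem_centralizer_iff.mp hxC g hgA
        rw [commutatorElement_def, this]
        have : x * g * g⁻¹ * x⁻¹ = 1 := by group
        rw [this]; exact A.one_mem
      | succ j ihj =>
        intro hji x hX g hg
        have hjlt : j < i := hji
        obtain ⟨y, hydef⟩ : ∃ y, y = ⁅g, x⁆ := ⟨_, rfl⟩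
        rw [← hydef]
        have hyZ : y ∈ Z j := by rw [hydef]; exact hZs j g hg x
        have hX' := (hXiff x).mp hX
        have hxy : x * y = (x * g) * x * (x * g)⁻¹ := by
          rw [hydef, commutatorElement_def]; group
        have hXxy : X (x * y) := by rw [hxy]; exact hXconj x _ hX
        have hXxy' := (hXiff _).mp hXxy
        have hyC : y ∈ C := by
          have : y = x⁻¹ * (x * y) := by group
          rw [this]; exact C.mul_mem (C.inv_mem hX'.2.1) hXxy'.2.1
        have hcA : ⁅y, x⁆ ∈ A := ihj hjlt.le x hX y hyZ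
        have hxC : x ∈ centralizer (A : Set G) := by rw [← hCdef]; exact hX'.2.1
        have hyC' : y ∈ centralizer (A : Set G) := by rw [← hCdef]; exact hyC
        obtain ⟨e1, a, ha, e2⟩ := alperin_pow_aux hp.out hn hn1 A hAe hxC hyC' hcA hX'.2.2.2
        have hyq : y ^ p ^ n = 1 := by
          rw [hXxy'.2.2.1, hX'.2.2.1, one_mul] at e1
          exact e1.symm
        have hyp : y ^ p ∈ A := by
          have : y ^ p = (x ^ p)⁻¹ * (x * y) ^ p * a⁻¹ := by rw [e2]; group
          rw [this]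
          exact A.mul_mem (A.mul_mem (A.inv_mem hX'.2.2.2) hXxy'.2.2.2) (A.inv_mem ha)
        exact IH j hjlt y hyZ hyC hyq hyp
    -- the subgroup `T` with underlying set `X`
    have hXmul : ∀ x y, X x → X y → X (x * y) := by
      intro x y hX hY
      have hX' := (hXiff x).mp hX
      have hY' := (hXiff y).mp hY
      have hcA : ⁅y, x⁆ ∈ A := SC i le_rfl x hX y hY'.1
      have hxC : x ∈ centralizer (A : Set G) := by rw [← hCdef]; exact hX'.2.1
      have hyC' : y ∈ centralizer (A : Set G) := by rw [← hCdef]; exact hY'.2.1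
      obtain ⟨e1, a, ha, e2⟩ := alperin_pow_aux hp.out hn hn1 A hAe hxC hyC' hcA hX'.2.2.2
      rw [hXiff]
      refine ⟨(Z i).mul_mem hX'.1 hY'.1, C.mul_mem hX'.2.1 hY'.2.1, ?_, ?_⟩
      · rw [e1, hX'.2.2.1, hY'.2.2.1, one_mul]
      · rw [e2]; exact A.mul_mem (A.mul_mem hX'.2.2.2 hY'.2.2.2) ha
    have hXone : X 1 := by
      rw [hXiff]; exact ⟨(Z i).one_mem, C.one_mem, one_pow _, by rw [one_pow]; exact A.one_mem⟩
    have hXinv : ∀ x, X x → X x⁻¹ := by
      intro x hX
      have hX' := (hXiff x).mp hX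
      rw [hXiff]
      refine ⟨(Z i).inv_mem hX'.1, C.inv_mem hX'.2.1, ?_, ?_⟩
      · rw [inv_pow, hX'.2.2.1, inv_one]
      · rw [inv_pow]; exact A.inv_mem hX'.2.2.2
    let T : Subgroup G :=
      { carrier := {x | X x}
        mul_mem' := fun {a b} ha hb => hXmul a b ha hb
        one_mem' := hXone
        inv_mem' := fun {a} ha => hXinv a ha }
    have hTmem : ∀ x, x ∈ T ↔ X x := fun x => Iff.rfl
    have hTn : T.Normal := ⟨fun x hx g => hXconj x g hx⟩
    intro x hxZ hxC hxq hxp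
    by_contra hxA
    have hxT : x ∈ T := (hTmem x).mpr ((hXiff x).mpr ⟨hxZ, hxC, hxq, hxp⟩)
    -- the image of `T` in `G ⧸ A` is a nontrivial normal subgroup
    have hTbar : T.map (QuotientGroup.mk' A) ≠ ⊥ := by
      intro h
      have : QuotientGroup.mk' A x ∈ T.map (QuotientGroup.mk' A) := Subgroup.mem_map_of_mem _ hxT
      rw [h, Subgroup.mem_bot, QuotientGroup.mk'_apply, QuotientGroup.eq_one_iff] at this
      exact hxA this
    have : (T.map (QuotientGroup.mk' A)).Normal :=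
      hTn.map _ (QuotientGroup.mk'_surjective A)
    obtain ⟨tb, htb, htb1, htbc⟩ :=
      Cfsg.Agent.Lib.Helper12.exists_ne_one_mem_center_of_normal (hG.to_quotient A)
        (T.map (QuotientGroup.mk' A)) hTbar
    obtain ⟨t, htT, rfl⟩ := htb
    have htA : t ∉ A := by
      intro h
      apply htb1
      rw [QuotientGroup.mk'_apply, QuotientGroup.eq_one_iff]; exact h
    have htc : ∀ g : G, ⁅g, t⁆ ∈ A := by
      intro g
      rw [← QuotientGroup.eq_one_iff, ← QuotientGroup.mk'_apply, map_commutatorElement,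
        commutatorElement_eq_one_iff_commute]
      exact Subgroup.mem_center_iff.mp htbc (QuotientGroup.mk' A g)
    have htX := (hXiff t).mp ((hTmem t).mp htT)
    have htC : t ∈ centralizer (A : Set G) := by rw [← hCdef]; exact htX.2.1
    obtain ⟨hBn, hBc, hBe⟩ := sup_zpowers_normal_abelian A hA (p ^ n) hAe htC htX.2.2.1 htc
    have hBA := hmax _ hBn hBc hBe le_sup_left
    apply htA
    rw [← hBA]
    exact le_sup_right (a := A) (Subgroup.mem_zpowers t)
  -- from elements with `x ^ p ∈ A` to all elements of order dividing `p ^ n`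
  have hxC : x ∈ C := by rw [hCdef]; exact hx
  have hall : ∀ k, k ≤ n → x ^ p ^ (n - k) ∈ A := by
    intro k
    induction k with
    | zero => intro _; rw [Nat.sub_zero, hxn]; exact A.one_mem
    | succ k ih =>
      intro hk
      have h1 := ih (by omega)
      have e : n - k = (n - (k + 1)) + 1 := by omega
      rw [e, pow_succ, pow_mul] at h1
      apply main c _ (by rw [hc]; exact Subgroup.mem_top _) (C.pow_mem hxC _) _ h1
      rw [← pow_mul, mul_comm, pow_mul, hxn, one_pow]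
  have := hall n le_rfl
  rwa [Nat.sub_self, pow_zero, pow_one] at this

end Cfsg.Agent.Lib.Helper1
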