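import Mathlib
import Cfsg.Agent.Lib.Helper1.Alperin
import Cfsg.Agent.Lib.Helper12.Basic
import Cfsg.Agent.Lib.Helper20.ChainCount

set_option autoImplicit false
open scoped commutatorElement

namespace Cfsg.Agent.Lib.Helper1

open Subgroup

/-- In a finite `p`-group, a normal subgroup `A < C` (both normal) can be enlarged inside `C` by
an element `t` that is central modulo `A`. -/
theorem exists_central_mod_of_lt {G : Type*} [Group G] [Finite G] {p : ℕ} [hp : Fact p.Prime]
    (hG : IsPGroup p G) (A C : Subgroup G) [hAn : A.Normal] [hCn : C.Normal] (hAC : ¬ C ≤ A) :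
    ∃ t ∈ C, t ∉ A ∧ ∀ g : G, ⁅g, t⁆ ∈ A := by
  have hbar : C.map (QuotientGroup.mk' A) ≠ ⊥ := by
    intro h
    apply hAC
    intro c hc
    have : QuotientGroup.mk' A c ∈ C.map (QuotientGroup.mk' A) := mem_map_of_mem _ hc
    rw [h, mem_bot, QuotientGroup.mk'_apply, QuotientGroup.eq_one_iff] at this
    exact this
  have hn : (C.map (QuotientGroup.mk' A)).Normal :=
    hCn.map _ (QuotientGroup.mk'_surjective A)
  obtain ⟨tb, htb, htb1, htbc⟩ :=
    Cfsg.Agent.Lib.Helper12.exists_ne_one_mem_center_of_normal (hG.to_quotient A)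
      (C.map (QuotientGroup.mk' A)) hbar
  obtain ⟨t, htC, rfl⟩ := htb
  refine ⟨t, htC, ?_, ?_⟩
  · intro h
    apply htb1
    rw [QuotientGroup.mk'_apply, QuotientGroup.eq_one_iff]; exact h
  · intro g
    rw [← QuotientGroup.eq_one_iff, ← QuotientGroup.mk'_apply, map_commutatorElement,
      commutatorElement_eq_one_iff_commute]
    exact mem_center_iff.mp htbc (QuotientGroup.mk' A g)

/-- a maximal normal abelian subgroup of a `p`-group is self-centralizing -/
theorem centralizer_eq_of_max_normal_abelian {G : Type*} [Group G] [Finite G] {p : ℕ}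
    [hp : Fact p.Prime] (hG : IsPGroup p G) (A : Subgroup G) [hAn : A.Normal]
    (hA : IsMulCommutative A)
    (hmax : ∀ B : Subgroup G, B.Normal → IsMulCommutative B → A ≤ B → B = A) :
    centralizer (A : Set G) = A := by
  apply le_antisymm
  · by_contra hnot
    obtain ⟨t, htC, htA, htc⟩ := exists_central_mod_of_lt hG A (centralizer (A : Set G)) hnot
    obtain ⟨hBn, hBc, -⟩ := sup_zpowers_normal_abelian A hA 0 (fun a _ => pow_zero a) htC
      (pow_zero t) htc
    have hBA := hmax _ hBn hBc le_sup_left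
    apply htA
    rw [← hBA]
    exact le_sup_right (a := A) (mem_zpowers t)
  · intro a ha
    rw [mem_centralizer_iff]; intro b hb
    exact congrArg Subtype.val (mul_comm' (⟨b, hb⟩ : A) ⟨a, ha⟩)

/-- the chain bound `|G : C_G(B)| ≤ p ^ (b choose 2)` for a normal subgroup `B` of order `p ^ b`
inside an abelian subgroup -/
theorem card_le_card_centralizer_mul {G : Type*} [Group G] [Finite G] {p : ℕ} [hp : Fact p.Prime]
    (hG : IsPGroup p G) (A : Subgroup G) (hA : IsMulCommutative A) :
    ∀ (b : ℕ) (B : Subgroup G), B.Normal → B ≤ A → Nat.card B = p ^ b →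
      Nat.card G ≤ Nat.card (centralizer (B : Set G)) * p ^ (b.choose 2) := by
  have hAcomm : ∀ x ∈ A, ∀ y ∈ A, x * y = y * x := fun x hx y hy =>
    congrArg Subtype.val (mul_comm' (⟨x, hx⟩ : A) ⟨y, hy⟩)
  intro b
  induction b using Nat.strong_induction_on with
  | _ b IH =>
  intro B hBn hBA hBcard
  rcases Nat.eq_zero_or_pos b with hb0 | hbpos
  · subst hb0
    rw [pow_zero] at hBcard
    have hB : B = ⊥ := Subgroup.card_eq_one.mp hBcard
    rw [hB, Subgroup.coe_bot, Subgroup.centralizer_eq_top_iff_subset.mpr (by simp)]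
    simp
  -- `B ≠ ⊥`
  have hB1 : B ≠ ⊥ := by
    intro h
    rw [h, Subgroup.card_bot] at hBcard
    have : 1 < p ^ b := Nat.one_lt_pow hbpos.ne' hp.out.one_lt
    omega
  -- a maximal `G`-normal subgroup `B₀ < B`
  obtain ⟨B₀, ⟨hB₀n, hB₀lt⟩, hB₀max⟩ :=
    (wellFounded_gt (α := Subgroup G)).has_min {N : Subgroup G | N.Normal ∧ N < B}
      ⟨⊥, inferInstance, bot_lt_iff_ne_bot.mpr hB1⟩
  have hB₀A : B₀ ≤ A := hB₀lt.le.trans hBA
  have hB₀ab : IsMulCommutative B₀ :=
    ⟨⟨fun x y => Subtype.ext (hAcomm x.1 (hB₀A x.2) y.1 (hB₀A y.2))⟩⟩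
  obtain ⟨t, htB, htB₀, htc⟩ := exists_central_mod_of_lt hG B₀ B (not_le_of_gt hB₀lt)
  have htcent : t ∈ centralizer (B₀ : Set G) := by
    rw [mem_centralizer_iff]
    intro z hz
    exact hAcomm z (hB₀A hz) t (hBA htB)
  obtain ⟨hB₁n, -, -⟩ := sup_zpowers_normal_abelian B₀ hB₀ab 0 (fun a _ => pow_zero a) htcent
    (pow_zero t) htc
  have hB₁le : B₀ ⊔ zpowers t ≤ B := sup_le hB₀lt.le (zpowers_le.mpr htB)
  have hB₁ : B₀ ⊔ zpowers t = B := by
    by_contra hne
    have hlt : B₀ ⊔ zpowers t < B := lt_of_le_of_ne hB₁le hne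
    have h1 : B₀ < B₀ ⊔ zpowers t := by
      apply lt_of_le_of_ne le_sup_left
      intro h
      apply htB₀
      rw [h]
      exact le_sup_right (a := B₀) (mem_zpowers t)
    exact hB₀max _ ⟨hB₁n, hlt⟩ h1
  -- the order of `B₀`
  obtain ⟨b₀, hb₀le, hb₀⟩ : ∃ b₀, b₀ ≤ b ∧ Nat.card B₀ = p ^ b₀ := by
    have hdvd : Nat.card B₀ ∣ p ^ b := by
      rw [← hBcard]; exact Subgroup.card_dvd_of_le hB₀lt.le
    exact (Nat.dvd_prime_pow hp.out).mp hdvd
  have hb₀lt : b₀ < b := by
    rcases Nat.lt_or_ge b₀ b with h | h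
    · exact h
    · exfalso
      have : b₀ = b := le_antisymm hb₀le h
      rw [this, ← hBcard] at hb₀
      exact hB₀lt.ne (Subgroup.eq_of_le_of_card_ge hB₀lt.le hb₀.ge)
  have hIH := IH b₀ hb₀lt B₀ hB₀n hB₀A hb₀
  -- the centralizer step
  obtain ⟨L, hL⟩ : ∃ L : Subgroup G, L = centralizer (B₀ : Set G) := ⟨_, rfl⟩
  rw [← hL] at hIH
  have hdvd : (centralizer ({t} : Set G)).relIndex L ∣ Nat.card B₀ := by
    apply Cfsg.Agent.Lib.Helper20.relIndex_centralizer_dvd_card_of_mem L B₀ t
    · intro g _; exact htc g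
    · intro g hg z hz
      rw [hL, mem_centralizer_iff] at hg
      exact (hg z hz).symm
    · intro z hz w hw
      exact hAcomm z (hB₀A hz) w (hB₀A hw)
  have hle1 : (centralizer ({t} : Set G)).relIndex L ≤ p ^ b₀ := by
    rw [← hb₀]; exact Nat.le_of_dvd Nat.card_pos hdvd
  have hLcard : Nat.card (centralizer ({t} : Set G) ⊓ L : Subgroup G) *
      (centralizer ({t} : Set G)).relIndex L = Nat.card L := by
    have := Subgroup.relIndex_mul_relIndex (⊥ : Subgroup G) (centralizer ({t} : Set G) ⊓ L) L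
      bot_le inf_le_right
    rwa [Subgroup.relIndex_bot_left, Subgroup.relIndex_bot_left, Subgroup.inf_relIndex_right]
      at this
  have hle2 : centralizer ({t} : Set G) ⊓ L ≤ centralizer (B : Set G) := by
    intro g hg
    have h1 : B₀ ⊔ zpowers t ≤ centralizer ({g} : Set G) := by
      apply sup_le
      · intro z hz
        rw [mem_centralizer_iff]
        intro h hh
        rw [Set.mem_singleton_iff] at hh
        subst hh
        have h2 : h ∈ centralizer (B₀ : Set G) := by rw [← hL]; exact hg.2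
        exact ((mem_centralizer_iff.mp h2) z hz).symm
      · rw [zpowers_le, mem_centralizer_iff]
        intro h hh
        rw [Set.mem_singleton_iff] at hh
        subst hh
        have := mem_centralizer_iff.mp hg.1 t (Set.mem_singleton t)
        exact this.symm
    rw [mem_centralizer_iff]
    intro x hx
    rw [SetLike.mem_coe, ← hB₁] at hx
    have := mem_centralizer_iff.mp (h1 hx) g (Set.mem_singleton g)
    exact this.symm
  have hle3 : Nat.card (centralizer ({t} : Set G) ⊓ L : Subgroup G) ≤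
      Nat.card (centralizer (B : Set G)) := Subgroup.card_le_of_le hle2
  have hch : b₀ + b₀.choose 2 ≤ b.choose 2 := by
    have h1 : (b₀ + 1).choose 2 = b₀ + b₀.choose 2 := by
      rw [Nat.choose_succ_succ' b₀ 1, Nat.choose_one_right]
    rw [← h1]
    exact Nat.choose_le_choose 2 hb₀lt
  calc Nat.card G ≤ Nat.card L * p ^ (b₀.choose 2) := hIH
    _ = Nat.card (centralizer ({t} : Set G) ⊓ L : Subgroup G) *
          (centralizer ({t} : Set G)).relIndex L * p ^ (b₀.choose 2) := by rw [hLcard]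
    _ ≤ Nat.card (centralizer (B : Set G)) * p ^ b₀ * p ^ (b₀.choose 2) :=
        Nat.mul_le_mul_right _ (Nat.mul_le_mul hle3 hle1)
    _ = Nat.card (centralizer (B : Set G)) * p ^ (b₀ + b₀.choose 2) := by
        rw [mul_assoc, ← pow_add]
    _ ≤ Nat.card (centralizer (B : Set G)) * p ^ (b.choose 2) :=
        Nat.mul_le_mul_left _ (Nat.pow_le_pow_right hp.out.pos hch)

/-- `|G| ≤ p ^ (a (a + 1) / 2)` for a `p`-group with a maximal normal abelian subgroup of order
`p ^ a` -/
theorem card_le_of_max_normal_abelian {G : Type*} [Group G] [Finite G] {p : ℕ}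
    [hp : Fact p.Prime] (hG : IsPGroup p G) (A : Subgroup G) [hAn : A.Normal]
    (hA : IsMulCommutative A)
    (hmax : ∀ B : Subgroup G, B.Normal → IsMulCommutative B → A ≤ B → B = A) (a : ℕ)
    (ha : Nat.card A = p ^ a) : Nat.card G ≤ p ^ (a * (a + 1) / 2) := by
  have h1 := card_le_card_centralizer_mul hG A hA a A hAn le_rfl ha
  rw [centralizer_eq_of_max_normal_abelian hG A hA hmax, ha, ← pow_add] at h1
  have h2 : a + a.choose 2 = a * (a + 1) / 2 := by
    have : (a + 1).choose 2 = a + a.choose 2 := by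
      rw [Nat.choose_succ_succ' a 1, Nat.choose_one_right]
    rw [← this, Nat.choose_two_right, Nat.add_sub_cancel, mul_comm]
  rwa [h2] at h1

end Cfsg.Agent.Lib.Helper1
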