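import Mathlib
import Cfsg.Prelude.Def_CaseTheorems
import Cfsg.Agent.Lib.Helper23.Class2
import Cfsg.Agent.Lib.Helper16.Extraspecial
import Cfsg.Agent.Lib.Helper1.MaxNormalAbelian

/-!
Automorphisms of order prime to `p(p^2-1)` of a `p`-group of rank at most two (`p` odd) are trivial
(helper1 library).  Minimal counterexample argument plus fixed-point counting.
-/

set_option autoImplicit false
open scoped commutatorElement

namespace Cfsg.Agent.Lib.Helper1

universe u

section restrict

variable {R : Type*} [Group R] [Finite R]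

/-- restriction of an automorphism to an invariant subgroup -/
noncomputable def restrictAut (α : MulAut R) (H : Subgroup R) (hH : ∀ x ∈ H, α x ∈ H) : MulAut H :=
  MulEquiv.ofBijective
    ({ toFun := fun x => ⟨α (x : R), hH x x.2⟩
       map_one' := Subtype.ext (map_one α)
       map_mul' := fun x y => Subtype.ext (map_mul α (x : R) (y : R)) } : H →* H)
    (by
      apply Finite.injective_iff_bijective.mp
      intro x y hxy
      apply Subtype.ext
      exact α.injective (congrArg Subtype.val hxy))

theorem restrictAut_apply (α : MulAut R) (H : Subgroup R) (hH : ∀ x ∈ H, α x ∈ H) (x : H) :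
    ((restrictAut α H hH x : H) : R) = α x := rfl

theorem restrictAut_pow_apply (α : MulAut R) (H : Subgroup R) (hH : ∀ x ∈ H, α x ∈ H) (k : ℕ) :
    ∀ x : H, ((((restrictAut α H hH) ^ k) x : H) : R) = (α ^ k) x := by
  induction k with
  | zero => intro x; simp
  | succ k ih =>
    intro x
    rw [pow_succ, pow_succ, MulAut.mul_apply, MulAut.mul_apply, ih]
    rfl

end restrict

theorem pRankLE_subgroup {p k : ℕ} {R : Type*} [Group R] (h : Cfsg.PRankLE p k R) (H : Subgroup R) :
    Cfsg.PRankLE p k H := by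
  intro A hA hexp
  have hcomm : IsMulCommutative (A.map H.subtype) := by
    refine ⟨⟨?_⟩⟩
    rintro ⟨_, ⟨x, hx, rfl⟩⟩ ⟨_, ⟨y, hy, rfl⟩⟩
    apply Subtype.ext
    have := mul_comm' (⟨x, hx⟩ : A) ⟨y, hy⟩
    have h2 := congrArg (fun z : A => ((z : H) : R)) this
    exact h2
  have h1 := h (A.map H.subtype) hcomm (by
    rintro _ ⟨x, hx, rfl⟩
    have := hexp x hx
    have h2 := congrArg (fun z : H => (z : R)) this
    simpa using h2)
  rwa [Subgroup.card_map_of_injective H.subtype_injective] at h1

theorem card_modEq_card_fixed {R : Type*} [Group R] [Finite R] (α : MulAut R) {q : ℕ} [Fact q.Prime]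
    (hα : α ^ q = 1) (F : Subgroup R) (hF : ∀ x, x ∈ F ↔ α x = x) :
    Nat.card R ≡ Nat.card F [MOD q] := by
  have hP : IsPGroup q (Subgroup.zpowers α) := by
    rintro ⟨g, hg⟩
    refine ⟨1, ?_⟩
    obtain ⟨k, rfl⟩ := Subgroup.mem_zpowers_iff.mp hg
    apply Subtype.ext
    simp only [pow_one, Subgroup.coe_pow, Subgroup.coe_one]
    rw [← zpow_natCast, ← zpow_mul, mul_comm, zpow_mul, zpow_natCast, hα, one_zpow]
  have h1 := hP.card_modEq_card_fixedPoints R
  have h2 : Nat.card (MulAction.fixedPoints (Subgroup.zpowers α) R) = Nat.card F := by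
    apply Nat.card_congr
    apply Equiv.setCongr
    ext x
    simp only [MulAction.mem_fixedPoints, SetLike.mem_coe, hF]
    constructor
    · intro h
      exact h ⟨α, Subgroup.mem_zpowers α⟩
    · intro h g
      have hα' : α ∈ MulAction.stabilizer (MulAut R) x := h
      have := (Subgroup.zpowers_le.mpr hα') g.2
      exact this
  rwa [h2] at h1

theorem arith_aux {p q n f : ℕ} (hp : p.Prime) (hq : q.Prime) (hqp : q ≠ p) (hfn : f < n)
    (hn : n ≤ f + 2) (hmod : p ^ n ≡ p ^ f [MOD q]) : q ∣ p ^ 2 - 1 := by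
  have hle : p ^ f ≤ p ^ n := Nat.pow_le_pow_right hp.pos hfn.le
  have h1 : q ∣ p ^ n - p ^ f := (Nat.modEq_iff_dvd' hle).mp hmod.symm
  have h2 : p ^ n - p ^ f = p ^ f * (p ^ (n - f) - 1) := by
    have : p ^ n = p ^ f * p ^ (n - f) := by rw [← pow_add]; congr 1; omega
    rw [this, Nat.mul_sub, mul_one]
  rw [h2] at h1
  have h3 : ¬ q ∣ p ^ f := by
    intro h
    have := hq.dvd_of_dvd_pow h
    exact hqp ((Nat.prime_dvd_prime_iff_eq hq hp).mp this)
  have h4 : q ∣ p ^ (n - f) - 1 := (hq.dvd_mul.mp h1).resolve_left h3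
  have h5 : p ^ 2 - 1 = (p + 1) * (p - 1) := by
    obtain ⟨k, rfl⟩ : ∃ k, p = k + 1 := ⟨p - 1, by have := hp.pos; omega⟩
    have : (k + 1) ^ 2 = (k + 1 + 1) * (k + 1 - 1) + 1 := by
      simp only [Nat.add_sub_cancel]; ring
    omega
  have h6 : n - f = 1 ∨ n - f = 2 := by omega
  rcases h6 with h6 | h6
  · rw [h6, pow_one] at h4
    rw [h5]
    exact Dvd.dvd.mul_left h4 _
  · rw [h6] at h4
    exact h4


theorem char_invariant {R : Type*} [Group R] (H : Subgroup R) [hH : H.Characteristic]
    (α : MulAut R) : ∀ x ∈ H, α x ∈ H := by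
  intro x hx
  have h := hH.fixed α
  rw [← h] at hx
  exact hx

open Subgroup in
/-- For `p` odd and `q` a prime not dividing `p (p^2-1)`, a `p`-group of rank at most two has no
automorphism of order `q`. -/
theorem aut_trivial_of_rank_two {p q : ℕ} [hp : Fact p.Prime] (hp2 : p ≠ 2) (hq : q.Prime)
    (hqp : q ≠ p) (hndvd : ¬ q ∣ p ^ 2 - 1) :
    ∀ (n : ℕ) (R : Type u) [Group R] [Finite R], Nat.card R = n → IsPGroup p R →
      Cfsg.PRankLE p 2 R → ∀ α : MulAut R, α ^ q = 1 → α = 1 := by
  intro n
  induction n using Nat.strong_induction_on with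
  | _ n ih =>
  intro R _ _ hn hR hrk α hα
  by_contra hne
  haveI : Fact q.Prime := ⟨hq⟩
  have hp2lt : 2 < p := lt_of_le_of_ne hp.out.two_le (Ne.symm hp2)
  -- restriction to proper invariant subgroups
  have hres : ∀ H : Subgroup R, H ≠ ⊤ → (∀ x ∈ H, α x ∈ H) → ∀ x ∈ H, α x = x := by
    intro H hH hinv x hx
    have hlt : Nat.card H < n := by
      rw [← hn]
      exact lt_of_le_of_ne (Subgroup.card_le_card_group H)
        (fun h => hH ((Subgroup.card_eq_iff_eq_top H).mp h))
    have h1 := ih (Nat.card H) hlt H rfl (hR.to_subgroup H) (pRankLE_subgroup hrk H)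
      (restrictAut α H hinv) (by
        ext y
        rw [restrictAut_pow_apply, hα]
        rfl)
    have h2 := congrArg (fun β : MulAut H => ((β ⟨x, hx⟩ : H) : R)) h1
    simpa [restrictAut_apply] using h2
  have hpel : ∀ x : R, x ^ q = 1 → x = 1 := by
    intro x hx
    obtain ⟨k, hk⟩ := hR x
    have h1 : orderOf x ∣ q := orderOf_dvd_of_pow_eq_one hx
    have h2 : orderOf x ∣ p ^ k := orderOf_dvd_of_pow_eq_one hk
    have hcop : Nat.Coprime q (p ^ k) :=
      Nat.Coprime.pow_right k ((Nat.coprime_primes hq hp.out).mpr hqp)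
    have h3 : orderOf x = 1 := Nat.eq_one_of_dvd_coprimes hcop h1 h2
    exact orderOf_eq_one_iff.mp h3
  have hchain : ∀ N : Subgroup R, (∀ x ∈ N, α x = x) → (∀ x, x⁻¹ * α x ∈ N) → False := by
    intro N hN hx
    apply hne
    ext x
    have key : ∀ k : ℕ, (α ^ k) x = x * (x⁻¹ * α x) ^ k := by
      intro k
      induction k with
      | zero => simp
      | succ k ihk =>
        have e : x * (x⁻¹ * α x) = α x := mul_inv_cancel_left x (α x)
        rw [pow_succ', MulAut.mul_apply, ihk, map_mul, map_pow, hN _ (hx x), pow_succ',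
          ← mul_assoc x (x⁻¹ * α x) _, e]
    have h1 := key q
    rw [hα] at h1
    have h2 : (x⁻¹ * α x) ^ q = 1 := by
      have h3 : x = x * (x⁻¹ * α x) ^ q := by simpa using h1
      have h4 : x * (x⁻¹ * α x) ^ q = x * 1 := by rw [mul_one]; exact h3.symm
      exact mul_left_cancel h4
    have h3 := hpel _ h2
    rw [MulAut.one_apply]
    exact (inv_mul_eq_one.mp h3).symm
  -- the subgroup generated by x⁻¹ α(x)
  set K := Subgroup.closure (Set.range fun x : R => x⁻¹ * α x) with hK
  have hKinv : ∀ x ∈ K, α x ∈ K := by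
    intro x hx
    have h1 : K.map α.toMonoidHom ≤ K := by
      rw [hK, MonoidHom.map_closure, Subgroup.closure_le]
      rintro _ ⟨_, ⟨y, rfl⟩, rfl⟩
      apply Subgroup.subset_closure
      refine ⟨α y, ?_⟩
      simp
    exact h1 ⟨x, hx, rfl⟩
  have hKtop : K = ⊤ := by
    by_contra hK'
    exact hchain K (hres K hK' hKinv) (fun x => Subgroup.subset_closure ⟨x, rfl⟩)
  have hcent : ∀ N : Subgroup R, N.Normal → N ≠ ⊤ → (∀ x ∈ N, α x ∈ N) →
      N ≤ Subgroup.center R := by
    intro N hNn hNt hNinv c hc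
    have hfix := hres N hNt hNinv
    have h1 : K ≤ Subgroup.centralizer {c} := by
      rw [hK, Subgroup.closure_le]
      rintro _ ⟨x, rfl⟩
      rw [SetLike.mem_coe, Subgroup.mem_centralizer_singleton_iff]
      have h1 : α (x * c * x⁻¹) = x * c * x⁻¹ := hfix _ (hNn.conj_mem c hc x)
      rw [map_mul, map_mul, map_inv, hfix c hc] at h1
      calc x⁻¹ * α x * c = x⁻¹ * (α x * c * (α x)⁻¹) * α x := by group
        _ = x⁻¹ * (x * c * x⁻¹) * α x := by rw [h1]
        _ = c * (x⁻¹ * α x) := by group
    rw [hKtop] at h1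
    rw [Subgroup.mem_center_iff]
    intro g
    have h2 := h1 (Subgroup.mem_top g)
    rw [Subgroup.mem_centralizer_singleton_iff] at h2
    exact h2
  haveI : Nontrivial R := by
    by_contra h
    rw [not_nontrivial_iff_subsingleton] at h
    exact hne (by ext x; exact Subsingleton.elim _ _)
  haveI : Group.IsNilpotent R := hR.isNilpotent
  have hcomm : commutator R ≤ center R :=
    hcent (commutator R) inferInstance
      (ne_of_lt (IsSolvable.commutator_lt_top_of_nontrivial R)) (char_invariant _ α)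
  have hcommfix := hres (commutator R)
    (ne_of_lt (IsSolvable.commutator_lt_top_of_nontrivial R)) (char_invariant _ α)
  have hfrat_ne : frattini R ≠ ⊤ := by
    intro h
    have h1 := frattini_nongenerating (G := R) (K := ⊥) (by rw [h]; simp)
    exact bot_ne_top h1
  have hfrat : frattini R ≤ center R := hcent _ inferInstance hfrat_ne (char_invariant _ α)
  have hfratfix := hres (frattini R) hfrat_ne (char_invariant _ α)
  have hpowc : ∀ x : R, x ^ p ∈ center R := fun x => hfrat (Helper16.pow_mem_frattini hR x)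
  have hpowfix : ∀ x : R, α (x ^ p) = x ^ p := fun x =>
    hfratfix _ (Helper16.pow_mem_frattini hR x)
  have hcommc : ∀ x y : R, ⁅x, y⁆ ∈ center R := fun x y =>
    hcomm (Subgroup.commutator_mem_commutator (Subgroup.mem_top x) (Subgroup.mem_top y))
  have hpowmul : ∀ a b : R, (a * b) ^ p = a ^ p * b ^ p := by
    intro a b
    rw [Helper23.mul_pow_of_central_commutator a b (hcommc b a) p]
    have h1 : ⁅b, a⁆ ^ p = 1 := by
      rw [← Helper23.commutatorElement_pow_left_of_central b a (hcommc b a) p]
      rw [commutatorElement_eq_one_iff_commute]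
      exact (Subgroup.mem_center_iff.mp (hpowc b) a).symm
    have h2 : p ∣ p.choose 2 := hp.out.dvd_choose_self (by norm_num) hp2lt
    obtain ⟨m, hm⟩ := h2
    rw [hm, pow_mul, h1, one_pow, mul_one]
  have hexp : ∀ x : R, x ^ p = 1 := by
    let Ω : Subgroup R :=
      { carrier := {x | x ^ p = 1}
        one_mem' := one_pow p
        mul_mem' := by
          intro a b ha hb
          simp only [Set.mem_setOf_eq] at *
          rw [hpowmul, ha, hb, one_mul]
        inv_mem' := by
          intro a ha
          simp only [Set.mem_setOf_eq] at *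
          rw [inv_pow, ha, inv_one] }
    have h1 : K ≤ Ω := by
      rw [hK, Subgroup.closure_le]
      rintro _ ⟨x, rfl⟩
      show (x⁻¹ * α x) ^ p = 1
      rw [hpowmul, inv_pow, ← map_pow, hpowfix, inv_mul_cancel]
    intro x
    have h2 : x ∈ K := hKtop ▸ Subgroup.mem_top x
    exact h1 h2
  have hab : ∀ A : Subgroup R, IsMulCommutative A → Nat.card A ≤ p ^ 2 := fun A hA =>
    hrk A hA (fun a _ => hexp a)
  -- order at most p^3
  have hcard3 : Nat.card R ≤ p ^ 3 := by
    have hbot : (⊥ : Subgroup R) ∈ {B : Subgroup R | B.Normal ∧ IsMulCommutative B} :=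
      ⟨inferInstance, ⟨⟨fun a b => Subsingleton.elim _ _⟩⟩⟩
    obtain ⟨A, -, hAmax⟩ :=
      (Set.toFinite {B : Subgroup R | B.Normal ∧ IsMulCommutative B}).exists_le_maximal hbot
    obtain ⟨hAn, hAc⟩ := hAmax.prop
    have hmax : ∀ B : Subgroup R, B.Normal → IsMulCommutative B → A ≤ B → B = A :=
      fun B hBn hBc hAB => le_antisymm (hAmax.le_of_ge ⟨hBn, hBc⟩ hAB) hAB
    obtain ⟨a, ha⟩ := (hR.to_subgroup A).exists_card_eq
    have ha2 : a ≤ 2 := by
      have := hab A hAc
      rw [ha] at this
      exact (Nat.pow_le_pow_iff_right hp.out.one_lt).mp this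
    have h1 := card_le_of_max_normal_abelian hR A hAc hmax a ha
    refine h1.trans (Nat.pow_le_pow_right hp.out.pos ?_)
    interval_cases a <;> norm_num
  -- fixed points
  let F : Subgroup R :=
    { carrier := {x | α x = x}
      one_mem' := map_one α
      mul_mem' := by
        intro a b ha hb
        simp only [Set.mem_setOf_eq] at *
        rw [map_mul, ha, hb]
      inv_mem' := by
        intro a ha
        simp only [Set.mem_setOf_eq] at *
        rw [map_inv, ha] }
  have hFtop : F ≠ ⊤ := by
    intro h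
    apply hne
    ext x
    have : x ∈ F := h ▸ Subgroup.mem_top x
    exact this
  have hmod := card_modEq_card_fixed α hα F (fun x => Iff.rfl)
  obtain ⟨n', hn'⟩ := hR.exists_card_eq
  obtain ⟨f, hf⟩ := (hR.to_subgroup F).exists_card_eq
  have hfn : f < n' := by
    have h1 : Nat.card F < Nat.card R :=
      lt_of_le_of_ne (Subgroup.card_le_card_group F)
        (fun h => hFtop ((Subgroup.card_eq_iff_eq_top F).mp h))
    rw [hn', hf] at h1
    exact (Nat.pow_lt_pow_iff_right hp.out.one_lt).mp h1
  have hn3 : n' ≤ 3 := by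
    rw [hn'] at hcard3
    exact (Nat.pow_le_pow_iff_right hp.out.one_lt).mp hcard3
  have hle : n' ≤ f + 2 := by
    by_contra hcon
    have hf0 : f = 0 := by omega
    rw [hf0, pow_zero] at hf
    have hFbot : F = ⊥ := Subgroup.card_eq_one.mp hf
    have hcommute : ∀ x y : R, x * y = y * x := by
      intro x y
      have h1 : ⁅x, y⁆ ∈ F := hcommfix _
        (Subgroup.commutator_mem_commutator (Subgroup.mem_top x) (Subgroup.mem_top y))
      rw [hFbot, Subgroup.mem_bot] at h1
      exact (commutatorElement_eq_one_iff_mul_comm.mp h1)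
    have h2 := hab ⊤ ⟨⟨fun a b => Subtype.ext (hcommute a b)⟩⟩
    rw [Subgroup.card_top, hn'] at h2
    have := (Nat.pow_le_pow_iff_right hp.out.one_lt).mp h2
    omega
  apply hndvd
  refine arith_aux hp.out hq hqp hfn hle ?_
  rw [← hn', ← hf]
  exact hmod

end Cfsg.Agent.Lib.Helper1
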