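import Cfsg.Agent.Lib.Helper1.BGEmb2
import Cfsg.Agent.Lib.Helper17.RankOne
import Cfsg.Agent.Lib.Helper9.Cyclic

/-!
# B & G Corollary 14.3 (embedding of `P`-type maximal subgroups), part 1: uniqueness

For `X ≤ K* = C_{M_σ}(K)` of prime order, `M` is the unique maximal subgroup containing `C_G(X)`.
Black-box corollary of the statements of S1431 (for `M`), S1417, S1419 (for all maximal subgroups)
and S1350, S1403.
-/

set_option autoImplicit false
set_option linter.style.haveILetI false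

namespace Cfsg.Agent.Lib.Helper1.BGEmb

open Subgroup
open Cfsg.Agent.Lib.Helper1.BGX (UT)
open Cfsg.Agent.Lib.Helper2.BGCor
open Cfsg.Agent.Lib.Helper8 (mem_map_conj conj_mem_map_conj map_conj_map_conj map_conj_one
  map_conj_le_iff map_conj_eq_iff sylow_smul_coe)

variable {G : Type*} [Group G]

/-- The conclusion of S1431 for `M`, `K`. -/
def T143 (M K : Subgroup G) : Prop :=
  (∀ g : G, g ∉ M → (Cfsg.sigmaCore M ⊓ centralizer (K : Set G)) ⊓
      M.map (MulAut.conj g).toMonoidHom = ⊥) ∧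
    (∀ g ∈ M, g ∉ K ⊔ (Cfsg.sigmaCore M ⊓ centralizer (K : Set G)) →
      K ⊓ K.map (MulAut.conj g).toMonoidHom = ⊥) ∧
    (∀ (p : ℕ), p.Prime → p ∣ Nat.card ↥(Cfsg.sigmaCore M ⊓ centralizer (K : Set G)) →
      ∀ S : Sylow p ↥(Cfsg.sigmaCore M),
        Cfsg.InUniqueMaximal ((S : Subgroup ↥(Cfsg.sigmaCore M)).map (Cfsg.sigmaCore M).subtype) ∧
        (S : Subgroup ↥(Cfsg.sigmaCore M)).map (Cfsg.sigmaCore M).subtype ≤ M ∧
        ¬ (S : Subgroup ↥(Cfsg.sigmaCore M)).map (Cfsg.sigmaCore M).subtype ≤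
          (Cfsg.sigmaCore M ⊓ centralizer (K : Set G))) ∧
    ∀ Y : Subgroup G, (∀ p : ℕ, p.Prime → p ∣ Nat.card Y → p ∈ Cfsg.sigma M) →
      Y ⊓ (Cfsg.sigmaCore M ⊓ centralizer (K : Set G)) ≠ ⊥ → Y ≤ Cfsg.sigmaCore M

/-- The part of the conclusion of S1419 for `L` that is used here. -/
def T127 (L : Subgroup G) : Prop :=
  ∀ E : Subgroup G, Cfsg.IsComplIn E (Cfsg.sigmaCore L) L →
    ∀ (p : ℕ) [Fact p.Prime], p ∈ Cfsg.tau2 L →
      (∀ S : Sylow p G, ¬ IsMulCommutative (S : Subgroup G)) →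
      ∀ A : Subgroup G, (A ≤ E ∧ Cfsg.IsElementaryAbelian p A ∧ Nat.card A = p ^ 2) →
        ∀ X : Subgroup G, X ≤ E → Nat.card X = p →
          X ≠ A ⊓ centralizer (Cfsg.sigmaCore L : Set G) →
          Cfsg.sigmaCore L ⊓ centralizer (X : Set G) = ⊥ ∧ ¬ centralizer (X : Set G) ≤ L

/-- A noncyclic `q`-subgroup, `q` odd, contains an elementary abelian subgroup of order `q ^ 2`. -/
theorem exists_elemAb_sq_of_not_cyclic [Finite G] {q : ℕ} [Fact q.Prime] (hq2 : q ≠ 2)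
    {S : Subgroup G} (hS : IsPGroup q S) (hnc : ¬ IsCyclic S) :
    ∃ A : Subgroup G, A ≤ S ∧ Cfsg.IsElementaryAbelian q A ∧ Nat.card A = q ^ 2 := by
  have hq : q.Prime := Fact.out
  have hrk : ¬ Cfsg.PRankLE q 1 ↥S := by
    intro hrk
    apply hnc
    have h1 := Cfsg.Agent.Lib.Helper17.isCyclic_of_pRankLE_one hq2 hrk (⊤ : Subgroup ↥S)
      (hS.to_subgroup ⊤)
    exact (Subgroup.topEquiv (G := ↥S)).isCyclic.mp h1
  unfold Cfsg.PRankLE at hrk
  push_neg at hrk
  obtain ⟨B, hBc, hBe, hBcard⟩ := hrk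
  rw [pow_one] at hBcard
  -- `B` is a `q`-group of order `> q`, so it has a subgroup of order `q ^ 2`
  have hBp : IsPGroup q ↥B := by
    intro b
    refine ⟨1, ?_⟩
    rw [pow_one]
    exact Subtype.ext (by simpa using hBe b.1 b.2)
  obtain ⟨k, hk⟩ := IsPGroup.iff_card.mp hBp
  have hk2 : 2 ≤ k := by
    by_contra hlt
    have hk1 : k ≤ 1 := by omega
    have : Nat.card ↥B ≤ q ^ 1 := hk ▸ Nat.pow_le_pow_right hq.pos hk1
    rw [pow_one] at this
    omega
  have hdvd : q ^ 2 ∣ Nat.card ↥B := hk ▸ pow_dvd_pow q hk2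
  obtain ⟨A0, hA0⟩ := Sylow.exists_subgroup_card_pow_prime q hdvd
  refine ⟨(A0.map B.subtype).map S.subtype, ?_, ⟨?_, ?_⟩, ?_⟩
  · exact Subgroup.map_subtype_le _
  · constructor
    constructor
    rintro ⟨_, ⟨_, ⟨a, ha, rfl⟩, rfl⟩⟩ ⟨_, ⟨_, ⟨b, hb, rfl⟩, rfl⟩⟩
    apply Subtype.ext
    have := hBc.is_comm.comm a b
    have h2 := congrArg (fun z : ↥B => ((z : ↥S) : G)) this
    simpa using h2
  · rintro _ ⟨_, ⟨a, ha, rfl⟩, rfl⟩
    have := hBe a.1 a.2
    have h2 := congrArg (fun z : ↥S => (z : G)) this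
    simpa using h2
  · rw [Subgroup.card_map_of_injective S.subtype_injective,
      Subgroup.card_map_of_injective B.subtype_injective, hA0]

/-- If one Sylow `q`-subgroup of `G` is nonabelian, all are. -/
theorem sylow_not_comm_of_one [Finite G] {q : ℕ} [Fact q.Prime] (S0 : Sylow q G)
    (h : ¬ IsMulCommutative ↥(S0 : Subgroup G)) :
    ∀ S : Sylow q G, ¬ IsMulCommutative ↥(S : Subgroup G) := by
  intro S hS
  apply h
  obtain ⟨g, hg⟩ := MulAction.exists_smul_eq G S S0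
  have e : ↥(S : Subgroup G) ≃* ↥((g • S : Sylow q G) : Subgroup G) := Sylow.equivSMul S g
  rw [hg] at e
  refine ⟨⟨fun a b => ?_⟩⟩
  apply e.symm.injective
  rw [map_mul, map_mul]
  exact hS.is_comm.comm _ _

/-- A nontrivial `q`-subgroup has a subgroup of order `q`. -/
theorem exists_subgroup_card_eq_prime [Finite G] {q : ℕ} [Fact q.Prime] {H : Subgroup G}
    (hH : IsPGroup q H) (hH1 : H ≠ ⊥) : ∃ X : Subgroup G, X ≤ H ∧ Nat.card X = q := by
  obtain ⟨k, hk⟩ := IsPGroup.iff_card.mp hH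
  have hk0 : k ≠ 0 := by
    rintro rfl
    rw [pow_zero] at hk
    exact hH1 (Subgroup.card_eq_one.mp hk)
  have hqd : q ∣ Nat.card H := hk ▸ dvd_pow_self q hk0
  obtain ⟨x, hx⟩ := exists_prime_orderOf_dvd_card' q hqd
  refine ⟨zpowers (x : G), ?_, ?_⟩
  · rw [zpowers_le]; exact x.2
  · rw [Nat.card_zpowers, Subgroup.orderOf_coe, hx]

/-- A conjugate of a complement of `M_σ` in `M` by an element of `M` is again a complement. -/
theorem isComplIn_map_conj {M E : Subgroup G} (hE : Cfsg.IsComplIn E (Cfsg.sigmaCore M) M) {g : G}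
    (hg : g ∈ M) : Cfsg.IsComplIn (E.map (MulAut.conj g).toMonoidHom) (Cfsg.sigmaCore M) M := by
  obtain ⟨hEM, hσM, hdisj, hprod⟩ := hE
  have hg' : g⁻¹ ∈ M := M.inv_mem hg
  refine ⟨?_, hσM, ?_, ?_⟩
  · rintro _ ⟨e, he, rfl⟩
    exact M.mul_mem (M.mul_mem hg (hEM he)) hg'
  · rw [eq_bot_iff]
    intro x hx
    obtain ⟨hx1, hx2⟩ := Subgroup.mem_inf.mp hx
    rw [mem_map_conj] at hx1
    have h2 : g⁻¹ * x * g ∈ Cfsg.sigmaCore M := by
      have := conj_mem_sigmaCore hg' hx2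
      rwa [inv_inv] at this
    have h3 : g⁻¹ * x * g ∈ E ⊓ Cfsg.sigmaCore M := ⟨hx1, h2⟩
    rw [hdisj, mem_bot] at h3
    rw [mem_bot]
    calc x = g * (g⁻¹ * x * g) * g⁻¹ := by group
      _ = 1 := by rw [h3]; group
  · intro m hm
    obtain ⟨a, ha, b, hb, hab⟩ := hprod (g⁻¹ * m * g) (M.mul_mem (M.mul_mem hg' hm) hg)
    refine ⟨g * a * g⁻¹, conj_mem_map_conj ha, g * b * g⁻¹, conj_mem_sigmaCore hg hb, ?_⟩
    calc m = g * (g⁻¹ * m * g) * g⁻¹ := by group
      _ = g * (a * b) * g⁻¹ := by rw [hab]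
      _ = g * a * g⁻¹ * (g * b * g⁻¹) := by group

/-- `N_G(X) ≤ M` for `1 ≠ X ≤ K*` (from S1431(a)). -/
theorem normalizer_le_of_le_kstar {M K : Subgroup G} (h143 : T143 M K) {X : Subgroup G}
    (hX : X ≤ Cfsg.sigmaCore M ⊓ centralizer (K : Set G)) (hX1 : X ≠ ⊥) :
    normalizer (X : Set G) ≤ M := by
  intro g hg
  by_contra hgM
  have h1 := h143.1 g hgM
  apply hX1
  rw [eq_bot_iff, ← h1]
  refine le_inf hX ?_
  intro x hx
  rw [mem_map_conj]
  have hg' : g⁻¹ ∈ normalizer (X : Set G) := (normalizer (X : Set G)).inv_mem hg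
  have := (Subgroup.mem_normalizer_iff.mp hg' x).mp hx
  rw [inv_inv] at this
  exact (sigmaCore_le M) (hX this).1

/-- **Uniqueness.** For `X ≤ K*` of prime order, `M` is the only maximal subgroup containing `C_G(X)`. -/
theorem uniq_kstar [Finite G] (hG : Cfsg.IsMinSimpleOddOrder G) (hU : UT G) {M K : Subgroup G}
    (hM : IsCoatom M) (h143 : T143 M K)
    (h125 : ∀ L : Subgroup G, IsCoatom L → T125 L) (h127 : ∀ L : Subgroup G, IsCoatom L → T127 L)
    (X : Subgroup G) (hX : X ≤ Cfsg.sigmaCore M ⊓ centralizer (K : Set G))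
    (hXp : (Nat.card X).Prime) :
    centralizer (X : Set G) ≤ M ∧
      ∀ L : Subgroup G, IsCoatom L → centralizer (X : Set G) ≤ L → L = M := by
  classical
  obtain ⟨q, hqdef⟩ : ∃ q : ℕ, q = Nat.card X := ⟨_, rfl⟩
  rw [← hqdef] at hXp
  haveI : Fact q.Prime := ⟨hXp⟩
  haveI := hG.2.1
  have hX1 : X ≠ ⊥ := by
    intro h
    rw [h, Subgroup.card_bot] at hqdef
    exact hXp.ne_one hqdef
  have hNX : normalizer (X : Set G) ≤ M := normalizer_le_of_le_kstar h143 hX hX1
  have hCX : centralizer (X : Set G) ≤ M := (centralizer_le_normalizer (X : Set G)).trans hNX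
  refine ⟨hCX, ?_⟩
  intro L hL hCL
  by_contra hne
  have hXσ : X ≤ Cfsg.sigmaCore M := hX.trans inf_le_left
  have hqM : q ∈ Cfsg.sigma M := by
    apply primes_card_sigmaCore M q hXp
    rw [hqdef]
    exact Subgroup.card_dvd_of_le hXσ
  have hXq : IsPGroup q X := IsPGroup.of_card (n := 1) (by rw [pow_one, hqdef])
  haveI hXcyc : IsCyclic X := isCyclic_of_prime_card hqdef.symm
  have hXcomm : X ≤ centralizer (X : Set G) := by
    intro x hx
    rw [mem_centralizer_iff]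
    intro y hy
    letI := hXcyc.commGroup
    have := mul_comm (⟨y, hy⟩ : X) ⟨x, hx⟩
    exact congrArg Subtype.val this
  have hXL : X ≤ L := hXcomm.trans hCL
  have hq2 : q ≠ 2 := by
    have hodd : Odd (Nat.card G) := hG.1
    exact Cfsg.Agent.Lib.Helper1.BGX.ne_two_of_dvd hodd (hqdef ▸ Subgroup.card_subgroup_dvd_card X)
  -- a Sylow `q`-subgroup `S1` of `L` containing `X`; it lies in `M_σ`
  obtain ⟨P, hP⟩ := IsPGroup.exists_le_sylow (hXq.comap_subtype (K := L))
  obtain ⟨S1, hS1def⟩ : ∃ S1 : Subgroup G, S1 = (P : Subgroup ↥L).map L.subtype := ⟨_, rfl⟩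
  have hS1L : S1 ≤ L := hS1def ▸ Subgroup.map_subtype_le _
  have hXS1 : X ≤ S1 := by
    intro x hx
    rw [hS1def]
    exact ⟨⟨x, hXL hx⟩, hP (show (⟨x, hXL hx⟩ : ↥L) ∈ X.comap L.subtype from hx), rfl⟩
  have hS1q : IsPGroup q S1 := hS1def ▸ P.isPGroup'.map _
  have hS1σ : S1 ≤ Cfsg.sigmaCore M := by
    apply h143.2.2.2 S1
    · intro p hp hpd
      obtain ⟨k, hk⟩ := IsPGroup.iff_card.mp hS1q
      rw [hk] at hpd
      rw [(Nat.prime_dvd_prime_iff_eq hp hXp).mp (hp.dvd_of_dvd_pow hpd)]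
      exact hqM
    · intro h
      apply hX1
      rw [eq_bot_iff, ← h]
      exact le_inf hXS1 hX
  have hqK : q ∣ Nat.card ↥(Cfsg.sigmaCore M ⊓ centralizer (K : Set G)) :=
    hqdef ▸ Subgroup.card_dvd_of_le hX
  -- a Sylow `q`-subgroup of `M_σ` cannot lie in `L`
  have hkey : ∀ S2 : Sylow q ↥(Cfsg.sigmaCore M),
      (S2 : Subgroup ↥(Cfsg.sigmaCore M)).map (Cfsg.sigmaCore M).subtype ≤ L → False := by
    intro S2 hS2L
    obtain ⟨⟨M0, -, hM0⟩, hS2M, -⟩ := h143.2.2.1 q hXp hqK S2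
    have h1 := hM0 L ⟨hL, hS2L⟩
    have h2 := hM0 M ⟨hM, hS2M⟩
    exact hne (h1.trans h2.symm)
  by_cases hqL : q ∈ Cfsg.sigma L
  · have hidxL : ¬ q ∣ L.index := fun h =>
      not_dvd_index_sigmaCore hG hL hqL (h.trans (Subgroup.index_dvd_of_le (sigmaCore_le L)))
    obtain ⟨S, hS⟩ := Cfsg.Agent.Lib.Helper16.BGPrim.exists_sylow_eq_of_not_dvd_index hidxL P
    have hSσ : (S : Subgroup G) ≤ Cfsg.sigmaCore M := by rw [hS, ← hS1def]; exact hS1σ
    apply hkey (S.subtype hSσ)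
    rw [Sylow.coe_subtype, Subgroup.map_subgroupOf_eq_of_le hSσ, hS, ← hS1def]
    exact hS1L
  · -- a Sylow `q`-subgroup `S2` of `M_σ` over `S1`
    obtain ⟨S2, hS2⟩ := IsPGroup.exists_le_sylow (hS1q.comap_subtype (K := Cfsg.sigmaCore M))
    obtain ⟨S2m, hS2mdef⟩ : ∃ S2m : Subgroup G,
        S2m = (S2 : Subgroup ↥(Cfsg.sigmaCore M)).map (Cfsg.sigmaCore M).subtype := ⟨_, rfl⟩
    have hS1S2 : S1 ≤ S2m := by
      intro x hx
      rw [hS2mdef]
      exact ⟨⟨x, hS1σ hx⟩,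
        hS2 (show (⟨x, hS1σ hx⟩ : ↥(Cfsg.sigmaCore M)) ∈ S1.comap (Cfsg.sigmaCore M).subtype from hx), rfl⟩
    have hS2q : IsPGroup q S2m := hS2mdef ▸ S2.isPGroup'.map _
    have hnotL : ¬ S2m ≤ L := fun h => hkey S2 (hS2mdef ▸ h)
    have hcentral : (∀ s ∈ S2m, ∀ x ∈ X, s * x = x * s) → False := by
      intro h
      apply hnotL
      intro s hs
      apply hCL
      rw [mem_centralizer_iff]
      intro x hx
      exact (h s hs x hx).symm
    by_cases hcyc : IsCyclic S1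
    · -- `S1` cyclic: `X = Ω₁(Z(S2m))`
      obtain ⟨Zc, hZcdef⟩ : ∃ Zc : Subgroup G, Zc = (Subgroup.center ↥S2m).map S2m.subtype :=
        ⟨_, rfl⟩
      have hZcS2 : Zc ≤ S2m := hZcdef ▸ Subgroup.map_subtype_le _
      have hZcomm : ∀ z ∈ Zc, ∀ s ∈ S2m, z * s = s * z := by
        intro z hz s hs
        rw [hZcdef] at hz
        obtain ⟨z', hz', rfl⟩ := hz
        have := Subgroup.mem_center_iff.mp hz' ⟨s, hs⟩
        exact (congrArg Subtype.val this).symm
      have hXS2 : X ≤ S2m := hXS1.trans hS1S2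
      have hZc1 : Zc ≠ ⊥ := by
        haveI : Nontrivial ↥S2m := by
          rw [Subgroup.nontrivial_iff_ne_bot]
          intro h
          apply hX1
          rw [eq_bot_iff, ← h]
          exact hXS2
        haveI hnt : Nontrivial ↥(Subgroup.center ↥S2m) := hS2q.center_nontrivial
        intro h
        rw [hZcdef, Subgroup.map_eq_bot_iff_of_injective _ S2m.subtype_injective] at h
        exact (Subgroup.nontrivial_iff_ne_bot _).mp hnt h
      have hZcL : Zc ≤ L := by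
        intro z hz
        apply hCL
        rw [mem_centralizer_iff]
        intro x hx
        exact (hZcomm z hz x (hXS2 hx)).symm
      have hZcS1 : Zc ≤ S1 := by
        have hQq : IsPGroup q ↥(Zc ⊔ S1) := hS2q.to_le (sup_le hZcS2 hS1S2)
        have hPQ : (P : Subgroup ↥L) ≤ (Zc ⊔ S1).subgroupOf L := by
          intro y hy
          rw [Subgroup.mem_subgroupOf]
          apply (le_sup_right : S1 ≤ Zc ⊔ S1)
          rw [hS1def]
          exact ⟨y, hy, rfl⟩
        have heq : (Zc ⊔ S1).subgroupOf L = (P : Subgroup ↥L) :=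
          P.is_maximal' (hQq.comap_subtype (K := L)) hPQ
        intro z hz
        have h1 : (⟨z, hZcL hz⟩ : ↥L) ∈ (Zc ⊔ S1).subgroupOf L := by
          rw [Subgroup.mem_subgroupOf]
          exact (le_sup_left : Zc ≤ Zc ⊔ S1) hz
        rw [heq] at h1
        rw [hS1def]
        exact ⟨_, h1, rfl⟩
      obtain ⟨X', hX'Z, hX'c⟩ := exists_subgroup_card_eq_prime (hS2q.to_le hZcS2) hZc1
      have hX'X : X' = X := by
        haveI := hcyc
        have h1 := Cfsg.Agent.Lib.Helper9.subgroup_eq_of_card_eq_of_isCyclic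
          (X'.subgroupOf S1) (X.subgroupOf S1)
          (by rw [Cfsg.Agent.Lib.Helper1.card_subgroupOf_of_le (hX'Z.trans hZcS1),
                Cfsg.Agent.Lib.Helper1.card_subgroupOf_of_le hXS1, hX'c, hqdef])
        rw [← Subgroup.map_subgroupOf_eq_of_le (hX'Z.trans hZcS1), h1,
          Subgroup.map_subgroupOf_eq_of_le hXS1]
      apply hcentral
      intro s hs x hx
      exact (hZcomm x (hX'Z (hX'X ▸ hx)) s hs).symm
    · -- `S1` noncyclic: `q ∈ τ₂(L)`
      obtain ⟨A, hAS1, hAe, hAc⟩ := exists_elemAb_sq_of_not_cyclic hq2 hS1q hcyc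
      have hAL : A ≤ L := hAS1.trans hS1L
      have hAM : A ≤ M := hAS1.trans (hS1σ.trans (sigmaCore_le M))
      have hr2 : Cfsg.PRankLE q 2 ↥L := by
        by_contra h
        exact hqL (Cfsg.Agent.Lib.Helper1.BGX.alpha_subset_sigma hG hU hL ⟨hXp, h⟩)
      have hr1 : ¬ Cfsg.PRankLE q 1 ↥L := not_pRankLE_one_of_sq hXp hAL hAe hAc
      have hτ2 : q ∈ Cfsg.tau2 L := ⟨hXp, hqL, hr2, hr1⟩
      obtain ⟨-, hSyl, -, -, hE, -⟩ := h125 L hL q hτ2 A ⟨hAL, hAe, hAc⟩
      obtain ⟨-, hPA⟩ := hSyl P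
      have hXA : X ≤ A := by
        intro x hx
        have hx1 : x ∈ (P : Subgroup ↥L).map L.subtype := hS1def ▸ hXS1 hx
        apply ((hPA (hS1def ▸ hAS1)).1 x hx1).mp
        have := pow_card_eq_one' (G := X) (x := ⟨x, hx⟩)
        rw [← hqdef] at this
        simpa using congrArg Subtype.val this
      have hLσM : Cfsg.sigmaCore L ⊓ M = ⊥ := hE M hM (Ne.symm hne) hAM
      by_cases hab : ∀ a ∈ S2m, ∀ b ∈ S2m, a * b = b * a
      · exact hcentral (fun s hs x hx => hab s hs x (hS1S2 (hXS1 hx)))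
      · -- the Sylow `q`-subgroups of `G` are nonabelian
        obtain ⟨S0, hS0⟩ := Cfsg.Agent.Lib.Helper16.BGPrim.exists_sylow_eq_of_not_dvd_index
          (not_dvd_index_sigmaCore hG hM hqM) S2
        rw [← hS2mdef] at hS0
        have hS0nc : ¬ IsMulCommutative ↥(S0 : Subgroup G) := by
          intro hc
          apply hab
          intro a ha b hb
          rw [← hS0] at ha hb
          have := hc.is_comm.comm ⟨a, ha⟩ ⟨b, hb⟩
          exact congrArg Subtype.val this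
        have hall := sylow_not_comm_of_one S0 hS0nc
        obtain ⟨hHallL, -, -⟩ := Cfsg.Agent.S1350.result hG L hL
        obtain ⟨E0, hE0⟩ := exists_compl_sigmaCore hHallL
        have hAσ : ∀ p : ℕ, p.Prime → p ∣ Nat.card A → p ∉ Cfsg.sigma L := by
          intro p hp hpd
          rw [hAc] at hpd
          rw [(Nat.prime_dvd_prime_iff_eq hp hXp).mp (hp.dvd_of_dvd_pow hpd)]
          exact hqL
        obtain ⟨g, hgL, hAg⟩ := exists_conj_le_compl hG hL hHallL hE0 hAL hAσ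
        have hEc := isComplIn_map_conj hE0 (L.inv_mem hgL)
        have hAE : A ≤ E0.map (MulAut.conj g⁻¹).toMonoidHom := map_conj_le_iff.mp hAg
        have hXne : X ≠ A ⊓ centralizer (Cfsg.sigmaCore L : Set G) := by
          intro heq
          have h1 : X ≤ centralizer (Cfsg.sigmaCore L : Set G) := by
            rw [heq]; exact inf_le_right
          have h2 : Cfsg.sigmaCore L ≤ centralizer (X : Set G) := by
            intro y hy
            rw [mem_centralizer_iff]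
            intro x hx
            exact ((mem_centralizer_iff.mp (h1 hx)) y hy).symm
          apply sigmaCore_ne_bot hG hU hL hHallL
          rw [eq_bot_iff, ← hLσM]
          exact le_inf le_rfl (h2.trans hCX)
        exact (h127 L hL _ hEc q hτ2 hall A ⟨hAE, hAe, hAc⟩ X (hXA.trans hAE) hqdef.symm hXne).2 hCL

/-- `K* ≠ 1` when `K ≠ 1` (from S1430(a)). -/
theorem kstar_ne_bot [Finite G] (hG : Cfsg.IsMinSimpleOddOrder G) {M K : Subgroup G}
    (hM : IsCoatom M) (hK : Cfsg.IsPiHallOf (Cfsg.kappa M) K M) (hK1 : K ≠ ⊥) (h142 : T142 M K) :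
    Cfsg.sigmaCore M ⊓ centralizer (K : Set G) ≠ ⊥ := by
  obtain ⟨k, hk, hk1, y, hy, hy1, hky⟩ := exists_mem_hall_kappa_commuting hG hM hK hK1
  intro h
  apply hy1
  have h1 : y ∈ Cfsg.sigmaCore M ⊓ centralizer ({k} : Set G) := by
    refine Subgroup.mem_inf.mpr ⟨hy, ?_⟩
    rw [mem_centralizer_iff]
    intro z hz
    rw [Set.mem_singleton_iff.mp hz]
    exact hky
  rw [h142.1 k hk hk1, h, mem_bot] at h1
  exact h1

/-- **S1367** from the statements of S1430, S1431, S1417, S1419. -/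
theorem s1367_core [Finite G] (hG : Cfsg.IsMinSimpleOddOrder G) (hU : UT G) {M K Mstar : Subgroup G}
    (hM : IsCoatom M) (hMs : IsCoatom Mstar)
    (h143M : T143 M K)
    (h143S : T143 Mstar (Cfsg.sigmaCore M ⊓ centralizer (K : Set G)))
    (h125 : ∀ L : Subgroup G, IsCoatom L → T125 L) (h127 : ∀ L : Subgroup G, IsCoatom L → T127 L)
    (hKst : K = Cfsg.sigmaCore Mstar ⊓
      centralizer ((Cfsg.sigmaCore M ⊓ centralizer (K : Set G) : Subgroup G) : Set G)) :
    (∀ X : Subgroup G, X ≤ (Cfsg.sigmaCore M ⊓ centralizer (K : Set G)) → (Nat.card X).Prime →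
        centralizer (X : Set G) ≤ M ∧
          ∀ L : Subgroup G, IsCoatom L → centralizer (X : Set G) ≤ L → L = M) ∧
      (∀ Y : Subgroup G, Y ≤ K → (Nat.card Y).Prime →
        centralizer (Y : Set G) ≤ Mstar ∧
          ∀ L : Subgroup G, IsCoatom L → centralizer (Y : Set G) ≤ L → L = Mstar) := by
  refine ⟨fun X hX hXp => uniq_kstar hG hU hM h143M h125 h127 X hX hXp, fun Y hY hYp => ?_⟩
  exact uniq_kstar hG hU hMs h143S h125 h127 Y (hKst ▸ hY) hYp

end Cfsg.Agent.Lib.Helper1.BGEmb
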