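import Mathlib
import Cfsg.Agent.Lib.Helper1.Coprime

set_option autoImplicit false
open Pointwise
open scoped commutatorElement

namespace Cfsg.Agent.Lib.Helper1

open Subgroup

open scoped IsMulCommutative in
/-- coprime action on an abelian group: `C_V(A) ∩ [V,A] = 1` (averaging argument) -/
theorem centralizer_inf_commutator_eq_bot {G : Type*} [Group G] [Finite G] (A V : Subgroup G)
    [IsMulCommutative V] (hAV : A ≤ normalizer (V : Set G))
    (hcop : (Nat.card A).Coprime (Nat.card V)) :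
    (V ⊓ centralizer (A : Set G)) ⊓ ⁅V, A⁆ = ⊥ := by
  classical
  have : Fintype A := Fintype.ofFinite A
  let φ : A → (V →* V) := fun a =>
    MulDistribMulAction.toMonoidHom V (⟨a, hAV a.2⟩ : normalizer (V : Set G))
  have hφ : ∀ (a : A) (v : V), ((φ a v : V) : G) = a * v * (a : G)⁻¹ := fun a v => rfl
  let θ : V →* V := ∏ a : A, φ a
  have hθ : ∀ v, θ v = ∏ a : A, φ a v := fun v => MonoidHom.finsetProd_apply _ _ _
  have hθφ : ∀ (a : A) (v : V), θ (φ a v) = θ v := by
    intro a v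
    rw [hθ, hθ]
    apply Fintype.prod_equiv (Equiv.mulRight a)
    intro b
    apply Subtype.ext
    rw [hφ, hφ, hφ]
    simp [mul_assoc]
  have hker : ⁅V, A⁆ ≤ θ.ker.map V.subtype := by
    rw [Subgroup.commutator_le]
    intro v hv a ha
    refine ⟨⟨v, hv⟩ * (φ ⟨a, ha⟩ ⟨v, hv⟩)⁻¹, ?_, ?_⟩
    · show _ ∈ θ.ker
      rw [MonoidHom.mem_ker, map_mul, map_inv, hθφ, mul_inv_cancel]
    · simp [hφ, commutatorElement_def, mul_assoc]
  rw [eq_bot_iff]
  rintro x ⟨⟨hxV, hxC⟩, hxW⟩
  obtain ⟨y, hy, rfl⟩ := hker hxW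
  have h1 : θ y = y ^ Nat.card A := by
    rw [hθ]
    have hfix : ∀ a : A, φ a y = y := by
      intro a
      apply Subtype.ext
      rw [hφ]
      have h := hxC a a.2
      simp only [Subgroup.subtype_apply] at h
      rw [h, mul_inv_cancel_right]
    simp [hfix, Finset.card_univ, Nat.card_eq_fintype_card]
  have hy' : θ y = 1 := hy
  have h2 : y ^ Nat.card A = 1 := h1 ▸ hy'
  have h3 : y ^ Nat.card V = 1 := pow_card_eq_one'
  have h4 : orderOf y ∣ 1 := by
    have := Nat.dvd_gcd (orderOf_dvd_of_pow_eq_one h2) (orderOf_dvd_of_pow_eq_one h3)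
    rwa [hcop] at this
  have h5 : y = 1 := orderOf_eq_one_iff.mp (Nat.dvd_one.mp h4)
  rw [h5]; simp

end Cfsg.Agent.Lib.Helper1
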