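import Mathlib

set_option autoImplicit false
open Pointwise
open scoped commutatorElement

namespace Cfsg.Agent.Lib.Helper1

open Subgroup

/-- `H₁` normalizes `⁅H₁, H₂⁆`. -/
theorem le_normalizer_commutator_left {G : Type*} [Group G] (H₁ H₂ : Subgroup G) :
    H₁ ≤ normalizer ((⁅H₁, H₂⁆ : Subgroup G) : Set G) := by
  rw [Subgroup.commutator_def, Subgroup.le_normalizer_closure_iff]
  rintro x hx _ ⟨h₁, hh₁, h₂, hh₂, rfl⟩
  have e : x * ⁅h₁, h₂⁆ * x⁻¹ = ⁅x * h₁, h₂⁆ * ⁅x, h₂⁆⁻¹ := by
    simp only [commutatorElement_def]; group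
  rw [e]
  refine Subgroup.mul_mem _ (Subgroup.subset_closure ⟨x * h₁, H₁.mul_mem hx hh₁, h₂, hh₂, rfl⟩)
    (Subgroup.inv_mem _ (Subgroup.subset_closure ⟨x, hx, h₂, hh₂, rfl⟩))

/-- `H₂` normalizes `⁅H₁, H₂⁆`. -/
theorem le_normalizer_commutator_right {G : Type*} [Group G] (H₁ H₂ : Subgroup G) :
    H₂ ≤ normalizer ((⁅H₁, H₂⁆ : Subgroup G) : Set G) := by
  rw [Subgroup.commutator_comm]
  exact le_normalizer_commutator_left H₂ H₁

theorem commutator_le_of_le_normalizer {G : Type*} [Group G] {K A : Subgroup G}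
    (h : A ≤ normalizer (K : Set G)) : ⁅K, A⁆ ≤ K :=
  Subgroup.le_normalizer_iff_commutator_le_left.mp h


/-- conjugation by an element normalizing `K` maps a characteristic subgroup of `K` into itself -/
theorem conj_mem_map_subtype_of_characteristic {G : Type*} [Group G] (K : Subgroup G)
    (C : Subgroup K) [hC : C.Characteristic] {a : G} (ha : a ∈ normalizer (K : Set G)) {x : G}
    (hx : x ∈ C.map K.subtype) : a * x * a⁻¹ ∈ C.map K.subtype := by
  obtain ⟨c, hc, rfl⟩ := hx
  let φ : MulAut K := K.normalizerMonoidHom ⟨a, ha⟩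
  have h1 : C ≤ C.comap φ.toMonoidHom := Subgroup.characteristic_iff_le_comap.mp hC φ
  have h2 : φ c ∈ C := h1 hc
  exact ⟨φ c, h2, rfl⟩

/-- `N_G(K)` normalizes (the image of) any characteristic subgroup of `K`. -/
theorem normalizer_le_normalizer_map_subtype_of_characteristic {G : Type*} [Group G]
    (K : Subgroup G) (C : Subgroup K) [hC : C.Characteristic] :
    normalizer (K : Set G) ≤ normalizer ((C.map K.subtype : Subgroup G) : Set G) := by
  intro a ha
  rw [Subgroup.mem_normalizer_iff]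
  intro x
  constructor
  · exact fun hx => conj_mem_map_subtype_of_characteristic K C ha hx
  · intro hx
    have := conj_mem_map_subtype_of_characteristic K C (Subgroup.inv_mem _ ha) hx
    simpa [mul_assoc] using this

end Cfsg.Agent.Lib.Helper1
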