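import Mathlib
import Cfsg.Agent.Lib.Helper1.PGroup

set_option autoImplicit false

namespace Cfsg.Agent.Lib.Helper1

open Finset

/-- the subgroup of fixed points of an automorphism -/
def fixSub {V : Type*} [Group V] (c : MulAut V) : Subgroup V where
  carrier := {v | c v = v}
  one_mem' := map_one c
  mul_mem' := by
    intro a b ha hb
    simp only [Set.mem_setOf_eq] at ha hb ⊢
    rw [map_mul, ha, hb]
  inv_mem' := by
    intro a ha
    simp only [Set.mem_setOf_eq] at ha ⊢
    rw [map_inv, ha]

theorem mem_fixSub {V : Type*} [Group V] (c : MulAut V) (v : V) : v ∈ fixSub c ↔ c v = v := Iff.rfl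

section
variable {V : Type*} [CommGroup V] {q : ℕ} [hq : Fact q.Prime]

/-- the trace (norm) of `v` under the cyclic group generated by `c` -/
noncomputable def trc (q : ℕ) [Fact q.Prime] (c : MulAut V) (v : V) : V :=
  ∏ t : ZMod q, (c ^ t.val) v

theorem pow_val_succ (c : MulAut V) (hc : c ^ q = 1) (t : ZMod q) :
    c ^ (t.val + 1) = c ^ (t + 1).val := by
  have : Fact (1 < q) := ⟨hq.out.one_lt⟩
  rw [ZMod.val_add, ZMod.val_one, ← pow_eq_pow_mod _ hc]

theorem pow_val_mul (c : MulAut V) (hc : c ^ q = 1) (j t : ZMod q) :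
    c ^ (j.val * t.val) = c ^ (j * t).val := by
  rw [ZMod.val_mul, ← pow_eq_pow_mod _ hc]

theorem trc_fixed (c : MulAut V) (hc : c ^ q = 1) (v : V) : c (trc q c v) = trc q c v := by
  unfold trc
  rw [map_prod]
  have h1 : ∀ t : ZMod q, c ((c ^ t.val) v) = (c ^ (t + 1).val) v := by
    intro t
    rw [← MulAut.mul_apply, ← pow_succ', pow_val_succ c hc]
  simp_rw [h1]
  exact Fintype.prod_equiv (Equiv.addRight (1 : ZMod q)) _ _ (fun t => rfl)

theorem trace_identity (α β : MulAut V) (hαβ : α * β = β * α) (hα : α ^ q = 1) (hβ : β ^ q = 1)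
    (v : V) : v ^ q ∈ (⨆ j : ℕ, fixSub (α * β ^ j)) ⊔ fixSub β := by
  classical
  have hcomm : Commute α β := hαβ
  set W : Subgroup V := (⨆ j : ℕ, fixSub (α * β ^ j)) ⊔ fixSub β with hW
  let F : ZMod q → ZMod q → V := fun t u => (α ^ t.val * β ^ u.val) v
  let D : V := ∏ t : ZMod q, ∏ u : ZMod q, F t u
  -- traces
  have hTj : ∀ j : ZMod q, trc q (α * β ^ j.val) v = ∏ t : ZMod q, F t (j * t) := by
    intro j
    unfold trc
    apply Finset.prod_congr rfl
    intro t _
    show ((α * β ^ j.val) ^ t.val) v = (α ^ t.val * β ^ (j * t).val) v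
    rw [(hcomm.pow_right j.val).mul_pow, ← pow_mul, pow_val_mul β hβ]
  have hTβ : trc q β v = ∏ u : ZMod q, F 0 u := by
    unfold trc
    apply Finset.prod_congr rfl
    intro u _
    show (β ^ u.val) v = (α ^ (0 : ZMod q).val * β ^ u.val) v
    rw [ZMod.val_zero, pow_zero, one_mul]
  have hmemj : ∀ j : ZMod q, trc q (α * β ^ j.val) v ∈ W := by
    intro j
    have hc : (α * β ^ j.val) ^ q = 1 := by
      rw [(hcomm.pow_right j.val).mul_pow, hα, ← pow_mul, mul_comm, pow_mul, hβ, one_pow, one_mul]
    have h1 : trc q (α * β ^ j.val) v ∈ fixSub (α * β ^ j.val) := trc_fixed _ hc v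
    exact Subgroup.mem_sup_left (Subgroup.mem_iSup_of_mem j.val h1)
  have hmemβ : trc q β v ∈ W := Subgroup.mem_sup_right (trc_fixed β hβ v)
  -- `D` is fixed by `β`
  have hD : D ∈ W := by
    apply Subgroup.mem_sup_right
    show β D = D
    show β (∏ t : ZMod q, ∏ u : ZMod q, F t u) = ∏ t : ZMod q, ∏ u : ZMod q, F t u
    rw [map_prod]
    apply Finset.prod_congr rfl
    intro t _
    rw [map_prod]
    have h1 : ∀ u : ZMod q, β (F t u) = F t (u + 1) := by
      intro u
      show β ((α ^ t.val * β ^ u.val) v) = (α ^ t.val * β ^ (u + 1).val) v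
      rw [← MulAut.mul_apply, ← mul_assoc, ((hcomm.pow_left t.val).eq).symm, mul_assoc,
        ← pow_succ', pow_val_succ β hβ]
    simp_rw [h1]
    exact Fintype.prod_equiv (Equiv.addRight (1 : ZMod q)) _ _ (fun u => rfl)
  -- the identity
  have hkey : (∏ j : ZMod q, trc q (α * β ^ j.val) v) * trc q β v = v ^ q * D := by
    simp_rw [hTj]
    rw [hTβ, Finset.prod_comm]
    have hsplit : ∀ f : ZMod q → V, ∏ t : ZMod q, f t = f 0 * ∏ t ∈ univ.erase (0 : ZMod q), f t :=
      fun f => (Finset.mul_prod_erase univ f (mem_univ 0)).symm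
    rw [hsplit (fun t => ∏ j : ZMod q, F t (j * t))]
    show (∏ j : ZMod q, F 0 (j * 0)) * _ * _ = v ^ q * (∏ t : ZMod q, ∏ u : ZMod q, F t u)
    rw [hsplit (fun t => ∏ u : ZMod q, F t u)]
    have h0 : ∏ j : ZMod q, F 0 (j * 0) = v ^ q := by
      have : ∀ j : ZMod q, F 0 (j * 0) = v := by
        intro j
        show (α ^ (0 : ZMod q).val * β ^ (j * 0).val) v = v
        rw [mul_zero, ZMod.val_zero, pow_zero, pow_zero, one_mul, MulAut.one_apply]
      simp_rw [this]
      rw [Finset.prod_const, Finset.card_univ, ZMod.card]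
    have hne : ∏ t ∈ univ.erase (0 : ZMod q), ∏ j : ZMod q, F t (j * t) =
        ∏ t ∈ univ.erase (0 : ZMod q), ∏ u : ZMod q, F t u := by
      apply Finset.prod_congr rfl
      intro t ht
      have ht0 : t ≠ 0 := (Finset.mem_erase.mp ht).1
      exact Fintype.prod_equiv (Equiv.mulRight₀ t ht0) _ _ (fun j => rfl)
    rw [h0, hne]
    simp only [mul_assoc]
    congr 1
    exact mul_comm _ _
  have hfin : v ^ q = (∏ j : ZMod q, trc q (α * β ^ j.val) v) * trc q β v * D⁻¹ := by
    rw [hkey, mul_inv_cancel_right]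
  rw [hfin]
  exact W.mul_mem (W.mul_mem (Subgroup.prod_mem _ (fun j _ => hmemj j)) hmemβ) (W.inv_mem hD)

end

theorem abelianization_of_surjective (K : Type*) [Group K] :
    Function.Surjective (Abelianization.of : K →* Abelianization K) :=
  QuotientGroup.mk_surjective

theorem abelianization_of_eq_iff {K : Type*} [Group K] (x y : K) :
    Abelianization.of x = Abelianization.of y ↔ x⁻¹ * y ∈ commutator K :=
  QuotientGroup.eq

/-- fixed points of a `q`-automorphism on the abelianization of a `p`-group lift (`q ≠ p`) -/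
theorem fixSub_abelianizationCongr_le {K : Type*} [Group K] [Finite K] {p q : ℕ} [Fact p.Prime]
    [Fact q.Prime] (hK : IsPGroup p K) (hpq : q ≠ p) (c : MulAut K) (hc : c ^ q = 1) :
    fixSub (MulEquiv.abelianizationCongr c : MulAut (Abelianization K)) ≤
      (fixSub c).map Abelianization.of := by
  classical
  have hp : p.Prime := Fact.out
  have hq : q.Prime := Fact.out
  intro v hv
  rw [mem_fixSub] at hv
  obtain ⟨k, rfl⟩ := abelianization_of_surjective K v
  have hiff : ∀ x : K, (Abelianization.of (MulAut.toPerm K c x) = Abelianization.of k) ↔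
      (Abelianization.of x = Abelianization.of k) := by
    intro x
    show Abelianization.of (c x) = Abelianization.of k ↔ _
    rw [← abelianizationCongr_of]
    constructor
    · intro h
      rw [← hv] at h
      exact (MulEquiv.abelianizationCongr c).injective h
    · intro h
      rw [h, hv]
  let σ : Equiv.Perm {x : K // Abelianization.of x = Abelianization.of k} :=
    (MulAut.toPerm K c).subtypePerm hiff
  have hσ : σ ^ q ^ 1 = 1 := by
    rw [pow_one]
    ext x
    show ((((MulAut.toPerm K c).subtypePerm hiff) ^ q) x : K) = x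
    rw [Equiv.Perm.subtypePerm_pow, Equiv.Perm.subtypePerm_apply]
    show ((MulAut.toPerm K c) ^ q) (x : K) = x
    rw [← map_pow, hc, map_one, Equiv.Perm.one_apply]
  have : Fintype {x : K // Abelianization.of x = Abelianization.of k} := Fintype.ofFinite _
  have hcard : ¬ q ∣ Fintype.card {x : K // Abelianization.of x = Abelianization.of k} := by
    have e : {x : K // Abelianization.of x = Abelianization.of k} ≃ commutator K :=
      { toFun := fun x => ⟨k⁻¹ * x.1, (abelianization_of_eq_iff k x.1).mp x.2.symm⟩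
        invFun := fun n => ⟨k * n.1, by
          rw [eq_comm, abelianization_of_eq_iff, inv_mul_cancel_left]; exact n.2⟩
        left_inv := fun x => by simp
        right_inv := fun n => by simp }
    rw [← Nat.card_eq_fintype_card, Nat.card_congr e]
    obtain ⟨m, hm⟩ := IsPGroup.iff_card.mp (hK.to_subgroup (commutator K))
    rw [hm]
    intro hdvd
    exact hpq ((Nat.prime_dvd_prime_iff_eq hq hp).mp (hq.dvd_of_dvd_pow hdvd))
  obtain ⟨⟨x, hx⟩, hfix⟩ := Equiv.Perm.exists_fixed_point_of_prime hcard hσ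
  have hfix' : c x = x := congrArg Subtype.val hfix
  exact ⟨x, hfix', hx⟩

/-- the natural map `Aut K → Aut (K/K')` -/
noncomputable def abAut (K : Type*) [Group K] : MulAut K →* MulAut (Abelianization K) where
  toFun := fun c => c.abelianizationCongr
  map_one' := by
    apply MulEquiv.ext
    intro v
    obtain ⟨k, rfl⟩ := abelianization_of_surjective K v
    rw [abelianizationCongr_of]; rfl
  map_mul' := by
    intro a b
    apply MulEquiv.ext
    intro v
    obtain ⟨k, rfl⟩ := abelianization_of_surjective K v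
    rw [abelianizationCongr_of, MulAut.mul_apply, MulAut.mul_apply, abelianizationCongr_of,
      abelianizationCongr_of]

theorem abAut_apply (K : Type*) [Group K] (c : MulAut K) :
    abAut K c = c.abelianizationCongr := rfl

/-- A noncyclic abelian `q`-group `⟨α, β⟩` of automorphisms of a `p`-group `K`, `q ≠ p`: `K` is
generated by the fixed points of the `α β ^ j` and of `β`. -/
theorem iSup_fixSub_eq_top {K : Type*} [Group K] [Finite K] {p q : ℕ} [Fact p.Prime]
    [Fact q.Prime] (hK : IsPGroup p K) (hpq : q ≠ p) (α β : MulAut K) (hαβ : α * β = β * α)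
    (hα : α ^ q = 1) (hβ : β ^ q = 1) :
    (⨆ j : ℕ, fixSub (α * β ^ j)) ⊔ fixSub β = ⊤ := by
  have hp : p.Prime := Fact.out
  have hq : q.Prime := Fact.out
  set W : Subgroup K := (⨆ j : ℕ, fixSub (α * β ^ j)) ⊔ fixSub β with hW
  set Φ := abAut K with hΦ
  have hαβ' : Φ α * Φ β = Φ β * Φ α := by rw [← map_mul, ← map_mul, hαβ]
  have hα' : Φ α ^ q = 1 := by rw [← map_pow, hα, map_one]
  have hβ' : Φ β ^ q = 1 := by rw [← map_pow, hβ, map_one]
  have hcj : ∀ j : ℕ, (α * β ^ j) ^ q = 1 := by
    intro j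
    have hcomm : Commute α β := hαβ
    rw [(hcomm.pow_right j).mul_pow, hα, ← pow_mul, mul_comm, pow_mul, hβ, one_pow, one_mul]
  -- the fixed points on the abelianization lift
  have hWbar : (⨆ j : ℕ, fixSub (Φ α * Φ β ^ j)) ⊔ fixSub (Φ β) ≤ W.map Abelianization.of := by
    apply sup_le
    · apply iSup_le
      intro j
      have h1 : Φ α * Φ β ^ j = Φ (α * β ^ j) := by rw [map_mul, map_pow]
      rw [h1]
      exact (fixSub_abelianizationCongr_le hK hpq (α * β ^ j) (hcj j)).trans
        (Subgroup.map_mono (le_sup_of_le_left (le_iSup (fun j => fixSub (α * β ^ j)) j)))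
    · exact (fixSub_abelianizationCongr_le hK hpq β hβ).trans (Subgroup.map_mono le_sup_right)
  -- every `q`-th power lies in `W ⊔ K'`
  have hpow : ∀ x : K, x ^ q ∈ W ⊔ commutator K := by
    intro x
    have h1 := trace_identity (Φ α) (Φ β) hαβ' hα' hβ' (Abelianization.of x)
    obtain ⟨w, hw, hwx⟩ := hWbar h1
    rw [← map_pow, abelianization_of_eq_iff] at hwx
    have e : x ^ q = w * (w⁻¹ * x ^ q) := by group
    rw [e]
    exact Subgroup.mul_mem _ (Subgroup.mem_sup_left hw) (Subgroup.mem_sup_right hwx)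
  have hall : W ⊔ commutator K = ⊤ := by
    rw [eq_top_iff]
    intro x _
    obtain ⟨m, hm⟩ := IsPGroup.iff_card.mp hK
    have hcop : (Nat.card K).Coprime q := by
      rw [hm]
      exact Nat.Coprime.pow_left m ((Nat.coprime_primes hp hq).mpr (Ne.symm hpq))
    obtain ⟨y, rfl⟩ := (powCoprime hcop).surjective x
    exact hpow y
  have hfr : W ⊔ frattini K = ⊤ := by
    rw [eq_top_iff, ← hall]
    exact sup_le_sup_left (IsPGroup.commutator_le_frattini hK) W
  exact frattini_nongenerating hfr

end Cfsg.Agent.Lib.Helper1
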