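import Mathlib
import Cfsg.Agent.Lib.Helper1.Basic
import Cfsg.Agent.Lib.Helper1.Transport
import Cfsg.Agent.Lib.Helper1.SchurZassenhaus
import Cfsg.Agent.Lib.Helper1.MinNormal
import Cfsg.Agent.Lib.Helper1.SZConj

set_option autoImplicit false
open Pointwise

namespace Cfsg.Agent.Lib.Helper1

open Subgroup

universe u

/-- order of the preimage of a subgroup of a quotient -/
theorem card_comap_mk' {G : Type*} [Group G] [Finite G] (A : Subgroup G) [A.Normal]
    (Hbar : Subgroup (G ⧸ A)) :
    Nat.card (Hbar.comap (QuotientGroup.mk' A)) = Nat.card Hbar * Nat.card A := by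
  have h1 : (Hbar.comap (QuotientGroup.mk' A)).index = Hbar.index :=
    Subgroup.index_comap_of_surjective Hbar (QuotientGroup.mk'_surjective A)
  have h2 := (Hbar.comap (QuotientGroup.mk' A)).card_mul_index
  have h3 := Hbar.card_mul_index
  have h4 := Subgroup.card_eq_card_quotient_mul_card_subgroup A
  rw [h1, h4, ← h3] at h2
  have hpos : 0 < Hbar.index := Nat.pos_of_ne_zero Subgroup.index_ne_zero_of_finite
  have : Nat.card (Hbar.comap (QuotientGroup.mk' A)) * Hbar.index
      = (Nat.card Hbar * Nat.card A) * Hbar.index := by rw [h2]; ring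
  exact Nat.eq_of_mul_eq_mul_right hpos this

/-- data of a minimal normal subgroup of a solvable group -/
theorem IsMinNormal.exists_card_eq {G : Type*} [Group G] [Finite G] [Group.IsSolvable G]
    {A : Subgroup G} (hA : IsMinNormal A) :
    ∃ p k : ℕ, p.Prime ∧ k ≠ 0 ∧ Nat.card A = p ^ k := by
  obtain ⟨p, hp, hpg⟩ := hA.exists_prime_isPGroup
  have : Fact p.Prime := ⟨hp⟩
  obtain ⟨k, hk⟩ := IsPGroup.iff_card.mp hpg
  refine ⟨p, k, hp, ?_, hk⟩
  rintro rfl
  rw [pow_zero] at hk
  exact hA.2.1 (Subgroup.card_eq_one.mp hk)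

/-- **Hall's theorem, existence.** -/
theorem hall_exists : ∀ (N : ℕ) (G : Type u) [Group G] [Finite G] [Group.IsSolvable G],
    Nat.card G = N → ∀ m n : ℕ, N = m * n → m.Coprime n →
    ∃ H : Subgroup G, Nat.card H = m := by
  intro N
  induction N using Nat.strong_induction_on with
  | _ N ih =>
    intro G _ _ _ hcard m n hmn hcop
    classical
    rcases subsingleton_or_nontrivial G with hss | hnt
    · refine ⟨⊥, ?_⟩
      have h1 : Nat.card G = 1 := Nat.card_eq_one_iff_unique.mpr ⟨hss, ⟨1⟩⟩
      rw [hcard, hmn] at h1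
      rw [Subgroup.card_bot]
      exact (Nat.eq_one_of_mul_eq_one_right h1).symm
    obtain ⟨A, hA⟩ := exists_isMinNormal (G := G)
    obtain ⟨p, k, hp, hk, hAcard⟩ := hA.exists_card_eq
    have hAn : A.Normal := hA.1
    have hA1 : A ≠ ⊥ := hA.2.1
    have hltq : Nat.card (G ⧸ A) < N := hcard ▸ card_quotient_lt_of_ne_bot hA1
    have hq := Subgroup.card_eq_card_quotient_mul_card_subgroup A
    rw [hcard, hAcard] at hq
    -- hq : N = card (G/A) * p^k
    have hpkdvd : p ^ k ∣ m * n := ⟨Nat.card (G ⧸ A), by rw [← hmn, hq, mul_comm]⟩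
    by_cases hpm : p ∣ m
    · -- p ∣ m: then p^k ∣ m
      have hpn : Nat.Coprime (p ^ k) n :=
        Nat.Coprime.pow_left k (Nat.Coprime.coprime_dvd_left hpm hcop)
      have hpkm : p ^ k ∣ m := hpn.dvd_of_dvd_mul_right hpkdvd
      obtain ⟨m', hm'⟩ := hpkm
      have hq' : Nat.card (G ⧸ A) = m' * n := by
        have : Nat.card (G ⧸ A) * p ^ k = (m' * n) * p ^ k := by
          rw [← hq, hmn, hm']; ring
        exact Nat.eq_of_mul_eq_mul_right (pow_pos hp.pos k) this
      have hcop' : m'.Coprime n := Nat.Coprime.coprime_dvd_left ⟨p ^ k, by rw [hm']; ring⟩ hcop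
      obtain ⟨Hbar, hHbar⟩ := ih _ hltq (G ⧸ A) rfl m' n hq' hcop'
      refine ⟨Hbar.comap (QuotientGroup.mk' A), ?_⟩
      rw [card_comap_mk', hHbar, hAcard, hm']; ring
    · -- p ∤ m: then p^k ∣ n
      have hpm' : Nat.Coprime (p ^ k) m :=
        Nat.Coprime.pow_left k ((Nat.Prime.coprime_iff_not_dvd hp).mpr hpm)
      have hpkn : p ^ k ∣ n := hpm'.dvd_of_dvd_mul_left hpkdvd
      obtain ⟨n', hn'⟩ := hpkn
      have hq' : Nat.card (G ⧸ A) = m * n' := by
        have : Nat.card (G ⧸ A) * p ^ k = (m * n') * p ^ k := by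
          rw [← hq, hmn, hn']; ring
        exact Nat.eq_of_mul_eq_mul_right (pow_pos hp.pos k) this
      have hcop' : m.Coprime n' := Nat.Coprime.coprime_dvd_right ⟨p ^ k, by rw [hn']; ring⟩ hcop
      obtain ⟨Hbar, hHbar⟩ := ih _ hltq (G ⧸ A) rfl m n' hq' hcop'
      set L : Subgroup G := Hbar.comap (QuotientGroup.mk' A) with hL
      have hLcard : Nat.card L = m * p ^ k := by rw [card_comap_mk', hHbar, hAcard]
      have hAL : A ≤ L := by
        intro a ha
        rw [hL, Subgroup.mem_comap]
        have : (QuotientGroup.mk' A) a = 1 := (QuotientGroup.eq_one_iff a).mpr ha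
        rw [this]; exact Subgroup.one_mem _
      have hALcard : Nat.card (A.subgroupOf L) = p ^ k := by
        rw [← hAcard]; exact Nat.card_congr (Subgroup.subgroupOfEquivOfLe hAL).toEquiv
      have hidx : (A.subgroupOf L).index = m := by
        have h1 := (A.subgroupOf L).card_mul_index
        rw [hALcard, hLcard, mul_comm] at h1
        exact Nat.eq_of_mul_eq_mul_right (pow_pos hp.pos k) h1
      have hcopL : Nat.Coprime (Nat.card (A.subgroupOf L)) (A.subgroupOf L).index := by
        rw [hALcard, hidx]; exact hpm'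
      obtain ⟨C, hC⟩ := Subgroup.exists_right_complement'_of_coprime hcopL
      refine ⟨C.map L.subtype, ?_⟩
      rw [Subgroup.card_map_of_injective L.subtype_injective]
      have h1 := hC.card_mul_card
      rw [hALcard, hLcard, mul_comm] at h1
      exact Nat.eq_of_mul_eq_mul_right (pow_pos hp.pos k) h1


theorem mem_sup_of_normal_left {G : Type*} [Group G] (A X : Subgroup G) [A.Normal] (d : G)
    (hd : d ∈ A ⊔ X) : ∃ a ∈ A, ∃ x ∈ X, a * x = d := by
  rw [← SetLike.mem_coe, Subgroup.normal_mul, Set.mem_mul] at hd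
  exact hd

theorem conj_smul_le_conj_smul {G : Type*} [Group G] {X Y : Subgroup G} (h : X ≤ Y) (g : G) :
    MulAut.conj g • X ≤ MulAut.conj g • Y := by
  intro x hx
  rw [mem_conj_smul_iff] at hx ⊢
  exact h hx

/-- **Hall's theorem, dominance**: in a finite solvable group, a subgroup whose order is coprime
to the index of a Hall subgroup is contained in a conjugate of that Hall subgroup. -/
theorem hall_dominance : ∀ (N : ℕ) (G : Type u) [Group G] [Finite G] [Group.IsSolvable G],
    Nat.card G = N → ∀ H₀ K : Subgroup G, (Nat.card H₀).Coprime H₀.index →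
    (Nat.card K).Coprime H₀.index → ∃ g : G, K ≤ MulAut.conj g • H₀ := by
  intro N
  induction N using Nat.strong_induction_on with
  | _ N ih =>
    intro G _ _ _ hcard H₀ K hH₀ hK
    classical
    rcases subsingleton_or_nontrivial G with hss | hnt
    · refine ⟨1, fun x _ => ?_⟩
      rw [Subsingleton.elim x 1]; exact Subgroup.one_mem _
    obtain ⟨A, hA⟩ := exists_isMinNormal (G := G)
    obtain ⟨p, k, hp, hk, hAcard⟩ := hA.exists_card_eq
    have hAn : A.Normal := hA.1
    have hA1 : A ≠ ⊥ := hA.2.1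
    have hAab : IsMulCommutative A := hA.isMulCommutative
    have : Fact p.Prime := ⟨hp⟩
    have hAp : IsPGroup p A := IsPGroup.of_card hAcard
    have hltq : Nat.card (G ⧸ A) < N := hcard ▸ card_quotient_lt_of_ne_bot hA1
    set π := QuotientGroup.mk' A with hπ
    have hsur : Function.Surjective π := QuotientGroup.mk'_surjective A
    have hker : π.ker = A := QuotientGroup.ker_mk' A
    have hH₀' : (Nat.card (H₀.map π)).Coprime (H₀.map π).index :=
      Nat.Coprime.of_dvd (Subgroup.card_map_dvd H₀ π) (Subgroup.index_map_dvd H₀ hsur) hH₀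
    have hK' : (Nat.card (K.map π)).Coprime (H₀.map π).index :=
      Nat.Coprime.of_dvd (Subgroup.card_map_dvd K π) (Subgroup.index_map_dvd H₀ hsur) hK
    obtain ⟨gbar, hgbar⟩ := ih _ hltq (G ⧸ A) rfl (H₀.map π) (K.map π) hH₀' hK'
    obtain ⟨g, rfl⟩ := hsur gbar
    set H₁ : Subgroup G := MulAut.conj g • H₀ with hH₁
    have hKle : K ≤ H₁ ⊔ A := by
      have h1 : K ≤ (K.map π).comap π := Subgroup.le_comap_map π K
      have h2 : (K.map π).comap π ≤ (H₁.map π).comap π := by
        apply Subgroup.comap_mono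
        rw [hH₁, map_conj_smul]; exact hgbar
      have h3 : (H₁.map π).comap π = H₁ ⊔ A := by rw [Subgroup.comap_map_eq, hker]
      rw [h3] at h2
      exact h1.trans h2
    have hcardH₁ : Nat.card H₁ = Nat.card H₀ := card_conj_smul H₀ g
    by_cases hp0 : p ∣ Nat.card H₀
    · -- `A ≤ H₀`
      have hpidx : ¬ p ∣ H₀.index := fun h =>
        hp.one_lt.ne' (Nat.eq_one_of_dvd_coprimes hH₀ hp0 h)
      obtain ⟨P₀⟩ : Nonempty (Sylow p H₀) := inferInstance
      have hPidx : ((P₀ : Subgroup H₀).map H₀.subtype).index = (P₀ : Subgroup H₀).index * H₀.index :=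
        Subgroup.index_map_subtype _
      have hnd : ¬ p ∣ ((P₀ : Subgroup H₀).map H₀.subtype).index := by
        rw [hPidx]
        intro h
        rcases (Nat.Prime.dvd_mul hp).mp h with h | h
        · exact P₀.not_dvd_index h
        · exact hpidx h
      have hPp : IsPGroup p ((P₀ : Subgroup H₀).map H₀.subtype) := P₀.isPGroup'.map _
      have hAP : A ≤ (hPp.toSylow hnd : Sylow p G) := hAp.le_sylow_of_normal _
      have hAH₀ : A ≤ H₀ := fun x hx => (Subgroup.map_subtype_le _) (hAP hx)
      have hAH₁ : A ≤ H₁ := by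
        intro x hx
        rw [hH₁, mem_conj_smul_iff]
        exact hAH₀ ((conj_inv_mem_iff_of_normal hAn g x).mpr hx)
      exact ⟨g, by rwa [sup_eq_left.mpr hAH₁] at hKle⟩
    · -- `p ∤ |H₀|`
      have hpidx : p ∣ H₀.index := by
        have h1 : p ∣ Nat.card G := by
          have : p ∣ Nat.card A := by rw [hAcard]; exact dvd_pow_self p hk
          exact dvd_trans this (Subgroup.card_subgroup_dvd_card A)
        rw [← H₀.card_mul_index] at h1
        exact ((Nat.Prime.dvd_mul hp).mp h1).resolve_left hp0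
      have hpK : ¬ p ∣ Nat.card K := fun h =>
        hp.one_lt.ne' (Nat.eq_one_of_dvd_coprimes hK h hpidx)
      have hcopAK : Nat.Coprime (Nat.card A) (Nat.card K) := by
        rw [hAcard]; exact Nat.Coprime.pow_left k ((Nat.Prime.coprime_iff_not_dvd hp).mpr hpK)
      have hcopAH₁ : Nat.Coprime (Nat.card A) (Nat.card H₁) := by
        rw [hAcard, hcardH₁]
        exact Nat.Coprime.pow_left k ((Nat.Prime.coprime_iff_not_dvd hp).mpr hp0)
      have hdAK : Disjoint A K := Subgroup.disjoint_of_coprime_natCard hcopAK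
      have hdAH₁ : Disjoint A H₁ := Subgroup.disjoint_of_coprime_natCard hcopAH₁
      set D : Subgroup G := A ⊔ K with hD
      have hAD : A ≤ D := le_sup_left
      have hKD : K ≤ D := le_sup_right
      set X : Subgroup G := H₁ ⊓ D with hX
      have hXD : X ≤ D := inf_le_right
      have hKc : IsComplement' (A.subgroupOf D) (K.subgroupOf D) :=
        isComplement'_subgroupOf_of_sup_eq hAD hKD hdAK (fun d hd => mem_sup_of_normal_left A K d hd)
      have hXc : IsComplement' (A.subgroupOf D) (X.subgroupOf D) := by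
        apply isComplement'_subgroupOf_of_sup_eq hAD hXD (hdAH₁.mono_right inf_le_left)
        intro d hd
        have hd' : d ∈ A ⊔ H₁ := by
          rw [sup_comm]
          exact (sup_le (le_sup_right) hKle) hd
        obtain ⟨a, ha, x, hx, hax⟩ := mem_sup_of_normal_left A H₁ d hd'
        refine ⟨a, ha, x, ⟨hx, ?_⟩, hax⟩
        have : x = a⁻¹ * d := by rw [← hax]; group
        rw [this]; exact D.mul_mem (D.inv_mem (hAD ha)) hd
      have hcopD : Nat.Coprime (Nat.card (A.subgroupOf D)) (A.subgroupOf D).index := by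
        apply IsComplement'.coprime_index hKc
        have h1 : Nat.card (A.subgroupOf D) = Nat.card A :=
          Nat.card_congr (Subgroup.subgroupOfEquivOfLe hAD).toEquiv
        have h2 : Nat.card (K.subgroupOf D) = Nat.card K :=
          Nat.card_congr (Subgroup.subgroupOfEquivOfLe hKD).toEquiv
        rw [h1, h2]; exact hcopAK
      obtain ⟨a, -, ha⟩ := exists_conj_eq_of_isComplement'_of_abelian (A.subgroupOf D) hcopD
        (X.subgroupOf D) (K.subgroupOf D) hXc hKc
      have h3 := conj_eq_of_subgroupOf_conj_eq hXD hKD a ha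
      refine ⟨(a : G) * g, ?_⟩
      rw [map_mul, mul_smul, ← h3]
      exact conj_smul_le_conj_smul inf_le_left _

/-- Hall subgroups of the same order are conjugate. -/
theorem hall_conj {G : Type u} [Group G] [Finite G] [Group.IsSolvable G] (m n : ℕ)
    (hG : Nat.card G = m * n) (hmn : m.Coprime n) (H K : Subgroup G)
    (hH : Nat.card H = m) (hK : Nat.card K = m) : ∃ g : G, MulAut.conj g • H = K := by
  have hm : 0 < m := by
    rcases Nat.eq_zero_or_pos m with h | h
    · rw [h, zero_mul] at hG
      exact absurd hG Nat.card_pos.ne'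
    · exact h
  have hidx : H.index = n := by
    have := H.card_mul_index
    rw [hH, hG] at this
    exact Nat.eq_of_mul_eq_mul_left hm this
  obtain ⟨g, hg⟩ := hall_dominance _ G rfl H K (by rw [hH, hidx]; exact hmn)
    (by rw [hK, hidx]; exact hmn)
  refine ⟨g, (Subgroup.eq_of_le_of_card_ge hg ?_).symm⟩
  rw [card_conj_smul, hH, hK]

/-- A subgroup of order coprime to `n` lies in a Hall subgroup of order `m`. -/
theorem hall_exists_ge {G : Type u} [Group G] [Finite G] [Group.IsSolvable G] (m n : ℕ)
    (hG : Nat.card G = m * n) (hmn : m.Coprime n) (K : Subgroup G)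
    (hK : (Nat.card K).Coprime n) : ∃ H : Subgroup G, Nat.card H = m ∧ K ≤ H := by
  obtain ⟨H₀, hH₀⟩ := hall_exists _ G rfl m n hG hmn
  have hm : 0 < m := by
    rcases Nat.eq_zero_or_pos m with h | h
    · rw [h, zero_mul] at hG
      exact absurd hG Nat.card_pos.ne'
    · exact h
  have hidx : H₀.index = n := by
    have := H₀.card_mul_index
    rw [hH₀, hG] at this
    exact Nat.eq_of_mul_eq_mul_left hm this
  obtain ⟨g, hg⟩ := hall_dominance _ G rfl H₀ K (by rw [hH₀, hidx]; exact hmn)
    (by rw [hidx]; exact hK)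
  exact ⟨MulAut.conj g • H₀, by rw [card_conj_smul, hH₀], hg⟩

end Cfsg.Agent.Lib.Helper1
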