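import Mathlib
import Cfsg.Agent.Lib.Helper1.Commutator

set_option autoImplicit false
open Pointwise
open scoped commutatorElement

namespace Cfsg.Agent.Lib.Helper1

open Subgroup

/-- an element normalizing `H₁` and `H₂` normalizes `⁅H₁, H₂⁆` -/
theorem inf_normalizer_le_normalizer_commutator {G : Type*} [Group G] (H₁ H₂ : Subgroup G) :
    normalizer (H₁ : Set G) ⊓ normalizer (H₂ : Set G) ≤
      normalizer ((⁅H₁, H₂⁆ : Subgroup G) : Set G) := by
  rw [Subgroup.commutator_def, Subgroup.le_normalizer_closure_iff]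
  rintro x ⟨hx1, hx2⟩ _ ⟨h₁, hh₁, h₂, hh₂, rfl⟩
  have e : x * ⁅h₁, h₂⁆ * x⁻¹ = ⁅x * h₁ * x⁻¹, x * h₂ * x⁻¹⁆ := by
    simp only [commutatorElement_def]; group
  rw [e]
  exact Subgroup.subset_closure ⟨_, (Subgroup.mem_normalizer_iff.mp hx1 h₁).mp hh₁, _,
    (Subgroup.mem_normalizer_iff.mp hx2 h₂).mp hh₂, rfl⟩

/-- In a nilpotent subgroup `Γ`, a subgroup `U ≤ Γ` with `U ≤ [U, Γ]` is trivial. -/
theorem eq_bot_of_le_commutator_of_isNilpotent {G : Type*} [Group G] {Γ U : Subgroup G}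
    [hΓ : Group.IsNilpotent Γ] (hU : U ≤ Γ) (h : U ≤ ⁅U, Γ⁆) : U = ⊥ := by
  obtain ⟨n, hn⟩ := (Subgroup.isNilpotent_iff_lowerCentralSeries Γ).mp hΓ
  have key : ∀ m, U ≤ Γ.lowerCentralSeries m := by
    intro m
    induction m with
    | zero => simpa using hU
    | succ m ih =>
      rw [Subgroup.lowerCentralSeries_succ]
      exact h.trans (Subgroup.commutator_mono ih le_rfl)
  exact eq_bot_iff.mpr (hn ▸ key n)

/-- a `p`-group acting on a nontrivial `p`-group: the commutator is a proper subgroup -/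
theorem IsPGroup.commutator_lt {G : Type*} [Group G] [Finite G] {p : ℕ} [Fact p.Prime]
    {U P : Subgroup G} (hU : IsPGroup p U) (hP : IsPGroup p P)
    (hPU : P ≤ normalizer (U : Set G)) (hne : U ≠ ⊥) : ⁅U, P⁆ < U := by
  refine lt_of_le_of_ne (commutator_le_of_le_normalizer hPU) (fun heq => hne ?_)
  have hΓ : IsPGroup p (U ⊔ P : Subgroup G) := IsPGroup.to_sup_of_normal_left' hU hP hPU
  have : Group.IsNilpotent (U ⊔ P : Subgroup G) := hΓ.isNilpotent
  apply eq_bot_of_le_commutator_of_isNilpotent (Γ := U ⊔ P) le_sup_left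
  calc U = ⁅U, P⁆ := heq.symm
    _ ≤ ⁅U, U ⊔ P⁆ := Subgroup.commutator_mono le_rfl le_sup_right

end Cfsg.Agent.Lib.Helper1
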