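/-
helper1: a refined critical subgroup (GLS-style): `D = Ω(⁅C, O^p(G)⁆)` for a critical subgroup `C`.
-/
import Mathlib
import Cfsg.Prelude.Def_Transfer
import Cfsg.Prelude.Def_KGroupFacts
import Cfsg.Agent.S0093
import Cfsg.Agent.S0121
import Cfsg.Agent.Lib.Helper12.Residual
import Cfsg.Agent.Lib.Helper23.Class2
import Cfsg.Agent.Lib.Helper1.PGroup

set_option autoImplicit false
open scoped commutatorElement

namespace Cfsg.Agent.Lib.Helper1.CritExtra

variable {P : Type*} [Group P]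

/-- the coprime trick: an automorphism of order prime to `p` moving `x` by a fixed `p`-element
`u` has `u = 1`. -/
theorem eq_one_of_fixed_of_coprime {p : ℕ} (hP : IsPGroup p P) (α : MulAut P)
    (hα : (orderOf α).Coprime p) (x u : P) (hx : α x = x * u) (hu : α u = u) : u = 1 := by
  have hk : ∀ k : ℕ, (α ^ k) x = x * u ^ k := by
    intro k
    induction k with
    | zero => simp
    | succ k ih =>
      rw [pow_succ', MulAut.mul_apply, ih, map_mul, map_pow, hx, hu, mul_assoc, ← pow_succ']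
  have h1 := hk (orderOf α)
  rw [pow_orderOf_eq_one, MulAut.one_apply] at h1
  have h2 : u ^ orderOf α = 1 := by
    have h3 : x * 1 = x * u ^ orderOf α := by rw [mul_one]; exact h1
    exact (mul_left_cancel h3).symm
  obtain ⟨j, hj⟩ := hP u
  have h3 : orderOf u ∣ Nat.gcd (orderOf α) (p ^ j) :=
    Nat.dvd_gcd (orderOf_dvd_of_pow_eq_one h2) (orderOf_dvd_of_pow_eq_one hj)
  have h4 : Nat.gcd (orderOf α) (p ^ j) = 1 := Nat.Coprime.pow_right j hα
  rw [h4] at h3
  exact orderOf_eq_one_iff.mp (Nat.dvd_one.mp h3)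

/-- the exponent used: `p` for odd `p`, `4` for `p = 2`. -/
def expo (p : ℕ) : ℕ := if p = 2 then 4 else p

theorem dvd_expo (p : ℕ) : p ∣ expo p := by
  unfold expo
  split_ifs with h
  · rw [h]; norm_num
  · exact dvd_rfl

theorem dvd_choose_expo {p : ℕ} (hp : p.Prime) : p ∣ (expo p).choose 2 := by
  unfold expo
  split_ifs with h
  · rw [h]; decide
  · have h2 : 2 < p := lt_of_le_of_ne hp.two_le (Ne.symm h)
    exact hp.dvd_choose_self (by norm_num) h2

/-- the properties of a critical subgroup used below. -/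
structure CritHyp (p : ℕ) (C : Subgroup P) : Prop where
  comm_mem : ∀ x ∈ C, ∀ g : P, ⁅x, g⁆ ∈ C
  comm_cent : ∀ x ∈ C, ∀ g : P, ∀ y ∈ C, ⁅x, g⁆ * y = y * ⁅x, g⁆
  pow_cent : ∀ x ∈ C, ∀ y ∈ C, x ^ p * y = y * x ^ p

theorem critHyp_of_critical [Finite P] {p : ℕ} [Fact p.Prime] (hP : IsPGroup p P) (C : Subgroup P)
    (h1 : (frattini C).map C.subtype ≤ Subgroup.centralizer (C : Set P))
    (h2 : ⁅C, (⊤ : Subgroup P)⁆ ≤ C ⊓ Subgroup.centralizer (C : Set P)) : CritHyp p C := by
  refine ⟨?_, ?_, ?_⟩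
  · intro x hx g
    exact (h2 (Subgroup.commutator_mem_commutator hx (Subgroup.mem_top g))).1
  · intro x hx g y hy
    have := (h2 (Subgroup.commutator_mem_commutator hx (Subgroup.mem_top g))).2
    exact (Subgroup.mem_centralizer_iff.mp this y hy).symm
  · intro x hx y hy
    have h3 : (⟨x, hx⟩ : C) ^ p ∈ frattini C := IsPGroup.pow_mem_frattini (hP.to_subgroup C) _
    have h4 : x ^ p ∈ (frattini C).map C.subtype := ⟨_, h3, by simp⟩
    exact (Subgroup.mem_centralizer_iff.mp (h1 h4) y hy).symm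

theorem CritHyp.mul_pow_expo {p : ℕ} (hp : p.Prime) {C : Subgroup P} (hC : CritHyp p C)
    {x y : P} (hx : x ∈ C) (hy : y ∈ C) : (x * y) ^ expo p = x ^ expo p * y ^ expo p := by
  have hc : ⁅(⟨y, hy⟩ : C), ⟨x, hx⟩⁆ ∈ Subgroup.center C := by
    rw [Subgroup.mem_center_iff]
    rintro ⟨g, hg⟩
    apply Subtype.ext
    have := hC.comm_cent y hy x g hg
    simpa [commutatorElement_def] using this.symm
  have h1 := Cfsg.Agent.Lib.Helper23.mul_pow_of_central_commutator (⟨x, hx⟩ : C) ⟨y, hy⟩ hc (expo p)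
  have h2 : (⁅(⟨y, hy⟩ : C), (⟨x, hx⟩ : C)⁆) ^ p = 1 := by
    rw [← Cfsg.Agent.Lib.Helper23.commutatorElement_pow_left_of_central _ _ hc p,
      commutatorElement_eq_one_iff_mul_comm]
    apply Subtype.ext
    have := hC.pow_cent y hy x hx
    simpa using this
  obtain ⟨k, hk⟩ := dvd_choose_expo hp
  rw [hk, pow_mul, h2, one_pow, mul_one] at h1
  have h3 := congrArg Subtype.val h1
  simpa using h3

/-- an automorphism of order prime to `p` fixing the elements killed by `expo p` of an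
invariant subgroup `X ≤ C` fixes `X` elementwise. -/
theorem fixes_of_fixes_omega [Finite P] {p : ℕ} [hp : Fact p.Prime] (hP : IsPGroup p P)
    {C : Subgroup P} (hC : CritHyp p C) (α : MulAut P) (hα : (orderOf α).Coprime p) :
    ∀ (n : ℕ) (X : Subgroup P), Nat.card X = n → X ≤ C → (∀ x ∈ X, α x ∈ X) →
      (∀ x ∈ X, x ^ expo p = 1 → α x = x) → ∀ x ∈ X, α x = x := by
  intro n
  induction n using Nat.strong_induction_on with
  | _ n IH =>
  intro X hn hXC hinv hfix
  by_cases hX : X = ⊥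
  · intro x hx
    rw [hX, Subgroup.mem_bot] at hx
    rw [hx, map_one]
  set I : Subgroup P := Subgroup.closure {y | ∃ x ∈ X, y = x ^ expo p} with hI
  have hIform : ∀ y ∈ I, ∃ x ∈ X, y = x ^ expo p := by
    intro y hy
    induction hy using Subgroup.closure_induction with
    | mem y hy => exact hy
    | one => exact ⟨1, one_mem _, by simp⟩
    | mul a b _ _ ha hb =>
      obtain ⟨x1, hx1, rfl⟩ := ha
      obtain ⟨x2, hx2, rfl⟩ := hb
      exact ⟨x1 * x2, mul_mem hx1 hx2, (hC.mul_pow_expo hp.out (hXC hx1) (hXC hx2)).symm⟩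
    | inv a _ ha =>
      obtain ⟨x1, hx1, rfl⟩ := ha
      exact ⟨x1⁻¹, inv_mem hx1, by rw [inv_pow]⟩
  have hIX : I ≤ X := by
    intro y hy
    obtain ⟨x, hx, rfl⟩ := hIform y hy
    exact pow_mem hx _
  have hIlt : Nat.card I < n := by
    classical
    haveI := Fintype.ofFinite ↥X
    haveI := Fintype.ofFinite ↥I
    rw [← hn, Nat.card_eq_fintype_card, Nat.card_eq_fintype_card]
    let f : ↥X → ↥I := fun x => ⟨(x : P) ^ expo p, Subgroup.subset_closure ⟨x, x.2, rfl⟩⟩
    apply Fintype.card_lt_of_surjective_not_injective f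
    · rintro ⟨y, hy⟩
      obtain ⟨x, hx, rfl⟩ := hIform y hy
      exact ⟨⟨x, hx⟩, rfl⟩
    · intro hinj
      have hdvd : p ∣ Nat.card X := by
        obtain ⟨k, hk⟩ := IsPGroup.iff_card.mp (hP.to_subgroup X)
        rcases k with _ | k
        · exfalso
          rw [pow_zero] at hk
          exact hX (Subgroup.card_eq_one.mp hk)
        · rw [hk]; exact dvd_pow_self p (by omega)
      obtain ⟨w, hw⟩ := exists_prime_orderOf_dvd_card' p hdvd
      have hw1 : w ≠ 1 := by
        intro h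
        rw [h, orderOf_one] at hw
        exact hp.out.one_lt.ne hw
      apply hw1
      apply hinj
      apply Subtype.ext
      show (w : P) ^ expo p = ((1 : ↥X) : P) ^ expo p
      obtain ⟨k, hk⟩ := dvd_expo p
      have hwp : (w : P) ^ p = 1 := by
        have h1 : w ^ p = 1 := by rw [← hw]; exact pow_orderOf_eq_one w
        have h2 := congrArg Subtype.val h1
        simpa using h2
      rw [hk, pow_mul, hwp, one_pow, Subgroup.coe_one, one_pow]
  have hIfix : ∀ y ∈ I, α y = y := by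
    apply IH (Nat.card I) hIlt I rfl (le_trans hIX hXC)
    · intro y hy
      obtain ⟨x, hx, rfl⟩ := hIform y hy
      rw [map_pow]
      exact Subgroup.subset_closure ⟨α x, hinv x hx, rfl⟩
    · intro y hy hye
      exact hfix y (hIX hy) hye
  intro x hx
  have hu : (x⁻¹ * α x) ^ expo p = 1 := by
    rw [hC.mul_pow_expo hp.out (hXC (inv_mem hx)) (hXC (hinv x hx)), inv_pow, ← map_pow,
      hIfix _ (Subgroup.subset_closure ⟨x, hx, rfl⟩), inv_mul_cancel]
  have huX : x⁻¹ * α x ∈ X := mul_mem (inv_mem hx) (hinv x hx)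
  have hufix := hfix _ huX hu
  have h1 := eq_one_of_fixed_of_coprime hP α hα x (x⁻¹ * α x) (by group) hufix
  exact (inv_mul_eq_one.mp h1).symm

/-- the refined critical subgroup. -/
theorem exists_refined_critical [Finite P] {p : ℕ} [hp : Fact p.Prime] (hP : IsPGroup p P)
    (G : Subgroup (MulAut P)) (hG : Cfsg.Inn P ≤ G) :
    ∃ D : Subgroup P,
      (∀ α ∈ G, D.map α.toMonoidHom = D) ∧
      D ≤ Subgroup.closure {y : P | ∃ α ∈ Cfsg.pResidual p ↥G, ∃ x : P, y = x⁻¹ * (α : MulAut P) x} ∧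
      (∀ d ∈ D, d ^ p = 1 ∨ (p = 2 ∧ d ^ 4 = 1)) ∧
      ⁅D, (⊤ : Subgroup P)⁆ ≤ D ⊓ Subgroup.centralizer (D : Set P) ∧
      (∀ α ∈ G, (orderOf α).Coprime p → (∀ d ∈ D, α d = d) → α = 1) ∧
      ∀ A : Subgroup P, A ≤ D → IsMulCommutative ↥A →
        (∀ B : Subgroup P, A ≤ B → B ≤ D → IsMulCommutative ↥B → B = A) →
        A.Normal ∧ ∀ α ∈ G, (∀ a ∈ A, α a = a) → ∃ k : ℕ, orderOf α = p ^ k := by
  obtain ⟨C, hCchar, h1, h2, h3⟩ := Cfsg.Agent.S0093.result hP
  have hC := critHyp_of_critical hP C h1 h2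
  have hCinv : ∀ α : MulAut P, ∀ x ∈ C, α x ∈ C := by
    intro α x hx
    have h := Subgroup.characteristic_iff_map_eq.mp hCchar α
    rw [← h]
    exact ⟨x, hx, rfl⟩
  obtain ⟨D0, hD0⟩ : ∃ D0 : Subgroup P, D0 = Subgroup.closure
      {y | ∃ α ∈ Cfsg.pResidual p ↥G, ∃ x ∈ C, y = x⁻¹ * (α : MulAut P) x} := ⟨_, rfl⟩
  have hD0C : D0 ≤ C := by
    rw [hD0, Subgroup.closure_le]
    rintro y ⟨α, _, x, hx, rfl⟩
    exact mul_mem (inv_mem hx) (hCinv _ x hx)
  have hRn : (Cfsg.pResidual p ↥G).Normal := Cfsg.Agent.Lib.Helper12.pResidual_normal' p ↥G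
  have hD0inv : ∀ γ ∈ G, ∀ y ∈ D0, γ y ∈ D0 := by
    intro γ hγ y hy
    rw [hD0] at hy ⊢
    induction hy using Subgroup.closure_induction with
    | mem y hy =>
      obtain ⟨α, hα, x, hx, rfl⟩ := hy
      apply Subgroup.subset_closure
      refine ⟨⟨γ, hγ⟩ * α * ⟨γ, hγ⟩⁻¹, hRn.conj_mem α hα ⟨γ, hγ⟩, γ x, hCinv γ x hx, ?_⟩
      rw [map_mul, map_inv]
      congr 1
      show γ ((α : MulAut P) x) = γ ((α : MulAut P) (γ⁻¹ (γ x)))
      simp
    | one => rw [map_one]; exact one_mem _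
    | mul a b _ _ ha hb => rw [map_mul]; exact mul_mem ha hb
    | inv a _ ha => rw [map_inv]; exact inv_mem ha
  obtain ⟨D, hD⟩ : ∃ D : Subgroup P, D = Subgroup.closure {d | d ∈ D0 ∧ d ^ expo p = 1} :=
    ⟨_, rfl⟩
  have hDform : ∀ d ∈ D, d ∈ D0 ∧ d ^ expo p = 1 := by
    intro d hd
    rw [hD] at hd
    induction hd using Subgroup.closure_induction with
    | mem d hd => exact hd
    | one => exact ⟨one_mem _, one_pow _⟩
    | mul a b _ _ ha hb =>
      refine ⟨mul_mem ha.1 hb.1, ?_⟩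
      rw [hC.mul_pow_expo hp.out (hD0C ha.1) (hD0C hb.1), ha.2, hb.2, one_mul]
    | inv a _ ha => exact ⟨inv_mem ha.1, by rw [inv_pow, ha.2, inv_one]⟩
  have hDmem : ∀ d, d ∈ D0 → d ^ expo p = 1 → d ∈ D := fun d h1 h2 => by
    rw [hD]; exact Subgroup.subset_closure ⟨h1, h2⟩
  have hDinv : ∀ γ ∈ G, ∀ d ∈ D, γ d ∈ D := by
    intro γ hγ d hd
    obtain ⟨hd0, hde⟩ := hDform d hd
    exact hDmem _ (hD0inv γ hγ d hd0) (by rw [← map_pow, hde, map_one])
  have hDC : D ≤ C := fun d hd => hD0C (hDform d hd).1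
  have hDn : ∀ g : P, ∀ d ∈ D, g * d * g⁻¹ ∈ D := by
    intro g d hd
    have h4 : MulAut.conj g ∈ G := hG ⟨g, rfl⟩
    have h5 := hDinv _ h4 d hd
    rwa [MulAut.conj_apply] at h5
  have hcommD : ∀ d ∈ D, ∀ g : P, ⁅d, g⁆ ∈ D := by
    intro d hd g
    have h4 : ⁅d, g⁆ = d * (g * d⁻¹ * g⁻¹) := by rw [commutatorElement_def]; group
    rw [h4]
    exact mul_mem hd (hDn g _ (inv_mem hd))
  -- faithfulness
  have hfaith : ∀ α ∈ G, (orderOf α).Coprime p → (∀ d ∈ D, α d = d) → α = 1 := by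
    intro α hα hcop hfix
    have hfix0 : ∀ y ∈ D0, α y = y := by
      apply fixes_of_fixes_omega hP hC α hcop (Nat.card D0) D0 rfl hD0C (hD0inv α hα)
      intro y hy hye
      exact hfix y (hDmem y hy hye)
    have hαR : (⟨α, hα⟩ : ↥G) ∈ Cfsg.pResidual p ↥G := by
      apply Subgroup.subset_closure
      show Nat.Coprime (orderOf (⟨α, hα⟩ : ↥G)) p
      rw [Subgroup.orderOf_mk]
      exact hcop
    apply Cfsg.Agent.S0121.result hP C hCchar h1 h2 h3 α hcop
    intro x hx
    have hu0 : x⁻¹ * α x ∈ D0 := by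
      rw [hD0]
      exact Subgroup.subset_closure ⟨⟨α, hα⟩, hαR, x, hx, rfl⟩
    have h := eq_one_of_fixed_of_coprime hP α hcop x (x⁻¹ * α x) (by group) (hfix0 _ hu0)
    exact (inv_mul_eq_one.mp h).symm
  refine ⟨D, ?_, ?_, ?_, ?_, hfaith, ?_⟩
  · intro α hα
    apply le_antisymm
    · rintro _ ⟨d, hd, rfl⟩
      exact hDinv α hα d hd
    · intro d hd
      refine ⟨α⁻¹ d, hDinv α⁻¹ (inv_mem hα) d hd, ?_⟩
      simp
  · refine le_trans (fun d hd => (hDform d hd).1) ?_
    rw [hD0]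
    apply Subgroup.closure_mono
    rintro y ⟨α, hα, x, _, rfl⟩
    exact ⟨α, hα, x, rfl⟩
  · intro d hd
    have h4 := (hDform d hd).2
    unfold expo at h4
    split_ifs at h4 with h2
    · right; exact ⟨h2, h4⟩
    · left; exact h4
  · rw [Subgroup.commutator_le]
    intro d hd g _
    refine Subgroup.mem_inf.mpr ⟨hcommD d hd g, ?_⟩
    rw [Subgroup.mem_centralizer_iff]
    intro y hy
    exact (hC.comm_cent d (hDC hd) g y (hDC hy)).symm
  · intro A hAD hAc hAmax
    have hCA : ∀ x ∈ D, (∀ a ∈ A, a * x = x * a) → x ∈ A := by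
      intro x hxD hxa
      have hcomm : ∀ u ∈ ((A : Set P) ∪ {x}), ∀ v ∈ ((A : Set P) ∪ {x}), u * v = v * u := by
        rintro u (hu | hu) v (hv | hv)
        · exact setLike_mul_comm hu hv
        · rw [Set.mem_singleton_iff] at hv
          subst hv
          exact hxa u hu
        · rw [Set.mem_singleton_iff] at hu
          subst hu
          exact (hxa v hv).symm
        · rw [Set.mem_singleton_iff] at hu hv
          rw [hu, hv]
      have hBc := Subgroup.isMulCommutative_closure hcomm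
      have hAB : A ≤ Subgroup.closure ((A : Set P) ∪ {x}) :=
        fun a ha => Subgroup.subset_closure (Or.inl ha)
      have hBD : Subgroup.closure ((A : Set P) ∪ {x}) ≤ D := by
        rw [Subgroup.closure_le]
        rintro u (hu | hu)
        · exact hAD hu
        · rw [Set.mem_singleton_iff] at hu
          rw [hu]
          exact hxD
      have h4 := hAmax _ hAB hBD hBc
      rw [← h4]
      exact Subgroup.subset_closure (Or.inr rfl)
    have hAn : ∀ g : P, ∀ a ∈ A, g * a * g⁻¹ ∈ A := by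
      intro g a ha
      have hc : ⁅g, a⁆ = (⁅a, g⁆)⁻¹ := by simp only [commutatorElement_def]; group
      have h4 : g * a * g⁻¹ = ⁅g, a⁆ * a := by rw [commutatorElement_def]; group
      rw [h4]
      apply mul_mem _ ha
      rw [hc]
      apply inv_mem
      apply hCA _ (hcommD a (hAD ha) g)
      intro b hb
      exact (hC.comm_cent a (hDC (hAD ha)) g b (hDC (hAD hb))).symm
    constructor
    · exact ⟨fun a ha g => hAn g a ha⟩
    · intro α hα hfixA
      have hn0 : orderOf α ≠ 0 := (orderOf_pos α).ne'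
      obtain ⟨a, m, hm, hnam⟩ := Nat.exists_eq_pow_mul_and_not_dvd hn0 p hp.out.ne_one
      obtain ⟨β, hβ⟩ : ∃ β : MulAut P, β = α ^ (p ^ a) := ⟨_, rfl⟩
      have hβord : orderOf β = m := by
        rw [hβ, orderOf_pow_of_dvd (pow_ne_zero _ hp.out.ne_zero)
          (by rw [hnam]; exact dvd_mul_right _ _), hnam,
          Nat.mul_div_cancel_left _ (pow_pos hp.out.pos a)]
      have hβcop : (orderOf β).Coprime p := by
        rw [hβord]
        exact ((Nat.Prime.coprime_iff_not_dvd hp.out).mpr hm).symm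
      have hβG : β ∈ G := by rw [hβ]; exact pow_mem hα _
      have hβA : ∀ x ∈ A, β x = x := by
        intro x hx
        rw [hβ]
        have hk : ∀ k : ℕ, (α ^ k) x = x := by
          intro k
          induction k with
          | zero => simp
          | succ k ih => rw [pow_succ', MulAut.mul_apply, ih, hfixA x hx]
        exact hk _
      have hβD : ∀ d ∈ D, β d = d := by
        intro d hd
        have huD : d⁻¹ * β d ∈ D := mul_mem (inv_mem hd) (hDinv β hβG d hd)
        have huA : d⁻¹ * β d ∈ A := by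
          apply hCA _ huD
          intro b hb
          have h5 : β (d * b * d⁻¹) = d * b * d⁻¹ := hβA _ (hAn d b hb)
          rw [map_mul, map_mul, map_inv, hβA b hb] at h5
          calc b * (d⁻¹ * β d) = d⁻¹ * (d * b * d⁻¹) * β d := by group
            _ = d⁻¹ * (β d * b * (β d)⁻¹) * β d := by rw [h5]
            _ = d⁻¹ * β d * b := by group
        have h6 := eq_one_of_fixed_of_coprime hP β hβcop d (d⁻¹ * β d) (by group) (hβA _ huA)
        exact (inv_mul_eq_one.mp h6).symm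
      have hβ1 : β = 1 := hfaith β hβG hβcop hβD
      refine ⟨a, ?_⟩
      rw [hβ1, orderOf_one] at hβord
      rw [hnam, ← hβord, mul_one]

end Cfsg.Agent.Lib.Helper1.CritExtra
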