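import Mathlib

set_option autoImplicit false
open scoped commutatorElement

namespace Cfsg.Agent.Lib.Helper1

section
variable {G : Type*} [Group G] {x y c a b : G}

/-- `c ^ k * x = a ^ k * x * c ^ k` when `c * x = a * x * c` with `a` central -/
theorem pow_mul_of_central_comm (hcx : c * x = a * x * c) (ha : ∀ g : G, Commute a g) (k : ℕ) :
    c ^ k * x = a ^ k * x * c ^ k := by
  induction k with
  | zero => simp
  | succ k ih =>
    calc c ^ (k + 1) * x = c ^ k * (c * x) := by rw [pow_succ, mul_assoc]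
      _ = c ^ k * (a * x * c) := by rw [hcx]
      _ = (c ^ k * a) * x * c := by simp only [mul_assoc]
      _ = (a * c ^ k) * x * c := by rw [((ha c).pow_right k).eq]
      _ = a * (c ^ k * x) * c := by simp only [mul_assoc]
      _ = a * (a ^ k * x * c ^ k) * c := by rw [ih]
      _ = (a * a ^ k) * x * (c ^ k * c) := by simp only [mul_assoc]
      _ = a ^ (k + 1) * x * c ^ (k + 1) := by rw [← pow_succ', ← pow_succ]

/-- `c * x ^ m = a ^ m * x ^ m * c` when `c * x = a * x * c` with `a` central -/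
theorem mul_pow_of_central_comm (hcx : c * x = a * x * c) (ha : ∀ g : G, Commute a g) (m : ℕ) :
    c * x ^ m = a ^ m * x ^ m * c := by
  induction m with
  | zero => simp
  | succ m ih =>
    calc c * x ^ (m + 1) = (c * x ^ m) * x := by rw [pow_succ, mul_assoc]
      _ = (a ^ m * x ^ m * c) * x := by rw [ih]
      _ = a ^ m * x ^ m * (c * x) := by simp only [mul_assoc]
      _ = a ^ m * x ^ m * (a * x * c) := by rw [hcx]
      _ = a ^ m * (x ^ m * a) * x * c := by simp only [mul_assoc]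
      _ = a ^ m * (a * x ^ m) * x * c := by rw [(ha (x ^ m)).eq]
      _ = (a ^ m * a) * (x ^ m * x) * c := by simp only [mul_assoc]
      _ = a ^ (m + 1) * x ^ (m + 1) * c := by rw [← pow_succ, ← pow_succ]

/-- `y ^ m * x = b ^ (m.choose 2) * c ^ m * x * y ^ m` in class 3 -/
theorem pow_mul_class_three (hyx : y * x = c * x * y) (hyc : y * c = b * c * y)
    (hb : ∀ g : G, Commute b g) (m : ℕ) :
    y ^ m * x = b ^ (m.choose 2) * c ^ m * x * y ^ m := by
  induction m with
  | zero => simp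
  | succ m ih =>
    have h1 : y * c ^ m = b ^ m * c ^ m * y := mul_pow_of_central_comm hyc hb m
    have hch : (m + 1).choose 2 = m.choose 2 + m := by
      rw [Nat.choose_succ_succ' m 1, Nat.choose_one_right, add_comm]
    calc y ^ (m + 1) * x = y * (y ^ m * x) := by rw [pow_succ', mul_assoc]
      _ = y * (b ^ (m.choose 2) * c ^ m * x * y ^ m) := by rw [ih]
      _ = (y * b ^ (m.choose 2)) * c ^ m * x * y ^ m := by simp only [mul_assoc]
      _ = (b ^ (m.choose 2) * y) * c ^ m * x * y ^ m := by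
          rw [((hb y).pow_left (m.choose 2)).eq]
      _ = b ^ (m.choose 2) * (y * c ^ m) * x * y ^ m := by simp only [mul_assoc]
      _ = b ^ (m.choose 2) * (b ^ m * c ^ m * y) * x * y ^ m := by rw [h1]
      _ = (b ^ (m.choose 2) * b ^ m) * c ^ m * (y * x) * y ^ m := by simp only [mul_assoc]
      _ = (b ^ (m.choose 2) * b ^ m) * c ^ m * (c * x * y) * y ^ m := by rw [hyx]
      _ = (b ^ (m.choose 2) * b ^ m) * (c ^ m * c) * x * (y * y ^ m) := by
          simp only [mul_assoc]
      _ = b ^ ((m + 1).choose 2) * c ^ (m + 1) * x * y ^ (m + 1) := by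
          rw [← pow_add, ← pow_succ, ← pow_succ', hch]

/-- the collection formula in class 3:
`(x y)^n = x^n c^(n choose 2) y^n a^((n+1) choose 3) b^(n choose 3)` with `c = [y,x]`,
`a = [c,x]`, `b = [y,c]`, where `a` and `b` are central. -/
theorem mul_pow_class_three_aux (hyx : y * x = c * x * y) (hcx : c * x = a * x * c)
    (hyc : y * c = b * c * y) (ha : ∀ g : G, Commute a g) (hb : ∀ g : G, Commute b g) (n : ℕ) :
    (x * y) ^ n =
      x ^ n * c ^ (n.choose 2) * y ^ n * a ^ ((n + 1).choose 3) * b ^ (n.choose 3) := by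
  induction n with
  | zero => simp [Nat.choose]
  | succ n ih =>
    have h3 := pow_mul_class_three hyx hyc hb n
    have hch2 : (n + 1).choose 2 = n.choose 2 + n := by
      rw [Nat.choose_succ_succ' n 1, Nat.choose_one_right, add_comm]
    have h1 := pow_mul_of_central_comm hcx ha ((n + 1).choose 2)
    have hchA : (n + 1 + 1).choose 3 = (n + 1).choose 3 + (n + 1).choose 2 := by
      rw [Nat.choose_succ_succ' (n + 1) 2, add_comm]
    have hchB : (n + 1).choose 3 = n.choose 3 + n.choose 2 := by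
      rw [Nat.choose_succ_succ' n 2, add_comm]
    -- abbreviations for the central parts
    obtain ⟨A, hA⟩ : ∃ A, A = a ^ ((n + 1).choose 3) := ⟨_, rfl⟩
    obtain ⟨B, hB⟩ : ∃ B, B = b ^ (n.choose 3) := ⟨_, rfl⟩
    have hAc : ∀ g : G, Commute A g := fun g => by rw [hA]; exact (ha g).pow_left _
    have hBc : ∀ g : G, Commute B g := fun g => by rw [hB]; exact (hb g).pow_left _
    have hb2 : ∀ g : G, Commute (b ^ (n.choose 2)) g := fun g => (hb g).pow_left _
    have ha2 : ∀ g : G, Commute (a ^ ((n + 1).choose 2)) g := fun g => (ha g).pow_left _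
    rw [← hA, ← hB] at ih
    calc (x * y) ^ (n + 1) = (x * y) ^ n * (x * y) := pow_succ _ _
      _ = x ^ n * c ^ (n.choose 2) * y ^ n * A * B * (x * y) := by rw [ih]
      _ = x ^ n * c ^ (n.choose 2) * y ^ n * (A * (B * (x * y))) := by simp only [mul_assoc]
      _ = x ^ n * c ^ (n.choose 2) * y ^ n * ((x * y) * A * B) := by
          rw [(hBc (x * y)).eq, ← mul_assoc A, (hAc (x * y)).eq]
      _ = x ^ n * c ^ (n.choose 2) * (y ^ n * x) * y * A * B := by simp only [mul_assoc]
      _ = x ^ n * c ^ (n.choose 2) * (b ^ (n.choose 2) * c ^ n * x * y ^ n) * y * A * B := by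
          rw [h3]
      _ = x ^ n * (c ^ (n.choose 2) * b ^ (n.choose 2)) * c ^ n * x * y ^ n * y * A * B := by
          simp only [mul_assoc]
      _ = x ^ n * (b ^ (n.choose 2) * c ^ (n.choose 2)) * c ^ n * x * y ^ n * y * A * B := by
          rw [(hb2 (c ^ (n.choose 2))).eq]
      _ = (x ^ n * b ^ (n.choose 2)) * (c ^ (n.choose 2) * c ^ n) * x * (y ^ n * y) * A * B := by
          simp only [mul_assoc]
      _ = (b ^ (n.choose 2) * x ^ n) * c ^ ((n + 1).choose 2) * x * y ^ (n + 1) * A * B := by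
          rw [← (hb2 (x ^ n)).eq, ← pow_add, ← pow_succ, hch2]
      _ = b ^ (n.choose 2) * x ^ n * (c ^ ((n + 1).choose 2) * x) * y ^ (n + 1) * A * B := by
          simp only [mul_assoc]
      _ = b ^ (n.choose 2) * x ^ n *
            (a ^ ((n + 1).choose 2) * x * c ^ ((n + 1).choose 2)) * y ^ (n + 1) * A * B := by
          rw [h1]
      _ = b ^ (n.choose 2) * (x ^ n * a ^ ((n + 1).choose 2)) * x * c ^ ((n + 1).choose 2) *
            y ^ (n + 1) * A * B := by simp only [mul_assoc]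
      _ = b ^ (n.choose 2) * (a ^ ((n + 1).choose 2) * x ^ n) * x * c ^ ((n + 1).choose 2) *
            y ^ (n + 1) * A * B := by rw [(ha2 (x ^ n)).eq]
      _ = b ^ (n.choose 2) * (a ^ ((n + 1).choose 2) *
            ((x ^ n * x) * c ^ ((n + 1).choose 2) * y ^ (n + 1) * A * B)) := by
          simp only [mul_assoc]
      _ = (x ^ n * x) * c ^ ((n + 1).choose 2) * y ^ (n + 1) * A * B *
            a ^ ((n + 1).choose 2) * b ^ (n.choose 2) := by
          rw [(ha2 _).eq, (hb2 _).eq]
      _ = x ^ (n + 1) * c ^ ((n + 1).choose 2) * y ^ (n + 1) *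
            (A * (B * a ^ ((n + 1).choose 2))) * b ^ (n.choose 2) := by
          rw [← pow_succ]; simp only [mul_assoc]
      _ = x ^ (n + 1) * c ^ ((n + 1).choose 2) * y ^ (n + 1) *
            (A * (a ^ ((n + 1).choose 2) * B)) * b ^ (n.choose 2) := by
          rw [(hBc (a ^ ((n + 1).choose 2))).eq]
      _ = x ^ (n + 1) * c ^ ((n + 1).choose 2) * y ^ (n + 1) *
            (A * a ^ ((n + 1).choose 2)) * (B * b ^ (n.choose 2)) := by
          simp only [mul_assoc]
      _ = x ^ (n + 1) * c ^ ((n + 1).choose 2) * y ^ (n + 1) * a ^ ((n + 1 + 1).choose 3) *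
            b ^ ((n + 1).choose 3) := by
          rw [hA, hB, ← pow_add, ← pow_add, hchA, hchB]


/-- consequences of the collection formula for elements of order dividing `p` -/
theorem mul_pow_eq_one_class_three {p : ℕ} (hp2 : p ∣ p.choose 2)
    (hyx : y * x = c * x * y) (hcx : c * x = a * x * c)
    (hyc : y * c = b * c * y) (ha : ∀ g : G, Commute a g) (hb : ∀ g : G, Commute b g)
    (hA : a ^ p = 1 → a ^ ((p + 1).choose 3) = 1) (hB : b ^ p = 1 → b ^ (p.choose 3) = 1)
    (hx : x ^ p = 1) (hy : y ^ p = 1) : (x * y) ^ p = 1 ∧ c ^ p = 1 := by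
  have hap : a ^ p = 1 := by
    have h := mul_pow_of_central_comm hcx ha p
    rw [hx, mul_one, mul_one] at h
    exact (mul_eq_right.mp h.symm)
  have hbp : b ^ p = 1 := by
    have h := pow_mul_of_central_comm hyc hb p
    rw [hy, one_mul, mul_one] at h
    exact (mul_eq_right.mp h.symm)
  have hb2 : b ^ (p.choose 2) = 1 := by
    obtain ⟨k, hk⟩ := hp2
    rw [hk, pow_mul, hbp, one_pow]
  have hcp : c ^ p = 1 := by
    have h := pow_mul_class_three hyx hyc hb p
    rw [hy, one_mul, mul_one, hb2, one_mul] at h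
    exact (mul_eq_right.mp h.symm)
  refine ⟨?_, hcp⟩
  have hc2 : c ^ (p.choose 2) = 1 := by
    obtain ⟨k, hk⟩ := hp2
    rw [hk, pow_mul, hcp, one_pow]
  rw [mul_pow_class_three_aux hyx hcx hyc ha hb p, hx, hy, hc2, hA hap, hB hbp]
  simp

end

section
variable {R : Type*} [Group R]

/-- the basic identities and centrality statements in a group of class at most 3 -/
theorem class_three_setup
    (hcl : ⁅⁅commutator R, (⊤ : Subgroup R)⁆, (⊤ : Subgroup R)⁆ = ⊥) (x y : R) :
    (y * x = ⁅y, x⁆ * x * y) ∧ (⁅y, x⁆ * x = ⁅⁅y, x⁆, x⁆ * x * ⁅y, x⁆) ∧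
      (y * ⁅y, x⁆ = ⁅y, ⁅y, x⁆⁆ * ⁅y, x⁆ * y) ∧ (∀ g : R, Commute ⁅⁅y, x⁆, x⁆ g) ∧
      (∀ g : R, Commute ⁅y, ⁅y, x⁆⁆ g) := by
  have hc : ⁅y, x⁆ ∈ commutator R :=
    Subgroup.commutator_mem_commutator (Subgroup.mem_top y) (Subgroup.mem_top x)
  have h3 : ∀ z ∈ ⁅commutator R, (⊤ : Subgroup R)⁆, ∀ g : R, Commute z g := by
    intro z hz g
    have : ⁅z, g⁆ ∈ ⁅⁅commutator R, (⊤ : Subgroup R)⁆, (⊤ : Subgroup R)⁆ :=
      Subgroup.commutator_mem_commutator hz (Subgroup.mem_top g)
    rw [hcl, Subgroup.mem_bot] at this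
    exact commutatorElement_eq_one_iff_commute.mp this
  refine ⟨?_, ?_, ?_, ?_, ?_⟩
  · simp only [commutatorElement_def]; group
  · simp only [commutatorElement_def]; group
  · simp only [commutatorElement_def]; group
  · exact h3 _ (Subgroup.commutator_mem_commutator hc (Subgroup.mem_top x))
  · apply h3
    rw [Subgroup.commutator_comm]
    exact Subgroup.commutator_mem_commutator (Subgroup.mem_top y) hc

/-- for `p > 3`, in a group of class at most 3 the elements of order dividing `p` form a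
subgroup -/
theorem pow_eq_one_of_mem_closure_class_three {p : ℕ} [hp : Fact p.Prime] (hp3 : 3 < p)
    (hcl : ⁅⁅commutator R, (⊤ : Subgroup R)⁆, (⊤ : Subgroup R)⁆ = ⊥) (g : R)
    (hg : g ∈ Subgroup.closure {x : R | x ^ p = 1}) : g ^ p = 1 := by
  have hd2 : p ∣ p.choose 2 := hp.out.dvd_choose_self (by norm_num) (by omega)
  have hd3 : p ∣ p.choose 3 := hp.out.dvd_choose_self (by norm_num) hp3
  have hd3' : p ∣ (p + 1).choose 3 := by
    rw [Nat.choose_succ_succ' p 2]; exact dvd_add hd2 hd3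
  induction hg using Subgroup.closure_induction with
  | mem x hx => exact hx
  | one => exact one_pow p
  | mul x y _ _ hx hy =>
    obtain ⟨hyx, hcx, hyc, ha, hb⟩ := class_three_setup hcl x y
    refine (mul_pow_eq_one_class_three hd2 hyx hcx hyc ha hb ?_ ?_ hx hy).1
    · intro h; obtain ⟨k, hk⟩ := hd3'; rw [hk, pow_mul, h, one_pow]
    · intro h; obtain ⟨k, hk⟩ := hd3; rw [hk, pow_mul, h, one_pow]
  | inv x _ hx => rw [inv_pow, hx, inv_one]

/-- for odd `p`, in a group of class at most 2 the elements of order dividing `p` form a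
subgroup -/
theorem pow_eq_one_of_mem_closure_class_two {p : ℕ} [hp : Fact p.Prime] (hp2 : p ≠ 2)
    (hcl : ⁅commutator R, (⊤ : Subgroup R)⁆ = ⊥) (g : R)
    (hg : g ∈ Subgroup.closure {x : R | x ^ p = 1}) : g ^ p = 1 := by
  have hcl3 : ⁅⁅commutator R, (⊤ : Subgroup R)⁆, (⊤ : Subgroup R)⁆ = ⊥ := by
    rw [hcl, Subgroup.commutator_bot_left]
  have hp2' : 2 < p := lt_of_le_of_ne hp.out.two_le (Ne.symm hp2)
  have hd2 : p ∣ p.choose 2 := hp.out.dvd_choose_self (by norm_num) hp2'
  have h1 : ∀ z ∈ ⁅commutator R, (⊤ : Subgroup R)⁆, z = 1 := by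
    intro z hz; rw [hcl, Subgroup.mem_bot] at hz; exact hz
  induction hg using Subgroup.closure_induction with
  | mem x hx => exact hx
  | one => exact one_pow p
  | mul x y _ _ hx hy =>
    obtain ⟨hyx, hcx, hyc, ha, hb⟩ := class_three_setup hcl3 x y
    have hc : ⁅y, x⁆ ∈ commutator R :=
      Subgroup.commutator_mem_commutator (Subgroup.mem_top y) (Subgroup.mem_top x)
    have ha1 : ⁅⁅y, x⁆, x⁆ = 1 :=
      h1 _ (Subgroup.commutator_mem_commutator hc (Subgroup.mem_top x))
    have hb1 : ⁅y, ⁅y, x⁆⁆ = 1 := by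
      apply h1
      rw [Subgroup.commutator_comm]
      exact Subgroup.commutator_mem_commutator (Subgroup.mem_top y) hc
    refine (mul_pow_eq_one_class_three hd2 hyx hcx hyc ha hb ?_ ?_ hx hy).1
    · intro _; rw [ha1, one_pow]
    · intro _; rw [hb1, one_pow]
  | inv x _ hx => rw [inv_pow, hx, inv_one]

/-- the `p`-th power map is multiplicative in small class when the derived subgroup is generated
by elements of order dividing `p` -/
theorem mul_pow_prime_of_small_class {p : ℕ} [hp : Fact p.Prime]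
    (hcl : (p ≠ 2 ∧ ⁅commutator R, (⊤ : Subgroup R)⁆ = ⊥) ∨
      (3 < p ∧ ⁅⁅commutator R, (⊤ : Subgroup R)⁆, (⊤ : Subgroup R)⁆ = ⊥))
    (hder : commutator R ≤ Subgroup.closure {x : R | x ^ p = 1}) (x y : R) :
    (x * y) ^ p = x ^ p * y ^ p := by
  have hcl3 : ⁅⁅commutator R, (⊤ : Subgroup R)⁆, (⊤ : Subgroup R)⁆ = ⊥ := by
    rcases hcl with ⟨_, h⟩ | ⟨_, h⟩
    · rw [h, Subgroup.commutator_bot_left]
    · exact h
  have hp2' : 2 < p := by
    rcases hcl with ⟨h, _⟩ | ⟨h, _⟩
    · exact lt_of_le_of_ne hp.out.two_le (Ne.symm h)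
    · omega
  have hd2 : p ∣ p.choose 2 := hp.out.dvd_choose_self (by norm_num) hp2'
  -- every element of the derived subgroup has order dividing `p`
  have hder' : ∀ z ∈ commutator R, z ^ p = 1 := by
    intro z hz
    rcases hcl with ⟨h2, h⟩ | ⟨h3, h⟩
    · exact pow_eq_one_of_mem_closure_class_two h2 h z (hder hz)
    · exact pow_eq_one_of_mem_closure_class_three h3 h z (hder hz)
  obtain ⟨hyx, hcx, hyc, ha, hb⟩ := class_three_setup hcl3 x y
  have hc : ⁅y, x⁆ ∈ commutator R :=
    Subgroup.commutator_mem_commutator (Subgroup.mem_top y) (Subgroup.mem_top x)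
  have hamem : ⁅⁅y, x⁆, x⁆ ∈ commutator R :=
    Subgroup.commutator_mem_commutator (Subgroup.mem_top _) (Subgroup.mem_top x)
  have hbmem : ⁅y, ⁅y, x⁆⁆ ∈ commutator R :=
    Subgroup.commutator_mem_commutator (Subgroup.mem_top y) (Subgroup.mem_top _)
  have hc2 : ⁅y, x⁆ ^ (p.choose 2) = 1 := by
    obtain ⟨k, hk⟩ := hd2
    rw [hk, pow_mul, hder' _ hc, one_pow]
  -- the `a` and `b` terms vanish
  have hA : ⁅⁅y, x⁆, x⁆ ^ ((p + 1).choose 3) = 1 ∧ ⁅y, ⁅y, x⁆⁆ ^ (p.choose 3) = 1 := by
    rcases hcl with ⟨_, h⟩ | ⟨h3, _⟩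
    · have h1 : ∀ z ∈ ⁅commutator R, (⊤ : Subgroup R)⁆, z = 1 := by
        intro z hz; rw [h, Subgroup.mem_bot] at hz; exact hz
      have ha1 : ⁅⁅y, x⁆, x⁆ = 1 :=
        h1 _ (Subgroup.commutator_mem_commutator hc (Subgroup.mem_top x))
      have hb1 : ⁅y, ⁅y, x⁆⁆ = 1 := by
        apply h1
        rw [Subgroup.commutator_comm]
        exact Subgroup.commutator_mem_commutator (Subgroup.mem_top y) hc
      rw [ha1, hb1, one_pow, one_pow]; exact ⟨rfl, rfl⟩
    · have hd3 : p ∣ p.choose 3 := hp.out.dvd_choose_self (by norm_num) h3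
      have hd3' : p ∣ (p + 1).choose 3 := by
        rw [Nat.choose_succ_succ' p 2]; exact dvd_add hd2 hd3
      constructor
      · obtain ⟨k, hk⟩ := hd3'; rw [hk, pow_mul, hder' _ hamem, one_pow]
      · obtain ⟨k, hk⟩ := hd3; rw [hk, pow_mul, hder' _ hbmem, one_pow]
  rw [mul_pow_class_three_aux hyx hcx hyc ha hb p, hc2, hA.1, hA.2]
  simp

end

end Cfsg.Agent.Lib.Helper1
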