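import Mathlib
import Cfsg.Agent.Lib.Helper1.Alperin
import Cfsg.Agent.Lib.Helper1.MaxNormalAbelian
import Cfsg.Agent.Lib.Helper1.Coprime
import Cfsg.Agent.Lib.Helper4.Basic

/-! For odd `p`: if a normal elementary abelian subgroup `V` of order `p ^ 2` of a `p`-group is
maximal among the normal elementary abelian subgroups, the group has `p`-rank at most `2`.
Consequences for self-centralizing normal subgroups. -/

set_option autoImplicit false
open scoped commutatorElement Pointwise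

namespace Cfsg.Agent.Lib.Helper1

open Subgroup

/-- if `V`, normal elementary abelian of order `p ^ 2`, is a maximal normal elementary abelian
subgroup of the `p`-group `P` (`p` odd), then `P` has `p`-rank at most `2` -/
theorem card_le_sq_of_max_normal_elemAb {P : Type*} [Group P] [Finite P] {p : ℕ}
    [Fact p.Prime] (hp : p ≠ 2) (hP : IsPGroup p P) (A : Subgroup P) [hAn : A.Normal]
    (hAc : IsMulCommutative A) (hAe : ∀ a ∈ A, a ^ p = 1) (hVcard : Nat.card A = p ^ 2)
    (hmax : ∀ B : Subgroup P, B.Normal → IsMulCommutative B → (∀ b ∈ B, b ^ p = 1) → A ≤ B →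
      B = A)
    (E : Subgroup P) (hE : IsMulCommutative E) (hEe : ∀ e ∈ E, e ^ p = 1) :
    Nat.card E ≤ p ^ 2 := by
  classical
  have hpp : p.Prime := Fact.out
  by_contra hcon
  rw [not_le] at hcon
  have hEp : IsPGroup p E := hP.to_subgroup E
  obtain ⟨k, hk⟩ := IsPGroup.iff_card.mp hEp
  have hk3 : 3 ≤ k := by
    by_contra hlt
    rw [not_le] at hlt
    have : p ^ k ≤ p ^ 2 := Nat.pow_le_pow_right hpp.pos (by omega)
    omega
  have hE3 : p ^ 3 ≤ Nat.card E := by rw [hk]; exact Nat.pow_le_pow_right hpp.pos hk3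
  have hEcomm : ∀ a ∈ E, ∀ b ∈ E, a * b = b * a := fun a ha b hb =>
    congrArg Subtype.val (mul_comm' (⟨a, ha⟩ : E) ⟨b, hb⟩)
  have halp : ∀ x ∈ centralizer (A : Set P), x ^ p = 1 → x ∈ A := by
    intro x hx hxp
    refine alperin_omega_centralizer hP 1 (by rw [pow_one]; exact hp) A hAc
      (fun a ha => by rw [pow_one]; exact hAe a ha) ?_ x hx (by rw [pow_one]; exact hxp)
    intro B hBn hBc hBe hAB
    exact hmax B hBn hBc (fun b hb => by simpa using hBe b hb) hAB
  set C := centralizer (A : Set P) with hC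
  have hCn : C.Normal := by rw [hC]; infer_instance
  have hEC : E ⊓ C ≤ A := fun x hx => halp x hx.2 (hEe x hx.1)
  have hidx : Nat.card P ≤ Nat.card C * p := by
    have := card_le_card_centralizer_mul hP A hAc 2 A hAn le_rfl hVcard
    simpa using this
  have hprod := Cfsg.Agent.Lib.Helper4.card_sup_mul_card_inf E C
    (by rw [Subgroup.normalizer_eq_top]; exact le_top)
  have hsup : Nat.card (E ⊔ C : Subgroup P) ≤ Nat.card P := Subgroup.card_le_card_group _
  have hCpos : 0 < Nat.card C := Nat.card_pos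
  have hle : Nat.card E ≤ p * Nat.card (E ⊓ C : Subgroup P) := by
    have h1 : Nat.card E * Nat.card C ≤ (p * Nat.card (E ⊓ C : Subgroup P)) * Nat.card C := by
      calc Nat.card E * Nat.card C
          = Nat.card (E ⊔ C : Subgroup P) * Nat.card (E ⊓ C : Subgroup P) := hprod.symm
        _ ≤ Nat.card P * Nat.card (E ⊓ C : Subgroup P) := Nat.mul_le_mul_right _ hsup
        _ ≤ (Nat.card C * p) * Nat.card (E ⊓ C : Subgroup P) := Nat.mul_le_mul_right _ hidx
        _ = (p * Nat.card (E ⊓ C : Subgroup P)) * Nat.card C := by ring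
    exact Nat.le_of_mul_le_mul_right h1 hCpos
  have hinfle : Nat.card (E ⊓ C : Subgroup P) ≤ p ^ 2 := by
    rw [← hVcard]; exact Subgroup.card_le_of_le hEC
  have hinfge : p ^ 2 ≤ Nat.card (E ⊓ C : Subgroup P) := by
    have h1 : p * p ^ 2 ≤ p * Nat.card (E ⊓ C : Subgroup P) := by
      calc p * p ^ 2 = p ^ 3 := by ring
        _ ≤ Nat.card E := hE3
        _ ≤ _ := hle
    exact Nat.le_of_mul_le_mul_left h1 hpp.pos
  have hinfeq : E ⊓ C = A := Subgroup.eq_of_le_of_card_ge hEC (by rw [hVcard]; exact hinfge)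
  have hAE : A ≤ E := by rw [← hinfeq]; exact inf_le_left
  have hEleC : E ≤ C := by
    intro e he
    rw [hC, mem_centralizer_iff]
    intro a ha
    exact hEcomm a (hAE ha) e he
  have hEA : E ≤ A := by
    rw [← hinfeq]; exact le_inf le_rfl hEleC
  have := Subgroup.card_le_of_le hEA
  omega

/-- for odd `p`, in a `p`-group of `p`-rank at least `3` every normal elementary abelian
subgroup of order `p ^ 2` lies in a self-centralizing normal subgroup of `p`-rank at least `3` -/
theorem exists_self_centralizing_normal_rank_three {R : Type*} [Group R] [Finite R] {p : ℕ}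
    [Fact p.Prime] (hp : p ≠ 2) (hR : IsPGroup p R)
    (E₀ : Subgroup R) (hE₀c : IsMulCommutative E₀) (hE₀e : ∀ a ∈ E₀, a ^ p = 1)
    (hE₀card : p ^ 2 < Nat.card E₀)
    (E : Subgroup R) [hEn : E.Normal] (hEc : IsMulCommutative E) (hEe : ∀ a ∈ E, a ^ p = 1)
    (hE2 : Nat.card E = p ^ 2) :
    ∃ A : Subgroup R, E ≤ A ∧ A.Normal ∧ centralizer (A : Set R) = A ∧
      ∃ A₀ : Subgroup R, A₀ ≤ A ∧ IsMulCommutative A₀ ∧ (∀ a ∈ A₀, a ^ p = 1) ∧
        p ^ 2 < Nat.card A₀ := by
  classical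
  -- a maximal normal elementary abelian subgroup containing `E`
  obtain ⟨A₀, hEA₀, hA₀max⟩ := (Set.toFinite {A : Subgroup R | A.Normal ∧ IsMulCommutative A ∧
    (∀ a ∈ A, a ^ p = 1)}).exists_le_maximal (show E ∈ {A : Subgroup R | A.Normal ∧
      IsMulCommutative A ∧ (∀ a ∈ A, a ^ p = 1)} from ⟨hEn, hEc, hEe⟩)
  obtain ⟨⟨hA₀n, hA₀c, hA₀e⟩, hA₀max'⟩ := hA₀max
  have hA₀card : p ^ 2 < Nat.card A₀ := by
    by_contra hcon
    rw [not_lt] at hcon
    have heq : E = A₀ := Subgroup.eq_of_le_of_card_ge hEA₀ (by rw [hE2]; exact hcon)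
    subst heq
    have := card_le_sq_of_max_normal_elemAb hp hR E hEc hEe hE2
      (fun B hBn hBc hBe hEB => le_antisymm (hA₀max' ⟨hBn, hBc, hBe⟩ hEB) hEB) E₀ hE₀c hE₀e
    omega
  -- a maximal normal abelian subgroup containing `A₀`
  obtain ⟨A, hA₀A, hAmax⟩ := (Set.toFinite {A : Subgroup R | A.Normal ∧
    IsMulCommutative A}).exists_le_maximal (show A₀ ∈ {A : Subgroup R | A.Normal ∧
      IsMulCommutative A} from ⟨hA₀n, hA₀c⟩)
  obtain ⟨⟨hAn, hAc⟩, hAmax'⟩ := hAmax
  refine ⟨A, le_trans hEA₀ hA₀A, hAn, ?_, A₀, hA₀A, hA₀c, hA₀e, hA₀card⟩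
  exact centralizer_eq_of_max_normal_abelian hR A hAc
    (fun B hBn hBc hAB => le_antisymm (hAmax' ⟨hBn, hBc⟩ hAB) hAB)

end Cfsg.Agent.Lib.Helper1
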