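import Mathlib
import Cfsg.Agent.Lib.Helper1.Noncyclic

set_option autoImplicit false

namespace Cfsg.Agent.Lib.Helper1

open Subgroup

/-- **Key lemma**: a finite abelian `2`-group of order at least `8` with an involutory
automorphism having exactly two fixed points is cyclic. -/
theorem isCyclic_of_involutive_two_fixed {A : Type*} [CommGroup A] [Finite A]
    (hA : IsPGroup 2 A) (h8 : 8 ≤ Nat.card A) (τ : A →* A) (hτ : ∀ u, τ (τ u) = u)
    (z : A) (hz1 : z ≠ 1) (hfix : ∀ u, τ u = u ↔ (u = 1 ∨ u = z)) : IsCyclic A := by
  classical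
  by_contra hnc
  have hzfix : τ z = z := (hfix z).mpr (Or.inr rfl)
  -- `z ^ 2 = 1`
  have hzz : z * z = 1 := by
    have h1 : τ (z * z) = z * z := by rw [map_mul, hzfix]
    rcases (hfix _).mp h1 with h | h
    · exact h
    · exfalso; apply hz1
      have : z * z = z * 1 := by rw [mul_one]; exact h
      exact mul_left_cancel this
  -- the norm map
  have hN : ∀ u, u * τ u = 1 ∨ u * τ u = z := by
    intro u
    apply (hfix _).mp
    rw [map_mul, hτ, mul_comm]
  have hNmul : ∀ u w, (u * w) * τ (u * w) = (u * τ u) * (w * τ w) := by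
    intro u w
    rw [map_mul, mul_mul_mul_comm]
  -- involutions with trivial norm are fixed
  have hinv : ∀ u, u * u = 1 → u * τ u = 1 → (u = 1 ∨ u = z) := by
    intro u huu hNu
    apply (hfix u).mp
    have : u * τ u = u * u := by rw [hNu, huu]
    exact mul_left_cancel this
  -- a noncyclic pair of involutions
  obtain ⟨q, hq, a, b, haq, hbq, hb1, hab⟩ := exists_noncyclic_pair hnc
  have hq2 : q = 2 := by
    obtain ⟨k, hk⟩ := (IsPGroup.iff_orderOf.mp hA) b
    have h1 : orderOf b ∣ q := orderOf_dvd_of_pow_eq_one hbq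
    have h2 : orderOf b ≠ 1 := by rw [Ne, orderOf_eq_one_iff]; exact hb1
    have h3 : orderOf b = q := (Nat.dvd_prime hq).mp h1 |>.resolve_left h2
    rw [h3] at hk
    have : q ∣ 2 ^ k := by rw [← hk]
    exact (Nat.prime_dvd_prime_iff_eq hq Nat.prime_two).mp (hq.dvd_of_dvd_pow this)
  subst hq2
  have haa : a * a = 1 := by rw [← pow_two]; exact haq
  have hbb : b * b = 1 := by rw [← pow_two]; exact hbq
  have ha1 : a ≠ 1 := by have := hab 0; simpa using this
  have hab' : a ≠ b := by
    intro h
    have := hab 1
    rw [pow_one, h] at this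
    exact this hbb
  -- an involution `v ∉ {1, z}` with norm `z`
  obtain ⟨v, hvv, hNv⟩ : ∃ v, v * v = 1 ∧ v * τ v = z := by
    rcases hN a with h | h
    · rcases hinv a haa h with h' | h'
      · exact absurd h' ha1
      · rcases hN b with hb | hb
        · rcases hinv b hbb hb with hb' | hb'
          · exact absurd hb' hb1
          · exact absurd (h'.trans hb'.symm) hab'
        · exact ⟨b, hbb, hb⟩
    · exact ⟨a, haa, h⟩
  have hvinv : v⁻¹ = v := inv_eq_of_mul_eq_one_left hvv
  have hzinv : z⁻¹ = z := inv_eq_of_mul_eq_one_left hzz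
  -- all involutions lie in `{1, z, v, v * z}`
  have hinvs : ∀ u, u * u = 1 → u ∈ ({1, z, v, v * z} : Finset A) := by
    intro u huu
    simp only [Finset.mem_insert, Finset.mem_singleton]
    rcases hN u with h | h
    · rcases hinv u huu h with h' | h'
      · exact Or.inl h'
      · exact Or.inr (Or.inl h')
    · have h1 : (u * v) * (u * v) = 1 := by rw [mul_mul_mul_comm, huu, hvv, one_mul]
      have h2 : (u * v) * τ (u * v) = 1 := by rw [hNmul, h, hNv, hzz]
      rcases hinv _ h1 h2 with h' | h'
      · right; right; left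
        rw [← hvinv]; exact eq_inv_of_mul_eq_one_left h'
      · right; right; right
        have : u = z * v⁻¹ := eq_mul_inv_of_mul_eq h'
        rw [this, hvinv, mul_comm]
  -- an element whose square is not `1`
  obtain ⟨u, hu⟩ : ∃ u : A, u * u ≠ 1 := by
    by_contra hall
    push Not at hall
    have : Fintype A := Fintype.ofFinite A
    have h1 : (Finset.univ : Finset A) ⊆ ({1, z, v, v * z} : Finset A) := fun u _ => hinvs u (hall u)
    have h2 := Finset.card_le_card h1
    rw [Finset.card_univ, ← Nat.card_eq_fintype_card] at h2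
    have h3 : ({1, z, v, v * z} : Finset A).card ≤ 4 := Finset.card_le_four
    omega
  -- an element `w` of order `4`
  obtain ⟨w, hw2, hw4⟩ : ∃ w : A, w * w ≠ 1 ∧ (w * w) * (w * w) = 1 := by
    obtain ⟨m, hm⟩ := (IsPGroup.iff_orderOf.mp hA) u
    have hm2 : 2 ≤ m := by
      by_contra hlt
      push Not at hlt
      apply hu
      have : orderOf u ∣ 2 := by
        rw [hm]
        interval_cases m
        · norm_num
        · norm_num
      rw [← pow_two]; exact orderOf_dvd_iff_pow_eq_one.mp this
    obtain ⟨k, rfl⟩ : ∃ k, m = k + 2 := ⟨m - 2, by omega⟩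
    refine ⟨u ^ (2 ^ k), ?_, ?_⟩
    · rw [← pow_add, ← two_mul, ← pow_succ']
      intro h
      have := orderOf_dvd_of_pow_eq_one h
      rw [hm] at this
      have := (Nat.pow_dvd_pow_iff_le_right (by norm_num : 1 < 2)).mp this
      omega
    · rw [← pow_add, ← pow_add, ← two_mul, ← two_mul, ← mul_assoc]
      have e : 2 * 2 * 2 ^ k = 2 ^ (k + 2) := by ring
      rw [e, ← hm]; exact pow_orderOf_eq_one u
  -- `w * w = z`
  have hNw2 : (w * w) * τ (w * w) = 1 := by
    rw [hNmul]
    rcases hN w with h | h
    · rw [h, one_mul]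
    · rw [h, hzz]
  have hwz : w * w = z := (hinv _ hw4 hNw2).resolve_left hw2
  have hwinv : w⁻¹ = z * w := by
    apply inv_eq_of_mul_eq_one_left
    rw [mul_assoc, hwz, hzz]
  rcases hN w with h | h
  · -- `τ w = w⁻¹ = z w`
    have h1 : τ w = z * w := by rw [← hwinv]; exact eq_inv_of_mul_eq_one_right h
    have h2 : τ v = z * v := by
      have : τ v = v⁻¹ * z := eq_inv_mul_of_mul_eq hNv
      rw [this, hvinv, mul_comm]
    have h3 : τ (w * v) = w * v := by
      rw [map_mul, h1, h2, mul_mul_mul_comm, hzz, one_mul]
    rcases (hfix _).mp h3 with h' | h'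
    · apply hw2
      have : w = v⁻¹ := eq_inv_of_mul_eq_one_left h'
      rw [this, hvinv, hvv]
    · apply hw2
      have : w = z * v⁻¹ := eq_mul_inv_of_mul_eq h'
      rw [this, hvinv, mul_mul_mul_comm, hzz, hvv, one_mul]
  · -- `τ w = w`
    have h1 : τ w = w := by
      have : τ w = w⁻¹ * z := eq_inv_mul_of_mul_eq h
      rw [this, hwinv, mul_comm z w, mul_assoc, hzz, mul_one]
    rcases (hfix _).mp h1 with h' | h'
    · apply hw2; rw [h', one_mul]
    · apply hw2; rw [h', hzz]


/-- for an abelian subgroup `C` of index 2 and any `t`, `C ∩ C_X(t)` is central when `t ∉ C` -/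
theorem inf_centralizer_le_center_of_index_two {X : Type*} [Group X] (C : Subgroup X)
    (hCab : IsMulCommutative C) (hCi : C.index = 2) (t : X) (ht : t ∉ C) :
    C ⊓ centralizer ({t} : Set X) ≤ center X := by
  intro y hy
  have hcomm : ∀ u ∈ C, ∀ w ∈ C, u * w = w * u := fun u hu w hw =>
    congrArg Subtype.val (mul_comm' (⟨u, hu⟩ : C) ⟨w, hw⟩)
  have hyt : t * y = y * t := mem_centralizer_iff.mp hy.2 t (Set.mem_singleton t)
  rw [mem_center_iff]
  intro x
  by_cases hx : x ∈ C
  · exact hcomm x hx y hy.1
  · have h1 : t⁻¹ * x ∈ C := by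
      rw [Subgroup.mul_mem_iff_of_index_two hCi]
      constructor
      · intro h; exact absurd (by simpa using C.inv_mem h) ht
      · intro h; exact absurd h hx
    have h2 := hcomm (t⁻¹ * x) h1 y hy.1
    calc x * y = t * ((t⁻¹ * x) * y) := by group
      _ = t * (y * (t⁻¹ * x)) := by rw [h2]
      _ = (t * y) * (t⁻¹ * x) := by group
      _ = (y * t) * (t⁻¹ * x) := by rw [hyt]
      _ = y * x := by group

/-- **Lemma M**: in a finite `2`-group, an abelian subgroup `C` of index 2 and order at least
`8` such that `|C ∩ C_X(t)| = 2` for some `t` is cyclic. -/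
theorem isCyclic_of_index_two_of_card_centralizer {X : Type*} [Group X] [Finite X]
    (hX : IsPGroup 2 X) (C : Subgroup X) (hCab : IsMulCommutative C) (hCi : C.index = 2)
    (hC8 : 8 ≤ Nat.card C) (t : X)
    (hZ : Nat.card (C ⊓ centralizer ({t} : Set X) : Subgroup X) = 2) : IsCyclic C := by
  let _ : CommGroup C := { (inferInstance : Group C) with mul_comm := fun x y => mul_comm' x y }
  have hCn : C.Normal := Subgroup.normal_of_index_eq_two hCi
  have hcomm : ∀ u ∈ C, ∀ w ∈ C, u * w = w * u := fun u hu w hw =>
    congrArg Subtype.val (mul_comm' (⟨u, hu⟩ : C) ⟨w, hw⟩)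
  have ht2 : t * t ∈ C := Subgroup.mul_self_mem_of_index_two hCi t
  let τ : C →* C :=
    { toFun := fun u => ⟨t * u * t⁻¹, hCn.conj_mem u u.2 t⟩
      map_one' := by apply Subtype.ext; simp
      map_mul' := by intro u w; apply Subtype.ext; simp }
  have hτval : ∀ u : C, ((τ u : C) : X) = t * u * t⁻¹ := fun u => rfl
  have hτ : ∀ u, τ (τ u) = u := by
    intro u
    apply Subtype.ext
    rw [hτval, hτval]
    have := hcomm (t * t) ht2 u u.2
    calc t * (t * (u : X) * t⁻¹) * t⁻¹ = (t * t * u) * (t⁻¹ * t⁻¹) := by group
      _ = (u * (t * t)) * (t⁻¹ * t⁻¹) := by rw [this]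
      _ = u := by group
  obtain ⟨z₀, hz₀, hz₀u⟩ := (Nat.card_eq_two_iff' (1 : (C ⊓ centralizer ({t} : Set X) : Subgroup X))).mp hZ
  let z : C := ⟨z₀.1, z₀.2.1⟩
  have hz1 : z ≠ 1 := by
    intro h
    apply hz₀
    apply Subtype.ext
    have e : ((z : C) : X) = ((1 : C) : X) := congrArg Subtype.val h
    exact e
  have hfix : ∀ u : C, τ u = u ↔ (u = 1 ∨ u = z) := by
    intro u
    constructor
    · intro h
      have h1 : t * (u : X) * t⁻¹ = u := by rw [← hτval, h]
      have hu : (u : X) ∈ C ⊓ centralizer ({t} : Set X) := by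
        refine ⟨u.2, ?_⟩
        show (u : X) ∈ centralizer ({t} : Set X)
        rw [mem_centralizer_iff]
        intro s hs
        rw [Set.mem_singleton_iff] at hs
        subst hs
        calc s * (u : X) = (s * u * s⁻¹) * s := by group
          _ = u * s := by rw [h1]
      by_cases hu1 : u = 1
      · exact Or.inl hu1
      · right
        have h2 : (⟨(u : X), hu⟩ : (C ⊓ centralizer ({t} : Set X) : Subgroup X)) ≠ 1 := by
          intro h
          apply hu1
          apply Subtype.ext
          have e : (u : X) = ((1 : (C ⊓ centralizer ({t} : Set X) : Subgroup X)) : X) :=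
            congrArg Subtype.val h
          exact e
        have h3 := hz₀u _ h2
        apply Subtype.ext
        have e : (u : X) = (z₀ : X) := congrArg Subtype.val h3
        exact e
    · rintro (h | h)
      · rw [h, map_one]
      · rw [h]
        apply Subtype.ext
        rw [hτval]
        have := mem_centralizer_iff.mp z₀.2.2 t (Set.mem_singleton t)
        show t * (z₀ : X) * t⁻¹ = z₀
        rw [this]; group
  exact isCyclic_of_involutive_two_fixed (hX.to_subgroup C) hC8 τ hτ z hz1 hfix


universe u

/-- a group of order `p ^ j` with `j ≤ 1` is cyclic -/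
theorem isCyclic_of_card_pow_le_one {p : ℕ} [hp : Fact p.Prime] {Y : Type*} [Group Y] (j : ℕ)
    (hj : j ≤ 1) (hcard : Nat.card Y = p ^ j) : IsCyclic Y := by
  interval_cases j
  · rw [pow_zero] at hcard
    have : Subsingleton Y := (Nat.card_eq_one_iff_unique.mp hcard).1
    exact isCyclic_of_subsingleton
  · rw [pow_one] at hcard
    exact isCyclic_of_prime_card hcard

/-- the nilpotency class of a group of order `p ^ m` is at most `max 1 (m - 1)` -/
theorem nilpotencyClass_le_of_card_pow {p : ℕ} [hp : Fact p.Prime] :
    ∀ (m : ℕ) (X : Type u) [Group X] [Finite X], Nat.card X = p ^ m →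
      Group.nilpotencyClass X ≤ max 1 (m - 1) := by
  intro m
  induction m using Nat.strong_induction_on with
  | _ m IH =>
  intro X _ _ hcard
  have hX : IsPGroup p X := IsPGroup.of_card hcard
  have hnil : Group.IsNilpotent X := hX.isNilpotent
  by_cases hab : IsMulCommutative X
  · exact le_trans (Group.IsNilpotent.nilpotencyClass_le_one_iff.mpr hab) (le_max_left _ _)
  · have hnt : Nontrivial X := by
      by_contra h
      rw [not_nontrivial_iff_subsingleton] at h
      exact hab ⟨⟨fun a b => Subsingleton.elim _ _⟩⟩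
    have hZnt : Nontrivial (center X) := hX.center_nontrivial
    obtain ⟨k, hk⟩ := IsPGroup.iff_card.mp (hX.to_subgroup (center X))
    have hk1 : 1 ≤ k := by
      rcases Nat.eq_zero_or_pos k with h | h
      · rw [h, pow_zero] at hk
        have := (Nat.card_eq_one_iff_unique.mp hk).1
        exact absurd hZnt (not_nontrivial _)
      · exact h
    have hmul := Subgroup.card_eq_card_quotient_mul_card_subgroup (center X)
    rw [hcard, hk] at hmul
    have hkm : k ≤ m := by
      have : p ^ k ∣ p ^ m := ⟨_, by rw [hmul, mul_comm]⟩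
      exact (Nat.pow_dvd_pow_iff_le_right hp.out.one_lt).mp this
    have hq : Nat.card (X ⧸ center X) = p ^ (m - k) := by
      have h1 : p ^ m = p ^ (m - k) * p ^ k := by rw [← pow_add]; congr 1; omega
      rw [h1] at hmul
      exact (Nat.eq_of_mul_eq_mul_right (pow_pos hp.out.pos k) hmul).symm
    rw [Group.nilpotencyClass_eq_quotient_center_plus_one]
    have h1 := IH (m - k) (by omega) (X ⧸ center X) hq
    by_cases hmk : 2 ≤ m - k
    · have : max 1 (m - k - 1) = m - k - 1 := max_eq_right (by omega)
      rw [this] at h1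
      exact le_trans (by omega) (le_max_right _ _)
    · exfalso
      apply hab
      have hcyc : IsCyclic (X ⧸ center X) := isCyclic_of_card_pow_le_one (m - k) (by omega) hq
      exact MonoidHom.isMulCommutative_of_isCyclic_of_ker_le_center (QuotientGroup.mk' (center X))
        (by rw [QuotientGroup.ker_mk'])

/-- the centre of a `p`-group of maximal class has order `p` -/
theorem card_center_of_maximal_class {p : ℕ} [hp : Fact p.Prime] {X : Type u} [Group X]
    [Finite X] (n : ℕ) (hn : 3 ≤ n) (hcard : Nat.card X = p ^ n)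
    (hc : Group.nilpotencyClass X = n - 1) : Nat.card (center X) = p := by
  have hX : IsPGroup p X := IsPGroup.of_card hcard
  have hnil : Group.IsNilpotent X := hX.isNilpotent
  have hab : ¬ IsMulCommutative X := by
    intro hab
    have := Group.IsNilpotent.nilpotencyClass_le_one_iff.mpr hab
    omega
  have hnt : Nontrivial X := by
    by_contra h
    rw [not_nontrivial_iff_subsingleton] at h
    exact hab ⟨⟨fun a b => Subsingleton.elim _ _⟩⟩
  have hZnt : Nontrivial (center X) := hX.center_nontrivial
  obtain ⟨k, hk⟩ := IsPGroup.iff_card.mp (hX.to_subgroup (center X))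
  have hk1 : 1 ≤ k := by
    rcases Nat.eq_zero_or_pos k with h | h
    · rw [h, pow_zero] at hk
      have := (Nat.card_eq_one_iff_unique.mp hk).1
      exact absurd hZnt (not_nontrivial _)
    · exact h
  have hmul := Subgroup.card_eq_card_quotient_mul_card_subgroup (center X)
  rw [hcard, hk] at hmul
  have hkn : k ≤ n := by
    have : p ^ k ∣ p ^ n := ⟨_, by rw [hmul, mul_comm]⟩
    exact (Nat.pow_dvd_pow_iff_le_right hp.out.one_lt).mp this
  have hq : Nat.card (X ⧸ center X) = p ^ (n - k) := by
    have h1 : p ^ n = p ^ (n - k) * p ^ k := by rw [← pow_add]; congr 1; omega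
    rw [h1] at hmul
    exact (Nat.eq_of_mul_eq_mul_right (pow_pos hp.out.pos k) hmul).symm
  have hcq : Group.nilpotencyClass (X ⧸ center X) = n - 2 := by
    rw [Group.nilpotencyClass_quotient_center, hc]; omega
  have hb := nilpotencyClass_le_of_card_pow (p := p) (n - k) (X ⧸ center X) hq
  rw [hcq] at hb
  by_cases hnk : 2 ≤ n - k
  · have : max 1 (n - k - 1) = n - k - 1 := max_eq_right (by omega)
    rw [this] at hb
    have : k = 1 := by omega
    rw [hk, this, pow_one]
  · exfalso
    apply hab
    have hcyc : IsCyclic (X ⧸ center X) := isCyclic_of_card_pow_le_one (n - k) (by omega) hq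
    exact MonoidHom.isMulCommutative_of_isCyclic_of_ker_le_center (QuotientGroup.mk' (center X))
      (by rw [QuotientGroup.ker_mk'])

/-- a nonabelian group of order `8` has a cyclic subgroup of index `2` -/
theorem exists_cyclic_index_two_of_card_eight {X : Type*} [Group X] [Finite X]
    (hcard : Nat.card X = 8) (hab : ¬ IsMulCommutative X) :
    ∃ C : Subgroup X, IsCyclic C ∧ C.index = 2 := by
  have hex : ∃ x : X, ¬ orderOf x ∣ 2 := by
    by_contra h
    push Not at h
    exact hab ⟨⟨fun a b => Commute.of_orderOf_dvd_two h a b⟩⟩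
  obtain ⟨x, hx⟩ := hex
  have hdvd : orderOf x ∣ 8 := hcard ▸ orderOf_dvd_natCard x
  have hle : orderOf x ≤ 8 := Nat.le_of_dvd (by norm_num) hdvd
  have h8 : orderOf x ≠ 8 := by
    intro h
    have hcyc : IsCyclic X := isCyclic_of_orderOf_eq_card x (by rw [h, hcard])
    exact hab IsCyclic.isMulCommutative
  have h4 : orderOf x = 4 := by
    interval_cases h : orderOf x <;> simp_all
  refine ⟨zpowers x, inferInstance, ?_⟩
  have := (zpowers x).card_mul_index
  rw [Nat.card_zpowers, h4, hcard] at this
  omega

/-- a subgroup whose image in `X ⧸ center X` is cyclic is abelian -/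
theorem isMulCommutative_comap_of_isCyclic {X : Type*} [Group X]
    (D : Subgroup (X ⧸ center X)) [IsCyclic D] :
    IsMulCommutative (D.comap (QuotientGroup.mk' (center X))) := by
  apply MonoidHom.isMulCommutative_of_isCyclic_of_ker_le_center
    ((QuotientGroup.mk' (center X)).subgroupComap D)
  intro y hy
  rw [MonoidHom.mem_ker] at hy
  have h1 : (QuotientGroup.mk' (center X)) (y : X) = 1 := congrArg Subtype.val hy
  have h2 : (y : X) ∈ center X := by
    have : (y : X) ∈ (QuotientGroup.mk' (center X)).ker := h1
    rwa [QuotientGroup.ker_mk'] at this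
  rw [mem_center_iff]
  intro w
  apply Subtype.ext
  exact mem_center_iff.mp h2 w

/-- **Part C**: a `2`-group of maximal class (order `2 ^ n`, `n ≥ 3`) has a cyclic subgroup of
index `2`. -/
theorem exists_cyclic_index_two_of_maximal_class :
    ∀ n, 3 ≤ n → ∀ (X : Type u) [Group X] [Finite X], Nat.card X = 2 ^ n →
      Group.nilpotencyClass X = n - 1 → ∃ C : Subgroup X, IsCyclic C ∧ C.index = 2 := by
  intro n hn
  induction n, hn using Nat.le_induction with
  | base =>
    intro X _ _ hcard hc
    have hX : IsPGroup 2 X := IsPGroup.of_card hcard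
    have hnil : Group.IsNilpotent X := hX.isNilpotent
    apply exists_cyclic_index_two_of_card_eight (by rw [hcard]; norm_num)
    intro hab
    have := Group.IsNilpotent.nilpotencyClass_le_one_iff.mpr hab
    omega
  | succ n hn IH =>
    intro X _ _ hcard hc
    have hX : IsPGroup 2 X := IsPGroup.of_card hcard
    have hnil : Group.IsNilpotent X := hX.isNilpotent
    have : Fact (Nat.Prime 2) := ⟨Nat.prime_two⟩
    have hZ : Nat.card (center X) = 2 :=
      card_center_of_maximal_class (p := 2) (n + 1) (by omega) hcard hc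
    have hmul := Subgroup.card_eq_card_quotient_mul_card_subgroup (center X)
    rw [hcard, hZ, pow_succ] at hmul
    have hq : Nat.card (X ⧸ center X) = 2 ^ n := by omega
    have hcq : Group.nilpotencyClass (X ⧸ center X) = n - 1 := by
      rw [Group.nilpotencyClass_quotient_center, hc]; omega
    obtain ⟨D, hDc, hDi⟩ := IH (X ⧸ center X) hq hcq
    set C := D.comap (QuotientGroup.mk' (center X)) with hC
    have hCi : C.index = 2 := by
      rw [hC, Subgroup.index_comap_of_surjective D (QuotientGroup.mk'_surjective _), hDi]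
    have hCab : IsMulCommutative C := isMulCommutative_comap_of_isCyclic D
    have hCcard : Nat.card C = 2 ^ n := by
      have := C.card_mul_index
      rw [hCi, hcard, pow_succ] at this
      omega
    have hC8 : 8 ≤ Nat.card C := by
      rw [hCcard]
      calc 8 = 2 ^ 3 := by norm_num
        _ ≤ 2 ^ n := Nat.pow_le_pow_right (by norm_num) hn
    have hCne : C ≠ ⊤ := by
      intro h; rw [h, Subgroup.index_top] at hCi; omega
    obtain ⟨t, ht⟩ : ∃ t, t ∉ C := by
      by_contra h
      push Not at h
      exact hCne (eq_top_iff.mpr fun x _ => h x)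
    have hZC : center X ≤ C := by
      intro y hy
      rw [hC, Subgroup.mem_comap]
      have : (QuotientGroup.mk' (center X)) y = 1 := by
        rw [← MonoidHom.mem_ker, QuotientGroup.ker_mk']; exact hy
      rw [this]; exact D.one_mem
    have hinf : C ⊓ centralizer ({t} : Set X) = center X := by
      apply le_antisymm (inf_centralizer_le_center_of_index_two C hCab hCi t ht)
      refine le_inf hZC ?_
      exact Subgroup.center_le_centralizer _
    have hcz : Nat.card (C ⊓ centralizer ({t} : Set X) : Subgroup X) = 2 := by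
      rw [hinf]; exact hZ
    exact ⟨C, isCyclic_of_index_two_of_card_centralizer hX C hCab hCi hC8 t hcz, hCi⟩

end Cfsg.Agent.Lib.Helper1
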