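import Mathlib
import Cfsg.Agent.Lib.Helper1.MaxClassTwo

/-! Groups with an abelian subgroup of index two: `|X'| * |C ∩ C_X(t)| = |C|`. -/

namespace Cfsg.Agent.Lib.Helper1

open Subgroup
open scoped commutatorElement

/-- if `C` has index two and `t ∉ C`, every element outside `C` is `t * u` with `u ∈ C` -/
theorem exists_eq_mul_of_index_two {X : Type*} [Group X] (C : Subgroup X) (hCi : C.index = 2)
    (t : X) (ht : t ∉ C) (x : X) (hx : x ∉ C) : ∃ u ∈ C, x = t * u := by
  refine ⟨t⁻¹ * x, ?_, by group⟩
  rw [Subgroup.mul_mem_iff_of_index_two hCi]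
  constructor
  · intro h; exact absurd (by simpa using C.inv_mem h) ht
  · intro h; exact absurd h hx

/-- **Lemma Φ**: if `C` is an abelian subgroup of index two and `t ∉ C`, then
`|X'| * |C ∩ C_X(t)| = |C|`. -/
theorem card_commutator_mul_card_centralizer {X : Type*} [Group X] [Finite X]
    (C : Subgroup X) (hCab : IsMulCommutative C) (hCi : C.index = 2) (t : X) (ht : t ∉ C) :
    Nat.card (commutator X) * Nat.card (C ⊓ centralizer ({t} : Set X) : Subgroup X)
      = Nat.card C := by
  let _ : CommGroup C := { (inferInstance : Group C) with mul_comm := fun x y => mul_comm' x y }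
  have hCn : C.Normal := Subgroup.normal_of_index_eq_two hCi
  have ht2 : t * t ∈ C := Subgroup.mul_self_mem_of_index_two hCi t
  let s : C := ⟨t * t, ht2⟩
  let τ : C →* C :=
    { toFun := fun u => ⟨t * u * t⁻¹, hCn.conj_mem u u.2 t⟩
      map_one' := by apply Subtype.ext; simp
      map_mul' := by intro u w; apply Subtype.ext; simp }
  have hτval : ∀ u : C, ((τ u : C) : X) = t * u * t⁻¹ := fun u => rfl
  have hsval : (s : X) = t * t := rfl
  let φ : C →* C :=
    { toFun := fun u => u⁻¹ * τ u
      map_one' := by simp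
      map_mul' := by
        intro u w
        rw [map_mul, mul_inv]
        exact mul_mul_mul_comm _ _ _ _ }
  have hφ : ∀ u : C, φ u = u⁻¹ * τ u := fun u => rfl
  set R : Subgroup X := φ.range.map C.subtype with hR
  have hRmem : ∀ u : C, ((φ u : C) : X) ∈ R := fun u =>
    Subgroup.mem_map_of_mem C.subtype (MonoidHom.mem_range.mpr ⟨u, rfl⟩)
  -- commutators of the four kinds
  have h1 : ∀ u w : C, ⁅(u : X), (w : X)⁆ ∈ R := by
    intro u w
    have : ⁅(u : X), (w : X)⁆ = 1 := by
      rw [commutatorElement_eq_one_iff_commute]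
      exact congrArg Subtype.val (mul_comm u w)
    rw [this]; exact R.one_mem
  have h2 : ∀ u w : C, ⁅(u : X), t * (w : X)⁆ ∈ R := by
    intro u w
    have key : ⁅(u : X), t * (w : X)⁆ = ((u * τ (w * u⁻¹ * w⁻¹) : C) : X) := by
      rw [commutatorElement_def]
      simp only [Subgroup.coe_mul, Subgroup.coe_inv, hτval]
      group
    have e : u * τ (w * u⁻¹ * w⁻¹) = φ u⁻¹ := by
      rw [hφ, inv_inv, mul_inv_cancel_comm]
    rw [key, e]
    exact hRmem _
  have h3 : ∀ u w : C, ⁅t * (w : X), (u : X)⁆ ∈ R := by
    intro u w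
    rw [← commutatorElement_inv]
    exact R.inv_mem (h2 u w)
  have h4 : ∀ u w : C, ⁅t * (u : X), t * (w : X)⁆ ∈ R := by
    intro u w
    have key : ⁅t * (u : X), t * (w : X)⁆
        = ((τ u * (s * (w * u⁻¹) * s⁻¹) * (τ w)⁻¹ : C) : X) := by
      rw [commutatorElement_def]
      simp only [Subgroup.coe_mul, Subgroup.coe_inv, hτval, hsval]
      group
    have e : τ u * (s * (w * u⁻¹) * s⁻¹) * (τ w)⁻¹ = φ u * (φ w)⁻¹ := by
      rw [hφ, hφ, mul_inv_cancel_comm, mul_inv, inv_inv]
      simp only [mul_comm, mul_left_comm, mul_assoc]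
    rw [key, e]
    exact R.mul_mem (hRmem _) (R.inv_mem (hRmem _))
  have hle : commutator X ≤ R := by
    rw [_root_.commutator_def, Subgroup.commutator_le]
    intro x _ y _
    by_cases hx : x ∈ C
    · by_cases hy : y ∈ C
      · exact h1 ⟨x, hx⟩ ⟨y, hy⟩
      · obtain ⟨w, hw, rfl⟩ := exists_eq_mul_of_index_two C hCi t ht y hy
        exact h2 ⟨x, hx⟩ ⟨w, hw⟩
    · obtain ⟨u, hu, rfl⟩ := exists_eq_mul_of_index_two C hCi t ht x hx
      by_cases hy : y ∈ C
      · exact h3 ⟨y, hy⟩ ⟨u, hu⟩
      · obtain ⟨w, hw, rfl⟩ := exists_eq_mul_of_index_two C hCi t ht y hy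
        exact h4 ⟨u, hu⟩ ⟨w, hw⟩
  have hge : R ≤ commutator X := by
    rw [hR, Subgroup.map_le_iff_le_comap]
    rintro _ ⟨u, rfl⟩
    rw [Subgroup.mem_comap]
    have : (C.subtype (φ u) : X) = ⁅((u : C) : X)⁻¹, t⁆ := by
      rw [commutatorElement_def]
      simp only [Subgroup.coe_subtype, hφ, Subgroup.coe_mul, Subgroup.coe_inv, hτval]
      group
    rw [this, _root_.commutator_def]
    exact Subgroup.commutator_mem_commutator (Subgroup.mem_top _) (Subgroup.mem_top _)
  have hRc : commutator X = R := le_antisymm hle hge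
  have hker : φ.ker.map C.subtype = C ⊓ centralizer ({t} : Set X) := by
    ext x
    constructor
    · rintro ⟨u, hu, rfl⟩
      refine ⟨u.2, ?_⟩
      rw [SetLike.mem_coe, MonoidHom.mem_ker, hφ, inv_mul_eq_one] at hu
      have h : t * (u : X) * t⁻¹ = u := by rw [← hτval, ← hu]
      show (u : X) ∈ centralizer ({t} : Set X)
      rw [mem_centralizer_iff]
      intro r hr
      rw [Set.mem_singleton_iff] at hr
      subst hr
      calc r * (u : X) = (r * u * r⁻¹) * r := by group
        _ = u * r := by rw [h]
    · rintro ⟨hxC, hxt⟩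
      refine ⟨⟨x, hxC⟩, ?_, rfl⟩
      rw [SetLike.mem_coe, MonoidHom.mem_ker, hφ, inv_mul_eq_one]
      apply Subtype.ext
      rw [hτval]
      have := mem_centralizer_iff.mp hxt t (Set.mem_singleton t)
      show x = t * x * t⁻¹
      rw [this]; group
  rw [hRc, hR, Subgroup.card_subtype, ← hker, Subgroup.card_subtype,
    ← Nat.card_congr (QuotientGroup.quotientKerEquivRange φ).toEquiv]
  exact (Subgroup.card_eq_card_quotient_mul_card_subgroup φ.ker).symm

/-- an abelian subgroup of index two of a nonabelian group contains the centre -/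
theorem center_le_of_index_two {X : Type*} [Group X] (C : Subgroup X)
    (hCab : IsMulCommutative C) (hCi : C.index = 2) (hX : ¬ IsMulCommutative X) :
    center X ≤ C := by
  intro z hz
  by_contra hzC
  apply hX
  have h1 : C ⊓ centralizer ({z} : Set X) ≤ center X :=
    inf_centralizer_le_center_of_index_two C hCab hCi z hzC
  have h2 : C ≤ center X := fun u hu => h1 ⟨hu, by
    show u ∈ centralizer ({z} : Set X)
    rw [mem_centralizer_iff]
    intro r hr
    rw [Set.mem_singleton_iff] at hr
    subst hr
    exact (mem_center_iff.mp hz u).symm⟩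
  have hall : ∀ x, x ∈ center X := by
    intro x
    by_cases hx : x ∈ C
    · exact h2 hx
    · obtain ⟨u, hu, rfl⟩ := exists_eq_mul_of_index_two C hCi z hzC x hx
      exact (center X).mul_mem hz (h2 hu)
  exact ⟨⟨fun a b => mem_center_iff.mp (hall b) a⟩⟩

/-- a subgroup of the centre is normal -/
theorem normal_of_le_center_h1 {X : Type*} [Group X] (N : Subgroup X) (h : N ≤ center X) :
    N.Normal := by
  constructor
  intro n hn g
  have := mem_center_iff.mp (h hn) g
  have e : g * n * g⁻¹ = n := by rw [this]; group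
  rw [e]; exact hn

universe u

/-- a finite `p`-group whose commutator quotient is cyclic is cyclic -/
theorem isCyclic_of_isCyclic_commutator_quotient {p : ℕ} [hp : Fact p.Prime] :
    ∀ (m : ℕ) (X : Type u) [Group X] [Finite X], Nat.card X = p ^ m →
      IsCyclic (X ⧸ commutator X) → IsCyclic X := by
  intro m
  induction m using Nat.strong_induction_on with
  | _ m IH =>
  intro X _ _ hcard hcyc
  have hX : IsPGroup p X := IsPGroup.of_card hcard
  have key : IsMulCommutative X → IsCyclic X := by
    intro hab
    have hbot : commutator X = ⊥ := by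
      rw [commutator_eq_bot_iff_center_eq_top, eq_top_iff]
      intro x _
      rw [mem_center_iff]
      intro g
      exact hab.is_comm.comm g x
    have hinj : Function.Injective (QuotientGroup.mk' (commutator X)) := by
      rw [← MonoidHom.ker_eq_bot_iff, QuotientGroup.ker_mk', hbot]
    let e := MulEquiv.ofBijective (QuotientGroup.mk' (commutator X))
      ⟨hinj, QuotientGroup.mk'_surjective _⟩
    exact isCyclic_of_surjective e.symm e.symm.surjective
  apply key
  by_cases hnt : Nontrivial X
  · have hZnt : Nontrivial (center X) := hX.center_nontrivial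
    obtain ⟨k, hk⟩ := IsPGroup.iff_card.mp (hX.to_subgroup (center X))
    have hk1 : 1 ≤ k := by
      rcases Nat.eq_zero_or_pos k with h | h
      · rw [h, pow_zero] at hk
        have := (Nat.card_eq_one_iff_unique.mp hk).1
        exact absurd hZnt (not_nontrivial _)
      · exact h
    have hmul := Subgroup.card_eq_card_quotient_mul_card_subgroup (center X)
    rw [hcard, hk] at hmul
    have hkm : k ≤ m := by
      have : p ^ k ∣ p ^ m := ⟨_, by rw [hmul, mul_comm]⟩
      exact (Nat.pow_dvd_pow_iff_le_right hp.out.one_lt).mp this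
    have hq : Nat.card (X ⧸ center X) = p ^ (m - k) := by
      have h1 : p ^ m = p ^ (m - k) * p ^ k := by rw [← pow_add]; congr 1; omega
      rw [h1] at hmul
      exact (Nat.eq_of_mul_eq_mul_right (pow_pos hp.out.pos k) hmul).symm
    have hQcyc : IsCyclic ((X ⧸ center X) ⧸ commutator (X ⧸ center X)) := by
      let f : X →* (X ⧸ center X) ⧸ commutator (X ⧸ center X) :=
        (QuotientGroup.mk' _).comp (QuotientGroup.mk' (center X))
      have hf : Function.Surjective f :=
        (QuotientGroup.mk'_surjective _).comp (QuotientGroup.mk'_surjective _)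
      have hker : commutator X ≤ f.ker := by
        rw [_root_.commutator_def, Subgroup.commutator_le]
        intro x _ y _
        rw [MonoidHom.mem_ker, map_commutatorElement]
        show (QuotientGroup.mk' _) ⁅(QuotientGroup.mk' (center X)) x,
          (QuotientGroup.mk' (center X)) y⁆ = 1
        rw [← MonoidHom.mem_ker, QuotientGroup.ker_mk', _root_.commutator_def]
        exact Subgroup.commutator_mem_commutator (Subgroup.mem_top _) (Subgroup.mem_top _)
      exact isCyclic_of_surjective (QuotientGroup.lift (commutator X) f hker)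
        (QuotientGroup.lift_surjective_of_surjective (commutator X) f hf hker)
    have := IH (m - k) (by omega) (X ⧸ center X) hq hQcyc
    exact MonoidHom.isMulCommutative_of_isCyclic_of_ker_le_center (QuotientGroup.mk' (center X))
      (by rw [QuotientGroup.ker_mk'])
  · rw [not_nontrivial_iff_subsingleton] at hnt
    exact ⟨⟨fun a b => Subsingleton.elim _ _⟩⟩

/-- a noncyclic group of order four is a Klein four group -/
theorem isKleinFour_of_card_four_of_not_isCyclic {G : Type*} [Group G]
    (h4 : Nat.card G = 4) (hnc : ¬ IsCyclic G) : IsKleinFour G := by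
  have hfin : Finite G := Nat.finite_of_card_ne_zero (by rw [h4]; norm_num)
  refine ⟨h4, ?_⟩
  have hpow : ∀ g : G, g ^ 2 = 1 := by
    intro g
    have hdvd : orderOf g ∣ 4 := h4 ▸ orderOf_dvd_natCard g
    have hle : orderOf g ≤ 4 := Nat.le_of_dvd (by norm_num) hdvd
    have hne : orderOf g ≠ 4 := by
      intro h
      exact hnc (isCyclic_of_orderOf_eq_card g (by rw [h, h4]))
    have h2 : orderOf g ∣ 2 := by
      interval_cases h : orderOf g <;> simp_all
    exact orderOf_dvd_iff_pow_eq_one.mp h2
  have hd : Monoid.exponent G ∣ 2 := Monoid.exponent_dvd_of_forall_pow_eq_one hpow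
  have hne1 : Monoid.exponent G ≠ 1 := by
    intro h
    rw [Monoid.exp_eq_one_iff] at h
    have : Nat.card G = 1 := Nat.card_unique
    omega
  have hle : Monoid.exponent G ≤ 2 := Nat.le_of_dvd (by norm_num) hd
  have hpos : Monoid.exponent G ≠ 0 := by
    intro h; rw [h] at hd; omega
  omega

end Cfsg.Agent.Lib.Helper1
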