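import Mathlib
import Cfsg.Agent.Lib.Helper1.MaxClassComm
import Cfsg.Agent.Lib.Helper12.Basic

/-! `2`-groups of maximal class are exactly those with Klein four commutator quotient. -/

namespace Cfsg.Agent.Lib.Helper1

open Subgroup
open scoped commutatorElement

universe u

theorem exists_notMem_of_index_two {X : Type*} [Group X] (C : Subgroup X) (hCi : C.index = 2) :
    ∃ t, t ∉ C := by
  by_contra h
  push Not at h
  have : C = ⊤ := eq_top_iff.mpr fun x _ => h x
  rw [this, Subgroup.index_top] at hCi
  omega

theorem commutator_eq_bot_of_isMulCommutative {X : Type*} [Group X] (hab : IsMulCommutative X) :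
    commutator X = ⊥ := by
  rw [commutator_eq_bot_iff_center_eq_top, eq_top_iff]
  intro x _
  rw [mem_center_iff]
  intro g
  exact hab.is_comm.comm g x

/-- (⇒), index part -/
theorem index_commutator_of_maximal_class (n : ℕ) (hn : 3 ≤ n) (X : Type u) [Group X] [Finite X]
    (hcard : Nat.card X = 2 ^ n) (hc : Group.nilpotencyClass X = n - 1) :
    (commutator X).index = 4 := by
  have hX : IsPGroup 2 X := IsPGroup.of_card hcard
  have hnil : Group.IsNilpotent X := hX.isNilpotent
  have : Fact (Nat.Prime 2) := ⟨Nat.prime_two⟩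
  have hab : ¬ IsMulCommutative X := by
    intro hab
    have := Group.IsNilpotent.nilpotencyClass_le_one_iff.mpr hab
    omega
  obtain ⟨C, hCc, hCi⟩ := exists_cyclic_index_two_of_maximal_class n hn X hcard hc
  have hCab : IsMulCommutative C := IsCyclic.isMulCommutative
  have hZ : Nat.card (center X) = 2 := card_center_of_maximal_class (p := 2) n hn hcard hc
  obtain ⟨t, ht⟩ := exists_notMem_of_index_two C hCi
  have hinf : C ⊓ centralizer ({t} : Set X) = center X :=
    le_antisymm (inf_centralizer_le_center_of_index_two C hCab hCi t ht)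
      (le_inf (center_le_of_index_two C hCab hCi hab) (Subgroup.center_le_centralizer _))
  have hΦ := card_commutator_mul_card_centralizer C hCab hCi t ht
  rw [hinf, hZ] at hΦ
  have h1 := C.card_mul_index
  have h2 := (commutator X).card_mul_index
  rw [hCi, hcard] at h1
  rw [hcard] at h2
  have hpos : 0 < Nat.card (commutator X) := Nat.card_pos
  have : Nat.card (commutator X) * (commutator X).index = Nat.card (commutator X) * 4 := by
    rw [h2, ← h1, ← hΦ]; ring
  exact Nat.eq_of_mul_eq_mul_left hpos this

/-- (⇒) -/
theorem isKleinFour_of_maximal_class (n : ℕ) (hn : 3 ≤ n) (X : Type u) [Group X] [Finite X]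
    (hcard : Nat.card X = 2 ^ n) (hc : Group.nilpotencyClass X = n - 1) :
    IsKleinFour (X ⧸ commutator X) := by
  have hidx := index_commutator_of_maximal_class n hn X hcard hc
  have : Fact (Nat.Prime 2) := ⟨Nat.prime_two⟩
  apply isKleinFour_of_card_four_of_not_isCyclic
  · rw [← Subgroup.index_eq_card]; exact hidx
  · intro hcyc
    have hXc : IsCyclic X := isCyclic_of_isCyclic_commutator_quotient (p := 2) n X hcard hcyc
    have hX : IsPGroup 2 X := IsPGroup.of_card hcard
    have hnil : Group.IsNilpotent X := hX.isNilpotent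
    have := Group.IsNilpotent.nilpotencyClass_le_one_iff.mpr
      (IsCyclic.isMulCommutative : IsMulCommutative X)
    omega

/-- a subgroup whose image modulo a central subgroup `N` is cyclic is abelian -/
theorem isMulCommutative_comap_of_isCyclic' {X : Type*} [Group X] (N : Subgroup X) [N.Normal]
    (hN : N ≤ center X) (D : Subgroup (X ⧸ N)) [IsCyclic D] :
    IsMulCommutative (D.comap (QuotientGroup.mk' N)) := by
  apply MonoidHom.isMulCommutative_of_isCyclic_of_ker_le_center
    ((QuotientGroup.mk' N).subgroupComap D)
  intro y hy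
  rw [MonoidHom.mem_ker] at hy
  have h1 : (QuotientGroup.mk' N) (y : X) = 1 := congrArg Subtype.val hy
  have h2 : (y : X) ∈ center X := by
    have : (y : X) ∈ (QuotientGroup.mk' N).ker := h1
    rw [QuotientGroup.ker_mk'] at this
    exact hN this
  rw [mem_center_iff]
  intro w
  apply Subtype.ext
  exact mem_center_iff.mp h2 w

/-- the inductive step of (⇐) -/
theorem nilpotencyClass_step (n : ℕ) (hn : 3 ≤ n) (X : Type u) [Group X] [Finite X]
    (hcard : Nat.card X = 2 ^ (n + 1)) (hidx : (commutator X).index = 4)
    (N : Subgroup X) [hNn : N.Normal] (hN2 : Nat.card N = 2) (hNZ : N ≤ center X)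
    (hclass : Group.nilpotencyClass (X ⧸ N) = n - 1) : Group.nilpotencyClass X = n := by
  have hX : IsPGroup 2 X := IsPGroup.of_card hcard
  have hnil : Group.IsNilpotent X := hX.isNilpotent
  have h2 := (commutator X).card_mul_index
  rw [hidx, hcard] at h2
  have hpow : 2 ^ (n + 1) = 2 ^ (n - 1) * 4 := by
    rw [show n + 1 = (n - 1) + 2 by omega, pow_add]; norm_num
  have hX'card : Nat.card (commutator X) = 2 ^ (n - 1) := by omega
  have hab : ¬ IsMulCommutative X := by
    intro hab
    rw [commutator_eq_bot_of_isMulCommutative hab, Subgroup.card_bot] at hX'card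
    have : 2 ^ 1 ≤ 2 ^ (n - 1) := Nat.pow_le_pow_right (by norm_num) (by omega)
    omega
  have hmul := Subgroup.card_eq_card_quotient_mul_card_subgroup N
  rw [hcard, hN2, pow_succ] at hmul
  have hq : Nat.card (X ⧸ N) = 2 ^ n := by omega
  obtain ⟨D, hDc, hDi⟩ := exists_cyclic_index_two_of_maximal_class n hn (X ⧸ N) hq hclass
  set C := D.comap (QuotientGroup.mk' N) with hC
  have hCi : C.index = 2 := by
    rw [hC, Subgroup.index_comap_of_surjective D (QuotientGroup.mk'_surjective _), hDi]
  have hCab : IsMulCommutative C := isMulCommutative_comap_of_isCyclic' N hNZ D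
  have hCcard : Nat.card C = 2 ^ n := by
    have := C.card_mul_index
    rw [hCi, hcard, pow_succ] at this
    omega
  obtain ⟨t, ht⟩ := exists_notMem_of_index_two C hCi
  have hΦ := card_commutator_mul_card_centralizer C hCab hCi t ht
  rw [hX'card, hCcard] at hΦ
  have hcz : Nat.card (C ⊓ centralizer ({t} : Set X) : Subgroup X) = 2 := by
    have hpow2 : 2 ^ n = 2 ^ (n - 1) * 2 := by
      rw [← pow_succ]; congr 1; omega
    rw [hpow2] at hΦ
    exact Nat.eq_of_mul_eq_mul_left (pow_pos (by norm_num) _) hΦ
  have hZle : center X ≤ C ⊓ centralizer ({t} : Set X) :=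
    le_inf (center_le_of_index_two C hCab hCi hab) (Subgroup.center_le_centralizer _)
  have hNeq : N = center X := by
    apply Subgroup.eq_of_le_of_card_ge hNZ
    have : Nat.card (center X) ≤ Nat.card (C ⊓ centralizer ({t} : Set X) : Subgroup X) :=
      Subgroup.card_le_of_le hZle
    omega
  subst hNeq
  have hnt : Nontrivial X := by
    by_contra h
    rw [not_nontrivial_iff_subsingleton] at h
    exact hab ⟨⟨fun a b => Subsingleton.elim _ _⟩⟩
  rw [Group.nilpotencyClass_eq_quotient_center_plus_one, hclass]
  omega

/-- (⇐) -/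
theorem nilpotencyClass_of_index_commutator :
    ∀ n, 3 ≤ n → ∀ (X : Type u) [Group X] [Finite X], Nat.card X = 2 ^ n →
      (commutator X).index = 4 → Group.nilpotencyClass X = n - 1 := by
  intro n hn
  induction n, hn using Nat.le_induction with
  | base =>
    intro X _ _ hcard hidx
    have hX : IsPGroup 2 X := IsPGroup.of_card hcard
    have hnil : Group.IsNilpotent X := hX.isNilpotent
    have : Fact (Nat.Prime 2) := ⟨Nat.prime_two⟩
    have hle := nilpotencyClass_le_of_card_pow (p := 2) 3 X hcard
    have hab : ¬ IsMulCommutative X := by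
      intro hab
      rw [commutator_eq_bot_of_isMulCommutative hab, Subgroup.index_bot, hcard] at hidx
      norm_num at hidx
    have h1 : ¬ Group.nilpotencyClass X ≤ 1 := fun h =>
      hab (Group.IsNilpotent.nilpotencyClass_le_one_iff.mp h)
    norm_num at hle
    omega
  | succ n hn IH =>
    intro X _ _ hcard hidx
    have hX : IsPGroup 2 X := IsPGroup.of_card hcard
    have : Fact (Nat.Prime 2) := ⟨Nat.prime_two⟩
    have h2 := (commutator X).card_mul_index
    rw [hidx, hcard] at h2
    have hpow : 2 ^ (n + 1) = 2 ^ (n - 1) * 4 := by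
      rw [show n + 1 = (n - 1) + 2 by omega, pow_add]; norm_num
    have hX'card : Nat.card (commutator X) = 2 ^ (n - 1) := by omega
    have hne : commutator X ≠ ⊥ := by
      intro h
      rw [h, Subgroup.card_bot] at hX'card
      have : 2 ^ 1 ≤ 2 ^ (n - 1) := Nat.pow_le_pow_right (by norm_num) (by omega)
      omega
    obtain ⟨z₀, hz₀X', hz₀1, hz₀Z⟩ :=
      Cfsg.Agent.Lib.Helper12.exists_ne_one_mem_center_of_normal hX (commutator X) hne
    set W : Subgroup X := commutator X ⊓ center X with hW
    have hWp : IsPGroup 2 W := hX.to_subgroup W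
    have hWnt : Nontrivial W := by
      rw [Subgroup.nontrivial_iff_ne_bot]
      intro h
      have : z₀ ∈ W := ⟨hz₀X', hz₀Z⟩
      rw [h, Subgroup.mem_bot] at this
      exact hz₀1 this
    have hdvd : 2 ∣ Nat.card W := by
      obtain ⟨k, hk0, hk⟩ := hWp.nontrivial_iff_card.mp hWnt
      exact hk.symm ▸ dvd_pow_self _ (ne_of_gt hk0)
    obtain ⟨w, hw⟩ := exists_prime_orderOf_dvd_card' 2 hdvd
    have hzord : orderOf (w : X) = 2 := by rw [Subgroup.orderOf_coe, hw]
    set N : Subgroup X := zpowers (w : X) with hN
    have hN2 : Nat.card N = 2 := by rw [hN, Nat.card_zpowers, hzord]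
    have hNZ : N ≤ center X := by rw [hN, Subgroup.zpowers_le]; exact w.2.2
    have hNX' : N ≤ commutator X := by rw [hN, Subgroup.zpowers_le]; exact w.2.1
    have hNn : N.Normal := normal_of_le_center_h1 N hNZ
    have hmul := Subgroup.card_eq_card_quotient_mul_card_subgroup N
    rw [hcard, hN2, pow_succ] at hmul
    have hq : Nat.card (X ⧸ N) = 2 ^ n := by omega
    have hmap : (commutator X).map (QuotientGroup.mk' N) = commutator (X ⧸ N) := by
      rw [_root_.commutator_def, Subgroup.map_commutator,
        Subgroup.map_top_of_surjective _ (QuotientGroup.mk'_surjective N), ← _root_.commutator_def]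
    have hidx' : (commutator (X ⧸ N)).index = 4 := by
      rw [← hmap, Subgroup.index_map_eq (commutator X) (QuotientGroup.mk'_surjective N)
        (by rw [QuotientGroup.ker_mk']; exact hNX'), hidx]
    have hclass := IH (X ⧸ N) hq hidx'
    have := nilpotencyClass_step n hn X hcard hidx N hN2 hNZ hclass
    rw [this]; omega

end Cfsg.Agent.Lib.Helper1
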