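import Mathlib
import Cfsg.Agent.Lib.Helper1.Alperin
import Cfsg.Agent.Lib.Helper1.MaxNormalAbelian
import Cfsg.Agent.Lib.Helper1.MaxClassTwo
import Cfsg.Agent.Lib.Helper1.MaxClassKlein
import Cfsg.Agent.Lib.Helper1.ClassThreePow
import Cfsg.Agent.Lib.Helper1.PGroup
import Cfsg.Agent.Lib.Helper1.SZConj
import Cfsg.Agent.Lib.Helper4.Basic
import Cfsg.Agent.Lib.Helper20.NormalRankTwoB

/-! For `p > 3`, in a `p`-group of `p`-rank at most `2` the elements of order dividing `p`
generate a subgroup of exponent dividing `p`. -/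

set_option autoImplicit false
open scoped commutatorElement Pointwise

namespace Cfsg.Agent.Lib.Helper1

open Subgroup

universe u

/-- adjoining an element of order `p` outside a normal subgroup multiplies the order by `p` -/
theorem card_sup_zpowers_of_normal {G : Type*} [Group G] [Finite G] {p : ℕ} [hp : Fact p.Prime]
    (V : Subgroup G) [hVn : V.Normal] {x : G} (hxp : x ^ p = 1) (hxV : x ∉ V) :
    Nat.card (V ⊔ zpowers x : Subgroup G) = p * Nat.card V := by
  have hx1 : x ≠ 1 := fun h => hxV (h ▸ V.one_mem)
  have hord : orderOf x = p := orderOf_eq_prime hxp hx1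
  have hnorm : zpowers x ≤ normalizer (V : Set G) := by
    rw [Subgroup.normalizer_eq_top]; exact le_top
  have hinf : zpowers x ⊓ V = ⊥ := by
    have hcard : Nat.card (zpowers x) = p := by rw [Nat.card_zpowers, hord]
    have hdvd : Nat.card (zpowers x ⊓ V : Subgroup G) ∣ p := by
      rw [← hcard]; exact Subgroup.card_dvd_of_le inf_le_left
    rcases (Nat.dvd_prime hp.out).mp hdvd with h | h
    · exact Subgroup.card_eq_one.mp h
    · exfalso
      apply hxV
      have : zpowers x ⊓ V = zpowers x :=
        Subgroup.eq_of_le_of_card_ge inf_le_left (by rw [h, hcard])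
      have hle : zpowers x ≤ V := by rw [← this]; exact inf_le_right
      exact hle (mem_zpowers x)
  have h1 := Cfsg.Agent.Lib.Helper4.card_sup_mul_card_inf (zpowers x) V hnorm
  rw [hinf, Subgroup.card_bot, mul_one, Nat.card_zpowers, hord, sup_comm] at h1
  exact h1

/-- the rank condition passes to subgroups -/
theorem rank_le_of_subgroup {R : Type*} [Group R] {p : ℕ} (N : Subgroup R)
    (hrk : ∀ E : Subgroup R, IsMulCommutative E → (∀ e ∈ E, e ^ p = 1) → Nat.card E ≤ p ^ 2)
    (E : Subgroup N) (hE : IsMulCommutative E) (hEe : ∀ e ∈ E, e ^ p = 1) :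
    Nat.card E ≤ p ^ 2 := by
  have h1 := hrk (E.map N.subtype) inferInstance (by
    rintro _ ⟨e, he, rfl⟩
    have := hEe e he
    have h2 := congrArg Subtype.val this
    simpa using h2)
  rwa [Subgroup.card_map_of_injective N.subtype_injective] at h1

/-- class at most three from order at most `p ^ 4` -/
theorem class_three_of_card_le {R : Type u} [Group R] [Finite R] {p : ℕ} [hp : Fact p.Prime]
    (hR : IsPGroup p R) (hcard : Nat.card R ≤ p ^ 4) :
    ⁅⁅commutator R, (⊤ : Subgroup R)⁆, (⊤ : Subgroup R)⁆ = ⊥ := by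
  obtain ⟨m, hm⟩ := IsPGroup.iff_card.mp hR
  have hm4 : m ≤ 4 := by
    rw [hm] at hcard
    exact (Nat.pow_le_pow_iff_right hp.out.one_lt).mp hcard
  have : Group.IsNilpotent R := hR.isNilpotent
  have hcl := nilpotencyClass_le_of_card_pow m R hm
  have h : Group.nilpotencyClass R ≤ 3 := le_trans hcl (by omega)
  have h3 : (⊤ : Subgroup R).lowerCentralSeries 3 = ⊥ :=
    Subgroup.lowerCentralSeries_eq_bot_iff_nilpotencyClass_le.mpr h
  rw [Subgroup.lowerCentralSeries_succ, Subgroup.lowerCentralSeries_succ,
    Subgroup.lowerCentralSeries_succ, Subgroup.lowerCentralSeries_zero] at h3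
  rw [commutator_def]
  exact h3

/-- main induction for the exponent of `Ω₁` in `p`-groups of rank at most two, `p > 3` -/
theorem omega_exponent_of_rank_two_aux {p : ℕ} [hp : Fact p.Prime] (hp3 : 3 < p) :
    ∀ (n : ℕ) (R : Type u) [Group R] [Finite R], Nat.card R = n → IsPGroup p R →
      (∀ E : Subgroup R, IsMulCommutative E → (∀ e ∈ E, e ^ p = 1) → Nat.card E ≤ p ^ 2) →
      ∀ g ∈ closure {x : R | x ^ p = 1}, g ^ p = 1 := by
  intro n
  induction n using Nat.strong_induction_on with
  | _ n IH =>
  intro R _ _ hn hR hrk g hg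
  have hpp : p.Prime := hp.out
  have hp2 : p ≠ 2 := by omega
  -- the induction hypothesis for proper subgroups
  have IHsub : ∀ N : Subgroup R, N ≠ ⊤ → ∀ z : N, z ∈ closure {w : N | w ^ p = 1} →
      z ^ p = 1 := by
    intro N hN z hz
    exact IH (Nat.card N) (by rw [← hn]; exact card_lt_of_ne_top hN) N rfl (hR.to_subgroup N)
      (rank_le_of_subgroup N hrk) z hz
  obtain ⟨D, hD⟩ : ∃ D : Subgroup R, D = closure {x : R | x ^ p = 1} := ⟨_, rfl⟩
  rw [← hD] at hg
  by_cases hDtop : D = ⊤
  swap
  · have h2 : closure {w : D | w ^ p = 1} = ⊤ := by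
      have h3 : closure (Subtype.val ⁻¹' {x : R | x ^ p = 1} : Set D) = ⊤ := by
        subst hD
        exact Subgroup.closure_closure_coe_preimage
      rw [eq_top_iff, ← h3]
      apply Subgroup.closure_mono
      intro w hw
      exact Subtype.ext (by simpa using hw)
    have h1 := IHsub D hDtop ⟨g, hg⟩ (by rw [h2]; exact mem_top _)
    have := congrArg Subtype.val h1
    simpa using this
  · suffices hcl : ⁅⁅commutator R, (⊤ : Subgroup R)⁆, (⊤ : Subgroup R)⁆ = ⊥ from
      pow_eq_one_of_mem_closure_class_three hp3 hcl g (by rw [← hD]; exact hg)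
    by_cases hab : ∀ a b : R, a * b = b * a
    · have : IsMulCommutative R := ⟨⟨hab⟩⟩
      rw [commutator_eq_bot_of_isMulCommutative this, Subgroup.commutator_bot_left,
        Subgroup.commutator_bot_left]
    apply class_three_of_card_le hR
    have hnc : ¬ IsCyclic R := by
      intro hc
      apply hab
      have : IsMulCommutative R := IsCyclic.isMulCommutative
      exact fun a b => mul_comm' a b
    obtain ⟨V, hVn, hVc, hVe, hVcard⟩ :=
      Cfsg.Agent.Lib.Helper20.exists_normal_elemAb_of_not_isCyclic hp2 hR hnc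
    have halp : ∀ x ∈ centralizer (V : Set R), x ^ p = 1 → x ∈ V := by
      intro x hx hxp
      refine alperin_omega_centralizer hR 1 (by rw [pow_one]; exact hp2) V hVc
        (fun a ha => by rw [pow_one]; exact hVe a ha) ?_ x hx (by rw [pow_one]; exact hxp)
      intro B hBn hBc hBe hVB
      have hBcard : Nat.card B ≤ p ^ 2 := hrk B hBc (fun b hb => by simpa using hBe b hb)
      exact (Subgroup.eq_of_le_of_card_ge hVB (by rw [hVcard]; exact hBcard)).symm
    obtain ⟨C, hC⟩ : ∃ C : Subgroup R, C = centralizer (V : Set R) := ⟨_, rfl⟩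
    have hCn : C.Normal := by rw [hC]; infer_instance
    have hVC : V ≤ C := by
      intro v hv
      rw [hC, mem_centralizer_iff]
      intro w hw
      exact congrArg Subtype.val (mul_comm' (⟨w, hw⟩ : V) ⟨v, hv⟩)
    have halp' : ∀ x ∈ C, x ^ p = 1 → x ∈ V := fun x hx => halp x (by rw [← hC]; exact hx)
    have hidx : Nat.card R ≤ Nat.card C * p := by
      have := card_le_card_centralizer_mul hR V hVc 2 V hVn le_rfl hVcard
      rw [hC]
      simpa using this
    have hCtop : C ≠ ⊤ := by
      intro h
      apply hab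
      have hDV : D ≤ V := by
        rw [hD, closure_le]
        intro x hx
        exact halp' x (by rw [h]; exact mem_top x) hx
      intro a b
      have ha : a ∈ V := hDV (by rw [hDtop]; exact mem_top a)
      have hb : b ∈ V := hDV (by rw [hDtop]; exact mem_top b)
      exact congrArg Subtype.val (mul_comm' (⟨a, ha⟩ : V) ⟨b, hb⟩)
    have hCidx : C.index = p := by
      obtain ⟨k, hk⟩ := hR.index C
      have h1 : Nat.card C * C.index = Nat.card R := Subgroup.card_mul_index C
      have hCpos : 0 < Nat.card C := Nat.card_pos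
      have h2 : C.index ≤ p := by
        have : Nat.card C * C.index ≤ Nat.card C * p := by rw [h1]; exact hidx
        exact Nat.le_of_mul_le_mul_left this hCpos
      have h3 : C.index ≠ 1 := fun h => hCtop (Subgroup.index_eq_one.mp h)
      rcases k with _ | _ | k
      · exfalso; apply h3; rw [hk, pow_zero]
      · rw [hk, zero_add, pow_one]
      · exfalso
        rw [hk] at h2
        have h4 : p ^ 2 ≤ p ^ (k + 1 + 1) := Nat.pow_le_pow_right hpp.pos (by omega)
        have h5 : p < p ^ 2 := by nlinarith [hpp.two_le]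
        omega
    have hQcard : Nat.card (R ⧸ C) = p := by rw [← Subgroup.index_eq_card, hCidx]
    -- key step
    have hS : ∀ x y : R, x ^ p = 1 → y ^ p = 1 → x ∉ C → closure ({x, y} : Set R) ≠ ⊤ →
        y ∈ V ⊔ zpowers x := by
      intro x y hxp hyp hxC hN
      obtain ⟨N, hNdef⟩ : ∃ N : Subgroup R, N = closure ({x, y} : Set R) := ⟨_, rfl⟩
      rw [← hNdef] at hN
      have hxN : x ∈ N := by rw [hNdef]; exact subset_closure (by simp)
      have hyN : y ∈ N := by rw [hNdef]; exact subset_closure (by simp)
      have hx1 : (QuotientGroup.mk' C x) ≠ 1 := by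
        intro h
        apply hxC
        rwa [QuotientGroup.mk'_apply, QuotientGroup.eq_one_iff] at h
      have hmem := mem_zpowers_of_prime_card hQcard hx1 (g' := QuotientGroup.mk' C y)
      obtain ⟨k, hk⟩ := mem_zpowers_iff.mp hmem
      have hzC : (x ^ k)⁻¹ * y ∈ C := by
        rw [← map_zpow] at hk
        exact QuotientGroup.eq.mp hk
      have hz' : ((⟨x, hxN⟩ : N) ^ k)⁻¹ * ⟨y, hyN⟩ ∈ closure {w : N | w ^ p = 1} := by
        apply mul_mem
        · apply inv_mem
          apply zpow_mem
          apply Subgroup.subset_closure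
          exact Subtype.ext (by simpa using hxp)
        · apply Subgroup.subset_closure
          exact Subtype.ext (by simpa using hyp)
      have hzp := IHsub N hN _ hz'
      have hzp' : ((x ^ k)⁻¹ * y) ^ p = 1 := by
        have := congrArg Subtype.val hzp
        simpa using this
      have hzV := halp' _ hzC hzp'
      have hy : y = x ^ k * ((x ^ k)⁻¹ * y) := by group
      rw [hy]
      exact mul_mem (le_sup_right (a := V) (zpow_mem (mem_zpowers x) k))
        (le_sup_left (b := zpowers x) hzV)
    -- normality of `V ⟨x⟩`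
    have hHn : ∀ x : R, x ^ p = 1 → x ∉ C → (V ⊔ zpowers x).Normal := by
      intro x hxp hxC
      have hzx : zpowers x ≠ ⊤ := by
        intro h
        exact hnc (isCyclic_iff_exists_zpowers_eq_top.mpr ⟨x, h⟩)
      obtain ⟨M, hMco, hxM⟩ := (eq_top_or_exists_le_coatom (zpowers x)).resolve_left hzx
      have hMn : M.Normal := IsPGroup.coatom_normal hR M hMco
      have hconj : ∀ g : R, g * x * g⁻¹ ∈ V ⊔ zpowers x := by
        intro g
        apply hS x (g * x * g⁻¹) hxp (by rw [conj_pow, hxp]; group) hxC
        intro h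
        apply hMco.1
        rw [eq_top_iff, ← h, closure_le]
        intro w hw
        rcases hw with rfl | rfl
        · exact hxM (mem_zpowers _)
        · exact hMn.conj_mem _ (hxM (mem_zpowers _)) g
      constructor
      intro h hh g
      have hmap : (V ⊔ zpowers x).map (MulAut.conj g).toMonoidHom ≤ V ⊔ zpowers x := by
        rw [Subgroup.map_sup, MonoidHom.map_zpowers]
        apply sup_le
        · rintro _ ⟨v', hv', rfl⟩
          exact le_sup_left (b := zpowers x) (hVn.conj_mem v' hv' g)
        · rw [zpowers_le]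
          exact hconj g
      exact hmap ⟨h, hh, rfl⟩
    -- an element of order `p` outside `C`
    obtain ⟨x, hxp, hxC⟩ : ∃ x : R, x ^ p = 1 ∧ x ∉ C := by
      by_contra hcon
      apply hCtop
      rw [eq_top_iff, ← hDtop, hD, closure_le]
      intro x hx
      by_contra hxC
      exact hcon ⟨x, hx, hxC⟩
    have hxV : x ∉ V := fun h => hxC (hVC h)
    have hHx := card_sup_zpowers_of_normal V hxp hxV
    by_cases hall : ∀ y : R, y ^ p = 1 → y ∈ V ⊔ zpowers x
    · have htop : V ⊔ zpowers x = ⊤ := by
        rw [eq_top_iff, ← hDtop, hD, closure_le]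
        exact hall
      have h1 : Nat.card R = p * Nat.card V := by rw [← hHx, htop, Subgroup.card_top]
      rw [h1, hVcard]
      calc p * p ^ 2 = p ^ 3 := by ring
        _ ≤ p ^ 4 := Nat.pow_le_pow_right hpp.pos (by norm_num)
    · obtain ⟨y, hyp, hyH⟩ : ∃ y : R, y ^ p = 1 ∧ y ∉ V ⊔ zpowers x := by
        by_contra hcon
        apply hall
        intro y hy
        by_contra hyH
        exact hcon ⟨y, hy, hyH⟩
      have hyC : y ∉ C := fun h => hyH (le_sup_left (b := zpowers x) (halp' y h hyp))
      have hyV : y ∉ V := fun h => hyC (hVC h)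
      have hxy : closure ({x, y} : Set R) = ⊤ := by
        by_contra h
        exact hyH (hS x y hxp hyp hxC h)
      have hHy := card_sup_zpowers_of_normal V hyp hyV
      have hnx := hHn x hxp hxC
      have hny := hHn y hyp hyC
      have hsup : (V ⊔ zpowers x) ⊔ (V ⊔ zpowers y) = ⊤ := by
        rw [eq_top_iff, ← hxy, closure_le]
        intro w hw
        rcases hw with rfl | rfl
        · exact le_sup_left (a := V ⊔ zpowers w) (le_sup_right (a := V) (mem_zpowers _))
        · exact le_sup_right (b := V ⊔ zpowers w) (le_sup_right (a := V) (mem_zpowers _))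
      have hprod := Cfsg.Agent.Lib.Helper4.card_sup_mul_card_inf (V ⊔ zpowers x) (V ⊔ zpowers y)
        (by rw [Subgroup.normalizer_eq_top]; exact le_top)
      rw [hsup, Subgroup.card_top, hHx, hHy, hVcard] at hprod
      have hinf : p ^ 2 ≤ Nat.card ((V ⊔ zpowers x) ⊓ (V ⊔ zpowers y) : Subgroup R) := by
        rw [← hVcard]
        exact Subgroup.card_le_of_le (le_inf le_sup_left le_sup_left)
      have h1 : Nat.card R * p ^ 2 ≤ p ^ 4 * p ^ 2 := by
        calc Nat.card R * p ^ 2
            ≤ Nat.card R * Nat.card ((V ⊔ zpowers x) ⊓ (V ⊔ zpowers y) : Subgroup R) :=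
              Nat.mul_le_mul_left _ hinf
          _ = p * p ^ 2 * (p * p ^ 2) := hprod
          _ = p ^ 4 * p ^ 2 := by ring
      exact Nat.le_of_mul_le_mul_right h1 (pow_pos hpp.pos 2)

/-- For `p > 3`, in a `p`-group of `p`-rank at most `2` the elements of order dividing `p`
generate a subgroup of exponent dividing `p`. -/
theorem omega_exponent_of_rank_two {R : Type u} [Group R] [Finite R] {p : ℕ} [Fact p.Prime]
    (hp : 3 < p) (hR : IsPGroup p R)
    (hrk : ∀ E : Subgroup R, IsMulCommutative E → (∀ e ∈ E, e ^ p = 1) → Nat.card E ≤ p ^ 2)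
    (g : R) (hg : g ∈ closure {x : R | x ^ p = 1}) : g ^ p = 1 :=
  omega_exponent_of_rank_two_aux hp (Nat.card R) R rfl hR hrk g hg

end Cfsg.Agent.Lib.Helper1
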