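import Mathlib
import Cfsg.Agent.Lib.Helper1.Alperin
import Cfsg.Agent.Lib.Helper1.MaxNormalAbelian
import Cfsg.Agent.Lib.Helper1.ClassThreePow
import Cfsg.Agent.Lib.Helper1.NormalRankThree
import Cfsg.Agent.Lib.Helper1.OmegaRankTwo
import Cfsg.Agent.Lib.Helper20.NormalRankTwoB
import Cfsg.Agent.Lib.Helper12.Basic

/-! `p`-groups of rank at least `3` (`p` odd) with a maximal elementary abelian subgroup of order
`p ^ 2`: the structure of `Ω₁(Z₂(R))` (Bender–Glauberman, Lemma 5.2 type statement). -/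

set_option autoImplicit false
open scoped commutatorElement Pointwise

namespace Cfsg.Agent.Lib.Helper1

open Subgroup

/-- the subgroup generated by pairwise commuting elements of order dividing `p` is elementary
abelian -/
theorem elemAb_closure {G : Type*} [Group G] {p : ℕ} (S : Set G)
    (hcomm : ∀ a ∈ S, ∀ b ∈ S, a * b = b * a) (hexp : ∀ a ∈ S, a ^ p = 1) :
    (∀ a ∈ closure S, ∀ b ∈ closure S, a * b = b * a) ∧ ∀ a ∈ closure S, a ^ p = 1 := by
  have h1 : closure S ≤ centralizer S := by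
    rw [closure_le]
    intro a ha
    rw [SetLike.mem_coe, mem_centralizer_iff]
    intro b hb
    exact hcomm b hb a ha
  have h2 : closure S ≤ centralizer (closure S : Set G) := by
    rw [Subgroup.centralizer_closure]
    exact h1
  have hc : ∀ a ∈ closure S, ∀ b ∈ closure S, a * b = b * a := by
    intro a ha b hb
    exact (mem_centralizer_iff.mp (h2 hb) a ha)
  refine ⟨hc, ?_⟩
  intro a ha
  induction ha using Subgroup.closure_induction with
  | mem x hx => exact hexp x hx
  | one => exact one_pow p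
  | mul x y hx hy ihx ihy =>
    rw [(show Commute x y from hc x hx y hy).mul_pow, ihx, ihy, one_mul]
  | inv x hx ih => rw [inv_pow, ih, inv_one]

/-- an element of order dividing `p` centralizing a maximal elementary abelian subgroup lies in
it -/
theorem mem_of_centralizes_max_elemAb {G : Type*} [Group G] {p : ℕ} (E : Subgroup G)
    (hEc : ∀ a ∈ E, ∀ b ∈ E, a * b = b * a) (hEe : ∀ a ∈ E, a ^ p = 1)
    (hEmax : ∀ B : Subgroup G, (∀ a ∈ B, ∀ b ∈ B, a * b = b * a) → (∀ a ∈ B, a ^ p = 1) →
      E ≤ B → B = E)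
    (x : G) (hx : x ∈ centralizer (E : Set G)) (hxp : x ^ p = 1) : x ∈ E := by
  obtain ⟨hc, he⟩ := elemAb_closure (p := p) ((E : Set G) ∪ {x}) (by
    rintro a (ha | ha) b (hb | hb)
    · exact hEc a ha b hb
    · rw [Set.mem_singleton_iff] at hb; subst hb
      exact (mem_centralizer_iff.mp hx a ha)
    · rw [Set.mem_singleton_iff] at ha; subst ha
      exact (mem_centralizer_iff.mp hx b hb).symm
    · rw [Set.mem_singleton_iff] at ha hb; subst ha; subst hb; rfl) (by
    rintro a (ha | ha)
    · exact hEe a ha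
    · rw [Set.mem_singleton_iff] at ha; subst ha; exact hxp)
  have hle : E ≤ closure ((E : Set G) ∪ {x}) := fun a ha => subset_closure (Or.inl ha)
  have := hEmax _ hc he hle
  rw [← this]
  exact subset_closure (Or.inr rfl)

/-- if `⁅a, b⁆` is central then `⁅a ^ k, b⁆ = ⁅a, b⁆ ^ k` -/
theorem commutatorElement_pow_left_of_central {G : Type*} [Group G] (a b : G)
    (hc : ∀ g : G, Commute ⁅a, b⁆ g) (k : ℕ) : ⁅a ^ k, b⁆ = ⁅a, b⁆ ^ k := by
  induction k with
  | zero => simp
  | succ k ih =>
    have h1 : ⁅a ^ (k + 1), b⁆ = a ^ k * ⁅a, b⁆ * (a ^ k)⁻¹ * ⁅a ^ k, b⁆ := by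
      simp only [commutatorElement_def, pow_succ]; group
    have h2 : a ^ k * ⁅a, b⁆ * (a ^ k)⁻¹ = ⁅a, b⁆ := by
      rw [← (hc (a ^ k)).eq]; group
    rw [h1, h2, ih, pow_succ']

/-- if `⁅a, c⁆` is central then `⁅a, b * c⁆ = ⁅a, b⁆ * ⁅a, c⁆` -/
theorem commutatorElement_mul_right_of_central {G : Type*} [Group G] (a b c : G)
    (hc : ∀ g : G, Commute ⁅a, c⁆ g) : ⁅a, b * c⁆ = ⁅a, b⁆ * ⁅a, c⁆ := by
  have h1 : ⁅a, b * c⁆ = ⁅a, b⁆ * (b * ⁅a, c⁆ * b⁻¹) := by
    simp only [commutatorElement_def]; group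
  have h2 : b * ⁅a, c⁆ * b⁻¹ = ⁅a, c⁆ := by
    rw [← (hc b).eq]; group
  rw [h1, h2]

/-- if `⁅b, c⁆` is central then `⁅a * b, c⁆ = ⁅a, c⁆ * ⁅b, c⁆` -/
theorem commutatorElement_mul_left_of_central {G : Type*} [Group G] (a b c : G)
    (hc : ∀ g : G, Commute ⁅b, c⁆ g) : ⁅a * b, c⁆ = ⁅a, c⁆ * ⁅b, c⁆ := by
  have h1 : ⁅a * b, c⁆ = (a * ⁅b, c⁆ * a⁻¹) * ⁅a, c⁆ := by
    simp only [commutatorElement_def]; group
  have h2 : a * ⁅b, c⁆ * a⁻¹ = ⁅b, c⁆ := by
    rw [← (hc a).eq]; group
  rw [h1, h2, (hc ⁅a, c⁆).eq]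

/-- elements of `Ω₁(Z(R))` -/
theorem mem_omega_center {R : Type*} [Group R] {p : ℕ} (z : R)
    (hz : z ∈ closure {x : R | x ∈ center R ∧ x ^ p = 1}) : z ∈ center R ∧ z ^ p = 1 := by
  induction hz using closure_induction with
  | mem x hx => exact hx
  | one => exact ⟨one_mem _, one_pow p⟩
  | mul x y _ _ ihx ihy =>
    exact ⟨mul_mem ihx.1 ihy.1, by
      rw [(show Commute x y from (mem_center_iff.mp ihy.1 x)).mul_pow, ihx.2, ihy.2, one_mul]⟩
  | inv x _ ih => exact ⟨inv_mem ih.1, by rw [inv_pow, ih.2, inv_one]⟩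

/-- commutators of elements of order `p` of the second centre lie in `Ω₁(Z(R))` -/
theorem commutator_mem_omega_center {R : Type*} [Group R] {p : ℕ} (w g : R)
    (hw : w ∈ Subgroup.upperCentralSeries R 2) (hwp : w ^ p = 1) :
    ⁅w, g⁆ ∈ closure {x : R | x ∈ center R ∧ x ^ p = 1} := by
  have h1 : ⁅w, g⁆ ∈ center R := by
    have := (Subgroup.mem_upperCentralSeries_succ_iff (n := 1)).mp hw g
    rwa [Subgroup.upperCentralSeries_one] at this
  apply Subgroup.subset_closure
  refine ⟨h1, ?_⟩
  have hc : ∀ x : R, Commute ⁅w, g⁆ x := fun x => (mem_center_iff.mp h1 x).symm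
  rw [← commutatorElement_pow_left_of_central w g hc p, hwp]
  simp

/-- elements of `Ω₁(Z₂(R))`, `p` odd -/
theorem mem_omega_z2 {R : Type*} [Group R] {p : ℕ} [hp : Fact p.Prime] (hp2 : p ≠ 2) (w : R)
    (hw : w ∈ closure {x : R | x ∈ Subgroup.upperCentralSeries R 2 ∧ x ^ p = 1}) :
    w ∈ Subgroup.upperCentralSeries R 2 ∧ w ^ p = 1 := by
  induction hw using closure_induction with
  | mem x hx => exact hx
  | one => exact ⟨one_mem _, one_pow p⟩
  | mul x y _ _ ihx ihy =>
    refine ⟨mul_mem ihx.1 ihy.1, ?_⟩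
    have hc := commutator_mem_omega_center y x ihy.1 ihy.2
    have hZe : ∀ a ∈ closure {x : R | x ∈ center R ∧ x ^ p = 1}, a ^ p ^ 1 = 1 := by
      intro a ha; rw [pow_one]; exact (mem_omega_center a ha).2
    have hcent : ∀ u : R, u ∈ centralizer ((closure {x : R | x ∈ center R ∧ x ^ p = 1} :
        Subgroup R) : Set R) := by
      intro u
      rw [mem_centralizer_iff]
      intro a ha
      exact (mem_center_iff.mp (mem_omega_center a ha).1 u).symm
    have := (alperin_pow_aux hp.out (by rw [pow_one]; exact hp2) le_rfl _ hZe (hcent x) (hcent y)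
      hc (by rw [ihx.2]; exact one_mem _)).1
    rw [pow_one, ihx.2, ihy.2, one_mul] at this
    exact this
  | inv x _ ih => exact ⟨inv_mem ih.1, by rw [inv_pow, ih.2, inv_one]⟩

/-- a normal subgroup of order `p ^ 2` of a `p`-group lies in the second centre -/
theorem le_upperCentralSeries_two_of_card_sq {R : Type*} [Group R] [Finite R] {p : ℕ}
    [hp : Fact p.Prime] (hR : IsPGroup p R) (V : Subgroup R) [hVn : V.Normal]
    (hVe : ∀ v ∈ V, v ^ p = 1) (hVcard : Nat.card V = p ^ 2) :
    V ≤ Subgroup.upperCentralSeries R 2 := by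
  have hpp := hp.out
  have hcZ2 : center R ≤ Subgroup.upperCentralSeries R 2 := by
    rw [← Subgroup.upperCentralSeries_one]
    exact Subgroup.upperCentralSeries_mono R (by norm_num)
  by_cases hVZ : V ≤ V ⊓ center R
  · exact le_trans (le_trans hVZ inf_le_right) hcZ2
  · have hV1n : (V ⊓ center R).Normal := inferInstance
    obtain ⟨t, htV, htV1, htc⟩ := exists_central_mod_of_lt hR (V ⊓ center R) V hVZ
    have htp : t ^ p = 1 := hVe t htV
    have hcard := card_sup_zpowers_of_normal (V ⊓ center R) htp htV1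
    have hne : V ⊓ center R ≠ ⊥ := by
      intro h
      have hVnt : V ≠ ⊥ := by
        rw [← Subgroup.one_lt_card_iff_ne_bot, hVcard]
        exact Nat.one_lt_pow (by norm_num) hpp.one_lt
      obtain ⟨z, hzV, hz1, hzc⟩ :=
        Cfsg.Agent.Lib.Helper12.exists_ne_one_mem_center_of_normal hR V hVnt
      apply hz1
      have : z ∈ V ⊓ center R := ⟨hzV, hzc⟩
      rwa [h, mem_bot] at this
    have hV1card : p ≤ Nat.card (V ⊓ center R : Subgroup R) := by
      obtain ⟨k, hk⟩ := IsPGroup.iff_card.mp (hR.to_subgroup (V ⊓ center R))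
      rcases k with _ | k
      · exfalso
        rw [pow_zero] at hk
        exact hne (Subgroup.card_eq_one.mp hk)
      · rw [hk]
        calc p = p ^ 1 := (pow_one p).symm
          _ ≤ p ^ (k + 1) := Nat.pow_le_pow_right hpp.pos (by omega)
    have hsup : (V ⊓ center R) ⊔ zpowers t = V := by
      apply Subgroup.eq_of_le_of_card_ge
      · exact sup_le inf_le_left (by rw [zpowers_le]; exact htV)
      · rw [hcard, hVcard]
        calc p ^ 2 = p * p := by ring
          _ ≤ p * Nat.card (V ⊓ center R : Subgroup R) := Nat.mul_le_mul_left _ hV1card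
    rw [← hsup]
    apply sup_le (le_trans inf_le_right hcZ2)
    rw [zpowers_le, Subgroup.mem_upperCentralSeries_succ_iff (n := 1)]
    intro y
    rw [Subgroup.upperCentralSeries_one]
    have h1 : ⁅t, y⁆ = (⁅y, t⁆)⁻¹ := by simp only [commutatorElement_def]; group
    rw [h1]
    exact inv_mem (htc y).2

/-- Structure of `Ω₁(Z₂(R))` for a `p`-group `R` of rank at least `3`, `p` odd, having a maximal
elementary abelian subgroup `E` of order `p ^ 2`. -/
theorem omega_z2_structure {R : Type*} [Group R] [Finite R] {p : ℕ} [hp : Fact p.Prime]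
    (hp2 : p ≠ 2) (hR : IsPGroup p R)
    (E₀ : Subgroup R) (hE₀c : IsMulCommutative E₀) (hE₀e : ∀ a ∈ E₀, a ^ p = 1)
    (hE₀card : p ^ 2 < Nat.card E₀)
    (E : Subgroup R) (hEc : ∀ a ∈ E, ∀ b ∈ E, a * b = b * a) (hEe : ∀ a ∈ E, a ^ p = 1)
    (hE2 : Nat.card E = p ^ 2)
    (hEmax : ∀ B : Subgroup R, (∀ a ∈ B, ∀ b ∈ B, a * b = b * a) → (∀ a ∈ B, a ^ p = 1) →
      E ≤ B → B = E)
    (W Z : Subgroup R)
    (hW : W = closure {x : R | x ∈ Subgroup.upperCentralSeries R 2 ∧ x ^ p = 1})
    (hZ : Z = closure {x : R | x ∈ center R ∧ x ^ p = 1}) :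
    ¬ E ≤ centralizer (W : Set R) ∧ Nat.card Z = p ∧
      ((∀ a ∈ W, ∀ b ∈ W, a * b = b * a) ∧ (∀ a ∈ W, a ^ p = 1)) ∧ Nat.card W = p ^ 2 ∧
      (centralizer (W : Set R)).index = p := by
  classical
  have hpp := hp.out
  have hM : ∀ x ∈ centralizer (E : Set R), x ^ p = 1 → x ∈ E :=
    mem_of_centralizes_max_elemAb E hEc hEe hEmax
  have hZmem : ∀ z ∈ Z, z ∈ center R ∧ z ^ p = 1 := fun z hz => mem_omega_center z (hZ ▸ hz)
  have hZcomm : ∀ z ∈ Z, ∀ g : R, Commute z g := fun z hz g =>
    (mem_center_iff.mp (hZmem z hz).1 g).symm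
  have hWmem : ∀ w ∈ W, w ∈ Subgroup.upperCentralSeries R 2 ∧ w ^ p = 1 :=
    fun w hw => mem_omega_z2 hp2 w (hW ▸ hw)
  have hWZ : ∀ w ∈ W, ∀ g : R, ⁅w, g⁆ ∈ Z := fun w hw g => by
    rw [hZ]; exact commutator_mem_omega_center w g (hWmem w hw).1 (hWmem w hw).2
  have hZE : Z ≤ E := by
    intro z hz
    apply hM z _ (hZmem z hz).2
    rw [mem_centralizer_iff]
    intro h _
    exact (mem_center_iff.mp (hZmem z hz).1 h)
  -- `R` is not cyclic
  have hnc : ¬ IsCyclic R := by
    intro hc
    have hEcyc : IsCyclic E₀ := inferInstance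
    have h1 : Monoid.exponent E₀ ∣ p := Monoid.exponent_dvd_of_forall_pow_eq_one
      (fun e => Subtype.ext (by simpa using hE₀e e e.2))
    rw [IsCyclic.exponent_eq_card] at h1
    have h2 := Nat.le_of_dvd hpp.pos h1
    have h3 : p ≤ p ^ 2 := by nlinarith [hpp.two_le]
    omega
  -- `Z` is nontrivial
  have hEnt : E ≠ ⊥ := by
    rw [← Subgroup.one_lt_card_iff_ne_bot, hE2]
    exact Nat.one_lt_pow (by norm_num) hpp.one_lt
  have hRnt : Nontrivial R := by
    obtain ⟨e, he1⟩ := (Subgroup.ne_bot_iff_exists_ne_one).mp hEnt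
    exact ⟨⟨(e : R), 1, fun h => he1 (Subtype.ext h)⟩⟩
  have hZne : Z ≠ ⊥ := by
    have hcn := hR.center_nontrivial
    have hdvd : p ∣ Nat.card (center R) := by
      obtain ⟨k, hk⟩ := IsPGroup.iff_card.mp (hR.to_subgroup (center R))
      rcases k with _ | k
      · exfalso
        rw [pow_zero] at hk
        have := (Subgroup.card_eq_one.mp hk)
        exact (Subgroup.nontrivial_iff_ne_bot _).mp hcn this
      · rw [hk, pow_succ]; exact dvd_mul_left p _
    obtain ⟨z, hz⟩ := exists_prime_orderOf_dvd_card' p hdvd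
    intro h
    have hzZ : (z : R) ∈ Z := by
      rw [hZ]
      apply Subgroup.subset_closure
      refine ⟨z.2, ?_⟩
      rw [← Subgroup.coe_pow, ← hz, pow_orderOf_eq_one]; rfl
    rw [h, mem_bot] at hzZ
    have : z = 1 := Subtype.ext hzZ
    rw [this, orderOf_one] at hz
    exact hpp.one_lt.ne hz
  -- a normal elementary abelian subgroup of order `p ^ 2`
  obtain ⟨V, hVn, hVc, hVe, hVcard⟩ :=
    Cfsg.Agent.Lib.Helper20.exists_normal_elemAb_of_not_isCyclic hp2 hR hnc
  have hVcomm : ∀ a ∈ V, ∀ b ∈ V, a * b = b * a := fun a ha b hb =>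
    congrArg Subtype.val (mul_comm' (⟨a, ha⟩ : V) ⟨b, hb⟩)
  have hVW : V ≤ W := by
    intro v hv
    rw [hW]
    exact Subgroup.subset_closure
      ⟨le_upperCentralSeries_two_of_card_sq hR V hVe hVcard hv, hVe v hv⟩
  -- `E` is not normal-and-equal to `V`
  have hEV : E ≠ V := by
    intro h
    subst h
    have := card_le_sq_of_max_normal_elemAb hp2 hR E hVc hEe hE2
      (fun B hBn hBc hBe hEB => hEmax B (fun a ha b hb =>
        congrArg Subtype.val (mul_comm' (⟨a, ha⟩ : B) ⟨b, hb⟩)) hBe hEB) E₀ hE₀c hE₀e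
    omega
  -- (1)
  have h1 : ¬ E ≤ centralizer (W : Set R) := by
    intro hET
    have hWE : W ≤ E := by
      intro w hw
      apply hM w _ (hWmem w hw).2
      rw [mem_centralizer_iff]
      intro e he
      exact (mem_centralizer_iff.mp (hET he) w hw).symm
    apply hEV
    exact (Subgroup.eq_of_le_of_card_ge (le_trans hVW hWE) (by rw [hVcard, hE2])).symm
  -- (2)
  have hZcard : Nat.card Z = p := by
    have hZne' : Z ≠ E := by
      intro h
      have hE₀E : E₀ ≤ E := by
        intro x hx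
        apply hM x _ (hE₀e x hx)
        rw [mem_centralizer_iff]
        intro e he
        exact (hZcomm e (h ▸ he) x).eq
      have := Subgroup.card_le_of_le hE₀E
      omega
    obtain ⟨k, hk⟩ := IsPGroup.iff_card.mp (hR.to_subgroup Z)
    have hle : Nat.card Z ≤ p ^ 2 := by rw [← hE2]; exact Subgroup.card_le_of_le hZE
    have hk2 : k ≤ 2 := by
      rw [hk] at hle
      exact (Nat.pow_le_pow_iff_right hpp.one_lt).mp hle
    rcases k with _ | _ | k
    · exfalso
      rw [pow_zero] at hk
      exact hZne (Subgroup.card_eq_one.mp hk)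
    · rw [hk, zero_add, pow_one]
    · exfalso
      have hk' : k = 0 := by omega
      subst hk'
      exact hZne' (Subgroup.eq_of_le_of_card_ge hZE (by rw [hk, hE2]))
  have hZV : Z ≤ V := by
    -- `V ⊓ center R` is a nontrivial elementary abelian central subgroup
    have hVnt : V ≠ ⊥ := by
      rw [← Subgroup.one_lt_card_iff_ne_bot, hVcard]
      exact Nat.one_lt_pow (by norm_num) hpp.one_lt
    obtain ⟨z, hzV, hz1, hzc⟩ :=
      Cfsg.Agent.Lib.Helper12.exists_ne_one_mem_center_of_normal hR V hVnt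
    have hzZ : z ∈ Z := by
      rw [hZ]; exact Subgroup.subset_closure ⟨hzc, hVe z hzV⟩
    have hzp : zpowers z = Z := by
      apply Subgroup.eq_of_le_of_card_ge (by rw [zpowers_le]; exact hzZ)
      rw [hZcard, Nat.card_zpowers, orderOf_eq_prime (hVe z hzV) hz1]
    rw [← hzp, zpowers_le]
    exact hzV
  have hZn : Z.Normal := by
    constructor
    intro z hz g
    have h5 : g * z * g⁻¹ = z := by
      rw [← (hZcomm z hz g).eq]; group
    rw [h5]; exact hz
  -- elements of `E` outside `Z` detect the centralizer of `E`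
  have hC : ∀ e' ∈ E, e' ∉ Z → ∀ x : R, Commute e' x → x ∈ centralizer (E : Set R) := by
    intro e' he' he'Z x hx
    have hsup : Z ⊔ zpowers e' = E := by
      apply Subgroup.eq_of_le_of_card_ge (sup_le hZE (by rw [zpowers_le]; exact he'))
      rw [card_sup_zpowers_of_normal Z (hEe e' he') he'Z, hZcard, hE2]
      exact le_of_eq (by ring)
    have hle : E ≤ centralizer ({x} : Set R) := by
      rw [← hsup]
      apply sup_le
      · intro z hz
        rw [mem_centralizer_singleton_iff]
        exact (hZcomm z hz x).eq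
      · rw [zpowers_le, mem_centralizer_singleton_iff]
        exact hx.eq
    rw [mem_centralizer_iff]
    intro a ha
    exact mem_centralizer_singleton_iff.mp (hle ha)
  have hWcard : Nat.card W ≤ p ^ 2 := by
    by_contra hcon
    rw [not_le] at hcon
    obtain ⟨e, heE, heZ⟩ := SetLike.exists_of_lt (lt_of_le_of_ne hZE (by
      intro h
      have := congrArg (fun H : Subgroup R => Nat.card H) h
      simp only [hZcard, hE2] at this
      have h5 : p < p ^ 2 := by nlinarith [hpp.two_le]
      omega))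
    -- the homomorphism `w ↦ ⁅w, e⁆`
    let φ : W →* Z :=
      { toFun := fun w => ⟨⁅(w : R), e⁆, hWZ w w.2 e⟩
        map_one' := by
          apply Subtype.ext
          simp
        map_mul' := fun a b => by
          apply Subtype.ext
          simp only [Subgroup.coe_mul]
          exact commutatorElement_mul_left_of_central (a : R) (b : R) e
            (fun g => hZcomm _ (hWZ b b.2 e) g) }
    have hker : ∀ w : W, w ∈ φ.ker → (w : R) ∈ E := by
      intro w hw
      have h2 : ⁅(w : R), e⁆ = 1 := congrArg Subtype.val (MonoidHom.mem_ker.mp hw)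
      have h3 : Commute e (w : R) := by
        have := commutatorElement_eq_one_iff_commute.mp h2
        exact this.symm
      exact hM _ (hC e heE heZ _ h3) (hWmem w w.2).2
    have hcardW : Nat.card W = Nat.card φ.ker * Nat.card φ.range := by
      rw [← Subgroup.index_ker, Subgroup.card_mul_index]
    have hrange : Nat.card φ.range ≤ p := by
      rw [← hZcard]; exact Subgroup.card_le_card_group _
    have hkermap : (φ.ker.map W.subtype) ≤ E := by
      rintro _ ⟨w, hw, rfl⟩
      exact hker w hw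
    have hkercard : Nat.card (φ.ker.map W.subtype) = Nat.card φ.ker :=
      Subgroup.card_map_of_injective W.subtype_injective
    obtain ⟨k, hk⟩ := IsPGroup.iff_card.mp (hR.to_subgroup W)
    have hk3 : 3 ≤ k := by
      by_contra hlt
      rw [not_le] at hlt
      have : p ^ k ≤ p ^ 2 := Nat.pow_le_pow_right hpp.pos (by omega)
      omega
    have hW3 : p ^ 3 ≤ Nat.card W := by rw [hk]; exact Nat.pow_le_pow_right hpp.pos hk3
    have hker2 : p ^ 2 ≤ Nat.card φ.ker := by
      have h4 : p ^ 2 * p ≤ Nat.card φ.ker * p := by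
        calc p ^ 2 * p = p ^ 3 := by ring
          _ ≤ Nat.card W := hW3
          _ = Nat.card φ.ker * Nat.card φ.range := hcardW
          _ ≤ Nat.card φ.ker * p := Nat.mul_le_mul_left _ hrange
      exact Nat.le_of_mul_le_mul_right h4 hpp.pos
    have hkerE : φ.ker.map W.subtype = E :=
      Subgroup.eq_of_le_of_card_ge hkermap (by rw [hkercard, hE2]; exact hker2)
    have hEW : E ≤ W := by
      rw [← hkerE]; exact Subgroup.map_subtype_le _
    have heW : e ∈ W := hEW heE
    -- an element of order `p` in `C(V)` outside `V`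
    obtain ⟨B, hBn, hBc, hBe, hVB, hBV⟩ : ∃ B : Subgroup R, B.Normal ∧ IsMulCommutative B ∧
        (∀ b ∈ B, b ^ p = 1) ∧ V ≤ B ∧ B ≠ V := by
      by_contra hcon2
      have := card_le_sq_of_max_normal_elemAb hp2 hR V hVc hVe hVcard
        (fun B hBn hBc hBe hVB => by
          by_contra h
          exact hcon2 ⟨B, hBn, hBc, hBe, hVB, h⟩) E₀ hE₀c hE₀e
      omega
    obtain ⟨x, hxB, hxV⟩ := SetLike.exists_of_lt (lt_of_le_of_ne hVB hBV.symm)
    have hxp : x ^ p = 1 := hBe x hxB
    have hxVcomm : ∀ v ∈ V, Commute x v := fun v hv =>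
      congrArg Subtype.val (mul_comm' (⟨x, hxB⟩ : B) ⟨v, hVB hv⟩)
    -- `e` does not centralize `V`
    obtain ⟨v₀, hv₀V, hv₀⟩ : ∃ v₀ ∈ V, ⁅e, v₀⁆ ≠ 1 := by
      by_contra hcon2
      apply hEV
      symm
      apply Subgroup.eq_of_le_of_card_ge _ (by rw [hVcard, hE2])
      intro v hv
      apply hM v _ (hVe v hv)
      apply hC e heE heZ
      apply commutatorElement_eq_one_iff_commute.mp
      by_contra h
      exact hcon2 ⟨v, hv, h⟩
    have hz₀Z : ⁅e, v₀⁆ ∈ Z := hWZ e heW v₀
    have hz₀gen : zpowers ⁅e, v₀⁆ = Z := by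
      apply Subgroup.eq_of_le_of_card_ge (by rw [zpowers_le]; exact hz₀Z)
      rw [hZcard, Nat.card_zpowers, orderOf_eq_prime (hZmem _ hz₀Z).2 hv₀]
    have hexZ : (⁅e, x⁆)⁻¹ ∈ zpowers ⁅e, v₀⁆ := by
      rw [hz₀gen]; exact inv_mem (hWZ e heW x)
    rw [← mem_powers_iff_mem_zpowers] at hexZ
    obtain ⟨k', hk'⟩ := hexZ
    have hcentral : ∀ v : R, ∀ g : R, Commute ⁅e, v⁆ g := fun v g => hZcomm _ (hWZ e heW v) g
    have hpowr : ⁅e, v₀ ^ k'⁆ = ⁅e, v₀⁆ ^ k' := by
      have h5 := commutatorElement_pow_left_of_central v₀ e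
        (fun g => hZcomm _ (by
          have : ⁅v₀, e⁆ = (⁅e, v₀⁆)⁻¹ := (commutatorElement_inv e v₀).symm
          rw [this]; exact inv_mem hz₀Z) g) k'
      rw [← commutatorElement_inv, h5, ← commutatorElement_inv e v₀, inv_pow, inv_inv]
    -- the element `t = x * v`
    have hvV : v₀ ^ k' ∈ V := pow_mem hv₀V k'
    have htcomm : Commute e (x * v₀ ^ k') := by
      apply commutatorElement_eq_one_iff_commute.mp
      rw [commutatorElement_mul_right_of_central e x (v₀ ^ k') (hcentral _), hpowr]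
      simp only at hk'
      rw [hk', mul_inv_cancel]
    have htp : (x * v₀ ^ k') ^ p = 1 := by
      rw [(hxVcomm _ hvV).mul_pow, hxp, hVe _ hvV, one_mul]
    have htE : x * v₀ ^ k' ∈ E := hM _ (hC e heE heZ _ htcomm) htp
    by_cases htZ : x * v₀ ^ k' ∈ Z
    · apply hxV
      have : x = (x * v₀ ^ k') * (v₀ ^ k')⁻¹ := by group
      rw [this]
      exact mul_mem (hZV htZ) (inv_mem hvV)
    · apply hEV
      symm
      apply Subgroup.eq_of_le_of_card_ge _ (by rw [hVcard, hE2])
      intro u hu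
      apply hM u _ (hVe u hu)
      apply hC _ htE htZ
      exact (hxVcomm u hu).mul_left (by
        exact hVcomm _ hvV u hu)
  have hWV : V = W := Subgroup.eq_of_le_of_card_ge hVW (by rw [hVcard]; exact hWcard)
  refine ⟨h1, hZcard, ⟨?_, fun a ha => (hWmem a ha).2⟩, by rw [← hWV, hVcard], ?_⟩
  · rw [← hWV]; exact hVcomm
  · have hCn : (centralizer (W : Set R)).Normal := by rw [← hWV]; infer_instance
    have hidx : Nat.card R ≤ Nat.card (centralizer (W : Set R)) * p := by
      have := card_le_card_centralizer_mul hR V hVc 2 V hVn le_rfl hVcard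
      rw [← hWV]
      simpa using this
    have hCtop : centralizer (W : Set R) ≠ ⊤ := by
      intro h
      apply h1
      rw [h]; exact le_top
    obtain ⟨k, hk⟩ := hR.index (centralizer (W : Set R))
    have h1' : Nat.card (centralizer (W : Set R)) * (centralizer (W : Set R)).index =
        Nat.card R := Subgroup.card_mul_index _
    have hCpos : 0 < Nat.card (centralizer (W : Set R)) := Nat.card_pos
    have h2 : (centralizer (W : Set R)).index ≤ p := by
      have : Nat.card (centralizer (W : Set R)) * (centralizer (W : Set R)).index ≤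
          Nat.card (centralizer (W : Set R)) * p := by rw [h1']; exact hidx
      exact Nat.le_of_mul_le_mul_left this hCpos
    have h3 : (centralizer (W : Set R)).index ≠ 1 := fun h => hCtop (Subgroup.index_eq_one.mp h)
    rcases k with _ | _ | k
    · exfalso; apply h3; rw [hk, pow_zero]
    · rw [hk, zero_add, pow_one]
    · exfalso
      rw [hk] at h2
      have h4 : p ^ 2 ≤ p ^ (k + 1 + 1) := Nat.pow_le_pow_right hpp.pos (by omega)
      have h5 : p < p ^ 2 := by nlinarith [hpp.two_le]
      omega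


/-- `Ω₁(Z₂(R))` is characteristic -/
theorem omega_z2_characteristic {R : Type*} [Group R] {p : ℕ} :
    (closure {x : R | x ∈ Subgroup.upperCentralSeries R 2 ∧ x ^ p = 1}).Characteristic := by
  rw [characteristic_iff_map_le]
  intro φ
  rw [MonoidHom.map_closure, closure_le]
  rintro _ ⟨x, ⟨hx1, hx2⟩, rfl⟩
  apply Subgroup.subset_closure
  refine ⟨?_, ?_⟩
  · have hchar : (Subgroup.upperCentralSeries R 2).Characteristic := inferInstance
    exact (characteristic_iff_map_le.mp hchar φ) ⟨x, hx1, rfl⟩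
  · change (φ x) ^ p = 1
    rw [← map_pow, hx2, map_one]

end Cfsg.Agent.Lib.Helper1
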