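import Mathlib
import Cfsg.Agent.Lib.Helper1.Coprime
import Cfsg.Agent.Lib.Helper1.Transport

/-!
# Soft subgroups of finite `p`-groups (Héthelyi)

`E ≤ P` is *soft* if it is abelian, self-centralizing and of index `p` in its normalizer.
We prove that the overgroups of a soft subgroup form the normalizer tower, with all steps of
index `p`, and that the `i`-th proper member has nilpotency class `i + 1`.
-/

set_option autoImplicit false
open Pointwise

namespace Cfsg.Agent.Lib.Helper1.SoftSub

open Subgroup

universe u

section basics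

variable {P : Type*} [Group P]

/-- the normalizer tower of a subgroup -/
def tower (E : Subgroup P) : ℕ → Subgroup P
  | 0 => E
  | (i + 1) => normalizer (tower E i : Set P)

@[simp] theorem tower_zero (E : Subgroup P) : tower E 0 = E := rfl

theorem tower_succ (E : Subgroup P) (i : ℕ) :
    tower E (i + 1) = normalizer (tower E i : Set P) := rfl

theorem tower_succ' (E : Subgroup P) (i : ℕ) :
    tower E (i + 1) = tower (normalizer (E : Set P)) i := by
  induction i with
  | zero => rfl
  | succ i ih => rw [tower_succ, ih, tower_succ]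

theorem tower_le_succ (E : Subgroup P) (i : ℕ) : tower E i ≤ tower E (i + 1) :=
  le_normalizer

theorem tower_mono (E : Subgroup P) : Monotone (tower E) :=
  monotone_nat_of_le_succ (tower_le_succ E)

theorem le_tower (E : Subgroup P) (i : ℕ) : E ≤ tower E i :=
  tower_mono E (Nat.zero_le i)

theorem tower_eq_top_of_le (E : Subgroup P) {i j : ℕ} (hij : i ≤ j) (h : tower E i = ⊤) :
    tower E j = ⊤ :=
  top_le_iff.mp (h ▸ tower_mono E hij)

/-- cardinality form of the relative index -/
theorem card_mul_relIndex {H K : Subgroup P} (h : H ≤ K) :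
    Nat.card H * H.relIndex K = Nat.card K := by
  have := relIndex_mul_relIndex (⊥ : Subgroup P) H K bot_le h
  rwa [relIndex_bot_left, relIndex_bot_left] at this

/-- prime-index sandwich, relative index form -/
theorem sandwich {p : ℕ} (hp : p.Prime) {A B C : Subgroup P} (hAB : A ≤ B) (hBC : B ≤ C)
    (h : A.relIndex C = p) : B = A ∨ B = C := by
  have h1 := relIndex_mul_relIndex A B C hAB hBC
  rw [h] at h1
  rcases (Nat.dvd_prime hp).mp (Dvd.intro _ h1) with h2 | h2
  · left
    exact le_antisymm (relIndex_eq_one.mp h2) hAB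
  · right
    rw [h2] at h1
    have h3 : B.relIndex C = 1 := by
      have hp0 := hp.pos
      nlinarith
    exact le_antisymm hBC (relIndex_eq_one.mp h3)

/-- prime-index sandwich, cardinality form -/
theorem sandwich_card [Finite P] {p : ℕ} (hp : p.Prime) {A B C : Subgroup P} (hAB : A ≤ B)
    (hBC : B ≤ C) (h : Nat.card C = p * Nat.card A) : B = A ∨ B = C := by
  apply sandwich hp hAB hBC
  have h1 := card_mul_relIndex (hAB.trans hBC)
  rw [h, mul_comm p] at h1
  exact Nat.eq_of_mul_eq_mul_left Nat.card_pos h1

end basics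

section pgroup

variable {P : Type*} [Group P] [Finite P] {p : ℕ} [Fact p.Prime]

/-- normalizers grow in `p`-groups, relative form -/
theorem exists_mem_normalizer_not_mem (hP : IsPGroup p P) {K H : Subgroup P} (hKH : K ≤ H)
    (hne : K ≠ H) : ∃ y ∈ H, y ∈ normalizer (K : Set P) ∧ y ∉ K := by
  have hlt : K.subgroupOf H < ⊤ := by
    rw [lt_top_iff_ne_top, Ne, subgroupOf_eq_top]
    exact fun h => hne (le_antisymm hKH h)
  have hnil : Group.IsNilpotent H := (hP.to_subgroup H).isNilpotent
  have hnc := Group.normalizerCondition_of_isNilpotent (G := H) (K.subgroupOf H) hlt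
  rw [← subgroupOf_normalizer_eq hKH] at hnc
  obtain ⟨y, hyn, hyK⟩ := SetLike.exists_of_lt hnc
  exact ⟨y, y.2, hyn, hyK⟩

theorem lt_normalizer (hP : IsPGroup p P) {K : Subgroup P} (hne : K ≠ ⊤) :
    K < normalizer (K : Set P) := by
  obtain ⟨y, -, hyn, hyK⟩ := exists_mem_normalizer_not_mem hP (le_top : K ≤ ⊤) hne
  exact lt_of_le_of_ne le_normalizer (fun h => hyK (h ▸ hyn))

theorem relIndex_eq_pow (hP : IsPGroup p P) (H K : Subgroup P) :
    ∃ n, H.relIndex K = p ^ n :=
  (hP.to_subgroup K).index (H.subgroupOf K)

end pgroup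

section counting

variable {P : Type*} [Group P] [Finite P]

/-- **Counting lemma**: `F ≤ M ≤ H ≤ K` with `K` normalizing `F` and `H`, `|M : F| = p`,
`|H : F| = p²`, and `N_K(M) ≤ H`; then `|K| ≤ (p + 1) |H|`. -/
theorem card_le_of_conj_count {p : ℕ} (hp : p.Prime) {F M H K : Subgroup P} (hFM : F ≤ M)
    (hMH : M ≤ H) (hKF : K ≤ normalizer (F : Set P)) (hKH : K ≤ normalizer (H : Set P))
    (hM : Nat.card M = p * Nat.card F) (hH : Nat.card H = p * p * Nat.card F)
    (hNM : ∀ y ∈ K, y ∈ normalizer (M : Set P) → y ∈ H) :
    Nat.card K ≤ (p + 1) * Nat.card H := by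
  classical
  haveI : Fintype P := Fintype.ofFinite P
  set sK : Finset P := Finset.univ.filter (· ∈ K) with hsK
  set sM : Finset P := Finset.univ.filter (fun m => m ∈ M ∧ m ∉ F) with hsM
  set sH : Finset P := Finset.univ.filter (· ∈ H) with hsH
  set sF : Finset P := Finset.univ.filter (· ∈ F) with hsF
  set t : Finset P := Finset.univ.filter (fun u => u ∈ H ∧ u ∉ F) with ht
  have cK : sK.card = Nat.card K := by
    rw [Nat.card_eq_fintype_card, Fintype.card_subtype]
  have cH : sH.card = Nat.card H := by
    rw [Nat.card_eq_fintype_card, Fintype.card_subtype]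
  have cF : sF.card = Nat.card F := by
    rw [Nat.card_eq_fintype_card, Fintype.card_subtype]
  have cM : sM.card + Nat.card F = Nat.card M := by
    rw [← cF]
    have h1 : (Finset.univ.filter (· ∈ M)).card = Nat.card M := by
      rw [Nat.card_eq_fintype_card, Fintype.card_subtype]
    rw [← h1, ← Finset.card_union_of_disjoint]
    · congr 1
      ext x
      simp only [hsM, hsF, Finset.mem_union, Finset.mem_filter, Finset.mem_univ, true_and]
      constructor
      · rintro (h | h)
        · exact h.1
        · exact hFM h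
      · intro h
        by_cases hx : x ∈ F
        · exact Or.inr hx
        · exact Or.inl ⟨h, hx⟩
    · rw [Finset.disjoint_left]
      intro x hx hx'
      simp only [hsM, hsF, Finset.mem_filter, Finset.mem_univ, true_and] at hx hx'
      exact hx.2 hx'
  have ct : t.card + Nat.card F = Nat.card H := by
    rw [← cF, ← cH, ← Finset.card_union_of_disjoint]
    · congr 1
      ext x
      simp only [ht, hsH, hsF, Finset.mem_union, Finset.mem_filter, Finset.mem_univ, true_and]
      constructor
      · rintro (h | h)
        · exact h.1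
        · exact hMH (hFM h)
      · intro h
        by_cases hx : x ∈ F
        · exact Or.inr hx
        · exact Or.inl ⟨h, hx⟩
    · rw [Finset.disjoint_left]
      intro x hx hx'
      simp only [ht, hsF, Finset.mem_filter, Finset.mem_univ, true_and] at hx hx'
      exact hx.2 hx'
  -- the double count
  have hmain : (sK ×ˢ sM).card ≤ Nat.card H * t.card := by
    apply Finset.card_le_mul_card_image_of_maps_to (f := fun a : P × P => a.1 * a.2 * a.1⁻¹)
    · rintro ⟨y, m⟩ ha
      simp only [Finset.mem_product, hsK, hsM, Finset.mem_filter, Finset.mem_univ, true_and] at ha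
      simp only [ht, Finset.mem_filter, Finset.mem_univ, true_and]
      refine ⟨((mem_normalizer_iff.mp (hKH ha.1)) m).mp (hMH ha.2.1), fun h => ha.2.2 ?_⟩
      exact ((mem_normalizer_iff.mp (hKF ha.1)) m).mpr h
    · intro u hu
      rw [← cH]
      set fib := (sK ×ˢ sM).filter (fun a : P × P => a.1 * a.2 * a.1⁻¹ = u) with hfib
      rcases Finset.eq_empty_or_nonempty fib with he | ⟨⟨y₀, m₀⟩, h0⟩
      · rw [he]; simp
      · simp only [hfib, Finset.mem_filter, Finset.mem_product, hsK, hsM, Finset.mem_univ,
          true_and] at h0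
        obtain ⟨⟨hy₀, hm₀, hm₀F⟩, hu₀⟩ := h0
        apply Finset.card_le_card_of_injOn (fun a : P × P => y₀⁻¹ * a.1)
        · rintro ⟨y, m⟩ ha
          simp only [hfib, Finset.coe_filter, Finset.mem_product, hsK, hsM, Finset.mem_filter,
            Finset.mem_univ, true_and, Set.mem_setOf_eq] at ha
          obtain ⟨⟨hy, hm, hmF⟩, hu'⟩ := ha
          simp only [hsH, Finset.coe_filter, Finset.mem_univ, true_and, Set.mem_setOf_eq]
          have hwK : y₀⁻¹ * y ∈ K := K.mul_mem (K.inv_mem hy₀) hy
          apply hNM _ hwK
          -- `w = y₀⁻¹ y` normalizes `M`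
          set w := y₀⁻¹ * y with hw
          have hm₀w : m₀ = w * m * w⁻¹ := by
            have : y₀ * m₀ * y₀⁻¹ = y * m * y⁻¹ := by rw [hu₀, hu']
            rw [hw]
            have e : y₀⁻¹ * y * m * (y₀⁻¹ * y)⁻¹ = y₀⁻¹ * (y * m * y⁻¹) * y₀ := by group
            rw [e, ← this]; group
          -- `M ⊓ M^w` lies strictly above `F`
          have hFle : F ≤ M ⊓ (MulAut.conj w • M) := by
            intro x hx
            refine ⟨hFM hx, ?_⟩
            show x ∈ MulAut.conj w • M
            rw [mem_conj_smul_iff]
            apply hFM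
            have h1 := (mem_normalizer_iff.mp (hKF (K.inv_mem hwK))) x
            rw [inv_inv] at h1
            exact h1.mp hx
          have hm₀mem : m₀ ∈ M ⊓ (MulAut.conj w • M) := by
            refine ⟨hm₀, ?_⟩
            show m₀ ∈ MulAut.conj w • M
            rw [mem_conj_smul_iff, hm₀w]
            have e : w⁻¹ * (w * m * w⁻¹) * w = m := by group
            rw [e]; exact hm
          rcases sandwich_card hp hFle (inf_le_left : M ⊓ (MulAut.conj w • M) ≤ M) hM with h1 | h1
          · exact absurd (h1 ▸ hm₀mem) hm₀F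
          · have hle : M ≤ MulAut.conj w • M := by
              intro x hx
              have h2 : x ∈ M ⊓ (MulAut.conj w • M) := by rw [h1]; exact hx
              exact h2.2
            have hwinv : w⁻¹ ∈ normalizer (M : Set P) := by
              apply mem_normalizer_of_forall_conj_mem
              intro x hx
              have := hle hx
              rw [mem_conj_smul_iff] at this
              rwa [inv_inv]
            simpa using (normalizer (M : Set P)).inv_mem hwinv
        · rintro ⟨y, m⟩ ha ⟨y', m'⟩ ha' hyy
          simp only [hfib, Finset.coe_filter, Finset.mem_product, Set.mem_setOf_eq] at ha ha'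
          have hy : y = y' := by
            have : y₀⁻¹ * y = y₀⁻¹ * y' := hyy
            exact mul_left_cancel this
          subst hy
          have hm : m = m' := by
            have h1 : y * m * y⁻¹ = y * m' * y⁻¹ := by rw [ha.2, ha'.2]
            exact mul_left_cancel (mul_right_cancel h1)
          rw [hm]
  rw [Finset.card_product, cK] at hmain
  -- arithmetic
  obtain ⟨q, rfl⟩ : ∃ q, p = q + 1 := ⟨p - 1, by have := hp.pos; omega⟩
  have hFpos : 0 < Nat.card F := Nat.card_pos
  have hq : 0 < q := by have := hp.two_le; omega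
  have e1 : sM.card = q * Nat.card F := by
    have : sM.card + Nat.card F = (q + 1) * Nat.card F := by rw [cM, hM]
    nlinarith
  have e2 : t.card = q * ((q + 2) * Nat.card F) := by
    have : t.card + Nat.card F = (q + 1) * (q + 1) * Nat.card F := by rw [ct, hH]
    nlinarith
  rw [e1, e2] at hmain
  have h3 : Nat.card K * (q * Nat.card F) ≤ ((q + 1 + 1) * Nat.card H) * (q * Nat.card F) := by
    calc Nat.card K * (q * Nat.card F) ≤ Nat.card H * (q * ((q + 2) * Nat.card F)) := hmain
      _ = ((q + 1 + 1) * Nat.card H) * (q * Nat.card F) := by ring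
  exact Nat.le_of_mul_le_mul_right h3 (Nat.mul_pos hq hFpos)

end counting

section soft

variable {P : Type*} [Group P]

/-- soft subgroups: abelian, self-centralizing, of index `p` in the normalizer -/
structure Soft (p : ℕ) (E : Subgroup P) : Prop where
  comm : ∀ x ∈ E, ∀ y ∈ E, x * y = y * x
  cent : centralizer (E : Set P) ≤ E
  norm : E.relIndex (normalizer (E : Set P)) = p

variable [Finite P] {p : ℕ} [Fact p.Prime]

theorem Soft.ne_normalizer {E : Subgroup P} (hE : Soft p E) : E ≠ normalizer (E : Set P) := by
  intro h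
  have h1 := hE.norm
  rw [← h, relIndex_self] at h1
  exact (Fact.out : p.Prime).one_lt.ne h1

theorem Soft.card_normalizer {E : Subgroup P} (hE : Soft p E) :
    Nat.card (normalizer (E : Set P)) = p * Nat.card E := by
  have := card_mul_relIndex (le_normalizer : E ≤ normalizer (E : Set P))
  rw [hE.norm] at this
  rw [← this, mul_comm]

/-- **Base step**: the second step of the normalizer tower of a soft subgroup has index `p`. -/
theorem Soft.relIndex_normalizer_normalizer (hP : IsPGroup p P) {E : Subgroup P}
    (hE : Soft p E) (hN : normalizer (E : Set P) ≠ ⊤) :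
    (normalizer (E : Set P)).relIndex (normalizer (normalizer (E : Set P) : Set P)) = p := by
  have hp := (Fact.out : p.Prime)
  obtain ⟨N₁, hN₁⟩ : ∃ N₁ : Subgroup P, N₁ = normalizer (E : Set P) := ⟨_, rfl⟩
  rw [← hN₁] at hN ⊢
  obtain ⟨N₂, hN₂⟩ : ∃ N₂ : Subgroup P, N₂ = normalizer (N₁ : Set P) := ⟨_, rfl⟩
  rw [← hN₂]
  have hEN : E ≤ N₁ := hN₁ ▸ le_normalizer
  have hEne : E ≠ N₁ := hN₁ ▸ hE.ne_normalizer
  have hcN₁ : Nat.card N₁ = p * Nat.card E := hN₁ ▸ hE.card_normalizer
  have hNN : N₁ ≤ N₂ := hN₂ ▸ le_normalizer
  obtain ⟨x, hxN₂, hxN₁⟩ := SetLike.exists_of_lt (lt_normalizer hP hN)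
  rw [← hN₂] at hxN₂
  obtain ⟨E', hE'⟩ : ∃ E' : Subgroup P, E' = MulAut.conj x • E := ⟨_, rfl⟩
  have hmemE' : ∀ y, y ∈ E' ↔ x⁻¹ * y * x ∈ E := by
    intro y; rw [hE', mem_conj_smul_iff]
  have hE'N : E' ≤ N₁ := by
    intro y hy
    rw [hmemE'] at hy
    have hx' : x ∈ normalizer (N₁ : Set P) := hN₂ ▸ hxN₂
    have h1 := ((mem_normalizer_iff.mp hx') (x⁻¹ * y * x)).mp (hEN hy)
    have e : x * (x⁻¹ * y * x) * x⁻¹ = y := by group
    rwa [e] at h1
  have hE'ne : ¬ E' ≤ E := by
    intro hle
    apply hxN₁
    rw [hN₁]
    apply mem_normalizer_of_forall_conj_mem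
    intro e he
    apply hle
    rw [hmemE']
    have e1 : x⁻¹ * (x * e * x⁻¹) * x = e := by group
    rwa [e1]
  have hsup : E ⊔ E' = N₁ := by
    rcases sandwich hp (le_sup_left : E ≤ E ⊔ E') (sup_le hEN hE'N) (hN₁ ▸ hE.norm) with h | h
    · exfalso; apply hE'ne
      calc E' ≤ E ⊔ E' := le_sup_right
        _ = E := h
    · exact h
  have hE'comm : ∀ a ∈ E', ∀ b ∈ E', a * b = b * a := by
    intro a ha b hb
    rw [hmemE'] at ha hb
    have h1 := hE.comm _ ha _ hb
    have e1 : x⁻¹ * a * x * (x⁻¹ * b * x) = x⁻¹ * (a * b) * x := by group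
    have e2 : x⁻¹ * b * x * (x⁻¹ * a * x) = x⁻¹ * (b * a) * x := by group
    rw [e1, e2] at h1
    exact mul_left_cancel (mul_right_cancel h1)
  obtain ⟨F, hF⟩ : ∃ F : Subgroup P, F = N₁ ⊓ centralizer (N₁ : Set P) := ⟨_, rfl⟩
  have hFN : F ≤ N₁ := hF ▸ inf_le_left
  have hFE : F ≤ E := by
    intro y hy
    rw [hF] at hy
    exact hE.cent (centralizer_le (by exact_mod_cast hEN) hy.2)
  have hIF : E ⊓ E' ≤ F := by
    intro y hy
    rw [hF]
    refine ⟨hEN hy.1, ?_⟩
    show y ∈ centralizer (N₁ : Set P)
    rw [mem_centralizer_iff]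
    intro h hh
    have hh' : h ∈ E ⊔ E' := by rw [hsup]; exact hh
    have hle : E ⊔ E' ≤ centralizer ({y} : Set P) := by
      apply sup_le
      · intro e he
        rw [mem_centralizer_iff]
        intro z hz
        rw [Set.mem_singleton_iff] at hz
        rw [hz]; exact hE.comm _ hy.1 _ he
      · intro e he
        rw [mem_centralizer_iff]
        intro z hz
        rw [Set.mem_singleton_iff] at hz
        rw [hz]; exact hE'comm _ hy.2 _ he
    have := (mem_centralizer_iff.mp (hle hh')) y rfl
    exact this.symm
  have hFneE : F ≠ E := by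
    intro h
    apply hEne
    apply le_antisymm hEN
    intro n hn
    apply hE.cent
    rw [mem_centralizer_iff]
    intro e he
    have he' : e ∈ F := by rw [h]; exact he
    rw [hF] at he'
    exact ((mem_centralizer_iff.mp he'.2) n hn).symm
  -- cardinalities
  have hcE' : Nat.card E' = Nat.card E := by rw [hE']; exact card_conj_smul E x
  have hrE' : E'.relIndex N₁ = p := by
    have h1 := card_mul_relIndex hE'N
    rw [hcE', hcN₁, mul_comm p] at h1
    exact Nat.eq_of_mul_eq_mul_left Nat.card_pos h1
  have hrI : (E ⊓ E').relIndex N₁ ≤ p * p := by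
    calc (E ⊓ E').relIndex N₁ ≤ E.relIndex N₁ * E'.relIndex N₁ := relIndex_inf_le
      _ = p * p := by rw [hrE', show E.relIndex N₁ = p from hN₁ ▸ hE.norm]
  have hcI : Nat.card N₁ ≤ Nat.card F * (p * p) := by
    have h1 := card_mul_relIndex (inf_le_left.trans hEN : E ⊓ E' ≤ N₁)
    calc Nat.card N₁ = Nat.card (E ⊓ E' : Subgroup P) * (E ⊓ E').relIndex N₁ := h1.symm
      _ ≤ Nat.card F * (p * p) := Nat.mul_le_mul (card_le_of_le hIF) hrI
  obtain ⟨n, hn⟩ := relIndex_eq_pow hP F E
  have hcE : Nat.card F * p ^ n = Nat.card E := by rw [← hn]; exact card_mul_relIndex hFE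
  have hFpos : 0 < Nat.card F := Nat.card_pos
  have hn1 : n = 1 := by
    have hn0 : n ≠ 0 := by
      rintro rfl
      rw [pow_zero] at hn
      exact hFneE (le_antisymm hFE (relIndex_eq_one.mp hn))
    by_contra hne
    have h2 : 2 ≤ n := by omega
    have h3 : p ^ 2 ≤ p ^ n := Nat.pow_le_pow_right hp.pos h2
    rw [hcN₁, ← hcE] at hcI
    have h4 : p * p ^ n ≤ p * p := by
      have : Nat.card F * (p * p ^ n) ≤ Nat.card F * (p * p) := by
        calc Nat.card F * (p * p ^ n) = p * (Nat.card F * p ^ n) := by ring
          _ ≤ Nat.card F * (p * p) := hcI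
      exact Nat.le_of_mul_le_mul_left this hFpos
    have h5 : p ^ n ≤ p := Nat.le_of_mul_le_mul_left h4 hp.pos
    have h6 : p < p ^ 2 := by
      have := hp.two_le
      nlinarith
    omega
  rw [hn1, pow_one] at hcE
  have hcE2 : Nat.card E = p * Nat.card F := by rw [← hcE, mul_comm]
  have hcN2 : Nat.card N₁ = p * p * Nat.card F := by rw [hcN₁, hcE2, mul_assoc]
  -- `N₂` normalizes `F`
  have hN₂F : N₂ ≤ normalizer (F : Set P) := by
    intro y hy
    have hy' : y ∈ normalizer (N₁ : Set P) := hN₂ ▸ hy
    have hyinv : y⁻¹ ∈ normalizer (N₁ : Set P) := inv_mem hy'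
    apply mem_normalizer_of_forall_conj_mem
    intro f hf
    rw [hF] at hf ⊢
    refine ⟨((mem_normalizer_iff.mp hy') f).mp hf.1, ?_⟩
    show y * f * y⁻¹ ∈ centralizer (N₁ : Set P)
    rw [mem_centralizer_iff]
    intro h hh
    have h1 : y⁻¹ * h * y ∈ N₁ := by
      have := ((mem_normalizer_iff.mp hyinv) h).mp hh
      rwa [inv_inv] at this
    have h2 := (mem_centralizer_iff.mp hf.2) _ h1
    have e1 : h * (y * f * y⁻¹) = y * (y⁻¹ * h * y * f) * y⁻¹ := by group
    have e2 : y * f * y⁻¹ * h = y * (f * (y⁻¹ * h * y)) * y⁻¹ := by group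
    rw [e1, e2, h2]
  have hcount := card_le_of_conj_count hp hFE hEN hN₂F (hN₂ ▸ le_rfl) hcE2 hcN2
    (fun y _ hy => hN₁ ▸ hy)
  obtain ⟨m, hm⟩ := relIndex_eq_pow hP N₁ N₂
  have hcN₂ : Nat.card N₁ * p ^ m = Nat.card N₂ := by rw [← hm]; exact card_mul_relIndex hNN
  rw [hm]
  have hNpos : 0 < Nat.card N₁ := Nat.card_pos
  have hm0 : m ≠ 0 := by
    rintro rfl
    rw [pow_zero] at hm
    exact hxN₁ (relIndex_eq_one.mp hm hxN₂)
  have hm1 : m = 1 := by
    by_contra hne
    have h2 : 2 ≤ m := by omega
    have h3 : p ^ 2 ≤ p ^ m := Nat.pow_le_pow_right hp.pos h2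
    rw [← hcN₂, mul_comm (p + 1)] at hcount
    have h4 : p ^ m ≤ p + 1 := Nat.le_of_mul_le_mul_left hcount hNpos
    have h6 : p + 1 < p ^ 2 := by
      have := hp.two_le
      nlinarith
    omega
  rw [hm1, pow_one]

end soft

section quotient

variable {P : Type*} [Group P] {Q : Type*} [Group Q]

theorem tower_comap (π : P →* Q) (hπ : Function.Surjective π) (A : Subgroup Q) (j : ℕ) :
    (tower A j).comap π = tower (A.comap π) j := by
  induction j with
  | zero => rfl
  | succ j ih => rw [tower_succ, tower_succ, ← ih, comap_normalizer_eq_of_surjective _ hπ]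

theorem relIndex_comap_comap (π : P →* Q) (hπ : Function.Surjective π) (H K : Subgroup Q) :
    (H.comap π).relIndex (K.comap π) = H.relIndex K := by
  rw [relIndex_comap, map_comap_eq_self_of_surjective hπ]

theorem comap_ne_top (π : P →* Q) (hπ : Function.Surjective π) {H : Subgroup Q}
    (h : H.comap π ≠ ⊤) : H ≠ ⊤ := by
  rintro rfl
  exact h (comap_top π)

variable [Finite P] {p : ℕ} [Fact p.Prime]

/-- **Quotient lemma**: for a soft subgroup `E` with `N_P(E) ≠ P` and a surjection `π` with
kernel inside `E`, the centralizer of the image of `E` is soft in the image, and its preimage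
is `E` or `N_P(E)`. -/
theorem Soft.quot (hP : IsPGroup p P) {E : Subgroup P} (hE : Soft p E)
    (hN : normalizer (E : Set P) ≠ ⊤) (π : P →* Q) (hπ : Function.Surjective π)
    (hker : π.ker ≤ E) :
    Soft p (centralizer ((E.map π : Subgroup Q) : Set Q)) ∧
      ((centralizer ((E.map π : Subgroup Q) : Set Q)).comap π = E ∨
       (centralizer ((E.map π : Subgroup Q) : Set Q)).comap π = normalizer (E : Set P)) := by
  have hp := (Fact.out : p.Prime)
  obtain ⟨Ab, hAb⟩ : ∃ Ab : Subgroup Q, Ab = centralizer ((E.map π : Subgroup Q) : Set Q) :=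
    ⟨_, rfl⟩
  rw [← hAb]
  have hmemAb : ∀ a, a ∈ Ab ↔ ∀ e ∈ E, π e * a = a * π e := by
    intro a
    rw [hAb, mem_centralizer_iff]
    constructor
    · intro h e he
      exact h _ (mem_map_of_mem π he)
    · rintro h _ ⟨e, he, rfl⟩
      exact h e he
  have hEA : E ≤ Ab.comap π := by
    intro e he
    rw [mem_comap, hmemAb]
    intro e' he'
    rw [← map_mul, ← map_mul, hE.comm _ he' _ he]
  have hAN : Ab.comap π ≤ normalizer (E : Set P) := by
    intro g hg
    rw [mem_comap, hmemAb] at hg
    apply mem_normalizer_of_forall_conj_mem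
    intro e he
    have h1 : g * e * g⁻¹ * e⁻¹ ∈ π.ker := by
      rw [MonoidHom.mem_ker, map_mul, map_mul, map_mul, map_inv, map_inv, ← hg e he]
      group
    have h2 := E.mul_mem (hker h1) he
    rwa [inv_mul_cancel_right] at h2
  have hcases := sandwich hp hEA hAN hE.norm
  have hmapA : (Ab.comap π).map π = Ab := map_comap_eq_self_of_surjective hπ Ab
  have hEmap : E.map π ≤ Ab := map_le_iff_le_comap.mpr hEA
  refine ⟨⟨?_, ?_, ?_⟩, hcases⟩
  · -- abelian
    rcases hcases with h | h
    · intro a ha b hb
      rw [← hmapA, h] at ha hb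
      obtain ⟨e, he, rfl⟩ := ha
      obtain ⟨e', he', rfl⟩ := hb
      rw [← map_mul, ← map_mul, hE.comm _ he _ he']
    · obtain ⟨g, hgN, hgE⟩ : ∃ g ∈ normalizer (E : Set P), g ∉ E := by
        by_contra hcon
        push Not at hcon
        exact hE.ne_normalizer (le_antisymm le_normalizer hcon)
      have hsup : E ⊔ zpowers g = normalizer (E : Set P) := by
        rcases sandwich hp (le_sup_left : E ≤ E ⊔ zpowers g)
          (sup_le le_normalizer (zpowers_le.mpr hgN)) hE.norm with h' | h'
        · exfalso; apply hgE
          have : g ∈ E ⊔ zpowers g := (le_sup_right : zpowers g ≤ _) (mem_zpowers g)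
          rwa [h'] at this
        · exact h'
      have hAb2 : Ab = (E ⊔ zpowers g).map π := by rw [hsup, ← h, hmapA]
      have hgAb : π g ∈ Ab := by
        rw [← mem_comap, h]; exact hgN
      have hg1 : ∀ a ∈ Ab, a * π g = π g * a := by
        intro a ha
        have hle : Ab ≤ centralizer ({π g} : Set Q) := by
          rw [hAb2, map_le_iff_le_comap]
          apply sup_le
          · intro e he
            rw [mem_comap, mem_centralizer_iff]
            intro z hz
            rw [Set.mem_singleton_iff] at hz
            rw [hz]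
            exact ((hmemAb _).mp hgAb e he).symm
          · rw [zpowers_le, mem_comap, mem_centralizer_iff]
            intro z hz
            rw [Set.mem_singleton_iff] at hz
            rw [hz]
        exact ((mem_centralizer_iff.mp (hle ha)) _ rfl).symm
      intro a ha b hb
      have hle : Ab ≤ centralizer ({a} : Set Q) := by
        rw [hAb2, map_le_iff_le_comap]
        apply sup_le
        · intro e he
          rw [mem_comap, mem_centralizer_iff]
          intro z hz
          rw [Set.mem_singleton_iff] at hz
          rw [hz]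
          exact ((hmemAb _).mp ha e he).symm
        · rw [zpowers_le, mem_comap, mem_centralizer_iff]
          intro z hz
          rw [Set.mem_singleton_iff] at hz
          rw [hz]
          exact hg1 a ha
      exact (mem_centralizer_iff.mp (hle hb)) _ rfl
  · -- self-centralizing
    calc centralizer (Ab : Set Q) ≤ centralizer ((E.map π : Subgroup Q) : Set Q) :=
          centralizer_le (by exact_mod_cast hEmap)
      _ = Ab := hAb.symm
  · -- normalizer index
    rw [← relIndex_comap_comap π hπ, comap_normalizer_eq_of_surjective _ hπ]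
    rcases hcases with h | h
    · rw [h]; exact hE.norm
    · rw [h]; exact hE.relIndex_normalizer_normalizer hP hN

end quotient

section towerA

/-- **Theorem A**, induction form: all steps of the normalizer tower of a soft subgroup have
index `p`. -/
theorem Soft.relIndex_tower_aux (p : ℕ) [Fact p.Prime] : ∀ (n : ℕ) (P : Type u) [Group P]
    [Finite P], Nat.card P = n → IsPGroup p P → ∀ (E : Subgroup P), Soft p E → ∀ i,
    tower E i ≠ ⊤ → (tower E i).relIndex (tower E (i + 1)) = p := by
  intro n
  induction n using Nat.strong_induction_on with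
  | _ n ih =>
    intro P _ _ hn hP E hE i hi
    rcases i with _ | i
    · exact hE.norm
    · have hN : normalizer (E : Set P) ≠ ⊤ := fun h =>
        hi (tower_eq_top_of_le E (Nat.succ_le_succ (Nat.zero_le i)) h)
      haveI : Nontrivial P := by
        by_contra h
        rw [not_nontrivial_iff_subsingleton] at h
        exact hE.ne_normalizer (Subsingleton.elim _ _)
      have hZnt : Nontrivial (center P) := hP.center_nontrivial
      have hZE : center P ≤ E := fun z hz => hE.cent (center_le_centralizer _ hz)
      obtain ⟨π, hπdef⟩ : ∃ π : P →* P ⧸ center P, π = QuotientGroup.mk' (center P) := ⟨_, rfl⟩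
      have hπ : Function.Surjective π := hπdef ▸ QuotientGroup.mk'_surjective _
      have hker : π.ker ≤ E := by rw [hπdef, QuotientGroup.ker_mk']; exact hZE
      obtain ⟨hsoft, hcases⟩ := hE.quot hP hN π hπ hker
      have hcard : Nat.card (P ⧸ center P) < n := by
        rw [← hn, Subgroup.card_eq_card_quotient_mul_card_subgroup (center P)]
        have h1 : 1 < Nat.card (center P) := Finite.one_lt_card
        have h2 : 0 < Nat.card (P ⧸ center P) := Nat.card_pos
        nlinarith
      have hPq : IsPGroup p (P ⧸ center P) := hP.to_quotient _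
      have IH := ih _ hcard (P ⧸ center P) rfl hPq _ hsoft
      rcases hcases with h | h
      · have ht : ∀ j, tower E j =
            (tower (centralizer ((E.map π : Subgroup _) : Set _)) j).comap π := fun j => by
          rw [tower_comap π hπ, h]
        rw [ht, ht, relIndex_comap_comap π hπ]
        apply IH
        apply comap_ne_top π hπ
        rw [← ht]; exact hi
      · have ht : ∀ j, tower E (j + 1) =
            (tower (centralizer ((E.map π : Subgroup _) : Set _)) j).comap π := fun j => by
          rw [tower_comap π hπ, h, tower_succ']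
        rw [ht i, ht (i + 1), relIndex_comap_comap π hπ]
        apply IH
        apply comap_ne_top π hπ
        rw [← ht]; exact hi

variable {P : Type u} [Group P] [Finite P] {p : ℕ} [Fact p.Prime]

/-- **Theorem A** -/
theorem Soft.relIndex_tower (hP : IsPGroup p P) {E : Subgroup P} (hE : Soft p E) (i : ℕ)
    (hi : tower E i ≠ ⊤) : (tower E i).relIndex (tower E (i + 1)) = p :=
  Soft.relIndex_tower_aux p _ P rfl hP E hE i hi

theorem exists_tower_eq_top (hP : IsPGroup p P) (E : Subgroup P) : ∃ n, tower E n = ⊤ := by
  obtain ⟨n, hn⟩ := WellFoundedGT.monotone_chain_condition ⟨tower E, tower_mono E⟩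
  refine ⟨n, ?_⟩
  by_contra h
  have h1 := lt_normalizer hP h
  have h2 : tower E n = tower E (n + 1) := hn (n + 1) (Nat.le_succ n)
  rw [← tower_succ, ← h2] at h1
  exact lt_irrefl _ h1

/-- every overgroup of a soft subgroup is a member of its normalizer tower -/
theorem Soft.exists_eq_tower (hP : IsPGroup p P) {E : Subgroup P} (hE : Soft p E)
    {H : Subgroup P} (hEH : E ≤ H) : ∃ j, H = tower E j := by
  have hp := (Fact.out : p.Prime)
  have key : ∀ k, tower E k ≤ H ∨ ∃ j, H = tower E j := by
    intro k
    induction k with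
    | zero => exact Or.inl hEH
    | succ k ih =>
      rcases ih with h | h
      · by_cases heq : tower E k = H
        · exact Or.inr ⟨k, heq.symm⟩
        · left
          obtain ⟨y, hyH, hyN, hyK⟩ := exists_mem_normalizer_not_mem hP h heq
          have hne : tower E k ≠ ⊤ := by
            intro h'
            rw [h'] at h heq
            exact heq (top_le_iff.mp h).symm
          have hidx := hE.relIndex_tower hP k hne
          rcases sandwich hp (le_inf h (tower_le_succ E k) : tower E k ≤ H ⊓ tower E (k + 1))
            inf_le_right hidx with h1 | h1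
          · exfalso; apply hyK
            have : y ∈ H ⊓ tower E (k + 1) := ⟨hyH, hyN⟩
            rwa [h1] at this
          · calc tower E (k + 1) = H ⊓ tower E (k + 1) := h1.symm
              _ ≤ H := inf_le_left
      · exact Or.inr h
  obtain ⟨n, hn⟩ := exists_tower_eq_top hP E
  rcases key n with h | h
  · refine ⟨n, ?_⟩
    rw [hn] at h ⊢
    exact top_le_iff.mp h
  · exact h

theorem Soft.relIndex_zero_tower (hP : IsPGroup p P) {E : Subgroup P} (hE : Soft p E) :
    ∀ j, tower E j ≠ ⊤ → E.relIndex (tower E j) = p ^ j := by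
  intro j
  induction j with
  | zero => intro _; simp
  | succ j ih =>
    intro hj
    have hj' : tower E j ≠ ⊤ := fun h => hj (tower_eq_top_of_le E (Nat.le_succ j) h)
    rw [← relIndex_mul_relIndex E (tower E j) (tower E (j + 1)) (le_tower E j)
      (tower_le_succ E j), ih hj', hE.relIndex_tower hP j hj', pow_succ]

end towerA

section classbound

open scoped commutatorElement

/-- **Theorem B**, induction form: `[N_P(E), E] ≤ core_P(E)` when `N_P(E) ≠ P`. -/
theorem Soft.commutator_mem_normalCore_aux (p : ℕ) [Fact p.Prime] : ∀ (n : ℕ) (P : Type u)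
    [Group P] [Finite P], Nat.card P = n → IsPGroup p P → ∀ (E : Subgroup P), Soft p E →
    normalizer (E : Set P) ≠ ⊤ → ∀ g ∈ normalizer (E : Set P), ∀ e ∈ E,
    g * e * g⁻¹ * e⁻¹ ∈ E.normalCore := by
  intro n
  induction n using Nat.strong_induction_on with
  | _ n ih =>
    intro P _ _ hn hP E hE hN g hg e he
    haveI : Nontrivial P := by
      by_contra h
      rw [not_nontrivial_iff_subsingleton] at h
      exact hE.ne_normalizer (Subsingleton.elim _ _)
    have hZnt : Nontrivial (center P) := hP.center_nontrivial
    have hZE : center P ≤ E := fun z hz => hE.cent (center_le_centralizer _ hz)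
    obtain ⟨π, hπdef⟩ : ∃ π : P →* P ⧸ center P, π = QuotientGroup.mk' (center P) := ⟨_, rfl⟩
    have hπ : Function.Surjective π := hπdef ▸ QuotientGroup.mk'_surjective _
    have hkerπ : π.ker = center P := by rw [hπdef, QuotientGroup.ker_mk']
    have hker : π.ker ≤ E := by rw [hkerπ]; exact hZE
    obtain ⟨hsoft, hcases⟩ := hE.quot hP hN π hπ hker
    have hcard : Nat.card (P ⧸ center P) < n := by
      rw [← hn, Subgroup.card_eq_card_quotient_mul_card_subgroup (center P)]
      have h1 : 1 < Nat.card (center P) := Finite.one_lt_card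
      have h2 : 0 < Nat.card (P ⧸ center P) := Nat.card_pos
      nlinarith
    have hPq : IsPGroup p (P ⧸ center P) := hP.to_quotient _
    obtain ⟨Ab, hAb⟩ : ∃ Ab : Subgroup (P ⧸ center P),
        Ab = centralizer ((E.map π : Subgroup (P ⧸ center P)) : Set (P ⧸ center P)) := ⟨_, rfl⟩
    rw [← hAb] at hsoft hcases
    rcases hcases with h | h
    · have hNb : normalizer (Ab : Set (P ⧸ center P)) ≠ ⊤ := by
        apply comap_ne_top π hπ
        rw [comap_normalizer_eq_of_surjective _ hπ, h]; exact hN
      have hg' : π g ∈ normalizer (Ab : Set (P ⧸ center P)) := by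
        rw [← mem_comap, comap_normalizer_eq_of_surjective _ hπ, h]; exact hg
      have he' : π e ∈ Ab := by
        rw [← mem_comap, h]; exact he
      have IH := ih _ hcard (P ⧸ center P) rfl hPq _ hsoft hNb (π g) hg' (π e) he'
      intro b
      have h1 := IH (π b)
      rw [← h, mem_comap]
      simpa only [map_mul, map_inv] using h1
    · have hgA : π g ∈ Ab := by
        rw [← mem_comap, h]; exact hg
      have hcomm : π e * π g = π g * π e := by
        rw [hAb] at hgA
        exact (mem_centralizer_iff.mp hgA) (π e) (mem_map_of_mem π he)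
      have hc : g * e * g⁻¹ * e⁻¹ ∈ center P := by
        rw [← hkerπ, MonoidHom.mem_ker, map_mul, map_mul, map_mul, map_inv, map_inv, ← hcomm]
        group
      exact (normal_le_normalCore.mpr hZE) hc

variable {P : Type u} [Group P] [Finite P] {p : ℕ} [Fact p.Prime]

/-- **Theorem B** -/
theorem Soft.commutator_mem_normalCore (hP : IsPGroup p P) {E : Subgroup P} (hE : Soft p E)
    (hN : normalizer (E : Set P) ≠ ⊤) {g e : P} (hg : g ∈ normalizer (E : Set P)) (he : e ∈ E) :
    g * e * g⁻¹ * e⁻¹ ∈ E.normalCore :=
  Soft.commutator_mem_normalCore_aux p _ P rfl hP E hE hN g hg e he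

/-- the core of a soft subgroup is central in every proper member of the tower -/
theorem Soft.normalCore_le_centralizer_tower (hP : IsPGroup p P) {E : Subgroup P}
    (hE : Soft p E) {j : ℕ} (hj : tower E j ≠ ⊤) :
    E.normalCore ≤ centralizer (tower E j : Set P) := by
  have hEC : E ≤ centralizer (E.normalCore : Set P) := fun e he =>
    mem_centralizer_iff.mpr (fun d hd => hE.comm _ (E.normalCore_le hd) _ he)
  have hcl : normalClosure (E : Set P) ≤ centralizer (E.normalCore : Set P) :=
    normalClosure_le_normal (by exact_mod_cast hEC)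
  obtain ⟨k, hk⟩ := hE.exists_eq_tower hP (le_normalClosure : E ≤ normalClosure (E : Set P))
  have hk1 : tower E (k + 1) = ⊤ := by
    rw [tower_succ, ← hk]
    exact normalizer_eq_top_iff.mpr inferInstance
  have hjk : j ≤ k := by
    by_contra h
    push Not at h
    exact hj (tower_eq_top_of_le E h hk1)
  have h1 : tower E j ≤ centralizer (E.normalCore : Set P) :=
    (tower_mono E hjk).trans (hk ▸ hcl)
  exact le_centralizer_iff.mp h1

/-- abelian groups have class at most one, for `IsMulCommutative`-style hypotheses -/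
theorem nilpotencyClass_le_one_of_comm {G : Type*} [Group G] (h : ∀ a b : G, a * b = b * a) :
    Group.nilpotencyClass G ≤ 1 := by
  have hc : center G = ⊤ := by
    rw [eq_top_iff]
    intro z _
    rw [mem_center_iff]
    intro g
    exact h g z
  haveI : Group.IsNilpotent G := ⟨⟨1, by rw [Subgroup.upperCentralSeries_one, hc]⟩⟩
  rw [← Subgroup.upperCentralSeries_eq_top_iff_nilpotencyClass_le,
    Subgroup.upperCentralSeries_one, hc]

/-- **Theorem C**, induction form -/
theorem Soft.nilpotencyClass_tower_le_aux (p : ℕ) [Fact p.Prime] : ∀ (n : ℕ) (P : Type u)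
    [Group P] [Finite P], Nat.card P = n → IsPGroup p P → ∀ (E : Subgroup P), Soft p E →
    ∀ j, tower E j ≠ ⊤ → Group.nilpotencyClass ↥(tower E j) ≤ j + 1 := by
  intro n
  induction n using Nat.strong_induction_on with
  | _ n ih =>
    intro P _ _ hn hP E hE j hj
    rcases j with _ | j
    · apply nilpotencyClass_le_one_of_comm
      rintro ⟨a, ha⟩ ⟨b, hb⟩
      exact Subtype.ext (hE.comm a ha b hb)
    · have hN : normalizer (E : Set P) ≠ ⊤ := fun h =>
        hj (tower_eq_top_of_le E (Nat.succ_le_succ (Nat.zero_le j)) h)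
      haveI : Nontrivial P := by
        by_contra h
        rw [not_nontrivial_iff_subsingleton] at h
        exact hE.ne_normalizer (Subsingleton.elim _ _)
      have hZnt : Nontrivial (center P) := hP.center_nontrivial
      have hZE : center P ≤ E := fun z hz => hE.cent (center_le_centralizer _ hz)
      have hZD : center P ≤ E.normalCore := normal_le_normalCore.mpr hZE
      obtain ⟨π, hπdef⟩ : ∃ π : P →* P ⧸ E.normalCore, π = QuotientGroup.mk' E.normalCore :=
        ⟨_, rfl⟩
      have hπ : Function.Surjective π := hπdef ▸ QuotientGroup.mk'_surjective _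
      have hkerπ : π.ker = E.normalCore := by rw [hπdef, QuotientGroup.ker_mk']
      have hker : π.ker ≤ E := by rw [hkerπ]; exact E.normalCore_le
      obtain ⟨hsoft, hcases⟩ := hE.quot hP hN π hπ hker
      have hcard : Nat.card (P ⧸ E.normalCore) < n := by
        rw [← hn, Subgroup.card_eq_card_quotient_mul_card_subgroup E.normalCore]
        have h0 : Nat.card (center P) ≤ Nat.card E.normalCore := card_le_of_le hZD
        have h1 : 1 < Nat.card (center P) := Finite.one_lt_card
        have h2 : 0 < Nat.card (P ⧸ E.normalCore) := Nat.card_pos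
        nlinarith
      have hPq : IsPGroup p (P ⧸ E.normalCore) := hP.to_quotient _
      obtain ⟨Ab, hAb⟩ : ∃ Ab : Subgroup (P ⧸ E.normalCore),
          Ab = centralizer ((E.map π : Subgroup (P ⧸ E.normalCore)) : Set (P ⧸ E.normalCore)) :=
        ⟨_, rfl⟩
      rw [← hAb] at hsoft hcases
      have hcomap : Ab.comap π = normalizer (E : Set P) := by
        rcases hcases with h | h
        · exfalso
          apply hE.ne_normalizer
          apply le_antisymm le_normalizer
          intro g hg
          rw [← h, mem_comap, hAb, mem_centralizer_iff]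
          rintro _ ⟨e, he, rfl⟩
          have h1 := hE.commutator_mem_normalCore hP hN hg he
          rw [← hkerπ, MonoidHom.mem_ker, map_mul, map_mul, map_mul, map_inv, map_inv] at h1
          have h2 : π g * π e = π e * π g := by
            have := congrArg (fun t => t * π e * π g) h1
            simpa [mul_assoc] using this
          exact h2.symm
        · exact h
      have ht : tower E (j + 1) = (tower Ab j).comap π := by
        rw [tower_comap π hπ, hcomap, tower_succ']
      have hjb : tower Ab j ≠ ⊤ := by
        apply comap_ne_top π hπ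
        rw [← ht]; exact hj
      have IH := ih _ hcard (P ⧸ E.normalCore) rfl hPq _ hsoft j hjb
      haveI : Group.IsNilpotent ↥(tower Ab j) := (hPq.to_subgroup _).isNilpotent
      have hmaps : ∀ x : ↥(tower E (j + 1)), (π.comp (tower E (j + 1)).subtype) x ∈
          tower Ab j := by
        intro x
        have h1 : (x : P) ∈ (tower Ab j).comap π := ht ▸ x.2
        exact h1
      have hcen := hE.normalCore_le_centralizer_tower hP hj
      have hkerf : ((π.comp (tower E (j + 1)).subtype).codRestrict _ hmaps).ker ≤
          center ↥(tower E (j + 1)) := by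
        intro x hx
        rw [MonoidHom.mem_ker] at hx
        have hx1 : π (x : P) = 1 := by
          have := congrArg Subtype.val hx
          simpa using this
        have hx2 : (x : P) ∈ E.normalCore := by rw [← hkerπ]; exact hx1
        have hx3 := hcen hx2
        rw [mem_center_iff]
        intro y
        apply Subtype.ext
        exact (mem_centralizer_iff.mp hx3) y y.2
      have := Group.nilpotencyClass_le_of_ker_le_center _ hkerf
      omega

end classbound

section lower

open scoped commutatorElement

variable {P : Type u} [Group P] [Finite P] {p : ℕ} [Fact p.Prime]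

/-- **Theorem C** -/
theorem Soft.nilpotencyClass_tower_le (hP : IsPGroup p P) {E : Subgroup P} (hE : Soft p E)
    (j : ℕ) (hj : tower E j ≠ ⊤) : Group.nilpotencyClass ↥(tower E j) ≤ j + 1 :=
  Soft.nilpotencyClass_tower_le_aux p _ P rfl hP E hE j hj

/-- the upper central series of a member of the tower of a self-centralizing subgroup is
bounded by the tower -/
theorem upperCentralSeries_le_tower {E : Subgroup P} (hcent : centralizer (E : Set P) ≤ E)
    (i : ℕ) : ∀ j ≤ i, ∀ g : ↥(tower E i),
      g ∈ Subgroup.upperCentralSeries ↥(tower E i) (j + 1) → (g : P) ∈ tower E j := by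
  intro j
  induction j with
  | zero =>
    intro _ g hg
    rw [Subgroup.upperCentralSeries_one, mem_center_iff] at hg
    apply hcent
    rw [mem_centralizer_iff]
    intro e he
    have := hg ⟨e, le_tower E i he⟩
    exact congrArg Subtype.val this
  | succ j ih =>
    intro hj g hg
    rw [Subgroup.mem_upperCentralSeries_succ_iff] at hg
    rw [tower_succ]
    apply mem_normalizer_of_forall_conj_mem
    intro h hh
    have hhi : h ∈ tower E i := tower_mono E (Nat.le_of_succ_le hj) hh
    have h1 := ih (Nat.le_of_succ_le hj) _ (hg ⟨h, hhi⟩)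
    have h2 : ((⁅g, ⟨h, hhi⟩⁆ : ↥(tower E i)) : P) = (g : P) * h * (g : P)⁻¹ * h⁻¹ := by
      rw [commutatorElement_def]
      simp
    rw [h2] at h1
    have h3 := (tower E j).mul_mem h1 hh
    rwa [inv_mul_cancel_right] at h3

/-- **Theorem D**: the lower bound for the class -/
theorem Soft.lt_nilpotencyClass_tower (hP : IsPGroup p P) {E : Subgroup P} (hE : Soft p E)
    (i : ℕ) (hi : tower E i ≠ ⊤) : i + 1 ≤ Group.nilpotencyClass ↥(tower E i) := by
  haveI : Group.IsNilpotent ↥(tower E i) := (hP.to_subgroup _).isNilpotent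
  by_contra hcon
  push Not at hcon
  have h1 : Group.nilpotencyClass ↥(tower E i) ≤ i := Nat.lt_succ_iff.mp hcon
  rw [← Subgroup.upperCentralSeries_eq_top_iff_nilpotencyClass_le] at h1
  rcases i with _ | k
  · rw [Subgroup.upperCentralSeries_zero] at h1
    apply hi
    rw [tower_zero, eq_top_iff]
    intro g _
    apply hE.cent
    rw [mem_centralizer_iff]
    intro e he
    have h2 : (⟨e, he⟩ : ↥(tower E 0)) ∈ (⊥ : Subgroup ↥(tower E 0)) := by
      rw [h1]; exact mem_top _
    rw [mem_bot] at h2
    have h3 : e = 1 := congrArg Subtype.val h2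
    rw [h3, one_mul, mul_one]
  · have hk : tower E k ≠ ⊤ := fun h => hi (tower_eq_top_of_le E (Nat.le_succ k) h)
    have hlt := lt_normalizer hP hk
    rw [← tower_succ] at hlt
    apply lt_irrefl (tower E k)
    apply lt_of_lt_of_le hlt
    intro g hg
    have h2 : (⟨g, hg⟩ : ↥(tower E (k + 1))) ∈
        Subgroup.upperCentralSeries ↥(tower E (k + 1)) (k + 1) := by
      rw [h1]; exact mem_top _
    exact upperCentralSeries_le_tower hE.cent (k + 1) k (Nat.le_succ k) _ h2

/-- the class of the `i`-th proper member of the tower of a soft subgroup is `i + 1` -/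
theorem Soft.nilpotencyClass_tower (hP : IsPGroup p P) {E : Subgroup P} (hE : Soft p E)
    (i : ℕ) (hi : tower E i ≠ ⊤) : Group.nilpotencyClass ↥(tower E i) = i + 1 :=
  le_antisymm (hE.nilpotencyClass_tower_le hP i hi) (hE.lt_nilpotencyClass_tower hP i hi)

/-- **Héthelyi's theorem on soft subgroups.** -/
theorem soft_main (hP : IsPGroup p P) (E : Subgroup P) (hEab : IsMulCommutative ↥E)
    (hC : centralizer (E : Set P) ≤ E)
    (hN : (E.subgroupOf (normalizer (E : Set P))).index = p) :
    (∀ K L : Subgroup P, E ≤ K → E ≤ L → K ≤ L ∨ L ≤ K) ∧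
      (∀ K : Subgroup P, E ≤ K → K ≠ ⊤ →
        (K.subgroupOf (normalizer (K : Set P))).index = p) ∧
      ∀ (i : ℕ) (K : Subgroup P), E ≤ K → K ≠ ⊤ → K.index * p ^ i = E.index →
        Group.nilpotencyClass ↥K = i + 1 := by
  have hp := (Fact.out : p.Prime)
  have hE : Soft p E := by
    refine ⟨?_, hC, hN⟩
    intro x hx y hy
    have := mul_comm' (⟨x, hx⟩ : ↥E) ⟨y, hy⟩
    exact congrArg Subtype.val this
  refine ⟨?_, ?_, ?_⟩
  · intro K L hK hL
    obtain ⟨j, rfl⟩ := hE.exists_eq_tower hP hK
    obtain ⟨k, rfl⟩ := hE.exists_eq_tower hP hL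
    rcases le_total j k with h | h
    · exact Or.inl (tower_mono E h)
    · exact Or.inr (tower_mono E h)
  · intro K hK hKtop
    obtain ⟨j, rfl⟩ := hE.exists_eq_tower hP hK
    exact hE.relIndex_tower hP j hKtop
  · intro i K hK hKtop hidx
    obtain ⟨j, rfl⟩ := hE.exists_eq_tower hP hK
    have h1 := hE.relIndex_zero_tower hP j hKtop
    have h2 := relIndex_mul_index (le_tower E j)
    rw [h1, ← hidx, mul_comm] at h2
    have h3 : (tower E j).index ≠ 0 := index_ne_zero_of_finite
    have h4 : p ^ j = p ^ i := Nat.eq_of_mul_eq_mul_left (Nat.pos_of_ne_zero h3) h2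
    have h5 : j = i := Nat.pow_right_injective hp.two_le h4
    rw [← h5]
    exact hE.nilpotencyClass_tower hP j hKtop

end lower

end Cfsg.Agent.Lib.Helper1.SoftSub
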