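import Mathlib
import Cfsg.Prelude.Def_Local
import Cfsg.Agent.Lib.Helper12.Cores
import Cfsg.Agent.Lib.Helper1.Coprime
import Cfsg.Agent.Lib.Helper1.SoftSub

set_option autoImplicit false

namespace Cfsg.Agent.Lib.Helper1.CentricRadical

open Subgroup

variable {X : Type*} [Group X] [Finite X] {p : ℕ} [hp : Fact p.Prime]

/-- A central Hall `p`-subgroup `Zh` of `C` has a complement consisting of all `p'`-elements. -/
theorem exists_pcomplement (C Zh : Subgroup X) (hZp : IsPGroup p Zh)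
    (hcent : ∀ z ∈ Zh, ∀ c ∈ C, z * c = c * z) (hidx : ¬ p ∣ Zh.relIndex C) :
    ∃ K : Subgroup X, K ≤ C ∧ (Nat.card K).Coprime p ∧
      (∀ c ∈ C, ∃ z ∈ Zh, ∃ k ∈ K, c = z * k) ∧
      (∀ x ∈ C, (orderOf x).Coprime p → x ∈ K) := by
  haveI : (Zh.subgroupOf C).Normal := by
    constructor
    intro z hz c
    rw [mem_subgroupOf] at hz ⊢
    have h1 := hcent z hz c c.2
    have h2 : ((c * z * c⁻¹ : ↥C) : X) = z := by
      push_cast
      rw [← h1, mul_inv_cancel_right]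
    rw [h2]
    exact hz
  have hcop : Nat.Coprime (Nat.card (Zh.subgroupOf C)) (Zh.subgroupOf C).index := by
    obtain ⟨a, ha⟩ := (hZp.comap_subtype (K := C)).exists_card_eq
    have : Nat.card (Zh.subgroupOf C) = p ^ a := ha
    rw [this]
    exact Nat.Coprime.pow_left a ((Nat.Prime.coprime_iff_not_dvd hp.out).mpr hidx)
  obtain ⟨K1, hK1⟩ := Subgroup.exists_right_complement'_of_coprime hcop
  have hdec : ∀ c ∈ C, ∃ z ∈ Zh, ∃ k ∈ K1.map C.subtype, c = z * k := by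
    intro c hc
    obtain ⟨⟨z, k⟩, hzk⟩ := hK1.2 ⟨c, hc⟩
    refine ⟨z.1.1, z.2, k.1.1, mem_map_of_mem _ k.2, ?_⟩
    have := congrArg Subtype.val hzk
    exact this.symm
  have hdisj : ∀ w : X, w ∈ Zh → w ∈ K1.map C.subtype → w = 1 := by
    intro w hw1 hw2
    obtain ⟨k, hk, rfl⟩ := hw2
    have : k ∈ Zh.subgroupOf C ⊓ K1 := ⟨hw1, hk⟩
    rw [hK1.disjoint.eq_bot, mem_bot] at this
    rw [this]
    rfl
  have hcard : Nat.card (K1.map C.subtype) = Zh.relIndex C := by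
    rw [Subgroup.card_map_of_injective C.subtype_injective]
    exact (hK1.symm.index_eq_card).symm
  refine ⟨K1.map C.subtype, map_subtype_le K1, ?_, hdec, ?_⟩
  · rw [hcard]
    exact ((Nat.Prime.coprime_iff_not_dvd hp.out).mpr hidx).symm
  · intro x hx hxp
    obtain ⟨z, hz, k, hk, rfl⟩ := hdec x hx
    have hkC : k ∈ C := map_subtype_le K1 hk
    have hcomm : Commute z k := hcent z hz k hkC
    have h1 : z ^ orderOf (z * k) * k ^ orderOf (z * k) = 1 := by
      rw [← hcomm.mul_pow, pow_orderOf_eq_one]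
    have h2 : z ^ orderOf (z * k) = 1 := by
      apply hdisj _ (Zh.pow_mem hz _)
      rw [eq_inv_of_mul_eq_one_left h1]
      exact inv_mem (pow_mem hk _)
    obtain ⟨j, hj⟩ := hZp ⟨z, hz⟩
    have hj' : z ^ p ^ j = 1 := congrArg Subtype.val hj
    have h3 : orderOf z ∣ (orderOf (z * k)).gcd (p ^ j) :=
      Nat.dvd_gcd (orderOf_dvd_of_pow_eq_one h2) (orderOf_dvd_of_pow_eq_one hj')
    rw [Nat.Coprime.pow_right j hxp, Nat.dvd_one, orderOf_eq_one_iff] at h3
    rw [h3, one_mul]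
    exact hk


/-- A normal subgroup all of whose elements have `p`-power order modulo `R` lies in the preimage
of `O_p(X/R)`. -/
theorem le_comap_pCore (R Y : Subgroup X) [R.Normal] [Y.Normal]
    (h : ∀ y ∈ Y, ∃ k : ℕ, y ^ p ^ k ∈ R) :
    Y ≤ (Cfsg.pCore p (X ⧸ R)).comap (QuotientGroup.mk' R) := by
  have hn : (Y.map (QuotientGroup.mk' R)).Normal :=
    Subgroup.Normal.map inferInstance _ (QuotientGroup.mk'_surjective R)
  have hpg : IsPGroup p ↥(Y.map (QuotientGroup.mk' R)) := by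
    rintro ⟨_, y, hy, rfl⟩
    obtain ⟨k, hk⟩ := h y hy
    refine ⟨k, Subtype.ext ?_⟩
    show (QuotientGroup.mk' R y) ^ p ^ k = 1
    rw [← map_pow]
    exact (QuotientGroup.eq_one_iff _).mpr hk
  intro y hy
  exact Cfsg.Agent.Lib.Helper12.le_pCore' p _ hn hpg (mem_map_of_mem _ hy)

theorem pow_mem_of_mem_comap_pCore (R : Subgroup X) [R.Normal] {y : X}
    (hy : y ∈ (Cfsg.pCore p (X ⧸ R)).comap (QuotientGroup.mk' R)) : ∃ k : ℕ, y ^ p ^ k ∈ R := by
  obtain ⟨k, hk⟩ := (Cfsg.Agent.Lib.Helper12.pCore_isPGroup' (X := X ⧸ R) p) ⟨_, hy⟩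
  refine ⟨k, ?_⟩
  have h1 : (QuotientGroup.mk' R y) ^ p ^ k = 1 := congrArg Subtype.val hk
  rw [← map_pow] at h1
  exact (QuotientGroup.eq_one_iff _).mp h1

theorem relIndex_comap_pCore (R : Subgroup X) [R.Normal] :
    ∃ e : ℕ, R.relIndex ((Cfsg.pCore p (X ⧸ R)).comap (QuotientGroup.mk' R)) = p ^ e := by
  obtain ⟨e, he⟩ := (Cfsg.Agent.Lib.Helper12.pCore_isPGroup' (X := X ⧸ R) p).exists_card_eq
  refine ⟨e, ?_⟩
  have h1 : R = (⊥ : Subgroup (X ⧸ R)).comap (QuotientGroup.mk' R) := by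
    rw [MonoidHom.comap_bot, QuotientGroup.ker_mk']
  have h2 : R.relIndex ((Cfsg.pCore p (X ⧸ R)).comap (QuotientGroup.mk' R)) =
      ((⊥ : Subgroup (X ⧸ R)).comap (QuotientGroup.mk' R)).relIndex
        ((Cfsg.pCore p (X ⧸ R)).comap (QuotientGroup.mk' R)) := by
    congr 1
  rw [h2, relIndex_comap, map_comap_eq_self_of_surjective (QuotientGroup.mk'_surjective R),
    relIndex_bot_left, he]

/-- `|SC : S| = |C : S ∩ C|` for `C` normal. -/
theorem relIndex_sup_of_normal_right (S C : Subgroup X) [C.Normal] :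
    S.relIndex (S ⊔ C) = S.relIndex C := by
  have h1 := Cfsg.Agent.Lib.Helper12.card_sup_eq_of_normal S C
  have h2 := Cfsg.Agent.Lib.Helper1.SoftSub.card_mul_relIndex (le_sup_left : S ≤ S ⊔ C)
  have h3 := Cfsg.Agent.Lib.Helper1.SoftSub.card_mul_relIndex (inf_le_right : S ⊓ C ≤ C)
  have h4 := Cfsg.Agent.Lib.Helper1.SoftSub.card_mul_relIndex (inf_le_left : S ⊓ C ≤ S)
  rw [inf_relIndex_right] at h3
  rw [inf_relIndex_left] at h4
  have hpos : 0 < Nat.card ↥(S ⊓ C) * C.relIndex S := by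
    rw [h4]
    exact Nat.card_pos
  apply Nat.eq_of_mul_eq_mul_left hpos
  calc Nat.card ↥(S ⊓ C) * C.relIndex S * S.relIndex (S ⊔ C)
      = Nat.card ↥(S ⊔ C) := by rw [h4, h2]
    _ = Nat.card ↥C * C.relIndex S := h1
    _ = Nat.card ↥(S ⊓ C) * C.relIndex S * S.relIndex C := by rw [← h3]; ring

/-- Sylow intersection with a normal subgroup. -/
theorem not_dvd_relIndex_inf_normal (S C : Subgroup X) [C.Normal] (hS : ¬ p ∣ S.index) :
    ¬ p ∣ (S ⊓ C).relIndex C := by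
  rw [inf_relIndex_right, ← relIndex_sup_of_normal_right]
  intro hdvd
  exact hS (hdvd.trans (relIndex_dvd_index_of_le le_sup_left))

theorem main (H0 C0 S0 : Subgroup X) [H0.Normal] [C0.Normal] (hH0 : IsPGroup p H0)
    (hS0 : IsPGroup p S0) (hS0i : ¬ p ∣ S0.index) (hHS : H0 ≤ S0)
    (hc1 : ∀ c ∈ C0, ∀ h ∈ H0, c * h = h * c)
    (hc2 : ∀ x, (∀ h ∈ H0, x * h = h * x) → x ∈ C0) :
    H0 ≤ (Cfsg.pCore p (X ⧸ C0)).comap (QuotientGroup.mk' C0) ∧
    ((¬ p ∣ H0.relIndex ((Cfsg.pCore p (X ⧸ C0)).comap (QuotientGroup.mk' C0))) ↔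
      (S0 ⊓ C0 ≤ H0 ∧ Cfsg.pPrimePCore p X = H0 ⊔ C0)) := by
  obtain ⟨N0, hN0⟩ : ∃ N0, N0 = (Cfsg.pCore p (X ⧸ C0)).comap (QuotientGroup.mk' C0) := ⟨_, rfl⟩
  rw [← hN0]
  haveI hN0n : N0.Normal := by rw [hN0]; infer_instance
  -- basic facts
  have hHN : H0 ≤ N0 := by
    rw [hN0]
    apply le_comap_pCore
    intro y hy
    obtain ⟨k, hk⟩ := hH0 ⟨y, hy⟩
    refine ⟨k, ?_⟩
    have : y ^ p ^ k = 1 := congrArg Subtype.val hk
    rw [this]
    exact one_mem _
  have hCN : C0 ≤ N0 := by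
    rw [hN0]
    apply le_comap_pCore
    intro y hy
    exact ⟨0, by simpa using hy⟩
  obtain ⟨e, he⟩ := relIndex_comap_pCore (p := p) C0
  rw [← hN0] at he
  -- `L = O_{p'}(X)` centralizes `H0`
  have hLC : Cfsg.pPrimeCore p X ≤ C0 := by
    intro x hx
    apply hc2
    intro h hh
    obtain ⟨a, ha⟩ := hH0.exists_card_eq
    have hcop : (Nat.card ↥(Cfsg.pPrimeCore p X)).Coprime (Nat.card ↥H0) := by
      rw [ha]
      exact Nat.Coprime.pow_right a (Cfsg.Agent.Lib.Helper12.pPrimeCore_coprime p)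
    have hdisj : Disjoint (Cfsg.pPrimeCore p X) H0 := Subgroup.disjoint_of_coprime_natCard hcop
    exact Subgroup.commute_of_normal_of_disjoint _ _ inferInstance inferInstance hdisj x h hx hh
  have hT : Cfsg.pPrimePCore p X =
      (Cfsg.pCore p (X ⧸ Cfsg.pPrimeCore p X)).comap (QuotientGroup.mk' (Cfsg.pPrimeCore p X)) := rfl
  haveI hTn : (Cfsg.pPrimePCore p X).Normal := by rw [hT]; infer_instance
  have hTN : Cfsg.pPrimePCore p X ≤ N0 := by
    rw [hN0]
    apply le_comap_pCore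
    intro y hy
    rw [hT] at hy
    obtain ⟨k, hk⟩ := pow_mem_of_mem_comap_pCore _ hy
    exact ⟨k, hLC hk⟩
  have hHT : H0 ≤ Cfsg.pPrimePCore p X := by
    rw [hT]
    apply le_comap_pCore
    intro y hy
    obtain ⟨k, hk⟩ := hH0 ⟨y, hy⟩
    refine ⟨k, ?_⟩
    have : y ^ p ^ k = 1 := congrArg Subtype.val hk
    rw [this]
    exact one_mem _
  -- consequences of `H0 ∩ C0` being a Sylow subgroup of `C0`
  have hcentral : ∀ z ∈ H0 ⊓ C0, ∀ c ∈ C0, z * c = c * z := fun z hz c hc => (hc1 c hc z hz.1).symm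
  have key : ¬ p ∣ (H0 ⊓ C0).relIndex C0 →
      ∃ K : Subgroup X, K ≤ C0 ∧ (Nat.card K).Coprime p ∧
        (∀ c ∈ C0, ∃ z ∈ H0 ⊓ C0, ∃ k ∈ K, c = z * k) ∧
        (∀ c ∈ C0, ∃ j : ℕ, c ^ p ^ j ∈ Cfsg.pPrimeCore p X) := by
    intro hZ
    obtain ⟨K, hKC, hKcop, hdec, hchar⟩ :=
      exists_pcomplement C0 (H0 ⊓ C0) (hH0.to_le inf_le_left) hcentral hZ
    have hKn : K.Normal := by
      constructor
      intro k hk g
      apply hchar _ (Normal.conj_mem inferInstance k (hKC hk) g)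
      have hoc : orderOf (g * k * g⁻¹) = orderOf k := (MulAut.conj g).orderOf_eq k
      rw [hoc]
      exact Nat.Coprime.coprime_dvd_left (Subgroup.orderOf_dvd_natCard K hk) hKcop
    have hKL : K ≤ Cfsg.pPrimeCore p X := Cfsg.Agent.Lib.Helper12.le_pPrimeCore p K hKn hKcop
    refine ⟨K, hKC, hKcop, hdec, ?_⟩
    intro c hc
    obtain ⟨z, hz, k, hk, rfl⟩ := hdec c hc
    obtain ⟨j, hj⟩ := hH0 ⟨z, hz.1⟩
    have hj' : z ^ p ^ j = 1 := congrArg Subtype.val hj
    refine ⟨j, ?_⟩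
    have hcomm : Commute z k := hcentral z hz k (hKC hk)
    rw [hcomm.mul_pow, hj', one_mul]
    exact hKL (pow_mem hk _)
  have hZdvd : (H0 ⊓ C0).relIndex C0 ∣ H0.relIndex N0 := by
    rw [inf_relIndex_right, ← relIndex_sup_right C0 H0]
    exact Dvd.intro _ (relIndex_mul_relIndex H0 (C0 ⊔ H0) N0 le_sup_right (sup_le hCN hHN))
  refine ⟨hHN, ?_, ?_⟩
  · intro hidx
    have hZ : ¬ p ∣ (H0 ⊓ C0).relIndex C0 := fun h => hidx (h.trans hZdvd)
    obtain ⟨K, hKC, hKcop, hdec, hpow⟩ := key hZ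
    refine ⟨?_, ?_⟩
    · intro q hq
      obtain ⟨z, hz, k, hk, hqzk⟩ := hdec q hq.2
      have hcomm : Commute z k := hcentral z hz k (hKC hk)
      obtain ⟨a, ha⟩ := hH0 ⟨z, hz.1⟩
      have ha' : z ^ p ^ a = 1 := congrArg Subtype.val ha
      obtain ⟨b, hb⟩ := hS0 ⟨q, hq.1⟩
      have hb' : q ^ p ^ b = 1 := congrArg Subtype.val hb
      have hk1 : k ^ p ^ (a + b) = 1 := by
        have h1 : q ^ p ^ (a + b) = 1 := by
          rw [pow_add, mul_comm, pow_mul, hb', one_pow]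
        have h2 : z ^ p ^ (a + b) = 1 := by
          rw [pow_add, pow_mul, ha', one_pow]
        rw [hqzk, hcomm.mul_pow, h2, one_mul] at h1
        exact h1
      have hk2 : orderOf k ∣ (Nat.card K).gcd (p ^ (a + b)) :=
        Nat.dvd_gcd (Subgroup.orderOf_dvd_natCard K hk) (orderOf_dvd_of_pow_eq_one hk1)
      rw [Nat.Coprime.pow_right (a + b) hKcop, Nat.dvd_one, orderOf_eq_one_iff] at hk2
      rw [hqzk, hk2, mul_one]
      exact hz.1
    · apply le_antisymm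
      · -- `T ≤ N0 = H0 C0`
        have hNle : N0 ≤ H0 ⊔ C0 := by
          rw [← relIndex_eq_one]
          have d1 : (H0 ⊔ C0).relIndex N0 ∣ H0.relIndex N0 := relIndex_dvd_of_le_left N0 le_sup_left
          have d2 : (H0 ⊔ C0).relIndex N0 ∣ p ^ e := by
            rw [← he]
            exact relIndex_dvd_of_le_left N0 le_sup_right
          obtain ⟨i, -, hi⟩ := (Nat.dvd_prime_pow hp.out).mp d2
          rcases Nat.eq_zero_or_pos i with h0 | hpos
          · rw [hi, h0, pow_zero]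
          · exfalso
            apply hidx
            refine Dvd.dvd.trans ?_ d1
            rw [hi]
            exact dvd_pow_self p hpos.ne'
        exact hTN.trans hNle
      · apply sup_le hHT
        rw [hT]
        apply le_comap_pCore
        exact hpow
  · rintro ⟨h1, h2⟩
    have hinf : H0 ⊓ C0 = S0 ⊓ C0 :=
      le_antisymm (le_inf (inf_le_left.trans hHS) inf_le_right) (le_inf h1 inf_le_right)
    have hZ : ¬ p ∣ (H0 ⊓ C0).relIndex C0 := by
      rw [hinf]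
      exact not_dvd_relIndex_inf_normal S0 C0 hS0i
    obtain ⟨K, hKC, hKcop, hdec, hpow⟩ := key hZ
    have hNT : N0 ≤ Cfsg.pPrimePCore p X := by
      rw [hT]
      apply le_comap_pCore
      intro y hy
      rw [hN0] at hy
      obtain ⟨k, hk⟩ := pow_mem_of_mem_comap_pCore _ hy
      obtain ⟨j, hj⟩ := hpow _ hk
      refine ⟨k + j, ?_⟩
      rw [pow_add, pow_mul]
      exact hj
    have hNeq : N0 = C0 ⊔ H0 := by
      apply le_antisymm
      · rw [sup_comm, ← h2]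
        exact hNT
      · exact sup_le hCN hHN
    rw [hNeq, relIndex_sup_right, ← inf_relIndex_right]
    exact hZ

end Cfsg.Agent.Lib.Helper1.CentricRadical
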