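import Mathlib
import Cfsg.Agent.Lib.Helper1.Coprime

/-! Odd-order elements normalizing cyclic or large generalized quaternion `2`-groups centralize
them; `Q₈` is not normal in a generalized quaternion group of order at least `32`. -/

namespace Cfsg.Agent.Lib.Helper1

open Subgroup

/-- **A1**: an element of odd order normalizing a cyclic `2`-subgroup centralizes it -/
theorem mem_centralizer_of_mem_normalizer_cyclic_two {G : Type*} [Group G] (C : Subgroup G)
    [Finite C] [hcyc : IsCyclic C] (hC : IsPGroup 2 C) (g : G)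
    (hg : g ∈ normalizer (C : Set G)) (hodd : Odd (orderOf g)) :
    g ∈ centralizer (C : Set G) := by
  have : Fact (Nat.Prime 2) := ⟨Nat.prime_two⟩
  set φ := C.normalizerMonoidHom ⟨g, hg⟩ with hφ
  have h1 : orderOf φ ∣ orderOf g := by
    have := orderOf_map_dvd C.normalizerMonoidHom (⟨g, hg⟩ : normalizer (C : Set G))
    rwa [Subgroup.orderOf_mk] at this
  have h2 : orderOf φ ∣ Nat.card (MulAut C) := orderOf_dvd_natCard φ
  obtain ⟨k, hk⟩ := IsPGroup.iff_card.mp hC
  have h3 : ∃ j, Nat.card (MulAut C) = 2 ^ j := by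
    rw [IsCyclic.card_mulAut, hk]
    rcases Nat.eq_zero_or_pos k with h0 | h0
    · exact ⟨0, by rw [h0, pow_zero, Nat.totient_one]⟩
    · exact ⟨k - 1, by rw [Nat.totient_prime_pow Nat.prime_two h0]; norm_num⟩
  obtain ⟨j, hj⟩ := h3
  rw [hj] at h2
  have h4 : orderOf φ = 1 := by
    obtain ⟨i, -, hi⟩ := (Nat.dvd_prime_pow Nat.prime_two).mp h2
    rcases Nat.eq_zero_or_pos i with h0 | h0
    · rw [hi, h0, pow_zero]
    · exfalso
      have h5 : 2 ∣ orderOf g := dvd_trans (hi ▸ dvd_pow_self 2 (by omega)) h1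
      exact (Nat.not_even_iff_odd.mpr hodd) (even_iff_two_dvd.mpr h5)
  have h5 : φ = 1 := orderOf_eq_one_iff.mp h4
  have h6 : (⟨g, hg⟩ : normalizer (C : Set G)) ∈ C.normalizerMonoidHom.ker := h5
  rw [Subgroup.normalizerMonoidHom_ker, Subgroup.mem_subgroupOf] at h6
  exact h6

/-- in a group with generalized quaternion data, `x` inverts `⟨a⟩` -/
theorem conj_eq_inv_of_mem_zpowers {G : Type*} [Group G] (a x : G) (hxa : x * a * x⁻¹ = a⁻¹)
    (h : G) (hh : h ∈ zpowers a) : x * h * x⁻¹ = h⁻¹ := by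
  obtain ⟨k, rfl⟩ := mem_zpowers_iff.mp hh
  rw [← conj_zpow, hxa, inv_zpow]

/-- elements outside `⟨a⟩` have fourth power one -/
theorem mul_pow_four_of_quaternion_data {G : Type*} [Group G] (a x : G) (m : ℕ) (hm : 1 ≤ m)
    (hord : orderOf a = 2 ^ m) (hxa : x * a * x⁻¹ = a⁻¹) (hx2 : x ^ 2 = a ^ (2 ^ (m - 1)))
    (h : G) (hh : h ∈ zpowers a) : (x * h) ^ 4 = 1 := by
  have hinv := conj_eq_inv_of_mem_zpowers a x hxa h hh
  have hx2mem : x ^ 2 ∈ zpowers a := by rw [hx2]; exact pow_mem (mem_zpowers a) _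
  have hcomm : x ^ 2 * h = h * x ^ 2 := by
    obtain ⟨k, rfl⟩ := mem_zpowers_iff.mp hh
    rw [hx2]
    exact ((Commute.refl a).pow_left _).zpow_right k |>.eq
  have hsq : (x * h) ^ 2 = x ^ 2 := by
    calc (x * h) ^ 2 = (x * h * x⁻¹) * (x ^ 2 * h) := by rw [pow_two, pow_two]; group
      _ = h⁻¹ * (h * x ^ 2) := by rw [hinv, hcomm]
      _ = x ^ 2 := by group
  calc (x * h) ^ 4 = ((x * h) ^ 2) ^ 2 := by rw [← pow_mul]
    _ = (a ^ (2 ^ (m - 1))) ^ 2 := by rw [hsq, hx2]
    _ = a ^ (2 ^ m) := by rw [← pow_mul, ← pow_succ]; congr 2; omega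
    _ = 1 := by rw [← hord]; exact pow_orderOf_eq_one a

/-- **A2**: an element of odd order normalizing a generalized quaternion group of order at least
`16` centralizes it -/
theorem mem_centralizer_of_quaternion_data {G : Type*} [Group G] [Finite G] (Q : Subgroup G)
    (a x : G) (m : ℕ) (hm : 3 ≤ m) (hord : orderOf a = 2 ^ m)
    (hxnot : x ∉ zpowers a) (hxa : x * a * x⁻¹ = a⁻¹) (hx2 : x ^ 2 = a ^ (2 ^ (m - 1)))
    (hall : ∀ q ∈ Q, q ∈ zpowers a ∨ ∃ h ∈ zpowers a, q = x * h)
    (haQ : a ∈ Q) (hxQ : x ∈ Q)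
    (g : G) (hg : ∀ q ∈ Q, g * q * g⁻¹ ∈ Q) (hodd : Odd (orderOf g)) :
    g ∈ centralizer (Q : Set G) := by
  -- `g` normalizes `⟨a⟩`
  have h3 : g * a * g⁻¹ ∈ zpowers a := by
    rcases hall _ (hg a haQ) with h | ⟨h, hh, heq⟩
    · exact h
    · exfalso
      have h4 := mul_pow_four_of_quaternion_data a x m (by omega) hord hxa hx2 h hh
      rw [← heq, conj_pow] at h4
      have h5 : a ^ 4 = 1 := by
        have : g⁻¹ * (g * a ^ 4 * g⁻¹) * g = g⁻¹ * 1 * g := by rw [h4]
        simpa [mul_assoc] using this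
      have h6 := orderOf_dvd_of_pow_eq_one h5
      rw [hord] at h6
      have h7 : 2 ^ 3 ≤ 2 ^ m := Nat.pow_le_pow_right (by norm_num) hm
      have := Nat.le_of_dvd (by norm_num) h6
      omega
  have hnorm : g ∈ normalizer ((zpowers a : Subgroup G) : Set G) := by
    apply mem_normalizer_of_forall_conj_mem
    intro h hh
    obtain ⟨k, rfl⟩ := mem_zpowers_iff.mp hh
    rw [← conj_zpow]
    exact zpow_mem h3 k
  have hP : IsPGroup 2 (zpowers a) := by
    have : Fact (Nat.Prime 2) := ⟨Nat.prime_two⟩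
    exact IsPGroup.of_card (n := m) (by rw [Nat.card_zpowers, hord])
  have hcent := mem_centralizer_of_mem_normalizer_cyclic_two (zpowers a) hP g hnorm hodd
  have hgh : ∀ h ∈ zpowers a, g * h * g⁻¹ = h := by
    intro h hh
    have := mem_centralizer_iff.mp hcent h hh
    rw [← this]; group
  -- `g x g⁻¹ = x h`
  obtain ⟨h, hh, hgx⟩ : ∃ h ∈ zpowers a, g * x * g⁻¹ = x * h := by
    rcases hall _ (hg x hxQ) with h | h
    · exfalso
      apply hxnot
      have hy := hgh _ h
      have hx : x = g * x * g⁻¹ := by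
        calc x = g⁻¹ * (g * x * g⁻¹) * g := by group
          _ = g⁻¹ * (g * (g * x * g⁻¹) * g⁻¹) * g := by rw [hy]
          _ = g * x * g⁻¹ := by group
      rw [hx]; exact h
    · exact h
  -- iterate
  have hiter : ∀ j : ℕ, g ^ j * x * (g ^ j)⁻¹ = x * h ^ j := by
    intro j
    induction j with
    | zero => simp
    | succ j ih =>
      have hhj : h ^ j ∈ zpowers a := pow_mem hh j
      calc g ^ (j + 1) * x * (g ^ (j + 1))⁻¹ = g * (g ^ j * x * (g ^ j)⁻¹) * g⁻¹ := by
            rw [pow_succ']; group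
        _ = g * (x * h ^ j) * g⁻¹ := by rw [ih]
        _ = (g * x * g⁻¹) * (g * h ^ j * g⁻¹) := by group
        _ = x * h * h ^ j := by rw [hgx, hgh _ hhj]
        _ = x * h ^ (j + 1) := by rw [pow_succ', mul_assoc]
  have hh1 : h = 1 := by
    have h1 := hiter (orderOf g)
    rw [pow_orderOf_eq_one, one_mul, inv_one, mul_one] at h1
    have h2 : h ^ orderOf g = 1 := by
      have := mul_left_cancel (a := x) (b := 1) (c := h ^ orderOf g) (by rw [mul_one]; exact h1)
      exact this.symm
    have h3 : orderOf h ∣ orderOf g := orderOf_dvd_of_pow_eq_one h2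
    have h4 : orderOf h ∣ 2 ^ m := by
      rw [← hord]; exact orderOf_dvd_of_mem_zpowers hh
    have hcop : Nat.Coprime (orderOf g) (2 ^ m) :=
      Nat.Coprime.pow_right m (Nat.coprime_two_right.mpr hodd)
    have h5 : orderOf h = 1 := Nat.eq_one_of_dvd_coprimes hcop h3 h4
    exact orderOf_eq_one_iff.mp h5
  rw [hh1, mul_one] at hgx
  rw [mem_centralizer_iff]
  intro q hq
  rcases hall q hq with hqa | ⟨h', hh', rfl⟩
  · have := hgh q hqa
    calc q * g = (g * q * g⁻¹) * g := by rw [this]
      _ = g * q := by group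
  · have h1 := hgh h' hh'
    calc x * h' * g = (g * x * g⁻¹) * (g * h' * g⁻¹) * g := by rw [hgx, h1]
      _ = g * (x * h') := by group

/-- the only involution of `QuaternionGroup N` is `a N` -/
theorem quaternionGroup_eq_of_orderOf_eq_two {N : ℕ} [NeZero N] (g : QuaternionGroup N)
    (hg : orderOf g = 2) : g = QuaternionGroup.a (N : ZMod (2 * N)) := by
  rcases g with i | i
  · have h1 : (QuaternionGroup.a i : QuaternionGroup N) ^ 2 = 1 := by
      rw [← hg]; exact pow_orderOf_eq_one _
    have hne : (QuaternionGroup.a i : QuaternionGroup N) ≠ 1 := by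
      intro h
      rw [h, orderOf_one] at hg
      omega
    rw [pow_two, QuaternionGroup.a_mul_a, QuaternionGroup.one_def] at h1
    have h2 : i + i = 0 := by
      injection h1
    have hi0 : i ≠ 0 := by
      intro h
      apply hne
      rw [h, QuaternionGroup.one_def]
    have h3 : ((i.val + i.val : ℕ) : ZMod (2 * N)) = 0 := by
      rw [Nat.cast_add, ZMod.natCast_zmod_val, h2]
    rw [ZMod.natCast_eq_zero_iff] at h3
    have h4 : i.val < 2 * N := ZMod.val_lt i
    have h5 : i.val ≠ 0 := by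
      intro h
      exact hi0 ((ZMod.val_eq_zero i).mp h)
    have h6 : i.val = N := by
      obtain ⟨k, hk⟩ := h3
      have : k = 1 := by
        rcases k with _ | _ | k
        · omega
        · rfl
        · exfalso
          have : 2 * N * (k + 2) ≥ 2 * N * 2 := Nat.mul_le_mul_left _ (by omega)
          rw [← hk] at this
          omega
      subst this
      omega
    congr 1
    have h7 : ((i.val : ℕ) : ZMod (2 * N)) = ((N : ℕ) : ZMod (2 * N)) := by rw [h6]
    rwa [ZMod.natCast_zmod_val] at h7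
  · exfalso
    rw [QuaternionGroup.orderOf_xa] at hg
    omega

/-- a normal subgroup of exponent dividing `4` of a generalized quaternion group of order at
least `32` consists of rotations -/
theorem quaternionGroup_normal_exponent_four {N : ℕ} [NeZero N] (hN : ¬ (2 * N ∣ 8))
    (S : Subgroup (QuaternionGroup N)) [hS : S.Normal] (h4 : ∀ s ∈ S, s ^ 4 = 1)
    (s : QuaternionGroup N) (hs : s ∈ S) : ∃ i, s = QuaternionGroup.a i := by
  rcases s with i | i
  · exact ⟨i, rfl⟩
  · exfalso
    have h1 : QuaternionGroup.a (1 : ZMod (2 * N)) * QuaternionGroup.xa i *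
        (QuaternionGroup.a (1 : ZMod (2 * N)))⁻¹ ∈ S := hS.conj_mem _ hs _
    have h2 : QuaternionGroup.xa i * (QuaternionGroup.a (1 : ZMod (2 * N)) * QuaternionGroup.xa i *
        (QuaternionGroup.a (1 : ZMod (2 * N)))⁻¹) ∈ S := S.mul_mem hs h1
    have h3 := h4 _ h2
    have h5 : (QuaternionGroup.a (1 : ZMod (2 * N)))⁻¹ = QuaternionGroup.a (-1) := rfl
    rw [h5, QuaternionGroup.a_mul_xa, QuaternionGroup.xa_mul_a, QuaternionGroup.xa_mul_xa] at h3
    have h6 : (QuaternionGroup.a ((N : ZMod (2 * N)) + (i - 1 + -1) - i) : QuaternionGroup N) ^ 4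
        = QuaternionGroup.a (-8) := by
      rw [show (4 : ℕ) = 1 + 1 + 1 + 1 from rfl, pow_succ, pow_succ, pow_succ, pow_one,
        QuaternionGroup.a_mul_a, QuaternionGroup.a_mul_a, QuaternionGroup.a_mul_a]
      congr 1
      have : ((2 * N : ℕ) : ZMod (2 * N)) = 0 := ZMod.natCast_self _
      push_cast at this
      linear_combination 2 * this
    rw [h6, QuaternionGroup.one_def] at h3
    have h7 : (-8 : ZMod (2 * N)) = 0 := by injection h3
    have h8 : ((8 : ℕ) : ZMod (2 * N)) = 0 := by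
      push_cast
      linear_combination - h7
    rw [ZMod.natCast_eq_zero_iff] at h8
    exact hN h8

/-- transported version: in a group isomorphic to a generalized quaternion group of order at
least `32`, a normal subgroup of exponent dividing `4` is commutative -/
theorem comm_of_normal_exponent_four {T : Type*} [Group T] {N : ℕ} [NeZero N]
    (hN : ¬ (2 * N ∣ 8)) (e : T ≃* QuaternionGroup N) (S : Subgroup T) [hS : S.Normal]
    (h4 : ∀ s ∈ S, s ^ 4 = 1) (s t : T) (hs : s ∈ S) (ht : t ∈ S) : s * t = t * s := by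
  have hS' : (S.map e.toMonoidHom).Normal := hS.map _ e.surjective
  have h4' : ∀ u ∈ S.map e.toMonoidHom, u ^ 4 = 1 := by
    rintro u ⟨v, hv, rfl⟩
    rw [← map_pow, h4 v hv, map_one]
  obtain ⟨i, hi⟩ := quaternionGroup_normal_exponent_four hN (S.map e.toMonoidHom) h4' (e s)
    ⟨s, hs, rfl⟩
  obtain ⟨j, hj⟩ := quaternionGroup_normal_exponent_four hN (S.map e.toMonoidHom) h4' (e t)
    ⟨t, ht, rfl⟩
  apply e.injective
  rw [map_mul, map_mul, hi, hj, QuaternionGroup.a_mul_a, QuaternionGroup.a_mul_a, add_comm]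

/-- unique involution in a group isomorphic to a generalized quaternion group -/
theorem eq_of_orderOf_eq_two_of_quaternion {T : Type*} [Group T] {N : ℕ} [NeZero N]
    (e : T ≃* QuaternionGroup N) (s t : T) (hs : orderOf s = 2) (ht : orderOf t = 2) : s = t := by
  apply e.injective
  rw [quaternionGroup_eq_of_orderOf_eq_two (e s) (by rw [MulEquiv.orderOf_eq, hs]),
    quaternionGroup_eq_of_orderOf_eq_two (e t) (by rw [MulEquiv.orderOf_eq, ht])]

end Cfsg.Agent.Lib.Helper1
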