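import Mathlib
import Cfsg.Prelude.Def_OddOrderLocal
import Cfsg.Agent.S0118
import Cfsg.Agent.S1450
import Cfsg.Agent.Lib.Helper9.PLengthFusion
import Cfsg.Agent.Lib.Helper17.BGUniqG
import Cfsg.Agent.Lib.Helper8.Conj

/-!
# Bender–Glauberman §10 (helper1), part 1: basics and control of fusion by `N(Z(J(S)))`

All results about a minimal simple group of odd order `G`.  The Uniqueness Theorem (S1403) enters
as the explicit hypothesis `UT G`.
-/

set_option autoImplicit false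
set_option linter.unusedSectionVars false
set_option linter.style.haveILetI false

namespace Cfsg.Agent.Lib.Helper1.BGX

open Cfsg

variable {G : Type*} [Group G]

/-- The conclusion of the Uniqueness Theorem (S1403) for `G`. -/
def UT (G : Type*) [Group G] : Prop :=
  ∀ K : Subgroup G, K ≠ ⊤ → ¬ Cfsg.RankLE 1 K →
    (¬ Cfsg.RankLE 2 K ∨ ¬ Cfsg.RankLE 2 (Subgroup.centralizer (K : Set G))) →
    Cfsg.InUniqueMaximal K

/-- `N` controls strong fusion in `P` with respect to `G` (left conjugation). -/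
def CSF (N P : Subgroup G) : Prop :=
  ∀ (A : Set G) (g : G), A ⊆ (P : Set G) → (∀ a ∈ A, g * a * g⁻¹ ∈ P) →
    ∃ x ∈ N, ∀ a ∈ A, x * a * x⁻¹ = g * a * g⁻¹

theorem CSF.mono {N N' P : Subgroup G} (h : CSF N P) (hN : N ≤ N') : CSF N' P := by
  intro A g hA hg
  obtain ⟨x, hx, hxa⟩ := h A g hA hg
  exact ⟨x, hN hx, hxa⟩

theorem odd_card_subgroup [Finite G] (hodd : Odd (Nat.card G)) (H : Subgroup G) :
    Odd (Nat.card H) :=
  Odd.of_dvd_nat hodd (Subgroup.card_subgroup_dvd_card H)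

theorem ne_two_of_dvd [Finite G] (hodd : Odd (Nat.card G)) {p : ℕ} (hp : p ∣ Nat.card G) :
    p ≠ 2 := by
  rintro rfl
  exact (Nat.not_even_iff_odd.mpr hodd) (even_iff_two_dvd.mpr hp)

theorem ne_two_of_dvd_sub [Finite G] (hodd : Odd (Nat.card G)) {p : ℕ} {H : Subgroup G}
    (hp : p ∣ Nat.card H) : p ≠ 2 :=
  ne_two_of_dvd hodd (hp.trans (Subgroup.card_subgroup_dvd_card H))

/-- A group of odd order has no section isomorphic to `SL₂(p)`, `p` odd. -/
theorem no_sl2_section [Finite G] (hodd : Odd (Nat.card G)) {p : ℕ} [Fact p.Prime] (hp : p ≠ 2) :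
    ¬ ∃ (H K : Subgroup G) (hK : (K.subgroupOf H).Normal),
      Nonempty ((H ⧸ K.subgroupOf H) ≃* Matrix.SpecialLinearGroup (Fin 2) (ZMod p)) := by
  rintro ⟨H, K, hK, ⟨e⟩⟩
  -- the section has odd order
  have h1 : Odd (Nat.card (H ⧸ K.subgroupOf H)) := by
    have hd : Nat.card (H ⧸ K.subgroupOf H) ∣ Nat.card H := by
      have := Subgroup.card_eq_card_quotient_mul_card_subgroup (K.subgroupOf H)
      exact Dvd.intro _ this.symm
    exact Odd.of_dvd_nat (odd_card_subgroup hodd H) hd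
  rw [Nat.card_congr e.toEquiv] at h1
  -- but `-1` has order 2 in `SL₂(p)`
  haveI : Fact (Even (Fintype.card (Fin 2))) := ⟨by decide⟩
  have hne : (-1 : Matrix.SpecialLinearGroup (Fin 2) (ZMod p)) ≠ 1 := by
    intro h
    have h2 := congrArg (fun A : Matrix.SpecialLinearGroup (Fin 2) (ZMod p) => A.1 0 0) h
    simp only [Matrix.SpecialLinearGroup.coe_neg, Matrix.SpecialLinearGroup.coe_one,
      Matrix.neg_apply, Matrix.one_apply_eq] at h2
    have h3 : (2 : ZMod p) = 0 := by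
      have : (1 : ZMod p) + 1 = 0 := by
        nth_rewrite 1 [← h2]; ring
      rw [← this]; norm_num
    have h4 : ((2 : ℕ) : ZMod p) = 0 := by exact_mod_cast h3
    rw [ZMod.natCast_eq_zero_iff] at h4
    have hpp : p.Prime := Fact.out
    have := (Nat.prime_dvd_prime_iff_eq hpp Nat.prime_two).mp h4
    exact hp this
  have hsq : (-1 : Matrix.SpecialLinearGroup (Fin 2) (ZMod p)) ^ 2 = 1 := by
    ext i j
    simp [pow_two]
  have ho : orderOf (-1 : Matrix.SpecialLinearGroup (Fin 2) (ZMod p)) = 2 :=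
    orderOf_eq_prime hsq hne
  have hdvd : 2 ∣ Nat.card (Matrix.SpecialLinearGroup (Fin 2) (ZMod p)) := by
    have := orderOf_dvd_natCard (-1 : Matrix.SpecialLinearGroup (Fin 2) (ZMod p))
    rwa [ho] at this
  exact (Nat.not_even_iff_odd.mpr h1) (even_iff_two_dvd.mpr hdvd)


open Cfsg.Agent.Lib.Helper8 (mem_map_conj conj_mem_map_conj mem_normalizer_iff_map_conj)

/-- `N_G(Z(J(S)))` controls strong fusion in the Sylow `p`-subgroup `S` of a group of odd order. -/
theorem csf_zj {G : Type*} [Group G] [Finite G] (hodd : Odd (Nat.card G)) {p : ℕ} [Fact p.Prime]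
    (hp : p ≠ 2) (S : Sylow p G) :
    CSF (Subgroup.normalizer (Cfsg.centerThompsonOf p (S : Subgroup G) : Set G))
      (S : Subgroup G) := by
  intro A g hA hg
  exact Cfsg.Agent.Lib.Helper4.ZJEFusion.zjE_controls_fusion hp (no_sl2_section hodd hp) S A hA g
    (by rintro _ ⟨a, ha, rfl⟩; exact hg a ha)

theorem zj_le {G : Type*} [Group G] [Finite G] {p : ℕ} [Fact p.Prime] {S : Subgroup G}
    (hS : IsPGroup p S) : Cfsg.centerThompsonOf p S ≤ S :=
  ((Cfsg.Agent.Lib.Helper4.ZJEFusion.isConjugacyFunctor_zjE (p := p) G) S hS).1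

theorem zj_ne_bot {G : Type*} [Group G] [Finite G] {p : ℕ} [Fact p.Prime] {S : Subgroup G}
    (hS : IsPGroup p S) (hS1 : S ≠ ⊥) : Cfsg.centerThompsonOf p S ≠ ⊥ :=
  ((Cfsg.Agent.Lib.Helper4.ZJEFusion.isConjugacyFunctor_zjE (p := p) G) S hS).2.1 hS1

theorem normalizer_le_normalizer_zj {G : Type*} [Group G] [Finite G] {p : ℕ} [Fact p.Prime]
    {S : Subgroup G} (hS : IsPGroup p S) :
    Subgroup.normalizer (S : Set G) ≤
      Subgroup.normalizer (Cfsg.centerThompsonOf p S : Set G) := by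
  intro g hg
  rw [mem_normalizer_iff_map_conj] at hg ⊢
  have h := ((Cfsg.Agent.Lib.Helper4.ZJEFusion.isConjugacyFunctor_zjE (p := p) G) S hS).2.2 g
  simp only at h
  rw [hg] at h
  exact h.symm

/-- `p`-length one from: the index of `O_{p',p}` is prime to `p`. -/
theorem pLengthLE_one_of_coprime_index {G : Type*} [Group G] [Finite G] (p : ℕ) [Fact p.Prime]
    (h : ((Cfsg.pPrimePCore p G).index).Coprime p) : Cfsg.PLengthLE p 1 G := by
  unfold Cfsg.PLengthLE
  show (Cfsg.upperPSeries p G (2 + 1)).1 = ⊤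
  rw [Cfsg.Agent.Lib.Helper9.upperPSeries_succ_of_even p (by decide : Even 2)]
  have key : ∀ (N : Subgroup G) [N.Normal], N = Cfsg.pPrimePCore p G →
      (Cfsg.pPrimeCore p (G ⧸ N)).comap (QuotientGroup.mk' N) = ⊤ := by
    intro N _ hN
    subst hN
    have : Cfsg.pPrimeCore p (G ⧸ Cfsg.pPrimePCore p G) = ⊤ := by
      rw [eq_top_iff]
      apply le_sSup
      refine ⟨inferInstance, ?_⟩
      rw [Subgroup.card_top]
      exact h
    rw [this, Subgroup.comap_top]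
  haveI := (Cfsg.upperPSeries p G 2).2
  exact key _ (Cfsg.Agent.Lib.Helper9.upperPSeries_two p)

theorem pRankLE_subgroup {G : Type*} [Group G] {p k : ℕ} (h : Cfsg.PRankLE p k G)
    (H : Subgroup G) : Cfsg.PRankLE p k ↥H := by
  intro A hAc hAp
  have hcard : Nat.card (A.map H.subtype) = Nat.card A :=
    Subgroup.card_map_of_injective H.subtype_injective
  rw [← hcard]
  apply h
  · refine ⟨⟨?_⟩⟩
    rintro ⟨_, ⟨a, ha, rfl⟩⟩ ⟨_, ⟨b, hb, rfl⟩⟩
    apply Subtype.ext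
    show H.subtype a * H.subtype b = H.subtype b * H.subtype a
    rw [← map_mul, ← map_mul]
    congr 1
    have := hAc.is_comm.comm (⟨a, ha⟩ : A) ⟨b, hb⟩
    exact congrArg Subtype.val this
  · rintro _ ⟨a, ha, rfl⟩
    rw [← map_pow, hAp a ha, map_one]


theorem pRankLE_mono {G : Type*} [Group G] {p k l : ℕ} (hp : 0 < p) (hkl : k ≤ l)
    (h : Cfsg.PRankLE p k G) : Cfsg.PRankLE p l G := fun A hA hAp =>
  (h A hA hAp).trans (Nat.pow_le_pow_right hp hkl)

/-- If `N_G(S) ≤ H` for a proper subgroup `H`, `G` of `p`-rank at most 2 (odd order, proper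
subgroups solvable), then `N_G(S)` controls strong fusion in `S` inside `H`. -/
theorem csf_in_of_rank_two {G : Type*} [Group G] [Finite G] (hodd : Odd (Nat.card G))
    {p : ℕ} [Fact p.Prime] (S : Sylow p G) (hS1 : (S : Subgroup G) ≠ ⊥)
    (hr : Cfsg.PRankLE p 2 G) {H : Subgroup G} (hsol : Group.IsSolvable ↥H)
    (hSH : (S : Subgroup G) ≤ H) (A : Set G) (x : G) (hx : x ∈ H) (hA : A ⊆ (S : Set G))
    (hxA : ∀ a ∈ A, x * a * x⁻¹ ∈ (S : Subgroup G)) :
    ∃ n ∈ Subgroup.normalizer ((S : Subgroup G) : Set G), ∀ a ∈ A, n * a * n⁻¹ = x * a * x⁻¹ := by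
  have hpp : p.Prime := Fact.out
  have hoddH : Odd (Nat.card ↥H) := odd_card_subgroup hodd H
  have hpH : p ∣ Nat.card ↥H := by
    have h1 : p ∣ Nat.card (S : Subgroup G) := by
      obtain ⟨n, hn⟩ := IsPGroup.iff_card.mp S.isPGroup'
      rw [hn]
      rcases Nat.eq_zero_or_pos n with h0 | h0
      · exfalso
        rw [h0, pow_zero] at hn
        exact hS1 (Subgroup.card_eq_one.mp hn)
      · exact dvd_pow_self p (by omega)
    exact h1.trans (Subgroup.card_dvd_of_le hSH)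
  have h1450 := Cfsg.Agent.S1450.result (G := ↥H) hoddH p hpH (pRankLE_subgroup hr H)
  have hpl : Cfsg.PLengthLE p 1 ↥H := pLengthLE_one_of_coprime_index p h1450.2.2.2.2.2
  obtain ⟨n, hn, c, hc, hnc⟩ := Cfsg.Agent.Lib.Helper9.exists_normalizer_mul_centralizer hpl
    (S.subtype hSH) (H.subtype ⁻¹' A) ⟨x, hx⟩ (by
      intro y hy
      rw [SetLike.mem_coe, Sylow.coe_subtype, Subgroup.mem_subgroupOf]
      exact hA hy) (by
      rintro _ ⟨y, hy, rfl⟩
      rw [SetLike.mem_coe, Sylow.coe_subtype, Subgroup.mem_subgroupOf]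
      exact hxA _ hy)
  have hnN : (n : G) ∈ Subgroup.normalizer ((S : Subgroup G) : Set G) := by
    apply Cfsg.Agent.Lib.Helper1.mem_normalizer_of_forall_conj_mem
    intro s hs
    have h2 := (Subgroup.mem_normalizer_iff.mp hn ⟨s, hSH hs⟩).mp (by
      rw [Sylow.coe_subtype, Subgroup.mem_subgroupOf]; exact hs)
    rw [Sylow.coe_subtype, Subgroup.mem_subgroupOf] at h2
    simpa using h2
  refine ⟨n, hnN, fun a ha => ?_⟩
  have hcomm : (c : G) * a = a * c := by
    have h3 := Subgroup.mem_centralizer_iff.mp hc ⟨a, hSH (hA ha)⟩ (by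
      show H.subtype ⟨a, hSH (hA ha)⟩ ∈ A
      exact ha)
    have := congrArg Subtype.val h3
    simpa using this.symm
  have hx' : x = (n : G) * (c : G) := by
    have := congrArg Subtype.val hnc
    simpa using this.symm
  rw [hx']
  calc (n : G) * a * (n : G)⁻¹ = n * (a * c) * (c : G)⁻¹ * (n : G)⁻¹ := by group
    _ = n * (c * a) * (c : G)⁻¹ * (n : G)⁻¹ := by rw [hcomm]
    _ = (n : G) * c * a * ((n : G) * c)⁻¹ := by group


theorem sylow_ne_top {G : Type*} [Group G] [Finite G] (hG : Cfsg.IsMinSimpleOddOrder G)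
    {p : ℕ} [Fact p.Prime] (S : Sylow p G) : (S : Subgroup G) ≠ ⊤ := by
  haveI := hG.2.1
  exact Cfsg.Agent.Lib.Helper17.BGU.not_isPGroup_top_of_simple hG.2.2.1 S

/-- A Sylow subgroup of `p`-rank at least 3 lies in a unique maximal subgroup. -/
theorem sylow_inUniqueMaximal {G : Type*} [Group G] [Finite G] (hG : Cfsg.IsMinSimpleOddOrder G)
    (hU : UT G) {p : ℕ} [Fact p.Prime] (S : Sylow p G) (hr : ¬ Cfsg.PRankLE p 2 G) :
    Cfsg.InUniqueMaximal (S : Subgroup G) := by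
  have hpp : p.Prime := Fact.out
  have hr2 : ¬ Cfsg.PRankLE p 2 ↥(S : Subgroup G) := by
    intro h
    apply hr
    apply Cfsg.Agent.Lib.Helper17.BGU.pRankLE_of_sylow S
    intro E hES hEc hEp
    have hcard : Nat.card (E.subgroupOf (S : Subgroup G)) = Nat.card E :=
      Cfsg.Agent.Lib.Helper1.card_subgroupOf_of_le hES
    rw [← hcard]
    apply h
    · refine ⟨⟨?_⟩⟩
      rintro ⟨a, ha⟩ ⟨b, hb⟩
      apply Subtype.ext
      apply Subtype.ext
      have := hEc.is_comm.comm (⟨a, Subgroup.mem_subgroupOf.mp ha⟩ : E)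
        ⟨b, Subgroup.mem_subgroupOf.mp hb⟩
      have h3 := congrArg Subtype.val this
      simpa using h3
    · intro a ha
      apply Subtype.ext
      have := hEp a (Subgroup.mem_subgroupOf.mp ha)
      simpa using this
  apply hU _ (sylow_ne_top hG S)
  · intro h1
    exact hr2 (pRankLE_mono hpp.pos (by norm_num) (h1 p hpp))
  · left
    intro h2
    exact hr2 (h2 p hpp)

/-- **BG Theorem 10.1, core**: if `S` is a Sylow `p`-subgroup of `G` with `N_G(S) ≤ M`,
`M` maximal, then `M` controls strong fusion in `S`. -/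
theorem csf_of_sylow_normalizer_le {G : Type*} [Group G] [Finite G]
    (hG : Cfsg.IsMinSimpleOddOrder G) (hU : UT G) {M : Subgroup G} (hM : IsCoatom M)
    {p : ℕ} [Fact p.Prime] (S : Sylow p G) (hS1 : (S : Subgroup G) ≠ ⊥)
    (hSM : Subgroup.normalizer ((S : Subgroup G) : Set G) ≤ M) : CSF M (S : Subgroup G) := by
  haveI := hG.2.1
  have hodd := hG.1
  have hpp : p.Prime := Fact.out
  have hp2 : p ≠ 2 := by
    have h1 : p ∣ Nat.card (S : Subgroup G) := by
      obtain ⟨n, hn⟩ := IsPGroup.iff_card.mp S.isPGroup'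
      rw [hn]
      rcases Nat.eq_zero_or_pos n with h0 | h0
      · exfalso
        rw [h0, pow_zero] at hn
        exact hS1 (Subgroup.card_eq_one.mp hn)
      · exact dvd_pow_self p (by omega)
    exact ne_two_of_dvd_sub hodd h1
  have hcsf := csf_zj hodd hp2 S
  set N₀ := Subgroup.normalizer (Cfsg.centerThompsonOf p (S : Subgroup G) : Set G) with hN₀
  have hSN₀ : (S : Subgroup G) ≤ N₀ :=
    Subgroup.le_normalizer.trans (normalizer_le_normalizer_zj S.isPGroup')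
  have hN₀top : N₀ ≠ ⊤ := by
    apply Cfsg.Agent.Lib.Helper17.BGU.normalizer_ne_top (zj_ne_bot S.isPGroup' hS1)
    intro h
    apply sylow_ne_top hG S
    rw [eq_top_iff, ← h]
    exact zj_le S.isPGroup'
  by_cases hr : Cfsg.PRankLE p 2 G
  · -- rank at most 2: `N_G(S)` controls strong fusion
    have hsol : Group.IsSolvable ↥N₀ := hG.2.2.2 N₀ hN₀top
    intro A g hA hg
    obtain ⟨x, hx, hxa⟩ := hcsf A g hA hg
    obtain ⟨n, hn, hna⟩ := csf_in_of_rank_two hodd S hS1 hr hsol hSN₀ A x hx hA (by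
      intro a ha
      rw [hxa a ha]; exact hg a ha)
    exact ⟨n, hSM hn, fun a ha => (hna a ha).trans (hxa a ha)⟩
  · -- rank at least 3: uniqueness theorem
    obtain ⟨L, ⟨hL, hSL⟩, huniq⟩ := sylow_inUniqueMaximal hG hU S hr
    have hML : M = L := huniq M ⟨hM, Subgroup.le_normalizer.trans hSM⟩
    obtain ⟨L', hL', hNL'⟩ := Cfsg.Agent.Lib.Helper17.BGU.exists_coatom_ge hN₀top
    have hL'L : L' = L := huniq L' ⟨hL', hSN₀.trans hNL'⟩
    apply hcsf.mono
    rw [hML, ← hL'L]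
    exact hNL'


/-- For `p ∈ σ(M)` there is a Sylow `p`-subgroup `S` of `G` with `S ≤ N_G(S) ≤ M`. -/
theorem exists_sylow_of_mem_sigma {G : Type*} [Group G] [Finite G] {M : Subgroup G} {p : ℕ}
    [Fact p.Prime] (hp : p ∈ Cfsg.sigma M) :
    ∃ S : Sylow p G, (S : Subgroup G) ≤ M ∧ (S : Subgroup G) ≠ ⊥ ∧
      Subgroup.normalizer ((S : Subgroup G) : Set G) ≤ M := by
  obtain ⟨hpp, hdvd, P, hPN⟩ := hp
  set P' : Subgroup G := (P : Subgroup M).map M.subtype with hP'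
  have hP'p : IsPGroup p P' := P.isPGroup'.map _
  have hP'M : P' ≤ M := Subgroup.map_subtype_le _
  obtain ⟨S, hS⟩ := hP'p.exists_le_sylow
  have heq : P' = (S : Subgroup G) := by
    rcases eq_or_lt_of_le hS with h | h
    · exact h
    · exfalso
      have h1 := Cfsg.Agent.Lib.Helper17.BGU.lt_inf_normalizer S.isPGroup' h
      set T := (S : Subgroup G) ⊓ Subgroup.normalizer (P' : Set G) with hT
      have hTM : T ≤ M := inf_le_right.trans hPN
      have hTp : IsPGroup p T := S.isPGroup'.to_le inf_le_left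
      have h2 : (P : Subgroup M) ≤ T.subgroupOf M := by
        intro x hx
        rw [Subgroup.mem_subgroupOf]
        exact h1.le ⟨x, hx, rfl⟩
      have h3 := P.is_maximal' hTp.comap_subtype h2
      have h4 : T = P' := by
        rw [hP', ← h3]
        exact (Subgroup.map_subgroupOf_eq_of_le hTM).symm
      exact (ne_of_gt h1) h4
  refine ⟨S, heq ▸ hP'M, ?_, heq ▸ hPN⟩
  intro hbot
  have h1 : P' = ⊥ := heq.trans hbot
  have h2 : (P : Subgroup M) = ⊥ := by
    rw [hP'] at h1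
    exact (Subgroup.map_eq_bot_iff_of_injective _ M.subtype_injective).mp h1
  have h3 : p ∣ Nat.card (P : Subgroup M) := P.dvd_card_of_dvd_card hdvd
  rw [h2, Subgroup.card_bot] at h3
  exact hpp.one_lt.ne' (Nat.dvd_one.mp h3)

/-- Sylow's theorem inside a subgroup `M` containing the Sylow `p`-subgroup `S` of `G`. -/
theorem exists_conj_le_sylow_in {G : Type*} [Group G] [Finite G] {M : Subgroup G} {p : ℕ}
    [Fact p.Prime] (S : Sylow p G) (hSM : (S : Subgroup G) ≤ M) {Y : Subgroup G}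
    (hY : IsPGroup p Y) (hYM : Y ≤ M) :
    ∃ m ∈ M, ∀ y ∈ Y, m * y * m⁻¹ ∈ (S : Subgroup G) := by
  have hY' : IsPGroup p ↥(Y.subgroupOf M) := hY.comap_subtype
  obtain ⟨Q, hQ⟩ := hY'.exists_le_sylow
  obtain ⟨m, hm⟩ := MulAction.exists_smul_eq ↥M Q (S.subtype hSM)
  refine ⟨m, m.2, fun y hy => ?_⟩
  have h1 : (⟨y, hYM hy⟩ : M) ∈ (Q : Subgroup M) := hQ (Subgroup.mem_subgroupOf.mpr hy)
  have h2 : m * ⟨y, hYM hy⟩ * m⁻¹ ∈ ((m • Q : Sylow p M) : Subgroup M) := by
    rw [Cfsg.Agent.Lib.Helper1.mem_sylow_smul_iff]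
    have e : m⁻¹ * (m * ⟨y, hYM hy⟩ * m⁻¹) * m = ⟨y, hYM hy⟩ := by group
    rw [e]; exact h1
  rw [hm, Sylow.coe_subtype, Subgroup.mem_subgroupOf] at h2
  simpa using h2

/-- **BG Theorem 10.1(a)**. -/
theorem sigma_fusion {G : Type*} [Group G] [Finite G] (hG : Cfsg.IsMinSimpleOddOrder G) (hU : UT G)
    {M : Subgroup G} (hM : IsCoatom M) {p : ℕ} [Fact p.Prime] (hp : p ∈ Cfsg.sigma M)
    {X : Subgroup G} (hXp : IsPGroup p X) (hXM : X ≤ M) (g : G)
    (hg : X.map (MulAut.conj g).toMonoidHom ≤ M) :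
    ∃ m ∈ M, ∃ c ∈ Subgroup.centralizer (X : Set G), g = m * c := by
  obtain ⟨S, hSM, hS1, hNM⟩ := exists_sylow_of_mem_sigma hp
  have hcsf := csf_of_sylow_normalizer_le hG hU hM S hS1 hNM
  obtain ⟨m₁, hm₁, h1⟩ := exists_conj_le_sylow_in S hSM hXp hXM
  obtain ⟨m₂, hm₂, h2⟩ := exists_conj_le_sylow_in S hSM (hXp.map (MulAut.conj g).toMonoidHom) hg
  obtain ⟨m, hm, hma⟩ := hcsf {a | ∃ x ∈ X, a = m₁ * x * m₁⁻¹} (m₂ * g * m₁⁻¹) (by
      rintro _ ⟨x, hx, rfl⟩
      exact h1 x hx) (by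
      rintro _ ⟨x, hx, rfl⟩
      have h3 := h2 (g * x * g⁻¹) (conj_mem_map_conj hx)
      have e : m₂ * g * m₁⁻¹ * (m₁ * x * m₁⁻¹) * (m₂ * g * m₁⁻¹)⁻¹ = m₂ * (g * x * g⁻¹) * m₂⁻¹ := by
        group
      rw [e]; exact h3)
  refine ⟨m₂⁻¹ * m * m₁, M.mul_mem (M.mul_mem (M.inv_mem hm₂) hm) hm₁, m₁⁻¹ * m⁻¹ * m₂ * g, ?_,
    by group⟩
  rw [Subgroup.mem_centralizer_iff]
  intro x hx
  have h3 := hma (m₁ * x * m₁⁻¹) ⟨x, hx, rfl⟩
  have e : m₂ * g * m₁⁻¹ * (m₁ * x * m₁⁻¹) * (m₂ * g * m₁⁻¹)⁻¹ = m₂ * g * x * g⁻¹ * m₂⁻¹ := by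
    group
  rw [e] at h3
  -- `m m₁ x m₁⁻¹ m⁻¹ = m₂ g x g⁻¹ m₂⁻¹`
  have h4 : m₁⁻¹ * m⁻¹ * m₂ * g * x = x * (m₁⁻¹ * m⁻¹ * m₂ * g) := by
    have : m₂ * g * x = m * (m₁ * x * m₁⁻¹) * m⁻¹ * m₂ * g := by
      rw [h3]; group
    calc m₁⁻¹ * m⁻¹ * m₂ * g * x = m₁⁻¹ * m⁻¹ * (m₂ * g * x) := by group
      _ = m₁⁻¹ * m⁻¹ * (m * (m₁ * x * m₁⁻¹) * m⁻¹ * m₂ * g) := by rw [this]
      _ = x * (m₁⁻¹ * m⁻¹ * m₂ * g) := by group
  exact h4.symm

/-- **BG Theorem 10.1(b)**. -/
theorem sigma_normalizer {G : Type*} [Group G] [Finite G] (hG : Cfsg.IsMinSimpleOddOrder G)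
    (hU : UT G) {M : Subgroup G} (hM : IsCoatom M) {p : ℕ} [Fact p.Prime] (hp : p ∈ Cfsg.sigma M)
    {X : Subgroup G} (hXp : IsPGroup p X) (hXM : X ≤ M) :
    Subgroup.normalizer (X : Set G) =
      (M ⊓ Subgroup.normalizer (X : Set G)) ⊔ Subgroup.centralizer (X : Set G) := by
  apply le_antisymm
  · intro g hg
    have h1 : X.map (MulAut.conj g).toMonoidHom = X := mem_normalizer_iff_map_conj.mp hg
    obtain ⟨m, hm, c, hc, rfl⟩ := sigma_fusion hG hU hM hp hXp hXM g (h1.le.trans hXM)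
    have hcN : c ∈ Subgroup.normalizer (X : Set G) := Subgroup.centralizer_le_normalizer _ hc
    have hmN : m ∈ Subgroup.normalizer (X : Set G) := by
      have := Subgroup.mul_mem _ hg (Subgroup.inv_mem _ hcN)
      simpa using this
    exact Subgroup.mul_mem_sup ⟨hm, hmN⟩ hc
  · exact sup_le inf_le_right (Subgroup.centralizer_le_normalizer _)

end Cfsg.Agent.Lib.Helper1.BGX
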