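import Mathlib
import Cfsg.Agent.Lib.Helper1.BGX1
import Cfsg.Agent.Lib.Helper17.Rank2Fitting
import Cfsg.Agent.Lib.Helper17.Rank2Solv
import Cfsg.Agent.Lib.Helper17.Bender
import Cfsg.Agent.Lib.Helper12.Cores
import Cfsg.Agent.S1451

/-!
# Bender–Glauberman §10 (helper1), part 2: `M_α` (Theorem 10.2)
-/

set_option autoImplicit false
set_option linter.unusedSectionVars false
set_option linter.style.haveILetI false

namespace Cfsg.Agent.Lib.Helper1.BGX

open Cfsg
open scoped commutatorElement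
open Cfsg.Agent.Lib.Helper8 (mem_map_conj conj_mem_map_conj mem_normalizer_iff_map_conj)

variable {G : Type*} [Group G] [Finite G]

/-- A minimal simple group is perfect. -/
theorem commutator_eq_top (hG : Cfsg.IsMinSimpleOddOrder G) : commutator G = ⊤ := by
  haveI := hG.2.1
  have hn : (commutator G).Normal := inferInstance
  rcases hn.eq_bot_or_eq_top with h | h
  · exact absurd ((_root_.commutator_eq_bot_iff G).mp h) hG.2.2.1
  · exact h

/-- If `M` controls strong fusion in the Sylow subgroup `S ≤ M` of the perfect group `G`, then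
`S ≤ M'`. -/
theorem sylow_le_commutator_of_csf (hG : Cfsg.IsMinSimpleOddOrder G) {M : Subgroup G} {p : ℕ}
    [Fact p.Prime] (S : Sylow p G) (hSM : (S : Subgroup G) ≤ M) (hcsf : CSF M (S : Subgroup G)) :
    (S : Subgroup G) ≤ ⁅M, M⁆ := by
  have h1 := Subgroup.commutator_inf_eq_focalSubgroup S
  rw [commutator_eq_top hG, top_inf_eq] at h1
  rw [h1, Subgroup.focalSubgroup_def, Subgroup.closure_le]
  rintro g ⟨hgS, x, hxS, u, rfl⟩
  have h2 : u * x⁻¹ * u⁻¹ ∈ (S : Subgroup G) := by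
    have e : u * x⁻¹ * u⁻¹ = x⁻¹ * ⁅x, u⁆ := by simp only [commutatorElement_def]; group
    rw [e]; exact Subgroup.mul_mem _ (Subgroup.inv_mem _ hxS) hgS
  obtain ⟨m, hm, hma⟩ := hcsf {x⁻¹} u (by
    rintro _ rfl; exact Subgroup.inv_mem _ hxS) (by rintro _ rfl; exact h2)
  have h3 := hma x⁻¹ rfl
  have e : ⁅x, u⁆ = ⁅x, m⁆ := by
    simp only [commutatorElement_def]
    calc x * u * x⁻¹ * u⁻¹ = x * (u * x⁻¹ * u⁻¹) := by group
      _ = x * (m * x⁻¹ * m⁻¹) := by rw [h3]
      _ = x * m * x⁻¹ * m⁻¹ := by group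
  rw [SetLike.mem_coe, e]
  exact Subgroup.commutator_mem_commutator (hSM hxS) hm

/-- `α(M) ⊆ σ(M)` for a maximal subgroup `M`. -/
theorem alpha_subset_sigma (hG : Cfsg.IsMinSimpleOddOrder G) (hU : UT G) {M : Subgroup G}
    (hM : IsCoatom M) {p : ℕ} (hp : p ∈ Cfsg.alpha M) : p ∈ Cfsg.sigma M := by
  obtain ⟨hpp, hr⟩ := hp
  haveI : Fact p.Prime := ⟨hpp⟩
  haveI := hG.2.1
  obtain ⟨P⟩ : Nonempty (Sylow p M) := inferInstance
  set P' : Subgroup G := (P : Subgroup M).map M.subtype with hP'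
  have hP'M : P' ≤ M := Subgroup.map_subtype_le _
  have hP'p : IsPGroup p P' := P.isPGroup'.map _
  -- `P'` has rank at least 3
  have hr3 : ¬ Cfsg.PRankLE p 2 ↥P' := by
    intro h
    apply hr
    apply Cfsg.Agent.Lib.Helper17.BGU.pRankLE_of_sylow P
    intro E hEP hEc hEp
    have hcard : Nat.card ((E.map M.subtype).subgroupOf P') = Nat.card E := by
      rw [Cfsg.Agent.Lib.Helper1.card_subgroupOf_of_le (Subgroup.map_mono hEP)]
      exact Subgroup.card_map_of_injective M.subtype_injective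
    rw [← hcard]
    apply h
    · refine ⟨⟨?_⟩⟩
      rintro ⟨⟨a, haP⟩, ha⟩ ⟨⟨b, hbP⟩, hb⟩
      apply Subtype.ext
      apply Subtype.ext
      obtain ⟨a', ha', rfl⟩ := Subgroup.mem_subgroupOf.mp ha
      obtain ⟨b', hb', rfl⟩ := Subgroup.mem_subgroupOf.mp hb
      have := hEc.is_comm.comm (⟨a', ha'⟩ : E) ⟨b', hb'⟩
      have h3 := congrArg (fun z : E => ((z : M) : G)) this
      simpa using h3
    · rintro ⟨a, haP⟩ ha
      apply Subtype.ext
      obtain ⟨a', ha', rfl⟩ := Subgroup.mem_subgroupOf.mp ha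
      have := hEp a' ha'
      have h3 := congrArg (fun z : M => (z : G)) this
      simpa using h3
  have hP'1 : P' ≠ ⊥ := by
    intro h
    apply hr3
    intro A _ _
    have : Nat.card A = 1 := by
      haveI : Subsingleton ↥P' := by rw [h]; infer_instance
      exact Nat.card_unique
    rw [this]
    exact Nat.one_le_pow _ _ hpp.pos
  have hP'top : P' ≠ ⊤ := fun h => hM.1 (top_le_iff.mp (h ▸ hP'M))
  have huniq : Cfsg.InUniqueMaximal P' := by
    apply hU _ hP'top
    · intro h1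
      exact hr3 (pRankLE_mono hpp.pos (by norm_num) (h1 p hpp))
    · left
      intro h2
      exact hr3 (h2 p hpp)
  obtain ⟨L, ⟨hL, hPL⟩, hLu⟩ := huniq
  have hML : M = L := hLu M ⟨hM, hP'M⟩
  have hNtop := Cfsg.Agent.Lib.Helper17.BGU.normalizer_ne_top hP'1 hP'top
  obtain ⟨L', hL', hNL'⟩ := Cfsg.Agent.Lib.Helper17.BGU.exists_coatom_ge hNtop
  have hL'L : L' = L := hLu L' ⟨hL', Subgroup.le_normalizer.trans hNL'⟩
  refine ⟨hpp, ?_, P, ?_⟩
  · -- `p ∣ |M|`
    by_contra hnd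
    apply hP'1
    have h1 : Nat.card (P : Subgroup M) = 1 := by
      rw [P.card_eq_multiplicity, Nat.factorization_eq_zero_of_not_dvd hnd, pow_zero]
    rw [hP', Subgroup.card_eq_one.mp h1, Subgroup.map_bot]
  · have h5 : L' = M := hL'L.trans hML.symm
    exact hNL'.trans h5.le


section Quot

variable {X : Type*} [Group X] [Finite X] (π : Set ℕ)

theorem pCore_quot_piCore_eq_bot {q : ℕ} [Fact q.Prime] (hq : q ∈ π) :
    Cfsg.pCore q (X ⧸ Cfsg.piCore π X) = ⊥ := by
  have hqq : q.Prime := Fact.out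
  rw [eq_bot_iff, ← Cfsg.Agent.Lib.Helper12.piCore_quotient_eq_bot π]
  apply Cfsg.Agent.Lib.Helper12.le_piCore π _ (Cfsg.Agent.Lib.Helper1.pCore_normal q _)
  intro r hr hdvd
  obtain ⟨n, hn⟩ := IsPGroup.iff_card.mp (Cfsg.Agent.Lib.Helper1.pCore_isPGroup q (X ⧸ Cfsg.piCore π X))
  rw [hn] at hdvd
  have : r = q := (Nat.prime_dvd_prime_iff_eq hr hqq).mp (hr.dvd_of_dvd_pow hdvd)
  rw [this]; exact hq

theorem eq_one_of_mem_fitting_quot {q : ℕ} [Fact q.Prime] (hq : q ∈ π)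
    {x : X ⧸ Cfsg.piCore π X} (hx : x ∈ Cfsg.fittingSubgroup (X ⧸ Cfsg.piCore π X)) {k : ℕ}
    (hk : x ^ (q ^ k) = 1) : x = 1 := by
  have h1 := Cfsg.Agent.Lib.Helper17.mem_pCore_of_mem_fitting q hx hk
  rw [pCore_quot_piCore_eq_bot π hq, Subgroup.mem_bot] at h1
  exact h1

theorem coprime_card_piCore {q : ℕ} (hq : q.Prime) (hqπ : q ∉ π) :
    (Nat.card (Cfsg.piCore π X)).Coprime q := by
  rw [Nat.coprime_comm, Nat.Prime.coprime_iff_not_dvd hq]
  intro hdvd
  exact hqπ (Cfsg.Agent.Lib.Helper12.piCore_mem π q hq hdvd)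

theorem pRankLE_quot_piCore {q : ℕ} (hq : q.Prime) (hqπ : q ∉ π) (hr : Cfsg.PRankLE q 2 X) :
    Cfsg.PRankLE q 2 (X ⧸ Cfsg.piCore π X) := by
  haveI : Fact q.Prime := ⟨hq⟩
  exact Cfsg.Agent.Lib.Helper17.pRankLE_quotient_of_coprime q 2 _ (coprime_card_piCore π hq hqπ) hr

theorem pRankLE_fitting_quot (hrank : ∀ q : ℕ, q.Prime → q ∉ π → Cfsg.PRankLE q 2 X) :
    ∀ q : ℕ, q.Prime → Cfsg.PRankLE q 2 (Cfsg.fittingSubgroup (X ⧸ Cfsg.piCore π X)) := by
  intro q hq
  haveI : Fact q.Prime := ⟨hq⟩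
  by_cases hqπ : q ∈ π
  · intro A _ hAp
    have hA : A = ⊥ := by
      rw [eq_bot_iff]
      intro a ha
      rw [Subgroup.mem_bot]
      apply Subtype.ext
      apply eq_one_of_mem_fitting_quot π hqπ a.2 (k := 1)
      rw [pow_one]
      have := hAp a ha
      exact congrArg Subtype.val this
    rw [hA, Subgroup.card_bot]
    exact Nat.one_le_pow _ _ hq.pos
  · exact pRankLE_subgroup (pRankLE_quot_piCore π hq hqπ (hrank q hq hqπ)) _

theorem commutator_quot_le_fitting [Group.IsSolvable X] (hodd : Odd (Nat.card X))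
    (hrank : ∀ q : ℕ, q.Prime → q ∉ π → Cfsg.PRankLE q 2 X) :
    commutator (X ⧸ Cfsg.piCore π X) ≤ Cfsg.fittingSubgroup (X ⧸ Cfsg.piCore π X) := by
  have hoddQ : Odd (Nat.card (X ⧸ Cfsg.piCore π X)) := by
    have hd : Nat.card (X ⧸ Cfsg.piCore π X) ∣ Nat.card X := by
      have := Subgroup.card_eq_card_quotient_mul_card_subgroup (Cfsg.piCore π X)
      exact Dvd.intro _ this.symm
    exact Odd.of_dvd_nat hodd hd
  exact Cfsg.Agent.Lib.Helper17.commutator_le_fitting_of_rank_two hoddQ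
    (pRankLE_fitting_quot π hrank)

theorem map_commutator_eq_of_surjective {Y : Type*} [Group Y] (f : X →* Y)
    (hf : Function.Surjective f) : (commutator X).map f = commutator Y := by
  rw [commutator_def, commutator_def, Subgroup.map_commutator, ← MonoidHom.range_eq_map,
    MonoidHom.range_eq_top.mpr hf]

theorem sylow_le_piCore_of_le_commutator [Group.IsSolvable X] (hodd : Odd (Nat.card X))
    (hrank : ∀ q : ℕ, q.Prime → q ∉ π → Cfsg.PRankLE q 2 X) {p : ℕ} [Fact p.Prime] (hp : p ∈ π)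
    (S : Sylow p X) (hS : (S : Subgroup X) ≤ commutator X) :
    (S : Subgroup X) ≤ Cfsg.piCore π X := by
  intro s hs
  obtain ⟨k, hk⟩ := S.isPGroup' ⟨s, hs⟩
  have hk' : s ^ (p ^ k) = 1 := by simpa using congrArg Subtype.val hk
  have h1 : QuotientGroup.mk' (Cfsg.piCore π X) s ∈ commutator (X ⧸ Cfsg.piCore π X) := by
    rw [← map_commutator_eq_of_surjective _ (QuotientGroup.mk'_surjective _)]
    exact ⟨s, hS hs, rfl⟩
  have h2 := commutator_quot_le_fitting π hodd hrank h1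
  have h3 := eq_one_of_mem_fitting_quot π hp h2 (k := k) (by rw [← map_pow, hk', map_one])
  exact (QuotientGroup.eq_one_iff s).mp h3

end Quot


/-- For `p ∈ σ(M)`: a Sylow `p`-subgroup `S` of `G` inside `M` with `N_G(S) ≤ M`, `S ≤ M'`, and
`M` controls strong fusion in `S`. -/
theorem exists_sylow_sigma (hG : Cfsg.IsMinSimpleOddOrder G) (hU : UT G) {M : Subgroup G}
    (hM : IsCoatom M) {p : ℕ} [Fact p.Prime] (hp : p ∈ Cfsg.sigma M) :
    ∃ S : Sylow p G, (S : Subgroup G) ≤ M ∧ (S : Subgroup G) ≠ ⊥ ∧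
      Subgroup.normalizer ((S : Subgroup G) : Set G) ≤ M ∧ CSF M (S : Subgroup G) ∧
      (S : Subgroup G) ≤ ⁅M, M⁆ := by
  obtain ⟨S, hSM, hS1, hNM⟩ := exists_sylow_of_mem_sigma hp
  have hcsf := csf_of_sylow_normalizer_le hG hU hM S hS1 hNM
  exact ⟨S, hSM, hS1, hNM, hcsf, sylow_le_commutator_of_csf hG S hSM hcsf⟩

theorem not_dvd_index_of_mem_sigma {M : Subgroup G} {p : ℕ} [Fact p.Prime]
    (hp : p ∈ Cfsg.sigma M) : ¬ p ∣ M.index := by
  obtain ⟨S, hSM, -, -⟩ := exists_sylow_of_mem_sigma hp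
  intro h
  exact S.not_dvd_index (h.trans (Subgroup.index_dvd_of_le hSM))

/-- **BG Theorem 10.2**. -/
theorem malpha (hG : Cfsg.IsMinSimpleOddOrder G) (hU : UT G) {M : Subgroup G} (hM : IsCoatom M) :
    Cfsg.IsPiHallOf (Cfsg.alpha M) (Cfsg.alphaCore M) M ∧
      Cfsg.IsPiHall (Cfsg.alpha M) (Cfsg.alphaCore M) ∧
      Cfsg.alphaCore M ≤ Cfsg.sigmaCore M ∧
      Cfsg.RankLE 2 (↥M ⧸ Cfsg.piCore (Cfsg.alpha M) ↥M) ∧
      Group.IsNilpotent ↥((commutator ↥M).map (QuotientGroup.mk' (Cfsg.piCore (Cfsg.alpha M) ↥M))) := by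
  haveI hsol : Group.IsSolvable ↥M := hG.2.2.2 M hM.1
  have hodd : Odd (Nat.card ↥M) := odd_card_subgroup hG.1 M
  set π := Cfsg.alpha M with hπ
  have hrank : ∀ q : ℕ, q.Prime → q ∉ π → Cfsg.PRankLE q 2 ↥M := by
    intro q hq hqπ
    by_contra h
    exact hqπ ⟨hq, h⟩
  -- Sylow subgroups for primes in `α(M)` lie in `M_α`
  have hidx : ∀ p : ℕ, p.Prime → p ∈ π → ¬ p ∣ (Cfsg.piCore π ↥M).index := by
    intro p hpp hp
    haveI : Fact p.Prime := ⟨hpp⟩
    obtain ⟨S, hSM, hS1, hNM, hcsf, hSc⟩ := exists_sylow_sigma hG hU hM (alpha_subset_sigma hG hU hM hp)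
    have h1 : ((S.subtype hSM : Sylow p ↥M) : Subgroup ↥M) ≤ commutator ↥M := by
      intro x hx
      rw [Sylow.coe_subtype, Subgroup.mem_subgroupOf] at hx
      have h2 := hSc hx
      rw [← Subgroup.map_subtype_commutator] at h2
      obtain ⟨y, hy, hyx⟩ := h2
      have : y = x := Subtype.ext hyx
      rw [← this]; exact hy
    have h3 := sylow_le_piCore_of_le_commutator π hodd hrank hp (S.subtype hSM) h1
    intro hd
    exact (S.subtype hSM).not_dvd_index (hd.trans (Subgroup.index_dvd_of_le h3))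
  have hcard : Nat.card (Cfsg.alphaCore M) = Nat.card (Cfsg.piCore π ↥M) :=
    Subgroup.card_map_of_injective M.subtype_injective
  have hprimes : ∀ p : ℕ, p.Prime → p ∣ Nat.card (Cfsg.alphaCore M) → p ∈ π := by
    intro p hpp hd
    rw [hcard] at hd
    exact Cfsg.Agent.Lib.Helper12.piCore_mem π p hpp hd
  have hle : Cfsg.alphaCore M ≤ M := Subgroup.map_subtype_le _
  have hrel : (Cfsg.alphaCore M).relIndex M = (Cfsg.piCore π ↥M).index := by
    unfold Subgroup.relIndex Cfsg.alphaCore Subgroup.subgroupOf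
    rw [Subgroup.comap_map_eq_self_of_injective M.subtype_injective]
  refine ⟨⟨hle, hprimes, ?_⟩, ⟨hprimes, ?_⟩, ?_, ?_, ?_⟩
  · intro p hpp hp
    rw [hrel]; exact hidx p hpp hp
  · intro p hpp hp hd
    rw [← Subgroup.relIndex_mul_index hle, hrel] at hd
    haveI : Fact p.Prime := ⟨hpp⟩
    rcases (Nat.Prime.dvd_mul hpp).mp hd with h | h
    · exact hidx p hpp hp h
    · exact not_dvd_index_of_mem_sigma (alpha_subset_sigma hG hU hM hp) h
  · apply Subgroup.map_mono
    apply Cfsg.Agent.Lib.Helper12.le_piCore _ _ inferInstance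
    intro p hpp hd
    exact alpha_subset_sigma hG hU hM (Cfsg.Agent.Lib.Helper12.piCore_mem π p hpp hd)
  · intro q hq
    by_cases hqπ : q ∈ π
    · intro A _ hAp
      haveI : Fact q.Prime := ⟨hq⟩
      have hAq : IsPGroup q A := fun a => ⟨1, by
        rw [pow_one]; exact Subtype.ext (by simpa using hAp a a.2)⟩
      obtain ⟨n, hn⟩ := IsPGroup.iff_card.mp hAq
      rcases Nat.eq_zero_or_pos n with h0 | h0
      · rw [hn, h0, pow_zero]; exact Nat.one_le_pow _ _ hq.pos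
      · exfalso
        apply hidx q hq hqπ
        have h1 : q ∣ Nat.card A := by rw [hn]; exact dvd_pow_self q (by omega)
        have h2 := h1.trans (Subgroup.card_subgroup_dvd_card A)
        rwa [← Subgroup.index_eq_card] at h2
    · exact pRankLE_quot_piCore π hq hqπ (hrank q hq hqπ)
  · rw [map_commutator_eq_of_surjective _ (QuotientGroup.mk'_surjective _)]
    have hoddQ : Odd (Nat.card (↥M ⧸ Cfsg.piCore π ↥M)) := by
      have hd : Nat.card (↥M ⧸ Cfsg.piCore π ↥M) ∣ Nat.card ↥M := by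
        have := Subgroup.card_eq_card_quotient_mul_card_subgroup (Cfsg.piCore π ↥M)
        exact Dvd.intro _ this.symm
      exact Odd.of_dvd_nat hodd hd
    exact (Cfsg.Agent.S1451.result hoddQ (Or.inr (pRankLE_fitting_quot π hrank))).1

end Cfsg.Agent.Lib.Helper1.BGX
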