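import Mathlib
import Cfsg.Agent.Lib.Helper1.BGX2
import Cfsg.Agent.Lib.Helper1.NarrowOmegaZ2
import Cfsg.Agent.Lib.Helper8.SylIn
import Cfsg.Agent.Lib.Helper9.Basic
import Cfsg.Agent.S1452
import Cfsg.Agent.S1453

/-!
# Bender–Glauberman §10 (helper1), part 3: Lemma 10.3
-/

set_option autoImplicit false
set_option linter.unusedSectionVars false
set_option linter.style.haveILetI false

namespace Cfsg.Agent.Lib.Helper1.BGX

open Cfsg Subgroup
open scoped commutatorElement

section Aut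

variable {R : Type*} [Group R]

theorem comm_of_isMulCommutative {A : Subgroup R} (h : IsMulCommutative A) :
    ∀ a ∈ A, ∀ b ∈ A, a * b = b * a := by
  intro a ha b hb
  have := h.is_comm.comm (⟨a, ha⟩ : A) ⟨b, hb⟩
  exact congrArg Subtype.val this

theorem isMulCommutative_of_comm {A : Subgroup R} (h : ∀ a ∈ A, ∀ b ∈ A, a * b = b * a) :
    IsMulCommutative A :=
  ⟨⟨fun a b => Subtype.ext (h a a.2 b b.2)⟩⟩

theorem mulAut_pow_apply_of_eq_mul (φ : MulAut R) {w z : R} (h1 : φ w = w * z) (h2 : φ z = z)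
    (k : ℕ) : (φ ^ k) w = w * z ^ k := by
  induction k with
  | zero => simp
  | succ k ih =>
    rw [pow_succ', MulAut.mul_apply, ih, map_mul, map_pow, h1, h2, pow_succ', mul_assoc]

/-- An automorphism of coprime order of a `p`-group `R` of rank at least 3 which centralizes a
maximal elementary abelian subgroup of order `p ^ 2` centralizes `Ω₁(Z₂(R))`. -/
theorem aut_fixes_omega_z2 [Finite R] (p : ℕ) [Fact p.Prime] (hp : p ≠ 2)
    (hR : IsPGroup p R) (hr : ¬ Cfsg.PRankLE p 2 R)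
    (E : Subgroup R) (hE : Cfsg.IsElementaryAbelian p E) (hE2 : Nat.card E = p ^ 2)
    (hEmax : ∀ B : Subgroup R, Cfsg.IsElementaryAbelian p B → E ≤ B → B = E)
    (φ : MulAut R) (hφE : ∀ e ∈ E, φ e = e) (n : ℕ) (hn : n.Coprime p) (hφn : φ ^ n = 1) :
    ∀ w ∈ closure {x : R | x ∈ Subgroup.upperCentralSeries R 2 ∧ x ^ p = 1}, φ w = w := by
  have hpp : p.Prime := Fact.out
  obtain ⟨hET, hZ, ⟨hWe, hW2⟩, -, -⟩ := Cfsg.Agent.S1453.result p hp hR hr E hE hE2 hEmax
  have hWchar : (closure {x : R | x ∈ Subgroup.upperCentralSeries R 2 ∧ x ^ p = 1}).Characteristic :=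
    omega_z2_characteristic
  set W := closure {x : R | x ∈ Subgroup.upperCentralSeries R 2 ∧ x ^ p = 1} with hW
  set Z := closure {x : R | x ∈ center R ∧ x ^ p = 1} with hZdef
  obtain ⟨a, haE, haT⟩ := SetLike.not_le_iff_exists.mp hET
  have hEc := comm_of_isMulCommutative hE.1
  have hWc := comm_of_isMulCommutative hWe.1
  -- `Z ≤ E`
  have hZE : Z ≤ E := by
    intro z hz
    obtain ⟨hzc, hzp⟩ := mem_omega_center z hz
    refine mem_of_centralizes_max_elemAb E hEc hE.2
      (fun B hBc hBe hEB => hEmax B ⟨isMulCommutative_of_comm hBc, hBe⟩ hEB) z ?_ hzp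
    rw [mem_centralizer_iff]
    intro e _
    exact (mem_center_iff.mp hzc e)
  have hZW : Z ≤ W := by
    apply Subgroup.closure_mono
    rintro x ⟨hx1, hx2⟩
    refine ⟨?_, hx2⟩
    have : center R ≤ Subgroup.upperCentralSeries R 2 := by
      rw [← Subgroup.upperCentralSeries_one]
      exact Subgroup.upperCentralSeries_mono R (by norm_num)
    exact this hx1
  -- `C_W(a) = Z`
  have hCZ : W ⊓ centralizer {a} = Z := by
    symm
    apply Subgroup.eq_of_le_of_card_ge
    · refine le_inf hZW ?_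
      intro z hz
      rw [mem_centralizer_singleton_iff]
      exact (mem_center_iff.mp (mem_omega_center z hz).1 a).symm
    · rw [hZ]
      have hlt : W ⊓ centralizer {a} < W := by
        refine lt_of_le_of_ne inf_le_left ?_
        intro h
        apply haT
        rw [mem_centralizer_iff]
        intro w hw
        have : w ∈ W ⊓ centralizer {a} := by rw [h]; exact hw
        have h2 := mem_centralizer_singleton_iff.mp this.2
        exact h2
      have hdvd : Nat.card ↥(W ⊓ centralizer {a}) ∣ p ^ 2 := by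
        rw [← hW2]; exact Subgroup.card_dvd_of_le inf_le_left
      obtain ⟨k, hk2, hk⟩ := (Nat.dvd_prime_pow hpp).mp hdvd
      rw [hk]
      have hk1 : k ≠ 2 := by
        rintro rfl
        apply hlt.ne
        apply Subgroup.eq_of_le_of_card_ge inf_le_left
        rw [hk, hW2]
      calc p ^ k ≤ p ^ 1 := Nat.pow_le_pow_right hpp.pos (by omega)
        _ = p := pow_one p
  intro w hw
  have hφw : φ w ∈ W := (characteristic_iff_map_le.mp hWchar φ) ⟨w, hw, rfl⟩
  obtain ⟨hw2, hwp⟩ := mem_omega_z2 hp w hw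
  have hcZ : ⁅w, a⁆ ∈ Z := commutator_mem_omega_center w a hw2 hwp
  have h1 : φ ⁅w, a⁆ = ⁅w, a⁆ := hφE _ (hZE hcZ)
  have h2 : ⁅φ w, a⁆ = ⁅w, a⁆ := by
    rw [← h1, map_commutatorElement, hφE a haE]
  set z := w⁻¹ * φ w with hz
  have hzW : z ∈ W := mul_mem (inv_mem hw) hφw
  have hza : z ∈ centralizer ({a} : Set R) := by
    rw [mem_centralizer_singleton_iff]
    have e1 : φ w = w * z := by rw [hz]; group
    rw [e1] at h2
    simp only [commutatorElement_def] at h2
    have e2 : w * z * a * (w * z)⁻¹ * a⁻¹ = w * (z * a * z⁻¹) * w⁻¹ * a⁻¹ := by group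
    rw [e2] at h2
    have e3 : z * a * z⁻¹ = a := by
      have := mul_right_cancel (mul_right_cancel h2)
      exact mul_left_cancel this
    calc z * a = (z * a * z⁻¹) * z := by group
      _ = a * z := by rw [e3]
  have hzZ : z ∈ Z := by rw [← hCZ]; exact ⟨hzW, hza⟩
  have e1 : φ w = w * z := by rw [hz]; group
  have e2 : φ z = z := hφE z (hZE hzZ)
  have h3 := mulAut_pow_apply_of_eq_mul φ e1 e2 n
  rw [hφn, MulAut.one_apply] at h3
  have hzn : z ^ n = 1 := by
    have : w * 1 = w * z ^ n := by rw [mul_one]; exact h3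
    exact (mul_left_cancel this).symm
  have hzp : z ^ p = 1 := (mem_omega_center z hzZ).2
  have hz1 : z = 1 := by
    have h4 : orderOf z ∣ n := orderOf_dvd_of_pow_eq_one hzn
    have h5 : orderOf z ∣ p := orderOf_dvd_of_pow_eq_one hzp
    have h6 : orderOf z ∣ 1 := by
      have := Nat.dvd_gcd h4 h5
      rwa [hn.gcd_eq_one] at this
    exact orderOf_eq_one_iff.mp (Nat.dvd_one.mp h6)
  rw [e1, hz1, mul_one]

end Aut

section Main

open Cfsg.Agent.Lib.Helper8 (IsSylIn)

variable {G : Type*} [Group G] [Finite G]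

/-- If `S` is a Sylow `p`-subgroup of `M`, rank bounds pass from `S` to `M`. -/
theorem pRankLE_of_isSylIn {p k : ℕ} [Fact p.Prime] {S M : Subgroup G}
    (hS : IsSylIn p S M) (h : Cfsg.PRankLE p k ↥S) : Cfsg.PRankLE p k ↥M := by
  have hmap : ((hS.toSylow : Sylow p ↥M) : Subgroup ↥M).map M.subtype = S := hS.toSylow_map
  have h1 : Cfsg.PRankLE p k ↥((hS.toSylow : Sylow p ↥M) : Subgroup ↥M) := by
    rw [← Cfsg.Agent.Lib.Helper9.pRankLE_map_subtype M _ p k, hmap]
    exact h
  apply Cfsg.Agent.Lib.Helper17.BGU.pRankLE_of_sylow hS.toSylow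
  intro E hEP hEc hEp
  have h2 := Cfsg.Agent.Lib.Helper17.pRankLE_of_le hEP h1
  have h3 := h2 ⊤ (isMulCommutative_of_comm (fun a _ b _ => hEc.is_comm.comm a b))
    (fun a _ => Subtype.ext (by simpa using hEp a a.2))
  rwa [Subgroup.card_top] at h3

theorem isSylIn_of_hall {p : ℕ} [Fact p.Prime] {S L M : Subgroup G} (hS : IsSylIn p S L)
    (hLM : L ≤ M) (hidx : ¬ p ∣ L.relIndex M) : IsSylIn p S M := by
  refine ⟨hS.1.trans hLM, ?_⟩
  rw [hS.2]
  congr 1
  have h1 : Nat.card L * L.relIndex M = Nat.card M := by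
    have := (L.subgroupOf M).card_mul_index
    rwa [card_subgroupOf_of_le hLM] at this
  have hrel0 : L.relIndex M ≠ 0 := by
    intro h0; rw [h0, mul_zero] at h1; exact Nat.card_pos.ne' h1.symm
  rw [← h1, Nat.factorization_mul Nat.card_pos.ne' hrel0, Finsupp.add_apply,
    Nat.factorization_eq_zero_of_not_dvd hidx, add_zero]

theorem inUniqueMaximal_of_le {W K M : Subgroup G} (hM : IsCoatom M) (hWK : W ≤ K) (hKM : K ≤ M)
    (hW : Cfsg.InUniqueMaximal W) : Cfsg.InUniqueMaximal K := by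
  obtain ⟨L, ⟨hL, hWL⟩, hLu⟩ := hW
  have hML : M = L := hLu M ⟨hM, hWK.trans hKM⟩
  refine ⟨M, ⟨hM, hKM⟩, ?_⟩
  rintro L' ⟨hL', hKL'⟩
  rw [hML]; exact hLu L' ⟨hL', hWK.trans hKL'⟩

theorem isPGroup_of_elemAb {p : ℕ} {A : Subgroup G} (hA : Cfsg.IsElementaryAbelian p A) :
    IsPGroup p A := fun a => ⟨1, by rw [pow_one]; exact Subtype.ext (by simpa using hA.2 a a.2)⟩

theorem card_le_of_pRankLE {p k : ℕ} {A : Subgroup G} (hA : Cfsg.IsElementaryAbelian p A)
    (h : Cfsg.PRankLE p k ↥A) : Nat.card A ≤ p ^ k := by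
  have h3 := h ⊤ (isMulCommutative_of_comm (fun a _ b _ => hA.1.is_comm.comm a b))
    (fun a _ => Subtype.ext (by simpa using hA.2 a a.2))
  rwa [Subgroup.card_top] at h3

theorem sq_le_card_of_elemAb_not_cyclic {p : ℕ} [Fact p.Prime] {A : Subgroup G}
    (hA : Cfsg.IsElementaryAbelian p A) (hnc : ¬ IsCyclic A) : p ^ 2 ≤ Nat.card A := by
  have hpp : p.Prime := Fact.out
  obtain ⟨k, hk⟩ := IsPGroup.iff_card.mp (isPGroup_of_elemAb hA)
  rw [hk]
  apply Nat.pow_le_pow_right hpp.pos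
  by_contra hlt
  apply hnc
  have : k = 0 ∨ k = 1 := by omega
  rcases this with rfl | rfl
  · rw [pow_zero] at hk
    haveI : Subsingleton ↥A := (Nat.card_eq_one_iff_unique.mp hk).1
    exact isCyclic_of_subsingleton
  · rw [pow_one] at hk
    exact isCyclic_of_prime_card hk

theorem not_rankLE_one_of_sq_le {p : ℕ} (hpp : p.Prime) {A : Subgroup G}
    (hA : Cfsg.IsElementaryAbelian p A) (h2 : p ^ 2 ≤ Nat.card A) : ¬ Cfsg.RankLE 1 ↥A := by
  intro h
  have h1 := card_le_of_pRankLE hA (h p hpp)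
  have h3 : p ^ 1 < p ^ 2 := Nat.pow_lt_pow_right hpp.one_lt (by norm_num)
  omega

theorem alphaCore_le (M : Subgroup G) : Cfsg.alphaCore M ≤ M := Subgroup.map_subtype_le _

theorem le_normalizer_alphaCore (M : Subgroup G) :
    M ≤ normalizer (Cfsg.alphaCore M : Set G) := by
  intro m hm
  apply mem_normalizer_of_forall_conj_mem
  rintro _ ⟨y, hy, rfl⟩
  refine ⟨⟨m, hm⟩ * y * ⟨m, hm⟩⁻¹, ?_, rfl⟩
  exact (inferInstance : (Cfsg.piCore (Cfsg.alpha M) ↥M).Normal).conj_mem y hy ⟨m, hm⟩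

/-- **BG Lemma 10.3**. -/
theorem centralizer_alpha_uniq (hG : Cfsg.IsMinSimpleOddOrder G) (hU : UT G) {M : Subgroup G}
    (hM : IsCoatom M) {X : Subgroup G} (hXM : X ≤ M)
    (hXα : ∀ p : ℕ, p.Prime → p ∣ Nat.card X → p ∉ Cfsg.alpha M)
    (hr : ¬ Cfsg.RankLE 1 ↥(Cfsg.alphaCore M ⊓ Subgroup.centralizer (X : Set G))) :
    Cfsg.InUniqueMaximal (M ⊓ Subgroup.centralizer (X : Set G)) := by
  obtain ⟨⟨hαM, hαprimes, hαidx⟩, -, -, -, -⟩ := malpha hG hU hM
  obtain ⟨p, hpF, A, hAK, hAe, hAnc⟩ :=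
    Cfsg.Agent.Lib.Helper17.BGU.exists_elemAb_of_not_rankLE_one hr
  haveI := hpF
  have hpp : p.Prime := hpF.out
  have hA2 := sq_le_card_of_elemAb_not_cyclic hAe hAnc
  have hA1 := not_rankLE_one_of_sq_le hpp hAe hA2
  have hAα : A ≤ Cfsg.alphaCore M := hAK.trans inf_le_left
  have hAX : A ≤ centralizer (X : Set G) := hAK.trans inf_le_right
  have hAM : A ≤ M := hAα.trans hαM
  have hAC : A ≤ M ⊓ centralizer (X : Set G) := le_inf hAM hAX
  have hAtop : A ≠ ⊤ := fun h => hM.1 (top_le_iff.mp (h ▸ hAM))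
  have hAp : IsPGroup p A := isPGroup_of_elemAb hAe
  have hAcomm := comm_of_isMulCommutative hAe.1
  have hpA : p ∣ Nat.card A := by
    obtain ⟨k, hk⟩ := IsPGroup.iff_card.mp hAp
    rw [hk]
    apply dvd_pow_self
    rintro rfl
    rw [hk, pow_zero] at hA2
    have : 1 < p ^ 2 := Nat.one_lt_pow (by norm_num) hpp.one_lt
    omega
  have hpα : p ∈ Cfsg.alpha M := hαprimes p hpp (hpA.trans (Subgroup.card_dvd_of_le hAα))
  have hp2 : p ≠ 2 := ne_two_of_dvd_sub hG.1 hpA
  by_cases h3 : Cfsg.RankLE 2 (centralizer (A : Set G))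
  swap
  · exact inUniqueMaximal_of_le hM hAC inf_le_left (hU A hAtop hA1 (Or.inr h3))
  -- `|A| = p ^ 2`
  have hAcard : Nat.card A = p ^ 2 := by
    apply le_antisymm _ hA2
    have hAle : A ≤ centralizer (A : Set G) := fun a ha =>
      mem_centralizer_iff.mpr (fun b hb => hAcomm b hb a ha)
    exact card_le_of_pRankLE hAe (Cfsg.Agent.Lib.Helper17.pRankLE_of_le hAle (h3 p hpp))
  -- an `X`-invariant Sylow subgroup
  have hXN : X ≤ normalizer (Cfsg.alphaCore M : Set G) := hXM.trans (le_normalizer_alphaCore M)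
  have hpX : ¬ p ∣ Nat.card X := fun h => hXα p hpp h hpα
  have hcop : (Nat.card X).Coprime (Nat.card (Cfsg.alphaCore M)) := by
    apply Nat.coprime_of_dvd
    intro q hq h1 h2
    exact hXα q hq h1 (hαprimes q hq h2)
  haveI hMs : Group.IsSolvable ↥M := hG.2.2.2 M hM.1
  have hXs : Group.IsSolvable ↥X :=
    solvable_of_solvable_injective (Subgroup.inclusion_injective hXM)
  have hXA : X ≤ normalizer (A : Set G) := by
    intro x hx
    apply mem_normalizer_of_forall_conj_mem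
    intro a ha
    have := mem_centralizer_iff.mp (hAX ha) x hx
    have e : x * a * x⁻¹ = a := by rw [this]; group
    rw [e]; exact ha
  obtain ⟨S, hS, hAS, hXS⟩ := Cfsg.Agent.Lib.Helper8.exists_invariant_isSylIn_ge hXN hcop
    (Or.inl hXs) p A hAα hAp hXA
  have hSM : IsSylIn p S M := isSylIn_of_hall hS hαM (hαidx p hpp hpα)
  have hSr : ¬ Cfsg.PRankLE p 2 ↥S := fun h => hpα.2 (pRankLE_of_isSylIn hSM h)
  have hSp : IsPGroup p ↥S := hS.isPGroup
  -- the subgroup `E`
  have hEe : Cfsg.IsElementaryAbelian p (A.subgroupOf S) := by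
    refine ⟨isMulCommutative_of_comm ?_, ?_⟩
    · intro a ha b hb
      exact Subtype.ext (hAcomm _ (mem_subgroupOf.mp ha) _ (mem_subgroupOf.mp hb))
    · intro a ha
      exact Subtype.ext (by simpa using hAe.2 _ (mem_subgroupOf.mp ha))
  have hE2 : Nat.card (A.subgroupOf S) = p ^ 2 := by
    rw [card_subgroupOf_of_le hAS]; exact hAcard
  have hEmax : ∀ B : Subgroup ↥S, Cfsg.IsElementaryAbelian p B → A.subgroupOf S ≤ B →
      B = A.subgroupOf S := by
    intro B hB hEB
    symm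
    apply Subgroup.eq_of_le_of_card_ge hEB
    rw [hE2]
    have hBC : B.map S.subtype ≤ centralizer (A : Set G) := by
      rintro _ ⟨b, hb, rfl⟩
      rw [mem_centralizer_iff]
      intro a ha
      have haB : (⟨a, hAS ha⟩ : ↥S) ∈ B := hEB (mem_subgroupOf.mpr ha)
      have := comm_of_isMulCommutative hB.1 _ haB _ hb
      exact congrArg Subtype.val this
    have h4 := Cfsg.Agent.Lib.Helper17.pRankLE_of_le hBC (h3 p hpp)
    rw [Cfsg.Agent.Lib.Helper9.pRankLE_map_subtype] at h4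
    exact card_le_of_pRankLE hB h4
  obtain ⟨-, -, ⟨hWe, hW2⟩, -, -⟩ := Cfsg.Agent.S1453.result p hp2 hSp hSr _ hEe hE2 hEmax
  have hWchar : (closure {x : ↥S | x ∈ Subgroup.upperCentralSeries ↥S 2 ∧ x ^ p = 1}).Characteristic :=
    omega_z2_characteristic
  -- `X` centralizes `W`
  have hfix : ∀ x ∈ X, ∀ w ∈ closure {x : ↥S | x ∈ Subgroup.upperCentralSeries ↥S 2 ∧ x ^ p = 1},
      x * (w : G) * x⁻¹ = w := by
    intro x hx w hw
    have hxN : x ∈ normalizer (S : Set G) := hXS hx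
    have hφE : ∀ e ∈ A.subgroupOf S, S.normalizerMonoidHom ⟨x, hxN⟩ e = e := by
      intro e he
      apply Subtype.ext
      have := mem_centralizer_iff.mp (hAX (mem_subgroupOf.mp he)) x hx
      show x * (e : G) * x⁻¹ = e
      rw [this]; group
    have hn : (orderOf x).Coprime p := by
      apply Nat.Coprime.symm
      rw [Nat.Prime.coprime_iff_not_dvd hpp]
      intro h
      exact hpX (h.trans (Subgroup.orderOf_dvd_natCard X hx))
    have hφn : (S.normalizerMonoidHom ⟨x, hxN⟩) ^ (orderOf x) = 1 := by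
      rw [← map_pow]
      have : (⟨x, hxN⟩ : ↥(normalizer (S : Set G))) ^ orderOf x = 1 :=
        Subtype.ext (by simpa using pow_orderOf_eq_one x)
      rw [this, map_one]
    have := aut_fixes_omega_z2 p hp2 hSp hSr _ hEe hE2 hEmax (S.normalizerMonoidHom ⟨x, hxN⟩)
      hφE (orderOf x) hn hφn w hw
    exact congrArg Subtype.val this
  set W : Subgroup G := (closure {x : ↥S | x ∈ Subgroup.upperCentralSeries ↥S 2 ∧ x ^ p = 1}).map
    S.subtype with hWdef
  have hWX : W ≤ centralizer (X : Set G) := by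
    rintro _ ⟨w, hw, rfl⟩
    rw [mem_centralizer_iff]
    intro x hx
    have := hfix x hx w hw
    calc x * (w : G) = (x * (w : G) * x⁻¹) * x := by group
      _ = (w : G) * x := by rw [this]
  have hWM : W ≤ M := (Subgroup.map_subtype_le _).trans hSM.1
  have hWe' : Cfsg.IsElementaryAbelian p W := by
    refine ⟨isMulCommutative_of_comm ?_, ?_⟩
    · rintro _ ⟨a, ha, rfl⟩ _ ⟨b, hb, rfl⟩
      exact congrArg Subtype.val (comm_of_isMulCommutative hWe.1 a ha b hb)
    · rintro _ ⟨a, ha, rfl⟩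
      exact congrArg Subtype.val (hWe.2 a ha)
  have hW2' : Nat.card W = p ^ 2 := by
    rw [hWdef, Subgroup.card_map_of_injective S.subtype_injective]; exact hW2
  have hWu : Cfsg.InUniqueMaximal W := by
    apply hU W (fun h => hM.1 (top_le_iff.mp (h ▸ hWM)))
      (not_rankLE_one_of_sq_le hpp hWe' hW2'.ge) (Or.inr ?_)
    haveI : (closure {x : ↥S | x ∈ Subgroup.upperCentralSeries ↥S 2 ∧ x ^ p = 1}).Normal :=
      inferInstance
    obtain ⟨A', hWA', -, hA'c, hA'r⟩ := Cfsg.Agent.S1452.result p hp2 hSp hSr _ hWe hW2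
    intro h
    apply hA'r
    have hle : A'.map S.subtype ≤ centralizer (W : Set G) := by
      rintro _ ⟨a, ha, rfl⟩
      rw [mem_centralizer_iff]
      rintro _ ⟨w, hw, rfl⟩
      have haC : a ∈ centralizer (A' : Set ↥S) := by rw [hA'c]; exact ha
      have := mem_centralizer_iff.mp haC w (hWA' hw)
      exact congrArg Subtype.val this
    have h4 := Cfsg.Agent.Lib.Helper17.pRankLE_of_le hle (h p hpp)
    rwa [Cfsg.Agent.Lib.Helper9.pRankLE_map_subtype] at h4
  exact inUniqueMaximal_of_le hM (le_inf hWM hWX) inf_le_left hWu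

end Main

end Cfsg.Agent.Lib.Helper1.BGX
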