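import Mathlib
import Cfsg.Agent.Lib.Helper1.BGX3
import Cfsg.Agent.Lib.Helper17.RankOne

/-!
# Bender–Glauberman §10 (helper1), part 4: Lemma 10.4
-/

set_option autoImplicit false
set_option linter.unusedSectionVars false
set_option linter.style.haveILetI false

namespace Cfsg.Agent.Lib.Helper1.BGX

open Cfsg Subgroup
open Cfsg.Agent.Lib.Helper8 (mem_map_conj conj_mem_map_conj mem_normalizer_iff_map_conj)

theorem isZGroup_of_rankLE_one {H : Type*} [Group H] [Finite H] (hodd : Odd (Nat.card H))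
    (h : Cfsg.RankLE 1 H) : IsZGroup H := by
  refine ⟨fun p hp P => ?_⟩
  haveI : Fact p.Prime := ⟨hp⟩
  by_cases h2 : p = 2
  · subst h2
    have hnd : ¬ 2 ∣ Nat.card H := fun hd => (Nat.not_even_iff_odd.mpr hodd) (even_iff_two_dvd.mpr hd)
    have hc : Nat.card (P : Subgroup H) = 1 := by
      rw [P.card_eq_multiplicity, Nat.factorization_eq_zero_of_not_dvd hnd, pow_zero]
    haveI : Subsingleton ↥(P : Subgroup H) := (Nat.card_eq_one_iff_unique.mp hc).1
    exact isCyclic_of_subsingleton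
  · exact Cfsg.Agent.Lib.Helper17.isCyclic_of_pRankLE_one h2 (h p hp) P P.isPGroup'

variable {G : Type*} [Group G] [Finite G]

theorem centralizer_zpowers_eq (x : G) :
    centralizer ((zpowers x : Subgroup G) : Set G) = centralizer ({x} : Set G) := by
  apply le_antisymm
  · apply Subgroup.centralizer_le
    intro y hy
    rw [Set.mem_singleton_iff] at hy
    rw [hy]; exact mem_zpowers x
  · intro y hy
    rw [mem_centralizer_singleton_iff] at hy
    rw [mem_centralizer_iff]
    rintro _ ⟨k, rfl⟩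
    have hc : Commute y x := hy
    exact (hc.zpow_right k).eq.symm

theorem center_eq_bot (hG : Cfsg.IsMinSimpleOddOrder G) : center G = ⊥ := by
  haveI := hG.2.1
  rcases (inferInstance : (center G).Normal).eq_bot_or_eq_top with h | h
  · exact h
  · exfalso
    apply hG.2.2.1
    refine ⟨⟨fun a b => ?_⟩⟩
    have : b ∈ center G := by rw [h]; exact mem_top b
    exact (mem_center_iff.mp this a)

theorem centralizer_singleton_ne_top (hG : Cfsg.IsMinSimpleOddOrder G) {x : G} (hx : x ≠ 1) :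
    centralizer ({x} : Set G) ≠ ⊤ := by
  intro h
  apply hx
  have : x ∈ center G := by
    rw [mem_center_iff]
    intro g
    have hg : g ∈ centralizer ({x} : Set G) := by rw [h]; exact mem_top g
    exact (mem_centralizer_singleton_iff.mp hg)
  rwa [center_eq_bot hG, mem_bot] at this

theorem normalizer_coatom (hG : Cfsg.IsMinSimpleOddOrder G) {M : Subgroup G} (hM : IsCoatom M)
    (hM1 : M ≠ ⊥) : normalizer (M : Set G) = M := by
  haveI := hG.2.1
  exact Cfsg.Agent.Lib.Helper17.BGU.normalizer_eq_of_coatom hM le_rfl hM1 le_normalizer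

/-- Membership in the image in `G` of the centre of a subgroup of `M`. -/
theorem mem_center_image {M : Subgroup G} (P : Subgroup ↥M) {z : G} :
    z ∈ ((center ↥P).map P.subtype).map M.subtype ↔
      z ∈ P.map M.subtype ∧ ∀ y ∈ P.map M.subtype, y * z = z * y := by
  constructor
  · rintro ⟨_, ⟨c, hc, rfl⟩, rfl⟩
    refine ⟨⟨(c : ↥M), c.2, rfl⟩, ?_⟩
    rintro _ ⟨y, hy, rfl⟩
    have := mem_center_iff.mp hc ⟨y, hy⟩
    have h2 := congrArg (fun t : ↥P => ((t : ↥M) : G)) this
    simpa using h2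
  · rintro ⟨⟨z', hz', rfl⟩, hcomm⟩
    refine ⟨z', ⟨⟨z', hz'⟩, ?_, rfl⟩, rfl⟩
    rw [SetLike.mem_coe, mem_center_iff]
    rintro ⟨y, hy⟩
    apply Subtype.ext
    apply Subtype.ext
    have := hcomm (M.subtype y) ⟨y, hy, rfl⟩
    simpa using this

/-- **BG Lemma 10.4**. -/
theorem exists_central_element (hG : Cfsg.IsMinSimpleOddOrder G) (hU : UT G) {M : Subgroup G}
    (hM : IsCoatom M) {p : ℕ} [Fact p.Prime] (hpM : p ∣ Nat.card M) (hp : p ∉ Cfsg.sigma M)
    (P : Sylow p M) :
    ∃ x : G, x ∈ ((center ↥(P : Subgroup M)).map (P : Subgroup M).subtype).map M.subtype ∧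
      orderOf x = p ∧ IsZGroup ↥(Cfsg.alphaCore M ⊓ centralizer ({x} : Set G)) ∧
      ¬ (centralizer ({x} : Set G) ≤ M ∧
        ∀ L : Subgroup G, IsCoatom L → centralizer ({x} : Set G) ≤ L → L = M) := by
  have hpp : p.Prime := Fact.out
  haveI := hG.2.1
  set P' : Subgroup G := (P : Subgroup M).map M.subtype with hP'
  have hP'M : P' ≤ M := Subgroup.map_subtype_le _
  have hM1 : M ≠ ⊥ := by
    intro h
    rw [h, Subgroup.card_bot] at hpM
    exact hpp.one_lt.ne' (Nat.dvd_one.mp hpM)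
  -- an element of order `p` in the centre
  have hx₀ : ∃ x₀ : G, x₀ ∈ ((center ↥(P : Subgroup M)).map (P : Subgroup M).subtype).map M.subtype ∧
      orderOf x₀ = p := by
    have hPnt : Nontrivial ↥(P : Subgroup M) := by
      rw [← Finite.one_lt_card_iff_nontrivial, P.card_eq_multiplicity]
      apply Nat.one_lt_pow _ hpp.one_lt
      intro h0
      have := (Nat.factorization_eq_zero_iff _ _).mp h0
      rcases this with h | h | h
      · exact h hpp
      · exact h hpM
      · exact Nat.card_pos.ne' h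
    have hcnt : Nontrivial ↥(center ↥(P : Subgroup M)) := P.isPGroup'.center_nontrivial
    have hcp : IsPGroup p ↥(center ↥(P : Subgroup M)) := P.isPGroup'.to_subgroup _
    have hdvd : p ∣ Nat.card ↥(center ↥(P : Subgroup M)) := by
      obtain ⟨k, hk⟩ := IsPGroup.iff_card.mp hcp
      rw [hk]
      apply dvd_pow_self
      rintro rfl
      rw [pow_zero] at hk
      have := Finite.one_lt_card_iff_nontrivial.mpr hcnt
      omega
    obtain ⟨c, hc⟩ := exists_prime_orderOf_dvd_card' p hdvd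
    refine ⟨((c : ↥(P : Subgroup M)) : ↥M), ⟨_, ⟨c, c.2, rfl⟩, rfl⟩, ?_⟩
    rw [Subgroup.orderOf_coe, Subgroup.orderOf_coe, Subgroup.orderOf_coe]
    exact hc
  -- an element of `N_G(P)` outside `M`
  have hNP : ¬ normalizer (P' : Set G) ≤ M := by
    intro h
    exact hp ⟨hpp, hpM, P, h⟩
  obtain ⟨g, hgN, hgM⟩ := SetLike.not_le_iff_exists.mp hNP
  by_contra hcon
  push Not at hcon
  -- every element of order `p` of the centre has its centralizer "uniquely" in `M`
  have hpα : p ∉ Cfsg.alpha M := fun h => hp (alpha_subset_sigma hG hU hM h)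
  have key : ∀ x : G, x ∈ ((center ↥(P : Subgroup M)).map (P : Subgroup M).subtype).map M.subtype →
      orderOf x = p → (centralizer ({x} : Set G) ≤ M ∧
        ∀ L : Subgroup G, IsCoatom L → centralizer ({x} : Set G) ≤ L → L = M) := by
    intro x hxZ hxo
    by_cases hr : Cfsg.RankLE 1 ↥(Cfsg.alphaCore M ⊓ centralizer ({x} : Set G))
    · exact hcon x hxZ hxo (isZGroup_of_rankLE_one (odd_card_subgroup hG.1 _) hr)
    · have hxM : x ∈ M := hP'M ((mem_center_image (P : Subgroup M)).mp hxZ).1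
      have hx1 : x ≠ 1 := by
        rintro rfl
        rw [orderOf_one] at hxo
        exact hpp.one_lt.ne hxo
      have hXM : zpowers x ≤ M := by rw [zpowers_le]; exact hxM
      have hXα : ∀ q : ℕ, q.Prime → q ∣ Nat.card (zpowers x) → q ∉ Cfsg.alpha M := by
        intro q hq hd
        rw [Nat.card_zpowers, hxo] at hd
        rw [(Nat.prime_dvd_prime_iff_eq hq hpp).mp hd]
        exact hpα
      have hr' : ¬ Cfsg.RankLE 1 ↥(Cfsg.alphaCore M ⊓
          centralizer ((zpowers x : Subgroup G) : Set G)) := by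
        rw [centralizer_zpowers_eq]; exact hr
      have h1 := centralizer_alpha_uniq hG hU hM hXM hXα hr'
      rw [centralizer_zpowers_eq] at h1
      obtain ⟨L₀, ⟨hL₀, hKL₀⟩, hLu⟩ := h1
      have hML₀ : M = L₀ := hLu M ⟨hM, inf_le_left⟩
      obtain ⟨L₁, hL₁, hCL₁⟩ := Cfsg.Agent.Lib.Helper17.BGU.exists_coatom_ge
        (centralizer_singleton_ne_top hG hx1)
      have hL₁M : L₁ = M := by
        rw [hML₀]; exact hLu L₁ ⟨hL₁, inf_le_right.trans hCL₁⟩
      refine ⟨hL₁M ▸ hCL₁, ?_⟩
      intro L hL hCL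
      rw [hML₀]; exact hLu L ⟨hL, inf_le_right.trans hCL⟩
  obtain ⟨x₀, hx₀Z, hx₀o⟩ := hx₀
  -- conjugate by `g`
  have hgP : P'.map (MulAut.conj g).toMonoidHom = P' := mem_normalizer_iff_map_conj.mp hgN
  have hx₁Z : g * x₀ * g⁻¹ ∈ ((center ↥(P : Subgroup M)).map (P : Subgroup M).subtype).map
      M.subtype := by
    rw [mem_center_image] at hx₀Z ⊢
    refine ⟨?_, ?_⟩
    · have := conj_mem_map_conj (g := g) hx₀Z.1
      rwa [hgP] at this
    · intro y hy
      have hy' : g⁻¹ * y * g ∈ P' := by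
        have hy2 : y ∈ P'.map (MulAut.conj g).toMonoidHom := by rw [hgP]; exact hy
        exact mem_map_conj.mp hy2
      have := hx₀Z.2 _ hy'
      calc y * (g * x₀ * g⁻¹) = g * ((g⁻¹ * y * g) * x₀) * g⁻¹ := by group
        _ = g * (x₀ * (g⁻¹ * y * g)) * g⁻¹ := by rw [this]
        _ = g * x₀ * g⁻¹ * y := by group
  have hx₁o : orderOf (g * x₀ * g⁻¹) = p := by
    rw [← hx₀o]
    exact orderOf_injective (MulAut.conj g).toMonoidHom (MulAut.conj g).injective x₀
  obtain ⟨h0le, -⟩ := key x₀ hx₀Z hx₀o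
  obtain ⟨-, h1u⟩ := key _ hx₁Z hx₁o
  have hco : IsCoatom (M.map (MulAut.conj g).toMonoidHom) :=
    (OrderIso.isCoatom_iff (MulEquiv.mapSubgroup (MulAut.conj g)) M).mpr hM
  have hle : centralizer ({g * x₀ * g⁻¹} : Set G) ≤ M.map (MulAut.conj g).toMonoidHom := by
    intro y hy
    rw [mem_map_conj]
    apply h0le
    rw [mem_centralizer_singleton_iff] at hy ⊢
    calc g⁻¹ * y * g * x₀ = g⁻¹ * (y * (g * x₀ * g⁻¹)) * g := by group
      _ = g⁻¹ * ((g * x₀ * g⁻¹) * y) * g := by rw [hy]
      _ = x₀ * (g⁻¹ * y * g) := by group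
  have hMg := h1u _ hco hle
  have hgNM : g ∈ normalizer (M : Set G) := mem_normalizer_iff_map_conj.mpr hMg
  rw [normalizer_coatom hG hM hM1] at hgNM
  exact hgM hgNM

end Cfsg.Agent.Lib.Helper1.BGX
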