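import Mathlib
import Cfsg.Agent.Lib.Helper1.BGX4
import Cfsg.Agent.Lib.Helper9.Cyclic
import Cfsg.Agent.Lib.Helper4.Basic
import Cfsg.Agent.Lib.Helper12.Basic

/-!
# Bender–Glauberman §10 (helper1), part 5: Lemmas 10.5 and 10.6
-/

set_option autoImplicit false
set_option linter.unusedSectionVars false
set_option linter.style.haveILetI false

namespace Cfsg.Agent.Lib.Helper1.BGX

open Cfsg Subgroup
open Cfsg.Agent.Lib.Helper8 (mem_map_conj conj_mem_map_conj mem_normalizer_iff_map_conj)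

variable {G : Type*} [Group G] [Finite G]

/-- A Sylow `p`-subgroup of `M` (as a subgroup of `G`) containing a given `p`-subgroup of `M`. -/
theorem exists_sylow_in_ge {M : Subgroup G} {p : ℕ} [Fact p.Prime] {A : Subgroup G} (hAM : A ≤ M)
    (hA : IsPGroup p A) : ∃ P : Sylow p ↥M, A ≤ (P : Subgroup ↥M).map M.subtype := by
  have h1 : IsPGroup p ↥(A.subgroupOf M) :=
    hA.of_equiv (Subgroup.subgroupOfEquivOfLe hAM).symm
  obtain ⟨P, hP⟩ := h1.exists_le_sylow
  refine ⟨P, ?_⟩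
  intro a ha
  exact ⟨⟨a, hAM ha⟩, hP (mem_subgroupOf.mpr ha), rfl⟩

/-- If `A ≤ M` lies in a unique maximal subgroup and `P ⊇ A` is a Sylow `p`-subgroup of `M`, then
`p ∈ σ(M)`. -/
theorem mem_sigma_of_uniq (hG : Cfsg.IsMinSimpleOddOrder G) {M : Subgroup G} (hM : IsCoatom M)
    {p : ℕ} [Fact p.Prime] {A : Subgroup G} (hAM : A ≤ M) (hA1 : A ≠ ⊥) (hA : IsPGroup p A)
    (hAu : Cfsg.InUniqueMaximal A) : p ∈ Cfsg.sigma M := by
  have hpp : p.Prime := Fact.out
  haveI := hG.2.1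
  obtain ⟨P, hAP⟩ := exists_sylow_in_ge hAM hA
  obtain ⟨L, ⟨hL, hAL⟩, hLu⟩ := hAu
  have hML : M = L := hLu M ⟨hM, hAM⟩
  have hP'M : (P : Subgroup ↥M).map M.subtype ≤ M := Subgroup.map_subtype_le _
  have hP'1 : (P : Subgroup ↥M).map M.subtype ≠ ⊥ := fun h => hA1 (le_bot_iff.mp (h ▸ hAP))
  have hP'top : (P : Subgroup ↥M).map M.subtype ≠ ⊤ := fun h => hM.1 (top_le_iff.mp (h ▸ hP'M))
  obtain ⟨L', hL', hNL'⟩ := Cfsg.Agent.Lib.Helper17.BGU.exists_coatom_ge
    (Cfsg.Agent.Lib.Helper17.BGU.normalizer_ne_top hP'1 hP'top)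
  have hL'M : L' = M := by
    rw [hML]; exact hLu L' ⟨hL', hAP.trans (le_normalizer.trans hNL')⟩
  refine ⟨hpp, ?_, P, hL'M ▸ hNL'⟩
  obtain ⟨k, hk⟩ := IsPGroup.iff_card.mp hA
  have hk0 : k ≠ 0 := by
    rintro rfl
    rw [pow_zero] at hk
    exact hA1 (Subgroup.card_eq_one.mp hk)
  exact (dvd_pow_self p hk0).trans (hk ▸ Subgroup.card_dvd_of_le hAM)

/-- **BG Lemma 10.5**, first part: for `p ∉ σ(M)`, every `E_{p²}`-subgroup of `M` is a maximal
elementary abelian subgroup of `G`. -/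
theorem elemAb_sq_maximal (hG : Cfsg.IsMinSimpleOddOrder G) (hU : UT G) {M : Subgroup G}
    (hM : IsCoatom M) {p : ℕ} [Fact p.Prime] (hp : p ∉ Cfsg.sigma M) {A : Subgroup G}
    (hAM : A ≤ M) (hAe : Cfsg.IsElementaryAbelian p A) (hA2 : Nat.card A = p ^ 2)
    {B : Subgroup G} (hBe : Cfsg.IsElementaryAbelian p B) (hAB : A ≤ B) : B = A := by
  have hpp : p.Prime := Fact.out
  by_contra hne
  apply hp
  have hA1 : A ≠ ⊥ := by
    intro h
    rw [h, Subgroup.card_bot] at hA2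
    have : 1 < p ^ 2 := Nat.one_lt_pow (by norm_num) hpp.one_lt
    omega
  apply mem_sigma_of_uniq hG hM hAM hA1 (isPGroup_of_elemAb hAe)
  apply hU A (fun h => hM.1 (top_le_iff.mp (h ▸ hAM))) (not_rankLE_one_of_sq_le hpp hAe hA2.ge)
    (Or.inr ?_)
  intro h3
  apply hne
  symm
  apply Subgroup.eq_of_le_of_card_ge hAB
  rw [hA2]
  have hBC : B ≤ centralizer (A : Set G) := by
    intro b hb
    rw [mem_centralizer_iff]
    intro a ha
    exact comm_of_isMulCommutative hBe.1 a (hAB ha) b hb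
  exact card_le_of_pRankLE hBe (Cfsg.Agent.Lib.Helper17.pRankLE_of_le hBC (h3 p hpp))

/-- An `E_{p²}`-subgroup of `M` when `M` has `p`-rank exactly 2. -/
theorem exists_elemAb_sq_of_rank_two {M : Subgroup G} {p : ℕ} [Fact p.Prime]
    (hr2 : Cfsg.PRankLE p 2 M) (hr1 : ¬ Cfsg.PRankLE p 1 M) :
    ∃ A : Subgroup G, A ≤ M ∧ Cfsg.IsElementaryAbelian p A ∧ Nat.card A = p ^ 2 := by
  have hpp : p.Prime := Fact.out
  unfold Cfsg.PRankLE at hr1
  push Not at hr1
  obtain ⟨A₀, hAc, hAe, hAcard⟩ := hr1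
  have hle := hr2 A₀ hAc hAe
  have hA₀p : IsPGroup p A₀ := fun a => ⟨1, by
    rw [pow_one]; exact Subtype.ext (by simpa using hAe a a.2)⟩
  obtain ⟨k, hk⟩ := IsPGroup.iff_card.mp hA₀p
  have hk2 : k = 2 := by
    rw [hk] at hle hAcard
    have h1 : k ≤ 2 := (Nat.pow_le_pow_iff_right hpp.one_lt).mp hle
    have h2 : 1 < k := (Nat.pow_lt_pow_iff_right hpp.one_lt).mp hAcard
    omega
  refine ⟨A₀.map M.subtype, Subgroup.map_subtype_le _, ⟨isMulCommutative_of_comm ?_, ?_⟩, ?_⟩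
  · rintro _ ⟨a, ha, rfl⟩ _ ⟨b, hb, rfl⟩
    exact congrArg Subtype.val (comm_of_isMulCommutative hAc a ha b hb)
  · rintro _ ⟨a, ha, rfl⟩
    exact congrArg Subtype.val (hAe a ha)
  · rw [Subgroup.card_map_of_injective M.subtype_injective, hk, hk2]

/-- **BG Lemma 10.5**, second part. -/
theorem not_idealPrime (hG : Cfsg.IsMinSimpleOddOrder G) (hU : UT G) {M : Subgroup G}
    (hM : IsCoatom M) {p : ℕ} [Fact p.Prime] (hp : p ∉ Cfsg.sigma M)
    (hr2 : Cfsg.PRankLE p 2 M) (hr1 : ¬ Cfsg.PRankLE p 1 M) : ¬ Cfsg.IsIdealPrime p G := by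
  rintro ⟨-, -, hideal⟩
  obtain ⟨A, hAM, hAe, hA2⟩ := exists_elemAb_sq_of_rank_two hr2 hr1
  obtain ⟨P, hAP⟩ := (isPGroup_of_elemAb hAe).exists_le_sylow
  obtain ⟨B, -, hBe, hAB⟩ := hideal P A hAP hAe hA2
  exact hAB.ne (elemAb_sq_maximal hG hU hM hp hAM hAe hA2 hBe hAB.le).symm

/-- **BG Lemma 10.6**. -/
theorem order_p_normalizer (hG : Cfsg.IsMinSimpleOddOrder G) (hU : UT G) {M : Subgroup G}
    (hM : IsCoatom M) {p : ℕ} [Fact p.Prime] (hp : p ∉ Cfsg.sigma M) {X : Subgroup G}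
    (hX : Nat.card X = p) (hNX : normalizer (X : Set G) ≤ M) :
    (Cfsg.PRankLE p 2 M ∧ ¬ Cfsg.PRankLE p 1 M) ∧ ¬ Cfsg.IsIdealPrime p G ∧
      ∃ A : Subgroup G, Cfsg.IsElementaryAbelian p A ∧ Nat.card A = p ^ 2 ∧ X ≤ A := by
  have hpp : p.Prime := Fact.out
  haveI := hG.2.1
  have hXM : X ≤ M := le_normalizer.trans hNX
  have hXp : IsPGroup p X := IsPGroup.of_card (n := 1) (by rw [hX, pow_one])
  have hpM : p ∣ Nat.card M := hX ▸ Subgroup.card_dvd_of_le hXM
  have hp2 : p ≠ 2 := ne_two_of_dvd_sub hG.1 hpM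
  obtain ⟨P, hXP⟩ := exists_sylow_in_ge hXM hXp
  set P' : Subgroup G := (P : Subgroup ↥M).map M.subtype with hP'
  have hP'p : IsPGroup p P' := P.isPGroup'.map _
  -- `P'` is not cyclic
  have hnc : ¬ IsCyclic ↥P' := by
    intro hcyc
    apply hp
    refine ⟨hpp, hpM, P, ?_⟩
    refine le_trans ?_ hNX
    intro g hg
    have hgP : P'.map (MulAut.conj g).toMonoidHom = P' := mem_normalizer_iff_map_conj.mp hg
    rw [mem_normalizer_iff_map_conj]
    have hXg : X.map (MulAut.conj g).toMonoidHom ≤ P' := by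
      rw [← hgP]; exact Subgroup.map_mono hXP
    have h1 : (X.map (MulAut.conj g).toMonoidHom).subgroupOf P' = X.subgroupOf P' := by
      apply Cfsg.Agent.Lib.Helper9.subgroup_eq_of_card_eq_of_isCyclic
      rw [card_subgroupOf_of_le hXg, card_subgroupOf_of_le hXP,
        Cfsg.Agent.Lib.Helper8.card_map_conj]
    rw [Subgroup.subgroupOf_inj, inf_eq_left.mpr hXg, inf_eq_left.mpr hXP] at h1
    exact h1
  have hr1 : ¬ Cfsg.PRankLE p 1 M := by
    intro h
    apply hnc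
    have hc : IsCyclic ↥(P : Subgroup ↥M) :=
      Cfsg.Agent.Lib.Helper17.isCyclic_of_pRankLE_one hp2 h (P : Subgroup ↥M) P.isPGroup'
    exact isCyclic_of_surjective ((P : Subgroup ↥M).equivMapOfInjective M.subtype
      M.subtype_injective) (MulEquiv.surjective _)
  have hr2 : Cfsg.PRankLE p 2 M := by
    by_contra h
    exact hp (alpha_subset_sigma hG hU hM ⟨hpp, h⟩)
  refine ⟨⟨hr2, hr1⟩, not_idealPrime hG hU hM hp hr2 hr1, ?_⟩
  obtain ⟨E, hEP, hPE, hEc, hEe, hE2⟩ :=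
    Cfsg.Agent.Lib.Helper17.BGU.exists_normal_elemAb_sq_in hp2 hP'p hnc
  by_cases hXE : X ≤ E
  · exact ⟨E, ⟨isMulCommutative_of_comm hEc, hEe⟩, hE2, hXE⟩
  -- a nontrivial element of `E` centralizing `P'`
  haveI hEn : (E.subgroupOf P').Normal := by
    refine ⟨fun e he g => ?_⟩
    rw [mem_subgroupOf] at he ⊢
    exact ((mem_normalizer_iff.mp (hPE g.2)) _).mp he
  have hE1 : E.subgroupOf P' ≠ ⊥ := by
    intro h
    have h1 : Nat.card (E.subgroupOf P') = 1 := by rw [h, Subgroup.card_bot]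
    rw [card_subgroupOf_of_le hEP, hE2] at h1
    have : 1 < p ^ 2 := Nat.one_lt_pow (by norm_num) hpp.one_lt
    omega
  obtain ⟨z, hzE, hz1, hzc⟩ :=
    Cfsg.Agent.Lib.Helper12.exists_ne_one_mem_center_of_normal hP'p (E.subgroupOf P') hE1
  have hzE' : (z : G) ∈ E := mem_subgroupOf.mp hzE
  have hz1' : (z : G) ≠ 1 := fun h => hz1 (Subtype.ext h)
  have hzp : (z : G) ^ p = 1 := hEe _ hzE'
  have hzX : ∀ x ∈ X, x * (z : G) = (z : G) * x := by
    intro x hx
    have := mem_center_iff.mp hzc ⟨x, hXP hx⟩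
    exact congrArg Subtype.val this
  have hzo : orderOf (z : G) = p := orderOf_eq_prime hzp hz1'
  have hznX : (z : G) ∉ X := by
    intro hzX'
    apply hXE
    -- `X = ⟨z⟩`
    have hle : zpowers (z : G) ≤ X := by rw [zpowers_le]; exact hzX'
    have heq : zpowers (z : G) = X := by
      apply Subgroup.eq_of_le_of_card_ge hle
      rw [Nat.card_zpowers, hzo, hX]
    rw [← heq, zpowers_le]; exact hzE'
  -- the subgroup `X ⊔ ⟨z⟩`
  have hXe : ∀ x ∈ X, x ^ p = 1 := by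
    intro x hx
    have := pow_card_eq_one' (G := ↥X) (x := ⟨x, hx⟩)
    rw [hX] at this
    exact congrArg Subtype.val this
  have hXc : ∀ a ∈ X, ∀ b ∈ X, a * b = b * a := by
    haveI : Fact p.Prime := ⟨hpp⟩
    haveI : IsCyclic ↥X := isCyclic_of_prime_card hX
    intro a ha b hb
    have := IsCyclic.commGroup.mul_comm (⟨a, ha⟩ : ↥X) ⟨b, hb⟩
    exact congrArg Subtype.val this
  obtain ⟨hc, he⟩ := elemAb_closure (p := p) ((X : Set G) ∪ {(z : G)}) (by
    rintro a (ha | ha) b (hb | hb)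
    · exact hXc a ha b hb
    · rw [Set.mem_singleton_iff] at hb; subst hb
      exact hzX a ha
    · rw [Set.mem_singleton_iff] at ha; subst ha
      exact (hzX b hb).symm
    · rw [Set.mem_singleton_iff] at ha hb; subst ha; subst hb; rfl) (by
    rintro a (ha | ha)
    · exact hXe a ha
    · rw [Set.mem_singleton_iff] at ha; subst ha; exact hzp)
  have hcl : closure ((X : Set G) ∪ {(z : G)}) = zpowers (z : G) ⊔ X := by
    rw [Subgroup.closure_union, Subgroup.closure_eq, ← Subgroup.zpowers_eq_closure, sup_comm]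
  refine ⟨closure ((X : Set G) ∪ {(z : G)}), ⟨isMulCommutative_of_comm hc, he⟩, ?_, ?_⟩
  · rw [hcl]
    have hnorm : zpowers (z : G) ≤ normalizer (X : Set G) := by
      rw [zpowers_le]
      apply mem_normalizer_of_forall_conj_mem
      intro x hx
      have e : (z : G) * x * (z : G)⁻¹ = x := by rw [← hzX x hx]; group
      rw [e]; exact hx
    have h1 := Cfsg.Agent.Lib.Helper4.card_sup_mul_card_inf (zpowers (z : G)) X hnorm
    have hinf : zpowers (z : G) ⊓ X = ⊥ := by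
      have hdvd : Nat.card (zpowers (z : G) ⊓ X : Subgroup G) ∣ p := by
        rw [← hX]; exact Subgroup.card_dvd_of_le inf_le_right
      rcases (Nat.dvd_prime hpp).mp hdvd with h | h
      · exact Subgroup.card_eq_one.mp h
      · exfalso
        apply hznX
        have : zpowers (z : G) ⊓ X = zpowers (z : G) := by
          apply Subgroup.eq_of_le_of_card_ge inf_le_left
          rw [h, Nat.card_zpowers, hzo]
        have h2 : zpowers (z : G) ≤ X := by rw [← this]; exact inf_le_right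
        exact h2 (mem_zpowers _)
    rw [hinf, Subgroup.card_bot, mul_one, Nat.card_zpowers, hzo, hX] at h1
    rw [h1]; ring
  · intro x hx
    exact subset_closure (Or.inl hx)

end Cfsg.Agent.Lib.Helper1.BGX
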