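/-
helper1: general theory of the upper `p`-series and `p`-length (`Cfsg.PLengthLE`):
elementwise step criteria, behaviour under surjective homs (with shift), injective homs
(subgroups), characteristic, extensions.
-/
import Mathlib
import Cfsg.Prelude.Def_Local
import Cfsg.Agent.Lib.Helper12.Cores
import Cfsg.Agent.Lib.Helper25.UpperPSeries

set_option autoImplicit false

namespace Cfsg.Agent.Lib.Helper1.PLen

open Cfsg Cfsg.Agent.Lib.Helper12 Cfsg.Agent.Lib.Helper25

universe u v

variable {G : Type u} [Group G]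

/-- going down an even step: a fixed exponent prime to `p`. -/
theorem exists_pow_mem_of_even [Finite G] (p : ℕ) {j : ℕ} (hj : Even j) :
    ∃ m : ℕ, m.Coprime p ∧ ∀ x ∈ (upperPSeries p G (j + 1)).1, x ^ m ∈ (upperPSeries p G j).1 := by
  refine ⟨Nat.card (pPrimeCore p (G ⧸ (upperPSeries p G j).1)), pPrimeCore_coprime p, ?_⟩
  intro x hx
  rw [upperPSeries_succ_even p j hj, Subgroup.mem_comap] at hx
  have h1 : (⟨_, hx⟩ : pPrimeCore p (G ⧸ (upperPSeries p G j).1)) ^
      Nat.card (pPrimeCore p (G ⧸ (upperPSeries p G j).1)) = 1 := pow_card_eq_one'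
  have h2 := congrArg Subtype.val h1
  simp only [Subgroup.coe_pow, Subgroup.coe_one] at h2
  rw [← (QuotientGroup.eq_one_iff (x ^ _))]
  rw [← h2]
  rfl

/-- going down an odd step: a `p`-power exponent. -/
theorem exists_pow_mem_of_odd (p : ℕ) [Fact p.Prime] {j : ℕ} (hj : ¬ Even j) :
    ∀ x ∈ (upperPSeries p G (j + 1)).1, ∃ n : ℕ, x ^ p ^ n ∈ (upperPSeries p G j).1 := by
  intro x hx
  rw [upperPSeries_succ_odd p j hj, Subgroup.mem_comap] at hx
  obtain ⟨n, hn⟩ := (pCore_isPGroup' (X := G ⧸ (upperPSeries p G j).1) p) ⟨_, hx⟩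
  refine ⟨n, ?_⟩
  have h2 := congrArg Subtype.val hn
  simp only [Subgroup.coe_pow, Subgroup.coe_one] at h2
  rw [← (QuotientGroup.eq_one_iff (x ^ _))]
  rw [← h2]
  rfl

/-- A finite group all of whose elements are killed by exponents prime to `p` has order prime to
`p`. -/
theorem card_coprime_of_forall_pow [Finite G] (p : ℕ) [hp : Fact p.Prime]
    (h : ∀ x : G, ∃ m : ℕ, m.Coprime p ∧ x ^ m = 1) : (Nat.card G).Coprime p := by
  by_contra hc
  have hdvd : p ∣ Nat.card G := by
    rw [Nat.coprime_comm, Nat.Prime.coprime_iff_not_dvd hp.out] at hc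
    exact not_not.mp hc
  obtain ⟨x, hx⟩ := exists_prime_orderOf_dvd_card' p hdvd
  obtain ⟨m, hm, hxm⟩ := h x
  have h1 : p ∣ m := by rw [← hx]; exact orderOf_dvd_of_pow_eq_one hxm
  have h2 : p ∣ Nat.gcd m p := Nat.dvd_gcd h1 dvd_rfl
  rw [hm] at h2
  exact hp.out.one_lt.ne' (Nat.dvd_one.mp h2)

/-- even step criterion. -/
theorem le_upperPSeries_succ_of_even [Finite G] (p : ℕ) [hp : Fact p.Prime] {j : ℕ} (hj : Even j)
    (V : Subgroup G) [hV : V.Normal]
    (h : ∀ x ∈ V, ∃ m : ℕ, m.Coprime p ∧ x ^ m ∈ (upperPSeries p G j).1) :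
    V ≤ (upperPSeries p G (j + 1)).1 := by
  set W := (upperPSeries p G j).1 with hW
  set M := V.map (QuotientGroup.mk' W) with hM
  have : M.Normal := Subgroup.Normal.map hV _ (QuotientGroup.mk'_surjective W)
  have hMc : (Nat.card M).Coprime p := by
    apply card_coprime_of_forall_pow
    rintro ⟨y, hy⟩
    obtain ⟨x, hxV, rfl⟩ := hy
    obtain ⟨m, hm, hxm⟩ := h x hxV
    refine ⟨m, hm, ?_⟩
    apply Subtype.ext
    simp only [Subgroup.coe_pow, Subgroup.coe_one]
    rw [← map_pow]
    exact (QuotientGroup.eq_one_iff (x ^ m)).mpr hxm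
  have hle : M ≤ pPrimeCore p (G ⧸ W) := le_pPrimeCore p M inferInstance hMc
  rw [upperPSeries_succ_even p j hj]
  intro x hx
  rw [Subgroup.mem_comap]
  exact hle ⟨x, hx, rfl⟩

/-- odd step criterion. -/
theorem le_upperPSeries_succ_of_odd (p : ℕ) {j : ℕ} (hj : ¬ Even j)
    (V : Subgroup G) [hV : V.Normal]
    (h : ∀ x ∈ V, ∃ n : ℕ, x ^ p ^ n ∈ (upperPSeries p G j).1) :
    V ≤ (upperPSeries p G (j + 1)).1 := by
  set W := (upperPSeries p G j).1 with hW
  set M := V.map (QuotientGroup.mk' W) with hM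
  have : M.Normal := Subgroup.Normal.map hV _ (QuotientGroup.mk'_surjective W)
  have hMp : IsPGroup p M := by
    rintro ⟨y, hy⟩
    obtain ⟨x, hxV, rfl⟩ := hy
    obtain ⟨n, hxn⟩ := h x hxV
    refine ⟨n, ?_⟩
    apply Subtype.ext
    simp only [Subgroup.coe_pow, Subgroup.coe_one]
    rw [← map_pow]
    exact (QuotientGroup.eq_one_iff (x ^ p ^ n)).mpr hxn
  have hle : M ≤ pCore p (G ⧸ W) := le_pCore' p M inferInstance hMp
  rw [upperPSeries_succ_odd p j hj]
  intro x hx
  rw [Subgroup.mem_comap]
  exact hle ⟨x, hx, rfl⟩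

/-- Surjective homs with a shift: if `f` kills the term `c` (`c` even) of the upper series of `G`
then `f` maps the term `c + j` into the term `j` of the upper series of `H`. -/
theorem map_upperPSeries_add_le {H : Type v} [Group H] [Finite G] [Finite H] (p : ℕ)
    [hp : Fact p.Prime] (f : G →* H) (hf : Function.Surjective f) {c : ℕ} (hc : Even c)
    (hker : (upperPSeries p G c).1 ≤ f.ker) (j : ℕ) :
    (upperPSeries p G (c + j)).1.map f ≤ (upperPSeries p H j).1 := by
  induction j with
  | zero =>
    rw [Nat.add_zero]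
    rintro _ ⟨x, hx, rfl⟩
    have : f x = 1 := hker hx
    rw [this]; exact Subgroup.one_mem _
  | succ j ih =>
    have : ((upperPSeries p G (c + j + 1)).1.map f).Normal :=
      Subgroup.Normal.map inferInstance _ hf
    rw [← Nat.add_assoc]
    by_cases hj : Even j
    · have hcj : Even (c + j) := hc.add hj
      obtain ⟨m, hm, hpow⟩ := exists_pow_mem_of_even (G := G) p hcj
      apply le_upperPSeries_succ_of_even p hj
      rintro _ ⟨x, hx, rfl⟩
      refine ⟨m, hm, ?_⟩
      rw [← map_pow]
      exact ih ⟨_, hpow x hx, rfl⟩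
    · have hcj : ¬ Even (c + j) := by
        rw [Nat.even_add]; simp [hc, hj]
      apply le_upperPSeries_succ_of_odd p hj
      rintro _ ⟨x, hx, rfl⟩
      obtain ⟨n, hn⟩ := exists_pow_mem_of_odd (G := G) p hcj x hx
      refine ⟨n, ?_⟩
      rw [← map_pow]
      exact ih ⟨_, hn, rfl⟩

theorem map_upperPSeries_le {H : Type v} [Group H] [Finite G] [Finite H] (p : ℕ)
    [hp : Fact p.Prime] (f : G →* H) (hf : Function.Surjective f) (j : ℕ) :
    (upperPSeries p G j).1.map f ≤ (upperPSeries p H j).1 := by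
  have h := map_upperPSeries_add_le p f hf (c := 0) Even.zero (by
    show (⊥ : Subgroup G) ≤ f.ker
    exact bot_le) j
  rwa [Nat.zero_add] at h

/-- `p`-length passes to homomorphic images. -/
theorem pLengthLE_of_surjective {H : Type v} [Group H] [Finite G] [Finite H] (p : ℕ)
    [hp : Fact p.Prime] (f : G →* H) (hf : Function.Surjective f) {k : ℕ}
    (h : PLengthLE p k G) : PLengthLE p k H := by
  unfold PLengthLE at h ⊢
  have h1 := map_upperPSeries_le p f hf (2 * k + 1)
  rw [h, Subgroup.map_top_of_surjective f hf] at h1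
  exact top_le_iff.mp h1

/-- `p`-length of `G / O_{p',p}(G)` drops by one. -/
theorem pLengthLE_of_surjective_shift {H : Type v} [Group H] [Finite G] [Finite H] (p : ℕ)
    [hp : Fact p.Prime] (f : G →* H) (hf : Function.Surjective f)
    (hker : (upperPSeries p G 2).1 ≤ f.ker) {k : ℕ}
    (h : PLengthLE p (k + 1) G) : PLengthLE p k H := by
  unfold PLengthLE at h ⊢
  have h1 := map_upperPSeries_add_le p f hf (c := 2) (by decide) hker (2 * k + 1)
  rw [show 2 + (2 * k + 1) = 2 * (k + 1) + 1 by ring, h, Subgroup.map_top_of_surjective f hf] at h1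
  exact top_le_iff.mp h1

/-- Injective homs: the preimage of the upper series of the big group lies in that of the small
one. -/
theorem comap_upperPSeries_le {K : Type v} [Group K] [Finite G] [Finite K] (p : ℕ)
    [hp : Fact p.Prime] (f : K →* G) (hf : Function.Injective f) (j : ℕ) :
    (upperPSeries p G j).1.comap f ≤ (upperPSeries p K j).1 := by
  induction j with
  | zero =>
    intro x hx
    have h1 : f x = 1 := hx
    have h2 : x = 1 := hf (by rw [h1, map_one])
    rw [h2]; exact Subgroup.one_mem _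
  | succ j ih =>
    by_cases hj : Even j
    · obtain ⟨m, hm, hpow⟩ := exists_pow_mem_of_even (G := G) p hj
      apply le_upperPSeries_succ_of_even p hj
      intro x hx
      refine ⟨m, hm, ih ?_⟩
      rw [Subgroup.mem_comap, map_pow]
      exact hpow _ hx
    · apply le_upperPSeries_succ_of_odd p hj
      intro x hx
      obtain ⟨n, hn⟩ := exists_pow_mem_of_odd (G := G) p hj _ hx
      refine ⟨n, ih ?_⟩
      rw [Subgroup.mem_comap, map_pow]
      exact hn

/-- `p`-length passes to subgroups (any group embedding into `G`). -/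
theorem pLengthLE_of_injective {K : Type v} [Group K] [Finite G] [Finite K] (p : ℕ)
    [hp : Fact p.Prime] (f : K →* G) (hf : Function.Injective f) {k : ℕ}
    (h : PLengthLE p k G) : PLengthLE p k K := by
  unfold PLengthLE at h ⊢
  have h1 := comap_upperPSeries_le p f hf (2 * k + 1)
  rw [h, Subgroup.comap_top] at h1
  exact top_le_iff.mp h1

theorem pLengthLE_subgroup [Finite G] (p : ℕ) [hp : Fact p.Prime] (K : Subgroup G) {k : ℕ}
    (h : PLengthLE p k G) : PLengthLE p k K :=
  pLengthLE_of_injective p K.subtype K.subtype_injective h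

theorem pLengthLE_quotient [Finite G] (p : ℕ) [hp : Fact p.Prime] (N : Subgroup G) [N.Normal]
    {k : ℕ} (h : PLengthLE p k G) : PLengthLE p k (G ⧸ N) :=
  pLengthLE_of_surjective p (QuotientGroup.mk' N) (QuotientGroup.mk'_surjective N) h

theorem pLengthLE_mono (p : ℕ) {k k' : ℕ} (hk : k ≤ k') (h : PLengthLE p k G) :
    PLengthLE p k' G := by
  unfold PLengthLE at h ⊢
  have h1 := upperPSeries_mono (G := G) p (show 2 * k + 1 ≤ 2 * k' + 1 by omega)
  rw [h] at h1
  exact top_le_iff.mp h1

/-- The upper `p`-series is invariant under isomorphisms. -/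
theorem map_upperPSeries_equiv {H : Type v} [Group H] [Finite G] [Finite H] (p : ℕ)
    [hp : Fact p.Prime] (e : G ≃* H) (j : ℕ) :
    (upperPSeries p G j).1.map e.toMonoidHom = (upperPSeries p H j).1 := by
  apply le_antisymm
  · exact map_upperPSeries_le p e.toMonoidHom e.surjective j
  · have h1 := map_upperPSeries_le p e.symm.toMonoidHom e.symm.surjective j
    intro y hy
    refine ⟨e.symm y, h1 ⟨y, hy, rfl⟩, ?_⟩
    simp

theorem upperPSeries_characteristic [Finite G] (p : ℕ) [hp : Fact p.Prime] (j : ℕ) :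
    (upperPSeries p G j).1.Characteristic :=
  Subgroup.characteristic_iff_map_eq.mpr (fun φ => map_upperPSeries_equiv p φ j)

/-- A group of order prime to `p` has `p`-length `0`. -/
theorem pLengthLE_zero_of_coprime [Finite G] (p : ℕ) [hp : Fact p.Prime]
    (h : (Nat.card G).Coprime p) : PLengthLE p 0 G := by
  unfold PLengthLE
  apply top_le_iff.mp
  apply le_upperPSeries_succ_of_even p (by decide : Even (2 * 0))
  intro x _
  refine ⟨Nat.card G, h, ?_⟩
  rw [pow_card_eq_one']; exact Subgroup.one_mem _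

/-- A `p`-group has `p`-length at most `1`. -/
theorem pLengthLE_one_of_isPGroup (p : ℕ) (h : IsPGroup p G) : PLengthLE p 1 G := by
  unfold PLengthLE
  apply top_le_iff.mp
  refine le_trans ?_ (upperPSeries_le_succ p 2)
  apply le_upperPSeries_succ_of_odd p (by decide : ¬ Even 1)
  intro x _
  obtain ⟨n, hn⟩ := h x
  refine ⟨n, ?_⟩
  rw [hn]; exact Subgroup.one_mem _

/-- Extensions: `l_p(G) ≤ l_p(N) + l_p(G/N)`. -/
theorem pLengthLE_of_extension [Finite G] (p : ℕ) [hp : Fact p.Prime] (N : Subgroup G)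
    [hN : N.Normal] {a b : ℕ} (hNa : PLengthLE p a N) (hQb : PLengthLE p b (G ⧸ N)) :
    PLengthLE p (a + b) G := by
  -- first stage: the series of `N`
  have h1 : ∀ j, (upperPSeries p N j).1.map N.subtype ≤ (upperPSeries p G j).1 := by
    intro j
    induction j with
    | zero =>
      rintro _ ⟨x, hx, rfl⟩
      have : x = 1 := hx
      rw [this, map_one]; exact Subgroup.one_mem _
    | succ j ih =>
      haveI : (upperPSeries p N (j + 1)).1.Characteristic := upperPSeries_characteristic p (j + 1)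
      haveI : ((upperPSeries p N (j + 1)).1.map N.subtype).Normal :=
        ConjAct.normal_of_characteristic_of_normal
      by_cases hj : Even j
      · obtain ⟨m, hm, hpow⟩ := exists_pow_mem_of_even (G := N) p hj
        apply le_upperPSeries_succ_of_even p hj
        rintro _ ⟨x, hx, rfl⟩
        refine ⟨m, hm, ih ?_⟩
        rw [← map_pow]
        exact ⟨_, hpow x hx, rfl⟩
      · apply le_upperPSeries_succ_of_odd p hj
        rintro _ ⟨x, hx, rfl⟩
        obtain ⟨n, hn⟩ := exists_pow_mem_of_odd (G := N) p hj x hx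
        refine ⟨n, ih ?_⟩
        rw [← map_pow]
        exact ⟨_, hn, rfl⟩
  -- second stage
  have h2 : ∀ i, (upperPSeries p (G ⧸ N) (i + 1)).1.comap (QuotientGroup.mk' N) ≤
      (upperPSeries p G (2 * a + (i + 1))).1 := by
    intro i
    induction i with
    | zero =>
      obtain ⟨m, hm, hpow⟩ := exists_pow_mem_of_even (G := G ⧸ N) p (Even.zero)
      obtain ⟨m', hm', hpow'⟩ := exists_pow_mem_of_even (G := N) p (even_two_mul a)
      rw [Nat.zero_add]
      apply le_upperPSeries_succ_of_even p (even_two_mul a)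
      intro x hx
      rw [Subgroup.mem_comap] at hx
      have hx1 : (QuotientGroup.mk' N x) ^ m ∈ (upperPSeries p (G ⧸ N) 0).1 := hpow _ hx
      have hx2 : (QuotientGroup.mk' N x) ^ m = 1 := hx1
      rw [← map_pow] at hx2
      have hx3 : x ^ m ∈ N := (QuotientGroup.eq_one_iff (x ^ m)).mp hx2
      have hx4 : (⟨x ^ m, hx3⟩ : N) ∈ (upperPSeries p N (2 * a + 1)).1 := by
        rw [show (upperPSeries p N (2 * a + 1)).1 = ⊤ from hNa]; trivial
      have hx5 := hpow' _ hx4
      refine ⟨m * m', Nat.Coprime.mul_left hm hm', ?_⟩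
      apply h1 (2 * a)
      refine ⟨_, hx5, ?_⟩
      simp [pow_mul]
    | succ i ih =>
      rw [show 2 * a + (i + 1 + 1) = (2 * a + (i + 1)) + 1 by ring]
      by_cases hi : Even (i + 1)
      · have hi' : Even (2 * a + (i + 1)) := (even_two_mul a).add hi
        obtain ⟨m, hm, hpow⟩ := exists_pow_mem_of_even (G := G ⧸ N) p hi
        apply le_upperPSeries_succ_of_even p hi'
        intro x hx
        rw [Subgroup.mem_comap] at hx
        refine ⟨m, hm, ih ?_⟩
        rw [Subgroup.mem_comap, map_pow]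
        exact hpow _ hx
      · have hi' : ¬ Even (2 * a + (i + 1)) := by
          rw [Nat.even_add]; simp [hi]
        apply le_upperPSeries_succ_of_odd p hi'
        intro x hx
        rw [Subgroup.mem_comap] at hx
        obtain ⟨n, hn⟩ := exists_pow_mem_of_odd (G := G ⧸ N) p hi _ hx
        refine ⟨n, ih ?_⟩
        rw [Subgroup.mem_comap, map_pow]
        exact hn
  unfold PLengthLE at hQb ⊢
  have h3 := h2 (2 * b)
  rw [hQb, Subgroup.comap_top] at h3
  rw [show 2 * (a + b) + 1 = 2 * a + (2 * b + 1) by ring]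
  exact top_le_iff.mp h3

/-- the first term of the upper series is `O_{p'}(G)` (finite `G`). -/
theorem upperPSeries_one_eq [Finite G] (p : ℕ) [hp : Fact p.Prime] :
    (upperPSeries p G 1).1 = pPrimeCore p G := by
  apply le_antisymm
  · apply le_pPrimeCore p _ inferInstance
    apply card_coprime_of_forall_pow
    obtain ⟨m, hm, hpow⟩ := exists_pow_mem_of_even (G := G) p Even.zero
    rintro ⟨x, hx⟩
    refine ⟨m, hm, ?_⟩
    apply Subtype.ext
    simp only [Subgroup.coe_pow, Subgroup.coe_one]
    have h1 : x ^ m ∈ (upperPSeries p G 0).1 := hpow x hx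
    exact h1
  · haveI : (pPrimeCore p G).Normal := Cfsg.Agent.Lib.Helper24.pPrimeCore_normal' p
    apply le_upperPSeries_succ_of_even p Even.zero
    intro x hx
    refine ⟨Nat.card (pPrimeCore p G), pPrimeCore_coprime p, ?_⟩
    have h1 : (⟨x, hx⟩ : pPrimeCore p G) ^ Nat.card (pPrimeCore p G) = 1 := pow_card_eq_one'
    have h2 := congrArg Subtype.val h1
    simp only [Subgroup.coe_pow, Subgroup.coe_one] at h2
    rw [h2]; exact Subgroup.one_mem _

theorem pLengthLE_of_mulEquiv {H : Type v} [Group H] [Finite G] [Finite H] (p : ℕ)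
    [hp : Fact p.Prime] (e : G ≃* H) {k : ℕ} (h : PLengthLE p k G) : PLengthLE p k H :=
  pLengthLE_of_surjective p e.toMonoidHom e.surjective h

end Cfsg.Agent.Lib.Helper1.PLen
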