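import Mathlib
import Cfsg.Agent.S0012
import Cfsg.Agent.Lib.Helper1.Basic
import Cfsg.Agent.Lib.Helper1.Commutator
import Cfsg.Agent.Lib.Helper1.Coprime
import Cfsg.Agent.Lib.Helper1.CoprimeAbelian
import Cfsg.Agent.Lib.Helper1.NilpotentAction
import Cfsg.Agent.Lib.Helper1.TraceIdentity
import Cfsg.Agent.Lib.Helper4.Basic
import Cfsg.Agent.Lib.Helper4.CoprimeIndex
import Cfsg.Agent.Lib.Helper20.PGroupBasics

/-!
Coprime action with a centralizer of prime index: `|K : C_K(A)| = p` implies `|[K, A]| = p`.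
-/

set_option autoImplicit false

namespace Cfsg.Agent.Lib.Helper1

open Subgroup
open scoped commutatorElement

/-- Averaging: if `Q = [Q, A]` under a coprime action, then `C_Q(A) ≤ Q'`. -/
theorem mem_commutator_of_mem_centralizer {G : Type*} [Group G] [Finite G] (A Q : Subgroup G)
    (hAQ : A ≤ normalizer (Q : Set G)) (hcop : (Nat.card A).Coprime (Nat.card Q))
    (hcomm : ⁅Q, A⁆ = Q) (c : Q) (hc : (c : G) ∈ centralizer (A : Set G)) :
    c ∈ commutator Q := by
  classical
  haveI : Fintype A := Fintype.ofFinite A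
  -- the automorphisms induced by `A`
  let α : A →* MulAut Q := (Q.normalizerMonoidHom).comp (Subgroup.inclusion hAQ)
  have hα : ∀ (a : A) (x : Q), ((α a x : Q) : G) = a * x * (a : G)⁻¹ := fun a x => rfl
  let β : A →* MulAut (Abelianization Q) := (abAut Q).comp α
  have hβ : ∀ (a : A) (x : Q), β a (Abelianization.of x) = Abelianization.of (α a x) := by
    intro a x
    show (α a).abelianizationCongr (Abelianization.of x) = _
    exact abelianizationCongr_of _ x
  let N : Abelianization Q →* Abelianization Q := ∏ a : A, (β a).toMonoidHom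
  have hN : ∀ v, N v = ∏ a : A, β a v := by
    intro v
    simp only [N, MonoidHom.finset_prod_apply]
    rfl
  have hN1 : ∀ (b : A) v, N (β b v) = N v := by
    intro b v
    rw [hN, hN]
    have h1 : ∀ a : A, β a (β b v) = β (a * b) v := fun a => by rw [map_mul]; rfl
    simp only [h1]
    exact Equiv.prod_comp (Equiv.mulRight b) (fun a => β a v)
  have hN2 : ∀ y ∈ ⁅Q, A⁆, ∀ hy : y ∈ Q, N (Abelianization.of ⟨y, hy⟩) = 1 := by
    intro y hy
    rw [Subgroup.commutator_def] at hy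
    induction hy using Subgroup.closure_induction with
    | mem y hy =>
      obtain ⟨x, hx, b, hb, rfl⟩ := hy
      intro hy
      have e : (⟨⁅x, b⁆, hy⟩ : Q) = ⟨x, hx⟩ * (α ⟨b, hb⟩ ⟨x, hx⟩)⁻¹ := by
        apply Subtype.ext
        rw [Subgroup.coe_mul, Subgroup.coe_inv, hα]
        simp only [commutatorElement_def]
        group
      rw [e, map_mul, map_inv, map_mul, map_inv, ← hβ, hN1, mul_inv_cancel]
    | one =>
      intro hy
      have : (⟨1, hy⟩ : Q) = 1 := rfl
      rw [this, map_one, map_one]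
    | mul y z hy hz ihy ihz =>
      intro hyz
      have hyQ : y ∈ Q := by
        have : y ∈ ⁅Q, A⁆ := by rw [Subgroup.commutator_def]; exact hy
        exact commutator_le_of_le_normalizer hAQ this
      have hzQ : z ∈ Q := by
        have : z ∈ ⁅Q, A⁆ := by rw [Subgroup.commutator_def]; exact hz
        exact commutator_le_of_le_normalizer hAQ this
      have : (⟨y * z, hyz⟩ : Q) = ⟨y, hyQ⟩ * ⟨z, hzQ⟩ := rfl
      rw [this, map_mul, map_mul, ihy hyQ, ihz hzQ, one_mul]
    | inv y hy ihy =>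
      intro hyi
      have hyQ : y ∈ Q := by
        have : y ∈ ⁅Q, A⁆ := by rw [Subgroup.commutator_def]; exact hy
        exact commutator_le_of_le_normalizer hAQ this
      have : (⟨y⁻¹, hyi⟩ : Q) = (⟨y, hyQ⟩ : Q)⁻¹ := rfl
      rw [this, map_inv, map_inv, ihy hyQ, inv_one]
  have hcc : (c : G) ∈ ⁅Q, A⁆ := by rw [hcomm]; exact c.2
  have hN3 : N (Abelianization.of c) = 1 := hN2 c hcc c.2
  -- `A` fixes `of c`
  have hfix : ∀ a : A, β a (Abelianization.of c) = Abelianization.of c := by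
    intro a
    rw [hβ]
    congr 1
    apply Subtype.ext
    rw [hα]
    have := (mem_centralizer_iff.mp hc) a a.2
    rw [this]
    group
  have h1 : (Abelianization.of c) ^ Nat.card A = 1 := by
    rw [← hN3, hN]
    simp only [hfix]
    rw [Finset.prod_const, Finset.card_univ, Nat.card_eq_fintype_card]
  have h2 : (Abelianization.of c) ^ Nat.card Q = 1 := by
    rw [← map_pow, pow_card_eq_one', map_one]
  have h3 : orderOf (Abelianization.of c) ∣ Nat.gcd (Nat.card A) (Nat.card Q) :=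
    Nat.dvd_gcd (orderOf_dvd_of_pow_eq_one h1) (orderOf_dvd_of_pow_eq_one h2)
  rw [hcop, Nat.dvd_one, orderOf_eq_one_iff] at h3
  rw [← Abelianization.ker_of]
  exact h3

/-- Coprime action on a `p`-group `Q = [Q, A]` with `|Q : C_Q(A)| = p`: then `|Q| = p`. -/
theorem card_eq_prime_of_commutator_eq {G : Type*} [Group G] [Finite G] {p : ℕ} [Fact p.Prime]
    (A Q : Subgroup G) (hQ : IsPGroup p Q) (hAQ : A ≤ normalizer (Q : Set G))
    (hcop : (Nat.card A).Coprime (Nat.card Q)) (hcomm : ⁅Q, A⁆ = Q)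
    (hidx : (Q ⊓ centralizer (A : Set G)).relIndex Q = p) : Nat.card Q = p := by
  have hp : p.Prime := Fact.out
  obtain ⟨C', hC'⟩ : ∃ C' : Subgroup Q, C' = (Q ⊓ centralizer (A : Set G)).subgroupOf Q := ⟨_, rfl⟩
  have hC'idx : C'.index = p := by rw [hC']; exact hidx
  have hC'frat : C' ≤ frattini Q := by
    intro c hc
    rw [hC', mem_subgroupOf] at hc
    have hcC : (c : G) ∈ centralizer (A : Set G) := (Subgroup.mem_inf.mp hc).2
    have h1 := mem_commutator_of_mem_centralizer A Q hAQ hcop hcomm c hcC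
    exact (Cfsg.Agent.S0012.result p hQ).1 h1
  have hne : C' ≠ ⊤ := by
    intro h
    rw [h, Subgroup.index_top] at hC'idx
    exact hp.one_lt.ne hC'idx
  obtain ⟨x₀, -, hx₀⟩ := SetLike.exists_of_lt (lt_top_iff_ne_top.mpr hne)
  have htop : zpowers x₀ ⊔ C' = ⊤ := by
    apply Cfsg.Agent.Lib.Helper20.eq_top_of_index_prime hp hC'idx le_sup_right
    intro hle
    exact hx₀ (hle (mem_sup_left (mem_zpowers x₀)))
  have htop' : zpowers x₀ ⊔ frattini Q = ⊤ := by
    rw [eq_top_iff, ← htop]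
    exact sup_le_sup_left hC'frat _
  have hcyc : zpowers x₀ = ⊤ := frattini_nongenerating htop'
  have hQcyc : IsCyclic Q := by
    refine ⟨⟨x₀, fun y => ?_⟩⟩
    have : y ∈ zpowers x₀ := hcyc ▸ mem_top y
    exact this
  have hQcomm : IsMulCommutative Q := IsCyclic.isMulCommutative
  have h := centralizer_inf_commutator_eq_bot A Q hAQ hcop
  rw [hcomm] at h
  have hbot : Q ⊓ centralizer (A : Set G) = ⊥ := by
    rw [← h]
    exact (inf_eq_left.mpr inf_le_left).symm
  rw [hbot, Subgroup.relIndex_bot_left] at hidx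
  exact hidx

/-- Coprime action on a `p`-group `P` with `|P : C_P(A)| = p`: then `|[P, A]| = p`. -/
theorem card_commutator_eq_prime_of_isPGroup {G : Type*} [Group G] [Finite G] {p : ℕ}
    [Fact p.Prime] (A P : Subgroup G) (hP : IsPGroup p P) (hAP : A ≤ normalizer (P : Set G))
    (hcop : (Nat.card A).Coprime (Nat.card P))
    (hidx : (P ⊓ centralizer (A : Set G)).relIndex P = p) :
    Nat.card (⁅P, A⁆ : Subgroup G) = p := by
  obtain ⟨P₁, hP₁⟩ : ∃ P₁ : Subgroup G, P₁ = ⁅P, A⁆ := ⟨_, rfl⟩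
  rw [← hP₁]
  have hP₁P : P₁ ≤ P := hP₁ ▸ commutator_le_of_le_normalizer hAP
  have hPN : P ≤ normalizer (P₁ : Set G) := hP₁ ▸ le_normalizer_commutator_left P A
  have hAN : A ≤ normalizer (P₁ : Set G) := hP₁ ▸ le_normalizer_commutator_right P A
  have hP₁p : IsPGroup p P₁ := hP.to_le hP₁P
  have hcop₁ : (Nat.card A).Coprime (Nat.card P₁) :=
    Nat.Coprime.coprime_dvd_right (Subgroup.card_dvd_of_le hP₁P) hcop
  have hsolv : Group.IsSolvable A ∨ Group.IsSolvable P₁ := by
    right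
    haveI := hP₁p.isNilpotent
    infer_instance
  have h4a : ∀ x ∈ P, ∃ n ∈ P₁, x * n ∈ P ⊓ centralizer (A : Set G) := by
    intro x hx
    have hxa : ∀ a ∈ A, x⁻¹ * a * x * a⁻¹ ∈ P₁ := by
      intro a ha
      have e : x⁻¹ * a * x * a⁻¹ = ⁅x⁻¹, a⁆ := by simp [commutatorElement_def]
      rw [e, hP₁]
      exact Subgroup.commutator_mem_commutator (P.inv_mem hx) ha
    obtain ⟨n, hn, hxn⟩ := exists_mul_mem_centralizer hAN hcop₁ hsolv x hxa
    exact ⟨n, hn, Subgroup.mem_inf.mpr ⟨P.mul_mem hx (hP₁P hn), hxn⟩⟩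
  have h4b : ⁅P₁, A⁆ = P₁ := by
    apply le_antisymm (commutator_le_of_le_normalizer hAN)
    have hle : ⁅P, A⁆ ≤ ⁅P₁, A⁆ := by
      rw [Subgroup.commutator_le]
      intro x hx a ha
      obtain ⟨n, hn, hc⟩ := h4a x hx
      obtain ⟨hcP, hcA⟩ := Subgroup.mem_inf.mp hc
      have hca : a * (x * n) = (x * n) * a := (mem_centralizer_iff.mp hcA) a ha
      have h1 : (x * n)⁻¹ * a⁻¹ = a⁻¹ * (x * n)⁻¹ := by
        rw [← mul_inv_rev, ← mul_inv_rev, hca]
      have e1 : ⁅x, a⁆ = (x * n) * n⁻¹ * a * n * ((x * n)⁻¹ * a⁻¹) := by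
        simp only [commutatorElement_def]; group
      have e2 : (x * n) * ⁅n⁻¹, a⁆ * (x * n)⁻¹ = (x * n) * n⁻¹ * a * n * (a⁻¹ * (x * n)⁻¹) := by
        simp only [commutatorElement_def]; group
      have e : ⁅x, a⁆ = (x * n) * ⁅n⁻¹, a⁆ * (x * n)⁻¹ := by rw [e1, e2, h1]
      rw [e]
      have hcN : x * n ∈ normalizer ((⁅P₁, A⁆ : Subgroup G) : Set G) :=
        inf_normalizer_le_normalizer_commutator P₁ A
          (Subgroup.mem_inf.mpr ⟨hPN hcP, centralizer_le_normalizer _ hcA⟩)
      exact (mem_normalizer_iff.mp hcN _).mp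
        (Subgroup.commutator_mem_commutator (P₁.inv_mem hn) ha)
    rw [← hP₁] at hle
    exact hle
  have hsup : (P ⊓ centralizer (A : Set G)) ⊔ P₁ = P := by
    apply le_antisymm (sup_le inf_le_left hP₁P)
    intro x hx
    obtain ⟨n, hn, hc⟩ := h4a x hx
    have e : x = (x * n) * n⁻¹ := by group
    rw [e]
    exact Subgroup.mul_mem_sup hc (P₁.inv_mem hn)
  have hidx₁ : (P₁ ⊓ centralizer (A : Set G)).relIndex P₁ = p := by
    have h1 := Cfsg.Agent.Lib.Helper4.relIndex_sup_left_of_le_normalizer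
      (P ⊓ centralizer (A : Set G)) P₁ (inf_le_left.trans hPN)
    rw [hsup, hidx] at h1
    rw [h1]
    unfold Subgroup.relIndex
    congr 1
    ext x
    simp only [mem_subgroupOf, Subgroup.mem_inf]
    constructor
    · intro h
      exact ⟨hP₁P h.1, h.2⟩
    · intro h
      exact ⟨x.2, h.2⟩
  exact card_eq_prime_of_commutator_eq A P₁ hP₁p hAN hcop₁ h4b hidx₁

end Cfsg.Agent.Lib.Helper1
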