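import Mathlib
import Cfsg.Agent.Lib.Helper1.BGX5
import Cfsg.Agent.Lib.Helper1.PLenSeries
import Cfsg.Agent.S1450
import Cfsg.Agent.S1459

/-!
# Bender–Glauberman §10 (helper1), part 6: Corollary 10.7(a) (`p`-length one)

The Uniqueness Theorem enters as `UT G`, and BG Theorem 3.6 (S1444) as the hypothesis `T36`.
-/

set_option autoImplicit false
set_option linter.unusedSectionVars false
set_option linter.style.haveILetI false

namespace Cfsg.Agent.Lib.Helper1.BGX

open Cfsg Subgroup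
open scoped commutatorElement

/-- The conclusion of BG Theorem 3.6 (S1444) for the group `X`. -/
def T36 (X : Type*) [Group X] : Prop :=
  ∀ (H R R₀ : Subgroup X) [H.Normal], (Nat.card H).Coprime H.index → Subgroup.IsComplement' H R →
    R₀ ≤ R → (Nat.card R₀).Prime → IsZGroup ↥(H ⊓ Subgroup.centralizer (R₀ : Set X)) →
    ∀ (p : ℕ) [Fact p.Prime], Cfsg.PLengthLE p 1 ↥⁅H, R⁆

variable {G : Type*} [Group G] [Finite G]

theorem alphaCore_relIndex (M : Subgroup G) :
    (Cfsg.alphaCore M).relIndex M = (Cfsg.piCore (Cfsg.alpha M) ↥M).index := by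
  unfold Subgroup.relIndex Cfsg.alphaCore Subgroup.subgroupOf
  rw [Subgroup.comap_map_eq_self_of_injective M.subtype_injective]

theorem not_dvd_index_commutator_of_mem_sigma (hG : Cfsg.IsMinSimpleOddOrder G) (hU : UT G)
    {M : Subgroup G} (hM : IsCoatom M) {q : ℕ} [Fact q.Prime] (hq : q ∈ Cfsg.sigma M) :
    ¬ q ∣ (commutator ↥M).index := by
  obtain ⟨S, hSM, -, -, -, hSc⟩ := exists_sylow_sigma hG hU hM hq
  have h1 : ((S.subtype hSM : Sylow q ↥M) : Subgroup ↥M) ≤ commutator ↥M := by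
    intro x hx
    rw [Sylow.coe_subtype, Subgroup.mem_subgroupOf] at hx
    have h2 := hSc hx
    rw [← Subgroup.map_subtype_commutator] at h2
    obtain ⟨y, hy, hyx⟩ := h2
    have : y = x := Subtype.ext hyx
    rw [← this]; exact hy
  intro hd
  exact (S.subtype hSM).not_dvd_index (hd.trans (Subgroup.index_dvd_of_le h1))

theorem piCore_alpha_le_commutator (hG : Cfsg.IsMinSimpleOddOrder G) (hU : UT G)
    {M : Subgroup G} (hM : IsCoatom M) :
    Cfsg.piCore (Cfsg.alpha M) ↥M ≤ commutator ↥M := by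
  have h1 : Nat.card ((Cfsg.piCore (Cfsg.alpha M) ↥M).map (QuotientGroup.mk' (commutator ↥M))) ∣
      Nat.card (Cfsg.piCore (Cfsg.alpha M) ↥M) := Subgroup.card_map_dvd _ _
  have h2 : Nat.card ((Cfsg.piCore (Cfsg.alpha M) ↥M).map (QuotientGroup.mk' (commutator ↥M))) ∣
      (commutator ↥M).index := by
    rw [Subgroup.index_eq_card]
    exact Subgroup.card_subgroup_dvd_card _
  have hcop : (Nat.card (Cfsg.piCore (Cfsg.alpha M) ↥M)).Coprime (commutator ↥M).index := by
    apply Nat.coprime_of_dvd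
    intro q hq hd1 hd2
    haveI : Fact q.Prime := ⟨hq⟩
    exact not_dvd_index_commutator_of_mem_sigma hG hU hM
      (alpha_subset_sigma hG hU hM (Cfsg.Agent.Lib.Helper12.piCore_mem _ q hq hd1)) hd2
  have h3 := Nat.eq_one_of_dvd_coprimes hcop h1 h2
  have h4 := Subgroup.card_eq_one.mp h3
  rw [Subgroup.map_eq_bot_iff, QuotientGroup.ker_mk'] at h4
  exact h4

/-- A prime dividing `|M|` outside `σ(M)`. -/
theorem exists_prime_not_mem_sigma (hG : Cfsg.IsMinSimpleOddOrder G) (hU : UT G)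
    {M : Subgroup G} (hM : IsCoatom M) (hM1 : M ≠ ⊥) :
    ∃ q : ℕ, q.Prime ∧ q ∣ Nat.card M ∧ q ∉ Cfsg.sigma M := by
  haveI hsol : Group.IsSolvable ↥M := hG.2.2.2 M hM.1
  haveI : Nontrivial ↥M := (Subgroup.nontrivial_iff_ne_bot M).mpr hM1
  have hlt : commutator ↥M < ⊤ := IsSolvable.commutator_lt_top_of_nontrivial ↥M
  have hidx : (commutator ↥M).index ≠ 1 := fun h => hlt.ne (Subgroup.index_eq_one.mp h)
  obtain ⟨q, hq, hqd⟩ := Nat.exists_prime_and_dvd hidx
  haveI : Fact q.Prime := ⟨hq⟩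
  refine ⟨q, hq, hqd.trans (Subgroup.index_dvd_card _), ?_⟩
  intro hqσ
  exact not_dvd_index_commutator_of_mem_sigma hG hU hM hqσ hqd

/-- **BG Corollary 10.7(a)** for maximal subgroups. -/
theorem pLengthLE_one_coatom (hG : Cfsg.IsMinSimpleOddOrder G) (hU : UT G) {M : Subgroup G}
    (hM : IsCoatom M) (h36 : T36 ↥M) (p : ℕ) [Fact p.Prime] : Cfsg.PLengthLE p 1 ↥M := by
  have hpp : p.Prime := Fact.out
  haveI hsol : Group.IsSolvable ↥M := hG.2.2.2 M hM.1
  have hodd : Odd (Nat.card ↥M) := odd_card_subgroup hG.1 M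
  by_cases hr : Cfsg.PRankLE p 2 ↥M
  · by_cases hpM : p ∣ Nat.card ↥M
    · exact pLengthLE_one_of_coprime_index p
        (Cfsg.Agent.S1450.result hodd p hpM hr).2.2.2.2.2
    · exact Cfsg.Agent.Lib.Helper1.PLen.pLengthLE_mono p (Nat.zero_le 1)
        (Cfsg.Agent.Lib.Helper1.PLen.pLengthLE_zero_of_coprime p
          ((Nat.coprime_comm.mp ((Nat.Prime.coprime_iff_not_dvd hpp).mpr hpM))))
  -- `p ∈ α(M)`
  have hpα : p ∈ Cfsg.alpha M := ⟨hpp, hr⟩
  obtain ⟨⟨hαM, hαprimes, hαidx⟩, -, -, -, -⟩ := malpha hG hU hM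
  have hM1 : M ≠ ⊥ := by
    intro h
    apply hr
    intro A _ _
    have : Nat.card A = 1 := by
      haveI : Subsingleton ↥M := by rw [h]; infer_instance
      exact Nat.card_unique
    rw [this]
    exact Nat.one_le_pow _ _ hpp.pos
  set N : Subgroup ↥M := Cfsg.piCore (Cfsg.alpha M) ↥M with hN
  have hNcard : Nat.card (Cfsg.alphaCore M) = Nat.card N :=
    Subgroup.card_map_of_injective M.subtype_injective
  -- `N` is a normal Hall subgroup of `M`
  have hcop : (Nat.card N).Coprime N.index := by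
    apply Nat.coprime_of_dvd
    intro q hq hd1 hd2
    have hqα : q ∈ Cfsg.alpha M := Cfsg.Agent.Lib.Helper12.piCore_mem _ q hq hd1
    have := hαidx q hq hqα
    rw [alphaCore_relIndex] at this
    exact this hd2
  have hpidx : ¬ p ∣ N.index := by
    have := hαidx p hpp hpα
    rwa [alphaCore_relIndex] at this
  obtain ⟨K, hK⟩ := Subgroup.exists_right_complement'_of_coprime hcop
  have hNle : N ≤ commutator ↥M := piCore_alpha_le_commutator hG hU hM
  have hNK : N = ⁅N, K⁆ :=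
    ((Cfsg.Agent.S1459.result (G := ↥M)).1 N K inferInstance hcop hK hNle).1
  -- a prime `q ∉ σ(M)` and a Sylow `q`-subgroup of `M` inside `K`
  obtain ⟨q, hq, hqM, hqσ⟩ := exists_prime_not_mem_sigma hG hU hM hM1
  haveI : Fact q.Prime := ⟨hq⟩
  have hqα : q ∉ Cfsg.alpha M := fun h => hqσ (alpha_subset_sigma hG hU hM h)
  have hqN : ¬ q ∣ Nat.card N := fun h => hqα (Cfsg.Agent.Lib.Helper12.piCore_mem _ q hq h)
  obtain ⟨Q₀⟩ : Nonempty (Sylow q ↥K) := inferInstance
  have hfac : (Nat.card ↥M).factorization q = (Nat.card ↥K).factorization q := by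
    rw [← hK.card_mul_card, Nat.factorization_mul Nat.card_pos.ne' Nat.card_pos.ne',
      Finsupp.add_apply, Nat.factorization_eq_zero_of_not_dvd hqN, zero_add]
  have hQcard : Nat.card ((Q₀ : Subgroup ↥K).map K.subtype) =
      q ^ (Nat.card ↥M).factorization q := by
    rw [Subgroup.card_map_of_injective K.subtype_injective, hfac]
    exact Q₀.card_eq_multiplicity
  obtain ⟨x, hxZ, hxo, hxZg, -⟩ :=
    exists_central_element hG hU hM hqM hqσ (Sylow.ofCard _ hQcard)
  rw [mem_center_image] at hxZ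
  obtain ⟨⟨x', hx'Q, rfl⟩, -⟩ := hxZ
  rw [Sylow.coe_ofCard] at hx'Q
  have hx'K : x' ∈ K := by
    obtain ⟨k, -, rfl⟩ := hx'Q
    exact k.2
  have hx'o : orderOf x' = q := by
    rw [← hxo]; exact (Subgroup.orderOf_coe x').symm
  -- apply Theorem 3.6
  have hR₀K : zpowers x' ≤ K := by rw [zpowers_le]; exact hx'K
  have hR₀p : (Nat.card (zpowers x')).Prime := by rw [Nat.card_zpowers, hx'o]; exact hq
  have hZ : IsZGroup ↥(N ⊓ centralizer ((zpowers x' : Subgroup ↥M) : Set ↥M)) := by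
    haveI := hxZg
    refine IsZGroup.of_injective (f := ((M.subtype.comp (Subgroup.subtype _)).codRestrict
      (Cfsg.alphaCore M ⊓ centralizer ({M.subtype x'} : Set G)) (fun y => ⟨⟨(y : ↥M), y.2.1, rfl⟩, ?_⟩))) ?_
    · show ((y : ↥M) : G) ∈ centralizer ({M.subtype x'} : Set G)
      rw [mem_centralizer_singleton_iff]
      have h1 := mem_centralizer_iff.mp y.2.2 x' (mem_zpowers x')
      have h2 := congrArg (fun t : ↥M => (t : G)) h1.symm
      simpa using h2
    · intro a b hab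
      have h1 := congrArg Subtype.val hab
      exact Subtype.ext (Subtype.ext h1)
  have h1 : Cfsg.PLengthLE p 1 ↥⁅N, K⁆ := h36 N K (zpowers x') hcop hK hR₀K hR₀p hZ p
  have h2 : Cfsg.PLengthLE p 1 ↥N :=
    Cfsg.Agent.Lib.Helper1.PLen.pLengthLE_of_mulEquiv p (MulEquiv.subgroupCongr hNK.symm) h1
  have h3 : Cfsg.PLengthLE p 0 (↥M ⧸ N) := by
    apply Cfsg.Agent.Lib.Helper1.PLen.pLengthLE_zero_of_coprime
    rw [← Subgroup.index_eq_card]
    exact Nat.coprime_comm.mp ((Nat.Prime.coprime_iff_not_dvd hpp).mpr hpidx)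
  exact Cfsg.Agent.Lib.Helper1.PLen.pLengthLE_of_extension p N h2 h3

/-- **BG Corollary 10.7(a)**. -/
theorem pLengthLE_one_proper (hG : Cfsg.IsMinSimpleOddOrder G) (hU : UT G)
    (h36 : ∀ M : Subgroup G, IsCoatom M → T36 ↥M) (p : ℕ) [Fact p.Prime] {H : Subgroup G}
    (hH : H ≠ ⊤) : Cfsg.PLengthLE p 1 ↥H := by
  obtain ⟨M, hM, hHM⟩ := Cfsg.Agent.Lib.Helper17.BGU.exists_coatom_ge hH
  exact Cfsg.Agent.Lib.Helper1.PLen.pLengthLE_of_injective p (Subgroup.inclusion hHM)
    (Subgroup.inclusion_injective hHM) (pLengthLE_one_coatom hG hU hM (h36 M hM) p)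

end Cfsg.Agent.Lib.Helper1.BGX
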