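/-
helper1: B&G Theorem 14.2/14.4-type corollaries of the statement of S1430 (hypothesis `T142`),
part 1: the derived subgroup of a maximal subgroup with `K ≠ 1` (S1365).
-/
import Cfsg.Agent.Lib.Helper2.BGCorE
import Cfsg.Agent.Lib.Helper24.BGBeta4
import Cfsg.Agent.Lib.Helper17.CoprimeGen
import Cfsg.Agent.Lib.Helper1.CoprimeAbelian
import Cfsg.Agent.Lib.Helper4.Basic

set_option autoImplicit false
set_option linter.style.haveILetI false
open scoped commutatorElement

namespace Cfsg.Agent.Lib.Helper1.BGKap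

open Cfsg.Agent.Lib.Helper1.BGX
open Cfsg.Agent.Lib.Helper2.BGCor

/-- A finite group `Q = V A` with `V` abelian normal, `A` abelian, coprime orders and `V ≤ Q'`:
then `C_V(A) = 1`. -/
theorem inf_centralizer_eq_bot_of_le_commutator {Q : Type*} [Group Q] [Finite Q] (V A : Subgroup Q)
    [hVn : V.Normal] (hVc : IsMulCommutative V) (hAc : IsMulCommutative A) (hVA : V ⊔ A = ⊤)
    (hcop : (Nat.card A).Coprime (Nat.card V)) (hV : V ≤ commutator Q) :
    V ⊓ Subgroup.centralizer (A : Set Q) = ⊥ := by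
  have hAV : A ≤ Subgroup.normalizer (V : Set Q) := by
    rw [Subgroup.normalizer_eq_top]; exact le_top
  have hWV : ⁅V, A⁆ ≤ V := Cfsg.Agent.Lib.Helper1.commutator_le_of_le_normalizer hAV
  -- `[V, A]` is normal in `Q`
  have hWn : (⁅V, A⁆ : Subgroup Q).Normal := by
    rw [← Subgroup.normalizer_eq_top_iff, eq_top_iff, ← hVA]
    refine sup_le ?_ (Cfsg.Agent.Lib.Helper1.le_normalizer_commutator_right V A)
    -- `V` is abelian and contains `[V, A]`, so it centralizes it
    intro v hv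
    rw [Subgroup.mem_normalizer_iff]
    intro w
    have key : ∀ w ∈ (⁅V, A⁆ : Subgroup Q), v * w * v⁻¹ = w := by
      intro w hw
      have := comm_of_isMulCommutative hVc v hv w (hWV hw)
      rw [this]; group
    constructor
    · intro hw
      show v * w * v⁻¹ ∈ (⁅V, A⁆ : Subgroup Q)
      rw [key w hw]; exact hw
    · intro hw
      have hw' : v * w * v⁻¹ ∈ (⁅V, A⁆ : Subgroup Q) := hw
      have h1 : v⁻¹ * (v * w * v⁻¹) * v⁻¹⁻¹ = v * w * v⁻¹ := by
        have hc := comm_of_isMulCommutative hVc v⁻¹ (V.inv_mem hv) _ (hWV hw')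
        rw [hc]; group
      have h2 : v⁻¹ * (v * w * v⁻¹) * v⁻¹⁻¹ = w := by group
      rw [← h2, h1]; exact hw'
  -- `H = C_V(A) A` is commutative
  set C : Subgroup Q := V ⊓ Subgroup.centralizer (A : Set Q) with hC
  have hHc : IsMulCommutative ↥(C ⊔ A) := by
    apply isMulCommutative_of_comm
    have hgen : ∀ x ∈ C ⊔ A, ∀ y ∈ (C : Set Q) ∪ (A : Set Q), x * y = y * x := by
      intro x hx y hy
      rw [Subgroup.sup_eq_closure] at hx
      induction hx using Subgroup.closure_induction with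
      | mem z hz =>
        rcases hz with hz | hz <;> rcases hy with hy | hy
        · exact comm_of_isMulCommutative hVc z hz.1 y hy.1
        · exact (Subgroup.mem_centralizer_iff.mp hz.2 y hy).symm
        · exact (Subgroup.mem_centralizer_iff.mp hy.2 z hz)
        · exact comm_of_isMulCommutative hAc z hz y hy
      | one => simp
      | mul a b _ _ ha hb => rw [mul_assoc, hb, ← mul_assoc, ha, mul_assoc]
      | inv a _ ha =>
        have : a⁻¹ * y = a⁻¹ * (y * a) * a⁻¹ := by group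
        rw [this, ← ha]; group
    intro x hx y hy
    rw [Subgroup.sup_eq_closure] at hy
    induction hy using Subgroup.closure_induction with
    | mem z hz => exact hgen x hx z hz
    | one => simp
    | mul a b _ _ ha hb => rw [← mul_assoc, ha, mul_assoc, hb, ← mul_assoc]
    | inv a _ ha =>
      have : x * a⁻¹ = a⁻¹ * (a * x) * a⁻¹ := by group
      rw [this, ← ha]; group
  -- `[V, A] ⊔ H = ⊤`
  have hsolv : Group.IsSolvable A ∨ Group.IsSolvable V := by
    left
    exact isSolvable_of_comm (fun a b => Subtype.ext (comm_of_isMulCommutative hAc a a.2 b b.2))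
  have hdec := Cfsg.Agent.Lib.Helper17.le_centralizer_sup_commutator A V hAV hcop hsolv
  have htop : ⁅V, A⁆ ⊔ (C ⊔ A) = ⊤ := by
    rw [eq_top_iff, ← hVA]
    refine sup_le (hdec.trans ?_) (le_sup_of_le_right le_sup_right)
    rw [sup_comm]
    exact sup_le_sup_left le_sup_left _
  have hcomm : commutator Q ≤ ⁅V, A⁆ :=
    haveI := hWn
    Subgroup.Normal.commutator_le_of_self_sup_commutative_eq_top htop hHc
  have hVW : V ≤ ⁅V, A⁆ := hV.trans hcomm
  haveI : IsMulCommutative V := hVc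
  have h0 := Cfsg.Agent.Lib.Helper1.centralizer_inf_commutator_eq_bot A V hAV hcop
  rw [eq_bot_iff] at h0 ⊢
  intro x hx
  exact h0 ⟨hx, hVW hx.1⟩

variable {G : Type*} [Group G]

/-- an element normalizing `N` normalizes `[N, N]` -/
theorem normalizer_le_normalizer_commutator_self (N : Subgroup G) :
    Subgroup.normalizer (N : Set G) ≤ Subgroup.normalizer ((⁅N, N⁆ : Subgroup G) : Set G) := by
  intro g hg
  rw [Cfsg.Agent.Lib.Helper8.mem_normalizer_iff_map_conj] at hg ⊢
  rw [Subgroup.map_commutator, hg]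

/-- orders of `K` and `U` in a standard factorisation are coprime -/
theorem coprime_card_K_U [Finite G] {M K U : Subgroup G} (hKU : Cfsg.IsSigmaDecomposition M K U) :
    (Nat.card K).Coprime (Nat.card U) := by
  obtain ⟨hUM, hKσM, hUK, hprod⟩ := hKU.compl
  obtain ⟨hKM, hKπ, hKidx⟩ := hKU.hall
  have hc : Cfsg.Agent.Lib.Helper1.IsComplIn U (K ⊔ Cfsg.sigmaCore M) M :=
    ⟨hUM, hKσM, disjoint_iff.mpr hUK, fun m hm => by
      obtain ⟨a, ha, b, hb, rfl⟩ := hprod m hm
      exact ⟨a, ha, b, hb, rfl⟩⟩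
  have h1 := hc.card_mul_card
  have h2 : Nat.card K ∣ Nat.card ↥(K ⊔ Cfsg.sigmaCore M) := Subgroup.card_dvd_of_le le_sup_left
  obtain ⟨c, hc'⟩ := h2
  have h3 := Cfsg.Agent.Lib.Helper4.card_mul_relIndex hKM
  apply Nat.coprime_of_dvd
  intro p hp hpK hpU
  apply hKidx p hp (hKπ p hp hpK)
  have h4 : Nat.card K * K.relIndex M = Nat.card K * (Nat.card U * c) := by
    rw [h3, ← h1, hc']; ring
  have hKpos : 0 < Nat.card K := Nat.card_pos
  have h5 : K.relIndex M = Nat.card U * c := Nat.eq_of_mul_eq_mul_left hKpos h4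
  rw [h5]
  exact Dvd.dvd.mul_right hpU c

/-- **S1365** from the statement of S1430 (B&G Theorem 14.2) and S1350. -/
theorem s1365_core [Finite G] (hG : Cfsg.IsMinSimpleOddOrder G) (hU : UT G)
    {M K U : Subgroup G} (hM : IsCoatom M)
    (hHall : Cfsg.IsPiHallOf (Cfsg.sigma M) (Cfsg.sigmaCore M) M)
    (hKU : Cfsg.IsSigmaDecomposition M K U) (hK1 : K ≠ ⊥) (h142 : T142 M K) :
    ⁅M, M⁆ = U ⊔ Cfsg.sigmaCore M ∧
      (Cfsg.sigmaCore M ⊓ Subgroup.centralizer (K : Set G)) ≤ ⁅⁅M, M⁆, ⁅M, M⁆⁆ := by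
  obtain ⟨hUM, hKσM, hUK, hprod⟩ := hKU.compl
  obtain ⟨hKM, hKπ, hKidx⟩ := hKU.hall
  have hσM : Cfsg.sigmaCore M ≤ M := sigmaCore_le M
  set N : Subgroup G := U ⊔ Cfsg.sigmaCore M with hNdef
  have hNM : N ≤ M := sup_le hUM hσM
  have hMN : M ≤ Subgroup.normalizer (N : Set G) :=
    (s1352_core hHall hKU.cyclic hKU.hall (fun _ => h142)).2 U hKU
  have hKc : IsMulCommutative K := by
    haveI := hKU.cyclic
    exact IsCyclic.isMulCommutative
  have hcopKU := coprime_card_K_U hKU
  -- `M = N K`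
  have hMNK : M ≤ N ⊔ K := by
    intro m hm
    obtain ⟨a, ha, b, hb, rfl⟩ := hprod m hm
    refine Subgroup.mul_mem _ (le_sup_left (a := N) (le_sup_left (a := U) ha)) ?_
    have : K ⊔ Cfsg.sigmaCore M ≤ N ⊔ K := sup_le le_sup_right (le_sup_of_le_left le_sup_right)
    exact this hb
  haveI hN'n : (N.subgroupOf M).Normal := Subgroup.normal_subgroupOf_of_le_normalizer hMN
  have hK'c : IsMulCommutative ↥(K.subgroupOf M) :=
    isMulCommutative_of_comm (fun a ha b hb =>
      Subtype.ext (comm_of_isMulCommutative hKc (a : G) ha (b : G) hb))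
  have htop : N.subgroupOf M ⊔ K.subgroupOf M = ⊤ := by
    rw [← Subgroup.subgroupOf_sup hNM hKM, Subgroup.subgroupOf_eq_top]
    exact hMNK
  have hcomm' : commutator ↥M ≤ N.subgroupOf M :=
    Subgroup.Normal.commutator_le_of_self_sup_commutative_eq_top htop hK'c
  have hle : ⁅M, M⁆ ≤ N := by
    rw [← Subgroup.map_subtype_commutator]
    calc (commutator ↥M).map M.subtype ≤ (N.subgroupOf M).map M.subtype := Subgroup.map_mono hcomm'
      _ = N := Subgroup.map_subgroupOf_eq_of_le hNM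
  -- `M_σ ≤ M'`
  have hσ' : Cfsg.sigmaCore M ≤ ⁅M, M⁆ := Cfsg.Agent.Lib.Helper24.BGBeta.sigmaCore_le_commutator hG hU hM
  -- `U ≤ [U, K] ≤ M'`
  have hU' : U ≤ ⁅M, M⁆ := by
    have hsolv : Group.IsSolvable K ∨ Group.IsSolvable U := by
      left
      exact isSolvable_of_comm (fun a b => Subtype.ext (comm_of_isMulCommutative hKc a a.2 b b.2))
    have hdec := Cfsg.Agent.Lib.Helper17.le_centralizer_sup_commutator K U hKU.normal hcopKU hsolv
    have hCU : U ⊓ Subgroup.centralizer (K : Set G) = ⊥ := by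
      obtain ⟨k, hk1⟩ := (Subgroup.ne_bot_iff_exists_ne_one).mp hK1
      have hk' : (k : G) ≠ 1 := fun h => hk1 (Subtype.ext h)
      have h0 := s1353_core h142 hKU (k : G) k.2 hk'
      rw [eq_bot_iff, ← h0]
      refine inf_le_inf_left _ (Subgroup.centralizer_le ?_)
      intro x hx
      rw [Set.mem_singleton_iff] at hx
      rw [hx]; exact k.2
    rw [hCU, bot_sup_eq] at hdec
    exact hdec.trans (Subgroup.commutator_mono hUM hKM)
  have hEq : ⁅M, M⁆ = N := le_antisymm hle (sup_le hU' hσ')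
  refine ⟨hEq, ?_⟩
  -- second part
  rw [hEq]
  set D : Subgroup G := ⁅N, N⁆ with hDdef
  have hDN : D ≤ N := by
    rw [hDdef, Subgroup.commutator_le]
    intro a ha b hb
    exact N.mul_mem (N.mul_mem (N.mul_mem ha hb) (N.inv_mem ha)) (N.inv_mem hb)
  have hDM : D ≤ M := hDN.trans hNM
  have hMD : M ≤ Subgroup.normalizer (D : Set G) :=
    hMN.trans (normalizer_le_normalizer_commutator_self N)
  haveI hD'n : (D.subgroupOf M).Normal := Subgroup.normal_subgroupOf_of_le_normalizer hMD
  set π : ↥M →* ↥M ⧸ D.subgroupOf M := QuotientGroup.mk' (D.subgroupOf M) with hπ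
  have hπs : Function.Surjective π := QuotientGroup.mk'_surjective _
  set V : Subgroup (↥M ⧸ D.subgroupOf M) := (N.subgroupOf M).map π with hV
  set A : Subgroup (↥M ⧸ D.subgroupOf M) := (K.subgroupOf M).map π with hA
  haveI hVn : V.Normal := Subgroup.Normal.map hN'n π hπs
  have hVc : IsMulCommutative V := by
    apply isMulCommutative_of_comm
    rintro _ ⟨x, hx, rfl⟩ _ ⟨y, hy, rfl⟩
    rw [← map_mul, ← map_mul]
    apply (QuotientGroup.eq).mpr
    rw [SetLike.mem_coe, Subgroup.mem_subgroupOf] at hx hy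
    rw [Subgroup.mem_subgroupOf]
    have h1 : (((x * y)⁻¹ * (y * x) : ↥M) : G) = ⁅(y : G)⁻¹, (x : G)⁻¹⁆ := by
      rw [commutatorElement_def]; push_cast; group
    rw [h1]
    exact Subgroup.commutator_mem_commutator (N.inv_mem hy) (N.inv_mem hx)
  have hAc : IsMulCommutative A := by
    apply isMulCommutative_of_comm
    rintro _ ⟨x, hx, rfl⟩ _ ⟨y, hy, rfl⟩
    rw [← map_mul, ← map_mul]
    congr 1
    exact Subtype.ext (comm_of_isMulCommutative hKc (x : G) hx (y : G) hy)
  have hVA : V ⊔ A = ⊤ := by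
    rw [hV, hA, ← Subgroup.map_sup, htop, Subgroup.map_top_of_surjective π hπs]
  have hcardK : Nat.card A ∣ Nat.card K := by
    have := Subgroup.card_map_dvd (K.subgroupOf M) π
    rwa [card_subgroupOf_of_le hKM] at this
  have hcardN : Nat.card V ∣ Nat.card N := by
    have := Subgroup.card_map_dvd (N.subgroupOf M) π
    rwa [card_subgroupOf_of_le hNM] at this
  have hcopKN : (Nat.card K).Coprime (Nat.card N) := by
    have hnorm : U ≤ Subgroup.normalizer ((Cfsg.sigmaCore M : Subgroup G) : Set G) :=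
      hUM.trans (le_normalizer_sigmaCore M)
    have h1 := Cfsg.Agent.Lib.Helper4.card_sup_mul_card_inf U (Cfsg.sigmaCore M) hnorm
    apply Nat.coprime_of_dvd
    intro p hp hpK hpN
    have h2 : p ∣ Nat.card U * Nat.card (Cfsg.sigmaCore M) := by
      rw [← h1]; exact Dvd.dvd.mul_right hpN _
    rcases (Nat.Prime.dvd_mul hp).mp h2 with h3 | h3
    · exact (Nat.Prime.coprime_iff_not_dvd hp).mp
        ((Nat.Coprime.coprime_dvd_left hpK hcopKU)) h3
    · have h4 := primes_card_sigmaCore M p hp h3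
      exact (hKπ p hp hpK).2.2.1 h4
  have hcop : (Nat.card A).Coprime (Nat.card V) :=
    Nat.Coprime.coprime_dvd_left hcardK (Nat.Coprime.coprime_dvd_right hcardN hcopKN)
  have hVcomm : V ≤ commutator (↥M ⧸ D.subgroupOf M) := by
    have h1 : N.subgroupOf M ≤ commutator ↥M := by
      intro x hx
      rw [Subgroup.mem_subgroupOf] at hx
      have h2 : (x : G) ∈ (commutator ↥M).map M.subtype := by
        rw [Subgroup.map_subtype_commutator, hEq]; exact hx
      obtain ⟨y, hy, hyx⟩ := h2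
      have : y = x := Subtype.ext hyx
      rw [← this]; exact hy
    have h2 : (commutator ↥M).map π = commutator (↥M ⧸ D.subgroupOf M) := by
      rw [commutator_def, commutator_def, Subgroup.map_commutator,
        Subgroup.map_top_of_surjective π hπs]
    rw [← h2]
    exact Subgroup.map_mono h1
  have hbot := inf_centralizer_eq_bot_of_le_commutator V A hVc hAc hVA hcop hVcomm
  intro c hc
  have hcM : c ∈ M := hσM hc.1
  have hcV : π ⟨c, hcM⟩ ∈ V := by
    refine ⟨⟨c, hcM⟩, ?_, rfl⟩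
    rw [SetLike.mem_coe, Subgroup.mem_subgroupOf]
    exact (le_sup_right : Cfsg.sigmaCore M ≤ N) hc.1
  have hcC : π ⟨c, hcM⟩ ∈ Subgroup.centralizer (A : Set (↥M ⧸ D.subgroupOf M)) := by
    rw [Subgroup.mem_centralizer_iff]
    rintro _ ⟨k, hk, rfl⟩
    rw [← map_mul, ← map_mul]
    congr 1
    apply Subtype.ext
    rw [SetLike.mem_coe, Subgroup.mem_subgroupOf] at hk
    exact Subgroup.mem_centralizer_iff.mp hc.2 (k : G) hk
  have h1 : π ⟨c, hcM⟩ ∈ V ⊓ Subgroup.centralizer (A : Set (↥M ⧸ D.subgroupOf M)) := ⟨hcV, hcC⟩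
  rw [hbot, Subgroup.mem_bot] at h1
  have h2 : (⟨c, hcM⟩ : ↥M) ∈ D.subgroupOf M := (QuotientGroup.eq_one_iff _).mp h1
  rwa [Subgroup.mem_subgroupOf] at h2

end Cfsg.Agent.Lib.Helper1.BGKap
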