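/-
helper1: B&G "kappa_structure (c)" (S1361): a nontrivial subgroup `X ≤ U` of a standard factorisation
`M = K U M_σ` centralizing a nonidentity element of `M_σ` is a cyclic `τ₂(M)`-group and `M` is the unique
maximal subgroup over `C_G(X)`.  Inputs (hypothesis form): S1350, S1417 (`T125`), S1420(d), and helper19's
B&G 12.10(b) (τ₂-subgroups of a complement are abelian).
-/
import Cfsg.Agent.Lib.Helper1.BGKap1
import Cfsg.Agent.Lib.Helper1.BGEmb1
import Cfsg.Agent.Lib.Helper2.BGCorF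

set_option autoImplicit false
set_option linter.style.haveILetI false
open scoped commutatorElement

namespace Cfsg.Agent.Lib.Helper1.BGKap

open Cfsg.Agent.Lib.Helper1.BGX
open Cfsg.Agent.Lib.Helper2.BGCor

variable {G : Type*} [Group G]

/-- the primes of `|U|` are outside `κ(M)` and `σ(M)` -/
theorem not_kappa_sigma_of_dvd_card_U [Finite G] {M K U : Subgroup G}
    (hHall : Cfsg.IsPiHallOf (Cfsg.sigma M) (Cfsg.sigmaCore M) M)
    (hKU : Cfsg.IsSigmaDecomposition M K U) {p : ℕ} (hp : p.Prime) (hpU : p ∣ Nat.card U) :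
    p ∉ Cfsg.kappa M ∧ p ∉ Cfsg.sigma M := by
  obtain ⟨hUM, hKσM, hUK, hprod⟩ := hKU.compl
  obtain ⟨hKM, hKπ, hKidx⟩ := hKU.hall
  obtain ⟨hσM, hσπ, hσidx⟩ := hHall
  have hc : Cfsg.Agent.Lib.Helper1.IsComplIn U (K ⊔ Cfsg.sigmaCore M) M :=
    ⟨hUM, hKσM, disjoint_iff.mpr hUK, fun m hm => by
      obtain ⟨a, ha, b, hb, rfl⟩ := hprod m hm
      exact ⟨a, ha, b, hb, rfl⟩⟩
  have h1 := hc.card_mul_card
  constructor
  · intro hpκ
    apply hKidx p hp hpκ
    obtain ⟨c, hc'⟩ : Nat.card K ∣ Nat.card ↥(K ⊔ Cfsg.sigmaCore M) :=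
      Subgroup.card_dvd_of_le le_sup_left
    have h3 := Cfsg.Agent.Lib.Helper4.card_mul_relIndex hKM
    have h4 : Nat.card K * K.relIndex M = Nat.card K * (Nat.card U * c) := by
      rw [h3, ← h1, hc']; ring
    have h5 : K.relIndex M = Nat.card U * c := Nat.eq_of_mul_eq_mul_left Nat.card_pos h4
    rw [h5]
    exact Dvd.dvd.mul_right hpU c
  · intro hpσ
    apply hσidx p hp hpσ
    obtain ⟨c, hc'⟩ : Nat.card (Cfsg.sigmaCore M) ∣ Nat.card ↥(K ⊔ Cfsg.sigmaCore M) :=
      Subgroup.card_dvd_of_le le_sup_right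
    have h3 := Cfsg.Agent.Lib.Helper4.card_mul_relIndex hσM
    have h4 : Nat.card (Cfsg.sigmaCore M) * (Cfsg.sigmaCore M).relIndex M
        = Nat.card (Cfsg.sigmaCore M) * (Nat.card U * c) := by
      rw [h3, ← h1, hc']; ring
    have h5 : (Cfsg.sigmaCore M).relIndex M = Nat.card U * c :=
      Nat.eq_of_mul_eq_mul_left Nat.card_pos h4
    rw [h5]
    exact Dvd.dvd.mul_right hpU c

/-- conjugation preserves commutativity of a subgroup (pull back) -/
theorem isMulCommutative_of_map_conj {X : Subgroup G} (g : G)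
    (h : IsMulCommutative ↥(X.map (MulAut.conj g).toMonoidHom)) : IsMulCommutative X := by
  apply isMulCommutative_of_comm
  intro a ha b hb
  have h1 := comm_of_isMulCommutative h ((MulAut.conj g) a) ⟨a, ha, rfl⟩ ((MulAut.conj g) b) ⟨b, hb, rfl⟩
  rw [← map_mul, ← map_mul] at h1
  exact (MulAut.conj g).injective h1

/-- The hypotheses on `M` used for S1361: the conclusion of S1420(d). -/
def T1220d (M : Subgroup G) : Prop :=
  ∀ x ∈ M, x ≠ 1 → (∀ p : ℕ, p.Prime → p ∣ orderOf x → p ∈ Cfsg.tau2 M) → x ∈ Cfsg.sigmaHat M →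
    Subgroup.centralizer ({x} : Set G) ≤ M ∧
      ∀ L : Subgroup G, IsCoatom L → Subgroup.centralizer ({x} : Set G) ≤ L → L = M

/-- B&G 12.10(b), second assertion (helper19's `tau2_subgroup_comm`) for `M`. -/
def T1210 (M : Subgroup G) : Prop :=
  ∀ E X : Subgroup G, Cfsg.IsComplIn E (Cfsg.sigmaCore M) M → X ≤ E →
    (∀ q : ℕ, q.Prime → q ∣ Nat.card X → q ∈ Cfsg.tau2 M) → IsMulCommutative X

/-- structure of a singular subgroup of `U`: all its primes are in `τ₂(M)` and it is cyclic -/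
theorem singular_tau2_cyclic [Finite G] (hG : Cfsg.IsMinSimpleOddOrder G) (hU : UT G)
    {M K U X : Subgroup G} (hM : IsCoatom M)
    (hHall : Cfsg.IsPiHallOf (Cfsg.sigma M) (Cfsg.sigmaCore M) M)
    (hKU : Cfsg.IsSigmaDecomposition M K U) (h125 : T125 M) (h1210 : T1210 M)
    (hXU : X ≤ U) (hXc : Cfsg.sigmaCore M ⊓ Subgroup.centralizer (X : Set G) ≠ ⊥) :
    (∀ q : ℕ, q.Prime → q ∣ Nat.card X → q ∈ Cfsg.tau2 M) ∧ IsCyclic X := by
  obtain ⟨hUM, hKσM, hUK, hprod⟩ := hKU.compl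
  have hXM : X ≤ M := hXU.trans hUM
  obtain ⟨y, hy1⟩ := (Subgroup.ne_bot_iff_exists_ne_one).mp hXc
  have hyσ : (y : G) ∈ Cfsg.sigmaCore M := y.2.1
  have hyC : (y : G) ∈ Subgroup.centralizer (X : Set G) := y.2.2
  have hy1' : (y : G) ≠ 1 := fun h => hy1 (Subtype.ext h)
  -- all primes of `|X|` are in `τ₂(M)`
  have hτ2 : ∀ q : ℕ, q.Prime → q ∣ Nat.card X → q ∈ Cfsg.tau2 M := by
    intro q hq hqX
    haveI : Fact q.Prime := ⟨hq⟩
    obtain ⟨x, hx⟩ := exists_prime_orderOf_dvd_card' q hqX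
    have hxq : orderOf (x : G) = q := by rw [Subgroup.orderOf_coe]; exact hx
    have hcomm : (x : G) * (y : G) = (y : G) * (x : G) :=
      (Subgroup.mem_centralizer_iff.mp hyC (x : G) x.2)
    have hqU : q ∣ Nat.card U := hqX.trans (Subgroup.card_dvd_of_le hXU)
    obtain ⟨hqκ, hqσ⟩ := not_kappa_sigma_of_dvd_card_U hHall hKU hq hqU
    rcases kappa_or_tau2 hG hU hM hyσ hy1' (hXM x.2) hq hxq hcomm hqσ with h | h
    · exact absurd h hqκ
    · exact h
  refine ⟨hτ2, ?_⟩
  -- `X` is abelian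
  obtain ⟨E, hE⟩ := exists_compl_sigmaCore hHall
  have hXσ : ∀ p : ℕ, p.Prime → p ∣ Nat.card X → p ∉ Cfsg.sigma M := fun p hp hpX =>
    (hτ2 p hp hpX).2.1
  obtain ⟨g, hgM, hgE⟩ := exists_conj_le_compl hG hM hHall hE hXM hXσ
  have hcard : Nat.card ↥(X.map (MulAut.conj g).toMonoidHom) = Nat.card X :=
    Subgroup.card_map_of_injective (MulAut.conj g).injective
  have hXab : IsMulCommutative X := by
    apply isMulCommutative_of_map_conj g
    apply h1210 E _ hE hgE
    intro q hq hqd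
    rw [hcard] at hqd
    exact hτ2 q hq hqd
  -- `X` is a Z-group
  have hZ : IsZGroup ↥X := by
    refine ⟨fun p hpf P => ?_⟩
    haveI : Fact p.Prime := ⟨hpf⟩
    have hpp : p.Prime := hpf
    set S : Subgroup G := (P : Subgroup ↥X).map X.subtype with hS
    have hSX : S ≤ X := Subgroup.map_subtype_le _
    have hSp : IsPGroup p S := P.isPGroup'.map X.subtype
    have hiso : (P : Subgroup ↥X) ≃* S :=
      (P : Subgroup ↥X).equivMapOfInjective X.subtype X.subtype_injective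
    by_contra hnc
    have hncS : ¬ IsCyclic S := fun h => hnc (hiso.isCyclic.mpr h)
    have hp2 : p ≠ 2 := by
      have hS1 : Nat.card S ≠ 1 := by
        intro h1
        apply hncS
        rw [Subgroup.card_eq_one] at h1
        rw [h1]; infer_instance
      obtain ⟨n, hn⟩ := (IsPGroup.iff_card.mp hSp)
      have hpS : p ∣ Nat.card S := by
        rw [hn]
        cases n with
        | zero => exact absurd (by rw [hn, pow_zero]) hS1
        | succ m => exact dvd_pow_self p (Nat.succ_ne_zero m)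
      exact ne_two_of_dvd_sub hG.1 (hpS.trans (Subgroup.card_dvd_of_le (hSX.trans hXM)))
    obtain ⟨A, hAS, hAe, hAc⟩ := Cfsg.Agent.Lib.Helper1.BGEmb.exists_elemAb_sq_of_not_cyclic hp2 hSp hncS
    have hpX : p ∣ Nat.card X := by
      have : p ∣ Nat.card A := by rw [hAc]; exact dvd_pow_self p (by norm_num)
      exact this.trans (Subgroup.card_dvd_of_le (hAS.trans hSX))
    have hpτ : p ∈ Cfsg.tau2 M := hτ2 p hpp hpX
    have hd := (h125 p hpτ A ⟨(hAS.trans hSX).trans hXM, hAe, hAc⟩).2.2.2.1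
    apply hXc
    rw [eq_bot_iff, ← hd]
    exact inf_le_inf_left _ (Subgroup.centralizer_le (hAS.trans hSX))
  haveI := hZ
  haveI : Group.IsNilpotent ↥X := by
    let _ : CommGroup ↥X :=
      { (inferInstance : Group ↥X) with
        mul_comm := fun a b => Subtype.ext (comm_of_isMulCommutative hXab a a.2 b b.2) }
    infer_instance
  infer_instance

/-- **S1361** from S1350, S1417, S1420(d) and B&G 12.10(b). -/
theorem s1361_core [Finite G] (hG : Cfsg.IsMinSimpleOddOrder G) (hU : UT G)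
    {M K U X : Subgroup G} (hM : IsCoatom M)
    (hHall : Cfsg.IsPiHallOf (Cfsg.sigma M) (Cfsg.sigmaCore M) M)
    (hKU : Cfsg.IsSigmaDecomposition M K U) (h125 : T125 M) (h1210 : T1210 M) (h20d : T1220d M)
    (hXU : X ≤ U) (hX : X ≠ ⊥)
    (hXc : Cfsg.sigmaCore M ⊓ Subgroup.centralizer (X : Set G) ≠ ⊥) :
    Subgroup.centralizer (X : Set G) ≤ M ∧
      ∀ L : Subgroup G, IsCoatom L → Subgroup.centralizer (X : Set G) ≤ L → L = M := by
  obtain ⟨hτ2, hcyc⟩ := singular_tau2_cyclic hG hU hM hHall hKU h125 h1210 hXU hXc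
  obtain ⟨hUM, -, -, -⟩ := hKU.compl
  have hXM : X ≤ M := hXU.trans hUM
  obtain ⟨x, hx⟩ := hcyc.exists_generator
  have hxX : ∀ z ∈ X, z ∈ Subgroup.zpowers (x : G) := by
    intro z hz
    obtain ⟨n, hn⟩ := Subgroup.mem_zpowers_iff.mp (hx ⟨z, hz⟩)
    exact ⟨n, by have := congrArg Subtype.val hn; simpa using this⟩
  have hx1 : (x : G) ≠ 1 := by
    intro h
    apply hX
    rw [eq_bot_iff]
    intro z hz
    obtain ⟨n, hn⟩ := hxX z hz
    rw [Subgroup.mem_bot, ← hn]
    show (x : G) ^ n = 1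
    rw [h, one_zpow]
  -- centralizers agree
  have hCeq : Subgroup.centralizer ({(x : G)} : Set G) = Subgroup.centralizer (X : Set G) := by
    apply le_antisymm
    · intro c hc
      rw [Subgroup.mem_centralizer_iff] at hc ⊢
      intro z hz
      obtain ⟨n, hn⟩ := hxX z hz
      have h1 : Commute c (x : G) := (hc (x : G) (Set.mem_singleton _)).symm
      rw [← hn]
      exact ((h1.zpow_right n).eq).symm
    · exact Subgroup.centralizer_le (by
        intro z hz
        rw [Set.mem_singleton_iff] at hz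
        rw [hz]; exact x.2)
  obtain ⟨y, hy1⟩ := (Subgroup.ne_bot_iff_exists_ne_one).mp hXc
  have hy1' : (y : G) ≠ 1 := fun h => hy1 (Subtype.ext h)
  have hxhat : (x : G) ∈ Cfsg.sigmaHat M :=
    ⟨hXM x.2, (y : G), y.2.1, hy1', (Subgroup.mem_centralizer_iff.mp y.2.2 (x : G) x.2)⟩
  have hxτ : ∀ p : ℕ, p.Prime → p ∣ orderOf (x : G) → p ∈ Cfsg.tau2 M := by
    intro p hp hpd
    apply hτ2 p hp
    rw [Subgroup.orderOf_coe] at hpd
    exact hpd.trans (orderOf_dvd_natCard x)
  have h := h20d (x : G) (hXM x.2) hx1 hxτ hxhat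
  rw [hCeq] at h
  exact h

end Cfsg.Agent.Lib.Helper1.BGKap
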