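/-
helper1: B&G 14.2-consequences for the standard factorisation `M = K U M_σ` with `K ≠ 1`:
`U` is a Hall `(κ(M) ∪ σ(M))'`-subgroup of `M`, hence (by the statement of S1430 and Hall's theorem in the
solvable group `M`) abelian.  Used for S1359 and S1363.
-/
import Cfsg.Agent.Lib.Helper1.BGKap2
import Cfsg.Agent.Lib.Helper20.CoprimeHall

set_option autoImplicit false
set_option linter.style.haveILetI false
open scoped commutatorElement
open Pointwise

namespace Cfsg.Agent.Lib.Helper1.BGKap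

open Cfsg.Agent.Lib.Helper1.BGX
open Cfsg.Agent.Lib.Helper2.BGCor

variable {G : Type*} [Group G]

/-- `U` is a Hall subgroup of `M` for the primes outside `κ(M) ∪ σ(M)` -/
theorem isPiHallOf_U [Finite G] {M K U : Subgroup G}
    (hHall : Cfsg.IsPiHallOf (Cfsg.sigma M) (Cfsg.sigmaCore M) M)
    (hKU : Cfsg.IsSigmaDecomposition M K U) :
    Cfsg.IsPiHallOf {q | q.Prime ∧ q ∉ Cfsg.kappa M ∧ q ∉ Cfsg.sigma M} U M := by
  obtain ⟨hUM, hKσM, hUK, hprod⟩ := hKU.compl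
  obtain ⟨hKM, hKπ, hKidx⟩ := hKU.hall
  obtain ⟨hσM, hσπ, hσidx⟩ := hHall
  refine ⟨hUM, fun p hp hpU => ⟨hp, not_kappa_sigma_of_dvd_card_U ⟨hσM, hσπ, hσidx⟩ hKU hp hpU⟩, ?_⟩
  rintro p hp ⟨-, hpκ, hpσ⟩ hpd
  have hc : Cfsg.Agent.Lib.Helper1.IsComplIn U (K ⊔ Cfsg.sigmaCore M) M :=
    ⟨hUM, hKσM, disjoint_iff.mpr hUK, fun m hm => by
      obtain ⟨a, ha, b, hb, rfl⟩ := hprod m hm
      exact ⟨a, ha, b, hb, rfl⟩⟩
  have h1 := hc.card_mul_card
  have h3 := Cfsg.Agent.Lib.Helper4.card_mul_relIndex hUM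
  have h4 : U.relIndex M = Nat.card ↥(K ⊔ Cfsg.sigmaCore M) := by
    apply Nat.eq_of_mul_eq_mul_left (Nat.card_pos (α := U))
    rw [h3, h1]
  rw [h4] at hpd
  have h5 := Cfsg.Agent.Lib.Helper4.card_sup_mul_card_inf K (Cfsg.sigmaCore M)
    (hKM.trans (le_normalizer_sigmaCore M))
  have h6 : p ∣ Nat.card K * Nat.card (Cfsg.sigmaCore M) := by
    rw [← h5]; exact Dvd.dvd.mul_right hpd _
  rcases hp.dvd_mul.mp h6 with h | h
  · exact hpκ (hKπ p hp h)
  · exact hpσ (hσπ p hp h)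

/-- conjugation preserves commutativity of a subgroup (push forward along a pointwise action) -/
theorem isMulCommutative_conj_smul {X : Subgroup G} (g : G) (h : IsMulCommutative X) :
    IsMulCommutative ↥(MulAut.conj g • X) := by
  apply isMulCommutative_of_comm
  rintro _ ⟨a, ha, rfl⟩ _ ⟨b, hb, rfl⟩
  have h1 := comm_of_isMulCommutative h a ha b hb
  show (MulAut.conj g) a * (MulAut.conj g) b = (MulAut.conj g) b * (MulAut.conj g) a
  rw [← map_mul, ← map_mul, h1]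

/-- `U` is abelian when `K ≠ 1` (from the statement of S1430) -/
theorem U_abelian [Finite G] (hG : Cfsg.IsMinSimpleOddOrder G) {M K U : Subgroup G}
    (hM : IsCoatom M) (hHall : Cfsg.IsPiHallOf (Cfsg.sigma M) (Cfsg.sigmaCore M) M)
    (hKU : Cfsg.IsSigmaDecomposition M K U) (h142 : T142 M K) : IsMulCommutative U := by
  obtain ⟨U', hU'ab, hU'Hall, -, -⟩ := h142.2.1
  have hUHall := isPiHallOf_U hHall hKU
  obtain ⟨m, n, hmn, hm, hn⟩ := Cfsg.Agent.Lib.Helper20.exists_pi_decomp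
    {q | q.Prime ∧ q ∉ Cfsg.kappa M ∧ q ∉ Cfsg.sigma M} (Nat.card M) Nat.card_pos.ne'
  have hiff := fun H => Cfsg.Agent.Lib.Helper20.isPiHallOf_iff (H := H) (G := M) hmn hm hn
  obtain ⟨hU'M, hU'c⟩ := (hiff U').mp hU'Hall
  obtain ⟨hUM, hUc⟩ := (hiff U).mp hUHall
  have hsolv : Group.IsSolvable ↥M := hG.2.2.2 M hM.1
  obtain ⟨g, -, hg⟩ := Cfsg.Agent.Lib.Helper20.hall_conj_internal M hsolv m n hmn
    (Cfsg.Agent.Lib.Helper20.coprime_of_isPiNum hm hn) U' U hU'M hUM hU'c hUc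
  rw [← hg]
  exact isMulCommutative_conj_smul g hU'ab

/-- **S1359** (`⟨U ∩ M̂_σ⟩` is abelian) from the `K = 1` case and the statement of S1430. -/
theorem s1359_core [Finite G] (hG : Cfsg.IsMinSimpleOddOrder G) {M K U : Subgroup G}
    (hM : IsCoatom M) (hHall : Cfsg.IsPiHallOf (Cfsg.sigma M) (Cfsg.sigmaCore M) M)
    (hKU : Cfsg.IsSigmaDecomposition M K U)
    (hbot : K = ⊥ → IsMulCommutative ↥(Subgroup.closure ((U : Set G) ∩ Cfsg.sigmaHat M)))
    (h142 : K ≠ ⊥ → T142 M K) :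
    IsMulCommutative ↥(Subgroup.closure ((U : Set G) ∩ Cfsg.sigmaHat M)) := by
  by_cases hK : K = ⊥
  · exact hbot hK
  · have hab := U_abelian hG hM hHall hKU (h142 hK)
    have hle : Subgroup.closure ((U : Set G) ∩ Cfsg.sigmaHat M) ≤ U := by
      rw [Subgroup.closure_le]
      exact Set.inter_subset_left
    apply isMulCommutative_of_comm
    intro a ha b hb
    exact comm_of_isMulCommutative hab a (hle ha) b (hle hb)

end Cfsg.Agent.Lib.Helper1.BGKap
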