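import Mathlib
import Cfsg.Agent.Lib.Helper1.PLenSeries
import Cfsg.Agent.Lib.Helper1.Coprime
import Cfsg.Agent.Lib.Helper1.Commutator
import Cfsg.Agent.Lib.Helper9.PLength
import Cfsg.Agent.Lib.Helper8.SylIn

/-!
# BG Theorem 3.6 (S1444), reduction part (helper1), file 1: internal `p`-length tools

Everything happens inside a fixed finite ambient group `G`; `X, Y, …` are subgroups of `G`.
-/

set_option autoImplicit false
set_option linter.unusedSectionVars false
set_option linter.style.haveILetI false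

namespace Cfsg.Agent.Lib.Helper1.BG36R

open Cfsg Subgroup
open Cfsg.Agent.Lib.Helper8 (IsSylIn)
open Cfsg.Agent.Lib.Helper1.PLen
open scoped commutatorElement

universe u

variable {G : Type u} [Group G]

/-- If `y ^ a` and `y ^ b` lie in `K` with `a`, `b` coprime then `y ∈ K`. -/
theorem mem_of_pow_mem_of_coprime {K : Subgroup G} {y : G} {a b : ℕ} (ha : y ^ a ∈ K)
    (hb : y ^ b ∈ K) (hab : a.Coprime b) : y ∈ K := by
  have h1 : y ^ ((a : ℤ) * Nat.gcdA a b + (b : ℤ) * Nat.gcdB a b) = y := by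
    rw [← Nat.gcd_eq_gcd_ab, hab.gcd_eq_one]; simp
  rw [← h1, zpow_add, zpow_mul, zpow_mul]
  exact K.mul_mem (K.zpow_mem (by simpa using ha) _) (K.zpow_mem (by simpa using hb) _)

/-- A subgroup that is both a `p`-group and of order prime to `p` is trivial. -/
theorem eq_bot_of_isPGroup_of_coprime {p : ℕ} [hp : Fact p.Prime] [Finite G] {T : Subgroup G}
    (h1 : IsPGroup p T) (h2 : (Nat.card T).Coprime p) : T = ⊥ := by
  obtain ⟨k, hk⟩ := IsPGroup.iff_card.mp h1
  rw [hk] at h2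
  rcases Nat.eq_zero_or_pos k with h0 | h0
  · rw [h0, pow_zero] at hk
    exact Subgroup.card_eq_one.mp hk
  · exfalso
    have := Nat.Coprime.coprime_dvd_left (dvd_pow_self p h0.ne') h2
    rw [Nat.coprime_self] at this
    exact hp.out.one_lt.ne' this

/-- coprime orders: trivial intersection -/
theorem inf_eq_bot_of_coprime [Finite G] {A B : Subgroup G}
    (h : (Nat.card A).Coprime (Nat.card B)) : A ⊓ B = ⊥ :=
  disjoint_iff.mp (Subgroup.disjoint_of_coprime_natCard h)

/-- `X` has no nontrivial normal `p'`-subgroup. -/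
def NP' (p : ℕ) (X : Subgroup G) : Prop :=
  ∀ T : Subgroup G, T ≤ X → X ≤ normalizer (T : Set G) → (Nat.card T).Coprime p → T = ⊥

/-- commutator of two subgroups normalizing each other lies in the intersection -/
theorem commutator_le_inf {A B : Subgroup G} (hAB : A ≤ normalizer (B : Set G))
    (hBA : B ≤ normalizer (A : Set G)) : ⁅A, B⁆ ≤ A ⊓ B := by
  rw [Subgroup.commutator_le]
  intro a ha b hb
  refine ⟨?_, ?_⟩
  · have h1 : b * a⁻¹ * b⁻¹ ∈ A :=
      (Subgroup.mem_normalizer_iff.mp (hBA hb) a⁻¹).mp (A.inv_mem ha)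
    have e : ⁅a, b⁆ = a * (b * a⁻¹ * b⁻¹) := by rw [commutatorElement_def]; group
    rw [e]; exact A.mul_mem ha h1
  · have h1 : a * b * a⁻¹ ∈ B := (Subgroup.mem_normalizer_iff.mp (hAB ha) b).mp hb
    have e : ⁅a, b⁆ = (a * b * a⁻¹) * b⁻¹ := by rw [commutatorElement_def]
    rw [e]; exact B.mul_mem h1 (B.inv_mem hb)

theorem le_centralizer_of_commutator_eq_bot {A B : Subgroup G} (h : ⁅A, B⁆ = ⊥) :
    A ≤ centralizer (B : Set G) := by
  intro a ha
  rw [mem_centralizer_iff]
  intro b hb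
  have h1 : ⁅a, b⁆ ∈ ⁅A, B⁆ := Subgroup.commutator_mem_commutator ha hb
  rw [h, mem_bot, commutatorElement_eq_one_iff_mul_comm] at h1
  exact h1.symm

theorem commutator_eq_bot_of_le_centralizer {A B : Subgroup G} (h : A ≤ centralizer (B : Set G)) :
    ⁅A, B⁆ = ⊥ := by
  rw [eq_bot_iff, Subgroup.commutator_le]
  intro a ha b hb
  rw [mem_bot, commutatorElement_eq_one_iff_mul_comm]
  exact (mem_centralizer_iff.mp (h ha) b hb).symm

/-- Lemma D: a normal `p`-subgroup `V` of `X` containing its centralizer in `X` forces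
`O_{p'}(X) = 1`. -/
theorem np'_of_self_centralizing {p : ℕ} [Fact p.Prime] [Finite G] {X V : Subgroup G}
    (hVX : V ≤ X) (hXV : X ≤ normalizer (V : Set G)) (hV : IsPGroup p V)
    (hC : X ⊓ centralizer (V : Set G) ≤ V) : NP' p X := by
  intro T hTX hXT hT
  have h1 : ⁅T, V⁆ ≤ T ⊓ V :=
    commutator_le_inf (hTX.trans hXV) (hVX.trans hXT)
  have h2 : T ⊓ V = ⊥ := by
    obtain ⟨k, hk⟩ := IsPGroup.iff_card.mp hV
    apply inf_eq_bot_of_coprime
    rw [hk]; exact Nat.Coprime.pow_right k hT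
  have h3 : T ≤ centralizer (V : Set G) := by
    apply le_centralizer_of_commutator_eq_bot
    rw [eq_bot_iff, ← h2]; exact h1
  have h4 : T ≤ V := (le_inf hTX h3).trans hC
  exact eq_bot_of_isPGroup_of_coprime (hV.to_le h4) hT

/-- `g ^ |K : H| ∈ H` for `g ∈ K` when `K` normalizes `H ≤ K`. -/
theorem pow_relIndex_mem_of_le_normalizer {H K : Subgroup G} (hHK : H ≤ K)
    (hK : K ≤ normalizer (H : Set G)) {g : G} (hg : g ∈ K) : g ^ H.relIndex K ∈ H := by
  haveI : (H.subgroupOf K).Normal := (normal_subgroupOf_iff_le_normalizer hHK).mpr hK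
  have := Subgroup.pow_index_mem (H.subgroupOf K) ⟨g, hg⟩
  exact this

section PLen

variable [Finite G] {p : ℕ} [hp : Fact p.Prime]

/-- Lemma A': an internal chain `1 ≤ T ≤ U ≤ X` with `T` a `p'`-group, `U/T` a `p`-group and
`X/U` a `p'`-group gives `p`-length at most one. -/
theorem pLengthLE_one_of_chain {X T U : Subgroup G} (hTU : T ≤ U) (hUX : U ≤ X)
    (hXT : X ≤ normalizer (T : Set G)) (hXU : X ≤ normalizer (U : Set G))
    (hT : (Nat.card T).Coprime p) (hU : ∀ u ∈ U, ∃ k : ℕ, u ^ (p ^ k) ∈ T)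
    (hX : (U.relIndex X).Coprime p) : Cfsg.PLengthLE p 1 ↥X := by
  haveI hTn : (T.subgroupOf X).Normal :=
    (normal_subgroupOf_iff_le_normalizer (hTU.trans hUX)).mpr hXT
  haveI hUn : (U.subgroupOf X).Normal := (normal_subgroupOf_iff_le_normalizer hUX).mpr hXU
  have h1 : T.subgroupOf X ≤ (Cfsg.upperPSeries p ↥X 1).1 := by
    apply le_upperPSeries_succ_of_even p (by decide : Even 0)
    intro x hx
    refine ⟨Nat.card T, hT, ?_⟩
    have h2 : (⟨(x : G), mem_subgroupOf.mp hx⟩ : ↥T) ^ Nat.card T = 1 := pow_card_eq_one'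
    have h3 : (x : G) ^ Nat.card T = 1 := by
      have := congrArg Subtype.val h2
      rwa [Subgroup.coe_pow, Subgroup.coe_one] at this
    have h4 : x ^ Nat.card T = 1 := Subtype.ext (by simpa using h3)
    rw [h4]; exact Subgroup.one_mem _
  have h2 : U.subgroupOf X ≤ (Cfsg.upperPSeries p ↥X 2).1 := by
    apply le_upperPSeries_succ_of_odd p (by decide : ¬ Even 1)
    intro x hx
    obtain ⟨k, hk⟩ := hU (x : G) (mem_subgroupOf.mp hx)
    refine ⟨k, h1 ?_⟩
    rw [mem_subgroupOf]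
    simpa using hk
  have h3 : (⊤ : Subgroup ↥X) ≤ (Cfsg.upperPSeries p ↥X 3).1 := by
    apply le_upperPSeries_succ_of_even p (by decide : Even 2)
    intro x _
    refine ⟨U.relIndex X, hX, h2 ?_⟩
    exact Subgroup.pow_index_mem (U.subgroupOf X) x
  exact top_le_iff.mp h3

/-- Lemma A: a normal Sylow `p`-subgroup gives `p`-length at most one. -/
theorem pLengthLE_one_of_normal_sylow {X S : Subgroup G} (hSX : S ≤ X)
    (hXS : X ≤ normalizer (S : Set G)) (hS : IsPGroup p S) (hidx : (S.relIndex X).Coprime p) :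
    Cfsg.PLengthLE p 1 ↥X := by
  apply pLengthLE_one_of_chain (T := ⊥) (U := S) bot_le hSX _ hXS _ _ hidx
  · intro x _
    rw [mem_normalizer_iff]
    intro y
    simp only [mem_bot]
    constructor
    · rintro rfl; group
    · intro h
      have : y = x⁻¹ * (x * y * x⁻¹) * x := by group
      rw [this, h]; group
  · rw [Subgroup.card_bot]; exact Nat.coprime_one_left p
  · intro u hu
    obtain ⟨k, hk⟩ := hS ⟨u, hu⟩
    refine ⟨k, ?_⟩
    rw [mem_bot]
    simpa using congrArg Subtype.val hk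

theorem pPrimeCore_characteristic (Y : Type*) [Group Y] [Finite Y] :
    (Cfsg.pPrimeCore p Y).Characteristic := by
  rw [← Cfsg.Agent.Lib.Helper9.upperPSeries_one p]
  exact upperPSeries_characteristic p 1

theorem pPrimePCore_characteristic (Y : Type*) [Group Y] [Finite Y] :
    (Cfsg.pPrimePCore p Y).Characteristic := by
  rw [← Cfsg.Agent.Lib.Helper9.upperPSeries_two p]
  exact upperPSeries_characteristic p 2

/-- (Q1) the canonical chain of a group of `p`-length at most one. -/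
theorem chain_of_pLengthLE_one {Y : Type*} [Group Y] [Finite Y] (h : Cfsg.PLengthLE p 1 Y) :
    (Nat.card (Cfsg.pPrimeCore p Y)).Coprime p ∧ Cfsg.pPrimeCore p Y ≤ Cfsg.pPrimePCore p Y ∧
      (∀ u ∈ Cfsg.pPrimePCore p Y, ∃ k : ℕ, u ^ (p ^ k) ∈ Cfsg.pPrimeCore p Y) ∧
      ((Cfsg.pPrimePCore p Y).index).Coprime p := by
  refine ⟨Cfsg.Agent.Lib.Helper12.pPrimeCore_coprime p, ?_, ?_,
    Cfsg.Agent.Lib.Helper9.coprime_index_pPrimePCore_of_pLengthLE_one p h⟩
  · rw [← Cfsg.Agent.Lib.Helper9.upperPSeries_one p, ← Cfsg.Agent.Lib.Helper9.upperPSeries_two p]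
    exact Cfsg.Agent.Lib.Helper25.upperPSeries_le_succ p 1
  · intro u hu
    rw [← Cfsg.Agent.Lib.Helper9.upperPSeries_two p] at hu
    obtain ⟨n, hn⟩ := exists_pow_mem_of_odd p (by decide : ¬ Even 1) u hu
    rw [Cfsg.Agent.Lib.Helper9.upperPSeries_one p] at hn
    exact ⟨n, hn⟩

/-- Lemma B (Claim PL): if `O_{p'}(X) = 1` and `Y` is a normal subgroup of `X` of `p`-length at
most one, then `Y` has a normal Sylow `p`-subgroup, which is normal in `X`. -/
theorem exists_normal_sylow_of_pLengthLE_one {X Y : Subgroup G} (hX : NP' p X) (hYX : Y ≤ X)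
    (hXY : X ≤ normalizer (Y : Set G)) (hY : Cfsg.PLengthLE p 1 ↥Y) :
    ∃ S : Subgroup G, S ≤ Y ∧ IsPGroup p S ∧ X ≤ normalizer (S : Set G) ∧
      (S.relIndex Y).Coprime p := by
  obtain ⟨h1, h2, h3, h4⟩ := chain_of_pLengthLE_one hY
  haveI := pPrimeCore_characteristic (p := p) ↥Y
  haveI := pPrimePCore_characteristic (p := p) ↥Y
  have hT : (Cfsg.pPrimeCore p ↥Y).map Y.subtype = ⊥ := by
    apply hX _ ((Subgroup.map_subtype_le _).trans hYX)
      (hXY.trans (normalizer_le_normalizer_map_subtype_of_characteristic Y _))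
    rw [Subgroup.card_map_of_injective Y.subtype_injective]; exact h1
  have hT' : Cfsg.pPrimeCore p ↥Y = ⊥ := by
    rw [← Subgroup.map_eq_bot_iff_of_injective _ Y.subtype_injective]; exact hT
  refine ⟨(Cfsg.pPrimePCore p ↥Y).map Y.subtype, Subgroup.map_subtype_le _, ?_,
    hXY.trans (normalizer_le_normalizer_map_subtype_of_characteristic Y _), ?_⟩
  · apply IsPGroup.map
    intro u
    obtain ⟨k, hk⟩ := h3 u.1 u.2
    rw [hT', mem_bot] at hk
    exact ⟨k, Subtype.ext (by simpa using hk)⟩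
  · have : ((Cfsg.pPrimePCore p ↥Y).map Y.subtype).relIndex Y = (Cfsg.pPrimePCore p ↥Y).index := by
      unfold Subgroup.relIndex Subgroup.subgroupOf
      rw [Subgroup.comap_map_eq_self_of_injective Y.subtype_injective]
    rw [this]; exact h4

/-- Lemma B2: a normal `p`-subgroup of `p'`-index contains every `p`-subgroup. -/
theorem le_of_normal_sylow {Y S P' : Subgroup G} (hSY : S ≤ Y) (hYS : Y ≤ normalizer (S : Set G))
    (hidx : (S.relIndex Y).Coprime p) (hP'Y : P' ≤ Y) (hP' : IsPGroup p P') : P' ≤ S := by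
  intro x hx
  obtain ⟨k, hk⟩ := hP' ⟨x, hx⟩
  have h1 : x ^ (p ^ k) ∈ S := by
    have : x ^ (p ^ k) = 1 := by simpa using congrArg Subtype.val hk
    rw [this]; exact S.one_mem
  have h2 : x ^ S.relIndex Y ∈ S := pow_relIndex_mem_of_le_normalizer hSY hYS (hP'Y hx)
  exact mem_of_pow_mem_of_coprime h1 h2 (Nat.Coprime.pow_left k (Nat.coprime_comm.mp hidx))

/-- `|H| = |N| * |H : N|` -/
theorem card_mul_relIndex' {N H : Subgroup G} (h : N ≤ H) :
    Nat.card N * N.relIndex H = Nat.card H := by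
  have := (N.subgroupOf H).card_mul_index
  rwa [card_subgroupOf_of_le h] at this

/-- Lemma (c'). -/
theorem coprime_relIndex_of_chain {X V N T U : Subgroup G} (hVX : V ≤ X)
    (hXV : X ≤ normalizer (V : Set G)) (hV : IsPGroup p V)
    (hVmax : ∀ S : Subgroup G, S ≤ X → X ≤ normalizer (S : Set G) → IsPGroup p S → S ≤ V)
    (hNV : N ≤ V) (hXN : X ≤ normalizer (N : Set G))
    (hNT : N ≤ T) (hTU : T ≤ U) (hUX : U ≤ X) (hXT : X ≤ normalizer (T : Set G))
    (hXU : X ≤ normalizer (U : Set G)) (hT : (N.relIndex T).Coprime p)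
    (hU : ∀ u ∈ U, ∃ k : ℕ, u ^ (p ^ k) ∈ T) (hX : (U.relIndex X).Coprime p)
    (hkey : ∀ T₀ : Subgroup G, T₀ ≤ X → (Nat.card T₀).Coprime p → ⁅V, T₀⁆ ≤ N → T₀ = ⊥) :
    (V.relIndex X).Coprime p := by
  have hTX : T ≤ X := hTU.trans hUX
  have hNp : IsPGroup p N := hV.to_le hNV
  obtain ⟨a, ha⟩ := IsPGroup.iff_card.mp hNp
  obtain ⟨T₀, hT₀⟩ := internal_sz_exists hNT (hTX.trans hXN) (by
    rw [ha]; exact Nat.Coprime.pow_left a (Nat.coprime_comm.mp hT))
  have hT₀T : T₀ ≤ T := hT₀.2.1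
  have hcardT₀ : Nat.card T₀ = N.relIndex T := by
    have h1 := hT₀.card_mul_card
    have h2 := card_mul_relIndex' hNT
    have hpos : 0 < Nat.card N := Nat.card_pos
    exact Nat.eq_of_mul_eq_mul_left hpos (h1.trans h2.symm)
  have hVT : V ⊓ T ≤ N :=
    le_of_normal_sylow hNT (hTX.trans hXN) hT inf_le_right (hV.to_le inf_le_left)
  have hcomm : ⁅V, T₀⁆ ≤ N := by
    refine le_trans ?_ hVT
    refine le_trans (Subgroup.commutator_mono le_rfl hT₀T) ?_
    exact commutator_le_inf (hVX.trans hXT) (hTX.trans hXV)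
  have hT₀bot : T₀ = ⊥ := hkey T₀ (hT₀T.trans hTX) (by rw [hcardT₀]; exact hT) hcomm
  have hTN : T = N := by
    apply le_antisymm _ hNT
    intro t ht
    obtain ⟨n, hn, b, hb, rfl⟩ := hT₀.2.2.2 t ht
    rw [hT₀bot, mem_bot] at hb
    rw [hb, mul_one]; exact hn
  have hUp : IsPGroup p U := by
    intro u
    obtain ⟨k, hk⟩ := hU u.1 u.2
    rw [hTN] at hk
    obtain ⟨j, hj⟩ := hNp ⟨_, hk⟩
    refine ⟨k + j, Subtype.ext ?_⟩
    have h2 := congrArg Subtype.val hj
    rw [Subgroup.coe_pow, Subgroup.coe_one] at h2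
    rw [Subgroup.coe_pow, Subgroup.coe_one, pow_add, pow_mul]
    exact h2
  have hUV : U ≤ V := hVmax U hUX hXU hUp
  exact Nat.Coprime.coprime_dvd_left (Subgroup.relIndex_dvd_of_le_left X hUV) hX

end PLen

end Cfsg.Agent.Lib.Helper1.BG36R
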