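import Mathlib
import Cfsg.Agent.Lib.Helper1.BG36R1
import Cfsg.Agent.S0022
import Cfsg.Agent.S0027

/-!
# BG Theorem 3.6 (S1444), reduction part (helper1), file 2: the class of tuples, sub-tuples,
transfer to subgroups and quotients, and the quotient step (Lemma Q)
-/

set_option autoImplicit false
set_option linter.unusedSectionVars false
set_option linter.style.haveILetI false

namespace Cfsg.Agent.Lib.Helper1.BG36R

open Cfsg Subgroup
open scoped commutatorElement

universe u

/-- The class of tuples `(H, R, R₀)` to which BG Theorem 3.6 applies (inside an ambient group). -/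
structure Cls {G : Type u} [Group G] (H R R₀ : Subgroup G) : Prop where
  norm : R ≤ normalizer (H : Set G)
  cop : (Nat.card H).Coprime (Nat.card R)
  sol : Group.IsSolvable ↥H
  oddH : Odd (Nat.card H)
  oddR : Odd (Nat.card R)
  le : R₀ ≤ R
  prime : (Nat.card R₀).Prime
  z : IsZGroup ↥(H ⊓ centralizer (R₀ : Set G))

/-- The induction hypothesis: the theorem holds for all tuples of smaller size. -/
def IHyp (p : ℕ) (n : ℕ) : Prop :=
  ∀ (G' : Type u) [Group G'] [Finite G'] (H' R' R₀' : Subgroup G'), Cls H' R' R₀' →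
    Nat.card H' + Nat.card R' < n → Cfsg.PLengthLE p 1 ↥⁅H', R'⁆

variable {G : Type u} [Group G] [Finite G]

theorem isZGroup_of_le {A B : Subgroup G} (hAB : A ≤ B) (hB : IsZGroup ↥B) : IsZGroup ↥A :=
  IsZGroup.of_injective (f := Subgroup.inclusion hAB) (Subgroup.inclusion_injective hAB)

theorem isSolvable_of_le {A B : Subgroup G} (hAB : A ≤ B) (hB : Group.IsSolvable ↥B) :
    Group.IsSolvable ↥A :=
  solvable_of_solvable_injective (Subgroup.inclusion_injective hAB)

theorem odd_of_le {A B : Subgroup G} (hAB : A ≤ B) (hB : Odd (Nat.card B)) : Odd (Nat.card A) :=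
  Odd.of_dvd_nat hB (Subgroup.card_dvd_of_le hAB)

/-- Sub-tuples. -/
theorem Cls.mono {H R R₀ : Subgroup G} (h : Cls H R R₀) {H₂ R₂ : Subgroup G} (hH : H₂ ≤ H)
    (hR : R₂ ≤ R) (hR₀ : R₀ ≤ R₂) (hn : R₂ ≤ normalizer (H₂ : Set G)) : Cls H₂ R₂ R₀ where
  norm := hn
  cop := Nat.Coprime.coprime_dvd_left (Subgroup.card_dvd_of_le hH)
    (Nat.Coprime.coprime_dvd_right (Subgroup.card_dvd_of_le hR) h.cop)
  sol := isSolvable_of_le hH h.sol
  oddH := odd_of_le hH h.oddH
  oddR := odd_of_le hR h.oddR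
  le := hR₀
  prime := h.prime
  z := isZGroup_of_le (inf_le_inf_right _ hH) h.z

/-- Transfer to a subgroup containing `H` and `R`. -/
theorem Cls.subgroupOf {H R R₀ : Subgroup G} (h : Cls H R R₀) (Γ : Subgroup G) (hHΓ : H ≤ Γ)
    (hRΓ : R ≤ Γ) : Cls (H.subgroupOf Γ) (R.subgroupOf Γ) (R₀.subgroupOf Γ) where
  norm := by
    intro r hr
    rw [mem_subgroupOf] at hr
    rw [mem_normalizer_iff]
    intro x
    simp only [mem_subgroupOf]
    have := mem_normalizer_iff.mp (h.norm hr) (x : G)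
    simpa using this
  cop := by
    rw [card_subgroupOf_of_le hHΓ, card_subgroupOf_of_le hRΓ]; exact h.cop
  sol := by
    haveI := h.sol
    exact solvable_of_solvable_injective (f := (Subgroup.subgroupOfEquivOfLe hHΓ).toMonoidHom)
      (Subgroup.subgroupOfEquivOfLe hHΓ).injective
  oddH := by rw [card_subgroupOf_of_le hHΓ]; exact h.oddH
  oddR := by rw [card_subgroupOf_of_le hRΓ]; exact h.oddR
  le := Subgroup.comap_mono h.le
  prime := by rw [card_subgroupOf_of_le (h.le.trans hRΓ)]; exact h.prime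
  z := by
    haveI := h.z
    refine IsZGroup.of_injective (f := (Γ.subtype.comp (Subgroup.subtype _)).codRestrict
      (H ⊓ centralizer (R₀ : Set G)) (fun y => ⟨mem_subgroupOf.mp y.2.1, ?_⟩)) ?_
    · show ((y : ↥Γ) : G) ∈ centralizer (R₀ : Set G)
      rw [mem_centralizer_iff]
      intro a ha
      have haΓ : a ∈ Γ := hRΓ (h.le ha)
      have h1 := mem_centralizer_iff.mp y.2.2 ⟨a, haΓ⟩ (mem_subgroupOf.mpr ha)
      exact congrArg Subtype.val h1
    · intro a b hab
      have h1 := congrArg Subtype.val hab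
      exact Subtype.ext (Subtype.ext h1)

/-- the commutator of the transferred subgroups -/
theorem commutator_subgroupOf {H R : Subgroup G} (Γ : Subgroup G) (hHΓ : H ≤ Γ) (hRΓ : R ≤ Γ) :
    (⁅H.subgroupOf Γ, R.subgroupOf Γ⁆).map Γ.subtype = ⁅H, R⁆ := by
  rw [Subgroup.map_commutator, Subgroup.map_subgroupOf_eq_of_le hHΓ,
    Subgroup.map_subgroupOf_eq_of_le hRΓ]

theorem pLengthLE_commutator_subgroupOf {p : ℕ} [Fact p.Prime] {H R : Subgroup G} (Γ : Subgroup G)
    (hHΓ : H ≤ Γ) (hRΓ : R ≤ Γ)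
    (h : Cfsg.PLengthLE p 1 ↥⁅H.subgroupOf Γ, R.subgroupOf Γ⁆) : Cfsg.PLengthLE p 1 ↥⁅H, R⁆ := by
  have e1 := (⁅H.subgroupOf Γ, R.subgroupOf Γ⁆).equivMapOfInjective Γ.subtype Γ.subtype_injective
  have e2 : ↥((⁅H.subgroupOf Γ, R.subgroupOf Γ⁆).map Γ.subtype) ≃* ↥⁅H, R⁆ :=
    MulEquiv.subgroupCongr (commutator_subgroupOf Γ hHΓ hRΓ)
  exact Cfsg.Agent.Lib.Helper1.PLen.pLengthLE_of_mulEquiv p (e1.trans e2) h

/-- Transfer to a quotient: image under a surjective hom whose kernel lies in `H`. -/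
theorem Cls.map {H R R₀ : Subgroup G} (h : Cls H R R₀) {Q : Type u} [Group Q] [Finite Q]
    (f : G →* Q) (hker : f.ker ≤ H) : Cls (H.map f) (R.map f) (R₀.map f) where
  norm := (Subgroup.map_mono h.norm).trans (Subgroup.le_normalizer_map f)
  cop := Nat.Coprime.coprime_dvd_left (Subgroup.card_map_dvd H f)
    (Nat.Coprime.coprime_dvd_right (Subgroup.card_map_dvd R f) h.cop)
  sol := by
    haveI := h.sol
    exact solvable_of_surjective (f := f.subgroupMap H) (f.subgroupMap_surjective H)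
  oddH := Odd.of_dvd_nat h.oddH (Subgroup.card_map_dvd H f)
  oddR := Odd.of_dvd_nat h.oddR (Subgroup.card_map_dvd R f)
  le := Subgroup.map_mono h.le
  prime := by
    have hdvd := Subgroup.card_map_dvd R₀ f
    rcases (Nat.dvd_prime h.prime).mp hdvd with h1 | h1
    · exfalso
      have h2 : R₀.map f = ⊥ := Subgroup.card_eq_one.mp h1
      rw [Subgroup.map_eq_bot_iff] at h2
      have h3 : R₀ ≤ H ⊓ R := le_inf (h2.trans hker) h.le
      rw [inf_eq_bot_of_coprime h.cop, le_bot_iff] at h3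
      have := h.prime
      rw [h3, Subgroup.card_bot] at this
      exact Nat.not_prime_one this
    · rw [h1]; exact h.prime
  z := by
    haveI := h.z
    have hfy : ∀ y : ↥(H ⊓ centralizer (R₀ : Set G)),
        f (y : G) ∈ H.map f ⊓ centralizer ((R₀.map f : Subgroup Q) : Set Q) := by
      intro y
      refine ⟨⟨y, y.2.1, rfl⟩, ?_⟩
      show f (y : G) ∈ centralizer ((R₀.map f : Subgroup Q) : Set Q)
      rw [mem_centralizer_iff]
      rintro _ ⟨a, ha, rfl⟩
      rw [← map_mul, ← map_mul, mem_centralizer_iff.mp y.2.2 a ha]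
    refine IsZGroup.of_surjective (f := (f.comp (Subgroup.subtype _)).codRestrict _ hfy) ?_
    rintro ⟨z, ⟨k, hk, rfl⟩, hzc⟩
    have hfix : ∀ a ∈ R₀, a * k * a⁻¹ * k⁻¹ ∈ f.ker := by
      intro a ha
      rw [MonoidHom.mem_ker, map_mul, map_mul, map_mul, map_inv, map_inv]
      have := mem_centralizer_iff.mp hzc (f a) ⟨a, ha, rfl⟩
      rw [this]; group
    obtain ⟨c, hc, hkc⟩ := Cfsg.Agent.S0022.result R₀ H (h.le.trans h.norm)
      (Nat.Coprime.coprime_dvd_left (Subgroup.card_dvd_of_le h.le) h.cop.symm) (Or.inr h.sol)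
      f.ker hker (fun x _ => (inferInstance : f.ker.Normal) |> fun hn =>
        (Subgroup.normalizer_eq_top_iff.mpr hn) ▸ Subgroup.mem_top x)
      (fun x _ => (inferInstance : f.ker.Normal) |> fun hn =>
        (Subgroup.normalizer_eq_top_iff.mpr hn) ▸ Subgroup.mem_top x) k hk hfix
    refine ⟨⟨c, hc⟩, Subtype.ext ?_⟩
    show f c = f k
    rw [MonoidHom.mem_ker, map_mul, map_inv] at hkc
    have : f c = f k * ((f k)⁻¹ * f c) := by group
    rw [this, hkc, mul_one]

theorem normal_of_sup_eq_top {H R N : Subgroup G} (htop : H ⊔ R = ⊤)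
    (hH : H ≤ normalizer (N : Set G)) (hR : R ≤ normalizer (N : Set G)) : N.Normal := by
  rw [← Subgroup.normalizer_eq_top_iff, eq_top_iff, ← htop]
  exact sup_le hH hR

/-- **Lemma Q** (quotient step). -/
theorem quotient_step {p : ℕ} [hp : Fact p.Prime] {H R R₀ : Subgroup G}
    (hIH : IHyp.{u} p (Nat.card H + Nat.card R)) (hC : Cls H R R₀) (hHR : ⁅H, R⁆ = H)
    (N : Subgroup G) [hN : N.Normal] (hNH : N ≤ H) (hN1 : N ≠ ⊥) :
    ∃ T U : Subgroup G, N ≤ T ∧ T ≤ U ∧ U ≤ H ∧ H ≤ normalizer (T : Set G) ∧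
      H ≤ normalizer (U : Set G) ∧ R ≤ normalizer (T : Set G) ∧ R ≤ normalizer (U : Set G) ∧
      (N.relIndex T).Coprime p ∧ (∀ u ∈ U, ∃ k : ℕ, u ^ (p ^ k) ∈ T) ∧ (U.relIndex H).Coprime p ∧
      ∀ T' : Subgroup G, N ≤ T' → T' ≤ H → H ≤ normalizer (T' : Set G) →
        (N.relIndex T').Coprime p → T' ≤ T := by
  set f : G →* G ⧸ N := QuotientGroup.mk' N with hf
  have hfs : Function.Surjective f := QuotientGroup.mk'_surjective N
  have hker : f.ker = N := QuotientGroup.ker_mk' N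
  have hC' : Cls (H.map f) (R.map f) (R₀.map f) := hC.map f (by rw [hker]; exact hNH)
  have hcardH : Nat.card (H.map f) < Nat.card H := by
    have h1 := Subgroup.relIndex_ker H f
    rw [hker] at h1
    have h2 := card_mul_relIndex' hNH
    rw [h1] at h2
    have h3 : 1 < Nat.card N := by
      rw [Subgroup.one_lt_card_iff_ne_bot]; exact hN1
    have h4 : 0 < Nat.card (H.map f) := Nat.card_pos
    nlinarith
  have hcardR : Nat.card (R.map f) ≤ Nat.card R :=
    Nat.le_of_dvd Nat.card_pos (Subgroup.card_map_dvd R f)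
  have hpl : Cfsg.PLengthLE p 1 ↥(H.map f) := by
    have h1 := hIH (G ⧸ N) (H.map f) (R.map f) (R₀.map f) hC' (by omega)
    have h2 : ⁅H.map f, R.map f⁆ = H.map f := by rw [← Subgroup.map_commutator, hHR]
    exact Cfsg.Agent.Lib.Helper1.PLen.pLengthLE_of_mulEquiv p (MulEquiv.subgroupCongr h2) h1
  obtain ⟨c1, c2, c3, c4⟩ := chain_of_pLengthLE_one hpl
  haveI := pPrimeCore_characteristic (p := p) ↥(H.map f)
  haveI := pPrimePCore_characteristic (p := p) ↥(H.map f)
  set Tb : Subgroup (G ⧸ N) := (Cfsg.pPrimeCore p ↥(H.map f)).map (H.map f).subtype with hTb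
  set Ub : Subgroup (G ⧸ N) := (Cfsg.pPrimePCore p ↥(H.map f)).map (H.map f).subtype with hUb
  have hTbH : Tb ≤ H.map f := Subgroup.map_subtype_le _
  have hUbH : Ub ≤ H.map f := Subgroup.map_subtype_le _
  have hTbUb : Tb ≤ Ub := Subgroup.map_mono c2
  have hNTb : normalizer ((H.map f : Subgroup (G ⧸ N)) : Set (G ⧸ N)) ≤ normalizer (Tb : Set (G ⧸ N)) :=
    normalizer_le_normalizer_map_subtype_of_characteristic _ _
  have hNUb : normalizer ((H.map f : Subgroup (G ⧸ N)) : Set (G ⧸ N)) ≤ normalizer (Ub : Set (G ⧸ N)) :=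
    normalizer_le_normalizer_map_subtype_of_characteristic _ _
  have hcomapH : (H.map f).comap f = H := by
    rw [Subgroup.comap_map_eq, hker]; exact sup_eq_left.mpr hNH
  have hnorm_comap : ∀ (A : Subgroup G) (S : Subgroup (G ⧸ N)),
      A.map f ≤ normalizer (S : Set (G ⧸ N)) → A ≤ normalizer ((S.comap f : Subgroup G) : Set G) := by
    intro A S hAS
    refine le_trans ?_ (Subgroup.le_normalizer_comap f)
    intro a ha
    exact hAS ⟨a, ha, rfl⟩
  refine ⟨Tb.comap f, Ub.comap f, ?_, Subgroup.comap_mono hTbUb, ?_, ?_, ?_, ?_, ?_, ?_, ?_, ?_, ?_⟩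
  · intro n hn
    show f n ∈ Tb
    rw [show f n = 1 from (QuotientGroup.eq_one_iff n).mpr hn]; exact Tb.one_mem
  · rw [← hcomapH]; exact Subgroup.comap_mono hUbH
  · exact hnorm_comap H Tb (le_normalizer.trans hNTb)
  · exact hnorm_comap H Ub (le_normalizer.trans hNUb)
  · exact hnorm_comap R Tb (hC'.norm.trans hNTb)
  · exact hnorm_comap R Ub (hC'.norm.trans hNUb)
  · have h1 := Subgroup.relIndex_ker (Tb.comap f) f
    rw [hker, Subgroup.map_comap_eq_self_of_surjective hfs] at h1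
    rw [h1, hTb, Subgroup.card_map_of_injective (Subgroup.subtype_injective _)]
    exact c1
  · intro u hu
    have hu' : f u ∈ Ub := hu
    obtain ⟨y, hy, hyu⟩ := hu'
    obtain ⟨k, hk⟩ := c3 y hy
    refine ⟨k, ?_⟩
    show f (u ^ (p ^ k)) ∈ Tb
    rw [map_pow, ← hyu]
    exact ⟨y ^ (p ^ k), hk, by simp⟩
  · have h1 : (Ub.comap f).relIndex H = Ub.relIndex (H.map f) := Subgroup.relIndex_comap Ub f H
    have h2 : Ub.relIndex (H.map f) = (Cfsg.pPrimePCore p ↥(H.map f)).index := by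
      rw [hUb]
      unfold Subgroup.relIndex Subgroup.subgroupOf
      rw [Subgroup.comap_map_eq_self_of_injective (Subgroup.subtype_injective _)]
    rw [h1, h2]; exact c4
  · intro T' hNT' hT'H hHT' hT'
    have h1 : T'.map f ≤ H.map f := Subgroup.map_mono hT'H
    have h2 : ((T'.map f).subgroupOf (H.map f)).Normal := by
      rw [normal_subgroupOf_iff_le_normalizer h1]
      exact (Subgroup.map_mono hHT').trans (Subgroup.le_normalizer_map f)
    have h3 : (Nat.card ((T'.map f).subgroupOf (H.map f))).Coprime p := by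
      rw [card_subgroupOf_of_le h1, ← Subgroup.relIndex_ker T' f, hker]; exact hT'
    have h4 := Cfsg.Agent.Lib.Helper12.le_pPrimeCore p _ h2 h3
    intro t ht
    show f t ∈ Tb
    have h5 : (⟨f t, h1 ⟨t, ht, rfl⟩⟩ : ↥(H.map f)) ∈ (T'.map f).subgroupOf (H.map f) := by
      rw [mem_subgroupOf]; exact ⟨t, ht, rfl⟩
    exact ⟨_, h4 h5, rfl⟩

end Cfsg.Agent.Lib.Helper1.BG36R
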