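import Mathlib
import Cfsg.Agent.Lib.Helper1.BG36R2
import Cfsg.Agent.Lib.Helper1.PGroup
import Cfsg.Agent.Lib.Helper9.PLengthOne
import Cfsg.Agent.Lib.Helper17.PrimeAct4
import Cfsg.Agent.Lib.Helper20.CoprimeHall
import Cfsg.Agent.Lib.Helper22.Commutator
import Cfsg.Agent.Lib.Helper4.Basic
import Cfsg.Agent.S0023
import Cfsg.Agent.S0026

/-!
# BG Theorem 3.6 (S1444), reduction part (helper1), file 3: the minimal counterexample, steps 1–7
-/

set_option autoImplicit false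
set_option linter.unusedSectionVars false
set_option linter.style.haveILetI false

namespace Cfsg.Agent.Lib.Helper1.BG36R

open Cfsg Subgroup
open scoped commutatorElement

universe u

/-- A minimal counterexample, transferred so that `H ⊔ R = ⊤`. -/
structure MC (p : ℕ) [Fact p.Prime] {G : Type u} [Group G] [Finite G] (H R R₀ : Subgroup G) :
    Prop where
  cls : Cls H R R₀
  ih : IHyp.{u} p (Nat.card H + Nat.card R)
  bad : ¬ Cfsg.PLengthLE p 1 ↥⁅H, R⁆
  top : H ⊔ R = ⊤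

variable {p : ℕ} [hp : Fact p.Prime] {G : Type u} [Group G] [Finite G] {H R R₀ : Subgroup G}

theorem card_lt_of_lt {A B : Subgroup G} (h : A < B) : Nat.card A < Nat.card B := by
  by_contra hcon
  push_neg at hcon
  exact (ne_of_lt h) (Subgroup.eq_of_le_of_card_ge h.le hcon)

theorem MC.normal_of_inv (h : MC p H R R₀) {N : Subgroup G} (hH : H ≤ normalizer (N : Set G))
    (hR : R ≤ normalizer (N : Set G)) : N.Normal :=
  normal_of_sup_eq_top h.top hH hR

theorem MC.normalH (h : MC p H R R₀) : H.Normal := h.normal_of_inv le_normalizer h.cls.norm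

/-- Step 1. -/
theorem MC.comm_eq (h : MC p H R R₀) : ⁅H, R⁆ = H := by
  by_contra hne
  have hle : ⁅H, R⁆ ≤ H := commutator_le_of_le_normalizer h.cls.norm
  have hlt : Nat.card ↥⁅H, R⁆ < Nat.card H := card_lt_of_lt (lt_of_le_of_ne hle hne)
  have C1 : Cls ⁅H, R⁆ R R₀ :=
    h.cls.mono hle le_rfl h.cls.le (le_normalizer_commutator_right H R)
  have h1 := h.ih G ⁅H, R⁆ R R₀ C1 (by omega)
  have h2 : ⁅⁅H, R⁆, R⁆ = ⁅H, R⁆ :=
    Cfsg.Agent.S0027.result R H h.cls.norm h.cls.cop.symm (Or.inr h.cls.sol)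
  exact h.bad (Cfsg.Agent.Lib.Helper1.PLen.pLengthLE_of_mulEquiv p (MulEquiv.subgroupCongr h2) h1)

theorem MC.bad' (h : MC p H R R₀) : ¬ Cfsg.PLengthLE p 1 ↥H := by
  intro h1
  exact h.bad (Cfsg.Agent.Lib.Helper1.PLen.pLengthLE_of_mulEquiv p
    (MulEquiv.subgroupCongr h.comm_eq.symm) h1)

/-- Step 3: `O_{p'}(H) = 1`. -/
theorem MC.pPrimeCore_eq_bot (h : MC p H R R₀) : Cfsg.pPrimeCore p ↥H = ⊥ := by
  haveI := pPrimeCore_characteristic (p := p) ↥H
  obtain ⟨N, hN⟩ : ∃ N : Subgroup G, N = (Cfsg.pPrimeCore p ↥H).map H.subtype := ⟨_, rfl⟩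
  have hNH : N ≤ H := hN ▸ map_subtype_le _
  have hnn : normalizer (H : Set G) ≤ normalizer (N : Set G) :=
    hN ▸ normalizer_le_normalizer_map_subtype_of_characteristic _ _
  haveI : N.Normal := h.normal_of_inv (le_normalizer.trans hnn) (h.cls.norm.trans hnn)
  by_contra hne
  have hN1 : N ≠ ⊥ := by
    intro h0
    apply hne
    rwa [hN, Subgroup.map_eq_bot_iff_of_injective _ (subtype_injective _)] at h0
  obtain ⟨T, U, hNT, hTU, hUH, hHT, hHU, hRT, hRU, hidx, hpow, hidx2, hmax⟩ :=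
    quotient_step h.ih h.cls h.comm_eq N hNH hN1
  apply h.bad'
  refine pLengthLE_one_of_chain hTU hUH hHT hHU ?_ hpow hidx2
  rw [← card_mul_relIndex' hNT]
  refine Nat.Coprime.mul_left ?_ hidx
  rw [hN, card_map_of_injective (subtype_injective _)]
  exact Cfsg.Agent.Lib.Helper12.pPrimeCore_coprime p

/-- Step 4: `C_H(V) ≤ V` for `V = O_p(H)`. -/
theorem MC.cent_le (h : MC p H R R₀) :
    H ⊓ centralizer (Cfsg.pCoreOf p H : Set G) ≤ Cfsg.pCoreOf p H := by
  haveI := h.cls.sol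
  have h1 := Cfsg.Agent.Lib.Helper9.centralizer_pCore_le_of_isSolvable (X := ↥H) p
    h.pPrimeCore_eq_bot
  intro x hx
  have hxc : (⟨x, hx.1⟩ : ↥H) ∈ centralizer (Cfsg.pCore p ↥H : Set ↥H) := by
    rw [mem_centralizer_iff]
    intro y hy
    apply Subtype.ext
    exact mem_centralizer_iff.mp hx.2 (y : G) ⟨y, hy, rfl⟩
  exact ⟨_, h1 hxc, rfl⟩

theorem MC.V_le (h : MC p H R R₀) : Cfsg.pCoreOf p H ≤ H :=
  Cfsg.Agent.Lib.Helper17.PrimeAct.pCoreOf_le p H

theorem MC.V_pgroup (h : MC p H R R₀) : IsPGroup p (Cfsg.pCoreOf p H) :=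
  Cfsg.Agent.Lib.Helper17.PrimeAct.pCoreOf_isPGroup p H

theorem MC.V_normal (h : MC p H R R₀) : (Cfsg.pCoreOf p H).Normal :=
  h.normal_of_inv
    (le_normalizer.trans (Cfsg.Agent.Lib.Helper17.PrimeAct.normalizer_le_normalizer_pCoreOf p H))
    (h.cls.norm.trans (Cfsg.Agent.Lib.Helper17.PrimeAct.normalizer_le_normalizer_pCoreOf p H))

theorem MC.V_max (h : MC p H R R₀) (S : Subgroup G) (hSH : S ≤ H)
    (hHS : H ≤ normalizer (S : Set G)) (hS : IsPGroup p S) : S ≤ Cfsg.pCoreOf p H := by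
  have h1 : (S.subgroupOf H).Normal := (normal_subgroupOf_iff_le_normalizer hSH).mpr hHS
  have h2 : IsPGroup p (S.subgroupOf H) := hS.comap_subtype
  have h3 := Cfsg.Agent.Lib.Helper12.le_pCore' p _ h1 h2
  intro s hs
  exact ⟨⟨s, hSH hs⟩, h3 (mem_subgroupOf.mpr hs), rfl⟩

theorem MC.H_ne_bot (h : MC p H R R₀) : H ≠ ⊥ := by
  intro h0
  apply h.bad'
  apply Cfsg.Agent.Lib.Helper1.PLen.pLengthLE_mono p (Nat.zero_le 1)
  apply Cfsg.Agent.Lib.Helper1.PLen.pLengthLE_zero_of_coprime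
  rw [h0, Subgroup.card_bot]
  exact Nat.coprime_one_left p

theorem MC.V_ne_bot (h : MC p H R R₀) : Cfsg.pCoreOf p H ≠ ⊥ := by
  intro h0
  apply h.H_ne_bot
  have h1 := h.cent_le
  rw [h0] at h1
  rw [eq_bot_iff]
  intro x hx
  have hxc : x ∈ centralizer ((⊥ : Subgroup G) : Set G) := by
    rw [mem_centralizer_iff]
    intro y hy
    rw [SetLike.mem_coe, mem_bot] at hy
    rw [hy, mul_one, one_mul]
  exact h1 ⟨hx, hxc⟩

theorem MC.np' (h : MC p H R R₀) : NP' p H :=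
  haveI := h.V_normal
  np'_of_self_centralizing h.V_le (fun x _ => Subgroup.normalizer_eq_top (H := Cfsg.pCoreOf p H) ▸ mem_top x)
    h.V_pgroup h.cent_le


theorem MC.H_le_normalizer_V (h : MC p H R R₀) : H ≤ normalizer (Cfsg.pCoreOf p H : Set G) := by
  haveI := h.V_normal
  rw [normalizer_eq_top]; exact le_top

/-- Step 5: `Φ(V) = 1`. -/
theorem MC.frat_eq_bot (h : MC p H R R₀) :
    Cfsg.Agent.Lib.Helper17.PrimeAct.frat (Cfsg.pCoreOf p H) = ⊥ := by
  haveI := h.V_normal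
  obtain ⟨V, hV⟩ : ∃ V : Subgroup G, V = Cfsg.pCoreOf p H := ⟨_, rfl⟩
  obtain ⟨F, hF⟩ : ∃ F, F = Cfsg.Agent.Lib.Helper17.PrimeAct.frat V := ⟨_, rfl⟩
  rw [← hV, ← hF]
  haveI hVn : V.Normal := hV ▸ h.V_normal
  have hVH : V ≤ H := hV ▸ h.V_le
  have hVp : IsPGroup p V := hV ▸ h.V_pgroup
  have hFV : F ≤ V := hF ▸ Cfsg.Agent.Lib.Helper17.PrimeAct.frat_le V
  have hnn : normalizer (V : Set G) ≤ normalizer (F : Set G) :=
    hF ▸ Cfsg.Agent.Lib.Helper17.PrimeAct.normalizer_le_normalizer_frat V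
  have hVtop : normalizer (V : Set G) = ⊤ := normalizer_eq_top V
  haveI : F.Normal := by
    rw [← normalizer_eq_top_iff, eq_top_iff, ← hVtop]; exact hnn
  by_contra hF1
  obtain ⟨T, U, hNT, hTU, hUH, hHT, hHU, hRT, hRU, hidx, hpow, hidx2, hmax⟩ :=
    quotient_step h.ih h.cls h.comm_eq F (hFV.trans hVH) hF1
  apply h.bad'
  have hHV : H ≤ normalizer (V : Set G) := by rw [hVtop]; exact le_top
  refine pLengthLE_one_of_normal_sylow hVH hHV hVp ?_
  refine coprime_relIndex_of_chain hVH hHV hVp (hV ▸ h.V_max) hFV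
    (by rw [normalizer_eq_top]; exact le_top) hNT hTU hUH hHT hHU hidx hpow hidx2 ?_
  intro T₀ hT₀H hT₀ hcomm
  obtain ⟨k, hk⟩ := IsPGroup.iff_card.mp hVp
  have h1 : V ≤ centralizer (T₀ : Set G) :=
    Cfsg.Agent.Lib.Helper17.PrimeAct.le_centralizer_of_comm_le_frat V T₀
      (by rw [hVtop]; exact le_top) (by rw [hk]; exact Nat.Coprime.pow_right k hT₀)
      (Or.inr (isSolvable_of_le hVH h.cls.sol)) (hF ▸ hcomm)
  have h2 : T₀ ≤ H ⊓ centralizer (V : Set G) := le_inf hT₀H (Subgroup.le_centralizer_iff.mp h1)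
  exact eq_bot_of_isPGroup_of_coprime (hVp.to_le (h2.trans (hV ▸ h.cent_le))) hT₀

theorem MC.frattini_V (h : MC p H R R₀) : frattini ↥(Cfsg.pCoreOf p H) = ⊥ := by
  have h1 := h.frat_eq_bot
  unfold Cfsg.Agent.Lib.Helper17.PrimeAct.frat at h1
  rwa [Subgroup.map_eq_bot_iff_of_injective _ (subtype_injective _)] at h1

theorem MC.V_comm (h : MC p H R R₀) :
    ∀ x ∈ Cfsg.pCoreOf p H, ∀ y ∈ Cfsg.pCoreOf p H, x * y = y * x := by
  intro x hx y hy
  have h1 := Cfsg.Agent.Lib.Helper1.IsPGroup.commutator_le_frattini h.V_pgroup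
  rw [h.frattini_V, commutator_def] at h1
  have h2 : ⁅(⟨x, hx⟩ : ↥(Cfsg.pCoreOf p H)), ⟨y, hy⟩⁆ ∈ (⊥ : Subgroup ↥(Cfsg.pCoreOf p H)) :=
    h1 (Subgroup.commutator_mem_commutator (mem_top _) (mem_top _))
  rw [mem_bot, commutatorElement_eq_one_iff_mul_comm] at h2
  exact congrArg Subtype.val h2

theorem MC.V_exp (h : MC p H R R₀) : ∀ x ∈ Cfsg.pCoreOf p H, x ^ p = 1 := by
  intro x hx
  have h1 := Cfsg.Agent.Lib.Helper1.IsPGroup.pow_mem_frattini h.V_pgroup ⟨x, hx⟩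
  rw [h.frattini_V, mem_bot] at h1
  exact congrArg Subtype.val h1


/-! ### general normalizer lemmas -/

theorem le_normalizer_sup {X A B : Subgroup G} (hA : X ≤ normalizer (A : Set G))
    (hB : X ≤ normalizer (B : Set G)) : X ≤ normalizer ((A ⊔ B : Subgroup G) : Set G) := by
  intro x hx
  rw [Cfsg.Agent.Lib.Helper8.mem_normalizer_iff_map_conj, Subgroup.map_sup,
    Cfsg.Agent.Lib.Helper8.mem_normalizer_iff_map_conj.mp (hA hx),
    Cfsg.Agent.Lib.Helper8.mem_normalizer_iff_map_conj.mp (hB hx)]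

theorem le_normalizer_inf {X A B : Subgroup G} (hA : X ≤ normalizer (A : Set G))
    (hB : X ≤ normalizer (B : Set G)) : X ≤ normalizer ((A ⊓ B : Subgroup G) : Set G) :=
  (le_inf hA hB).trans Subgroup.inf_normalizer_le_normalizer_inf

theorem le_normalizer_commutator {X A B : Subgroup G} (hA : X ≤ normalizer (A : Set G))
    (hB : X ≤ normalizer (B : Set G)) : X ≤ normalizer ((⁅A, B⁆ : Subgroup G) : Set G) := by
  intro x hx
  rw [Cfsg.Agent.Lib.Helper8.mem_normalizer_iff_map_conj, Subgroup.map_commutator,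
    Cfsg.Agent.Lib.Helper8.mem_normalizer_iff_map_conj.mp (hA hx),
    Cfsg.Agent.Lib.Helper8.mem_normalizer_iff_map_conj.mp (hB hx)]

theorem le_normalizer_centralizer {X A : Subgroup G} (hA : X ≤ normalizer (A : Set G)) :
    X ≤ normalizer ((centralizer (A : Set G) : Subgroup G) : Set G) := by
  intro x hx
  apply mem_normalizer_of_forall_conj_mem
  intro c hc
  rw [mem_centralizer_iff] at hc ⊢
  intro a ha
  have h1 : x⁻¹ * a * x⁻¹⁻¹ ∈ A :=
    (Subgroup.mem_normalizer_iff.mp (Subgroup.inv_mem _ (hA hx)) a).mp ha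
  have h2 := hc _ h1
  have e1 : a * (x * c * x⁻¹) = x * ((x⁻¹ * a * x⁻¹⁻¹) * c) * x⁻¹ := by group
  have e2 : x * c * x⁻¹ * a = x * (c * (x⁻¹ * a * x⁻¹⁻¹)) * x⁻¹ := by group
  rw [e1, e2, h2]

theorem le_pCoreOf {X S : Subgroup G} (hSX : S ≤ X) (hXS : X ≤ normalizer (S : Set G))
    (hS : IsPGroup p S) : S ≤ Cfsg.pCoreOf p X := by
  have h1 : (S.subgroupOf X).Normal := (normal_subgroupOf_iff_le_normalizer hSX).mpr hXS
  have h2 : IsPGroup p (S.subgroupOf X) := hS.comap_subtype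
  have h3 := Cfsg.Agent.Lib.Helper12.le_pCore' p _ h1 h2
  intro s hs
  exact ⟨⟨s, hSX hs⟩, h3 (mem_subgroupOf.mpr hs), rfl⟩

/-- Steps 6–7: there is a normal subgroup `T` with `V ≤ T ≤ H`, `T/V` a `p'`-group and `H/T` a
`p`-group. -/
theorem MC.exists_T (h : MC p H R R₀) : ∃ T : Subgroup G, T.Normal ∧ Cfsg.pCoreOf p H ≤ T ∧ T ≤ H ∧
    ((Cfsg.pCoreOf p H).relIndex T).Coprime p ∧ ∀ x ∈ H, ∃ k : ℕ, x ^ (p ^ k) ∈ T := by
  haveI hVn := h.V_normal
  haveI hHn := h.normalH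
  obtain ⟨V, hV⟩ : ∃ V : Subgroup G, V = Cfsg.pCoreOf p H := ⟨_, rfl⟩
  rw [← hV]
  haveI hVn : V.Normal := hV ▸ h.V_normal
  have hVH : V ≤ H := hV ▸ h.V_le
  have hVp : IsPGroup p V := hV ▸ h.V_pgroup
  have hV1 : V ≠ ⊥ := hV ▸ h.V_ne_bot
  have hcent : H ⊓ centralizer (V : Set G) ≤ V := hV ▸ h.cent_le
  have hVmax : ∀ S : Subgroup G, S ≤ H → H ≤ normalizer (S : Set G) → IsPGroup p S → S ≤ V :=
    hV ▸ h.V_max
  obtain ⟨T, U, hVT, hTU, hUH, hHT, hHU, hRT, hRU, hidx, hpow, hidx2, hmax⟩ :=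
    quotient_step h.ih h.cls h.comm_eq V hVH hV1
  haveI hTn : T.Normal := h.normal_of_inv hHT hRT
  haveI hUn : U.Normal := h.normal_of_inv hHU hRU
  refine ⟨T, hTn, hVT, hTU.trans hUH, hidx, ?_⟩
  suffices hU : U = H by
    intro x hx; exact hpow x (hU ▸ hx)
  by_contra hUne
  have hlt : Nat.card U < Nat.card H := card_lt_of_lt (lt_of_le_of_ne hUH hUne)
  have C2 : Cls U R R₀ := h.cls.mono hUH le_rfl h.cls.le hRU
  have hpl := h.ih G U R R₀ C2 (by omega)
  have hNPU : NP' p U :=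
    np'_of_self_centralizing (hVT.trans hTU) (by rw [normalizer_eq_top]; exact le_top) hVp
      ((inf_le_inf_right _ hUH).trans hcent)
  obtain ⟨S, hSY, hSp, hUS, hSidx⟩ := exists_normal_sylow_of_pLengthLE_one hNPU
    (commutator_le_of_le_normalizer hRU) (le_normalizer_commutator_left U R) hpl
  have hSV : S ≤ V := by
    have hSU : S ≤ U := hSY.trans (commutator_le_of_le_normalizer hRU)
    have h1 : S ≤ Cfsg.pCoreOf p U := le_pCoreOf hSU hUS hSp
    refine h1.trans (hVmax _ ((Cfsg.Agent.Lib.Helper17.PrimeAct.pCoreOf_le p U).trans hUH)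
      (hHU.trans (Cfsg.Agent.Lib.Helper17.PrimeAct.normalizer_le_normalizer_pCoreOf p U))
      (Cfsg.Agent.Lib.Helper17.PrimeAct.pCoreOf_isPGroup p U))
  have hURT : ⁅U, R⁆ ≤ T := by
    intro y hy
    have hyU : y ∈ U := commutator_le_of_le_normalizer hRU hy
    obtain ⟨k, hk⟩ := hpow y hyU
    have h2 : y ^ S.relIndex ⁅U, R⁆ ∈ T :=
      hVT (hSV (pow_relIndex_mem_of_le_normalizer hSY
        ((commutator_le_of_le_normalizer hRU).trans hUS) hy))
    exact mem_of_pow_mem_of_coprime hk h2 (Nat.Coprime.pow_left k hSidx.symm)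
  have hHUT : ⁅H, U⁆ ≤ T := by
    have h1 : ⁅⁅H, R⁆, U⁆ ≤ T := by
      apply Cfsg.Agent.Lib.Helper22.three_subgroups_normal H R U T
      · rw [Subgroup.commutator_comm R U]
        exact (Subgroup.commutator_mono hURT le_rfl).trans (Subgroup.commutator_le_left T H)
      · exact (Subgroup.commutator_mono (Subgroup.commutator_le_left U H) le_rfl).trans
          hURT
    rwa [h.comm_eq] at h1
  -- the invariant Hall p'-subgroup
  have hp1 : p ≠ 1 := hp.out.ne_one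
  obtain ⟨a, m, hpm, hcard⟩ := Nat.exists_eq_pow_mul_and_not_dvd (Nat.card_pos (α := H)).ne' p hp1
  have hmcop : m.Coprime (p ^ a) :=
    Nat.Coprime.pow_right a ((Nat.Prime.coprime_iff_not_dvd hp.out).mpr hpm).symm
  obtain ⟨D, hDH, hDcard, hRD⟩ := Cfsg.Agent.Lib.Helper20.exists_invariant_hall R H h.cls.norm
    h.cls.cop.symm h.cls.sol m (p ^ a) (by rw [hcard, mul_comm]) hmcop
  have hUD : U ⊔ D = H := by
    apply Subgroup.eq_of_le_of_card_ge (sup_le hUH hDH)
    apply Nat.le_of_dvd Nat.card_pos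
    rw [hcard]
    apply Nat.Coprime.mul_dvd_of_dvd_of_dvd hmcop.symm
    · have h1 : p ^ a ∣ Nat.card U := by
        have h2 := card_mul_relIndex' hUH
        rw [hcard] at h2
        have h3 : p ^ a ∣ Nat.card U * U.relIndex H := by rw [h2]; exact dvd_mul_right _ _
        exact (Nat.Coprime.pow_left a (Nat.coprime_comm.mp hidx2)).dvd_of_dvd_mul_right h3
      exact h1.trans (Subgroup.card_dvd_of_le le_sup_left)
    · rw [← hDcard]; exact Subgroup.card_dvd_of_le le_sup_right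
  have hHTD : H ≤ normalizer ((T ⊔ D : Subgroup G) : Set G) := by
    rw [← hUD]
    refine sup_le ?_ (le_sup_right.trans le_normalizer)
    intro u hu
    apply mem_normalizer_of_forall_conj_mem
    intro x hx
    have h1 : (T ⊔ D).map (MulAut.conj u).toMonoidHom ≤ T ⊔ D := by
      rw [Subgroup.map_sup]
      refine sup_le ?_ ?_
      · rintro _ ⟨t, ht, rfl⟩
        exact le_sup_left (a := T) (hTn.conj_mem t ht u)
      · rintro _ ⟨d, hd, rfl⟩
        have h2 : ⁅u, d⁆ ∈ T := by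
          have : ⁅u, d⁆ ∈ ⁅U, H⁆ := Subgroup.commutator_mem_commutator hu (hDH hd)
          rw [Subgroup.commutator_comm] at this
          exact hHUT this
        have e : (MulAut.conj u).toMonoidHom d = ⁅u, d⁆ * d := by
          simp [commutatorElement_def, MulAut.conj_apply]
        rw [e]
        exact (T ⊔ D).mul_mem (le_sup_left (a := T) h2) (le_sup_right (a := T) hd)
    exact h1 ⟨x, hx, rfl⟩
  have hVTD : (V.relIndex (T ⊔ D)).Coprime p := by
    have h1 := Cfsg.Agent.Lib.Helper4.card_sup_mul_card_inf D T (by rw [normalizer_eq_top]; exact le_top)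
    have h2 := card_mul_relIndex' hVT
    have h3 := card_mul_relIndex' (hVT.trans (le_sup_left (b := D)))
    rw [sup_comm] at h1
    have hVpos : 0 < Nat.card V := Nat.card_pos
    have h4 : V.relIndex (T ⊔ D) * Nat.card ↥(D ⊓ T) = m * V.relIndex T := by
      apply Nat.eq_of_mul_eq_mul_left hVpos
      calc Nat.card V * (V.relIndex (T ⊔ D) * Nat.card ↥(D ⊓ T))
          = (Nat.card V * V.relIndex (T ⊔ D)) * Nat.card ↥(D ⊓ T) := by ring
        _ = Nat.card D * Nat.card T := by rw [h3, h1]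
        _ = Nat.card V * (m * V.relIndex T) := by rw [← h2, hDcard]; ring
    have h5 : (m * V.relIndex T).Coprime p :=
      Nat.Coprime.mul_left ((Nat.Prime.coprime_iff_not_dvd hp.out).mpr hpm).symm hidx
    rw [← h4] at h5
    exact Nat.Coprime.coprime_dvd_left (dvd_mul_right _ _) h5
  have hDT : D ≤ T :=
    le_sup_right.trans (hmax (T ⊔ D) (hVT.trans le_sup_left) (sup_le (hTU.trans hUH) hDH) hHTD hVTD)
  apply hUne
  rw [← hUD]
  exact (sup_eq_left.mpr (hDT.trans hTU)).symm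

end Cfsg.Agent.Lib.Helper1.BG36R
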