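import Mathlib
import Cfsg.Agent.Lib.Helper17.WSubMap

/-!
helper1: Glauberman's local theorem, part 1: conjugation bookkeeping, the functor `wF` attached to a
conjugation-invariant family of subgroups, Sylow subgroups of a subgroup, and the abstract
"pairs of Sylow subgroups" argument.
-/

set_option autoImplicit false
set_option linter.unusedSectionVars false
set_option linter.unusedVariables false

namespace Cfsg.Agent.Lib.Helper1.GlaubL

open Subgroup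

variable {G : Type*} [Group G]

/-- conjugate of a subgroup -/
def cj (g : G) (H : Subgroup G) : Subgroup G := H.map (MulAut.conj g).toMonoidHom

theorem mem_cj {g x : G} {H : Subgroup G} : x ∈ cj g H ↔ g⁻¹ * x * g ∈ H := by
  unfold cj
  constructor
  · rintro ⟨y, hy, rfl⟩
    have : g⁻¹ * (MulAut.conj g).toMonoidHom y * g = y := by
      simp [MulAut.conj_apply]; group
    rw [this]; exact hy
  · intro h
    refine ⟨g⁻¹ * x * g, h, ?_⟩
    simp [MulAut.conj_apply]; group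

theorem conj_mem_cj {g x : G} {H : Subgroup G} (hx : x ∈ H) : g * x * g⁻¹ ∈ cj g H := by
  rw [mem_cj]
  have : g⁻¹ * (g * x * g⁻¹) * g = x := by group
  rw [this]; exact hx

theorem cj_mono {g : G} {H K : Subgroup G} (h : H ≤ K) : cj g H ≤ cj g K := Subgroup.map_mono h

theorem cj_one (H : Subgroup G) : cj 1 H = H := by
  ext x; rw [mem_cj]; simp

theorem cj_mul (g h : G) (H : Subgroup G) : cj (g * h) H = cj g (cj h H) := by
  ext x
  rw [mem_cj, mem_cj, mem_cj]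
  have : (g * h)⁻¹ * x * (g * h) = h⁻¹ * (g⁻¹ * x * g) * h := by group
  rw [this]

theorem cj_inv_cj (g : G) (H : Subgroup G) : cj g⁻¹ (cj g H) = H := by
  rw [← cj_mul, inv_mul_cancel, cj_one]

theorem cj_cj_inv (g : G) (H : Subgroup G) : cj g (cj g⁻¹ H) = H := by
  rw [← cj_mul, mul_inv_cancel, cj_one]

theorem cj_le_iff {g : G} {H K : Subgroup G} : cj g H ≤ K ↔ H ≤ cj g⁻¹ K := by
  constructor
  · intro h
    have := cj_mono (g := g⁻¹) h
    rwa [cj_inv_cj] at this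
  · intro h
    have := cj_mono (g := g) h
    rwa [cj_cj_inv] at this

theorem cj_eq_of_mem_normalizer {g : G} {H : Subgroup G} (hg : g ∈ normalizer (H : Set G)) :
    cj g H = H := by
  ext x
  rw [mem_cj]
  have hg' : g⁻¹ ∈ normalizer (H : Set G) := Subgroup.inv_mem _ hg
  rw [Subgroup.mem_normalizer_iff] at hg'
  have := (hg' x).symm
  simpa using this

theorem mem_normalizer_of_cj_eq {g : G} {H : Subgroup G} (h : cj g H = H) :
    g ∈ normalizer (H : Set G) := by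
  rw [Subgroup.mem_normalizer_iff]
  intro x
  constructor
  · intro hx
    rw [← h]; exact conj_mem_cj hx
  · intro hx
    rw [← h, mem_cj] at hx
    have : g⁻¹ * (g * x * g⁻¹) * g = x := by group
    rwa [this] at hx

theorem card_cj [Finite G] (g : G) (H : Subgroup G) : Nat.card (cj g H) = Nat.card H :=
  Subgroup.card_map_of_injective (MulAut.conj g).injective

theorem cj_inf (g : G) (H K : Subgroup G) : cj g (H ⊓ K) = cj g H ⊓ cj g K := by
  ext x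
  simp only [mem_cj, Subgroup.mem_inf]

theorem isPGroup_cj {p : ℕ} {H : Subgroup G} (hH : IsPGroup p H) (g : G) : IsPGroup p (cj g H) :=
  hH.map _

theorem cj_of_normal {g : G} {H : Subgroup G} [hn : H.Normal] : cj g H = H := by
  apply cj_eq_of_mem_normalizer
  rw [Subgroup.normalizer_eq_top]
  exact Subgroup.mem_top g

theorem coe_smul_sylow {p : ℕ} (g : G) (P : Sylow p G) :
    ((g • P : Sylow p G) : Subgroup G) = cj g (P : Subgroup G) := rfl

/-! ### the functor attached to a family -/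

/-- the subgroup of `D` generated by the members of the family contained in `D` -/
def wF (𝔉 : Subgroup G → Prop) (D : Subgroup G) : Subgroup G := sSup {A | A ≤ D ∧ 𝔉 A}

variable {𝔉 : Subgroup G → Prop}

theorem wF_le (D : Subgroup G) : wF 𝔉 D ≤ D := sSup_le fun _ hA => hA.1

theorem le_wF {A D : Subgroup G} (hAD : A ≤ D) (hA : 𝔉 A) : A ≤ wF 𝔉 D := le_sSup ⟨hAD, hA⟩

theorem wF_mono {D E : Subgroup G} (h : D ≤ E) : wF 𝔉 D ≤ wF 𝔉 E :=
  sSup_le fun _ hA => le_wF (hA.1.trans h) hA.2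

theorem wF_le_wF_of_le {D E : Subgroup G} (h : wF 𝔉 D ≤ E) : wF 𝔉 D ≤ wF 𝔉 E :=
  sSup_le fun _ hA => le_wF ((le_wF hA.1 hA.2).trans h) hA.2

theorem wF_cj_le (h𝔉 : ∀ (g : G) (A : Subgroup G), 𝔉 A → 𝔉 (cj g A)) (g : G) (D : Subgroup G) :
    cj g (wF 𝔉 D) ≤ wF 𝔉 (cj g D) := by
  unfold wF cj
  rw [Subgroup.map_le_iff_le_comap]
  apply sSup_le
  rintro A ⟨hAD, hA⟩
  rw [← Subgroup.map_le_iff_le_comap]
  exact le_sSup ⟨Subgroup.map_mono hAD, h𝔉 g A hA⟩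

theorem wF_cj (h𝔉 : ∀ (g : G) (A : Subgroup G), 𝔉 A → 𝔉 (cj g A)) (g : G) (D : Subgroup G) :
    wF 𝔉 (cj g D) = cj g (wF 𝔉 D) := by
  apply le_antisymm _ (wF_cj_le h𝔉 g D)
  have := wF_cj_le h𝔉 g⁻¹ (cj g D)
  rw [cj_inv_cj] at this
  rw [cj_le_iff, inv_inv] at this
  exact this

theorem normalizer_le_normalizer_wF (h𝔉 : ∀ (g : G) (A : Subgroup G), 𝔉 A → 𝔉 (cj g A))
    (D : Subgroup G) : normalizer (D : Set G) ≤ normalizer (wF 𝔉 D : Set G) := by
  intro n hn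
  apply mem_normalizer_of_cj_eq
  rw [← wF_cj h𝔉, cj_eq_of_mem_normalizer hn]


/-! ### `p`-subgroups: growth of normalizers, Sylow subgroups of a subgroup -/

section PG

variable [Finite G] {p : ℕ} [hp : Fact p.Prime]

/-- a proper subgroup of a `p`-subgroup is properly contained in its normalizer there -/
theorem exists_normalizer_not_mem {P D : Subgroup G} (hP : IsPGroup p P) (hDP : D ≤ P)
    (hne : D ≠ P) : ∃ n ∈ P, n ∈ normalizer (D : Set G) ∧ n ∉ D := by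
  haveI : Finite ↥P := inferInstance
  have hnil : Group.IsNilpotent ↥P := hP.isNilpotent
  have hnc : NormalizerCondition ↥P := normalizerCondition_of_isNilpotent
  have hlt : D.subgroupOf P < ⊤ := by
    rw [lt_top_iff_ne_top]
    intro h
    rw [Subgroup.subgroupOf_eq_top] at h
    exact hne (le_antisymm hDP h)
  have h2 := hnc _ hlt
  obtain ⟨n, hn, hnD⟩ := SetLike.exists_of_lt h2
  refine ⟨n.1, n.2, ?_, ?_⟩
  · rw [Subgroup.mem_normalizer_iff]
    intro d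
    constructor
    · intro hd
      have h3 := (Subgroup.mem_normalizer_iff.mp hn ⟨d, hDP hd⟩).mp
        (by rw [Subgroup.mem_subgroupOf]; exact hd)
      rw [Subgroup.mem_subgroupOf] at h3
      simpa using h3
    · intro hd
      have hdP : d ∈ P := by
        have h4 : (n.1)⁻¹ * (n.1 * d * (n.1)⁻¹) * n.1 ∈ P :=
          P.mul_mem (P.mul_mem (P.inv_mem n.2) (hDP hd)) n.2
        have e : (n.1)⁻¹ * (n.1 * d * (n.1)⁻¹) * n.1 = d := by group
        rwa [e] at h4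
      have h3 := (Subgroup.mem_normalizer_iff.mp hn ⟨d, hdP⟩).mpr
        (by rw [Subgroup.mem_subgroupOf]; simpa using hd)
      rw [Subgroup.mem_subgroupOf] at h3
      exact h3
  · intro h
    exact hnD (by rw [Subgroup.mem_subgroupOf]; exact h)

/-- `R` is a Sylow `p`-subgroup of the subgroup `K` -/
def IsSylIn (p : ℕ) (R K : Subgroup G) : Prop :=
  R ≤ K ∧ IsPGroup p R ∧ ∀ Q : Subgroup G, Q ≤ K → IsPGroup p Q → R ≤ Q → Q = R

theorem isSylIn_map (K : Subgroup G) (R' : Sylow p ↥K) :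
    IsSylIn p ((R' : Subgroup ↥K).map K.subtype) K := by
  refine ⟨?_, R'.2.map _, ?_⟩
  · rintro _ ⟨y, -, rfl⟩; exact y.2
  · intro Q hQK hQ hRQ
    have h1 : (R' : Subgroup ↥K) ≤ Q.subgroupOf K := by
      intro y hy
      rw [Subgroup.mem_subgroupOf]
      exact hRQ ⟨y, hy, rfl⟩
    have h2 : Q.subgroupOf K = (R' : Subgroup ↥K) :=
      R'.is_maximal' (hQ.comap_subtype) h1
    apply le_antisymm _ hRQ
    intro q hq
    have : (⟨q, hQK hq⟩ : ↥K) ∈ Q.subgroupOf K := by rw [Subgroup.mem_subgroupOf]; exact hq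
    rw [h2] at this
    exact ⟨⟨q, hQK hq⟩, this, rfl⟩

theorem exists_isSylIn_ge {K X : Subgroup G} (hX : IsPGroup p X) (hXK : X ≤ K) :
    ∃ R' : Sylow p ↥K, X ≤ (R' : Subgroup ↥K).map K.subtype := by
  obtain ⟨R', hR'⟩ := (hX.comap_subtype (K := K)).exists_le_sylow
  refine ⟨R', ?_⟩
  intro x hx
  refine ⟨⟨x, hXK hx⟩, hR' ?_, rfl⟩
  rw [Subgroup.mem_comap]; exact hx

theorem map_smul_sylowIn (K : Subgroup G) (k : ↥K) (R' : Sylow p ↥K) :
    ((k • R' : Sylow p ↥K) : Subgroup ↥K).map K.subtype =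
      cj (k : G) ((R' : Subgroup ↥K).map K.subtype) := by
  ext x
  rw [mem_cj]
  constructor
  · rintro ⟨y, hy, rfl⟩
    have hy' : y ∈ cj k (R' : Subgroup ↥K) := hy
    rw [mem_cj] at hy'
    exact ⟨_, hy', by simp⟩
  · rintro ⟨y, hy, hyx⟩
    have hxK : x ∈ K := by
      have h1 : (k : G) * (y : G) * (k : G)⁻¹ ∈ K := K.mul_mem (K.mul_mem k.2 y.2) (K.inv_mem k.2)
      have e : (k : G) * (y : G) * (k : G)⁻¹ = x := by
        have : (y : G) = (k : G)⁻¹ * x * k := hyx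
        rw [this]; group
      rwa [e] at h1
    refine ⟨⟨x, hxK⟩, ?_, rfl⟩
    show (⟨x, hxK⟩ : ↥K) ∈ cj k (R' : Subgroup ↥K)
    rw [mem_cj]
    have : k⁻¹ * (⟨x, hxK⟩ : ↥K) * k = y := by
      apply Subtype.ext
      simpa using hyx.symm
    rw [this]; exact hy

/-- Sylow subgroups of `K` are conjugate under `K` -/
theorem exists_conj_sylowIn (K : Subgroup G) (R₁' R₂' : Sylow p ↥K) :
    ∃ k ∈ K, (R₂' : Subgroup ↥K).map K.subtype = cj k ((R₁' : Subgroup ↥K).map K.subtype) := by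
  obtain ⟨k, hk⟩ := MulAction.exists_smul_eq ↥K R₁' R₂'
  refine ⟨k.1, k.2, ?_⟩
  rw [← map_smul_sylowIn, hk]

/-- a Sylow subgroup contained in another one equals it -/
theorem sylow_eq_of_le {P Q : Sylow p G} (h : (P : Subgroup G) ≤ Q) : P = Q :=
  Sylow.ext (P.is_maximal' Q.2 h).symm

end PG


/-! ### the pairs argument -/

section Pairs

variable [Finite G] {p : ℕ} [hp : Fact p.Prime] {𝔉 : Subgroup G → Prop}

/-- measure of a subgroup: lexicographic in (`|wF D|`, `|D|`) -/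
noncomputable def mu (𝔉 : Subgroup G → Prop) (D : Subgroup G) : ℕ :=
  Nat.card (wF 𝔉 D) * (Nat.card G + 1) + Nat.card D

theorem card_lt_of_lt' {D D' : Subgroup G} (h : D < D') : Nat.card D < Nat.card D' := by
  by_contra hge
  push_neg at hge
  exact h.ne (Subgroup.eq_of_le_of_card_ge h.le hge)

theorem mu_lt_of_lt {D D' : Subgroup G} (h : D < D') : mu 𝔉 D < mu 𝔉 D' := by
  unfold mu
  have h1 : Nat.card (wF 𝔉 D) ≤ Nat.card (wF 𝔉 D') := Subgroup.card_le_of_le (wF_mono h.le)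
  have h2 : Nat.card D < Nat.card D' := card_lt_of_lt' h
  have h3 := Nat.mul_le_mul_right (Nat.card G + 1) h1
  omega

theorem mu_lt_of_card_lt {D D' : Subgroup G}
    (h : Nat.card (wF 𝔉 D) < Nat.card (wF 𝔉 D')) : mu 𝔉 D < mu 𝔉 D' := by
  unfold mu
  have h1 : Nat.card D ≤ Nat.card G := Subgroup.card_le_card_group D
  have h3 := Nat.mul_le_mul_right (Nat.card G + 1) (Nat.succ_le_of_lt h)
  have h4 : (Nat.card (wF 𝔉 D)).succ * (Nat.card G + 1) =
      Nat.card (wF 𝔉 D) * (Nat.card G + 1) + (Nat.card G + 1) := by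
    rw [Nat.succ_mul]
  omega

theorem pairs (ξ : Sylow p G → G) (hξ : ∀ (g : G) (P : Sylow p G), ξ (g • P) = g * ξ P * g⁻¹)
    (𝔉 : Subgroup G → Prop) (h𝔉 : ∀ (g : G) (A : Subgroup G), 𝔉 A → 𝔉 (cj g A))
    (Jf : Subgroup G → Subgroup G) (T : Subgroup G) (hTP : ∀ P : Sylow p G, T ≤ P)
    (ha : ∀ (P : Sylow p G) (K : Subgroup G), (P : Subgroup G) ≤ K → K ≠ ⊤ →
      ∀ k ∈ K, k * ξ P = ξ P * k)
    (hb : ∀ D : Subgroup G, IsPGroup p D → (∃ A, A ≤ D ∧ 𝔉 A) →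
      normalizer (wF 𝔉 D : Set G) ≠ ⊤)
    (hc : ∀ K : Subgroup G, K ≠ ⊤ → T ≤ K → ∀ R : Subgroup G, IsSylIn p R K →
      ∀ P : Sylow p G, R ≤ P → (∃ A, A ≤ R ∧ 𝔉 A) →
      (∀ n ∈ K, n ∈ normalizer (Jf R : Set G) → n * ξ P = ξ P * n) →
      ∀ k ∈ K, k * ξ P = ξ P * k)
    (hd : ∀ R : Subgroup G, IsPGroup p R → (∃ A, A ≤ R ∧ 𝔉 A) → wF 𝔉 R ≤ Jf R ∧ Jf R ≤ R) :
    ∀ P Q : Sylow p G, (∃ A, A ≤ (P : Subgroup G) ⊓ Q ∧ 𝔉 A) → ξ P = ξ Q := by
  classical
  by_contra hcon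
  push_neg at hcon
  obtain ⟨P0, Q0, hA0, hne0⟩ := hcon
  let Bad : Set (Sylow p G × Sylow p G) :=
    {b | (∃ A, A ≤ (b.1 : Subgroup G) ⊓ b.2 ∧ 𝔉 A) ∧ ξ b.1 ≠ ξ b.2}
  haveI : Nonempty Bad := ⟨⟨(P0, Q0), hA0, hne0⟩⟩
  obtain ⟨⟨⟨P, Q⟩, hPQA, hPQne⟩, hmax⟩ :=
    Finite.exists_max (fun b : Bad => mu 𝔉 ((b.1.1 : Subgroup G) ⊓ b.1.2))
  simp only at hPQA hPQne hmax
  have hgood : ∀ P' Q' : Sylow p G, (∃ A, A ≤ (P' : Subgroup G) ⊓ Q' ∧ 𝔉 A) →
      mu 𝔉 ((P : Subgroup G) ⊓ Q) < mu 𝔉 ((P' : Subgroup G) ⊓ Q') → ξ P' = ξ Q' := by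
    intro P' Q' hA hlt
    by_contra hne
    have := hmax ⟨(P', Q'), hA, hne⟩
    simp only at this
    omega
  set D : Subgroup G := (P : Subgroup G) ⊓ Q with hD
  have hDP : D ≤ P := inf_le_left
  have hDQ : D ≤ Q := inf_le_right
  have hDp : IsPGroup p D := P.2.to_le hDP
  have hPneQ : P ≠ Q := fun h => hPQne (by rw [h])
  have hDneP : D ≠ P := by
    intro h
    apply hPneQ
    apply sylow_eq_of_le
    rw [← h]; exact hDQ
  have hDneQ : D ≠ Q := by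
    intro h
    apply hPneQ
    symm
    apply sylow_eq_of_le
    rw [← h]; exact hDP
  set K : Subgroup G := normalizer (wF 𝔉 D : Set G) with hK
  have hKtop : K ≠ ⊤ := hb D hDp hPQA
  have hNDK : normalizer (D : Set G) ≤ K := normalizer_le_normalizer_wF h𝔉 D
  have hDK : D ≤ K := le_normalizer.trans hNDK
  have hTK : T ≤ K := (le_inf (hTP P) (hTP Q)).trans hDK
  set X₁ : Subgroup G := (P : Subgroup G) ⊓ normalizer (D : Set G) with hX₁
  set X₂ : Subgroup G := (Q : Subgroup G) ⊓ normalizer (D : Set G) with hX₂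
  have hX₁p : IsPGroup p X₁ := P.2.to_le inf_le_left
  have hX₂p : IsPGroup p X₂ := Q.2.to_le inf_le_left
  have hDX₁ : D < X₁ := by
    obtain ⟨n, hnP, hnN, hnD⟩ := exists_normalizer_not_mem P.2 hDP hDneP
    exact lt_of_le_of_ne (le_inf hDP le_normalizer) (fun h => hnD (h ▸ ⟨hnP, hnN⟩))
  have hDX₂ : D < X₂ := by
    obtain ⟨n, hnQ, hnN, hnD⟩ := exists_normalizer_not_mem Q.2 hDQ hDneQ
    exact lt_of_le_of_ne (le_inf hDQ le_normalizer) (fun h => hnD (h ▸ ⟨hnQ, hnN⟩))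
  obtain ⟨R₁', hR₁'⟩ := exists_isSylIn_ge hX₁p (inf_le_right.trans hNDK)
  obtain ⟨R₂', hR₂'⟩ := exists_isSylIn_ge hX₂p (inf_le_right.trans hNDK)
  set R₁ : Subgroup G := (R₁' : Subgroup ↥K).map K.subtype with hR₁
  set R₂ : Subgroup G := (R₂' : Subgroup ↥K).map K.subtype with hR₂
  have hR₁syl : IsSylIn p R₁ K := isSylIn_map K R₁'
  have hR₂syl : IsSylIn p R₂ K := isSylIn_map K R₂'
  obtain ⟨P₁, hP₁⟩ := hR₁syl.2.1.exists_le_sylow
  obtain ⟨Q₁, hQ₁⟩ := hR₂syl.2.1.exists_le_sylow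
  have e1 : ξ P = ξ P₁ := by
    apply hgood P P₁
    · obtain ⟨A, hA, hAF⟩ := hPQA
      exact ⟨A, le_inf (hA.trans hDP) (((hA.trans hDX₁.le).trans hR₁').trans hP₁), hAF⟩
    · apply mu_lt_of_lt
      exact lt_of_lt_of_le hDX₁ (le_inf inf_le_left (hR₁'.trans hP₁))
  have e2 : ξ Q = ξ Q₁ := by
    apply hgood Q Q₁
    · obtain ⟨A, hA, hAF⟩ := hPQA
      exact ⟨A, le_inf (hA.trans hDQ) (((hA.trans hDX₂.le).trans hR₂').trans hQ₁), hAF⟩
    · apply mu_lt_of_lt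
      have h1 : X₂ ≤ (Q : Subgroup G) ⊓ Q₁ := le_inf inf_le_left (hR₂'.trans hQ₁)
      have h2 : (P : Subgroup G) ⊓ Q = D := rfl
      exact lt_of_lt_of_le hDX₂ h1
  obtain ⟨k, hkK, hk⟩ := exists_conj_sylowIn K R₁' R₂'
  have hR₂k : R₂ ≤ ((k • P₁ : Sylow p G) : Subgroup G) := by
    rw [coe_smul_sylow, hR₂, hk]
    exact cj_mono hP₁
  have e3 : ξ (k • P₁) = ξ Q₁ := by
    apply hgood
    · obtain ⟨A, hA, hAF⟩ := hPQA
      have hAR₂ : A ≤ R₂ := (hA.trans hDX₂.le).trans hR₂'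
      exact ⟨A, le_inf (hAR₂.trans hR₂k) (hAR₂.trans hQ₁), hAF⟩
    · apply mu_lt_of_lt
      exact lt_of_lt_of_le hDX₂ (le_inf (hR₂'.trans hR₂k) (hR₂'.trans hQ₁))
  rw [hξ] at e3
  have hkmove : k * ξ P₁ ≠ ξ P₁ * k := by
    intro h
    apply hPQne
    have h5 : k * ξ P₁ * k⁻¹ = ξ P₁ := by rw [h]; group
    rw [e1, e2, ← e3, h5]
  have hDR₁ : D ≤ R₁ := hDX₁.le.trans hR₁'
  by_cases hW : wF 𝔉 R₁ = wF 𝔉 D
  · have hR₁P₁ : R₁ = P₁ := by
      by_contra hne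
      obtain ⟨n, hnP, hnN, hnR⟩ := exists_normalizer_not_mem P₁.2 hP₁ hne
      have hnK : n ∈ K := by
        have h6 := normalizer_le_normalizer_wF h𝔉 R₁ hnN
        rw [hW] at h6
        exact h6
      have h7 := hR₁syl.2.2 ((P₁ : Subgroup G) ⊓ K) inf_le_right (P₁.2.to_le inf_le_left)
        (le_inf hP₁ hR₁syl.1)
      apply hnR
      rw [← h7]
      exact ⟨hnP, hnK⟩
    have hP₁K : (P₁ : Subgroup G) ≤ K := by rw [← hR₁P₁]; exact hR₁syl.1
    exact hkmove (ha P₁ K hP₁K hKtop k hkK)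
  · have hWlt : Nat.card (wF 𝔉 D) < Nat.card (wF 𝔉 R₁) := by
      have hle : wF 𝔉 D ≤ wF 𝔉 R₁ := wF_mono hDR₁
      by_contra hge
      push_neg at hge
      exact hW (Subgroup.eq_of_le_of_card_ge hle hge).symm
    have hAR₁ : ∃ A, A ≤ R₁ ∧ 𝔉 A := by
      obtain ⟨A, hA, hAF⟩ := hPQA
      exact ⟨A, hA.trans hDR₁, hAF⟩
    obtain ⟨hd1, hd2⟩ := hd R₁ hR₁syl.2.1 hAR₁
    apply hkmove
    apply hc K hKtop hTK R₁ hR₁syl P₁ hP₁ hAR₁ _ k hkK
    intro n hnK hnJ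
    have hJle : Jf R₁ ≤ (P₁ : Subgroup G) ⊓ ((n • P₁ : Sylow p G) : Subgroup G) := by
      apply le_inf (hd2.trans hP₁)
      rw [coe_smul_sylow]
      calc Jf R₁ = cj n (Jf R₁) := (cj_eq_of_mem_normalizer hnJ).symm
        _ ≤ cj n P₁ := cj_mono (hd2.trans hP₁)
    have e4 : ξ P₁ = ξ (n • P₁) := by
      apply hgood
      · obtain ⟨A, hA, hAF⟩ := hAR₁
        exact ⟨A, ((le_wF hA hAF).trans hd1).trans hJle, hAF⟩
      · apply mu_lt_of_card_lt
        calc Nat.card (wF 𝔉 D) < Nat.card (wF 𝔉 R₁) := hWlt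
          _ ≤ Nat.card (wF 𝔉 ((P₁ : Subgroup G) ⊓ ((n • P₁ : Sylow p G) : Subgroup G))) :=
            Subgroup.card_le_of_le (wF_le_wF_of_le (hd1.trans hJle))
    rw [hξ] at e4
    calc n * ξ P₁ = (n * ξ P₁ * n⁻¹) * n := by group
      _ = ξ P₁ * n := by rw [← e4]

end Pairs

end Cfsg.Agent.Lib.Helper1.GlaubL
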