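import Mathlib
import Cfsg.Agent.Lib.Helper26.FSGroup
import Cfsg.Agent.Lib.Helper26.FSSatEquiv
import Cfsg.Agent.Lib.Helper26.FSNormalizer
import Cfsg.Agent.Lib.Helper26.FSSolvableConstrained
import Cfsg.Agent.Lib.Helper27.QuotCent
import Cfsg.Agent.Lib.Helper27.QdGroup1
import Cfsg.Agent.Lib.Helper12.PComplement
import Cfsg.Agent.Lib.Helper12.Cores
import Cfsg.Agent.Lib.Helper1.GlaubL1

/-!
helper1: group-level part of S1953. For a Sylow `p`-subgroup `P` of `G`, `Ctl P W` says that `N_G(W)` controls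
strong fusion in `P` (equivalently `W` is normal in the fusion system of `G` on `P`). If `Q₀` is the largest such
subgroup and `C_P(Q₀) ≤ Q₀`, then `Q₀` is centric-radical and is contained in every centric-radical subgroup.
-/

set_option autoImplicit false
set_option linter.unusedSectionVars false
set_option linter.unusedVariables false

namespace Cfsg.Agent.Lib.Helper1.SLFree

open Cfsg Cfsg.FusionSystem Cfsg.Agent.Lib.Helper26

variable {G : Type*} [Group G]

/-- `N_G(W)` controls strong fusion in `P`. -/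
def Ctl (P W : Subgroup G) : Prop :=
  ∀ A : Subgroup G, A ≤ P → ∀ g : G, A.map (MulAut.conj g).toMonoidHom ≤ P →
    ∃ h ∈ Subgroup.normalizer (W : Set G), ∃ c ∈ Subgroup.centralizer (A : Set G), g = h * c

theorem map_conj_mul_of_mem_centralizer {A : Subgroup G} {h c : G} (hc : c ∈ Subgroup.centralizer (A : Set G)) :
    A.map (MulAut.conj (h * c)).toMonoidHom = A.map (MulAut.conj h).toMonoidHom := by
  ext y
  constructor
  · rintro ⟨a, ha, rfl⟩
    refine ⟨a, ha, ?_⟩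
    show h * a * h⁻¹ = h * c * a * (h * c)⁻¹
    have h1 : c * a = a * c := (Subgroup.mem_centralizer_iff.mp hc a ha).symm
    rw [mul_inv_rev, mul_assoc h c a, h1]
    group
  · rintro ⟨a, ha, rfl⟩
    refine ⟨a, ha, ?_⟩
    show h * c * a * (h * c)⁻¹ = h * a * h⁻¹
    have h1 : c * a = a * c := (Subgroup.mem_centralizer_iff.mp hc a ha).symm
    rw [mul_inv_rev, mul_assoc h c a, h1]
    group

theorem ctl_of_isNormal [Finite G] {P W : Subgroup G} (h : (groupFusionSystem P).IsNormal W) : Ctl P W := by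
  intro A hA g hg
  have hφ : conjHom A g ∈ (groupFusionSystem P).Hom A := conjHom_mem_groupFS hA hg
  obtain ⟨ψ, ⟨hAW, hψP, k, hk⟩, hext, hmap⟩ := h.2 A (conjHom A g) hφ
  haveI : Finite ↥W := inferInstance
  have hkN : k ∈ Subgroup.normalizer (W : Set G) := by
    apply mem_normalizer_of_conj_mem_finite
    intro w hw
    have h1 : ψ ⟨w, (le_sup_right : W ≤ A ⊔ W) hw⟩ ∈ (W.subgroupOf (A ⊔ W)).map ψ :=
      ⟨⟨w, (le_sup_right : W ≤ A ⊔ W) hw⟩, Subgroup.mem_subgroupOf.mpr hw, rfl⟩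
    rw [hmap, hk] at h1
    exact h1
  refine ⟨k, hkN, k⁻¹ * g, ?_, by group⟩
  rw [Subgroup.mem_centralizer_iff]
  intro a ha
  have h1 := hext ⟨a, ha⟩
  rw [hk] at h1
  have h2 : k * a * k⁻¹ = g * a * g⁻¹ := h1
  calc a * (k⁻¹ * g) = k⁻¹ * (k * a * k⁻¹) * g := by group
    _ = k⁻¹ * (g * a * g⁻¹) * g := by rw [h2]
    _ = k⁻¹ * g * a := by group

theorem isNormal_of_ctl {P W : Subgroup G} (hW : W ≤ P) (h : Ctl P W) : (groupFusionSystem P).IsNormal W := by
  refine ⟨hW, fun A φ hφ => ?_⟩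
  obtain ⟨hA, hφP, g, hg⟩ := hφ
  have hgA : A.map (MulAut.conj g).toMonoidHom ≤ P := by
    rintro _ ⟨a, ha, rfl⟩
    have := hφP ⟨a, ha⟩
    rw [hg] at this
    exact this
  obtain ⟨k, hk, c, hc, rfl⟩ := h A hA g hgA
  rw [map_conj_mul_of_mem_centralizer hc] at hgA
  have hle : (A ⊔ W).map (MulAut.conj k).toMonoidHom ≤ P := by
    rw [Subgroup.map_sup, map_conj_of_mem_normalizer hk]
    exact sup_le hgA hW
  refine ⟨conjHom (A ⊔ W) k, conjHom_mem_groupFS (sup_le hA hW) hle, fun x => ?_,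
    conjHom_map_eq_of_mem_normalizer le_sup_right hk⟩
  rw [hg]
  show k * (x : G) * k⁻¹ = k * c * (x : G) * (k * c)⁻¹
  have h1 : c * (x : G) = (x : G) * c := (Subgroup.mem_centralizer_iff.mp hc x x.2).symm
  rw [mul_inv_rev, mul_assoc k c, h1]
  group

theorem le_normalizer_of_ctl {P W : Subgroup G} (hW : W ≤ P) (h : Ctl P W) :
    P ≤ Subgroup.normalizer (W : Set G) := by
  intro x hx
  have h1 : W.map (MulAut.conj x).toMonoidHom ≤ P := by
    rintro _ ⟨w, hw, rfl⟩
    exact P.mul_mem (P.mul_mem hx (hW hw)) (P.inv_mem hx)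
  obtain ⟨k, hk, c, hc, rfl⟩ := h W hW x h1
  exact Subgroup.mul_mem _ hk (Subgroup.centralizer_le_normalizer _ hc)

/-- index of `D` in `M D` when `M` normalizes `D` -/
theorem relIndex_sup_of_le_normalizer (M D : Subgroup G) (h : M ≤ Subgroup.normalizer (D : Set G)) :
    D.relIndex (M ⊔ D) = D.relIndex M := by
  haveI : (D.subgroupOf (M ⊔ D)).Normal := Subgroup.normal_subgroupOf_sup_of_le_normalizer h
  have h1 := Subgroup.relIndex_sup_right (H := M.subgroupOf (M ⊔ D)) (K := D.subgroupOf (M ⊔ D))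
  rw [← Subgroup.subgroupOf_sup le_sup_left le_sup_right, Subgroup.relIndex_subgroupOf le_rfl,
    Subgroup.relIndex_subgroupOf le_sup_left] at h1
  exact h1

theorem card_sup_dvd_of_le_normalizer (H K : Subgroup G) (h : H ≤ Subgroup.normalizer (K : Set G)) :
    Nat.card ↥(H ⊔ K) ∣ Nat.card ↥H * Nat.card ↥K := by
  have h1 := Subgroup.relIndex_mul_relIndex ⊥ K (H ⊔ K) bot_le le_sup_right
  rw [Subgroup.relIndex_bot_left, Subgroup.relIndex_bot_left, relIndex_sup_of_le_normalizer H K h] at h1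
  rw [← h1, mul_comm]
  exact Nat.mul_dvd_mul (Subgroup.relIndex_dvd_card K H) dvd_rfl

section main

variable [Finite G] {p : ℕ} [hpF : Fact p.Prime]

/-- a Sylow `p`-subgroup of `G` is a Sylow `p`-subgroup of every subgroup containing it -/
theorem sylowIn_of_le (P : Sylow p G) {H : Subgroup G} (hPH : (P : Subgroup G) ≤ H) :
    ∃ R : Sylow p H, (R : Subgroup H) = (P : Subgroup G).subgroupOf H := by
  rw [sylowIn_iff_card hPH]
  refine ⟨P.isPGroup', fun B _ hB => ?_⟩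
  obtain ⟨g, hg⟩ := exists_conj_le_sylow P hB
  rw [← card_map_conj B g]
  exact Subgroup.card_le_of_le hg

theorem exists_sylow_centralizer (P : Sylow p G) {Q₀ : Subgroup G} (hQ₀P : Q₀ ≤ (P : Subgroup G))
    (hPN : (P : Subgroup G) ≤ Subgroup.normalizer (Q₀ : Set G))
    (hcen : (P : Subgroup G) ⊓ Subgroup.centralizer (Q₀ : Set G) ≤ Q₀) :
    ∃ R : Sylow p ↥(Subgroup.centralizer (Q₀ : Set G)),
      (R : Subgroup ↥(Subgroup.centralizer (Q₀ : Set G))).map (Subgroup.centralizer (Q₀ : Set G)).subtype =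
        Q₀ ⊓ Subgroup.centralizer (Q₀ : Set G) := by
  have hN : ∃ R : Sylow p ↥(Subgroup.normalizer (Q₀ : Set G)),
      (R : Subgroup ↥(Subgroup.normalizer (Q₀ : Set G))) =
        (normalizerIn (P : Subgroup G) Q₀).subgroupOf (Subgroup.normalizer (Q₀ : Set G)) := by
    have h1 : normalizerIn (P : Subgroup G) Q₀ = P := le_antisymm inf_le_left (le_inf le_rfl hPN)
    rw [h1]
    exact sylowIn_of_le P hPN
  obtain ⟨R, hR⟩ := sylow_centralizer_of_sylow_normalizer P Q₀ hN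
  refine ⟨R, ?_⟩
  rw [hR, Subgroup.subgroupOf_map_subtype]
  apply le_antisymm
  · rintro x ⟨hx1, hx2⟩
    exact ⟨hcen hx1, hx2⟩
  · rintro x ⟨hx1, hx2⟩
    exact ⟨⟨hQ₀P hx1, hx2⟩, hx2⟩

/-- the largest subgroup whose normalizer controls fusion lies in every centric-radical subgroup -/
theorem le_of_cr (P : Sylow p G) {Q₀ : Subgroup G} (hQ₀P : Q₀ ≤ (P : Subgroup G))
    (hctl : Ctl (P : Subgroup G) Q₀) {R : Subgroup G} (hRP : R ≤ (P : Subgroup G))
    (hRsyl : ∃ R' : Sylow p ↥(Subgroup.centralizer (R : Set G)),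
      (R' : Subgroup ↥(Subgroup.centralizer (R : Set G))).map (Subgroup.centralizer (R : Set G)).subtype =
        R ⊓ Subgroup.centralizer (R : Set G))
    (hRrad : ∀ X : Subgroup G, X ≤ Subgroup.normalizer (R : Set G) →
      (∀ n ∈ Subgroup.normalizer (R : Set G), X.map (MulAut.conj n).toMonoidHom = X) →
      R ⊔ Subgroup.centralizer (R : Set G) ≤ X →
      (∃ k : ℕ, (R ⊔ Subgroup.centralizer (R : Set G)).relIndex X = p ^ k) →
      X = R ⊔ Subgroup.centralizer (R : Set G)) :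
    Q₀ ≤ R := by
  classical
  set NR := Subgroup.normalizer (R : Set G) with hNR
  set CR := Subgroup.centralizer (R : Set G) with hCR
  have hPN : (P : Subgroup G) ≤ Subgroup.normalizer (Q₀ : Set G) := le_normalizer_of_ctl hQ₀P hctl
  have hCN : CR ≤ NR := Subgroup.centralizer_le_normalizer _
  have hNC : NR ≤ Subgroup.normalizer (CR : Set G) := normalizer_le_normalizer_centralizer R
  set M := Q₀ ⊓ NR with hM
  have hMp : IsPGroup p M := P.isPGroup'.to_le (inf_le_left.trans hQ₀P)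
  set D := R ⊔ CR with hD
  have hND : NR ≤ Subgroup.normalizer (D : Set G) :=
    (le_inf le_rfl hNC).trans (Cfsg.Agent.Lib.Helper27.QdGroup.normalizer_inf_le_normalizer_sup R CR)
  set X := M ⊔ D with hX
  have hXN : X ≤ NR := sup_le inf_le_right (sup_le Subgroup.le_normalizer hCN)
  have hinv_le : ∀ n ∈ NR, X.map (MulAut.conj n).toMonoidHom ≤ X := by
    intro n hn
    rw [hX, Subgroup.map_sup, map_conj_of_mem_normalizer (hND hn)]
    apply sup_le _ le_sup_right
    rintro _ ⟨m, hm, rfl⟩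
    show n * m * n⁻¹ ∈ M ⊔ D
    have hRn : R.map (MulAut.conj n).toMonoidHom ≤ (P : Subgroup G) := by
      rw [map_conj_of_mem_normalizer hn]; exact hRP
    obtain ⟨h, hh, c, hc, rfl⟩ := hctl R hRP n hRn
    have hcN : c ∈ NR := hCN hc
    have hhN : h ∈ NR := by
      have e : h = (h * c) * c⁻¹ := by group
      rw [e]; exact NR.mul_mem hn (NR.inv_mem hcN)
    have hmN : m ∈ NR := hm.2
    have hz : m⁻¹ * c * m * c⁻¹ ∈ CR := by
      have h1 : m⁻¹ * c * m⁻¹⁻¹ ∈ CR :=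
        (Subgroup.mem_normalizer_iff.mp (hNC (NR.inv_mem hmN)) c).mp hc
      rw [inv_inv] at h1
      exact CR.mul_mem h1 (CR.inv_mem hc)
    have e : h * c * m * (h * c)⁻¹ = (h * m * h⁻¹) * (h * (m⁻¹ * c * m * c⁻¹) * h⁻¹) := by group
    rw [e]
    apply Subgroup.mul_mem
    · apply Subgroup.mem_sup_left
      exact ⟨(Subgroup.mem_normalizer_iff.mp hh m).mp hm.1, NR.mul_mem (NR.mul_mem hhN hmN) (NR.inv_mem hhN)⟩
    · apply Subgroup.mem_sup_right
      apply Subgroup.mem_sup_right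
      exact (Subgroup.mem_normalizer_iff.mp (hNC hhN) _).mp hz
  have hinv : ∀ n ∈ NR, X.map (MulAut.conj n).toMonoidHom = X := by
    intro n hn
    apply Subgroup.eq_of_le_of_card_ge (hinv_le n hn)
    rw [card_map_conj]
  have hidx : ∃ k : ℕ, D.relIndex X = p ^ k := by
    rw [hX, relIndex_sup_of_le_normalizer M D (inf_le_right.trans hND)]
    obtain ⟨j, hj⟩ := hMp.exists_card_eq
    have hdvd : D.relIndex M ∣ p ^ j := hj ▸ Subgroup.relIndex_dvd_card D M
    obtain ⟨k, -, hk⟩ := (Nat.dvd_prime_pow hpF.out).mp hdvd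
    exact ⟨k, hk⟩
  have hXD : X = D := hRrad X hXN hinv le_sup_right hidx
  have hMD : M ≤ D := by rw [← hXD]; exact le_sup_left
  have hPC : (P : Subgroup G) ⊓ CR ≤ R := by
    obtain ⟨R', hR'⟩ := hRsyl
    have hZ : R ⊓ CR ≤ CR := inf_le_right
    have hS : ∃ R'' : Sylow p ↥CR, (R'' : Subgroup ↥CR) = (R ⊓ CR).subgroupOf CR := by
      refine ⟨R', ?_⟩
      rw [← hR']
      exact (Subgroup.comap_map_eq_self_of_injective CR.subtype_injective _).symm
    have hcard := ((sylowIn_iff_card hZ).mp hS).2 ((P : Subgroup G) ⊓ CR) inf_le_right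
      (P.isPGroup'.to_le inf_le_left)
    have hle : R ⊓ CR ≤ (P : Subgroup G) ⊓ CR := inf_le_inf_right _ hRP
    have h1 := Subgroup.eq_of_le_of_card_ge hle hcard
    rw [← h1]; exact inf_le_left
  have hMR : M ≤ R := by
    intro m hm
    obtain ⟨r, hr, c, hc, rfl⟩ := exists_mul_of_mem_sup_left (Q := R) (A := CR) hCN (hMD hm)
    have hcP : c ∈ (P : Subgroup G) := by
      have h1 : r * c ∈ (P : Subgroup G) := hQ₀P hm.1
      have e : c = r⁻¹ * (r * c) := by group
      rw [e]; exact Subgroup.mul_mem _ (Subgroup.inv_mem _ (hRP hr)) h1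
    exact R.mul_mem hr (hPC ⟨hcP, hc⟩)
  by_contra hcon
  have hRle : R ≤ Q₀ ⊔ R := le_sup_right
  have hne : R ≠ Q₀ ⊔ R := by
    intro h
    apply hcon
    have h2 : Q₀ ≤ Q₀ ⊔ R := le_sup_left
    rwa [← h] at h2
  have hQRp : IsPGroup p ↥(Q₀ ⊔ R) := P.isPGroup'.to_le (sup_le hQ₀P hRP)
  obtain ⟨n, hn, hnN, hnR⟩ := Cfsg.Agent.Lib.Helper1.GlaubL.exists_normalizer_not_mem hQRp hRle hne
  obtain ⟨q, hq, r, hr, rfl⟩ := exists_mul_of_mem_sup_left (Q := Q₀) (A := R) (hRP.trans hPN) hn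
  apply hnR
  apply R.mul_mem _ hr
  apply hMR
  refine ⟨hq, ?_⟩
  have e : q = (q * r) * r⁻¹ := by group
  rw [e]
  exact NR.mul_mem hnN (NR.inv_mem (Subgroup.le_normalizer hr))

/-- the largest subgroup whose normalizer controls fusion is radical once it is centric -/
theorem radical_of_max (P : Sylow p G) {Q₀ : Subgroup G} (hQ₀P : Q₀ ≤ (P : Subgroup G))
    (hctl : Ctl (P : Subgroup G) Q₀)
    (hcen : (P : Subgroup G) ⊓ Subgroup.centralizer (Q₀ : Set G) ≤ Q₀)
    (hmax : ∀ T : Subgroup G, T ≤ (P : Subgroup G) → Ctl (P : Subgroup G) T → T ≤ Q₀)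
    (X : Subgroup G) (hXN : X ≤ Subgroup.normalizer (Q₀ : Set G))
    (hXinv : ∀ n ∈ Subgroup.normalizer (Q₀ : Set G), X.map (MulAut.conj n).toMonoidHom = X)
    (hDX : Q₀ ⊔ Subgroup.centralizer (Q₀ : Set G) ≤ X)
    (hidx : ∃ k : ℕ, (Q₀ ⊔ Subgroup.centralizer (Q₀ : Set G)).relIndex X = p ^ k) :
    X = Q₀ ⊔ Subgroup.centralizer (Q₀ : Set G) := by
  classical
  set N := Subgroup.normalizer (Q₀ : Set G) with hN
  set C := Subgroup.centralizer (Q₀ : Set G) with hC
  set D := Q₀ ⊔ C with hD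
  have hPN : (P : Subgroup G) ≤ N := le_normalizer_of_ctl hQ₀P hctl
  set T := (P : Subgroup G) ⊓ X with hT
  have hTP : T ≤ (P : Subgroup G) := inf_le_left
  have hQ₀T : Q₀ ≤ T := le_inf hQ₀P (le_sup_left.trans hDX)
  have hXconj : ∀ n ∈ N, ∀ x ∈ X, n * x * n⁻¹ ∈ X := by
    intro n hn x hx
    have h1 := conj_mem_map_conj (g := n) hx
    rwa [hXinv n hn] at h1
  have hTidx : ¬ p ∣ T.relIndex X :=
    Cfsg.Agent.Lib.Helper12.sylow_inf_relIndex P N X hPN hXN hXconj
  have hXTD : X ≤ T ⊔ D := by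
    have h1 : (T ⊔ D).relIndex X ∣ T.relIndex X := Subgroup.relIndex_dvd_of_le_left X le_sup_left
    have h2 : (T ⊔ D).relIndex X ∣ D.relIndex X := Subgroup.relIndex_dvd_of_le_left X le_sup_right
    obtain ⟨k, hk⟩ := hidx
    rw [hk] at h2
    obtain ⟨j, -, hj⟩ := (Nat.dvd_prime_pow hpF.out).mp h2
    have hj0 : j = 0 := by
      by_contra hj0
      apply hTidx
      refine dvd_trans ?_ h1
      rw [hj]
      exact dvd_pow_self p hj0
    rw [hj0, pow_zero] at hj
    exact Subgroup.relIndex_eq_one.mp hj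
  -- the `p'`-core of the normalizer
  haveI hKn := Cfsg.Agent.Lib.Helper24.pPrimeCore_normal' (G := ↥N) p
  set K : Subgroup G := (pPrimeCore p ↥N).map N.subtype with hK
  have hKN : K ≤ N := Subgroup.map_subtype_le _
  have hKcop : (Nat.card K).Coprime p := by
    rw [hK, Subgroup.card_map_of_injective N.subtype_injective]
    exact Cfsg.Agent.Lib.Helper12.pPrimeCore_coprime p
  have hKconj : ∀ n ∈ N, ∀ k ∈ K, n * k * n⁻¹ ∈ K := by
    rintro n hn _ ⟨k', hk', rfl⟩
    exact ⟨⟨n, hn⟩ * k' * ⟨n, hn⟩⁻¹, hKn.conj_mem k' hk' ⟨n, hn⟩, rfl⟩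
  have hKnorm : N ≤ Subgroup.normalizer (K : Set G) := by
    intro n hn
    exact mem_normalizer_of_conj_mem_finite (hKconj n hn)
  have hCQK : C ≤ Q₀ ⊔ K := by
    set A : Subgroup ↥N := Q₀.subgroupOf N with hA
    haveI hAn : A.Normal := Subgroup.normal_in_normalizer
    have hAp : IsPGroup p A := (P.isPGroup'.to_le hQ₀P).comap_subtype
    obtain ⟨R, hR⟩ := sylowIn_of_le P hPN
    have hTA : (R : Subgroup ↥N) ⊓ Subgroup.centralizer (A : Set ↥N) ≤ A := by
      rintro x ⟨hxR, hxC⟩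
      have hxR : x ∈ (R : Subgroup ↥N) := hxR
      rw [hR, Subgroup.mem_subgroupOf] at hxR
      rw [hA, Subgroup.mem_subgroupOf]
      apply hcen
      refine ⟨hxR, ?_⟩
      show (x : G) ∈ Subgroup.centralizer (Q₀ : Set G)
      rw [Subgroup.mem_centralizer_iff]
      intro q hq
      have h1 := Subgroup.mem_centralizer_iff.mp hxC ⟨q, Subgroup.le_normalizer hq⟩ hq
      exact congrArg Subtype.val h1
    have hle := Cfsg.Agent.Lib.Helper27.QuotCent.centralizer_le_sup A hAp R hTA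
    intro c hc
    have hcN : c ∈ N := Subgroup.centralizer_le_normalizer _ hc
    have hcC : (⟨c, hcN⟩ : ↥N) ∈ Subgroup.centralizer (A : Set ↥N) := by
      rw [Subgroup.mem_centralizer_iff]
      intro a ha
      apply Subtype.ext
      exact Subgroup.mem_centralizer_iff.mp hc (a : G) ha
    have h2 : c ∈ (A ⊔ pPrimeCore p ↥N).map N.subtype := ⟨⟨c, hcN⟩, hle hcC, rfl⟩
    rw [Subgroup.map_sup, hA, Subgroup.subgroupOf_map_subtype] at h2
    exact (sup_le_sup_right (inf_le_left : Q₀ ⊓ N ≤ Q₀) K) h2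
  have hXTK : X ≤ T ⊔ K := by
    refine hXTD.trans (sup_le le_sup_left (sup_le (hQ₀T.trans le_sup_left) (hCQK.trans ?_)))
    exact sup_le (hQ₀T.trans le_sup_left) le_sup_right
  have hTnormP : ∀ x ∈ (P : Subgroup G), ∀ t ∈ T, x * t * x⁻¹ ∈ T := by
    intro x hx t ht
    exact ⟨Subgroup.mul_mem _ (Subgroup.mul_mem _ hx ht.1) (Subgroup.inv_mem _ hx),
      hXconj x (hPN hx) t ht.2⟩
  have hTctl : Ctl (P : Subgroup G) T := by
    intro A hA g hg
    obtain ⟨n, hn, c, hc, rfl⟩ := hctl A hA g hg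
    rw [map_conj_mul_of_mem_centralizer hc] at hg
    set B := A.map (MulAut.conj n).toMonoidHom with hB
    set BT := B ⊔ T with hBT
    have hBTP : BT ≤ (P : Subgroup G) := sup_le hg hTP
    have hBTp : IsPGroup p BT := P.isPGroup'.to_le hBTP
    have hBTK : BT ≤ Subgroup.normalizer (K : Set G) := (hBTP.trans hPN).trans hKnorm
    set Y := BT ⊔ K with hY
    have hSyl : ∃ R : Sylow p Y, (R : Subgroup Y) = BT.subgroupOf Y := by
      rw [sylowIn_iff_card (le_sup_left : BT ≤ Y)]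
      refine ⟨hBTp, fun B' hB'Y hB' => ?_⟩
      have h1 : Nat.card B' ∣ Nat.card Y := Subgroup.card_dvd_of_le hB'Y
      have h2 : Nat.card Y ∣ Nat.card BT * Nat.card K := card_sup_dvd_of_le_normalizer BT K hBTK
      obtain ⟨j, hj⟩ := hB'.exists_card_eq
      have h3 : (Nat.card B').Coprime (Nat.card K) := by
        rw [hj]; exact Nat.Coprime.pow_left j hKcop.symm
      exact Nat.le_of_dvd Nat.card_pos ((h3.dvd_mul_right).mp (h1.trans h2))
    have hTn : T.map (MulAut.conj n).toMonoidHom ≤ X := by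
      rw [← hXinv n hn]; exact map_conj_mono inf_le_right n
    set W := B ⊔ T.map (MulAut.conj n).toMonoidHom with hW
    have hWY : W ≤ Y :=
      sup_le (le_sup_left.trans le_sup_left)
        (hTn.trans (hXTK.trans (sup_le (le_sup_right.trans le_sup_left) le_sup_right)))
    have hWp : IsPGroup p ↥W := by
      rw [hW, hB, ← Subgroup.map_sup]
      exact isPGroup_map_conj (P.isPGroup'.to_le (sup_le hA hTP)) n
    obtain ⟨y, hyY, hy⟩ := exists_conj_le_of_sylowIn hSyl hWY hWp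
    have hyinv : y⁻¹ ∈ K ⊔ BT := by rw [sup_comm]; exact Y.inv_mem hyY
    obtain ⟨k', hk', b', hb', hy'⟩ := exists_mul_of_mem_sup_left (Q := K) (A := BT) hBTK hyinv
    -- `k = k'⁻¹` conjugates `W` into `BT`
    have hkW : ∀ w ∈ W, k'⁻¹ * w * k' ∈ BT := by
      intro w hw
      have h1 : y * w * y⁻¹ ∈ BT := hy (conj_mem_map_conj (g := y) hw)
      have e : k'⁻¹ * w * k' = b' * (y * w * y⁻¹) * b'⁻¹ := by
        have hyy : y = b'⁻¹ * k'⁻¹ := by
          have : y = (y⁻¹)⁻¹ := (inv_inv y).symm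
          rw [this, hy']; group
        rw [hyy]; group
      rw [e]
      exact BT.mul_mem (BT.mul_mem hb' h1) (BT.inv_mem hb')
    have hk'N : k' ∈ N := hKN hk'
    -- `k'` centralizes `B`
    have hkB : ∀ x ∈ B, k'⁻¹ * x * k' = x := by
      intro x hx
      have h1 : k'⁻¹ * x * k' ∈ BT := hkW x (Subgroup.mem_sup_left hx)
      have h2 : k'⁻¹ * x * k' * x⁻¹ ∈ BT := BT.mul_mem h1 (BT.inv_mem (Subgroup.mem_sup_left hx))
      have hxN : x ∈ N := hPN (hg hx)
      have h3 : k'⁻¹ * x * k' * x⁻¹ ∈ K := by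
        have e : k'⁻¹ * x * k' * x⁻¹ = k'⁻¹ * (x * k' * x⁻¹) := by group
        rw [e]
        exact K.mul_mem (K.inv_mem hk') (hKconj x hxN k' hk')
      have h4 := Cfsg.Agent.Lib.Helper27.QuotCent.inf_eq_bot_of_coprime hBTp hKcop h2 h3
      calc k'⁻¹ * x * k' = (k'⁻¹ * x * k' * x⁻¹) * x := by group
        _ = x := by rw [h4, one_mul]
    -- `h = k'⁻¹ n` normalizes `T`
    have hhT : k'⁻¹ * n ∈ Subgroup.normalizer (T : Set G) := by
      apply mem_normalizer_of_conj_mem_finite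
      intro t ht
      have h1 : n * t * n⁻¹ ∈ W := Subgroup.mem_sup_right (conj_mem_map_conj (g := n) ht)
      have h2 := hkW _ h1
      have h3 : n * t * n⁻¹ ∈ X := hTn (conj_mem_map_conj (g := n) ht)
      have h4 : k'⁻¹ * (n * t * n⁻¹) * k'⁻¹⁻¹ ∈ X := hXconj k'⁻¹ (N.inv_mem hk'N) _ h3
      rw [inv_inv] at h4
      have e : k'⁻¹ * n * t * (k'⁻¹ * n)⁻¹ = k'⁻¹ * (n * t * n⁻¹) * k' := by group
      rw [e]
      exact ⟨hBTP h2, h4⟩
    refine ⟨k'⁻¹ * n, hhT, n⁻¹ * k' * n * c, ?_, by group⟩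
    apply Subgroup.mul_mem _ _ hc
    rw [Subgroup.mem_centralizer_iff]
    intro a ha
    have h1 := hkB (n * a * n⁻¹) (conj_mem_map_conj (g := n) ha)
    -- k'⁻¹ (n a n⁻¹) k' = n a n⁻¹
    have h2 : (n * a * n⁻¹) * k' = k' * (n * a * n⁻¹) := by
      calc (n * a * n⁻¹) * k' = k' * (k'⁻¹ * (n * a * n⁻¹) * k') := by group
        _ = k' * (n * a * n⁻¹) := by rw [h1]
    calc a * (n⁻¹ * k' * n) = n⁻¹ * ((n * a * n⁻¹) * k') * n := by group
      _ = n⁻¹ * (k' * (n * a * n⁻¹)) * n := by rw [h2]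
      _ = n⁻¹ * k' * n * a := by group
  have hTQ : T ≤ Q₀ := hmax T hTP hTctl
  apply le_antisymm _ hDX
  exact hXTD.trans (sup_le (hTQ.trans le_sup_left) le_rfl)

end main

end Cfsg.Agent.Lib.Helper1.SLFree
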