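import Mathlib
import Cfsg.Agent.Lib.Helper1.BG36R3
import Cfsg.Agent.Lib.Helper1.Transport
import Cfsg.Agent.Lib.Helper1.Basic

/-!
# BG Theorem 3.6 (S1444), reduction part (helper1), file 4: steps 8–9 (the splitting
`H = V ⋊ L`, `L = K P₀`)
-/

set_option autoImplicit false
set_option linter.unusedSectionVars false
set_option linter.style.haveILetI false
set_option linter.unusedVariables false

namespace Cfsg.Agent.Lib.Helper1.BG36R

open Cfsg Subgroup Pointwise
open Cfsg.Agent.Lib.Helper8 (IsSylIn)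
open scoped commutatorElement

universe u

/-- The configuration after step 9. -/
structure Cfg (p : ℕ) [Fact p.Prime] {G : Type u} [Group G] [Finite G]
    (H R R₀ V K L P₀ : Subgroup G) : Prop where
  mc : MC p H R R₀
  hV : V = Cfsg.pCoreOf p H
  KH : K ≤ H
  Kcop : (Nat.card K).Coprime p
  RK : R ≤ normalizer (K : Set G)
  Tn : (V ⊔ K).Normal
  hpow : ∀ x ∈ H, ∃ k : ℕ, x ^ (p ^ k) ∈ V ⊔ K
  VK : V ⊓ centralizer (K : Set G) = ⊥
  hL : L = H ⊓ normalizer (K : Set G)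
  HVL : ∀ x ∈ H, ∃ v ∈ V, ∃ l ∈ L, x = v * l
  VL : V ⊓ L = ⊥
  syl : IsSylIn p P₀ L
  RP : R ≤ normalizer (P₀ : Set G)
  LKP : L = K ⊔ P₀
  P1 : P₀ ≠ ⊥
  PK : P₀ ⊓ centralizer (K : Set G) = ⊥

variable {p : ℕ} [hp : Fact p.Prime] {G : Type u} [Group G] [Finite G] {H R R₀ : Subgroup G}

theorem le_centralizer_sup {x : G} {A B : Subgroup G} (hA : x ∈ centralizer (A : Set G))
    (hB : x ∈ centralizer (B : Set G)) : x ∈ centralizer ((A ⊔ B : Subgroup G) : Set G) := by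
  have h1 : A ⊔ B ≤ centralizer ({x} : Set G) := by
    refine sup_le ?_ ?_
    · intro a ha
      rw [mem_centralizer_iff]
      intro y hy
      rw [Set.mem_singleton_iff] at hy
      rw [hy]; exact (mem_centralizer_iff.mp hA a ha).symm
    · intro a ha
      rw [mem_centralizer_iff]
      intro y hy
      rw [Set.mem_singleton_iff] at hy
      rw [hy]; exact (mem_centralizer_iff.mp hB a ha).symm
  rw [mem_centralizer_iff]
  intro t ht
  exact (mem_centralizer_iff.mp (h1 ht) x rfl).symm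

/-- Step 8. -/
theorem MC.exists_K (h : MC p H R R₀) : ∃ K : Subgroup G, K ≤ H ∧ (Nat.card K).Coprime p ∧
    R ≤ normalizer (K : Set G) ∧ (Cfsg.pCoreOf p H ⊔ K).Normal ∧
    (∀ x ∈ H, ∃ k : ℕ, x ^ (p ^ k) ∈ Cfsg.pCoreOf p H ⊔ K) ∧
    Cfsg.pCoreOf p H ⊓ centralizer (K : Set G) = ⊥ ∧
    ((Cfsg.pCoreOf p H).relIndex (Cfsg.pCoreOf p H ⊔ K)).Coprime p ∧
    ∃ a : ℕ, Nat.card H = p ^ a * Nat.card K := by
  haveI hHn := h.normalH
  obtain ⟨V, hV⟩ : ∃ V : Subgroup G, V = Cfsg.pCoreOf p H := ⟨_, rfl⟩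
  rw [← hV]
  haveI hVn : V.Normal := hV ▸ h.V_normal
  have hVH : V ≤ H := hV ▸ h.V_le
  have hVp : IsPGroup p V := hV ▸ h.V_pgroup
  have hV1 : V ≠ ⊥ := hV ▸ h.V_ne_bot
  have hcent : H ⊓ centralizer (V : Set G) ≤ V := hV ▸ h.cent_le
  have hVmax : ∀ S : Subgroup G, S ≤ H → H ≤ normalizer (S : Set G) → IsPGroup p S → S ≤ V :=
    hV ▸ h.V_max
  have hVcomm : ∀ x ∈ V, ∀ y ∈ V, x * y = y * x := hV ▸ h.V_comm
  have hHV : H ≤ normalizer (V : Set G) := by rw [normalizer_eq_top]; exact le_top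
  obtain ⟨T, hTn, hVT, hTH, hidx, hpow⟩ := h.exists_T
  rw [← hV] at hVT hidx
  have hp1 : p ≠ 1 := hp.out.ne_one
  obtain ⟨a, m, hpm, hcard⟩ := Nat.exists_eq_pow_mul_and_not_dvd (Nat.card_pos (α := H)).ne' p hp1
  have hmp : m.Coprime p := ((Nat.Prime.coprime_iff_not_dvd hp.out).mpr hpm).symm
  have hmcop : m.Coprime (p ^ a) := Nat.Coprime.pow_right a hmp
  obtain ⟨K, hKH, hKcard, hRK⟩ := Cfsg.Agent.Lib.Helper20.exists_invariant_hall R H h.cls.norm
    h.cls.cop.symm h.cls.sol m (p ^ a) (by rw [hcard, mul_comm]) hmcop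
  have hKp : (Nat.card K).Coprime p := by rw [hKcard]; exact hmp
  have hKT : K ≤ T := by
    intro d hd
    obtain ⟨k, hk⟩ := hpow d (hKH hd)
    have h2 : d ^ Nat.card K ∈ T := by
      have : d ^ Nat.card K = 1 := by
        have := pow_card_eq_one' (G := K) (x := ⟨d, hd⟩)
        exact congrArg Subtype.val this
      rw [this]; exact T.one_mem
    exact mem_of_pow_mem_of_coprime hk h2 (Nat.Coprime.pow_left k hKp.symm)
  obtain ⟨b, hb⟩ := IsPGroup.iff_card.mp hVp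
  have hVKbot : V ⊓ K = ⊥ := inf_eq_bot_of_coprime (by rw [hb]; exact Nat.Coprime.pow_left b hKp.symm)
  have hT : T = V ⊔ K := by
    symm
    apply Subgroup.eq_of_le_of_card_ge (sup_le hVT hKT)
    have h1 := Cfsg.Agent.Lib.Helper4.card_sup_mul_card_inf K V (by rw [normalizer_eq_top]; exact le_top)
    rw [inf_comm, hVKbot, Subgroup.card_bot, mul_one, sup_comm] at h1
    rw [h1, ← card_mul_relIndex' hVT, mul_comm]
    apply Nat.mul_le_mul_right
    rw [hKcard]
    apply Nat.le_of_dvd (Nat.pos_of_ne_zero (fun h0 => by rw [h0] at hpm; exact hpm (dvd_zero p)))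
    have h2 : V.relIndex T ∣ Nat.card H :=
      (Dvd.intro_left _ (card_mul_relIndex' hVT)).trans (Subgroup.card_dvd_of_le hTH)
    rw [hcard] at h2
    exact (Nat.Coprime.pow_right a hidx).dvd_of_dvd_mul_left h2
  refine ⟨K, hKH, hKp, hRK, hT ▸ hTn, hT ▸ hpow, ?_, hT ▸ hidx, ⟨a, by rw [hKcard]; exact hcard⟩⟩
  -- `C_V(K) = 1`
  obtain ⟨N, hN⟩ : ∃ N : Subgroup G, N = V ⊓ centralizer (T : Set G) := ⟨_, rfl⟩
  have hNV : N ≤ V := hN ▸ inf_le_left
  have hNC : N ≤ centralizer (T : Set G) := hN ▸ inf_le_right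
  have hTtop : (⊤ : Subgroup G) ≤ normalizer (T : Set G) := by rw [normalizer_eq_top]
  haveI hNn : N.Normal := by
    rw [← normalizer_eq_top_iff, eq_top_iff, hN]
    exact le_normalizer_inf (by rw [normalizer_eq_top]) (le_normalizer_centralizer hTtop)
  have hN1 : N = ⊥ := by
    by_contra hN1
    obtain ⟨T₂, U₂, hNT, hTU, hUH, hHT, hHU, hRT, hRU, hidx1, hpow2, hidx2, hmax⟩ :=
      quotient_step h.ih h.cls h.comm_eq N (hNV.trans hVH) hN1
    apply h.bad'
    refine pLengthLE_one_of_normal_sylow hVH hHV hVp ?_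
    refine coprime_relIndex_of_chain hVH hHV hVp hVmax hNV
      (by rw [normalizer_eq_top]; exact le_top) hNT hTU hUH hHT hHU hidx1 hpow2 hidx2 ?_
    intro T₀ hT₀H hT₀ hcomm
    have hT₀T : T₀ ≤ T := by
      intro d hd
      obtain ⟨k, hk⟩ := hpow d (hT₀H hd)
      have h2 : d ^ Nat.card T₀ ∈ T := by
        have : d ^ Nat.card T₀ = 1 := by
          have := pow_card_eq_one' (G := T₀) (x := ⟨d, hd⟩)
          exact congrArg Subtype.val this
        rw [this]; exact T.one_mem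
      exact mem_of_pow_mem_of_coprime hk h2 (Nat.Coprime.pow_left k hT₀.symm)
    have hcopT₀ : (Nat.card T₀).Coprime (Nat.card V) := by
      rw [hb]; exact Nat.Coprime.pow_right b hT₀
    have h3 : ⁅⁅V, T₀⁆, T₀⁆ = ⁅V, T₀⁆ :=
      Cfsg.Agent.S0027.result T₀ V (by rw [normalizer_eq_top]; exact le_top) hcopT₀
        (Or.inr (isSolvable_of_le hVH h.cls.sol))
    have h4 : ⁅⁅V, T₀⁆, T₀⁆ = ⊥ := by
      rw [eq_bot_iff]
      refine (Subgroup.commutator_mono hcomm le_rfl).trans ?_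
      rw [commutator_eq_bot_of_le_centralizer
        (hNC.trans (Subgroup.centralizer_le (SetLike.coe_subset_coe.mpr hT₀T)))]
    rw [h3] at h4
    have h5 : T₀ ≤ H ⊓ centralizer (V : Set G) :=
      le_inf hT₀H (Subgroup.le_centralizer_iff.mp (le_centralizer_of_commutator_eq_bot h4))
    exact eq_bot_of_isPGroup_of_coprime (hVp.to_le (h5.trans hcent)) hT₀
  rw [eq_bot_iff, ← hN1, hN]
  intro x hx
  refine ⟨hx.1, ?_⟩
  rw [hT]
  refine le_centralizer_sup ?_ hx.2
  rw [mem_centralizer_iff]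
  intro y hy
  exact hVcomm y hy x hx.1


theorem pow_card_subgroup_eq_one {A : Subgroup G} {d : G} (hd : d ∈ A) : d ^ Nat.card A = 1 := by
  have := pow_card_eq_one' (G := A) (x := ⟨d, hd⟩)
  exact congrArg Subtype.val this

/-- Step 9. -/
theorem MC.exists_cfg (h : MC p H R R₀) : ∃ V K L P₀ : Subgroup G, Cfg p H R R₀ V K L P₀ := by
  haveI hHn := h.normalH
  obtain ⟨V, hV⟩ : ∃ V : Subgroup G, V = Cfsg.pCoreOf p H := ⟨_, rfl⟩
  haveI hVn : V.Normal := hV ▸ h.V_normal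
  have hVH : V ≤ H := hV ▸ h.V_le
  have hVp : IsPGroup p V := hV ▸ h.V_pgroup
  have hcent : H ⊓ centralizer (V : Set G) ≤ V := hV ▸ h.cent_le
  have hVmax : ∀ S : Subgroup G, S ≤ H → H ≤ normalizer (S : Set G) → IsPGroup p S → S ≤ V :=
    hV ▸ h.V_max
  have hHV : H ≤ normalizer (V : Set G) := by rw [normalizer_eq_top]; exact le_top
  obtain ⟨K, hKH, hKp, hRK, hTn, hpow, hVK, hidx, a, hcardHK⟩ := h.exists_K
  rw [← hV] at hTn hpow hVK hidx
  obtain ⟨b, hb⟩ := IsPGroup.iff_card.mp hVp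
  have hVKcop : (Nat.card V).Coprime (Nat.card K) := by
    rw [hb]; exact Nat.Coprime.pow_left b hKp.symm
  have hVKbot : V ⊓ K = ⊥ := inf_eq_bot_of_coprime hVKcop
  have hKV : K ≤ normalizer (V : Set G) := by rw [normalizer_eq_top]; exact le_top
  obtain ⟨L, hL⟩ : ∃ L : Subgroup G, L = H ⊓ normalizer (K : Set G) := ⟨_, rfl⟩
  have hLH : L ≤ H := hL ▸ inf_le_left
  have hLK : L ≤ normalizer (K : Set G) := hL ▸ inf_le_right
  have hKL : K ≤ L := hL ▸ le_inf hKH le_normalizer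
  -- Frattini argument
  have hcomplK : IsComplIn V K (V ⊔ K) := isComplIn_sup hKV (disjoint_iff.mpr hVKbot)
  have hHVL : ∀ x ∈ H, ∃ v ∈ V, ∃ l ∈ L, x = v * l := by
    intro x hx
    have hcomplK' : IsComplIn V (MulAut.conj x • K) (V ⊔ K) := by
      have h1 : V ⊔ MulAut.conj x • K = V ⊔ K := by
        have h2 : MulAut.conj x • (V ⊔ K) = V ⊔ K := Subgroup.Normal.conj_smul_eq_self x (V ⊔ K)
        rw [Subgroup.smul_sup, Subgroup.Normal.conj_smul_eq_self x V] at h2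
        exact h2
      rw [← h1]
      refine isComplIn_sup (by rw [normalizer_eq_top]; exact le_top) ?_
      apply Subgroup.disjoint_of_coprime_natCard
      rw [card_conj_smul]; exact hVKcop
    obtain ⟨v, hv, hvK⟩ := internal_sz_conj (sup_le_normalizer hKV) hcomplK hcomplK' hVKcop
      (Or.inl (isSolvable_of_le hVH h.cls.sol))
    -- conj v • conj x • K = K
    have hvx : v * x ∈ normalizer (K : Set G) := by
      apply mem_normalizer_of_forall_conj_mem
      intro k hk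
      rw [← hvK, mem_conj_smul_iff, mem_conj_smul_iff]
      have e : x⁻¹ * (v⁻¹ * (v * x * k * (v * x)⁻¹) * v) * x = k := by group
      rw [e]; exact hk
    refine ⟨v⁻¹, V.inv_mem hv, v * x, ?_, by group⟩
    rw [hL]
    exact ⟨H.mul_mem (hVH hv) hx, hvx⟩
  have hVL : V ⊓ L = ⊥ := by
    rw [eq_bot_iff, ← hVK]
    intro x hx
    refine ⟨hx.1, ?_⟩
    show x ∈ centralizer (K : Set G)
    rw [mem_centralizer_iff]
    intro k hk
    have h1 : ⁅x, k⁆ ∈ V ⊓ K := by
      refine ⟨?_, ?_⟩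
      · have : k * x⁻¹ * k⁻¹ ∈ V := hVn.conj_mem _ (V.inv_mem hx.1) k
        have e : ⁅x, k⁆ = x * (k * x⁻¹ * k⁻¹) := by rw [commutatorElement_def]; group
        rw [e]; exact V.mul_mem hx.1 this
      · have : x * k * x⁻¹ ∈ K := (Subgroup.mem_normalizer_iff.mp (hLK hx.2) k).mp hk
        have e : ⁅x, k⁆ = (x * k * x⁻¹) * k⁻¹ := by rw [commutatorElement_def]
        rw [e]; exact K.mul_mem this (K.inv_mem hk)
    rw [hVKbot, mem_bot, commutatorElement_eq_one_iff_mul_comm] at h1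
    exact h1.symm
  have hRL : R ≤ normalizer (L : Set G) := by
    rw [hL]
    exact le_normalizer_inf h.cls.norm (hRK.trans le_normalizer)
  have hcopRL : (Nat.card R).Coprime (Nat.card L) :=
    Nat.Coprime.coprime_dvd_right (Subgroup.card_dvd_of_le hLH) h.cls.cop.symm
  have hLsol : Group.IsSolvable L := isSolvable_of_le hLH h.cls.sol
  obtain ⟨P₀, hsyl, -, hRP⟩ := Cfsg.Agent.Lib.Helper8.exists_invariant_isSylIn_ge hRL hcopRL
    (Or.inr hLsol) p ⊥ bot_le (IsPGroup.of_bot) (by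
      intro r _
      rw [mem_normalizer_iff]
      intro x
      simp [mem_bot])
  have hP₀L : P₀ ≤ L := hsyl.1
  have hP₀p : IsPGroup p P₀ := hsyl.isPGroup
  have hP₀K : P₀ ≤ normalizer (K : Set G) := hP₀L.trans hLK
  obtain ⟨c, hc⟩ := IsPGroup.iff_card.mp hP₀p
  have hKP₀bot : K ⊓ P₀ = ⊥ := inf_eq_bot_of_coprime (by rw [hc]; exact Nat.Coprime.pow_right c hKp)
  -- `L = K P₀`
  have hp1 : p ≠ 1 := hp.out.ne_one
  have hLKP : L = K ⊔ P₀ := by
    symm
    apply Subgroup.eq_of_le_of_card_ge (sup_le hKL hP₀L)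
    have h1 := Cfsg.Agent.Lib.Helper4.card_sup_mul_card_inf P₀ K hP₀K
    rw [inf_comm, hKP₀bot, Subgroup.card_bot, mul_one, sup_comm] at h1
    rw [h1]
    have h2 := Nat.ordProj_mul_ordCompl_eq_self (Nat.card L) p
    have h3 := Nat.coprime_ordCompl hp.out (Nat.card_pos (α := L)).ne'
    rw [← hsyl.2] at h2
    rw [← h2]
    apply Nat.mul_le_mul_left
    -- the p'-part of |L| divides |K|
    apply Nat.le_of_dvd Nat.card_pos
    have h4 : Nat.card L / p ^ (Nat.card L).factorization p ∣ Nat.card H :=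
      (Nat.div_dvd_of_dvd (Nat.ordProj_dvd (Nat.card L) p)).trans (Subgroup.card_dvd_of_le hLH)
    rw [hcardHK] at h4
    rw [hsyl.2]
    exact (Nat.Coprime.pow_right a h3.symm).dvd_of_dvd_mul_left h4
  -- `P₀ ≠ 1`
  have hP1 : P₀ ≠ ⊥ := by
    intro h0
    apply h.bad'
    refine pLengthLE_one_of_normal_sylow hVH hHV hVp ?_
    have hHT : H = V ⊔ K := by
      apply le_antisymm _ (sup_le hVH hKH)
      intro x hx
      obtain ⟨v, hv, l, hl, rfl⟩ := hHVL x hx
      rw [hLKP, h0, sup_bot_eq] at hl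
      exact (V ⊔ K).mul_mem (le_sup_left (a := V) hv) (le_sup_right (a := V) hl)
    rw [hHT]; exact hidx
  -- `C_{P₀}(K) = 1`
  have hPK : P₀ ⊓ centralizer (K : Set G) = ⊥ := by
    obtain ⟨A, hA⟩ : ∃ A : Subgroup G, A = P₀ ⊓ centralizer (K : Set G) := ⟨_, rfl⟩
    rw [← hA]
    have hAP₀ : A ≤ P₀ := hA ▸ inf_le_left
    have hAC : A ≤ centralizer (K : Set G) := hA ▸ inf_le_right
    have hLA : L ≤ normalizer (A : Set G) := by
      rw [hLKP]
      refine sup_le ?_ ?_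
      · exact (Subgroup.le_centralizer_iff.mp hAC).trans (Subgroup.centralizer_le_normalizer _)
      · rw [hA]
        exact le_normalizer_inf le_normalizer (le_normalizer_centralizer hP₀K)
    have hAp : IsPGroup p A := hP₀p.to_le hAP₀
    have hVAp : IsPGroup p (V ⊔ A : Subgroup G) := IsPGroup.to_sup_of_normal_left hVp hAp
    have hHVA : H ≤ normalizer ((V ⊔ A : Subgroup G) : Set G) := by
      intro x hx
      obtain ⟨v, hv, l, hl, rfl⟩ := hHVL x hx
      refine Subgroup.mul_mem _ (le_normalizer (le_sup_left (a := V) hv)) ?_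
      exact le_normalizer_sup (X := L) (by rw [normalizer_eq_top]; exact le_top) hLA hl
    have h1 : V ⊔ A ≤ V := hVmax _ (sup_le hVH ((hAP₀.trans hP₀L).trans hLH)) hHVA hVAp
    rw [eq_bot_iff, ← hVL]
    exact le_inf (le_sup_right.trans h1) (hAP₀.trans hP₀L)
  exact ⟨V, K, L, P₀, ⟨h, hV, hKH, hKp, hRK, hTn, hpow, hVK, hL, hHVL, hVL, hsyl, hRP, hLKP, hP1, hPK⟩⟩

end Cfsg.Agent.Lib.Helper1.BG36R
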