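import Mathlib
import Cfsg.Agent.Lib.Helper1.BG36R4
import Cfsg.Agent.Lib.Helper9.Cyclic

/-!
# BG Theorem 3.6 (S1444), reduction part (helper1), file 5: steps 10–12
-/

set_option autoImplicit false
set_option linter.unusedSectionVars false
set_option linter.style.haveILetI false
set_option linter.unusedVariables false

namespace Cfsg.Agent.Lib.Helper1.BG36R

open Cfsg Subgroup Pointwise
open Cfsg.Agent.Lib.Helper8 (IsSylIn)
open scoped commutatorElement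

universe u

variable {p : ℕ} [hp : Fact p.Prime] {G : Type u} [Group G] [Finite G]
  {H R R₀ V K L P₀ : Subgroup G}

/-! ### accessors -/

theorem Cfg.Vn (c : Cfg p H R R₀ V K L P₀) : V.Normal := c.hV ▸ c.mc.V_normal
theorem Cfg.VH (c : Cfg p H R R₀ V K L P₀) : V ≤ H := c.hV ▸ c.mc.V_le
theorem Cfg.Vp (c : Cfg p H R R₀ V K L P₀) : IsPGroup p V := c.hV ▸ c.mc.V_pgroup
theorem Cfg.V1 (c : Cfg p H R R₀ V K L P₀) : V ≠ ⊥ := c.hV ▸ c.mc.V_ne_bot
theorem Cfg.cent (c : Cfg p H R R₀ V K L P₀) : H ⊓ centralizer (V : Set G) ≤ V :=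
  c.hV ▸ c.mc.cent_le
theorem Cfg.Vmax (c : Cfg p H R R₀ V K L P₀) : ∀ S : Subgroup G, S ≤ H →
    H ≤ normalizer (S : Set G) → IsPGroup p S → S ≤ V := c.hV ▸ c.mc.V_max
theorem Cfg.Vcomm (c : Cfg p H R R₀ V K L P₀) : ∀ x ∈ V, ∀ y ∈ V, x * y = y * x :=
  c.hV ▸ c.mc.V_comm
theorem Cfg.Vexp (c : Cfg p H R R₀ V K L P₀) : ∀ x ∈ V, x ^ p = 1 := c.hV ▸ c.mc.V_exp
theorem Cfg.le_normalizer_V (c : Cfg p H R R₀ V K L P₀) (X : Subgroup G) :
    X ≤ normalizer (V : Set G) := by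
  haveI := c.Vn
  rw [normalizer_eq_top]; exact le_top
theorem Cfg.LH (c : Cfg p H R R₀ V K L P₀) : L ≤ H := c.hL ▸ inf_le_left
theorem Cfg.LK (c : Cfg p H R R₀ V K L P₀) : L ≤ normalizer (K : Set G) := c.hL ▸ inf_le_right
theorem Cfg.KL (c : Cfg p H R R₀ V K L P₀) : K ≤ L := c.hL ▸ le_inf c.KH le_normalizer
theorem Cfg.PL (c : Cfg p H R R₀ V K L P₀) : P₀ ≤ L := c.syl.1
theorem Cfg.Pp (c : Cfg p H R R₀ V K L P₀) : IsPGroup p P₀ := c.syl.isPGroup
theorem Cfg.PNK (c : Cfg p H R R₀ V K L P₀) : P₀ ≤ normalizer (K : Set G) := c.PL.trans c.LK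
theorem Cfg.RL (c : Cfg p H R R₀ V K L P₀) : R ≤ normalizer (L : Set G) := by
  rw [c.hL]
  exact le_normalizer_inf c.mc.cls.norm (c.RK.trans le_normalizer)
theorem Cfg.Hsol (c : Cfg p H R R₀ V K L P₀) : Group.IsSolvable H := c.mc.cls.sol
theorem Cfg.KP_bot (c : Cfg p H R R₀ V K L P₀) : K ⊓ P₀ = ⊥ := by
  obtain ⟨k, hk⟩ := IsPGroup.iff_card.mp c.Pp
  exact inf_eq_bot_of_coprime (by rw [hk]; exact Nat.Coprime.pow_right k c.Kcop)
theorem Cfg.VK_bot (c : Cfg p H R R₀ V K L P₀) : V ⊓ K = ⊥ := by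
  rw [eq_bot_iff, ← c.VL]
  exact inf_le_inf_left _ c.KL
theorem Cfg.R₀_cop (c : Cfg p H R R₀ V K L P₀) : (Nat.card R₀).Coprime (Nat.card H) :=
  Nat.Coprime.coprime_dvd_left (Subgroup.card_dvd_of_le c.mc.cls.le) c.mc.cls.cop.symm
theorem Cfg.faithful (c : Cfg p H R R₀ V K L P₀) : L ⊓ centralizer (V : Set G) = ⊥ := by
  rw [eq_bot_iff, ← c.VL]
  exact le_inf ((inf_le_inf_right _ c.LH).trans c.cent) inf_le_left

/-! ### general lemmas -/

/-- Commutators of elements normalizing a cyclic subgroup centralize it. -/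
theorem comm_mem_centralizer_of_isCyclic {C : Subgroup G} (hC : IsCyclic C) {x y : G}
    (hx : x ∈ normalizer (C : Set G)) (hy : y ∈ normalizer (C : Set G)) :
    ⁅x, y⁆ ∈ centralizer (C : Set G) := by
  let _ := (hC.mulAutMulEquiv _).toMonoidHom.commGroupOfInjective (hC.mulAutMulEquiv _).injective
  have h := Abelianization.commutator_subset_ker C.normalizerMonoidHom
  have h1 : ⁅(⟨x, hx⟩ : ↥(normalizer (C : Set G))), (⟨y, hy⟩ : ↥(normalizer (C : Set G)))⁆ ∈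
      _root_.commutator ↥(normalizer (C : Set G)) := by
    rw [commutator_def]; exact commutator_mem_commutator (mem_top _) (mem_top _)
  have h2 := h h1
  rw [normalizerMonoidHom_ker, mem_subgroupOf] at h2
  exact h2

theorem comm_pow_left_of_commute {a b : G} (h : Commute ⁅a, b⁆ a) (k : ℕ) :
    ⁅a ^ k, b⁆ = ⁅a, b⁆ ^ k := by
  induction k with
  | zero => simp
  | succ k ih =>
    have h1 : ⁅a ^ (k + 1), b⁆ = a ^ k * ⁅a, b⁆ * (a ^ k)⁻¹ * ⁅a ^ k, b⁆ := by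
      simp only [commutatorElement_def, pow_succ]; group
    have h2 : a ^ k * ⁅a, b⁆ * (a ^ k)⁻¹ = ⁅a, b⁆ := by
      rw [← (h.pow_right k).eq]; group
    rw [h1, h2, ih, pow_succ']

theorem isCyclic_of_isPGroup_of_isZGroup {W : Subgroup G} (hW : IsPGroup p W)
    (hZ : IsZGroup ↥W) : IsCyclic ↥W := by
  haveI := hZ
  have h1 : IsCyclic ↥(⊤ : Subgroup ↥W) := IsPGroup.isCyclic_of_isZGroup (hW.to_subgroup ⊤)
  exact isCyclic_of_surjective (Subgroup.topEquiv (G := ↥W)) (Subgroup.topEquiv.surjective)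

theorem mem_centralizer_zpowers_of_commute {x f : G} (h : x * f = f * x) :
    f ∈ centralizer ((zpowers x : Subgroup G) : Set G) := by
  rw [mem_centralizer_iff]
  intro y hy
  obtain ⟨n, rfl⟩ := Subgroup.mem_zpowers_iff.mp hy
  exact ((Commute.zpow_left (show Commute x f from h) n).eq)


/-! ### Step 10 -/

theorem Cfg.comm_LR (c : Cfg p H R R₀ V K L P₀) : ⁅L, R⁆ = L := by
  apply le_antisymm (commutator_le_of_le_normalizer c.RL)
  haveI := c.Vn
  have h1 : ⁅H, R⁆ ≤ V ⊔ ⁅L, R⁆ := by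
    rw [Subgroup.commutator_le]
    intro x hx r hr
    obtain ⟨v, hv, l, hl, rfl⟩ := c.HVL x hx
    rw [Cfsg.Agent.Lib.Helper17.PrimeAct.comm_mul_left_eq]
    have hvm : v ∈ V ⊔ ⁅L, R⁆ := le_sup_left (a := V) hv
    refine mul_mem (mul_mem (mul_mem hvm
      (le_sup_right (a := V) (commutator_mem_commutator hl hr))) (inv_mem hvm))
      (le_sup_left (a := V) ?_)
    exact Cfsg.Agent.Lib.Helper17.PrimeAct.comm_mem_of_normalizer V v r hv
      (c.le_normalizer_V ⊤ (mem_top r))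
  rw [c.mc.comm_eq] at h1
  intro l hl
  have hd : Disjoint V ⁅L, R⁆ := by
    rw [disjoint_iff, eq_bot_iff, ← c.VL]
    exact inf_le_inf_left _ (commutator_le_of_le_normalizer c.RL)
  obtain ⟨v, hv, y, hy, hvy⟩ := (isComplIn_sup (c.le_normalizer_V _) hd).2.2.2 l (h1 (c.LH hl))
  have hyL : y ∈ L := commutator_le_of_le_normalizer c.RL hy
  have hvL : v ∈ L := by
    have : v = l * y⁻¹ := by rw [← hvy]; group
    rw [this]; exact L.mul_mem hl (L.inv_mem hyL)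
  have hv1 : v = 1 := by
    have : v ∈ V ⊓ L := ⟨hv, hvL⟩
    rwa [c.VL, mem_bot] at this
  rw [← hvy, hv1, one_mul]; exact hy

theorem Cfg.fittingOf_eq (c : Cfg p H R R₀ V K L P₀) : Cfsg.fittingOf H = V := by
  have h1 := Cfsg.Agent.Lib.Helper9.fittingSubgroup_eq_pCore_of_pPrimeCore_eq_bot p
    c.mc.pPrimeCore_eq_bot
  unfold Cfsg.fittingOf
  rw [h1, c.hV]
  rfl

theorem exists_zpowers_eq_of_prime_card {A : Subgroup G} (hA : (Nat.card A).Prime) :
    ∃ x ∈ A, A = zpowers x := by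
  haveI : Fact (Nat.card A).Prime := ⟨hA⟩
  haveI hcyc : IsCyclic A := isCyclic_of_prime_card rfl
  obtain ⟨⟨x, hxA⟩, hgen⟩ := hcyc.exists_generator
  refine ⟨x, hxA, le_antisymm ?_ (by rw [zpowers_le]; exact hxA)⟩
  intro y hy
  obtain ⟨n, hn⟩ := Subgroup.mem_zpowers_iff.mp (hgen ⟨y, hy⟩)
  rw [Subgroup.mem_zpowers_iff]
  exact ⟨n, by simpa using congrArg Subtype.val hn⟩

theorem Cfg.V₀_ne_bot (c : Cfg p H R R₀ V K L P₀) : V ⊓ centralizer (R₀ : Set G) ≠ ⊥ := by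
  intro h0
  haveI := c.Vn
  have hr := c.mc.cls.prime
  obtain ⟨x, hxR, hR₀⟩ := exists_zpowers_eq_of_prime_card hr
  have hxr : x ^ (Nat.card R₀) = 1 := pow_card_subgroup_eq_one hxR
  have hxRR : x ∈ R := c.mc.cls.le hxR
  have key := Cfsg.Agent.Lib.Helper17.PrimeAct.comm_mem_fittingOf x hr hxr (Nat.card H) H rfl
    (c.mc.cls.norm hxRR) c.Hsol c.mc.cls.oddH
    ((Nat.Prime.coprime_iff_not_dvd hr).mp c.R₀_cop) (by
      intro f hf hxf
      rw [c.fittingOf_eq] at hf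
      have h1 : f ∈ V ⊓ centralizer (R₀ : Set G) := by
        refine ⟨hf, ?_⟩
        rw [hR₀]
        exact mem_centralizer_zpowers_of_commute hxf
      rwa [h0, mem_bot] at h1)
  rw [c.fittingOf_eq] at key
  have hLC : L ≤ centralizer (R₀ : Set G) := by
    intro l hl
    rw [hR₀]
    apply mem_centralizer_zpowers_of_commute
    have h1 : ⁅l, x⁆ ∈ V ⊓ L := by
      refine ⟨key l (c.LH hl), ?_⟩
      have h2 : x * l⁻¹ * x⁻¹ ∈ L :=
        (Subgroup.mem_normalizer_iff.mp (c.RL hxRR) l⁻¹).mp (L.inv_mem hl)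
      have e : ⁅l, x⁆ = l * (x * l⁻¹ * x⁻¹) := by rw [commutatorElement_def]; group
      rw [e]; exact L.mul_mem hl h2
    rw [c.VL, mem_bot, commutatorElement_eq_one_iff_mul_comm] at h1
    exact h1.symm
  have hZL : IsZGroup ↥L := isZGroup_of_le (le_inf c.LH hLC) c.mc.cls.z
  obtain ⟨C, hC⟩ : ∃ C : Subgroup G, C = ⁅L, L⁆ := ⟨_, rfl⟩
  have hCcyc : IsCyclic ↥C := by
    haveI := hZL
    have h1 := IsZGroup.isCyclic_commutator ↥L
    have e := (commutator ↥L).equivMapOfInjective L.subtype L.subtype_injective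
    rw [Subgroup.map_subtype_commutator, ← hC] at e
    exact isCyclic_of_surjective e e.surjective
  have hLNC : L ≤ normalizer (C : Set G) := hC ▸ le_normalizer_commutator le_normalizer le_normalizer
  have hRNC : R ≤ normalizer (C : Set G) := hC ▸ le_normalizer_commutator c.RL c.RL
  have hLcC : L ≤ centralizer (C : Set G) := by
    rw [← c.comm_LR, Subgroup.commutator_le]
    intro l hl r hr
    exact comm_mem_centralizer_of_isCyclic hCcyc (hLNC hl) (hRNC hr)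
  have hPK : P₀ ≤ centralizer (K : Set G) := by
    intro a ha
    rw [mem_centralizer_iff]
    intro b hb
    have hcC : ⁅a, b⁆ ∈ C := hC ▸ commutator_mem_commutator (c.PL ha) (c.KL hb)
    have hcomm : Commute ⁅a, b⁆ a := mem_centralizer_iff.mp (hLcC (c.PL ha)) _ hcC
    have h1 : ⁅a, b⁆ ^ Nat.card P₀ = 1 := by
      rw [← comm_pow_left_of_commute hcomm, pow_card_subgroup_eq_one ha]
      simp
    have hcK : ⁅a, b⁆ ∈ K := by
      have h2 : a * b * a⁻¹ ∈ K := (Subgroup.mem_normalizer_iff.mp (c.PNK ha) b).mp hb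
      have e : ⁅a, b⁆ = (a * b * a⁻¹) * b⁻¹ := by rw [commutatorElement_def]
      rw [e]; exact K.mul_mem h2 (K.inv_mem hb)
    have h2 : ⁅a, b⁆ ^ Nat.card K = 1 := pow_card_subgroup_eq_one hcK
    obtain ⟨k, hk⟩ := IsPGroup.iff_card.mp c.Pp
    have h3 : ⁅a, b⁆ ∈ (⊥ : Subgroup G) :=
      mem_of_pow_mem_of_coprime (a := Nat.card P₀) (b := Nat.card K) (by rw [h1]; exact one_mem _)
        (by rw [h2]; exact one_mem _) (by rw [hk]; exact Nat.Coprime.pow_left k c.Kcop.symm)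
    rw [mem_bot, commutatorElement_eq_one_iff_mul_comm] at h3
    exact h3.symm
  apply c.P1
  rw [eq_bot_iff, ← c.PK]
  exact le_inf le_rfl hPK

theorem Cfg.card_V₀_le (c : Cfg p H R R₀ V K L P₀) :
    Nat.card ↥(V ⊓ centralizer (R₀ : Set G)) ≤ p := by
  have hZ : IsZGroup ↥(V ⊓ centralizer (R₀ : Set G)) :=
    isZGroup_of_le (inf_le_inf_right _ c.VH) c.mc.cls.z
  have hp' : IsPGroup p ↥(V ⊓ centralizer (R₀ : Set G)) := c.Vp.to_le inf_le_left
  haveI hcyc := isCyclic_of_isPGroup_of_isZGroup hp' hZ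
  apply Nat.le_of_dvd hp.out.pos
  rw [← IsCyclic.exponent_eq_card]
  apply Monoid.exponent_dvd_of_forall_pow_eq_one
  intro g
  apply Subtype.ext
  rw [Subgroup.coe_pow, Subgroup.coe_one]
  exact c.Vexp g g.2.1


/-! ### Step 11 -/

theorem card_eq_prime_of_isPGroup_of_le {A : Subgroup G} (hA : IsPGroup p A) (hA1 : A ≠ ⊥)
    (hle : Nat.card A ≤ p) : Nat.card A = p := by
  obtain ⟨k, hk⟩ := IsPGroup.iff_card.mp hA
  rcases Nat.eq_zero_or_pos k with h0 | h0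
  · exfalso
    rw [h0, pow_zero] at hk
    exact hA1 (Subgroup.card_eq_one.mp hk)
  · apply le_antisymm hle
    rw [hk]
    calc p = p ^ 1 := (pow_one p).symm
      _ ≤ p ^ k := Nat.pow_le_pow_right hp.out.pos h0

theorem Cfg.P_inf_cent (c : Cfg p H R R₀ V K L P₀) : P₀ ⊓ centralizer (R₀ : Set G) = ⊥ := by
  by_contra hY1
  obtain ⟨V₀, hV₀⟩ : ∃ V₀ : Subgroup G, V₀ = V ⊓ centralizer (R₀ : Set G) := ⟨_, rfl⟩
  obtain ⟨Y, hY⟩ : ∃ Y : Subgroup G, Y = P₀ ⊓ centralizer (R₀ : Set G) := ⟨_, rfl⟩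
  rw [← hY] at hY1
  have hV₀p : IsPGroup p V₀ := hV₀ ▸ c.Vp.to_le inf_le_left
  have hYp : IsPGroup p Y := hY ▸ c.Pp.to_le inf_le_left
  have hV₀card : Nat.card V₀ = p :=
    card_eq_prime_of_isPGroup_of_le hV₀p (hV₀ ▸ c.V₀_ne_bot) (hV₀ ▸ c.card_V₀_le)
  have hYV₀ : Y ≤ normalizer (V₀ : Set G) := by
    rw [hV₀]
    refine le_normalizer_inf (c.le_normalizer_V _) ?_
    rw [hY]
    exact inf_le_right.trans le_normalizer
  have hWp : IsPGroup p (V₀ ⊔ Y : Subgroup G) := IsPGroup.to_sup_of_normal_left' hV₀p hYp hYV₀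
  have hWZ : V₀ ⊔ Y ≤ H ⊓ centralizer (R₀ : Set G) := by
    refine sup_le ?_ ?_
    · rw [hV₀]; exact inf_le_inf_right _ c.VH
    · rw [hY]; exact inf_le_inf_right _ (c.PL.trans c.LH)
  haveI hWcyc : IsCyclic ↥(V₀ ⊔ Y : Subgroup G) :=
    isCyclic_of_isPGroup_of_isZGroup hWp (isZGroup_of_le hWZ c.mc.cls.z)
  -- a subgroup of order `p` in `Y`
  have hpY : p ∣ Nat.card Y := by
    obtain ⟨k, hk⟩ := IsPGroup.iff_card.mp hYp
    rcases Nat.eq_zero_or_pos k with h0 | h0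
    · exfalso
      rw [h0, pow_zero] at hk
      exact hY1 (Subgroup.card_eq_one.mp hk)
    · rw [hk]; exact dvd_pow_self p h0.ne'
  obtain ⟨y, hy⟩ := exists_prime_orderOf_dvd_card' p hpY
  have hyo : orderOf (y : G) = p := by rw [Subgroup.orderOf_coe]; exact hy
  have hY₁card : Nat.card (zpowers (y : G)) = p := by rw [Nat.card_zpowers]; exact hyo
  have hY₁Y : zpowers (y : G) ≤ Y := by rw [zpowers_le]; exact y.2
  have heq : V₀.subgroupOf (V₀ ⊔ Y) = (zpowers (y : G)).subgroupOf (V₀ ⊔ Y) := by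
    apply Cfsg.Agent.Lib.Helper9.subgroup_eq_of_card_eq_of_isCyclic
    rw [card_subgroupOf_of_le le_sup_left, card_subgroupOf_of_le (hY₁Y.trans le_sup_right),
      hV₀card, hY₁card]
  have hV₀Y : V₀ ≤ Y := by
    intro v hv
    have h1 : (⟨v, le_sup_left (a := V₀) hv⟩ : ↥(V₀ ⊔ Y)) ∈ V₀.subgroupOf (V₀ ⊔ Y) :=
      mem_subgroupOf.mpr hv
    rw [heq, mem_subgroupOf] at h1
    exact hY₁Y h1
  have hV₀bot : V₀ = ⊥ := by
    rw [eq_bot_iff, ← c.VL]
    refine le_inf (hV₀ ▸ inf_le_left) ?_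
    exact hV₀Y.trans ((hY ▸ inf_le_left : Y ≤ P₀).trans c.PL)
  exact c.V₀_ne_bot (hV₀ ▸ hV₀bot)


/-! ### Step 12 -/

theorem Cfg.R_eq (c : Cfg p H R R₀ V K L P₀) : R = R₀ := by
  by_contra hne
  have hlt : Nat.card R₀ < Nat.card R :=
    card_lt_of_lt (lt_of_le_of_ne c.mc.cls.le (Ne.symm hne))
  have C3 : Cls H R₀ R₀ :=
    c.mc.cls.mono le_rfl c.mc.cls.le le_rfl (c.mc.cls.le.trans c.mc.cls.norm)
  have hpl := c.mc.ih G H R₀ R₀ C3 (by omega)
  have hYH : ⁅H, R₀⁆ ≤ H := commutator_le_of_le_normalizer C3.norm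
  obtain ⟨S, hSY, hSp, hHS, hSidx⟩ := exists_normal_sylow_of_pLengthLE_one c.mc.np'
    hYH (le_normalizer_commutator_left H R₀) hpl
  have hSV : S ≤ V := c.Vmax S (hSY.trans hYH) hHS hSp
  have hR₀P : R₀ ≤ normalizer (P₀ : Set G) := c.mc.cls.le.trans c.RP
  have h1 : ⁅P₀, R₀⁆ ≤ S :=
    le_of_normal_sylow hSY (hYH.trans hHS) hSidx
      (Subgroup.commutator_mono (c.PL.trans c.LH) le_rfl)
      (c.Pp.to_le (commutator_le_of_le_normalizer hR₀P))
  have h2 : ⁅P₀, R₀⁆ = ⊥ := by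
    rw [eq_bot_iff, ← c.VL]
    exact le_inf (h1.trans hSV) ((commutator_le_of_le_normalizer hR₀P).trans c.PL)
  apply c.P1
  rw [eq_bot_iff, ← c.P_inf_cent]
  exact le_inf le_rfl (le_centralizer_of_commutator_eq_bot h2)

end Cfsg.Agent.Lib.Helper1.BG36R
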