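import Mathlib
import Cfsg.Agent.Lib.Helper1.BG36R5
import Cfsg.Agent.Lib.Helper17.AG1

/-!
# BG Theorem 3.6 (S1444), reduction part (helper1), file 6: step 13 (minimality of the
final configuration)
-/

set_option autoImplicit false
set_option linter.unusedSectionVars false
set_option linter.style.haveILetI false
set_option linter.unusedVariables false

namespace Cfsg.Agent.Lib.Helper1.BG36R

open Cfsg Subgroup Pointwise
open scoped commutatorElement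

universe u

variable {p : ℕ} [hp : Fact p.Prime] {G : Type u} [Group G] [Finite G]
  {H R R₀ V K L P₀ : Subgroup G}

/-- Lemma E: `p`-subgroups of `L` centralizing `K` are trivial. -/
theorem Cfg.lemmaE (c : Cfg p H R R₀ V K L P₀) {A : Subgroup G} (hAL : A ≤ L)
    (hAK : A ≤ centralizer (K : Set G)) (hAp : IsPGroup p A) : A = ⊥ := by
  have hsyl : Cfsg.Agent.Lib.Helper17.IsSylIn p P₀ L :=
    Cfsg.Agent.Lib.Helper17.isSylIn_of_card c.Pp c.PL c.syl.2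
  obtain ⟨R', hR', hAR'⟩ := Cfsg.Agent.Lib.Helper17.exists_isSylIn_ge hAp hAL
  obtain ⟨y, hyL, hy⟩ := Cfsg.Agent.Lib.Helper17.IsSylIn.exists_conj hR' hsyl
  have h1 : A.map (MulAut.conj y).toMonoidHom ≤ P₀ := by
    rw [hy]; exact Subgroup.map_mono hAR'
  have h2 : A.map (MulAut.conj y).toMonoidHom ≤ centralizer (K : Set G) := by
    have h3 : y ∈ normalizer ((centralizer (K : Set G) : Subgroup G) : Set G) :=
      le_normalizer_centralizer (X := L) c.LK hyL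
    rw [← Cfsg.Agent.Lib.Helper8.mem_normalizer_iff_map_conj.mp h3]
    exact Subgroup.map_mono hAK
  have h4 : A.map (MulAut.conj y).toMonoidHom = ⊥ := by
    rw [eq_bot_iff, ← c.PK]; exact le_inf h1 h2
  rwa [Subgroup.map_eq_bot_iff_of_injective _ (MulAut.conj y).injective] at h4

/-- Lemma F: a normal `p`-subgroup of `H₂`, where `V ⊔ K ≤ H₂ ≤ H`, lies in `V`. -/
theorem Cfg.lemmaF (c : Cfg p H R R₀ V K L P₀) {H₂ S : Subgroup G} (hVH₂ : V ≤ H₂)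
    (hKH₂ : K ≤ H₂) (hH₂H : H₂ ≤ H) (hSH₂ : S ≤ H₂) (hH₂S : H₂ ≤ normalizer (S : Set G))
    (hSp : IsPGroup p S) : S ≤ V := by
  haveI := c.Vn
  obtain ⟨W, hW⟩ : ∃ W : Subgroup G, W = V ⊔ S := ⟨_, rfl⟩
  have hWp : IsPGroup p W := hW ▸ IsPGroup.to_sup_of_normal_left c.Vp hSp
  have hH₂W : H₂ ≤ normalizer (W : Set G) := hW ▸ le_normalizer_sup (c.le_normalizer_V _) hH₂S
  obtain ⟨A, hA⟩ : ∃ A : Subgroup G, A = W ⊓ L := ⟨_, rfl⟩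
  have hAL : A ≤ L := hA ▸ inf_le_right
  have hAp : IsPGroup p A := hWp.to_le (hA ▸ inf_le_left)
  have hKA : K ≤ normalizer (A : Set G) := by
    rw [hA]
    exact le_normalizer_inf (hKH₂.trans hH₂W) (c.KL.trans le_normalizer)
  have hcomm : ⁅A, K⁆ ≤ A ⊓ K := commutator_le_inf (hAL.trans c.LK) hKA
  have hAKbot : A ⊓ K = ⊥ := by
    obtain ⟨k, hk⟩ := IsPGroup.iff_card.mp hAp
    exact inf_eq_bot_of_coprime (by rw [hk]; exact Nat.Coprime.pow_left k c.Kcop.symm)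
  have hAcK : A ≤ centralizer (K : Set G) := by
    apply le_centralizer_of_commutator_eq_bot
    rw [eq_bot_iff, ← hAKbot]; exact hcomm
  have hAbot : A = ⊥ := c.lemmaE hAL hAcK hAp
  intro s hs
  obtain ⟨v, hv, l, hl, hsvl⟩ := c.HVL s (hH₂H (hSH₂ hs))
  have hlW : l ∈ W := by
    have e : l = v⁻¹ * s := by rw [hsvl]; group
    rw [e, hW]
    exact mul_mem (inv_mem (le_sup_left (a := V) hv)) (le_sup_right (a := V) hs)
  have hl1 : l = 1 := by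
    have : l ∈ A := hA ▸ ⟨hlW, hl⟩
    rwa [hAbot, mem_bot] at this
  rw [hsvl, hl1, mul_one]; exact hv

/-- The induction hypothesis applied to a proper `R`-invariant subgroup `H₂ ⊇ V` of `H`. -/
theorem Cfg.sub_sylow (c : Cfg p H R R₀ V K L P₀) {H₂ : Subgroup G} (hVH₂ : V ≤ H₂)
    (hH₂H : H₂ ≤ H) (hne : H₂ ≠ H) (hRH₂ : R ≤ normalizer (H₂ : Set G)) :
    ∃ S : Subgroup G, S ≤ H₂ ∧ IsPGroup p S ∧ H₂ ≤ normalizer (S : Set G) ∧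
      ∀ P' : Subgroup G, P' ≤ ⁅H₂, R⁆ → IsPGroup p P' → P' ≤ S := by
  have hlt : Nat.card H₂ < Nat.card H := card_lt_of_lt (lt_of_le_of_ne hH₂H hne)
  have C4 : Cls H₂ R R₀ := c.mc.cls.mono hH₂H le_rfl c.mc.cls.le hRH₂
  have hpl := c.mc.ih G H₂ R R₀ C4 (by omega)
  have hNP : NP' p H₂ :=
    np'_of_self_centralizing hVH₂ (c.le_normalizer_V _) c.Vp
      ((inf_le_inf_right _ hH₂H).trans c.cent)
  have hYH : ⁅H₂, R⁆ ≤ H₂ := commutator_le_of_le_normalizer hRH₂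
  obtain ⟨S, hSY, hSp, hHS, hSidx⟩ := exists_normal_sylow_of_pLengthLE_one hNP
    hYH (le_normalizer_commutator_left H₂ R) hpl
  exact ⟨S, hSY.trans hYH, hSp, hHS, fun P' hP'Y hP' =>
    le_of_normal_sylow hSY (hYH.trans hHS) hSidx hP'Y hP'⟩

/-- decomposition of elements of `V ⊔ (K₂ ⊔ P₂)` lying in `L` -/
theorem Cfg.mem_of_mem_sup (c : Cfg p H R R₀ V K L P₀) {K₂ P₂ : Subgroup G} (hK₂ : K₂ ≤ K)
    (hP₂ : P₂ ≤ P₀) (hPK₂ : P₂ ≤ normalizer (K₂ : Set G)) {x : G} (hxL : x ∈ L)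
    (hx : x ∈ V ⊔ (K₂ ⊔ P₂)) : ∃ k ∈ K₂, ∃ y ∈ P₂, x = k * y := by
  have hle : K₂ ⊔ P₂ ≤ L := sup_le (hK₂.trans c.KL) (hP₂.trans c.PL)
  have hd : Disjoint V (K₂ ⊔ P₂) := by
    rw [disjoint_iff, eq_bot_iff, ← c.VL]; exact inf_le_inf_left _ hle
  obtain ⟨v, hv, w, hw, hvw⟩ := (isComplIn_sup (c.le_normalizer_V _) hd).2.2.2 x hx
  have hv1 : v = 1 := by
    have e : v = x * w⁻¹ := by rw [← hvw]; group
    have : v ∈ V ⊓ L := ⟨hv, by rw [e]; exact L.mul_mem hxL (L.inv_mem (hle hw))⟩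
    rwa [c.VL, mem_bot] at this
  have hd2 : Disjoint K₂ P₂ := by
    rw [disjoint_iff, eq_bot_iff, ← c.KP_bot]; exact inf_le_inf hK₂ hP₂
  obtain ⟨k, hk, y, hy, hky⟩ := (isComplIn_sup hPK₂ hd2).2.2.2 w hw
  exact ⟨k, hk, y, hy, by rw [← hvw, hv1, one_mul, hky]⟩


/-- (M1) -/
theorem Cfg.Pmin (c : Cfg p H R R₀ V K L P₀) (P₂ : Subgroup G) (hP₂ : P₂ ≤ P₀)
    (hRP₂ : R₀ ≤ normalizer (P₂ : Set G)) : P₂ = ⊥ ∨ P₂ = P₀ := by
  obtain rfl := c.R_eq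
  by_cases hP₂eq : P₂ = P₀
  · exact Or.inr hP₂eq
  left
  have hP₂K : P₂ ≤ normalizer (K : Set G) := hP₂.trans c.PNK
  obtain ⟨H₂, hH₂⟩ : ∃ H₂ : Subgroup G, H₂ = V ⊔ (K ⊔ P₂) := ⟨_, rfl⟩
  have hVH₂ : V ≤ H₂ := hH₂ ▸ le_sup_left
  have hKH₂ : K ≤ H₂ := hH₂ ▸ le_sup_left.trans le_sup_right
  have hP₂H₂ : P₂ ≤ H₂ := hH₂ ▸ le_sup_right.trans le_sup_right
  have hH₂H : H₂ ≤ H :=
    hH₂ ▸ sup_le c.VH (sup_le c.KH ((hP₂.trans c.PL).trans c.LH))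
  have hRH₂ : R ≤ normalizer (H₂ : Set G) :=
    hH₂ ▸ le_normalizer_sup (c.le_normalizer_V _) (le_normalizer_sup c.RK hRP₂)
  have hne : H₂ ≠ H := by
    intro heq
    apply hP₂eq
    apply le_antisymm hP₂
    intro x hx
    have hxH₂ : x ∈ V ⊔ (K ⊔ P₂) := by rw [← hH₂, heq]; exact c.LH (c.PL hx)
    obtain ⟨k, hk, y, hy, hxky⟩ := c.mem_of_mem_sup le_rfl hP₂ hP₂K (c.PL hx) hxH₂
    have hk1 : k = 1 := by
      have e : k = x * y⁻¹ := by rw [hxky]; group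
      have : k ∈ K ⊓ P₀ := ⟨hk, by rw [e]; exact P₀.mul_mem hx (P₀.inv_mem (hP₂ hy))⟩
      rwa [c.KP_bot, mem_bot] at this
    rw [hxky, hk1, one_mul]; exact hy
  obtain ⟨S, hSH₂, hSp, hH₂S, hSmax⟩ := c.sub_sylow hVH₂ hH₂H hne hRH₂
  have hSV : S ≤ V := c.lemmaF hVH₂ hKH₂ hH₂H hSH₂ hH₂S hSp
  have h1 : ⁅P₂, R⁆ ≤ S :=
    hSmax _ (Subgroup.commutator_mono hP₂H₂ le_rfl)
      ((c.Pp.to_le hP₂).to_le (commutator_le_of_le_normalizer hRP₂))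
  have h2 : ⁅P₂, R⁆ = ⊥ := by
    rw [eq_bot_iff, ← c.VL]
    exact le_inf (h1.trans hSV) ((commutator_le_of_le_normalizer hRP₂).trans (hP₂.trans c.PL))
  rw [eq_bot_iff, ← c.P_inf_cent]
  exact le_inf hP₂ (le_centralizer_of_commutator_eq_bot h2)

/-- (M2) -/
theorem Cfg.Kmin (c : Cfg p H R R₀ V K L P₀) (K₂ : Subgroup G) (hK₂ : K₂ ≤ K) (hK₂ne : K₂ ≠ K)
    (hPK₂ : P₀ ≤ normalizer (K₂ : Set G)) (hRK₂ : R₀ ≤ normalizer (K₂ : Set G)) :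
    P₀ ≤ centralizer (K₂ : Set G) := by
  obtain rfl := c.R_eq
  obtain ⟨H₂, hH₂⟩ : ∃ H₂ : Subgroup G, H₂ = V ⊔ (K₂ ⊔ P₀) := ⟨_, rfl⟩
  have hVH₂ : V ≤ H₂ := hH₂ ▸ le_sup_left
  have hK₂H₂ : K₂ ≤ H₂ := hH₂ ▸ le_sup_left.trans le_sup_right
  have hP₀H₂ : P₀ ≤ H₂ := hH₂ ▸ le_sup_right.trans le_sup_right
  have hH₂H : H₂ ≤ H :=
    hH₂ ▸ sup_le c.VH (sup_le (hK₂.trans c.KH) (c.PL.trans c.LH))
  have hRH₂ : R ≤ normalizer (H₂ : Set G) :=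
    hH₂ ▸ le_normalizer_sup (c.le_normalizer_V _) (le_normalizer_sup hRK₂ c.RP)
  have hne : H₂ ≠ H := by
    intro heq
    apply hK₂ne
    apply le_antisymm hK₂
    intro x hx
    have hxH₂ : x ∈ V ⊔ (K₂ ⊔ P₀) := by rw [← hH₂, heq]; exact c.KH hx
    obtain ⟨k, hk, y, hy, hxky⟩ := c.mem_of_mem_sup hK₂ le_rfl hPK₂ (c.KL hx) hxH₂
    have hy1 : y = 1 := by
      have e : y = k⁻¹ * x := by rw [hxky]; group
      have : y ∈ K ⊓ P₀ := ⟨by rw [e]; exact K.mul_mem (K.inv_mem (hK₂ hk)) hx, hy⟩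
      rwa [c.KP_bot, mem_bot] at this
    rw [hxky, hy1, mul_one]; exact hk
  obtain ⟨S, hSH₂, hSp, hH₂S, hSmax⟩ := c.sub_sylow hVH₂ hH₂H hne hRH₂
  have hcopRP : (Nat.card R).Coprime (Nat.card P₀) :=
    Nat.Coprime.coprime_dvd_right (Subgroup.card_dvd_of_le (c.PL.trans c.LH)) c.mc.cls.cop.symm
  have hPcomm : ⁅P₀, R⁆ = P₀ := by
    have h1 := Cfsg.Agent.S0026.result R P₀ c.RP hcopRP
      (Or.inr (isSolvable_of_le (c.PL.trans c.LH) c.Hsol))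
    rwa [c.P_inf_cent, sup_bot_eq] at h1
  have hP₀S : P₀ ≤ S := by
    apply hSmax P₀ _ c.Pp
    calc P₀ = ⁅P₀, R⁆ := hPcomm.symm
      _ ≤ ⁅H₂, R⁆ := Subgroup.commutator_mono hP₀H₂ le_rfl
  have h1 : ⁅K₂, P₀⁆ ≤ K₂ ⊓ S := by
    refine le_inf (commutator_le_of_le_normalizer hPK₂) ?_
    rw [Subgroup.commutator_le]
    intro k hk y hy
    have h2 : k * y * k⁻¹ ∈ S :=
      (Subgroup.mem_normalizer_iff.mp (hH₂S (hK₂H₂ hk)) y).mp (hP₀S hy)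
    have e : ⁅k, y⁆ = (k * y * k⁻¹) * y⁻¹ := by rw [commutatorElement_def]
    rw [e]; exact S.mul_mem h2 (S.inv_mem (hP₀S hy))
  have h2 : K₂ ⊓ S = ⊥ := by
    obtain ⟨k, hk⟩ := IsPGroup.iff_card.mp hSp
    apply inf_eq_bot_of_coprime
    rw [hk]
    exact Nat.Coprime.pow_right k
      (Nat.Coprime.coprime_dvd_left (Subgroup.card_dvd_of_le hK₂) c.Kcop)
  have h3 : ⁅K₂, P₀⁆ = ⊥ := by rw [eq_bot_iff, ← h2]; exact h1
  exact Subgroup.le_centralizer_iff.mp (le_centralizer_of_commutator_eq_bot h3)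

/-- (M3) -/
theorem Cfg.comm_KP (c : Cfg p H R R₀ V K L P₀) : ⁅K, P₀⁆ = K := by
  by_contra hne
  have hR₀ : R₀ ≤ R := c.mc.cls.le
  have h1 : P₀ ≤ centralizer ((⁅K, P₀⁆ : Subgroup G) : Set G) :=
    c.Kmin ⁅K, P₀⁆ (commutator_le_of_le_normalizer c.PNK) hne
      (le_normalizer_commutator_right K P₀)
      (le_normalizer_commutator (hR₀.trans c.RK) (hR₀.trans c.RP))
  have h2 : ⁅⁅K, P₀⁆, P₀⁆ = ⊥ :=
    commutator_eq_bot_of_le_centralizer (Subgroup.le_centralizer_iff.mp h1)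
  obtain ⟨k, hk⟩ := IsPGroup.iff_card.mp c.Pp
  have h3 : ⁅⁅K, P₀⁆, P₀⁆ = ⁅K, P₀⁆ :=
    Cfsg.Agent.S0027.result P₀ K c.PNK (by rw [hk]; exact Nat.Coprime.pow_left k c.Kcop.symm)
      (Or.inr (isSolvable_of_le c.KH c.Hsol))
  rw [h3] at h2
  apply c.P1
  rw [eq_bot_iff, ← c.PK]
  exact le_inf le_rfl (Subgroup.le_centralizer_iff.mp (le_centralizer_of_commutator_eq_bot h2))

end Cfsg.Agent.Lib.Helper1.BG36R
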