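import Mathlib
import Cfsg.Agent.Lib.Helper1.BG36R6

/-!
# BG Theorem 3.6 (S1444), reduction part (helper1), file 7: step 14 and the induction
-/

set_option autoImplicit false
set_option linter.unusedSectionVars false
set_option linter.style.haveILetI false
set_option linter.unusedVariables false

namespace Cfsg.Agent.Lib.Helper1.BG36R

open Cfsg Subgroup Pointwise
open scoped commutatorElement

universe u

/-- The statement of PART 2 (`Cfsg.Agent.Lib.Helper21.BG36.final_config`, helper21): the final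
configuration is impossible.  PART 1 takes it as a hypothesis. -/
def FinalConfigStatement : Prop :=
  ∀ {G : Type u} [Group G] [Finite G] (p : ℕ) [Fact p.Prime] (_hp2 : p ≠ 2)
    (V K P A : Subgroup G)
    (_hVab : ∀ x ∈ V, ∀ y ∈ V, x * y = y * x) (_hVexp : ∀ x ∈ V, x ^ p = 1)
    (_hKp : (Nat.card K).Coprime p) (_hKsol : Group.IsSolvable K) (_hKodd : Odd (Nat.card K))
    (_hP : IsPGroup p P) (_hP1 : P ≠ ⊥)
    (_hA : (Nat.card A).Prime) (_hA2 : Nat.card A ≠ 2) (_hAp : Nat.card A ≠ p)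
    (_hAK : (Nat.card A).Coprime (Nat.card K))
    (_hKV : K ≤ normalizer V) (_hPV : P ≤ normalizer V) (_hAV : A ≤ normalizer V)
    (_hPK : P ≤ normalizer K) (_hAKn : A ≤ normalizer K) (_hAP : A ≤ normalizer P)
    (_hfaith : (K ⊔ P) ⊓ centralizer V = ⊥) (_hPKf : P ⊓ centralizer K = ⊥)
    (_hKP : ⁅K, P⁆ = K)
    (_hKmin : ∀ K₂ : Subgroup G, K₂ ≤ K → K₂ ≠ K → P ≤ normalizer K₂ → A ≤ normalizer K₂ →
      P ≤ centralizer K₂)
    (_hPmin : ∀ P₂ : Subgroup G, P₂ ≤ P → A ≤ normalizer P₂ → P₂ = ⊥ ∨ P₂ = P)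
    (_hPA : P ⊓ centralizer A = ⊥) (_hVA : Nat.card ↥(V ⊓ centralizer A) ≤ p)
    (_hKA : IsZGroup ↥(K ⊓ centralizer A)) (_hVK : V ⊓ centralizer K = ⊥), False

/-- Step 14: the final configuration is impossible. -/
theorem Cfg.false (hFC : FinalConfigStatement.{u}) {p : ℕ} [hp : Fact p.Prime] {G : Type u}
    [Group G] [Finite G] {H R R₀ V K L P₀ : Subgroup G} (c : Cfg p H R R₀ V K L P₀) : False := by
  have hpV : p ∣ Nat.card V := by
    obtain ⟨k, hk⟩ := IsPGroup.iff_card.mp c.Vp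
    rcases Nat.eq_zero_or_pos k with h0 | h0
    · exfalso
      rw [h0, pow_zero] at hk
      exact c.V1 (Subgroup.card_eq_one.mp hk)
    · rw [hk]; exact dvd_pow_self p h0.ne'
  have hpH : p ∣ Nat.card H := hpV.trans (Subgroup.card_dvd_of_le c.VH)
  have hp2 : p ≠ 2 := by
    intro h2
    rw [h2] at hpH
    exact (Nat.not_even_iff_odd.mpr c.mc.cls.oddH) (even_iff_two_dvd.mpr hpH)
  have hA2 : Nat.card R₀ ≠ 2 := by
    intro h2
    have := odd_of_le c.mc.cls.le c.mc.cls.oddR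
    rw [h2] at this
    exact absurd this (by decide)
  have hAp : Nat.card R₀ ≠ p := by
    intro h2
    have h3 := c.R₀_cop
    rw [h2] at h3
    exact hp.out.ne_one (Nat.Coprime.eq_one_of_dvd h3 hpH)
  have hAK : (Nat.card R₀).Coprime (Nat.card K) :=
    Nat.Coprime.coprime_dvd_right (Subgroup.card_dvd_of_le c.KH) c.R₀_cop
  have hfaith : (K ⊔ P₀) ⊓ centralizer (V : Set G) = ⊥ := by
    rw [← c.LKP]; exact c.faithful
  exact hFC p hp2 V K P₀ R₀ c.Vcomm c.Vexp c.Kcop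
    (isSolvable_of_le c.KH c.Hsol) (odd_of_le c.KH c.mc.cls.oddH) c.Pp c.P1 c.mc.cls.prime
    hA2 hAp hAK (c.le_normalizer_V K) (c.le_normalizer_V P₀) (c.le_normalizer_V R₀) c.PNK
    (c.mc.cls.le.trans c.RK) (c.mc.cls.le.trans c.RP) hfaith c.PK c.comm_KP c.Kmin c.Pmin
    c.P_inf_cent c.card_V₀_le (isZGroup_of_le (inf_le_inf_right _ c.KH) c.mc.cls.z) c.VK

/-- **BG Theorem 3.6**, internal form. -/
theorem main (hFC : FinalConfigStatement.{u}) (p : ℕ) [hp : Fact p.Prime] : ∀ (n : ℕ) (G : Type u) [Group G] [Finite G]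
    (H R R₀ : Subgroup G), Cls H R R₀ → Nat.card H + Nat.card R = n →
    Cfsg.PLengthLE p 1 ↥⁅H, R⁆ := by
  intro n
  induction n using Nat.strong_induction_on with
  | _ n ih =>
  intro G _ _ H R R₀ hC hn
  by_contra hbad
  have hIH : IHyp.{u} p (Nat.card H + Nat.card R) := by
    intro G' _ _ H' R' R₀' hC' hlt
    exact ih _ (hn ▸ hlt) G' H' R' R₀' hC' rfl
  obtain ⟨Γ, hΓ⟩ : ∃ Γ : Subgroup G, Γ = H ⊔ R := ⟨_, rfl⟩
  have hHΓ : H ≤ Γ := hΓ ▸ le_sup_left
  have hRΓ : R ≤ Γ := hΓ ▸ le_sup_right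
  have hmc : MC p (H.subgroupOf Γ) (R.subgroupOf Γ) (R₀.subgroupOf Γ) := by
    refine ⟨hC.subgroupOf Γ hHΓ hRΓ, ?_, ?_, ?_⟩
    · rw [card_subgroupOf_of_le hHΓ, card_subgroupOf_of_le hRΓ]; exact hIH
    · intro h1
      exact hbad (pLengthLE_commutator_subgroupOf Γ hHΓ hRΓ h1)
    · rw [← Subgroup.subgroupOf_sup hHΓ hRΓ, ← hΓ, Subgroup.subgroupOf_self]
  obtain ⟨V, K, L, P₀, c⟩ := hmc.exists_cfg
  exact c.false hFC

end Cfsg.Agent.Lib.Helper1.BG36R
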