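/-
helper1: B&G Theorem 15.2(f) / "kappa_structure" consequence (S1362): for a standard factorisation
`M = K U M_σ`, the set `A(M) \ M_σ` (elements of `U M_σ` outside `M_σ` centralizing a nonidentity element of
`M_σ`) is a TI-subset of `G`.  Inputs: S1350, S1403, S1420(d) (hypothesis form `T1220d`).
-/
import Cfsg.Agent.Lib.Helper1.BGKap3
import Cfsg.Agent.Lib.Helper19.BG123

set_option autoImplicit false
set_option linter.style.haveILetI false
open scoped commutatorElement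
open Pointwise

namespace Cfsg.Agent.Lib.Helper1.BGKap

open Cfsg.Agent.Lib.Helper1.BGX
open Cfsg.Agent.Lib.Helper2.BGCor

variable {G : Type*} [Group G]

/-- a singular element of `M` all of whose prime divisors are outside `κ(M) ∪ σ(M)` has its centralizer
in `M`, and `M` is the only maximal subgroup over that centralizer. -/
theorem cent_le_of_singular [Finite G] (hG : Cfsg.IsMinSimpleOddOrder G) (hU : UT G)
    {M : Subgroup G} (hM : IsCoatom M) (h20d : T1220d M) {x : G} (hxM : x ∈ M) (hx1 : x ≠ 1)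
    {y : G} (hy : y ∈ Cfsg.sigmaCore M) (hy1 : y ≠ 1) (hxy : x * y = y * x)
    (hp : ∀ q : ℕ, q.Prime → q ∣ orderOf x → q ∉ Cfsg.kappa M ∧ q ∉ Cfsg.sigma M) :
    Subgroup.centralizer ({x} : Set G) ≤ M ∧
      ∀ L : Subgroup G, IsCoatom L → Subgroup.centralizer ({x} : Set G) ≤ L → L = M := by
  have hτ2 : ∀ q : ℕ, q.Prime → q ∣ orderOf x → q ∈ Cfsg.tau2 M := by
    intro q hq hqd
    have hzo : orderOf (x ^ (orderOf x / q)) = q :=
      orderOf_pow_orderOf_div (orderOf_pos x).ne' hqd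
    have hzM : x ^ (orderOf x / q) ∈ M := M.pow_mem hxM _
    have hzy : x ^ (orderOf x / q) * y = y * x ^ (orderOf x / q) :=
      (Commute.pow_left (show Commute x y from hxy) _).eq
    rcases kappa_or_tau2 hG hU hM hy hy1 hzM hq hzo hzy (hp q hq hqd).2 with h | h
    · exact absurd h (hp q hq hqd).1
    · exact h
  exact h20d x hxM hx1 hτ2 ⟨hxM, y, hy, hy1, hxy⟩

/-- `U M_σ` is normal in `M` -/
theorem le_normalizer_U_sup_sigmaCore {M K U : Subgroup G}
    (hKU : Cfsg.IsSigmaDecomposition M K U) :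
    M ≤ Subgroup.normalizer ((U ⊔ Cfsg.sigmaCore M : Subgroup G) : Set G) := by
  obtain ⟨hUM, hKσM, -, hprod⟩ := hKU.compl
  have hKM : K ≤ M := le_sup_left.trans hKσM
  have h1 : U ≤ Subgroup.normalizer ((U ⊔ Cfsg.sigmaCore M : Subgroup G) : Set G) :=
    le_sup_left.trans Subgroup.le_normalizer
  have h2 : Cfsg.sigmaCore M ≤ Subgroup.normalizer ((U ⊔ Cfsg.sigmaCore M : Subgroup G) : Set G) :=
    le_sup_right.trans Subgroup.le_normalizer
  have h3 : K ≤ Subgroup.normalizer ((U ⊔ Cfsg.sigmaCore M : Subgroup G) : Set G) := by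
    intro k hk
    exact mem_normalizer_sup (hKU.normal hk) (le_normalizer_sigmaCore M (hKM hk))
  intro m hm
  obtain ⟨u, hu, b, hb, rfl⟩ := hprod m hm
  exact Subgroup.mul_mem _ (h1 hu) ((sup_le h3 h2) hb)

/-- the set `A(M) \ M_σ` is invariant under conjugation by `M` -/
theorem conj_mem_sigmaA_diff {M K U : Subgroup G} (hKU : Cfsg.IsSigmaDecomposition M K U)
    {m : G} (hm : m ∈ M) {a : G}
    (ha : a ∈ Cfsg.sigmaA M U \ (Cfsg.sigmaCore M : Set G)) :
    m * a * m⁻¹ ∈ Cfsg.sigmaA M U \ (Cfsg.sigmaCore M : Set G) := by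
  obtain ⟨⟨⟨haM, y, hy, hy1, hay⟩, haU⟩, haσ⟩ := ha
  refine ⟨⟨⟨M.mul_mem (M.mul_mem hm haM) (M.inv_mem hm), m * y * m⁻¹, conj_mem_sigmaCore hm hy, ?_, ?_⟩,
    ?_⟩, ?_⟩
  · intro h
    apply hy1
    calc y = m⁻¹ * (m * y * m⁻¹) * m := by group
      _ = 1 := by rw [h]; group
  · calc m * a * m⁻¹ * (m * y * m⁻¹) = m * (a * y) * m⁻¹ := by group
      _ = m * (y * a) * m⁻¹ := by rw [hay]
      _ = m * y * m⁻¹ * (m * a * m⁻¹) := by group
  · exact (Subgroup.mem_normalizer_iff.mp (le_normalizer_U_sup_sigmaCore hKU hm) a).mp haU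
  · intro h
    apply haσ
    have h2 := conj_mem_sigmaCore (M.inv_mem hm) h
    have e : m⁻¹ * (m * a * m⁻¹) * m⁻¹⁻¹ = a := by group
    rw [e] at h2
    exact h2

/-- for an element `a` of `A(M) \ M_σ`, the `σ(M)'`-part `a ^ m` of `a` is a nonidentity singular
element with centralizer in `M` only. -/
theorem exists_pow_cent_le [Finite G] (hG : Cfsg.IsMinSimpleOddOrder G) (hU : UT G)
    {M K U : Subgroup G} (hM : IsCoatom M)
    (hHall : Cfsg.IsPiHallOf (Cfsg.sigma M) (Cfsg.sigmaCore M) M)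
    (hKU : Cfsg.IsSigmaDecomposition M K U) (h20d : T1220d M) (N : ℕ) (hN : N ≠ 0) :
    ∃ m : ℕ, ∀ a ∈ Cfsg.sigmaA M U \ (Cfsg.sigmaCore M : Set G), orderOf a = N →
      Subgroup.centralizer ({a ^ m} : Set G) ≤ M ∧
        ∀ L : Subgroup G, IsCoatom L → Subgroup.centralizer ({a ^ m} : Set G) ≤ L → L = M := by
  obtain ⟨m, n', hmn, hmσ, hnσ⟩ := Cfsg.Agent.Lib.Helper20.exists_pi_decomp (Cfsg.sigma M) N hN
  refine ⟨m, ?_⟩
  rintro a ⟨⟨⟨haM, y, hy, hy1, hay⟩, haU⟩, haσ⟩ hao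
  have hm0 : m ≠ 0 := by
    rintro rfl
    rw [zero_mul] at hmn
    exact hN hmn
  have hmdvd : m ∣ orderOf a := by rw [hao, hmn]; exact Dvd.intro _ rfl
  have hord : orderOf (a ^ m) = n' := by
    rw [orderOf_pow_of_dvd hm0 hmdvd, hao, hmn, Nat.mul_div_cancel_left _ (Nat.pos_of_ne_zero hm0)]
  -- `a ^ m ≠ 1`
  have hne : a ^ m ≠ 1 := by
    intro h1
    have hn1 : n' = 1 := by rw [← hord, h1, orderOf_one]
    apply haσ
    have hle : Subgroup.zpowers a ≤ Cfsg.sigmaCore M := by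
      apply Cfsg.Agent.Lib.Helper19.BG123.le_sigmaCore_of_primes hG hM
        (by rw [Subgroup.zpowers_le]; exact haM)
      intro r hr hrd
      rw [Nat.card_zpowers, hao, hmn, hn1, mul_one] at hrd
      exact hmσ r hr hrd
    exact hle (Subgroup.mem_zpowers a)
  apply cent_le_of_singular hG hU hM h20d (M.pow_mem haM m) hne hy hy1
    (Commute.pow_left (show Commute a y from hay) m).eq
  intro q hq hqd
  rw [hord] at hqd
  have hqσ : q ∉ Cfsg.sigma M := fun h => hnσ q hq h hqd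
  refine ⟨?_, hqσ⟩
  -- `q` divides `|U|`
  have hqN : q ∣ Nat.card ↥(U ⊔ Cfsg.sigmaCore M) := by
    have h1 : q ∣ orderOf a := by rw [hao, hmn]; exact Dvd.dvd.mul_left hqd m
    have h2 : orderOf (⟨a, haU⟩ : ↥(U ⊔ Cfsg.sigmaCore M)) = orderOf a := Subgroup.orderOf_mk a haU
    rw [← h2] at h1
    exact h1.trans (orderOf_dvd_natCard _)
  obtain ⟨hUM, -, -, -⟩ := hKU.compl
  have h5 := Cfsg.Agent.Lib.Helper4.card_sup_mul_card_inf U (Cfsg.sigmaCore M)
    (hUM.trans (le_normalizer_sigmaCore M))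
  have h6 : q ∣ Nat.card U * Nat.card (Cfsg.sigmaCore M) := by
    rw [← h5]; exact Dvd.dvd.mul_right hqN _
  rcases hq.dvd_mul.mp h6 with h | h
  · exact (not_kappa_sigma_of_dvd_card_U hHall hKU hq h).1
  · exact absurd (hHall.2.1 q hq h) hqσ

/-- **S1362**: `A(M) \ M_σ` is a TI-subset of `G`. -/
theorem s1362_core [Finite G] (hG : Cfsg.IsMinSimpleOddOrder G) (hU : UT G)
    {M K U : Subgroup G} (hM : IsCoatom M)
    (hHall : Cfsg.IsPiHallOf (Cfsg.sigma M) (Cfsg.sigmaCore M) M)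
    (hKU : Cfsg.IsSigmaDecomposition M K U) (h20d : T1220d M) :
    Cfsg.IsTISubset (Cfsg.sigmaA M U \ (Cfsg.sigmaCore M : Set G)) := by
  intro g hg x hx hgx
  exfalso
  apply hg
  -- it suffices to show `g ∈ M`
  have hgM : g ∈ M := by
    obtain ⟨m, hm⟩ := exists_pow_cent_le hG hU hM hHall hKU h20d (orderOf x) (orderOf_pos x).ne'
    obtain ⟨h1, h1u⟩ := hm x hx rfl
    have hox : orderOf (g * x * g⁻¹) = orderOf x := by
      have : g * x * g⁻¹ = (MulAut.conj g) x := rfl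
      rw [this, MulEquiv.orderOf_eq]
    obtain ⟨h2, h2u⟩ := hm (g * x * g⁻¹) hgx hox
    -- `C(x ^ m) ≤ g⁻¹ M g`
    have hpow : (g * x * g⁻¹) ^ m = g * x ^ m * g⁻¹ := by
      rw [conj_pow]
    have hL : Subgroup.centralizer ({x ^ m} : Set G) ≤ M.map (MulAut.conj g⁻¹).toMonoidHom := by
      intro c hc
      refine ⟨g * c * g⁻¹, h2 ?_, ?_⟩
      · rw [Subgroup.mem_centralizer_singleton_iff, hpow]
        rw [Subgroup.mem_centralizer_singleton_iff] at hc
        calc g * c * g⁻¹ * (g * x ^ m * g⁻¹) = g * (c * x ^ m) * g⁻¹ := by group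
          _ = g * (x ^ m * c) * g⁻¹ := by rw [hc]
          _ = g * x ^ m * g⁻¹ * (g * c * g⁻¹) := by group
      · show g⁻¹ * (g * c * g⁻¹) * g⁻¹⁻¹ = c
        group
    have hcoat : IsCoatom (M.map (MulAut.conj g⁻¹).toMonoidHom) :=
      Cfsg.Agent.Lib.Helper17.BGU.isCoatom_map_conj g⁻¹ hM
    have heq := h1u _ hcoat hL
    have hgN : g⁻¹ ∈ Subgroup.normalizer (M : Set G) := by
      rw [Cfsg.Agent.Lib.Helper8.mem_normalizer_iff_map_conj]
      exact heq
    rw [normalizer_coatom hG hM (coatom_ne_bot hG hM)] at hgN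
    have := M.inv_mem hgN
    rwa [inv_inv] at this
  rw [Subgroup.mem_set_normalizer_iff]
  intro a
  constructor
  · intro ha
    exact conj_mem_sigmaA_diff hKU hgM ha
  · intro ha
    have := conj_mem_sigmaA_diff hKU (M.inv_mem hgM) ha
    have e : g⁻¹ * (g * a * g⁻¹) * g⁻¹⁻¹ = a := by group
    rwa [e] at this

end Cfsg.Agent.Lib.Helper1.BGKap
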