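/-
helper1: B&G Theorem 14.7-type consequences of the statements of S1430/S1431 (hypothesis forms `T142`, `T143`):
for a standard factorisation `M = K U M_σ` with `K ≠ 1`, `K* = C_{M_σ}(K)`, `Z = K K*`,
`Ẑ = Z \ (K ∪ K*)`:
* `s1370_core`: `Ẑ` is a TI-subset with set-normalizer `Z`;
* `s1371_core`: the union of the `M`-conjugates of `Ẑ` is `A₀(M) \ A(M)`, and it is a TI-subset.
-/
import Cfsg.Agent.Lib.Helper1.BGKap4
import Cfsg.Agent.Lib.Helper1.BGEmb1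
import Cfsg.Agent.Lib.Helper2.BGCorF

set_option autoImplicit false
set_option linter.style.haveILetI false
open Pointwise

namespace Cfsg.Agent.Lib.Helper1.BGZhat

open Cfsg.Agent.Lib.Helper1.BGX
open Cfsg.Agent.Lib.Helper2.BGCor
open Cfsg.Agent.Lib.Helper1.BGKap
open Cfsg.Agent.Lib.Helper1.BGEmb

variable {G : Type*} [Group G]

/-- product decomposition in `A ⊔ B` when `A` normalizes `B` -/
theorem exists_mul_of_mem_sup {A B : Subgroup G} (h : A ≤ Subgroup.normalizer (B : Set G))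
    {z : G} (hz : z ∈ A ⊔ B) : ∃ a ∈ A, ∃ b ∈ B, z = a * b := by
  have h1 : z ∈ ((A ⊔ B : Subgroup G) : Set G) := hz
  rw [Subgroup.coe_mul_of_left_le_normalizer_right A B h] at h1
  obtain ⟨a, ha, b, hb, rfl⟩ := Set.mem_mul.mp h1
  exact ⟨a, ha, b, hb, rfl⟩

/-- product decomposition in `B ⊔ A` when `A` normalizes `B` -/
theorem exists_mul_of_mem_sup' {A B : Subgroup G} (h : A ≤ Subgroup.normalizer (B : Set G))
    {z : G} (hz : z ∈ B ⊔ A) : ∃ b ∈ B, ∃ a ∈ A, z = b * a := by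
  have h1 : z ∈ ((B ⊔ A : Subgroup G) : Set G) := hz
  rw [Subgroup.coe_mul_of_right_le_normalizer_left B A h] at h1
  obtain ⟨b, hb, a, ha, rfl⟩ := Set.mem_mul.mp h1
  exact ⟨b, hb, a, ha, rfl⟩

theorem le_normalizer_of_comm {A B : Subgroup G} (hc : ∀ a ∈ A, ∀ b ∈ B, a * b = b * a) :
    A ≤ Subgroup.normalizer (B : Set G) := by
  intro a ha
  rw [Subgroup.mem_normalizer_iff]
  intro b
  constructor
  · intro hb
    rw [hc a ha b hb, mul_inv_cancel_right]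
    exact hb
  · intro hb
    have h1 := hc a ha _ hb
    have h2 : a * b * a⁻¹ = b := by
      apply mul_left_cancel (a := a)
      rw [h1]
      group
    rw [← h2]
    exact hb

/-- CRT exponents splitting a product of commuting coprime subgroups -/
theorem exists_pow_parts {A B : Subgroup G} [Finite A] [Finite B]
    (hcop : (Nat.card A).Coprime (Nat.card B)) :
    ∃ s t : ℕ, (∀ a ∈ A, a ^ s = a) ∧ (∀ b ∈ B, b ^ s = 1) ∧ (∀ a ∈ A, a ^ t = 1) ∧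
      (∀ b ∈ B, b ^ t = b) := by
  obtain ⟨s, hs1, hs2⟩ := Nat.chineseRemainder hcop 1 0
  obtain ⟨t, ht1, ht2⟩ := Nat.chineseRemainder hcop 0 1
  refine ⟨s, t, ?_, ?_, ?_, ?_⟩
  · intro a ha
    have h1 : s ≡ 1 [MOD orderOf a] := hs1.of_dvd (Subgroup.orderOf_dvd_natCard A ha)
    have := pow_eq_pow_iff_modEq.mpr h1
    simpa using this
  · intro b hb
    have h1 : s ≡ 0 [MOD orderOf b] := hs2.of_dvd (Subgroup.orderOf_dvd_natCard B hb)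
    have := pow_eq_pow_iff_modEq.mpr h1
    simpa using this
  · intro a ha
    have h1 : t ≡ 0 [MOD orderOf a] := ht1.of_dvd (Subgroup.orderOf_dvd_natCard A ha)
    have := pow_eq_pow_iff_modEq.mpr h1
    simpa using this
  · intro b hb
    have h1 : t ≡ 1 [MOD orderOf b] := ht2.of_dvd (Subgroup.orderOf_dvd_natCard B hb)
    have := pow_eq_pow_iff_modEq.mpr h1
    simpa using this

/-- the two components of an element of `Ẑ` are nontrivial powers of it -/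
theorem zhat_parts {K Ks : Subgroup G} [Finite K] [Finite Ks]
    (hc : ∀ a ∈ K, ∀ b ∈ Ks, a * b = b * a) (hcop : (Nat.card K).Coprime (Nat.card Ks)) :
    ∃ s t : ℕ, ∀ z ∈ ((↑(K ⊔ Ks) : Set G) \ ((K : Set G) ∪ ↑Ks)),
      z ^ s ∈ K ∧ z ^ s ≠ 1 ∧ z ^ t ∈ Ks ∧ z ^ t ≠ 1 ∧ z = z ^ s * z ^ t := by
  obtain ⟨s, t, h1, h2, h3, h4⟩ := exists_pow_parts hcop
  refine ⟨s, t, ?_⟩
  rintro z ⟨hz, hz2⟩
  obtain ⟨a, ha, b, hb, rfl⟩ := exists_mul_of_mem_sup (le_normalizer_of_comm hc) hz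
  have hcm : Commute a b := hc a ha b hb
  have e1 : (a * b) ^ s = a := by rw [hcm.mul_pow, h1 a ha, h2 b hb, mul_one]
  have e2 : (a * b) ^ t = b := by rw [hcm.mul_pow, h3 a ha, h4 b hb, one_mul]
  rw [e1, e2]
  refine ⟨ha, ?_, hb, ?_, rfl⟩
  · rintro rfl
    apply hz2
    right
    simpa using hb
  · rintro rfl
    apply hz2
    left
    simpa using ha

/-- the key step: an element conjugating an element of `Ẑ` into `Ẑ` lies in `Z` -/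
theorem mem_sup_of_conj_mem_zhat {M K Ks : Subgroup G} [Finite K] [Finite Ks] (hKsM : Ks ≤ M)
    (hc : ∀ a ∈ K, ∀ b ∈ Ks, a * b = b * a) (hcop : (Nat.card K).Coprime (Nat.card Ks))
    (h1 : ∀ g : G, g ∉ M → Ks ⊓ M.map (MulAut.conj g).toMonoidHom = ⊥)
    (h2 : ∀ g ∈ M, g ∉ K ⊔ Ks → K ⊓ K.map (MulAut.conj g).toMonoidHom = ⊥)
    {g z : G} (hz : z ∈ ((↑(K ⊔ Ks) : Set G) \ ((K : Set G) ∪ ↑Ks)))
    (hgz : g * z * g⁻¹ ∈ ((↑(K ⊔ Ks) : Set G) \ ((K : Set G) ∪ ↑Ks))) : g ∈ K ⊔ Ks := by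
  obtain ⟨s, t, hst⟩ := zhat_parts hc hcop
  obtain ⟨hzs, hzs1, hzt, hzt1, -⟩ := hst z hz
  obtain ⟨hws, -, hwt, -, -⟩ := hst _ hgz
  rw [conj_pow] at hws hwt
  have hgM : g ∈ M := by
    by_contra hgM
    have h3 : g * z ^ t * g⁻¹ ∈ Ks ⊓ M.map (MulAut.conj g).toMonoidHom := by
      refine Subgroup.mem_inf.mpr ⟨hwt, ?_⟩
      exact Subgroup.mem_map.mpr ⟨z ^ t, hKsM hzt, by simp [MulAut.conj_apply]⟩
    rw [h1 g hgM, Subgroup.mem_bot] at h3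
    apply hzt1
    calc z ^ t = g⁻¹ * (g * z ^ t * g⁻¹) * g := by group
      _ = 1 := by rw [h3]; group
  by_contra hgZ
  have h3 : g * z ^ s * g⁻¹ ∈ K ⊓ K.map (MulAut.conj g).toMonoidHom := by
    refine Subgroup.mem_inf.mpr ⟨hws, ?_⟩
    exact Subgroup.mem_map.mpr ⟨z ^ s, hzs, by simp [MulAut.conj_apply]⟩
  rw [h2 g hgM hgZ, Subgroup.mem_bot] at h3
  apply hzs1
  calc z ^ s = g⁻¹ * (g * z ^ s * g⁻¹) * g := by group
    _ = 1 := by rw [h3]; group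

/-- `Ẑ` is nonempty -/
theorem zhat_nonempty {K Ks : Subgroup G} (hK1 : K ≠ ⊥) (hKs1 : Ks ≠ ⊥) (hdisj : K ⊓ Ks = ⊥) :
    ∃ z, z ∈ ((↑(K ⊔ Ks) : Set G) \ ((K : Set G) ∪ ↑Ks)) := by
  obtain ⟨k, hk, hk1⟩ := (Subgroup.ne_bot_iff_exists_ne_one.mp hK1 |> fun ⟨a, ha⟩ =>
    (⟨a.1, a.2, fun h => ha (Subtype.ext h)⟩ : ∃ k, k ∈ K ∧ k ≠ 1))
  obtain ⟨c, hc, hc1⟩ := (Subgroup.ne_bot_iff_exists_ne_one.mp hKs1 |> fun ⟨a, ha⟩ =>
    (⟨a.1, a.2, fun h => ha (Subtype.ext h)⟩ : ∃ k, k ∈ Ks ∧ k ≠ 1))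
  refine ⟨k * c, ?_, ?_⟩
  · exact Subgroup.mul_mem _ (Subgroup.mem_sup_left hk) (Subgroup.mem_sup_right hc)
  · rintro (h | h)
    · have h3 : c ∈ K := by
        have := K.mul_mem (K.inv_mem hk) h
        simpa using this
      have h4 : c ∈ K ⊓ Ks := Subgroup.mem_inf.mpr ⟨h3, hc⟩
      rw [hdisj, Subgroup.mem_bot] at h4
      exact hc1 h4
    · have h3 : k ∈ Ks := by
        have := Ks.mul_mem h (Ks.inv_mem hc)
        simpa using this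
      have h4 : k ∈ K ⊓ Ks := Subgroup.mem_inf.mpr ⟨hk, h3⟩
      rw [hdisj, Subgroup.mem_bot] at h4
      exact hk1 h4

/-- abstract form of S1370 -/
theorem zhat_ti {M K Ks : Subgroup G} [Finite K] [Finite Ks] (hKsM : Ks ≤ M)
    (hc : ∀ a ∈ K, ∀ b ∈ Ks, a * b = b * a) (hcop : (Nat.card K).Coprime (Nat.card Ks))
    (h1 : ∀ g : G, g ∉ M → Ks ⊓ M.map (MulAut.conj g).toMonoidHom = ⊥)
    (h2 : ∀ g ∈ M, g ∉ K ⊔ Ks → K ⊓ K.map (MulAut.conj g).toMonoidHom = ⊥)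
    (hK1 : K ≠ ⊥) (hKs1 : Ks ≠ ⊥) :
    Cfsg.IsTISubset ((↑(K ⊔ Ks) : Set G) \ ((K : Set G) ∪ ↑Ks)) ∧
      Subgroup.normalizer ((↑(K ⊔ Ks) : Set G) \ ((K : Set G) ∪ ↑Ks)) = K ⊔ Ks := by
  have hdisj : K ⊓ Ks = ⊥ := disjoint_iff.mp (Subgroup.disjoint_of_coprime_natCard hcop)
  have hN : Subgroup.normalizer ((↑(K ⊔ Ks) : Set G) \ ((K : Set G) ∪ ↑Ks)) = K ⊔ Ks := by
    apply le_antisymm
    · intro g hg
      obtain ⟨z, hz⟩ := zhat_nonempty hK1 hKs1 hdisj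
      exact mem_sup_of_conj_mem_zhat hKsM hc hcop h1 h2 hz
        ((Subgroup.mem_set_normalizer_iff.mp hg z).mp hz)
    · intro g hg
      have hgZ : g ∈ Subgroup.normalizer ((K ⊔ Ks : Subgroup G) : Set G) := Subgroup.le_normalizer hg
      have hgK : g ∈ Subgroup.normalizer (K : Set G) :=
        (sup_le Subgroup.le_normalizer
          (le_normalizer_of_comm (fun b hb a ha => (hc a ha b hb).symm))) hg
      have hgKs : g ∈ Subgroup.normalizer (Ks : Set G) :=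
        (sup_le (le_normalizer_of_comm hc) Subgroup.le_normalizer) hg
      rw [Subgroup.mem_set_normalizer_iff]
      intro h
      have e1 := Subgroup.mem_normalizer_iff.mp hgZ h
      have e2 := Subgroup.mem_normalizer_iff.mp hgK h
      have e3 := Subgroup.mem_normalizer_iff.mp hgKs h
      simp only [Set.mem_sdiff, Set.mem_union, SetLike.mem_coe]
      rw [e1, e2, e3]
  refine ⟨?_, hN⟩
  intro g hg x hx hgx
  exfalso
  apply hg
  rw [hN]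
  exact mem_sup_of_conj_mem_zhat hKsM hc hcop h1 h2 hx hgx


/-- `|K|` and `|M_σ|` are coprime -/
theorem coprime_card_K_sigmaCore {M K : Subgroup G}
    (hHall : Cfsg.IsPiHallOf (Cfsg.sigma M) (Cfsg.sigmaCore M) M)
    (hK : Cfsg.IsPiHallOf (Cfsg.kappa M) K M) :
    (Nat.card K).Coprime (Nat.card (Cfsg.sigmaCore M)) := by
  apply Nat.coprime_of_dvd
  intro p hp h1 h2
  exact (hK.2.1 p hp h1).2.2.1 (hHall.2.1 p hp h2)

/-- `|K|` and `|K*|` are coprime -/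
theorem coprime_card_K_kstar [Finite G] {M K : Subgroup G}
    (hHall : Cfsg.IsPiHallOf (Cfsg.sigma M) (Cfsg.sigmaCore M) M)
    (hK : Cfsg.IsPiHallOf (Cfsg.kappa M) K M) :
    (Nat.card K).Coprime
      (Nat.card ↥(Cfsg.sigmaCore M ⊓ Subgroup.centralizer (K : Set G))) :=
  Nat.Coprime.coprime_dvd_right (Subgroup.card_dvd_of_le inf_le_left)
    (coprime_card_K_sigmaCore hHall hK)

theorem comm_K_kstar {M K : Subgroup G} :
    ∀ a ∈ K, ∀ b ∈ Cfsg.sigmaCore M ⊓ Subgroup.centralizer (K : Set G), a * b = b * a :=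
  fun a ha _ hb => Subgroup.mem_centralizer_iff.mp (Subgroup.mem_inf.mp hb).2 a ha

/-- **S1370** from the statements of S1430, S1431 and S1350. -/
theorem s1370_core [Finite G] (hG : Cfsg.IsMinSimpleOddOrder G) {M K : Subgroup G}
    (hM : IsCoatom M) (hHall : Cfsg.IsPiHallOf (Cfsg.sigma M) (Cfsg.sigmaCore M) M)
    (hK : Cfsg.IsPiHallOf (Cfsg.kappa M) K M) (hK1 : K ≠ ⊥) (h142 : T142 M K) (h143 : T143 M K) :
    Cfsg.IsTISubset ((↑(K ⊔ (Cfsg.sigmaCore M ⊓ Subgroup.centralizer (K : Set G))) : Set G) \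
        ((K : Set G) ∪ ↑(Cfsg.sigmaCore M ⊓ Subgroup.centralizer (K : Set G)))) ∧
      Subgroup.normalizer ((↑(K ⊔ (Cfsg.sigmaCore M ⊓ Subgroup.centralizer (K : Set G))) : Set G) \
        ((K : Set G) ∪ ↑(Cfsg.sigmaCore M ⊓ Subgroup.centralizer (K : Set G)))) =
        K ⊔ (Cfsg.sigmaCore M ⊓ Subgroup.centralizer (K : Set G)) :=
  zhat_ti (M := M) (inf_le_left.trans hHall.1) comm_K_kstar (coprime_card_K_kstar hHall hK)
    h143.1 h143.2.1 hK1 (kstar_ne_bot hG hM hK hK1 h142)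

/-- Frobenius-type conjugation: if `k` normalizes `U` and `C_U(k) = 1`, every element of the coset `U k`
is a `U`-conjugate of `k`. -/
theorem exists_conj_eq_mul {U K : Subgroup G} [Finite U]
    (hKU : K ≤ Subgroup.normalizer (U : Set G)) {k : G} (hk : k ∈ K)
    (hreg : U ⊓ Subgroup.centralizer ({k} : Set G) = ⊥) {u : G} (hu : u ∈ U) :
    ∃ v ∈ U, u * k = v * k * v⁻¹ := by
  have hkN := hKU hk
  let φ : U → U := fun v => ⟨v.1 * (k * v.1⁻¹ * k⁻¹),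
    U.mul_mem v.2 ((Subgroup.mem_normalizer_iff.mp hkN _).mp (U.inv_mem v.2))⟩
  have hinj : Function.Injective φ := by
    intro v w hvw
    have h1 : v.1 * (k * v.1⁻¹ * k⁻¹) = w.1 * (k * w.1⁻¹ * k⁻¹) := congrArg Subtype.val hvw
    have h2 : w.1⁻¹ * v.1 ∈ U ⊓ Subgroup.centralizer ({k} : Set G) := by
      refine Subgroup.mem_inf.mpr ⟨U.mul_mem (U.inv_mem w.2) v.2, ?_⟩
      rw [Subgroup.mem_centralizer_iff]
      intro x hx
      rw [Set.mem_singleton_iff.mp hx]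
      calc k * (w.1⁻¹ * v.1) = w.1⁻¹ * (w.1 * (k * w.1⁻¹ * k⁻¹)) * (k * v.1) := by group
        _ = w.1⁻¹ * (v.1 * (k * v.1⁻¹ * k⁻¹)) * (k * v.1) := by rw [h1]
        _ = w.1⁻¹ * v.1 * k := by group
    rw [hreg, Subgroup.mem_bot] at h2
    apply Subtype.ext
    calc v.1 = w.1 * (w.1⁻¹ * v.1) := by group
      _ = w.1 := by rw [h2, mul_one]
  have hsurj := Finite.injective_iff_surjective.mp hinj
  obtain ⟨v, hv⟩ := hsurj ⟨u, hu⟩
  refine ⟨v.1, v.2, ?_⟩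
  have h3 : v.1 * (k * v.1⁻¹ * k⁻¹) = u := congrArg Subtype.val hv
  rw [← h3]
  group

/-- `K ∩ M_σ = 1` -/
theorem K_inf_sigmaCore {M K : Subgroup G}
    (hHall : Cfsg.IsPiHallOf (Cfsg.sigma M) (Cfsg.sigmaCore M) M)
    (hK : Cfsg.IsPiHallOf (Cfsg.kappa M) K M) : K ⊓ Cfsg.sigmaCore M = ⊥ :=
  disjoint_iff.mp (Subgroup.disjoint_of_coprime_natCard (coprime_card_K_sigmaCore hHall hK))

/-- `U K` is a complement of `M_σ` in `M` -/
theorem isComplIn_U_sup_K {M K U : Subgroup G}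
    (hHall : Cfsg.IsPiHallOf (Cfsg.sigma M) (Cfsg.sigmaCore M) M)
    (hKU : Cfsg.IsSigmaDecomposition M K U) :
    Cfsg.IsComplIn (U ⊔ K) (Cfsg.sigmaCore M) M := by
  obtain ⟨hUM, hKσM, hUK, hprod⟩ := hKU.compl
  have hKM : K ≤ M := le_sup_left.trans hKσM
  have hKσ := K_inf_sigmaCore hHall hKU.hall
  refine ⟨sup_le hUM hKM, hHall.1, ?_, ?_⟩
  · rw [Subgroup.eq_bot_iff_forall]
    rintro x hx
    obtain ⟨hx1, hx2⟩ := Subgroup.mem_inf.mp hx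
    obtain ⟨u, hu, k, hk, rfl⟩ := exists_mul_of_mem_sup' hKU.normal hx1
    have h1 : u ∈ U ⊓ (K ⊔ Cfsg.sigmaCore M) := by
      refine Subgroup.mem_inf.mpr ⟨hu, ?_⟩
      have e : u = (u * k) * k⁻¹ := by group
      rw [e]
      exact Subgroup.mul_mem _ (Subgroup.mem_sup_right hx2) (Subgroup.mem_sup_left (K.inv_mem hk))
    rw [hUK, Subgroup.mem_bot] at h1
    subst h1
    rw [one_mul] at hx2 ⊢
    have h2 : k ∈ K ⊓ Cfsg.sigmaCore M := Subgroup.mem_inf.mpr ⟨hk, hx2⟩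
    rw [hKσ, Subgroup.mem_bot] at h2
    exact h2
  · intro m hm
    obtain ⟨u, hu, b, hb, rfl⟩ := hprod m hm
    obtain ⟨k, hk, c, hc, rfl⟩ := exists_mul_of_mem_sup (hKM.trans (le_normalizer_sigmaCore M)) hb
    exact ⟨u * k, Subgroup.mul_mem _ (Subgroup.mem_sup_left hu) (Subgroup.mem_sup_right hk), c, hc,
      by group⟩

/-- `K ∩ U M_σ = 1` -/
theorem K_inf_U_sup_sigmaCore {M K U : Subgroup G}
    (hHall : Cfsg.IsPiHallOf (Cfsg.sigma M) (Cfsg.sigmaCore M) M)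
    (hKU : Cfsg.IsSigmaDecomposition M K U) : K ⊓ (U ⊔ Cfsg.sigmaCore M) = ⊥ := by
  obtain ⟨hUM, hKσM, hUK, hprod⟩ := hKU.compl
  have hKσ := K_inf_sigmaCore hHall hKU.hall
  rw [Subgroup.eq_bot_iff_forall]
  rintro x hx
  obtain ⟨hx1, hx2⟩ := Subgroup.mem_inf.mp hx
  obtain ⟨u, hu, c, hc, rfl⟩ := exists_mul_of_mem_sup (hUM.trans (le_normalizer_sigmaCore M)) hx2
  have h1 : u ∈ U ⊓ (K ⊔ Cfsg.sigmaCore M) := by
    refine Subgroup.mem_inf.mpr ⟨hu, ?_⟩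
    have e : u = (u * c) * c⁻¹ := by group
    rw [e]
    exact Subgroup.mul_mem _ (Subgroup.mem_sup_left hx1)
      (Subgroup.mem_sup_right ((Cfsg.sigmaCore M).inv_mem hc))
  rw [hUK, Subgroup.mem_bot] at h1
  subst h1
  rw [one_mul] at hx1 ⊢
  have h2 : c ∈ K ⊓ Cfsg.sigmaCore M := Subgroup.mem_inf.mpr ⟨hx1, hc⟩
  rw [hKσ, Subgroup.mem_bot] at h2
  exact h2

/-- splitting an element into commuting `π`- and `π'`-parts, both powers of it -/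
theorem exists_pi_parts [Finite G] (π : Set ℕ) (a : G) :
    ∃ s t : ℕ, a = a ^ s * a ^ t ∧ (∀ p : ℕ, p.Prime → p ∣ orderOf (a ^ s) → p ∈ π) ∧
      (∀ p : ℕ, p.Prime → p ∣ orderOf (a ^ t) → p ∉ π) := by
  obtain ⟨n₁, n₂, hn, h1, h2⟩ :=
    Cfsg.Agent.Lib.Helper20.exists_pi_decomp π (orderOf a) (orderOf_pos a).ne'
  have hcop : n₁.Coprime n₂ := Cfsg.Agent.Lib.Helper20.coprime_of_isPiNum h1 h2
  obtain ⟨s, hs1, hs2⟩ := Nat.chineseRemainder hcop 1 0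
  obtain ⟨t, ht1, ht2⟩ := Nat.chineseRemainder hcop 0 1
  refine ⟨s, t, ?_, ?_, ?_⟩
  · rw [← pow_add]
    have e1 : s + t ≡ 1 [MOD n₁] := by simpa using hs1.add ht1
    have e2 : s + t ≡ 1 [MOD n₂] := by simpa using hs2.add ht2
    have e3 : s + t ≡ 1 [MOD orderOf a] := by
      rw [hn]
      exact (Nat.modEq_and_modEq_iff_modEq_mul hcop).mp ⟨e1, e2⟩
    have := pow_eq_pow_iff_modEq.mpr e3
    simpa using this.symm
  · intro p hp hpd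
    apply h1 p hp
    refine hpd.trans (orderOf_dvd_of_pow_eq_one ?_)
    rw [← pow_mul]
    apply orderOf_dvd_iff_pow_eq_one.mp
    rw [hn, mul_comm s n₁]
    exact Nat.mul_dvd_mul_left n₁ ((Nat.modEq_zero_iff_dvd).mp hs2)
  · intro p hp hpd hpπ
    apply h2 p hp hpπ
    refine hpd.trans (orderOf_dvd_of_pow_eq_one ?_)
    rw [← pow_mul]
    apply orderOf_dvd_iff_pow_eq_one.mp
    rw [hn, mul_comm n₁ n₂, mul_comm t n₂]
    exact Nat.mul_dvd_mul_left n₂ ((Nat.modEq_zero_iff_dvd).mp ht1)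


/-- (⊇) of S1371: an element of `M` outside `U M_σ`, not `M`-conjugate into `K^#`, is `M`-conjugate
into `Ẑ`. -/
theorem conj_mem_zhat_of_mem [Finite G] (hG : Cfsg.IsMinSimpleOddOrder G) {M K U : Subgroup G}
    (hM : IsCoatom M) (hHall : Cfsg.IsPiHallOf (Cfsg.sigma M) (Cfsg.sigmaCore M) M)
    (hKU : Cfsg.IsSigmaDecomposition M K U) (h142 : T142 M K)
    {a : G} (haM : a ∈ M) (haU : a ∉ U ⊔ Cfsg.sigmaCore M)
    (haK : ¬ ∃ k ∈ K, k ≠ 1 ∧ ∃ m ∈ M, a = m * k * m⁻¹) :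
    ∃ m ∈ M, ∃ z ∈ ((↑(K ⊔ (Cfsg.sigmaCore M ⊓ Subgroup.centralizer (K : Set G))) : Set G) \
        ((K : Set G) ∪ ↑(Cfsg.sigmaCore M ⊓ Subgroup.centralizer (K : Set G)))),
      a = m * z * m⁻¹ := by
  obtain ⟨hUM, hKσM, hUK, hprod⟩ := hKU.compl
  have hdisj : K ⊓ (Cfsg.sigmaCore M ⊓ Subgroup.centralizer (K : Set G)) = ⊥ :=
    disjoint_iff.mp (Subgroup.disjoint_of_coprime_natCard (coprime_card_K_kstar hHall hKU.hall))
  obtain ⟨s, t, hast, hs, ht⟩ := exists_pi_parts (Cfsg.sigma M) a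
  have hasM : a ^ s ∈ Cfsg.sigmaCore M := by
    have h1 : Subgroup.zpowers (a ^ s) ≤ Cfsg.sigmaCore M :=
      Cfsg.Agent.Lib.Helper19.BG123.le_sigmaCore_of_primes hG hM
        (Subgroup.zpowers_le.mpr (M.pow_mem haM s))
        (fun r hr hrd => hs r hr (by rwa [Nat.card_zpowers] at hrd))
    exact h1 (Subgroup.mem_zpowers _)
  have hE := isComplIn_U_sup_K hHall hKU
  obtain ⟨g, hgM, hgE⟩ := exists_conj_le_compl hG hM hHall hE (Y := Subgroup.zpowers (a ^ t))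
    (Subgroup.zpowers_le.mpr (M.pow_mem haM t))
    (fun p hp hpd => ht p hp (by rwa [Nat.card_zpowers] at hpd))
  have he : g * a ^ t * g⁻¹ ∈ U ⊔ K :=
    hgE (Subgroup.mem_map.mpr ⟨a ^ t, Subgroup.mem_zpowers _, by simp [MulAut.conj_apply]⟩)
  obtain ⟨u, hu, k, hk, huk⟩ := exists_mul_of_mem_sup' hKU.normal he
  have hsplit : ∀ x : G, x * a * x⁻¹ = (x * a ^ s * x⁻¹) * (x * a ^ t * x⁻¹) := by
    intro x
    conv_lhs => rw [hast]
    group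
  have hk1 : k ≠ 1 := by
    rintro rfl
    apply haU
    have h1 : g * a * g⁻¹ ∈ U ⊔ Cfsg.sigmaCore M := by
      rw [hsplit g, huk, mul_one]
      exact Subgroup.mul_mem _ (Subgroup.mem_sup_right (conj_mem_sigmaCore hgM hasM))
        (Subgroup.mem_sup_left hu)
    exact (Subgroup.mem_normalizer_iff.mp (le_normalizer_U_sup_sigmaCore hKU hgM) a).mpr h1
  obtain ⟨v, hv, hvk⟩ := exists_conj_eq_mul hKU.normal hk (s1353_core h142 hKU k hk hk1) hu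
  have hmM : v⁻¹ * g ∈ M := M.mul_mem (M.inv_mem (hUM hv)) hgM
  have h2 : (v⁻¹ * g) * a ^ t * (v⁻¹ * g)⁻¹ = k := by
    calc (v⁻¹ * g) * a ^ t * (v⁻¹ * g)⁻¹ = v⁻¹ * (g * a ^ t * g⁻¹) * v := by group
      _ = v⁻¹ * (v * k * v⁻¹) * v := by rw [huk, hvk]
      _ = k := by group
  have h3 : (v⁻¹ * g) * a ^ s * (v⁻¹ * g)⁻¹ ∈
      Cfsg.sigmaCore M ⊓ Subgroup.centralizer (K : Set G) := by
    rw [← h142.1 k hk hk1]
    refine Subgroup.mem_inf.mpr ⟨conj_mem_sigmaCore hmM hasM, ?_⟩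
    rw [Subgroup.mem_centralizer_iff]
    intro x hx
    rw [Set.mem_singleton_iff.mp hx, ← h2]
    calc (v⁻¹ * g) * a ^ t * (v⁻¹ * g)⁻¹ * ((v⁻¹ * g) * a ^ s * (v⁻¹ * g)⁻¹)
        = (v⁻¹ * g) * (a ^ t * a ^ s) * (v⁻¹ * g)⁻¹ := by group
      _ = (v⁻¹ * g) * (a ^ s * a ^ t) * (v⁻¹ * g)⁻¹ := by
        rw [← pow_add, ← pow_add, add_comm]
      _ = (v⁻¹ * g) * a ^ s * (v⁻¹ * g)⁻¹ * ((v⁻¹ * g) * a ^ t * (v⁻¹ * g)⁻¹) := by group
  have h4 : (v⁻¹ * g) * a * (v⁻¹ * g)⁻¹ = ((v⁻¹ * g) * a ^ s * (v⁻¹ * g)⁻¹) * k := by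
    rw [hsplit (v⁻¹ * g), h2]
  refine ⟨(v⁻¹ * g)⁻¹, M.inv_mem hmM, ((v⁻¹ * g) * a ^ s * (v⁻¹ * g)⁻¹) * k, ⟨?_, ?_⟩, ?_⟩
  · exact Subgroup.mul_mem _ (Subgroup.mem_sup_right h3) (Subgroup.mem_sup_left hk)
  · rintro (h | h)
    · have h5 : (v⁻¹ * g) * a ^ s * (v⁻¹ * g)⁻¹ ∈ K := by
        have := K.mul_mem h (K.inv_mem hk)
        simpa using this
      have h6 : (v⁻¹ * g) * a ^ s * (v⁻¹ * g)⁻¹ ∈
          K ⊓ (Cfsg.sigmaCore M ⊓ Subgroup.centralizer (K : Set G)) := Subgroup.mem_inf.mpr ⟨h5, h3⟩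
      rw [hdisj, Subgroup.mem_bot] at h6
      apply haK
      refine ⟨k, hk, hk1, (v⁻¹ * g)⁻¹, M.inv_mem hmM, ?_⟩
      rw [h6, one_mul] at h4
      rw [← h4]
      group
    · have h5 : k ∈ Cfsg.sigmaCore M ⊓ Subgroup.centralizer (K : Set G) := by
        have := Subgroup.mul_mem _ (Subgroup.inv_mem _ h3) h
        rwa [inv_mul_cancel_left] at this
      have h6 : k ∈ K ⊓ (Cfsg.sigmaCore M ⊓ Subgroup.centralizer (K : Set G)) :=
        Subgroup.mem_inf.mpr ⟨hk, h5⟩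
      rw [hdisj, Subgroup.mem_bot] at h6
      exact hk1 h6
  · rw [← h4]
    group

/-- (⊆) of S1371: `M`-conjugates of elements of `Ẑ` lie in `A₀(M) \ A(M)`. -/
theorem conj_zhat_mem {M K U : Subgroup G} [Finite G]
    (hHall : Cfsg.IsPiHallOf (Cfsg.sigma M) (Cfsg.sigmaCore M) M)
    (hKU : Cfsg.IsSigmaDecomposition M K U) {m z : G} (hm : m ∈ M)
    (hz : z ∈ ((↑(K ⊔ (Cfsg.sigmaCore M ⊓ Subgroup.centralizer (K : Set G))) : Set G) \
        ((K : Set G) ∪ ↑(Cfsg.sigmaCore M ⊓ Subgroup.centralizer (K : Set G))))) :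
    m * z * m⁻¹ ∈ Cfsg.sigmaA0 M K \ Cfsg.sigmaA M U := by
  obtain ⟨hUM, hKσM, hUK, hprod⟩ := hKU.compl
  have hKM : K ≤ M := le_sup_left.trans hKσM
  have hKσ := K_inf_sigmaCore hHall hKU.hall
  obtain ⟨s, t, hst⟩ := zhat_parts (K := K)
    (Ks := Cfsg.sigmaCore M ⊓ Subgroup.centralizer (K : Set G)) comm_K_kstar
    (coprime_card_K_kstar hHall hKU.hall)
  obtain ⟨hzs, hzs1, hzt, hzt1, hzst⟩ := hst z hz
  have hzM : z ∈ M := (sup_le hKM (inf_le_left.trans hHall.1)) hz.1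
  have hzt' : z ^ t ∈ Cfsg.sigmaCore M := (Subgroup.mem_inf.mp hzt).1
  refine ⟨⟨⟨M.mul_mem (M.mul_mem hm hzM) (M.inv_mem hm), m * z ^ t * m⁻¹,
    conj_mem_sigmaCore hm hzt', ?_, ?_⟩, ?_⟩, ?_⟩
  · intro h
    apply hzt1
    calc z ^ t = m⁻¹ * (m * z ^ t * m⁻¹) * m := by group
      _ = 1 := by rw [h]; group
  · calc m * z * m⁻¹ * (m * z ^ t * m⁻¹) = m * (z * z ^ t) * m⁻¹ := by group
      _ = m * (z ^ t * z) * m⁻¹ := by rw [← pow_succ', ← pow_succ]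
      _ = m * z ^ t * m⁻¹ * (m * z * m⁻¹) := by group
  · rintro ⟨k, hk, hk1, m', hm', heq⟩
    have h1 : (m * z * m⁻¹) ^ t = (m' * k * m'⁻¹) ^ t := by rw [heq]
    rw [conj_pow, conj_pow] at h1
    have h2 : k ^ t = (m'⁻¹ * m) * z ^ t * (m'⁻¹ * m)⁻¹ := by
      calc k ^ t = m'⁻¹ * (m' * k ^ t * m'⁻¹) * m' := by group
        _ = m'⁻¹ * (m * z ^ t * m⁻¹) * m' := by rw [h1]
        _ = (m'⁻¹ * m) * z ^ t * (m'⁻¹ * m)⁻¹ := by group
    have h3 : k ^ t ∈ K ⊓ Cfsg.sigmaCore M := by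
      refine Subgroup.mem_inf.mpr ⟨K.pow_mem hk t, ?_⟩
      rw [h2]
      exact conj_mem_sigmaCore (M.mul_mem (M.inv_mem hm') hm) hzt'
    rw [hKσ, Subgroup.mem_bot] at h3
    apply hzt1
    calc z ^ t = (m'⁻¹ * m)⁻¹ * ((m'⁻¹ * m) * z ^ t * (m'⁻¹ * m)⁻¹) * (m'⁻¹ * m) := by group
      _ = 1 := by rw [← h2, h3]; group
  · rintro ⟨-, hU⟩
    have h1 : z ∈ U ⊔ Cfsg.sigmaCore M :=
      (Subgroup.mem_normalizer_iff.mp (le_normalizer_U_sup_sigmaCore hKU hm) z).mpr hU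
    have h2 : z ^ s ∈ U ⊔ Cfsg.sigmaCore M := Subgroup.pow_mem _ h1 s
    have h3 : z ^ s ∈ K ⊓ (U ⊔ Cfsg.sigmaCore M) := Subgroup.mem_inf.mpr ⟨hzs, h2⟩
    rw [K_inf_U_sup_sigmaCore hHall hKU, Subgroup.mem_bot] at h3
    exact hzs1 h3

/-- **S1371** from the statements of S1430, S1431 and S1350. -/
theorem s1371_core [Finite G] (hG : Cfsg.IsMinSimpleOddOrder G) {M K U : Subgroup G}
    (hM : IsCoatom M) (hHall : Cfsg.IsPiHallOf (Cfsg.sigma M) (Cfsg.sigmaCore M) M)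
    (hKU : Cfsg.IsSigmaDecomposition M K U) (h142 : T142 M K) (h143 : T143 M K) :
    {a : G | ∃ m ∈ M, ∃ z ∈ ((↑(K ⊔ (Cfsg.sigmaCore M ⊓ Subgroup.centralizer (K : Set G))) : Set G) \
        ((K : Set G) ∪ ↑(Cfsg.sigmaCore M ⊓ Subgroup.centralizer (K : Set G)))), a = m * z * m⁻¹} =
        Cfsg.sigmaA0 M K \ Cfsg.sigmaA M U ∧
      Cfsg.IsTISubset (Cfsg.sigmaA0 M K \ Cfsg.sigmaA M U) := by
  obtain ⟨hUM, hKσM, hUK, hprod⟩ := hKU.compl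
  have hKM : K ≤ M := le_sup_left.trans hKσM
  have hZM : K ⊔ (Cfsg.sigmaCore M ⊓ Subgroup.centralizer (K : Set G)) ≤ M :=
    sup_le hKM (inf_le_left.trans hHall.1)
  have hEq : {a : G | ∃ m ∈ M, ∃ z ∈ ((↑(K ⊔ (Cfsg.sigmaCore M ⊓
        Subgroup.centralizer (K : Set G))) : Set G) \
        ((K : Set G) ∪ ↑(Cfsg.sigmaCore M ⊓ Subgroup.centralizer (K : Set G)))), a = m * z * m⁻¹} =
        Cfsg.sigmaA0 M K \ Cfsg.sigmaA M U := by
    ext a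
    constructor
    · rintro ⟨m, hm, z, hz, rfl⟩
      exact conj_zhat_mem hHall hKU hm hz
    · rintro ⟨⟨haH, haK⟩, haA⟩
      exact conj_mem_zhat_of_mem hG hM hHall hKU h142 haH.1 (fun h => haA ⟨haH, h⟩) haK
  refine ⟨hEq, ?_⟩
  rw [← hEq]
  rintro g hg x ⟨m, hm, z, hz, rfl⟩ ⟨m', hm', z', hz', heq⟩
  exfalso
  apply hg
  have h1 : (m'⁻¹ * g * m) * z * (m'⁻¹ * g * m)⁻¹ = z' := by
    calc (m'⁻¹ * g * m) * z * (m'⁻¹ * g * m)⁻¹ = m'⁻¹ * (g * (m * z * m⁻¹) * g⁻¹) * m' := by group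
      _ = m'⁻¹ * (m' * z' * m'⁻¹) * m' := by rw [heq]
      _ = z' := by group
  have h2 : m'⁻¹ * g * m ∈ K ⊔ (Cfsg.sigmaCore M ⊓ Subgroup.centralizer (K : Set G)) :=
    mem_sup_of_conj_mem_zhat (M := M) (inf_le_left.trans hHall.1) comm_K_kstar
      (coprime_card_K_kstar hHall hKU.hall) h143.1 h143.2.1 hz (h1 ▸ hz')
  have h3 : m'⁻¹ * g * m ∈ M := hZM h2
  have hgM : g ∈ M := by
    have h4 := M.mul_mem (M.mul_mem hm' h3) (M.inv_mem hm)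
    have e : m' * (m'⁻¹ * g * m) * m⁻¹ = g := by group
    rwa [e] at h4
  rw [Subgroup.mem_set_normalizer_iff]
  intro h
  constructor
  · rintro ⟨n, hn, w, hw, rfl⟩
    exact ⟨g * n, M.mul_mem hgM hn, w, hw, by group⟩
  · rintro ⟨n, hn, w, hw, e⟩
    refine ⟨g⁻¹ * n, M.mul_mem (M.inv_mem hgM) hn, w, hw, ?_⟩
    calc h = g⁻¹ * (g * h * g⁻¹) * g := by group
      _ = g⁻¹ * (n * w * n⁻¹) * g := by rw [e]
      _ = g⁻¹ * n * w * (g⁻¹ * n)⁻¹ := by group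

end Cfsg.Agent.Lib.Helper1.BGZhat
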