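/-
helper1: B&G Theorem 15.2, parts needed for S1364 (`K* ≤ M_F`, `M_F` not cyclic), in hypothesis form.
* `le_fittingHallOf`: a nilpotent normal Hall subgroup of `M` lies in `M_F`.
* `kstar_le_fittingOf`: for `M = M_σ K` (`U = 1`) with `|K*|` prime, `K* ≤ F(M_σ)`.
-/
import Cfsg.Agent.Lib.Helper1.BGZhat
import Cfsg.Agent.Lib.Helper9.FittingHall
import Cfsg.Agent.Lib.Helper9.TypeP
import Cfsg.Agent.Lib.Helper17.PrimeAct4
import Cfsg.Agent.Lib.Helper17.BGFitA
import Cfsg.Agent.Lib.Helper17.CoprimeGen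

set_option autoImplicit false
set_option linter.style.haveILetI false
open scoped commutatorElement
open Pointwise

namespace Cfsg.Agent.Lib.Helper1.BG152

open Cfsg.Agent.Lib.Helper1.BGX
open Cfsg.Agent.Lib.Helper2.BGCor
open Cfsg.Agent.Lib.Helper1.BGKap
open Cfsg.Agent.Lib.Helper1.BGEmb
open Cfsg.Agent.Lib.Helper1.BGZhat

variable {G : Type*} [Group G]

/-- a nilpotent subgroup `N ≤ M` normalized by `M` with `(|N|, |M:N|) = 1` lies in `M_F`. -/
theorem le_fittingHallOf [Finite G] {M N : Subgroup G} (hNM : N ≤ M)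
    (hn : M ≤ Subgroup.normalizer (N : Set G)) (hnil : Group.IsNilpotent N)
    (hcop : (Nat.card N).Coprime (N.relIndex M)) : N ≤ Cfsg.fittingHallOf M := by
  have hnorm : (N.subgroupOf M).Normal :=
    (Subgroup.normal_subgroupOf_iff_le_normalizer hNM).mpr hn
  haveI := hnil
  have h1 : Group.IsNilpotent ↥(N.subgroupOf M) :=
    Group.nilpotent_of_mulEquiv (Subgroup.subgroupOfEquivOfLe hNM).symm
  have h2 : (Nat.card ↥(N.subgroupOf M)).Coprime (N.subgroupOf M).index := by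
    rw [Nat.card_congr (Subgroup.subgroupOfEquivOfLe hNM).toEquiv]
    exact hcop
  have h3 := Cfsg.Agent.Lib.Helper9.le_fittingHall hnorm h1 h2
  intro x hx
  exact ⟨⟨x, hNM hx⟩, h3 (Subgroup.mem_subgroupOf.mpr hx), rfl⟩

/-- if `M_σ` is nilpotent then `M_σ ≤ M_F` -/
theorem sigmaCore_le_fittingHallOf [Finite G] {M : Subgroup G}
    (hHall : Cfsg.IsPiHallOf (Cfsg.sigma M) (Cfsg.sigmaCore M) M)
    (hnil : Group.IsNilpotent (Cfsg.sigmaCore M)) :
    Cfsg.sigmaCore M ≤ Cfsg.fittingHallOf M := by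
  apply le_fittingHallOf hHall.1 (le_normalizer_sigmaCore M) hnil
  apply Nat.coprime_of_dvd
  intro p hp h1 h2
  exact hHall.2.2 p hp (hHall.2.1 p hp h1) h2

/-- `M_F` is a Hall subgroup of `M` -/
theorem coprime_card_fittingHallOf [Finite G] (M : Subgroup G) :
    (Nat.card (Cfsg.fittingHallOf M)).Coprime ((Cfsg.fittingHallOf M).relIndex M) := by
  have h1 := Cfsg.Agent.Lib.Helper9.fittingHall_coprime ↥M
  rw [← Cfsg.Agent.Lib.Helper9.card_fittingHallOf] at h1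
  have h2 : (Cfsg.fittingHallOf M).relIndex M = (Cfsg.fittingHall ↥M).index := by
    unfold Subgroup.relIndex Cfsg.fittingHallOf
    congr 1
    ext x
    rw [Subgroup.mem_subgroupOf, Subgroup.mem_map]
    constructor
    · rintro ⟨y, hy, hyx⟩
      have : y = x := Subtype.ext hyx
      rwa [← this]
    · intro hx
      exact ⟨x, hx, rfl⟩
  rw [h2]
  exact h1

theorem fittingHallOf_le [Finite G] (M : Subgroup G) : Cfsg.fittingHallOf M ≤ M := by
  rintro _ ⟨y, -, rfl⟩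
  exact y.2

/-- a `p`-subgroup of `M` lies in `M_F` as soon as `p` divides `|M_F|` -/
theorem le_fittingHallOf_of_isPGroup [Finite G] {M X : Subgroup G} {p : ℕ} [Fact p.Prime]
    (hXM : X ≤ M) (hX : IsPGroup p X) (hp : p ∣ Nat.card (Cfsg.fittingHallOf M)) :
    X ≤ Cfsg.fittingHallOf M := by
  have hpp : p.Prime := Fact.out
  apply Cfsg.Agent.Lib.Helper19.BG123.le_of_coprime_relIndex (fittingHallOf_le M) hXM
    (hXM.trans (Cfsg.Agent.Lib.Helper9.le_normalizer_fittingHallOf M))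
  obtain ⟨n, hn⟩ := IsPGroup.iff_card.mp hX
  rw [hn]
  apply Nat.Coprime.pow_left
  rw [Nat.Prime.coprime_iff_not_dvd hpp]
  intro h
  have := Nat.eq_one_of_dvd_coprimes (coprime_card_fittingHallOf M) hp h
  exact hpp.one_lt.ne' this


theorem mem_centralizer_zpowers_iff {x y : G} :
    y ∈ Subgroup.centralizer ((Subgroup.zpowers x : Subgroup G) : Set G) ↔
      y ∈ Subgroup.centralizer ({x} : Set G) := by
  constructor
  · intro h
    rw [Subgroup.mem_centralizer_iff] at h ⊢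
    intro z hz
    rw [Set.mem_singleton_iff.mp hz]
    exact h x (Subgroup.mem_zpowers x)
  · intro h
    rw [Subgroup.mem_centralizer_iff] at h ⊢
    intro z hz
    obtain ⟨j, rfl⟩ := Subgroup.mem_zpowers_iff.mp hz
    have h1 : Commute x y := h x rfl
    exact (h1.zpow_left j).eq

/-- For `M = M_σ K` (so `[M_σ, K] = M_σ`) with `|K*|` prime: `K* ≤ F(M_σ)`. -/
theorem kstar_le_fittingOf [Finite G] (hG : Cfsg.IsMinSimpleOddOrder G) {M K : Subgroup G}
    (hM : IsCoatom M) (hHall : Cfsg.IsPiHallOf (Cfsg.sigma M) (Cfsg.sigmaCore M) M)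
    (hK : Cfsg.IsPiHallOf (Cfsg.kappa M) K M) (hK1 : K ≠ ⊥) (h142 : T142 M K)
    (h26b : ⁅Cfsg.sigmaCore M, K⁆ = Cfsg.sigmaCore M)
    (hq : (Nat.card ↥(Cfsg.sigmaCore M ⊓ Subgroup.centralizer (K : Set G))).Prime) :
    Cfsg.sigmaCore M ⊓ Subgroup.centralizer (K : Set G) ≤ Cfsg.fittingOf (Cfsg.sigmaCore M) := by
  set Ks := Cfsg.sigmaCore M ⊓ Subgroup.centralizer (K : Set G) with hKs
  set F := Cfsg.fittingOf (Cfsg.sigmaCore M) with hF
  have hFσ : F ≤ Cfsg.sigmaCore M := Cfsg.Agent.Lib.Helper17.PrimeAct.fittingOf_le _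
  have hKM : K ≤ M := hK.1
  have hσN : M ≤ Subgroup.normalizer (Cfsg.sigmaCore M : Set G) := le_normalizer_sigmaCore M
  have hFN : M ≤ Subgroup.normalizer (F : Set G) :=
    hσN.trans (Cfsg.Agent.Lib.Helper17.PrimeAct.normalizer_le_normalizer_fittingOf _)
  by_contra hnot
  have hbot : Ks ⊓ F = ⊥ := by
    haveI : Fact (Nat.card ↥Ks).Prime := ⟨hq⟩
    rcases Subgroup.eq_bot_or_eq_top_of_prime_card ((Ks ⊓ F).subgroupOf Ks) with h | h
    · rw [Subgroup.subgroupOf_eq_bot] at h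
      have h2 := disjoint_iff.mp h
      rwa [inf_eq_left.mpr inf_le_left] at h2
    · rw [Subgroup.subgroupOf_eq_top] at h
      exact absurd (h.trans inf_le_right) hnot
  obtain ⟨k, hk, hk1⟩ : ∃ k ∈ K, k ≠ 1 := by
    obtain ⟨a, ha⟩ := Subgroup.ne_bot_iff_exists_ne_one.mp hK1
    exact ⟨a.1, a.2, fun h => ha (Subtype.ext h)⟩
  obtain ⟨j, hj⟩ := exists_pow_prime_order hk1
  rw [Nat.card_zpowers] at hj
  have hxK : k ^ j ∈ K := K.pow_mem hk j
  haveI : Group.IsSolvable ↥M := hG.2.2.2 M hM.1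
  have hsolv : Group.IsSolvable ↥(Cfsg.sigmaCore M) :=
    Group.isSolvable_of_isSolvable_injective (Subgroup.inclusion_injective (sigmaCore_le M))
  have hodd : Odd (Nat.card ↥(Cfsg.sigmaCore M)) := odd_card_subgroup hG.1 _
  -- every element of `zpowers (k^j)` has its commutators with `M_σ` in `F`
  have hcomm : ∀ y ∈ Subgroup.zpowers (k ^ j), ∀ s ∈ Cfsg.sigmaCore M, ⁅s, y⁆ ∈ F := by
    intro y hy s hs
    by_cases hy1 : y = 1
    · rw [hy1, commutatorElement_one_right]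
      exact F.one_mem
    have hyK : y ∈ K := (Subgroup.zpowers_le.mpr hxK) hy
    have hyr : y ^ orderOf (k ^ j) = 1 := by
      obtain ⟨i, rfl⟩ := Subgroup.mem_zpowers_iff.mp hy
      rw [← zpow_natCast, ← zpow_mul, mul_comm, zpow_mul, zpow_natCast, pow_orderOf_eq_one,
        one_zpow]
    have hrσ : ¬ orderOf (k ^ j) ∣ Nat.card ↥(Cfsg.sigmaCore M) := by
      intro hd
      have h1 : orderOf (k ^ j) ∈ Cfsg.kappa M :=
        hK.2.1 _ hj (Subgroup.orderOf_dvd_natCard K hxK)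
      exact h1.2.2.1 (hHall.2.1 _ hj hd)
    refine Cfsg.Agent.Lib.Helper17.PrimeAct.comm_mem_fittingOf y hj hyr _ (Cfsg.sigmaCore M) rfl
      (hσN (hKM hyK)) hsolv hodd hrσ ?_ s hs
    intro f hf hyf
    have h1 : f ∈ Cfsg.sigmaCore M ⊓ Subgroup.centralizer ({y} : Set G) := by
      refine Subgroup.mem_inf.mpr ⟨hFσ hf, ?_⟩
      rw [Subgroup.mem_centralizer_iff]
      intro z hz
      rw [Set.mem_singleton_iff.mp hz]
      exact hyf
    rw [h142.1 y hyK hy1] at h1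
    have h2 : f ∈ Ks ⊓ F := Subgroup.mem_inf.mpr ⟨h1, hf⟩
    rw [hbot, Subgroup.mem_bot] at h2
    exact h2
  have hx1 : k ^ j ≠ 1 := by
    intro h
    rw [h, orderOf_one] at hj
    exact Nat.not_prime_one hj
  have hrσ : ¬ orderOf (k ^ j) ∣ Nat.card ↥(Cfsg.sigmaCore M) := by
    intro hd
    have h1 : orderOf (k ^ j) ∈ Cfsg.kappa M :=
      hK.2.1 _ hj (Subgroup.orderOf_dvd_natCard K hxK)
    exact h1.2.2.1 (hHall.2.1 _ hj hd)
  have hAK : Subgroup.zpowers (k ^ j) ≤ Subgroup.normalizer (Cfsg.sigmaCore M : Set G) :=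
    (Subgroup.zpowers_le.mpr hxK).trans (hKM.trans hσN)
  have hcopA : (Nat.card ↥(Subgroup.zpowers (k ^ j))).Coprime
      (Nat.card ↥(Cfsg.sigmaCore M)) := by
    rw [Nat.card_zpowers]
    exact (Nat.Prime.coprime_iff_not_dvd hj).mpr hrσ
  have hdec := Cfsg.Agent.Lib.Helper17.le_centralizer_sup_commutator (Subgroup.zpowers (k ^ j))
    (Cfsg.sigmaCore M) hAK hcopA (Or.inr hsolv)
  have h1 : Cfsg.sigmaCore M ⊓
      Subgroup.centralizer ((Subgroup.zpowers (k ^ j) : Subgroup G) : Set G) ≤ Ks := by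
    intro y hy
    obtain ⟨hy1, hy2⟩ := Subgroup.mem_inf.mp hy
    rw [hKs, ← h142.1 (k ^ j) hxK hx1]
    exact Subgroup.mem_inf.mpr ⟨hy1, mem_centralizer_zpowers_iff.mp hy2⟩
  have h2 : ⁅Cfsg.sigmaCore M, Subgroup.zpowers (k ^ j)⁆ ≤ F := by
    rw [Subgroup.commutator_le]
    intro s hs y hy
    exact hcomm y hy s hs
  have h3 : Cfsg.sigmaCore M ≤ Ks ⊔ F := hdec.trans (sup_le_sup h1 h2)
  have hKsM : Ks ≤ M := inf_le_left.trans hHall.1
  have h4 : ⁅Cfsg.sigmaCore M, K⁆ ≤ F := by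
    rw [Subgroup.commutator_le]
    intro s hs y hy
    obtain ⟨c, hc, f, hf, rfl⟩ := exists_mul_of_mem_sup (A := Ks) (B := F) (hKsM.trans hFN) (h3 hs)
    rw [Cfsg.Agent.Lib.Helper17.PrimeAct.comm_mul_left_eq]
    have hcy : ⁅c, y⁆ = 1 := by
      rw [commutatorElement_eq_one_iff_commute]
      exact (Subgroup.mem_centralizer_iff.mp (Subgroup.mem_inf.mp hc).2 y hy).symm
    rw [hcy, mul_one]
    have hfy : ⁅f, y⁆ ∈ F :=
      Cfsg.Agent.Lib.Helper17.PrimeAct.comm_mem_of_normalizer F f y hf (hFN (hKM hy))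
    exact (Subgroup.mem_normalizer_iff.mp (hFN (hKsM hc)) _).mp hfy
  apply hnot
  rw [h26b] at h4
  exact inf_le_left.trans h4

end Cfsg.Agent.Lib.Helper1.BG152
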