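/-
helper1: B&G Theorem 15.2 (P1 case), Thompson step: for `M = M_σ K` with `K* ≤ D := O_q(M_σ)`,
`M_σ / D` is nilpotent (fixed-point-free action of `K`), `D` is a Sylow `q`-subgroup of `M` and `D ≤ M_F`.
-/
import Cfsg.Agent.Lib.Helper1.BG152A
import Cfsg.Agent.Lib.Helper24.BG36NabA
import Cfsg.Agent.Lib.Helper17.FrobCount2

set_option autoImplicit false
set_option linter.style.haveILetI false
open scoped commutatorElement
open Pointwise

namespace Cfsg.Agent.Lib.Helper1.BG152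

open Cfsg.Agent.Lib.Helper1.BGX
open Cfsg.Agent.Lib.Helper2.BGCor
open Cfsg.Agent.Lib.Helper1.BGKap
open Cfsg.Agent.Lib.Helper1.BGEmb
open Cfsg.Agent.Lib.Helper1.BGZhat
open Cfsg.Agent.Lib.Helper24.BG36Nab

variable {G : Type*} [Group G]

/-- Thompson: if `K* ≤ D ≤ M_σ`, `D ◁ M`, then `M_σ / D` is nilpotent. -/
theorem im_sigmaCore_nilpotent [Finite G] (hG : Cfsg.IsMinSimpleOddOrder G) {M K D : Subgroup G}
    (hM : IsCoatom M) (hHall : Cfsg.IsPiHallOf (Cfsg.sigma M) (Cfsg.sigmaCore M) M)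
    (hK : Cfsg.IsPiHallOf (Cfsg.kappa M) K M) (hK1 : K ≠ ⊥) (h142 : T142 M K)
    (hDσ : D ≤ Cfsg.sigmaCore M) (hDN : M ≤ Subgroup.normalizer (D : Set G))
    (hKsD : Cfsg.sigmaCore M ⊓ Subgroup.centralizer (K : Set G) ≤ D) :
    Group.IsNilpotent ↥(im D (Cfsg.sigmaCore M)) := by
  have hKM : K ≤ M := hK.1
  have hσND : Cfsg.sigmaCore M ≤ Subgroup.normalizer (D : Set G) := hHall.1.trans hDN
  have hKND : K ≤ Subgroup.normalizer (D : Set G) := hKM.trans hDN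
  haveI : Group.IsSolvable ↥M := hG.2.2.2 M hM.1
  have hsolvD : Group.IsSolvable ↥D :=
    Group.isSolvable_of_isSolvable_injective (Subgroup.inclusion_injective (hDσ.trans hHall.1))
  apply Cfsg.Agent.Lib.Helper17.FrobCount.kernel_nilpotent (im D (Cfsg.sigmaCore M)) (im D K)
  · intro h
    have h1 : K ≤ D := (im_eq_bot_iff hKND).mp h
    have h2 : K ≤ K ⊓ Cfsg.sigmaCore M := le_inf le_rfl (h1.trans hDσ)
    rw [K_inf_sigmaCore hHall hK] at h2
    exact hK1 (le_bot_iff.mp h2)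
  · intro e he u hu
    have h1 := im_le_normalizer hKND hσND (hKM.trans (le_normalizer_sigmaCore M)) he
    exact (Subgroup.mem_normalizer_iff.mp h1 u).mp hu
  · intro e he he1 u hu heu
    obtain ⟨k, hk, rfl⟩ := (mem_im_iff hKND).mp he
    have hkD : k ∉ D := fun h => he1 ((proj_eq_one_iff (hKND hk)).mpr h)
    have hk1 : k ≠ 1 := fun h => hkD (h ▸ D.one_mem)
    have hBK : Subgroup.zpowers k ≤ K := Subgroup.zpowers_le.mpr hk
    have hBN : Subgroup.zpowers k ≤ Subgroup.normalizer (D : Set G) := hBK.trans hKND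
    have hcop : (Nat.card ↥(Subgroup.zpowers k)).Coprime (Nat.card ↥D) :=
      Nat.Coprime.coprime_dvd_left (Subgroup.card_dvd_of_le hBK)
        (Nat.Coprime.coprime_dvd_right (Subgroup.card_dvd_of_le hDσ)
          (coprime_card_K_sigmaCore hHall hK))
    have h1 : u ∈ im D (Cfsg.sigmaCore M) ⊓
        Subgroup.centralizer (im D (Subgroup.zpowers k) : Set (Gam D)) := by
      refine Subgroup.mem_inf.mpr ⟨hu, ?_⟩
      rw [Subgroup.mem_centralizer_iff]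
      intro z hz
      obtain ⟨b, hb, rfl⟩ := (mem_im_iff hBN).mp hz
      obtain ⟨i, rfl⟩ := Subgroup.mem_zpowers_iff.mp hb
      have e1 : (⟨k ^ i, hBN hb⟩ : ↥(Subgroup.normalizer (D : Set G))) =
          (⟨k, hKND hk⟩ : ↥(Subgroup.normalizer (D : Set G))) ^ i := by
        apply Subtype.ext
        simp
      rw [e1, map_zpow]
      have h2 : Commute (proj D ⟨k, hKND hk⟩) u := heu
      exact (h2.zpow_left i).eq
    have h2 := im_inf_centralizer_le hDσ hσND hBN hcop (Or.inr hsolvD) h1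
    have h3 : Cfsg.sigmaCore M ⊓
        Subgroup.centralizer ((Subgroup.zpowers k : Subgroup G) : Set G) ≤ D := by
      intro y hy
      obtain ⟨hy1, hy2⟩ := Subgroup.mem_inf.mp hy
      apply hKsD
      rw [← h142.1 k hk hk1]
      exact Subgroup.mem_inf.mpr ⟨hy1, mem_centralizer_zpowers_iff.mp hy2⟩
    rw [(im_eq_bot_iff (inf_le_left.trans hσND)).mpr h3, Subgroup.mem_bot] at h2
    exact h2


/-- if `N_G(D)/D ⊇ M_σ/D` is nilpotent with `D = O_q(M_σ)`, then `q ∤ |M_σ/D|`. -/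
theorem not_dvd_card_im [Finite G] {M D : Subgroup G} {q : ℕ} [Fact q.Prime]
    (hD : D = Cfsg.pCoreOf q (Cfsg.sigmaCore M))
    (hσND : Cfsg.sigmaCore M ≤ Subgroup.normalizer (D : Set G))
    (hnil : Group.IsNilpotent ↥(im D (Cfsg.sigmaCore M))) :
    ¬ q ∣ Nat.card ↥(im D (Cfsg.sigmaCore M)) := by
  intro hq
  haveI := hnil
  have hDq : IsPGroup q D := by
    rw [hD]
    exact Cfsg.Agent.Lib.Helper17.PrimeAct.pCoreOf_isPGroup q _
  obtain ⟨P⟩ : Nonempty (Sylow q ↥(im D (Cfsg.sigmaCore M))) := inferInstance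
  have hPn : (P : Subgroup ↥(im D (Cfsg.sigmaCore M))).Normal := inferInstance
  have hP1 : (P : Subgroup ↥(im D (Cfsg.sigmaCore M))) ≠ ⊥ := P.ne_bot_of_dvd_card hq
  -- the pullback of `P` to `G`
  let T : Subgroup G :=
    (((P : Subgroup ↥(im D (Cfsg.sigmaCore M))).map (im D (Cfsg.sigmaCore M)).subtype).comap
      (proj D)).map (Subgroup.normalizer (D : Set G)).subtype
  have hT : ∀ x : G, x ∈ T ↔ ∃ hx : x ∈ Subgroup.normalizer (D : Set G),
      ∃ hu : proj D ⟨x, hx⟩ ∈ im D (Cfsg.sigmaCore M),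
        (⟨proj D ⟨x, hx⟩, hu⟩ : ↥(im D (Cfsg.sigmaCore M))) ∈ P := by
    intro x
    constructor
    · rintro ⟨⟨y, hyN⟩, hy, hyx⟩
      have hyx' : y = x := hyx
      subst hyx'
      obtain ⟨u, hu, huy⟩ := hy
      have huy' : (u : Gam D) = proj D ⟨y, hyN⟩ := huy
      refine ⟨hyN, ?_, ?_⟩
      · rw [← huy']
        exact u.2
      · have e : (⟨proj D ⟨y, hyN⟩, by rw [← huy']; exact u.2⟩ :
            ↥(im D (Cfsg.sigmaCore M))) = u := Subtype.ext huy'.symm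
        rw [e]
        exact hu
    · rintro ⟨hx, hu, hP⟩
      exact ⟨⟨x, hx⟩, ⟨⟨proj D ⟨x, hx⟩, hu⟩, hP, rfl⟩, rfl⟩
  have hTσ : T ≤ Cfsg.sigmaCore M := by
    intro x hx
    obtain ⟨hxN, hu, -⟩ := (hT x).mp hx
    obtain ⟨s, hs, hsx⟩ := (mem_im_iff hσND).mp hu
    have h1 : (⟨s, hσND hs⟩ : ↥(Subgroup.normalizer (D : Set G)))⁻¹ * ⟨x, hxN⟩ ∈
        D.subgroupOf (Subgroup.normalizer (D : Set G)) := by
      unfold proj at hsx
      rw [QuotientGroup.mk'_apply, QuotientGroup.mk'_apply] at hsx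
      exact QuotientGroup.eq.mp hsx
    rw [Subgroup.mem_subgroupOf] at h1
    have h2 : s⁻¹ * x ∈ D := h1
    have h3 : s⁻¹ * x ∈ Cfsg.sigmaCore M := by
      rw [hD] at h2
      exact Cfsg.Agent.Lib.Helper17.PrimeAct.pCoreOf_le q _ h2
    have := (Cfsg.sigmaCore M).mul_mem hs h3
    rwa [mul_inv_cancel_left] at this
  have hTn : Cfsg.sigmaCore M ≤ Subgroup.normalizer (T : Set G) := by
    apply Cfsg.Agent.Lib.Helper24.BG36Ab.le_normalizer_of_conj_mem
    intro s hs x hx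
    obtain ⟨hxN, hu, hP⟩ := (hT x).mp hx
    have hsN := hσND hs
    have hsu : proj D ⟨s, hsN⟩ ∈ im D (Cfsg.sigmaCore M) := proj_mem_im hs hsN
    rw [hT]
    have hN : s * x * s⁻¹ ∈ Subgroup.normalizer (D : Set G) :=
      Subgroup.mul_mem _ (Subgroup.mul_mem _ hsN hxN) (Subgroup.inv_mem _ hsN)
    have e : proj D ⟨s * x * s⁻¹, hN⟩ =
        proj D ⟨s, hsN⟩ * proj D ⟨x, hxN⟩ * (proj D ⟨s, hsN⟩)⁻¹ := by
      rw [← map_inv, ← map_mul, ← map_mul]
      rfl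
    refine ⟨hN, ?_, ?_⟩
    · rw [e]
      exact Subgroup.mul_mem _ (Subgroup.mul_mem _ hsu hu) (Subgroup.inv_mem _ hsu)
    · have h1 := hPn.conj_mem ⟨proj D ⟨x, hxN⟩, hu⟩ hP ⟨proj D ⟨s, hsN⟩, hsu⟩
      have e2 : (⟨proj D ⟨s * x * s⁻¹, hN⟩, by
          rw [e]
          exact Subgroup.mul_mem _ (Subgroup.mul_mem _ hsu hu) (Subgroup.inv_mem _ hsu)⟩ :
          ↥(im D (Cfsg.sigmaCore M))) =
          ⟨proj D ⟨s, hsN⟩, hsu⟩ * ⟨proj D ⟨x, hxN⟩, hu⟩ * ⟨proj D ⟨s, hsN⟩, hsu⟩⁻¹ := by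
        apply Subtype.ext
        exact e
      rw [e2]
      exact h1
  have hTq : IsPGroup q T := by
    rintro ⟨x, hx⟩
    obtain ⟨hxN, hu, hP⟩ := (hT x).mp hx
    obtain ⟨a, ha⟩ := P.2 ⟨⟨proj D ⟨x, hxN⟩, hu⟩, hP⟩
    have h1 : (proj D ⟨x, hxN⟩) ^ (q ^ a) = 1 := by
      have := congrArg (fun z : ↥(P : Subgroup ↥(im D (Cfsg.sigmaCore M))) =>
        ((z : ↥(im D (Cfsg.sigmaCore M))) : Gam D)) ha
      simpa using this
    rw [← map_pow] at h1
    have h2 : x ^ (q ^ a) ∈ D := by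
      have h3 : (⟨x, hxN⟩ : ↥(Subgroup.normalizer (D : Set G))) ^ (q ^ a) =
          ⟨x ^ (q ^ a), Subgroup.pow_mem _ hxN _⟩ := by
        apply Subtype.ext
        simp
      rw [h3] at h1
      exact (proj_eq_one_iff _).mp h1
    obtain ⟨b, hb⟩ := hDq ⟨x ^ (q ^ a), h2⟩
    refine ⟨a + b, ?_⟩
    apply Subtype.ext
    have h4 : (x ^ (q ^ a)) ^ (q ^ b) = 1 := by
      have := congrArg Subtype.val hb
      simpa using this
    simp only [Subgroup.coe_pow, Subgroup.coe_one]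
    rw [pow_add, pow_mul]
    exact h4
  have hTD : T ≤ D := by
    rw [hD]
    exact Cfsg.Agent.Lib.Helper17.BGU.le_pCoreOf hTσ hTn hTq
  apply hP1
  rw [Subgroup.eq_bot_iff_forall]
  intro u hu
  obtain ⟨s, hs, hsu⟩ := (mem_im_iff hσND).mp u.2
  have h1 : s ∈ T := by
    rw [hT]
    refine ⟨hσND hs, by rw [hsu]; exact u.2, ?_⟩
    have e : (⟨proj D ⟨s, hσND hs⟩, by rw [hsu]; exact u.2⟩ : ↥(im D (Cfsg.sigmaCore M))) = u :=
      Subtype.ext hsu
    rw [e]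
    exact hu
  have h2 : proj D ⟨s, hσND hs⟩ = 1 := (proj_eq_one_iff _).mpr (hTD h1)
  apply Subtype.ext
  rw [← hsu, h2]
  rfl


/-- P1 case of B&G 15.2: for `M = M_σ K` with `|K*| = q` prime, `D := O_q(M_σ)` contains `K*`, is a Sylow
`q`-subgroup of `M`, and lies in `M_F`. -/
theorem pCoreOf_le_fittingHallOf [Finite G] (hG : Cfsg.IsMinSimpleOddOrder G) {M K : Subgroup G}
    (hM : IsCoatom M) (hHall : Cfsg.IsPiHallOf (Cfsg.sigma M) (Cfsg.sigmaCore M) M)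
    (hK : Cfsg.IsPiHallOf (Cfsg.kappa M) K M) (hK1 : K ≠ ⊥) (h142 : T142 M K)
    (h26b : ⁅Cfsg.sigmaCore M, K⁆ = Cfsg.sigmaCore M)
    (hq : (Nat.card ↥(Cfsg.sigmaCore M ⊓ Subgroup.centralizer (K : Set G))).Prime) :
    Cfsg.sigmaCore M ⊓ Subgroup.centralizer (K : Set G) ≤
        Cfsg.pCoreOf (Nat.card ↥(Cfsg.sigmaCore M ⊓ Subgroup.centralizer (K : Set G)))
          (Cfsg.sigmaCore M) ∧
      Cfsg.pCoreOf (Nat.card ↥(Cfsg.sigmaCore M ⊓ Subgroup.centralizer (K : Set G)))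
        (Cfsg.sigmaCore M) ≤ Cfsg.fittingHallOf M := by
  set Ks := Cfsg.sigmaCore M ⊓ Subgroup.centralizer (K : Set G) with hKs
  set q := Nat.card ↥Ks with hqdef
  haveI : Fact q.Prime := ⟨hq⟩
  set D := Cfsg.pCoreOf q (Cfsg.sigmaCore M) with hD
  have hKsq : IsPGroup q Ks := IsPGroup.of_card (n := 1) (by rw [pow_one])
  have hKsD : Ks ≤ D :=
    Cfsg.Agent.Lib.Helper17.BGU.le_pCoreOf_of_le_fittingOf
      (kstar_le_fittingOf hG hM hHall hK hK1 h142 h26b hq) hKsq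
  refine ⟨hKsD, ?_⟩
  have hDσ : D ≤ Cfsg.sigmaCore M := Cfsg.Agent.Lib.Helper17.PrimeAct.pCoreOf_le q _
  have hDM : D ≤ M := hDσ.trans hHall.1
  have hDN : M ≤ Subgroup.normalizer (D : Set G) :=
    (le_normalizer_sigmaCore M).trans
      (Cfsg.Agent.Lib.Helper17.PrimeAct.normalizer_le_normalizer_pCoreOf q _)
  have hσND : Cfsg.sigmaCore M ≤ Subgroup.normalizer (D : Set G) := hHall.1.trans hDN
  have hDq : IsPGroup q D := Cfsg.Agent.Lib.Helper17.PrimeAct.pCoreOf_isPGroup q _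
  have hnil := im_sigmaCore_nilpotent hG hM hHall hK hK1 h142 hDσ hDN hKsD
  have hndvd := not_dvd_card_im (q := q) (D := D) rfl hσND hnil
  -- a Sylow `q`-subgroup of `M` containing `D`
  obtain ⟨P, hP⟩ := IsPGroup.exists_le_sylow
    (show IsPGroup q ↥(D.subgroupOf M) from hDq.comap_subtype)
  have hqσ : q ∈ Cfsg.sigma M := by
    apply hHall.2.1 q hq
    exact dvd_trans (dvd_refl _) (Subgroup.card_dvd_of_le (inf_le_left : Ks ≤ Cfsg.sigmaCore M))
  have hPq : IsPGroup q ((P : Subgroup ↥M).map M.subtype) := P.2.map _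
  have hPM : (P : Subgroup ↥M).map M.subtype ≤ M := by
    rintro _ ⟨y, -, rfl⟩
    exact y.2
  have hPσ : (P : Subgroup ↥M).map M.subtype ≤ Cfsg.sigmaCore M := by
    apply Cfsg.Agent.Lib.Helper19.BG123.le_sigmaCore_of_primes hG hM hPM
    intro r hr hrd
    obtain ⟨n, hn⟩ := IsPGroup.iff_card.mp hPq
    rw [hn] at hrd
    rw [(Nat.prime_dvd_prime_iff_eq hr hq).mp (hr.dvd_of_dvd_pow hrd)]
    exact hqσ
  have hPD : (P : Subgroup ↥M).map M.subtype ≤ D := by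
    have hPN : (P : Subgroup ↥M).map M.subtype ≤ Subgroup.normalizer (D : Set G) := hPM.trans hDN
    apply (im_eq_bot_iff hPN).mp
    rw [← Subgroup.card_eq_one]
    have h1 : Nat.card ↥(im D ((P : Subgroup ↥M).map M.subtype)) ∣
        Nat.card ↥((P : Subgroup ↥M).map M.subtype) := card_im_dvd _ hPN
    have h2 : Nat.card ↥(im D ((P : Subgroup ↥M).map M.subtype)) ∣
        Nat.card ↥(im D (Cfsg.sigmaCore M)) := Subgroup.card_dvd_of_le (im_mono hPσ)
    obtain ⟨n, hn⟩ := IsPGroup.iff_card.mp hPq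
    rw [hn] at h1
    obtain ⟨m, -, hm⟩ := (Nat.dvd_prime_pow hq).mp h1
    rcases Nat.eq_zero_or_pos m with h0 | hpos
    · rw [hm, h0, pow_zero]
    · exfalso
      apply hndvd
      refine dvd_trans ?_ h2
      rw [hm]
      exact dvd_pow_self q hpos.ne'
  have hDP : D.subgroupOf M = (P : Subgroup ↥M) := by
    apply le_antisymm hP
    intro x hx
    rw [Subgroup.mem_subgroupOf]
    exact hPD ⟨x, hx, rfl⟩
  apply le_fittingHallOf hDM hDN hDq.isNilpotent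
  have h1 := P.card_coprime_index
  rw [← hDP] at h1
  rwa [Nat.card_congr (Subgroup.subgroupOfEquivOfLe hDM).toEquiv] at h1

end Cfsg.Agent.Lib.Helper1.BG152
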