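import Cfsg.Agent.Lib.Helper1.FM3

/-!
# Frobenius group acting coprimely on a solvable group with cyclic fixed points of the
complement and no fixed points of the kernel: the derived subgroup of the kernel centralizes
-/

set_option autoImplicit false

namespace Cfsg.Agent.Lib.Helper1.FM

open scoped commutatorElement
open Subgroup Cfsg.Agent.Lib.Helper17 Cfsg.Agent.Lib.Helper17.FrobCount

/-- arithmetic used to bound fixed points in a section of a cyclic group. -/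
theorem le_of_cyclic_count (n d f p : ℕ) (hn : 0 < n) (hp : 0 < p) (h1 : n = d * f)
    (h2 : n / Nat.gcd n p ∣ d) : f ≤ p := by
  set g := Nat.gcd n p with hg
  have hgn : g ∣ n := Nat.gcd_dvd_left n p
  have hgp : g ∣ p := Nat.gcd_dvd_right n p
  have hgpos : 0 < g := Nat.gcd_pos_of_pos_left p hn
  obtain ⟨t, ht⟩ := h2
  have h3 : g * (n / g) = n := Nat.mul_div_cancel' hgn
  have h4 : 0 < n / g := Nat.div_pos (Nat.le_of_dvd hn hgn) hgpos
  have h5 : (n / g) * (t * f) = (n / g) * g := by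
    calc (n / g) * (t * f) = (n / g * t) * f := by ring
      _ = d * f := by rw [← ht]
      _ = n := h1.symm
      _ = (n / g) * g := by rw [mul_comm]; exact h3.symm
  have h6 : t * f = g := Nat.eq_of_mul_eq_mul_left h4 h5
  have h7 : f ∣ g := ⟨t, by rw [← h6, mul_comm]⟩
  exact le_trans (Nat.le_of_dvd hgpos h7) (Nat.le_of_dvd hp hgp)

section Stab

variable {X : Type*} [Group X]

theorem conj_pow_eq_mul_pow {g h m : X} (h1 : g * h * g⁻¹ = h * m) (h2 : g * m = m * g) (n : ℕ) :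
    g ^ n * h * (g ^ n)⁻¹ = h * m ^ n := by
  induction n with
  | zero => simp
  | succ n ih =>
    have h3 : g * m ^ n = m ^ n * g := by
      have : Commute g m := h2
      exact (this.pow_right n).eq
    calc g ^ (n + 1) * h * (g ^ (n + 1))⁻¹ = g * (g ^ n * h * (g ^ n)⁻¹) * g⁻¹ := by
          rw [pow_succ']; group
      _ = g * (h * m ^ n) * g⁻¹ := by rw [ih]
      _ = (g * h * g⁻¹) * (g * m ^ n) * g⁻¹ := by group
      _ = (h * m) * (m ^ n * g) * g⁻¹ := by rw [h1, h3]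
      _ = h * m ^ (n + 1) := by rw [pow_succ']; group

theorem eq_one_of_conj_eq_mul [Finite X] {g h m : X} (h1 : g * h * g⁻¹ = h * m)
    (h2 : g * m = m * g) (hcop : (orderOf g).Coprime (orderOf m)) : m = 1 := by
  have h3 := conj_pow_eq_mul_pow h1 h2 (orderOf g)
  rw [pow_orderOf_eq_one, one_mul, inv_one, mul_one] at h3
  have h4 : m ^ orderOf g = 1 := by
    have : h * m ^ orderOf g = h * 1 := by rw [← h3, mul_one]
    exact mul_left_cancel this
  have h5 : orderOf m ∣ orderOf g := orderOf_dvd_of_pow_eq_one h4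
  have h6 : orderOf m ∣ 1 := by
    have := Nat.dvd_gcd h5 (dvd_refl (orderOf m))
    rwa [hcop.gcd_eq_one] at this
  exact orderOf_eq_one_iff.mp (Nat.dvd_one.mp h6)

end Stab

section Main

variable {X : Type*} [Group X] [Finite X]

theorem derived_le_centralizer (U E : Subgroup X) (hE1 : E ≠ ⊥)
    (hUn : ∀ e ∈ E, ∀ u ∈ U, e * u * e⁻¹ ∈ U)
    (hfpf : ∀ e ∈ E, e ≠ 1 → ∀ u ∈ U, e * u = u * e → u = 1) :
    ∀ (n : ℕ) (H : Subgroup X), Nat.card H = n →
      (∀ x ∈ U ⊔ E, ∀ h ∈ H, x * h * x⁻¹ ∈ H) → Group.IsSolvable ↥H →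
      Nat.Coprime (Nat.card H) (Nat.card ↥(U ⊔ E)) →
      IsCyclic ↥(H ⊓ centralizer (E : Set X)) →
      ⁅U, U⁆ ≤ centralizer (H : Set X) := by
  classical
  have hnilU := kernel_nilpotent U E hE1 hUn hfpf
  intro n
  induction n using Nat.strong_induction_on with
  | _ n IH =>
  intro H hn hHn hsolv hcop hcyc
  by_cases hH1 : H = ⊥
  · subst hH1
    intro g _
    rw [mem_centralizer_iff]
    intro h hh
    rw [SetLike.mem_coe, Subgroup.mem_bot] at hh
    rw [hh, one_mul, mul_one]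
  have : Nontrivial ↥H := (Subgroup.nontrivial_iff_ne_bot H).mpr hH1
  obtain ⟨p, hp, hpH, M₀, hM₀top, hM₀n, hM₀inv, hM₀comm, hM₀pow⟩ := exists_top_section ↥H
  have hΓH : U ⊔ E ≤ normalizer (H : Set X) := fun x hx =>
    Cfsg.Agent.Lib.Helper1.mem_normalizer_of_forall_conj_mem H x (hHn x hx)
  let conjH : ↥(U ⊔ E) →* MulAut ↥H := H.normalizerMonoidHom.comp (Subgroup.inclusion hΓH)
  have hconjH : ∀ (γ : ↥(U ⊔ E)) (h : ↥H), ((conjH γ h : ↥H) : X) = γ * h * (γ : X)⁻¹ :=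
    fun _ _ => rfl
  have hmap : ∀ φ : ↥H ≃* ↥H, Subgroup.map (φ : ↥H →* ↥H) M₀ = M₀ := by
    intro φ
    apply le_antisymm
    · rintro _ ⟨x, hx, rfl⟩
      exact hM₀inv φ x hx
    · intro x hx
      exact ⟨φ.symm x, hM₀inv φ.symm x hx, φ.apply_symm_apply x⟩
  let act : ↥(U ⊔ E) →* MulAut (↥H ⧸ M₀) :=
    { toFun := fun γ => QuotientGroup.congr M₀ M₀ (conjH γ) (hmap (conjH γ))
      map_one' := by
        ext q
        obtain ⟨h, rfl⟩ := QuotientGroup.mk_surjective q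
        rw [QuotientGroup.congr_mk, map_one]
        rfl
      map_mul' := fun a b => by
        ext q
        obtain ⟨h, rfl⟩ := QuotientGroup.mk_surjective q
        rw [MulAut.mul_apply, QuotientGroup.congr_mk, QuotientGroup.congr_mk,
          QuotientGroup.congr_mk, map_mul]
        rfl }
  have hact : ∀ (γ : ↥(U ⊔ E)) (h : ↥H) (hh : (γ : X) * h * (γ : X)⁻¹ ∈ H),
      act γ (QuotientGroup.mk h) = QuotientGroup.mk ⟨_, hh⟩ := by
    intro γ h hh
    show QuotientGroup.congr M₀ M₀ (conjH γ) (hmap (conjH γ)) (QuotientGroup.mk h) = _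
    rw [QuotientGroup.congr_mk]
    congr 1
  have hM₀Γ : ∀ γ ∈ U ⊔ E, ∀ m ∈ M₀.map H.subtype, γ * m * γ⁻¹ ∈ M₀.map H.subtype := by
    rintro γ hγ _ ⟨m, hm, rfl⟩
    exact ⟨conjH ⟨γ, hγ⟩ m, hM₀inv _ m hm, rfl⟩
  have hMH : M₀.map H.subtype ≤ H := by
    rintro _ ⟨m, _, rfl⟩
    exact m.2
  have hmemM : ∀ (h : ↥H), (h : X) ∈ M₀.map H.subtype ↔ h ∈ M₀ := by
    intro h
    constructor
    · rintro ⟨m, hm, hmh⟩
      have : m = h := Subtype.ext hmh
      rwa [← this]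
    · intro hh
      exact ⟨h, hh, rfl⟩
  have hMcard0 : Nat.card ↥(M₀.map H.subtype) = Nat.card ↥M₀ :=
    Subgroup.card_map_of_injective H.subtype_injective
  have hMcard : Nat.card ↥(M₀.map H.subtype) < n := by
    rw [← hn, hMcard0]
    have h1 : Nat.card ↥M₀ ≤ Nat.card ↥H := Subgroup.card_le_card_group M₀
    rcases h1.lt_or_eq with h | h
    · exact h
    · exact absurd ((Subgroup.card_eq_iff_eq_top M₀).mp h) hM₀top
  have hleCE : M₀.map H.subtype ⊓ centralizer (E : Set X) ≤ H ⊓ centralizer (E : Set X) :=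
    inf_le_inf_right _ hMH
  have hcycM : IsCyclic ↥(M₀.map H.subtype ⊓ centralizer (E : Set X)) := by
    haveI := hcyc
    exact isCyclic_of_injective (Subgroup.inclusion hleCE) (Subgroup.inclusion_injective hleCE)
  have IHM := IH _ hMcard (M₀.map H.subtype) rfl hM₀Γ
    (Group.isSolvable_of_isSolvable_injective (Subgroup.inclusion_injective hMH))
    (hcop.coprime_dvd_left (Subgroup.card_dvd_of_le hMH)) hcycM
  have cE := count_lemma H (U ⊔ E) M₀ act hact hHn hM₀Γ hcop hsolv E le_sup_right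
  -- the fixed points of E in the section
  have hfix : Nat.card {q : ↥H ⧸ M₀ // ∀ g ∈ E.subgroupOf (U ⊔ E), act g q = q} ≤ p := by
    obtain ⟨c, hc⟩ := hcyc.exists_generator
    have hcard : orderOf (c : X) = Nat.card ↥(H ⊓ centralizer (E : Set X)) := by
      rw [Subgroup.orderOf_coe]
      exact orderOf_eq_card_of_forall_mem_zpowers hc
    have hcp : (c : X) ^ p ∈ M₀.map H.subtype ⊓ centralizer (E : Set X) := by
      refine Subgroup.mem_inf.mpr ⟨?_, ?_⟩
      · have h1 := hM₀pow ⟨c.1, (Subgroup.mem_inf.mp c.2).1⟩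
        have h2 := (hmemM _).mpr h1
        simpa using h2
      · exact Subgroup.pow_mem _ (Subgroup.mem_inf.mp c.2).2 p
    have hdvd : orderOf ((c : X) ^ p) ∣ Nat.card ↥(M₀.map H.subtype ⊓ centralizer (E : Set X)) :=
      Subgroup.orderOf_dvd_natCard _ hcp
    rw [orderOf_pow' _ hp.ne_zero, hcard] at hdvd
    exact le_of_cyclic_count _ _ _ p Nat.card_pos hp.pos cE hdvd
  -- hypotheses of the abstract theorem
  have hcomm : ∀ a b : ↥H ⧸ M₀, a * b = b * a := by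
    intro a b
    obtain ⟨x, rfl⟩ := QuotientGroup.mk_surjective a
    obtain ⟨y, rfl⟩ := QuotientGroup.mk_surjective b
    rw [← QuotientGroup.mk_mul, ← QuotientGroup.mk_mul]
    apply QuotientGroup.eq.mpr
    have : (x * y)⁻¹ * (y * x) = y⁻¹ * x⁻¹ * y⁻¹⁻¹ * x⁻¹⁻¹ := by group
    rw [this]
    exact hM₀comm _ _
  have hexp : ∀ a : ↥H ⧸ M₀, a ^ p = 1 := by
    intro a
    obtain ⟨x, rfl⟩ := QuotientGroup.mk_surjective a
    rw [← QuotientGroup.mk_pow, QuotientGroup.eq_one_iff]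
    exact hM₀pow x
  have hUΓ : U ⊔ E ≤ normalizer (U : Set X) := by
    apply sup_le
    · exact le_normalizer
    · intro e he
      exact Cfsg.Agent.Lib.Helper1.mem_normalizer_of_forall_conj_mem U e (hUn e he)
  have hnormal : (U.subgroupOf (U ⊔ E)).Normal :=
    (normal_subgroupOf_iff_le_normalizer le_sup_left).mpr hUΓ
  have hnil' : Group.IsNilpotent ↥(U.subgroupOf (U ⊔ E)) :=
    Group.nilpotent_of_mulEquiv (subgroupOfEquivOfLe (le_sup_left : U ≤ U ⊔ E)).symm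
  have hcardU : Nat.card ↥(U.subgroupOf (U ⊔ E)) = Nat.card ↥U :=
    Nat.card_congr (subgroupOfEquivOfLe (le_sup_left : U ≤ U ⊔ E)).toEquiv
  have hpF : ¬ p ∣ Nat.card ↥(U.subgroupOf (U ⊔ E)) := by
    rw [hcardU]
    intro hpU
    have h1 : p ∣ Nat.card ↥(U ⊔ E) := hpU.trans (Subgroup.card_dvd_of_le le_sup_left)
    have h2 := Nat.dvd_gcd hpH h1
    rw [hcop.gcd_eq_one] at h2
    exact hp.one_lt.ne' (Nat.dvd_one.mp h2)
  have hfpf' : ∀ h ∈ E.subgroupOf (U ⊔ E), h ≠ 1 → ∀ f ∈ U.subgroupOf (U ⊔ E),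
      h * f * h⁻¹ = f → f = 1 := by
    intro h hh h1 f hf hc
    apply Subtype.ext
    refine hfpf (h : X) hh (fun h0 => h1 (Subtype.ext h0)) (f : X) hf ?_
    have h2 := congrArg Subtype.val hc
    simp only [Subgroup.coe_mul, Subgroup.coe_inv] at h2
    calc (h : X) * f = ((h : X) * f * (h : X)⁻¹) * h := by group
      _ = f * h := by rw [h2]
  have key := act_comm_of_fix_le (A := ↥H ⧸ M₀) hcomm hp hexp act (U.subgroupOf (U ⊔ E))
    (E.subgroupOf (U ⊔ E)) hnil' hpF hfpf' hfix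
  -- commutators act trivially on the section
  have hker : ∀ x ∈ U, ∀ y ∈ U, ∀ h ∈ H, h⁻¹ * (⁅x, y⁆ * h * ⁅x, y⁆⁻¹) ∈ M₀.map H.subtype := by
    intro x hx y hy h hh
    have hxΓ : x ∈ U ⊔ E := Subgroup.mem_sup_left hx
    have hyΓ : y ∈ U ⊔ E := Subgroup.mem_sup_left hy
    set x' : ↥(U ⊔ E) := ⟨x, hxΓ⟩ with hx'
    set y' : ↥(U ⊔ E) := ⟨y, hyΓ⟩ with hy'
    have hinv : ∀ (g : ↥(U ⊔ E)) (b : ↥H ⧸ M₀), act g (act g⁻¹ b) = b := by
      intro g b
      rw [← MulAut.mul_apply, ← map_mul, mul_inv_cancel, map_one]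
      rfl
    have h1 := key x' hx y' hy (act x'⁻¹ (act y'⁻¹ (QuotientGroup.mk ⟨h, hh⟩)))
    rw [hinv x', hinv y'] at h1
    have h2 : act ⁅x', y'⁆ (QuotientGroup.mk ⟨h, hh⟩) = QuotientGroup.mk ⟨h, hh⟩ := by
      rw [commutatorElement_def, map_mul, map_mul, map_mul]
      exact h1
    have hcm : ((⁅x', y'⁆ : ↥(U ⊔ E)) : X) = ⁅x, y⁆ := by
      rw [commutatorElement_def, commutatorElement_def]
      simp [hx', hy']
    have hh' : ((⁅x', y'⁆ : ↥(U ⊔ E)) : X) * h * ((⁅x', y'⁆ : ↥(U ⊔ E)) : X)⁻¹ ∈ H :=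
      hHn _ (⁅x', y'⁆ : ↥(U ⊔ E)).2 h hh
    rw [hact ⁅x', y'⁆ ⟨h, hh⟩ hh'] at h2
    have h3 := QuotientGroup.eq.mp h2.symm
    have h4 := (hmemM _).mpr h3
    have : (((⟨h, hh⟩ : ↥H)⁻¹ * ⟨_, hh'⟩ : ↥H) : X) = h⁻¹ * (⁅x, y⁆ * h * ⁅x, y⁆⁻¹) := by
      rw [← hcm]
      rfl
    rwa [this] at h4
  -- the subgroup of elements acting trivially on the section and centralizing M
  let T : Subgroup X :=
    { carrier := {g | g ∈ U ⊔ E ∧ g ∈ centralizer ((M₀.map H.subtype : Subgroup X) : Set X) ∧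
        ∀ h ∈ H, h⁻¹ * (g * h * g⁻¹) ∈ M₀.map H.subtype}
      one_mem' := ⟨one_mem _, one_mem _, fun h _ => by simp⟩
      mul_mem' := by
        rintro a b ⟨ha1, ha2, ha3⟩ ⟨hb1, hb2, hb3⟩
        refine ⟨mul_mem ha1 hb1, mul_mem ha2 hb2, fun h hh => ?_⟩
        have h1 := hb3 h hh
        have h2 := ha3 _ (hHn b hb1 h hh)
        have : h⁻¹ * (a * b * h * (a * b)⁻¹)
            = (h⁻¹ * (b * h * b⁻¹)) * ((b * h * b⁻¹)⁻¹ * (a * (b * h * b⁻¹) * a⁻¹)) := by group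
        rw [this]
        exact mul_mem h1 h2
      inv_mem' := by
        rintro a ⟨ha1, ha2, ha3⟩
        refine ⟨inv_mem ha1, inv_mem ha2, fun h hh => ?_⟩
        have hh' : a⁻¹ * h * a⁻¹⁻¹ ∈ H := hHn a⁻¹ (inv_mem ha1) h hh
        have h1 := ha3 _ hh'
        have h2 : (a⁻¹ * h * a⁻¹⁻¹)⁻¹ * (a * (a⁻¹ * h * a⁻¹⁻¹) * a⁻¹) = (h⁻¹ * (a⁻¹ * h * a⁻¹⁻¹))⁻¹ := by
          group
        rw [h2] at h1
        exact (inv_mem_iff).mp h1 }
  have hTmem : ∀ g, g ∈ T ↔ g ∈ U ⊔ E ∧ g ∈ centralizer ((M₀.map H.subtype : Subgroup X) : Set X) ∧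
        ∀ h ∈ H, h⁻¹ * (g * h * g⁻¹) ∈ M₀.map H.subtype := fun g => Iff.rfl
  have hUUT : ⁅U, U⁆ ≤ T := by
    rw [Subgroup.commutator_le]
    intro x hx y hy
    refine ⟨?_, ?_, hker x hx y hy⟩
    · rw [commutatorElement_def]
      exact Subgroup.mem_sup_left (U.mul_mem (U.mul_mem (U.mul_mem hx hy) (U.inv_mem hx))
        (U.inv_mem hy))
    · exact IHM (Subgroup.commutator_mem_commutator hx hy)
  intro g hg
  obtain ⟨hg1, hg2, hg3⟩ := hUUT hg
  rw [mem_centralizer_iff]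
  intro h hh
  have hh' : h ∈ H := hh
  set m := h⁻¹ * (g * h * g⁻¹) with hm
  have hmM : m ∈ M₀.map H.subtype := hg3 h hh'
  have e1 : g * h * g⁻¹ = h * m := by rw [hm]; group
  have e2 : g * m = m * g := by
    rw [mem_centralizer_iff] at hg2
    exact (hg2 m hmM).symm
  have hcopo : (orderOf g).Coprime (orderOf m) := by
    have h1 : orderOf g ∣ Nat.card ↥(U ⊔ E) := Subgroup.orderOf_dvd_natCard _ hg1
    have h2 : orderOf m ∣ Nat.card ↥H := Subgroup.orderOf_dvd_natCard _ (hMH hmM)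
    exact (hcop.coprime_dvd_left h2).symm.coprime_dvd_left h1
  have hm1 := eq_one_of_conj_eq_mul e1 e2 hcopo
  rw [hm1, mul_one] at e1
  calc h * g = (g * h * g⁻¹) * g := by rw [e1]
    _ = g * h := by group

end Main

end Cfsg.Agent.Lib.Helper1.FM
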