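import Mathlib
import Cfsg.Agent.Lib.Helper17.PrimeAct4

/-!
# The Hall-Higman step used in B&G 11.7 (Block C of helper8's plan)

`X` of prime order `p` normalizes the `q`-group `R`, both normalize the `s`-group `Q`, everything of odd order,
`C_Q(X) = 1`.  Then `[R, X]` centralizes `Q`.  Proof: in the holomorph `Q ⋊ Aut Q` let `K = Q ⋊ ψ(R)`; then
`F(K) = Q` and helper17's prime-action theorem `PrimeAct4.comm_mem_fittingOf` gives `[K, x] ≤ Q`.
-/

set_option autoImplicit false

namespace Cfsg.Agent.Lib.Helper1.BGExC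

open Subgroup
open scoped commutatorElement

universe u

theorem eq_one_of_pow_eq_one_of_coprime {M : Type*} [Monoid M] {x : M} {m n : ℕ} (h1 : x ^ m = 1)
    (h2 : x ^ n = 1) (hc : m.Coprime n) : x = 1 := by
  have h3 : orderOf x ∣ Nat.gcd m n :=
    Nat.dvd_gcd (orderOf_dvd_of_pow_eq_one h1) (orderOf_dvd_of_pow_eq_one h2)
  rw [hc] at h3
  exact orderOf_eq_one_iff.mp (Nat.dvd_one.mp h3)

section Hol

variable (Q : Type u) [Group Q]

/-- the holomorph of `Q` -/
abbrev Hol := SemidirectProduct Q (MulAut Q) (MonoidHom.id (MulAut Q))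

instance finite_hol [Finite Q] : Finite (Hol Q) := Finite.of_equiv _ SemidirectProduct.equivProd.symm

variable {Q}

/-- `Q ⋊ R'` inside the holomorph -/
def KK (R' : Subgroup (MulAut Q)) : Subgroup (Hol Q) := R'.comap SemidirectProduct.rightHom

theorem mem_KK {R' : Subgroup (MulAut Q)} {f : Hol Q} : f ∈ KK R' ↔ f.right ∈ R' := Iff.rfl

theorem card_KK (R' : Subgroup (MulAut Q)) : Nat.card (KK R') = Nat.card Q * Nat.card R' := by
  rw [← Nat.card_prod]
  apply Nat.card_congr
  exact
    { toFun := fun f => (f.1.left, ⟨f.1.right, f.2⟩)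
      invFun := fun a => ⟨⟨a.1, a.2.1⟩, a.2.2⟩
      left_inv := fun f => rfl
      right_inv := fun a => rfl }

theorem solvable_KK (R' : Subgroup (MulAut Q)) [Group.IsSolvable Q] [Group.IsSolvable R'] : Group.IsSolvable (KK R') := by
  let f : Q →* KK R' := (SemidirectProduct.inl : Q →* Hol Q).codRestrict (KK R') (fun a => by
    rw [mem_KK]; simp)
  let g : KK R' →* R' := ((SemidirectProduct.rightHom : Hol Q →* MulAut Q).comp (KK R').subtype).codRestrict R'
    (fun k => k.2)
  refine solvable_of_ker_le_range f g ?_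
  intro k hk
  rw [MonoidHom.mem_ker] at hk
  have h1 : k.1.right = 1 := congrArg Subtype.val hk
  refine ⟨k.1.left, ?_⟩
  apply Subtype.ext
  apply SemidirectProduct.ext
  · simp [f]
  · simp [f, h1]

theorem pow_apply_of_fixed (φ : MulAut Q) (a : Q) (h : φ a = a) (n : ℕ) : (φ ^ n) a = a := by
  induction n with
  | zero => simp
  | succ n ih => rw [pow_succ, MulAut.mul_apply, h, ih]

/-- powers of an element of the holomorph whose automorphism part fixes its `Q`-part -/
theorem pow_left_of_fixed (f : Hol Q) (h : f.right f.left = f.left) (n : ℕ) :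
    (f ^ n).left = f.left ^ n := by
  induction n with
  | zero => simp
  | succ n ih =>
    rw [pow_succ, SemidirectProduct.mul_left, ih, pow_succ]
    congr 1
    have : (f ^ n).right = f.right ^ n := map_pow (SemidirectProduct.rightHom : Hol Q →* MulAut Q) f n
    rw [this]
    exact pow_apply_of_fixed f.right f.left h n

/-- `F(Q ⋊ R') ≤ Q` when `Q` is an `s`-group and `R'` a `q`-group, `s ≠ q`. -/
theorem fittingOf_KK_le [Finite Q] {s q : ℕ} (hs : s.Prime) (hq : q.Prime) (hsq : s ≠ q)
    (hQ : IsPGroup s Q) (R' : Subgroup (MulAut Q)) (hR' : IsPGroup q R') :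
    Cfsg.fittingOf (KK R') ≤ (SemidirectProduct.rightHom : Hol Q →* MulAut Q).ker := by
  classical
  rw [Cfsg.Agent.Lib.Helper17.PrimeAct.fittingOf_eq_iSup]
  apply iSup_le
  intro t
  haveI : Fact (t : ℕ).Prime := ⟨t.2⟩
  obtain ⟨O, hOdef⟩ : ∃ O : Subgroup (Hol Q), O = Cfsg.pCoreOf (t : ℕ) (KK R') := ⟨_, rfl⟩
  rw [← hOdef]
  have hO : IsPGroup (t : ℕ) O := hOdef ▸ Cfsg.Agent.Lib.Helper17.PrimeAct.pCoreOf_isPGroup (t : ℕ) (KK R')
  have hOK : O ≤ KK R' := hOdef ▸ Cfsg.Agent.Lib.Helper17.PrimeAct.pCoreOf_le (t : ℕ) (KK R')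
  have hnorm : KK R' ≤ normalizer (O : Set (Hol Q)) :=
    hOdef ▸ le_normalizer.trans (Cfsg.Agent.Lib.Helper17.PrimeAct.normalizer_le_normalizer_pCoreOf (t : ℕ) (KK R'))
  intro f hf
  rw [MonoidHom.mem_ker]
  show f.right = 1
  obtain ⟨k, hk⟩ := hO ⟨f, hf⟩
  have hk' : f ^ (t : ℕ) ^ k = 1 := by
    have := congrArg Subtype.val hk
    simpa using this
  by_cases hts : (t : ℕ) = s
  · -- `f.right` is both an `s`-element and a `q`-element
    have h1 : f.right ^ (t : ℕ) ^ k = 1 := by
      have := congrArg SemidirectProduct.right hk'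
      rwa [← SemidirectProduct.rightHom_eq_right, map_pow] at this
    obtain ⟨m, hm⟩ := hR' ⟨f.right, hOK hf⟩
    have h2 : f.right ^ q ^ m = 1 := by
      have := congrArg Subtype.val hm
      simpa using this
    refine eq_one_of_pow_eq_one_of_coprime h1 h2 ?_
    rw [hts]
    exact Nat.Coprime.pow _ _ ((Nat.coprime_primes hs hq).mpr hsq)
  · -- `O ∩ Q = 1`, so `f` centralizes `Q`
    have hcomm : ∀ b : Q, f * SemidirectProduct.inl b = SemidirectProduct.inl b * f := by
      intro b
      have hbK : (SemidirectProduct.inl b : Hol Q) ∈ KK R' := by rw [mem_KK]; simp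
      have hc : f * (SemidirectProduct.inl b * f⁻¹ * (SemidirectProduct.inl b)⁻¹) ∈ O :=
        O.mul_mem hf (((hnorm hbK) f⁻¹).mp (O.inv_mem hf))
      obtain ⟨k2, hk2⟩ := hO ⟨_, hc⟩
      have hk2' : (f * (SemidirectProduct.inl b * f⁻¹ * (SemidirectProduct.inl b)⁻¹)) ^ (t : ℕ) ^ k2 = 1 := by
        have := congrArg Subtype.val hk2
        simpa using this
      have hright : (f * (SemidirectProduct.inl b * f⁻¹ * (SemidirectProduct.inl b)⁻¹)).right = 1 := by
        simp
      obtain ⟨m, hm⟩ := hQ (f * (SemidirectProduct.inl b * f⁻¹ * (SemidirectProduct.inl b)⁻¹)).left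
      have hfix : (f * (SemidirectProduct.inl b * f⁻¹ * (SemidirectProduct.inl b)⁻¹)).right
          (f * (SemidirectProduct.inl b * f⁻¹ * (SemidirectProduct.inl b)⁻¹)).left =
          (f * (SemidirectProduct.inl b * f⁻¹ * (SemidirectProduct.inl b)⁻¹)).left := by
        rw [hright]; rfl
      have hm' : (f * (SemidirectProduct.inl b * f⁻¹ * (SemidirectProduct.inl b)⁻¹)) ^ s ^ m = 1 := by
        apply SemidirectProduct.ext
        · rw [pow_left_of_fixed _ hfix, hm]; rfl
        · rw [← SemidirectProduct.rightHom_eq_right, map_pow, SemidirectProduct.rightHom_eq_right, hright,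
            one_pow]; rfl
      have hone : f * (SemidirectProduct.inl b * f⁻¹ * (SemidirectProduct.inl b)⁻¹) = 1 := by
        refine eq_one_of_pow_eq_one_of_coprime hk2' hm' ?_
        exact Nat.Coprime.pow _ _ ((Nat.coprime_primes t.2 hs).mpr hts)
      have : f * SemidirectProduct.inl b =
          f * (SemidirectProduct.inl b * f⁻¹ * (SemidirectProduct.inl b)⁻¹) * (SemidirectProduct.inl b * f) := by
        group
      rw [this, hone, one_mul]
    have hleft : ∀ b : Q, f.left * f.right b = b * f.left := by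
      intro b
      have := congrArg SemidirectProduct.left (hcomm b)
      simpa using this
    have hfix : f.right f.left = f.left := mul_left_cancel (hleft f.left)
    have h1 : f.left ^ (t : ℕ) ^ k = 1 := by
      rw [← pow_left_of_fixed f hfix, hk']; rfl
    obtain ⟨m, hm⟩ := hQ f.left
    have hl1 : f.left = 1 := by
      refine eq_one_of_pow_eq_one_of_coprime h1 hm ?_
      exact Nat.Coprime.pow _ _ ((Nat.coprime_primes t.2 hs).mpr hts)
    apply MulEquiv.ext
    intro b
    have := hleft b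
    rw [hl1, one_mul, mul_one] at this
    rw [this]; rfl

end Hol

variable {G : Type u} [Group G] [Finite G]

/-- **Hall-Higman step.** `X` of prime order `p` normalizes the `q`-group `R`, both normalize the `s`-group `Q`,
`|Q|`, `|R|` odd, `C_Q(X) = 1`.  Then `[R, X]` centralizes `Q`. -/
theorem hh_centralizes' {X R Q : Subgroup G} {p q s : ℕ} (hp : p.Prime) (hq : q.Prime) (hs : s.Prime)
    (hpq : p ≠ q) (hps : p ≠ s) (hqs : q ≠ s)
    (hX : Nat.card X = p) (hR : IsPGroup q R) (hQ : IsPGroup s Q)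
    (hXR : X ≤ normalizer (R : Set G)) (hXQ : X ≤ normalizer (Q : Set G)) (hRQ : R ≤ normalizer (Q : Set G))
    (hoddQ : Odd (Nat.card Q)) (hoddR : Odd (Nat.card R))
    (hfpf : Q ⊓ centralizer (X : Set G) = ⊥) : ⁅R, X⁆ ≤ centralizer (Q : Set G) := by
  classical
  haveI : Fact p.Prime := ⟨hp⟩
  haveI : Fact s.Prime := ⟨hs⟩
  rw [Subgroup.commutator_le]
  intro r hr y hy
  by_cases hy1 : y = 1
  · rw [hy1]; simp
  -- `X = ⟨y⟩`
  have hXy : ∀ z ∈ X, z ∈ zpowers y := by
    have hcard : Nat.card (zpowers y) = Nat.card X := by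
      have h1 : Nat.card (zpowers y) ∣ p := hX ▸ Subgroup.card_dvd_of_le (by rwa [zpowers_le] : zpowers y ≤ X)
      rcases (Nat.dvd_prime hp).mp h1 with h | h
      · exfalso; apply hy1
        rw [Nat.card_zpowers] at h
        exact orderOf_eq_one_iff.mp h
      · rw [h, hX]
    have : zpowers y = X := Subgroup.eq_of_le_of_card_ge (by rwa [zpowers_le]) (le_of_eq hcard.symm)
    intro z hz; rw [this]; exact hz
  have hyp : y ^ p = 1 := by
    have := pow_card_eq_one' (G := X) (x := ⟨y, hy⟩)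
    rw [hX] at this
    simpa using congrArg Subtype.val this
  -- the set-up in the holomorph
  let ψ : ↥(normalizer (Q : Set G)) →* MulAut ↥Q := Q.normalizerMonoidHom
  let R' : Subgroup (MulAut ↥Q) := (R.subgroupOf (normalizer (Q : Set G))).map ψ
  have hR' : IsPGroup q R' := (hR.comap_subtype).map ψ
  let y' : ↥(normalizer (Q : Set G)) := ⟨y, hXQ hy⟩
  let r' : ↥(normalizer (Q : Set G)) := ⟨r, hRQ hr⟩
  let x' : Hol ↥Q := SemidirectProduct.inr (ψ y')
  let k' : Hol ↥Q := SemidirectProduct.inr (ψ r')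
  have hx'p : x' ^ p = 1 := by
    show (SemidirectProduct.inr (ψ y') : Hol ↥Q) ^ p = 1
    rw [← map_pow, ← map_pow]
    have : y' ^ p = 1 := Subtype.ext (by simpa using hyp)
    rw [this, map_one, map_one]
  have hψy : ψ y' ∈ normalizer (R' : Set (MulAut ↥Q)) := by
    apply Subgroup.le_normalizer_map ψ
    refine ⟨y', ?_, rfl⟩
    apply Subgroup.le_normalizer_comap (normalizer (Q : Set G)).subtype
    exact hXR hy
  have hx'K : x' ∈ normalizer ((KK R' : Subgroup (Hol ↥Q)) : Set (Hol ↥Q)) := by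
    apply Subgroup.le_normalizer_comap (SemidirectProduct.rightHom : Hol ↥Q →* MulAut ↥Q)
    show SemidirectProduct.rightHom x' ∈ normalizer (R' : Set (MulAut ↥Q))
    simpa [x'] using hψy
  have hk'K : k' ∈ KK R' := by
    rw [mem_KK]
    show (SemidirectProduct.inr (ψ r') : Hol ↥Q).right ∈ R'
    rw [SemidirectProduct.right_inr]
    exact ⟨r', (show r' ∈ R.subgroupOf (normalizer (Q : Set G)) from mem_subgroupOf.mpr hr), rfl⟩
  haveI : Group.IsSolvable ↥Q := by
    haveI : Group.IsNilpotent ↥Q := hQ.isNilpotent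
    infer_instance
  haveI : Group.IsSolvable ↥R' := by
    haveI : Fact q.Prime := ⟨hq⟩
    haveI : Group.IsNilpotent ↥R' := hR'.isNilpotent
    infer_instance
  have hsolv : Group.IsSolvable ↥(KK R') := solvable_KK R'
  have hcardR' : Nat.card R' ∣ Nat.card R := by
    have h1 : Nat.card R' ∣ Nat.card (R.subgroupOf (normalizer (Q : Set G))) := Subgroup.card_map_dvd _ _
    rwa [Nat.card_congr (Subgroup.subgroupOfEquivOfLe hRQ).toEquiv] at h1
  have hodd : Odd (Nat.card (KK R')) := by
    rw [card_KK]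
    exact hoddQ.mul (Odd.of_dvd_nat hoddR hcardR')
  have hpK : ¬ p ∣ Nat.card (KK R') := by
    rw [card_KK]
    intro hdvd
    obtain ⟨a, ha⟩ := IsPGroup.exists_card_eq hQ
    haveI : Fact q.Prime := ⟨hq⟩
    obtain ⟨b, hb⟩ := IsPGroup.exists_card_eq hR'
    rw [ha, hb] at hdvd
    rcases (Nat.Prime.dvd_mul hp).mp hdvd with h | h
    · exact hps ((Nat.prime_dvd_prime_iff_eq hp hs).mp (hp.dvd_of_dvd_pow h))
    · exact hpq ((Nat.prime_dvd_prime_iff_eq hp hq).mp (hp.dvd_of_dvd_pow h))
  have hF : Cfsg.fittingOf (KK R') ≤ (SemidirectProduct.rightHom : Hol ↥Q →* MulAut ↥Q).ker :=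
    fittingOf_KK_le hs hq hqs.symm hQ R' hR'
  have hfix : ∀ f ∈ Cfsg.fittingOf (KK R'), x' * f = f * x' → f = 1 := by
    intro f hf hcomm
    have hfr : f.right = 1 := hF hf
    have h1 := congrArg SemidirectProduct.left hcomm
    have h2 : (ψ y') f.left = f.left := by
      simpa [x', hfr] using h1
    have h3 : y * (f.left : G) * y⁻¹ = (f.left : G) := by
      have := congrArg Subtype.val h2
      simpa [ψ, y'] using this
    have h4 : (f.left : G) ∈ Q ⊓ centralizer (X : Set G) := by
      refine Subgroup.mem_inf.mpr ⟨f.left.2, ?_⟩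
      rw [Subgroup.mem_centralizer_iff]
      intro z hz
      obtain ⟨n, rfl⟩ := Subgroup.mem_zpowers_iff.mp (hXy z hz)
      have hc : Commute y (f.left : G) := by
        show y * (f.left : G) = (f.left : G) * y
        calc y * (f.left : G) = y * (f.left : G) * y⁻¹ * y := by group
          _ = (f.left : G) * y := by rw [h3]
      exact (hc.zpow_left n).eq
    rw [hfpf, Subgroup.mem_bot] at h4
    apply SemidirectProduct.ext
    · exact Subtype.ext h4
    · exact hfr
  have hmain := Cfsg.Agent.Lib.Helper17.PrimeAct.comm_mem_fittingOf x' hp hx'p (Nat.card (KK R')) (KK R') rfl hx'K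
    hsolv hodd hpK hfix k' hk'K
  have h5 := hF hmain
  rw [MonoidHom.mem_ker, map_commutatorElement] at h5
  have h6 : ψ ⁅r', y'⁆ = 1 := by
    rw [map_commutatorElement]
    simpa [k', x'] using h5
  have h7 : ⁅r', y'⁆ ∈ ψ.ker := h6
  rw [Subgroup.normalizerMonoidHom_ker, mem_subgroupOf] at h7
  exact h7

/-- **Block C** with the signature of `notes/bg11/Skeleton.lean`. -/
theorem hh_centralizes {X R Q : Subgroup G} {p q s : ℕ} (hp : p.Prime) (hq : q.Prime) (hs : s.Prime)
    (hpq : p ≠ q) (hps : p ≠ s) (hqs : q ≠ s)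
    (hX : Nat.card X = p) (hR : IsPGroup q R) (hQ : IsPGroup s Q)
    (hXR : X ≤ normalizer (R : Set G)) (hXQ : X ≤ normalizer (Q : Set G)) (hRQ : R ≤ normalizer (Q : Set G))
    (_hsolv : Group.IsSolvable ↥(Q ⊔ R ⊔ X)) (hodd : Odd (Nat.card ↥(Q ⊔ R ⊔ X)))
    (hfpf : Q ⊓ centralizer (X : Set G) = ⊥) : ⁅R, X⁆ ≤ centralizer (Q : Set G) :=
  hh_centralizes' hp hq hs hpq hps hqs hX hR hQ hXR hXQ hRQ
    (Odd.of_dvd_nat hodd (Subgroup.card_dvd_of_le (le_sup_left.trans le_sup_left)))
    (Odd.of_dvd_nat hodd (Subgroup.card_dvd_of_le (le_sup_right.trans le_sup_left))) hfpf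

end Cfsg.Agent.Lib.Helper1.BGExC
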