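/-
helper1: for `p > 3`, the bound `|Ω₁(R)| ≤ p²` on a `p`-group passes to all quotients.
-/
import Mathlib
import Cfsg.Prelude.Def_PLocal
import Cfsg.Agent.Lib.Helper1.ClassThreePow
import Cfsg.Agent.Lib.Helper1.PGroup
import Cfsg.Agent.Lib.Helper1.OmegaRankTwo
import Cfsg.Agent.Lib.Helper1.MaxNormalAbelian
import Cfsg.Agent.Lib.Helper12.Basic

set_option autoImplicit false
open scoped commutatorElement

namespace Cfsg.Agent.Lib.Helper1.OmegaQuot

open Cfsg

universe u v

/-! ### basics on `omegaOne` -/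

theorem omegaOne_top_eq {X : Type*} [Group X] (p : ℕ) :
    omegaOne p (⊤ : Subgroup X) = Subgroup.closure {x : X | x ^ p = 1} := by
  unfold omegaOne
  congr 1
  ext x
  simp

theorem mem_omegaOne {X : Type*} [Group X] (p : ℕ) (H : Subgroup X) {x : X} (hx : x ∈ H)
    (hxp : x ^ p = 1) : x ∈ omegaOne p H :=
  Subgroup.subset_closure ⟨hx, hxp⟩

theorem omegaOne_le {X : Type*} [Group X] (p : ℕ) (H : Subgroup X) : omegaOne p H ≤ H := by
  unfold omegaOne
  rw [Subgroup.closure_le]
  intro x hx
  exact hx.1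

theorem omegaOne_mono {X : Type*} [Group X] (p : ℕ) {H K : Subgroup X} (h : H ≤ K) :
    omegaOne p H ≤ omegaOne p K := by
  unfold omegaOne
  apply Subgroup.closure_mono
  intro x hx
  exact ⟨h hx.1, hx.2⟩

theorem omegaOne_normal {X : Type*} [Group X] (p : ℕ) (H : Subgroup X) [hH : H.Normal] :
    (omegaOne p H).Normal := by
  constructor
  intro n hn g
  unfold omegaOne at hn ⊢
  induction hn using Subgroup.closure_induction with
  | mem x hx =>
    apply Subgroup.subset_closure
    refine ⟨hH.conj_mem x hx.1 g, ?_⟩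
    rw [conj_pow, hx.2, mul_one, mul_inv_cancel]
  | one => simp
  | mul x y _ _ hx hy =>
    have : g * (x * y) * g⁻¹ = (g * x * g⁻¹) * (g * y * g⁻¹) := by group
    rw [this]; exact mul_mem hx hy
  | inv x _ hx =>
    have : g * x⁻¹ * g⁻¹ = (g * x * g⁻¹)⁻¹ := by group
    rw [this]; exact inv_mem hx

/-- `Ω₁` of a subgroup, computed inside the subgroup or in the ambient group. -/
theorem map_omegaOne_top {X : Type*} [Group X] (p : ℕ) (H : Subgroup X) :
    (omegaOne p (⊤ : Subgroup H)).map H.subtype = omegaOne p H := by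
  rw [omegaOne_top_eq]
  unfold omegaOne
  rw [MonoidHom.map_closure]
  congr 1
  ext x
  constructor
  · rintro ⟨h, hh, rfl⟩
    refine ⟨h.2, ?_⟩
    have := congrArg Subtype.val (show h ^ p = 1 from hh)
    simpa using this
  · rintro ⟨hx, hxp⟩
    refine ⟨⟨x, hx⟩, ?_, rfl⟩
    show (⟨x, hx⟩ : H) ^ p = 1
    apply Subtype.ext
    simpa using hxp

theorem card_omegaOne_top {X : Type*} [Group X] (p : ℕ) (H : Subgroup X) :
    Nat.card (omegaOne p (⊤ : Subgroup H)) = Nat.card (omegaOne p H) := by
  rw [← map_omegaOne_top p H, Subgroup.card_map_of_injective H.subtype_injective]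

/-- lifting: if every element of order dividing `p` of `Y` lifts to one of `X`, then
`|Ω₁(Y)| ≤ |Ω₁(X)|`. -/
theorem card_omegaOne_le_of_lift {X : Type*} {Y : Type*} [Group X] [Group Y] [Finite X] (p : ℕ)
    (f : X →* Y) (h : ∀ y : Y, y ^ p = 1 → ∃ x : X, x ^ p = 1 ∧ f x = y) :
    Nat.card (omegaOne p (⊤ : Subgroup Y)) ≤ Nat.card (omegaOne p (⊤ : Subgroup X)) := by
  have hle : omegaOne p (⊤ : Subgroup Y) ≤ (omegaOne p (⊤ : Subgroup X)).map f := by
    rw [omegaOne_top_eq, Subgroup.closure_le]
    intro y hy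
    obtain ⟨x, hx, rfl⟩ := h y hy
    refine ⟨x, ?_, rfl⟩
    rw [omegaOne_top_eq]
    exact Subgroup.subset_closure hx
  haveI : Finite ((omegaOne p (⊤ : Subgroup X)).map f) :=
    Finite.of_surjective _ (f.subgroupMap_surjective _)
  have h1 := Subgroup.card_le_of_le hle
  have h2 : Nat.card ((omegaOne p (⊤ : Subgroup X)).map f) ≤
      Nat.card (omegaOne p (⊤ : Subgroup X)) :=
    Nat.card_le_card_of_surjective _ (f.subgroupMap_surjective _)
  exact le_trans h1 h2

theorem card_omegaOne_le_of_mulEquiv {X : Type*} {Y : Type*} [Group X] [Group Y] [Finite X]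
    (p : ℕ) (e : X ≃* Y) :
    Nat.card (omegaOne p (⊤ : Subgroup Y)) ≤ Nat.card (omegaOne p (⊤ : Subgroup X)) := by
  apply card_omegaOne_le_of_lift p e.toMonoidHom
  intro y hy
  refine ⟨e.symm y, ?_, by simp⟩
  rw [← map_pow, hy, map_one]

/-! ### a normal subgroup of order at most `p²` lies in the second centre -/

theorem le_upperCentralSeries_two_of_card_le {R : Type*} [Group R] [Finite R] {p : ℕ}
    [hp : Fact p.Prime] (hR : IsPGroup p R) (V : Subgroup R) [hVn : V.Normal]
    (hVcard : Nat.card V ≤ p ^ 2) : V ≤ Subgroup.upperCentralSeries R 2 := by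
  have hpp := hp.out
  have hcZ2 : Subgroup.center R ≤ Subgroup.upperCentralSeries R 2 := by
    rw [← Subgroup.upperCentralSeries_one]
    exact Subgroup.upperCentralSeries_mono R (by norm_num)
  by_cases hVZ : V ≤ V ⊓ Subgroup.center R
  · exact le_trans (le_trans hVZ inf_le_right) hcZ2
  · obtain ⟨t, htV, htV1, htc⟩ := exists_central_mod_of_lt hR (V ⊓ Subgroup.center R) V hVZ
    have hne : V ⊓ Subgroup.center R ≠ ⊥ := by
      intro h
      have hVnt : V ≠ ⊥ := by
        intro hV
        apply hVZ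
        rw [hV]; exact bot_le
      obtain ⟨z, hzV, hz1, hzc⟩ :=
        Cfsg.Agent.Lib.Helper12.exists_ne_one_mem_center_of_normal hR V hVnt
      apply hz1
      have : z ∈ V ⊓ Subgroup.center R := ⟨hzV, hzc⟩
      rwa [h, Subgroup.mem_bot] at this
    -- orders
    obtain ⟨a, ha⟩ := IsPGroup.iff_card.mp (hR.to_subgroup (V ⊓ Subgroup.center R))
    obtain ⟨b, hb⟩ := IsPGroup.iff_card.mp (hR.to_subgroup ((V ⊓ Subgroup.center R) ⊔ Subgroup.zpowers t))
    obtain ⟨v, hv⟩ := IsPGroup.iff_card.mp (hR.to_subgroup V)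
    have hBV : (V ⊓ Subgroup.center R) ⊔ Subgroup.zpowers t ≤ V :=
      sup_le inf_le_left (by rw [Subgroup.zpowers_le]; exact htV)
    have ha1 : 1 ≤ a := by
      rcases a with _ | a
      · exfalso
        rw [pow_zero] at ha
        exact hne (Subgroup.card_eq_one.mp ha)
      · omega
    have hab : a < b := by
      have hlt : V ⊓ Subgroup.center R < (V ⊓ Subgroup.center R) ⊔ Subgroup.zpowers t := by
        apply lt_of_le_of_ne le_sup_left
        intro h
        apply htV1
        rw [h]
        exact Subgroup.mem_sup_right (Subgroup.mem_zpowers t)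
      have hcl : Nat.card (V ⊓ Subgroup.center R : Subgroup R) <
          Nat.card ((V ⊓ Subgroup.center R) ⊔ Subgroup.zpowers t : Subgroup R) := by
        by_contra hge
        push Not at hge
        exact (ne_of_lt hlt) (Subgroup.eq_of_le_of_card_ge (le_of_lt hlt) hge)
      rw [ha, hb] at hcl
      exact (Nat.pow_lt_pow_iff_right hpp.one_lt).mp hcl
    have hbv : b ≤ v := by
      have := Subgroup.card_le_of_le hBV
      rw [hb, hv] at this
      exact (Nat.pow_le_pow_iff_right hpp.one_lt).mp this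
    have hv2 : v ≤ 2 := by
      rw [hv] at hVcard
      exact (Nat.pow_le_pow_iff_right hpp.one_lt).mp hVcard
    have hsup : (V ⊓ Subgroup.center R) ⊔ Subgroup.zpowers t = V := by
      apply Subgroup.eq_of_le_of_card_ge hBV
      rw [hb, hv]
      exact Nat.pow_le_pow_right hpp.pos (by omega)
    rw [← hsup]
    apply sup_le (le_trans inf_le_right hcZ2)
    rw [Subgroup.zpowers_le, Subgroup.mem_upperCentralSeries_succ_iff (n := 1)]
    intro y
    rw [Subgroup.upperCentralSeries_one]
    have h1 : ⁅t, y⁆ = (⁅y, t⁆)⁻¹ := by simp only [commutatorElement_def]; group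
    rw [h1]
    exact inv_mem (htc y).2

/-! ### the power map -/

/-- if the `p`-th power map is multiplicative with values in a subgroup of order at most `p`, its
kernel has index at most `p`. -/
theorem exists_ker_pow {M : Type*} [Group M] [Finite M] (p : ℕ)
    (hmul : ∀ x y : M, (x * y) ^ p = x ^ p * y ^ p) (Z : Subgroup M) (hZ : Nat.card Z ≤ p)
    (hpow : ∀ x : M, x ^ p ∈ Z) :
    ∃ K : Subgroup M, (∀ x, x ∈ K ↔ x ^ p = 1) ∧ Nat.card M ≤ p * Nat.card K := by
  let φ : M →* M := MonoidHom.mk' (fun x => x ^ p) hmul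
  refine ⟨φ.ker, fun x => Iff.rfl, ?_⟩
  have h1 := Subgroup.card_mul_index φ.ker
  rw [Subgroup.index_ker] at h1
  have h2 : Nat.card φ.range ≤ p := by
    refine le_trans (Subgroup.card_le_of_le ?_) hZ
    rintro _ ⟨x, rfl⟩
    exact hpow x
  calc Nat.card M = Nat.card φ.ker * Nat.card φ.range := h1.symm
    _ ≤ Nat.card φ.ker * p := Nat.mul_le_mul_left _ h2
    _ = p * Nat.card φ.ker := Nat.mul_comm _ _

/-! ### the main induction -/

theorem small_omega_of_central_aux {p : ℕ} [hp : Fact p.Prime] (hp3 : 3 < p) :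
    ∀ (n : ℕ) (R Q : Type u) [Group R] [Group Q] [Finite R] [Finite Q] (π : R →* Q),
      Function.Surjective π → Nat.card R = n → IsPGroup p R → π.ker ≤ Subgroup.center R →
      Nat.card π.ker = p → Nat.card (omegaOne p (⊤ : Subgroup R)) ≤ p ^ 2 →
      Nat.card (omegaOne p (⊤ : Subgroup Q)) ≤ p ^ 2 := by
  intro n
  induction n using Nat.strong_induction_on with
  | _ n IH =>
  intro R Q _ _ _ _ π hπ hn hR hker hkerc hΩ
  have hpp := hp.out
  have hp2 : p ≠ 2 := by omega
  have hQ : IsPGroup p Q := hR.of_surjective π hπ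
  -- proper subgroups of `Q`
  have hsub : ∀ H : Subgroup Q, H ≠ ⊤ → Nat.card (omegaOne p H) ≤ p ^ 2 := by
    intro H hH
    rw [← card_omegaOne_top]
    have hM : H.comap π ≠ ⊤ := by
      intro h
      apply hH
      rw [eq_top_iff]
      intro y _
      obtain ⟨x, rfl⟩ := hπ y
      have : x ∈ H.comap π := by rw [h]; trivial
      exact this
    refine IH (Nat.card (H.comap π)) ?_ (H.comap π) H (π.subgroupComap H)
      (π.subgroupComap_surjective_of_surjective H hπ) rfl (hR.to_subgroup _) ?_ ?_ ?_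
    · rw [← hn]; exact card_lt_of_ne_top hM
    · intro x hx
      rw [Subgroup.mem_center_iff]
      intro g
      have h1 : π x.1 = 1 := by
        have h0 : ((π.subgroupComap H) x : Q) = π x.1 := rfl
        rw [show (π.subgroupComap H) x = 1 from hx] at h0
        simpa using h0.symm
      have h2 := Subgroup.mem_center_iff.mp (hker h1) g.1
      exact Subtype.ext h2
    · have : (π.subgroupComap H).ker.map (H.comap π).subtype = π.ker := by
        ext x
        constructor
        · rintro ⟨y, hy, rfl⟩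
          have h0 : ((π.subgroupComap H) y : Q) = π y.1 := rfl
          rw [show (π.subgroupComap H) y = 1 from hy] at h0
          show π y.1 = 1
          simpa using h0.symm
        · intro hx
          have hx1 : π x = 1 := hx
          have hxH : x ∈ H.comap π := by
            rw [Subgroup.mem_comap, hx1]; exact one_mem _
          refine ⟨⟨x, hxH⟩, ?_, rfl⟩
          show (π.subgroupComap H) ⟨x, hxH⟩ = 1
          apply Subtype.ext
          show π x = 1
          exact hx1
      rw [← hkerc, ← this, Subgroup.card_map_of_injective (Subgroup.subtype_injective _)]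
    · rw [card_omegaOne_top]
      exact le_trans (Subgroup.card_le_of_le (omegaOne_mono p le_top)) hΩ
  by_cases hΩQ : omegaOne p (⊤ : Subgroup Q) = ⊤
  swap
  · have h1 : omegaOne p (⊤ : Subgroup Q) ≤ omegaOne p (omegaOne p (⊤ : Subgroup Q)) := by
      conv_lhs => rw [omegaOne_top_eq]
      rw [Subgroup.closure_le]
      intro x hx
      exact mem_omegaOne p _ (mem_omegaOne p ⊤ trivial hx) hx
    exact le_trans (Subgroup.card_le_of_le h1) (hsub _ hΩQ)
  -- every element of order `p` lies in `Z₂(Q)`
  have hZ2 : ∀ y : Q, y ^ p = 1 → y ∈ Subgroup.upperCentralSeries Q 2 := by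
    intro y hy
    rcases eq_top_or_exists_le_coatom (Subgroup.zpowers y) with htop | ⟨M, hM, hyM⟩
    · have hc : ∀ a b : Q, a * b = b * a := by
        intro a b
        have ha : a ∈ Subgroup.zpowers y := by rw [htop]; trivial
        have hb : b ∈ Subgroup.zpowers y := by rw [htop]; trivial
        obtain ⟨i, rfl⟩ := Subgroup.mem_zpowers_iff.mp ha
        obtain ⟨j, rfl⟩ := Subgroup.mem_zpowers_iff.mp hb
        rw [← zpow_add, ← zpow_add, add_comm]
      apply Subgroup.upperCentralSeries_mono Q (show 1 ≤ 2 by norm_num)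
      rw [Subgroup.upperCentralSeries_one, Subgroup.mem_center_iff]
      intro g
      exact hc g y
    · haveI : M.Normal := IsPGroup.coatom_normal hQ M hM
      haveI : (omegaOne p M).Normal := omegaOne_normal p M
      have h1 := le_upperCentralSeries_two_of_card_le hQ (omegaOne p M) (hsub M hM.1)
      exact h1 (mem_omegaOne p M (hyM (Subgroup.mem_zpowers y)) hy)
  have hZ2top : Subgroup.upperCentralSeries Q 2 = ⊤ := by
    rw [eq_top_iff, ← hΩQ, omegaOne_top_eq, Subgroup.closure_le]
    intro y hy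
    exact hZ2 y hy
  -- class at most two
  have hcl2 : ⁅commutator Q, (⊤ : Subgroup Q)⁆ = ⊥ := by
    rw [Subgroup.commutator_eq_bot_iff_le_centralizer, Subgroup.coe_top, Subgroup.centralizer_univ,
      _root_.commutator_def, Subgroup.commutator_le]
    intro a _ b _
    have ha : a ∈ Subgroup.upperCentralSeries Q 2 := by rw [hZ2top]; trivial
    have := (Subgroup.mem_upperCentralSeries_succ_iff (n := 1)).mp ha b
    rwa [Subgroup.upperCentralSeries_one] at this
  -- exponent `p`
  have hexp : ∀ y : Q, y ^ p = 1 := by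
    intro y
    apply pow_eq_one_of_mem_closure_class_two hp2 hcl2 y
    rw [← omegaOne_top_eq, hΩQ]; trivial
  by_cases hQ2 : Nat.card Q ≤ p ^ 2
  · exact le_trans (Subgroup.card_le_card_group _) hQ2
  exfalso
  push Not at hQ2
  have hp_lt : p < p ^ 2 := by nlinarith [hpp.two_le]
  -- `Q` is not cyclic
  have hncyc : ∀ y : Q, Subgroup.zpowers y ≠ ⊤ := by
    intro y htop
    have h1 : Nat.card (Subgroup.zpowers y) = Nat.card Q := by rw [htop, Subgroup.card_top]
    rw [Nat.card_zpowers] at h1
    have h2 : orderOf y ∣ p := orderOf_dvd_of_pow_eq_one (hexp y)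
    have h3 : orderOf y ≤ p := Nat.le_of_dvd hpp.pos h2
    omega
  -- maximal subgroups
  have hcoatom_card : ∀ M : Subgroup Q, IsCoatom M → Nat.card M = p ^ 2 ∧ Nat.card Q = p ^ 3 := by
    intro M hM
    have hidx := IsPGroup.coatom_index hQ M hM
    have h1 := Subgroup.card_mul_index M
    rw [hidx] at h1
    have h2 : omegaOne p M = M := by
      apply le_antisymm (omegaOne_le p M)
      intro x hx
      exact mem_omegaOne p M hx (hexp x)
    have h3 : Nat.card M ≤ p ^ 2 := by
      have := hsub M hM.1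
      rwa [h2] at this
    obtain ⟨k, hk⟩ := IsPGroup.iff_card.mp (hQ.to_subgroup M)
    have hk2 : k ≤ 2 := by
      rw [hk] at h3
      exact (Nat.pow_le_pow_iff_right hpp.one_lt).mp h3
    have hk2' : 2 ≤ k := by
      by_contra hlt
      push Not at hlt
      have : Nat.card Q ≤ p ^ 2 := by
        rw [← h1, hk]
        calc p ^ k * p = p ^ (k + 1) := by ring
          _ ≤ p ^ 2 := Nat.pow_le_pow_right hpp.pos (by omega)
      omega
    have hk' : k = 2 := by omega
    subst hk'
    refine ⟨hk, ?_⟩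
    rw [← h1, hk]; ring
  obtain ⟨M1, hM1, -⟩ := (eq_top_or_exists_le_coatom (⊥ : Subgroup Q)).resolve_left (by
    intro h
    have h1 : Nat.card Q = 1 := by
      have := Subgroup.card_bot (G := Q)
      rw [h, Subgroup.card_top] at this
      exact this
    omega)
  obtain ⟨y, hy⟩ : ∃ y : Q, y ∉ M1 := by
    by_contra hall
    push Not at hall
    exact hM1.1 (eq_top_iff.mpr fun x _ => hall x)
  obtain ⟨M2, hM2, hyM2⟩ :=
    (eq_top_or_exists_le_coatom (Subgroup.zpowers y)).resolve_left (hncyc y)
  have hM12 : M1 ≠ M2 := by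
    intro h
    apply hy
    rw [h]
    exact hyM2 (Subgroup.mem_zpowers y)
  obtain ⟨hM1c, hQc⟩ := hcoatom_card M1 hM1
  obtain ⟨hM2c, -⟩ := hcoatom_card M2 hM2
  have hRc : Nat.card R = p ^ 4 := by
    have h1 := Subgroup.card_mul_index π.ker
    rw [Subgroup.index_ker, hkerc] at h1
    have h2 : Nat.card π.range = Nat.card Q := by
      rw [MonoidHom.range_eq_top.mpr hπ, Subgroup.card_top]
    rw [h2, hQc] at h1
    rw [← h1]; ring
  have hcomap_card : ∀ M : Subgroup Q, IsCoatom M → Nat.card (M.comap π) = p ^ 3 := by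
    intro M hM
    have h1 := Subgroup.card_mul_index (M.comap π)
    rw [Subgroup.index_comap_of_surjective M hπ, IsPGroup.coatom_index hQ M hM, hRc] at h1
    have : Nat.card (M.comap π) * p = p ^ 3 * p := by rw [h1]; ring
    exact Nat.eq_of_mul_eq_mul_right hpp.pos this
  have hkey : ∀ M : Subgroup Q, IsCoatom M → Nat.card M = p ^ 2 →
      omegaOne p (⊤ : Subgroup R) ≤ M.comap π ∧
        p ^ 2 ≤ Nat.card (omegaOne p (⊤ : Subgroup R)) := by
    intro M hM hMc
    have hNc := hcomap_card M hM
    set N := M.comap π with hN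
    have hMcomm : IsMulCommutative M := IsPGroup.isMulCommutative_of_card_eq_prime_sq hMc
    set K : Subgroup N := π.ker.subgroupOf N with hK
    have hkerN : π.ker ≤ N := by
      intro x hx
      have hx1 : π x = 1 := hx
      rw [hN, Subgroup.mem_comap, hx1]; exact one_mem _
    have hKcard : Nat.card K ≤ p := by
      rw [hK, Nat.card_congr (Subgroup.subgroupOfEquivOfLe hkerN).toEquiv, hkerc]
    have hKexp : ∀ k ∈ K, k ^ p = 1 := by
      intro k hk
      rw [hK, Subgroup.mem_subgroupOf] at hk
      have h1 : (⟨k.1, hk⟩ : π.ker) ^ Nat.card π.ker = 1 := pow_card_eq_one'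
      rw [hkerc] at h1
      have h2 := congrArg Subtype.val h1
      apply Subtype.ext
      simpa using h2
    have hKcent : K ≤ Subgroup.center N := by
      intro k hk
      rw [hK, Subgroup.mem_subgroupOf] at hk
      rw [Subgroup.mem_center_iff]
      intro g
      exact Subtype.ext (Subgroup.mem_center_iff.mp (hker hk) g.1)
    have hcomm : commutator N ≤ K := by
      rw [_root_.commutator_def, Subgroup.commutator_le]
      intro a _ b _
      rw [hK, Subgroup.mem_subgroupOf, MonoidHom.mem_ker]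
      have h1 : ((⁅a, b⁆ : N) : R) = ⁅(a : R), (b : R)⁆ := by
        simp [commutatorElement_def]
      rw [h1, map_commutatorElement, commutatorElement_eq_one_iff_commute]
      have h2 := mul_comm' (⟨π a.1, a.2⟩ : M) ⟨π b.1, b.2⟩
      have h3 := congrArg Subtype.val h2
      exact h3
    have hcl2N : ⁅commutator N, (⊤ : Subgroup N)⁆ = ⊥ := by
      rw [Subgroup.commutator_eq_bot_iff_le_centralizer, Subgroup.coe_top,
        Subgroup.centralizer_univ]
      exact le_trans hcomm hKcent
    have hderN : commutator N ≤ Subgroup.closure {x : N | x ^ p = 1} :=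
      le_trans hcomm (fun k hk => Subgroup.subset_closure (hKexp k hk))
    have hmulN := mul_pow_prime_of_small_class (Or.inl ⟨hp2, hcl2N⟩) hderN
    obtain ⟨L, hL, hLcard⟩ := exists_ker_pow p hmulN K hKcard (fun x => by
      rw [hK, Subgroup.mem_subgroupOf, MonoidHom.mem_ker, Subgroup.coe_pow, map_pow, hexp])
    have hLΩ : L.map N.subtype ≤ omegaOne p (⊤ : Subgroup R) := by
      rintro _ ⟨x, hx, rfl⟩
      apply mem_omegaOne p ⊤ trivial
      have := congrArg Subtype.val ((hL x).mp hx)
      simpa using this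
    have hLc : p ^ 2 ≤ Nat.card L := by
      rw [hNc] at hLcard
      have : p * p ^ 2 ≤ p * Nat.card L := by
        calc p * p ^ 2 = p ^ 3 := by ring
          _ ≤ _ := hLcard
      exact Nat.le_of_mul_le_mul_left this hpp.pos
    have hLc' : Nat.card (L.map N.subtype) = Nat.card L :=
      Subgroup.card_map_of_injective N.subtype_injective
    have hΩc : p ^ 2 ≤ Nat.card (omegaOne p (⊤ : Subgroup R)) :=
      le_trans (by rw [hLc']; exact hLc) (Subgroup.card_le_of_le hLΩ)
    have heq : L.map N.subtype = omegaOne p (⊤ : Subgroup R) :=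
      Subgroup.eq_of_le_of_card_ge hLΩ (by rw [hLc']; exact le_trans hΩ hLc)
    refine ⟨?_, hΩc⟩
    rw [← heq]
    rintro _ ⟨x, _, rfl⟩
    exact x.2
  obtain ⟨h1le, hΩge⟩ := hkey M1 hM1 hM1c
  obtain ⟨h2le, -⟩ := hkey M2 hM2 hM2c
  have hN1c := hcomap_card M1 hM1
  have hN2c := hcomap_card M2 hM2
  have hN12 : M1.comap π ≠ M2.comap π := fun h => hM12 (Subgroup.comap_injective hπ h)
  have hinf : Nat.card (M1.comap π ⊓ M2.comap π : Subgroup R) ≤ p ^ 2 := by
    have hlt : M1.comap π ⊓ M2.comap π ≠ M1.comap π := by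
      intro h
      have hle : M1.comap π ≤ M2.comap π := by rw [← h]; exact inf_le_right
      exact hN12 (Subgroup.eq_of_le_of_card_ge hle (by rw [hN1c, hN2c]))
    have hdvd := Subgroup.card_dvd_of_le (inf_le_left : M1.comap π ⊓ M2.comap π ≤ M1.comap π)
    rw [hN1c] at hdvd
    obtain ⟨k, hk3, hk⟩ := (Nat.dvd_prime_pow hpp).mp hdvd
    have : k ≠ 3 := by
      intro h3
      subst h3
      exact hlt (Subgroup.eq_of_le_of_card_ge inf_le_left (by rw [hN1c, hk]))
    rw [hk]
    exact Nat.pow_le_pow_right hpp.pos (by omega)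
  have hΩeq : omegaOne p (⊤ : Subgroup R) = M1.comap π ⊓ M2.comap π :=
    Subgroup.eq_of_le_of_card_ge (le_inf h1le h2le) (le_trans hinf hΩge)
  have hcommR : commutator R ≤ Subgroup.closure {x : R | x ^ p = 1} := by
    rw [← omegaOne_top_eq, hΩeq, _root_.commutator_def, Subgroup.commutator_le]
    intro a _ b _
    have hc : ⁅π a, π b⁆ ∈ commutator Q :=
      Subgroup.commutator_mem_commutator (Subgroup.mem_top _) (Subgroup.mem_top _)
    constructor
    · show π ⁅a, b⁆ ∈ M1
      rw [map_commutatorElement]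
      exact IsPGroup.commutator_le_coatom hQ M1 hM1 hc
    · show π ⁅a, b⁆ ∈ M2
      rw [map_commutatorElement]
      exact IsPGroup.commutator_le_coatom hQ M2 hM2 hc
  have hcl3 := class_three_of_card_le hR (le_of_eq hRc)
  have hmulR := mul_pow_prime_of_small_class (Or.inr ⟨hp3, hcl3⟩) hcommR
  obtain ⟨L, hL, hLcard⟩ := exists_ker_pow p hmulR π.ker (le_of_eq hkerc) (fun x => by
    rw [MonoidHom.mem_ker, map_pow, hexp])
  have hLΩ : L ≤ omegaOne p (⊤ : Subgroup R) :=
    fun x hx => mem_omegaOne p ⊤ trivial ((hL x).mp hx)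
  have hLle : Nat.card L ≤ p ^ 2 := le_trans (Subgroup.card_le_of_le hLΩ) hΩ
  rw [hRc] at hLcard
  have h4 : p ^ 4 ≤ p * p ^ 2 := le_trans hLcard (Nat.mul_le_mul_left _ hLle)
  have h5 : p ^ 3 < p ^ 4 := Nat.pow_lt_pow_right hpp.one_lt (by norm_num)
  have h6 : p * p ^ 2 = p ^ 3 := by ring
  omega

theorem small_omega_quotient_aux {p : ℕ} [hp : Fact p.Prime] (hp3 : 3 < p) :
    ∀ (n : ℕ) (R : Type u) [Group R] [Finite R] (T : Subgroup R) [T.Normal],
      Nat.card T = n → IsPGroup p R → Nat.card (omegaOne p (⊤ : Subgroup R)) ≤ p ^ 2 →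
      Nat.card (omegaOne p (⊤ : Subgroup (R ⧸ T))) ≤ p ^ 2 := by
  intro n
  induction n using Nat.strong_induction_on with
  | _ n IH =>
  intro R _ _ T _ hn hR hΩ
  by_cases hT : T = ⊥
  · subst hT
    exact le_trans (card_omegaOne_le_of_mulEquiv p (QuotientGroup.quotientBot (G := R)).symm) hΩ
  · have hpp := hp.out
    have hTZ : T ⊓ Subgroup.center R ≠ ⊥ := by
      obtain ⟨z, hzT, hz1, hzc⟩ :=
        Cfsg.Agent.Lib.Helper12.exists_ne_one_mem_center_of_normal hR T hT
      intro h
      apply hz1
      have : z ∈ T ⊓ Subgroup.center R := ⟨hzT, hzc⟩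
      rwa [h, Subgroup.mem_bot] at this
    have hdvd : p ∣ Nat.card (T ⊓ Subgroup.center R : Subgroup R) := by
      obtain ⟨k, hk⟩ := IsPGroup.iff_card.mp (hR.to_subgroup (T ⊓ Subgroup.center R))
      rcases k with _ | k
      · exfalso
        rw [pow_zero] at hk
        exact hTZ (Subgroup.card_eq_one.mp hk)
      · rw [hk]; exact dvd_pow_self p (by omega)
    obtain ⟨w, hw⟩ := exists_prime_orderOf_dvd_card' p hdvd
    set Z : Subgroup R := Subgroup.zpowers (w : R) with hZ
    have hword : orderOf (w : R) = p := by rw [Subgroup.orderOf_coe]; exact hw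
    have hZcard : Nat.card Z = p := by rw [hZ, Nat.card_zpowers, hword]
    have hZT : Z ≤ T := by rw [hZ, Subgroup.zpowers_le]; exact w.2.1
    have hZc : Z ≤ Subgroup.center R := by rw [hZ, Subgroup.zpowers_le]; exact w.2.2
    haveI : Z.Normal := ⟨fun n hn g => by
      have h1 := Subgroup.mem_center_iff.mp (hZc hn) g
      have h2 : g * n * g⁻¹ = n := by rw [h1, mul_inv_cancel_right]
      rw [h2]; exact hn⟩
    have h1 : Nat.card (omegaOne p (⊤ : Subgroup (R ⧸ Z))) ≤ p ^ 2 := by
      refine small_omega_of_central_aux hp3 (Nat.card R) R (R ⧸ Z) (QuotientGroup.mk' Z)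
        (QuotientGroup.mk'_surjective Z) rfl hR ?_ ?_ hΩ
      · rw [QuotientGroup.ker_mk']; exact hZc
      · rw [QuotientGroup.ker_mk']; exact hZcard
    have hRZ : IsPGroup p (R ⧸ Z) := hR.to_quotient Z
    set Tb := T.map (QuotientGroup.mk' Z) with hTb
    haveI : Tb.Normal := Subgroup.Normal.map inferInstance _ (QuotientGroup.mk'_surjective Z)
    have hTbcard : Nat.card Tb < n := by
      set f := (QuotientGroup.mk' Z).subgroupMap T with hf
      have hfs : Function.Surjective f := (QuotientGroup.mk' Z).subgroupMap_surjective T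
      have h2 := Subgroup.card_mul_index f.ker
      rw [Subgroup.index_ker, MonoidHom.range_eq_top.mpr hfs, Subgroup.card_top, hn] at h2
      have hker : f.ker ≠ ⊥ := by
        intro h
        have hwk : (⟨(w : R), w.2.1⟩ : T) ∈ f.ker := by
          rw [MonoidHom.mem_ker]
          apply Subtype.ext
          show QuotientGroup.mk' Z (w : R) = 1
          rw [QuotientGroup.mk'_apply, QuotientGroup.eq_one_iff]
          exact Subgroup.mem_zpowers _
        rw [h, Subgroup.mem_bot] at hwk
        have hw1 : (w : R) = 1 := congrArg Subtype.val hwk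
        rw [hw1, orderOf_one] at hword
        exact hpp.one_lt.ne hword
      have h3 : 1 < Nat.card f.ker := (Subgroup.one_lt_card_iff_ne_bot (H := f.ker)).mpr hker
      have h4 : 0 < Nat.card Tb := Nat.card_pos
      nlinarith
    have h2 := IH (Nat.card Tb) hTbcard (R ⧸ Z) Tb rfl hRZ h1
    exact le_trans (card_omegaOne_le_of_mulEquiv p
      (QuotientGroup.quotientQuotientEquivQuotient Z T hZT)) h2

/-- For `p > 3`, the bound `|Ω₁(R)| ≤ p²` passes to quotients of the `p`-group `R`. -/
theorem small_omega_quotient {R : Type u} [Group R] [Finite R] {p : ℕ} [Fact p.Prime]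
    (hp3 : 3 < p) (hR : IsPGroup p R) (hΩ : Nat.card (omegaOne p (⊤ : Subgroup R)) ≤ p ^ 2)
    (T : Subgroup R) [T.Normal] :
    Nat.card (omegaOne p (⊤ : Subgroup (R ⧸ T))) ≤ p ^ 2 :=
  small_omega_quotient_aux hp3 (Nat.card T) R T rfl hR hΩ

end Cfsg.Agent.Lib.Helper1.OmegaQuot
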