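/-
helper1: Huppert's criterion: for `p > 3`, a `p`-group with `|Ω₁| ≤ p²` is metacyclic.
-/
import Mathlib
import Cfsg.Prelude.Def_OddOrderLocal
import Cfsg.Agent.Lib.Helper1.OmegaQuot

set_option autoImplicit false
open scoped commutatorElement

namespace Cfsg.Agent.Lib.Helper1.HuppertMeta

open Cfsg Cfsg.Agent.Lib.Helper1.OmegaQuot

universe u

theorem closure_pair_eq_sup {G : Type*} [Group G] (x g : G) :
    Subgroup.closure {x, g} = Subgroup.zpowers x ⊔ Subgroup.zpowers g := by
  rw [Subgroup.zpowers_eq_closure, Subgroup.zpowers_eq_closure, ← Subgroup.closure_union]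
  rfl

/-- a group generated by `x, g` with `⟨x⟩` normal is metacyclic. -/
theorem isMetacyclic_of_closure_pair {G : Type u} [Group G] (x g : G)
    (hx : (Subgroup.zpowers x).Normal) (h : Subgroup.closure {x, g} = ⊤) : IsMetacyclic G := by
  refine ⟨Subgroup.zpowers x, hx, Subgroup.isCyclic_zpowers x, ?_⟩
  refine ⟨⟨QuotientGroup.mk' _ g, fun y => ?_⟩⟩
  obtain ⟨h', rfl⟩ := QuotientGroup.mk'_surjective _ y
  have hmem : h' ∈ Subgroup.zpowers g ⊔ Subgroup.zpowers x := by
    rw [sup_comm, ← closure_pair_eq_sup, h]; trivial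
  obtain ⟨a, ha, b, hb, rfl⟩ := Subgroup.mem_sup_of_normal_right.mp hmem
  obtain ⟨i, rfl⟩ := Subgroup.mem_zpowers_iff.mp ha
  refine ⟨i, ?_⟩
  show (QuotientGroup.mk' (Subgroup.zpowers x)) g ^ i = _
  rw [map_mul, map_zpow]
  have : (QuotientGroup.mk' (Subgroup.zpowers x)) b = 1 := (QuotientGroup.eq_one_iff b).mpr hb
  rw [this, mul_one]

/-- elementwise form of metacyclicity. -/
theorem exists_pair_of_isMetacyclic {G : Type u} [Group G] (hG : IsMetacyclic G) :
    ∃ x g : G, (Subgroup.zpowers x).Normal ∧ ∀ h : G, ∃ i j : ℤ, h = g ^ i * x ^ j := by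
  obtain ⟨N, hN, hNc, hQc⟩ := hG
  obtain ⟨⟨c, hcN⟩, hc⟩ := hNc.exists_generator
  have hNz : N = Subgroup.zpowers c := by
    apply le_antisymm
    · intro x hx
      obtain ⟨k, hk⟩ := Subgroup.mem_zpowers_iff.mp (hc ⟨x, hx⟩)
      exact Subgroup.mem_zpowers_iff.mpr ⟨k, by
        have := congrArg Subtype.val hk
        simpa using this⟩
    · exact Subgroup.zpowers_le_of_mem hcN
  obtain ⟨γ, hγ⟩ := hQc.exists_generator
  obtain ⟨g, rfl⟩ := QuotientGroup.mk'_surjective N γ
  refine ⟨c, g, by rw [← hNz]; exact hN, fun h => ?_⟩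
  obtain ⟨i, hi⟩ := Subgroup.mem_zpowers_iff.mp (hγ (QuotientGroup.mk' N h))
  have hmem : (g ^ i)⁻¹ * h ∈ N := by
    apply QuotientGroup.eq.mp
    rw [← QuotientGroup.mk'_apply, ← QuotientGroup.mk'_apply, ← hi, map_zpow]
  rw [hNz] at hmem
  obtain ⟨j, hj⟩ := Subgroup.mem_zpowers_iff.mp hmem
  exact ⟨i, j, by rw [hj]; group⟩

theorem card_lt_of_lt {G : Type*} [Group G] [Finite G] {H K : Subgroup G} (h : H < K) :
    Nat.card H < Nat.card K := by
  by_contra hge
  push Not at hge
  exact (ne_of_lt h) (Subgroup.eq_of_le_of_card_ge (le_of_lt h) hge)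

theorem exists_card_eq_pow {G : Type*} [Group G] [Finite G] {p : ℕ} [hp : Fact p.Prime]
    (hG : IsPGroup p G) (H : Subgroup G) : ∃ k, Nat.card H = p ^ k :=
  IsPGroup.iff_card.mp (hG.to_subgroup H)

/-- with `|G : Φ(G)| ≤ p²`, any element outside `Φ(G)` is one of two generators. -/
theorem exists_closure_pair_eq_top {G : Type*} [Group G] [Finite G] {p : ℕ} [hp : Fact p.Prime]
    (hG : IsPGroup p G) (hidx : (frattini G).index ≤ p ^ 2) (y : G) (hy : y ∉ frattini G) :
    ∃ g : G, Subgroup.closure {y, g} = ⊤ := by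
  have hpp := hp.out
  by_cases hA : Subgroup.zpowers y ⊔ frattini G = ⊤
  · have h1 := frattini_nongenerating hA
    refine ⟨1, ?_⟩
    rw [eq_top_iff, ← h1, Subgroup.zpowers_eq_closure]
    exact Subgroup.closure_mono (by simp)
  · obtain ⟨g, hg⟩ : ∃ g, g ∉ Subgroup.zpowers y ⊔ frattini G := by
      by_contra hall
      push Not at hall
      exact hA (eq_top_iff.mpr fun x _ => hall x)
    refine ⟨g, frattini_nongenerating ?_⟩
    have hΦA : frattini G < Subgroup.zpowers y ⊔ frattini G := by
      apply lt_of_le_of_ne le_sup_right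
      intro h
      apply hy
      rw [h]
      exact Subgroup.mem_sup_left (Subgroup.mem_zpowers y)
    have hAB : Subgroup.zpowers y ⊔ frattini G < Subgroup.closure {y, g} ⊔ frattini G := by
      have hle : Subgroup.zpowers y ⊔ frattini G ≤ Subgroup.closure {y, g} ⊔ frattini G := by
        apply sup_le_sup_right
        rw [Subgroup.zpowers_eq_closure]
        exact Subgroup.closure_mono (by simp)
      apply lt_of_le_of_ne hle
      intro h
      apply hg
      rw [h]
      exact Subgroup.mem_sup_left (Subgroup.subset_closure (by simp))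
    obtain ⟨f, hf⟩ := exists_card_eq_pow hG (frattini G)
    obtain ⟨a, ha⟩ := exists_card_eq_pow hG (Subgroup.zpowers y ⊔ frattini G)
    obtain ⟨b, hb⟩ := exists_card_eq_pow hG (Subgroup.closure {y, g} ⊔ frattini G)
    have h1 := card_lt_of_lt hΦA
    have h2 := card_lt_of_lt hAB
    rw [hf, ha] at h1
    rw [ha, hb] at h2
    have hfa := (Nat.pow_lt_pow_iff_right hpp.one_lt).mp h1
    have hab := (Nat.pow_lt_pow_iff_right hpp.one_lt).mp h2
    have h3 := Subgroup.card_mul_index (frattini G)
    rw [← Subgroup.card_eq_iff_eq_top]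
    apply le_antisymm (Subgroup.card_le_card_group _)
    rw [hb, ← h3, hf]
    calc p ^ f * (frattini G).index ≤ p ^ f * p ^ 2 := Nat.mul_le_mul_left _ hidx
      _ = p ^ (f + 2) := by ring
      _ ≤ p ^ b := Nat.pow_le_pow_right hpp.pos (by omega)

/-- `|G : Φ(G)| ≤ p` forces `G` to be commutative. -/
theorem commutative_of_index_frattini_le {G : Type*} [Group G] [Finite G] {p : ℕ}
    [hp : Fact p.Prime] (hG : IsPGroup p G) (hidx : (frattini G).index ≤ p) :
    ∀ a b : G, a * b = b * a := by
  have hpp := hp.out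
  have hzp : ∀ y : G, Subgroup.zpowers y = ⊤ → ∀ a b : G, a * b = b * a := by
    intro y htop a b
    have ha : a ∈ Subgroup.zpowers y := by rw [htop]; trivial
    have hb : b ∈ Subgroup.zpowers y := by rw [htop]; trivial
    obtain ⟨i, rfl⟩ := Subgroup.mem_zpowers_iff.mp ha
    obtain ⟨j, rfl⟩ := Subgroup.mem_zpowers_iff.mp hb
    rw [← zpow_add, ← zpow_add, add_comm]
  by_cases hΦ : ∀ y, y ∈ frattini G
  · have h1 : (⊥ : Subgroup G) = ⊤ := frattini_nongenerating (by
      rw [bot_sup_eq, eq_top_iff]
      intro x _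
      exact hΦ x)
    apply hzp 1
    rw [Subgroup.zpowers_one_eq_bot, h1]
  · push Not at hΦ
    obtain ⟨y, hy⟩ := hΦ
    apply hzp y
    apply frattini_nongenerating
    have hΦA : frattini G < Subgroup.zpowers y ⊔ frattini G := by
      apply lt_of_le_of_ne le_sup_right
      intro h
      apply hy
      rw [h]
      exact Subgroup.mem_sup_left (Subgroup.mem_zpowers y)
    obtain ⟨f, hf⟩ := exists_card_eq_pow hG (frattini G)
    obtain ⟨a, ha⟩ := exists_card_eq_pow hG (Subgroup.zpowers y ⊔ frattini G)
    have h1 := card_lt_of_lt hΦA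
    rw [hf, ha] at h1
    have hfa := (Nat.pow_lt_pow_iff_right hpp.one_lt).mp h1
    have h3 := Subgroup.card_mul_index (frattini G)
    rw [← Subgroup.card_eq_iff_eq_top]
    apply le_antisymm (Subgroup.card_le_card_group _)
    rw [ha, ← h3, hf]
    calc p ^ f * (frattini G).index ≤ p ^ f * p := Nat.mul_le_mul_left _ hidx
      _ = p ^ (f + 1) := by ring
      _ ≤ p ^ a := Nat.pow_le_pow_right hpp.pos (by omega)

/-- the Frattini quotient has order at most `p²`. -/
theorem index_frattini_le {G : Type u} [Group G] [Finite G] {p : ℕ} [Fact p.Prime] (hp3 : 3 < p)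
    (hG : IsPGroup p G) (hΩ : Nat.card (omegaOne p (⊤ : Subgroup G)) ≤ p ^ 2) :
    (frattini G).index ≤ p ^ 2 := by
  have h1 := small_omega_quotient hp3 hG hΩ (frattini G)
  have h2 : omegaOne p (⊤ : Subgroup (G ⧸ frattini G)) = ⊤ := by
    rw [eq_top_iff]
    intro y _
    obtain ⟨x, rfl⟩ := QuotientGroup.mk'_surjective _ y
    apply mem_omegaOne p ⊤ trivial
    rw [← map_pow]
    exact (QuotientGroup.eq_one_iff _).mpr (IsPGroup.pow_mem_frattini hG x)
  rw [h2, Subgroup.card_top, ← Subgroup.index_eq_card] at h1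
  exact h1

theorem exists_orderOf_eq_pow {G : Type*} [Group G] {p : ℕ} [hp : Fact p.Prime]
    (hG : IsPGroup p G) (u : G) : ∃ e, orderOf u = p ^ e := by
  obtain ⟨e, he⟩ := hG u
  obtain ⟨e', _, he'⟩ := (Nat.dvd_prime_pow hp.out).mp (orderOf_dvd_of_pow_eq_one he)
  exact ⟨e', he'⟩

theorem isMetacyclic_aux {p : ℕ} [hp : Fact p.Prime] (hp3 : 3 < p) :
    ∀ (n : ℕ) (G : Type u) [Group G] [Finite G], Nat.card G = n → IsPGroup p G →
      Nat.card (omegaOne p (⊤ : Subgroup G)) ≤ p ^ 2 → IsMetacyclic G := by
  intro n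
  induction n using Nat.strong_induction_on with
  | _ n IH =>
  intro G _ _ hn hG hΩ
  have hpp := hp.out
  have hp2 : p ≠ 2 := by omega
  have hidx := index_frattini_le hp3 hG hΩ
  by_cases hab : ∀ a b : G, a * b = b * a
  · -- abelian
    have hnorm : ∀ y : G, (Subgroup.zpowers y).Normal := fun y =>
      ⟨fun n hn g => by rw [hab g n, mul_inv_cancel_right]; exact hn⟩
    by_cases hΦ : ∀ y, y ∈ frattini G
    · have h1 : (⊥ : Subgroup G) = ⊤ := frattini_nongenerating (by
        rw [bot_sup_eq, eq_top_iff]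
        intro x _
        exact hΦ x)
      apply isMetacyclic_of_closure_pair 1 1 (hnorm 1)
      rw [eq_top_iff, ← h1]
      exact bot_le
    · push Not at hΦ
      obtain ⟨y, hy⟩ := hΦ
      obtain ⟨g, hg⟩ := exists_closure_pair_eq_top hG hidx y hy
      exact isMetacyclic_of_closure_pair y g (hnorm y) hg
  · -- nonabelian
    have hcomm_ne : commutator G ≠ ⊥ := by
      intro h
      apply hab
      intro a b
      have h1 : ⁅a, b⁆ ∈ commutator G :=
        Subgroup.commutator_mem_commutator (Subgroup.mem_top a) (Subgroup.mem_top b)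
      rw [h, Subgroup.mem_bot, commutatorElement_eq_one_iff_mul_comm] at h1
      exact h1
    have hCZ : commutator G ⊓ Subgroup.center G ≠ ⊥ := by
      obtain ⟨z, hzT, hz1, hzc⟩ :=
        Cfsg.Agent.Lib.Helper12.exists_ne_one_mem_center_of_normal hG (commutator G) hcomm_ne
      intro h
      apply hz1
      have : z ∈ commutator G ⊓ Subgroup.center G := ⟨hzT, hzc⟩
      rwa [h, Subgroup.mem_bot] at this
    have hdvd : p ∣ Nat.card (commutator G ⊓ Subgroup.center G : Subgroup G) := by
      obtain ⟨k, hk⟩ := exists_card_eq_pow hG (commutator G ⊓ Subgroup.center G)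
      rcases k with _ | k
      · exfalso
        rw [pow_zero] at hk
        exact hCZ (Subgroup.card_eq_one.mp hk)
      · rw [hk]; exact dvd_pow_self p (by omega)
    obtain ⟨w', hw'⟩ := exists_prime_orderOf_dvd_card' p hdvd
    obtain ⟨w, hw⟩ : ∃ w : G, w = (w' : G) := ⟨_, rfl⟩
    have hword : orderOf w = p := by rw [hw, Subgroup.orderOf_coe]; exact hw'
    have hwcomm : w ∈ commutator G := by rw [hw]; exact w'.2.1
    have hwc : w ∈ Subgroup.center G := by rw [hw]; exact w'.2.2
    set Z : Subgroup G := Subgroup.zpowers w with hZ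
    have hZcard : Nat.card Z = p := by rw [hZ, Nat.card_zpowers, hword]
    have hZcomm : Z ≤ commutator G := by rw [hZ, Subgroup.zpowers_le]; exact hwcomm
    have hZc : Z ≤ Subgroup.center G := by rw [hZ, Subgroup.zpowers_le]; exact hwc
    haveI hZn : Z.Normal := ⟨fun n hn g => by
      have h1 := Subgroup.mem_center_iff.mp (hZc hn) g
      have h2 : g * n * g⁻¹ = n := by rw [h1, mul_inv_cancel_right]
      rw [h2]; exact hn⟩
    have hw1 : w ≠ 1 := by
      intro h
      rw [h, orderOf_one] at hword
      exact hpp.one_lt.ne hword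
    have hZne : Z ≠ ⊥ := by
      intro h
      have : w ∈ Z := Subgroup.mem_zpowers w
      rw [h, Subgroup.mem_bot] at this
      exact hw1 this
    have hZexp : ∀ z ∈ Z, z ^ p = 1 := by
      intro z hz
      have h1 : (⟨z, hz⟩ : Z) ^ Nat.card Z = 1 := pow_card_eq_one'
      rw [hZcard] at h1
      have h2 := congrArg Subtype.val h1
      simpa using h2
    have hmeta : IsMetacyclic (G ⧸ Z) :=
      IH (Nat.card (G ⧸ Z)) (by rw [← hn]; exact card_quotient_lt_of_ne_bot hZne) (G ⧸ Z) rfl
        (hG.to_quotient Z) (small_omega_quotient hp3 hG hΩ Z)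
    obtain ⟨xb, gb, hxbn, hgen⟩ := exists_pair_of_isMetacyclic hmeta
    obtain ⟨x, rfl⟩ := QuotientGroup.mk'_surjective Z xb
    obtain ⟨g, rfl⟩ := QuotientGroup.mk'_surjective Z gb
    set N : Subgroup G :=
      (Subgroup.zpowers (QuotientGroup.mk' Z x)).comap (QuotientGroup.mk' Z) with hN
    haveI hNn : N.Normal := by rw [hN]; exact Subgroup.Normal.comap hxbn _
    have hNmem : ∀ n : G, n ∈ N ↔ ∃ j : ℤ, ∃ z ∈ Z, n = x ^ j * z := by
      intro n
      rw [hN, Subgroup.mem_comap, Subgroup.mem_zpowers_iff]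
      constructor
      · rintro ⟨j, hj⟩
        refine ⟨j, (x ^ j)⁻¹ * n, ?_, by group⟩
        apply QuotientGroup.eq.mp
        rw [← QuotientGroup.mk'_apply, ← QuotientGroup.mk'_apply, ← hj, map_zpow]
      · rintro ⟨j, z, hz, rfl⟩
        refine ⟨j, ?_⟩
        have hz1 : (QuotientGroup.mk' Z) z = 1 := (QuotientGroup.eq_one_iff z).mpr hz
        rw [map_mul, map_zpow, hz1, mul_one]
    have hxN : x ∈ N := (hNmem x).mpr ⟨1, 1, one_mem _, by simp⟩
    have hNcomm : ∀ a ∈ N, ∀ b ∈ N, a * b = b * a := by
      intro a ha b hb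
      obtain ⟨j, z, hz, rfl⟩ := (hNmem a).mp ha
      obtain ⟨k, z', hz', rfl⟩ := (hNmem b).mp hb
      have hzc := Subgroup.mem_center_iff.mp (hZc hz)
      have hzc' := Subgroup.mem_center_iff.mp (hZc hz')
      have h1 : Commute (x ^ j) (x ^ k * z') :=
        (Commute.zpow_zpow_self x j k).mul_right (hzc' (x ^ j))
      have h2 : Commute z (x ^ k * z') := (hzc (x ^ k * z')).symm
      exact h1.mul_left h2
    have hform : ∀ h : G, ∃ i : ℤ, ∃ n ∈ N, h = g ^ i * n := by
      intro h
      obtain ⟨i, j, hij⟩ := hgen (QuotientGroup.mk' Z h)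
      refine ⟨i, (g ^ i)⁻¹ * h, ?_, by group⟩
      rw [hN, Subgroup.mem_comap, Subgroup.mem_zpowers_iff]
      refine ⟨j, ?_⟩
      rw [map_mul, map_inv, map_zpow, hij]
      group
    by_cases hZx : Z ≤ Subgroup.zpowers x
    · have hNx : N = Subgroup.zpowers x := by
        apply le_antisymm
        · intro n hn
          obtain ⟨j, z, hz, rfl⟩ := (hNmem n).mp hn
          exact mul_mem (Subgroup.zpow_mem_zpowers x j) (hZx hz)
        · rw [Subgroup.zpowers_le]; exact hxN
      apply isMetacyclic_of_closure_pair x g (by rw [← hNx]; exact hNn)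
      rw [eq_top_iff]
      intro h _
      obtain ⟨i, n, hn, rfl⟩ := hform h
      rw [hNx] at hn
      apply mul_mem
      · exact Subgroup.zpow_mem _ (Subgroup.subset_closure (by simp)) i
      · have hle : Subgroup.zpowers x ≤ Subgroup.closure {x, g} := by
          rw [Subgroup.zpowers_le]; exact Subgroup.subset_closure (by simp)
        exact hle hn
    · have hwx : w ∉ Subgroup.zpowers x := by
        intro h
        apply hZx
        rw [hZ, Subgroup.zpowers_le]
        exact h
      obtain ⟨y, hy⟩ : ∃ y : G, y = g * x * g⁻¹ := ⟨_, rfl⟩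
      have hyN : y ∈ N := by rw [hy]; exact hNn.conj_mem x hxN g
      obtain ⟨d, hd⟩ : ∃ d : G, d = ⁅x, g⁆ := ⟨_, rfl⟩
      have hdxy : d = x * y⁻¹ := by rw [hd, hy, commutatorElement_def]; group
      have hdN : d ∈ N := by rw [hdxy]; exact mul_mem hxN (inv_mem hyN)
      have hκ : ∀ n ∈ N, ⁅n, g⁆ ∈ Subgroup.zpowers d := by
        intro n hn
        obtain ⟨j, z, hz, rfl⟩ := (hNmem n).mp hn
        have hzc := Subgroup.mem_center_iff.mp (hZc hz)
        have hzg : z * g * z⁻¹ = g := by rw [← hzc g, mul_inv_cancel_right]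
        have h1 : ⁅x ^ j * z, g⁆ = x ^ j * (y ^ j)⁻¹ := by
          have h2 : y ^ j = g * x ^ j * g⁻¹ := by rw [hy, conj_zpow]
          rw [h2, commutatorElement_def]
          have h3 : x ^ j * z * g * (x ^ j * z)⁻¹ * g⁻¹ =
              x ^ j * (z * g * z⁻¹) * (x ^ j)⁻¹ * g⁻¹ := by group
          rw [h3, hzg]
          group
        have h4 : Commute x y := hNcomm x hxN y hyN
        have h5 : x ^ j * (y ^ j)⁻¹ = (x * y⁻¹) ^ j := by
          rw [← inv_zpow, (h4.inv_right).mul_zpow]
        rw [h1, h5, ← hdxy]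
        exact Subgroup.zpow_mem_zpowers d j
      have hgd : g * d * g⁻¹ ∈ Subgroup.zpowers d := by
        have h1 : g * d * g⁻¹ = ⁅g * x * g⁻¹, g⁆ := by
          rw [hd, commutatorElement_def, commutatorElement_def]; group
        rw [h1]
        exact hκ _ (hNn.conj_mem x hxN g)
      have hgd' : g⁻¹ * d * g ∈ Subgroup.zpowers d := by
        have h1 : g⁻¹ * d * g = ⁅g⁻¹ * x * g, g⁆ := by
          rw [hd, commutatorElement_def, commutatorElement_def]; group
        rw [h1]
        apply hκ
        have := hNn.conj_mem x hxN g⁻¹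
        simpa using this
      have hKn : (Subgroup.zpowers d).Normal := by
        rw [← Subgroup.normalizer_eq_top_iff, eq_top_iff]
        intro h _
        obtain ⟨i, n, hn, rfl⟩ := hform h
        have hgnorm : g ∈ Subgroup.normalizer ((Subgroup.zpowers d : Subgroup G) : Set G) := by
          rw [Subgroup.mem_normalizer_iff]
          intro k
          constructor
          · intro hk
            obtain ⟨m, rfl⟩ := Subgroup.mem_zpowers_iff.mp hk
            rw [← conj_zpow]
            exact Subgroup.zpow_mem _ hgd m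
          · intro hk
            obtain ⟨m, hm⟩ := Subgroup.mem_zpowers_iff.mp hk
            have h1 : k = (g⁻¹ * d * g) ^ m := by
              have h2 : g⁻¹ * (g * k * g⁻¹) * g = k := by group
              rw [← h2, ← hm]
              have h3 : g⁻¹ * d ^ m * g = g⁻¹ * d ^ m * g⁻¹⁻¹ := by rw [inv_inv]
              have h4 : g⁻¹ * d * g = g⁻¹ * d * g⁻¹⁻¹ := by rw [inv_inv]
              rw [h3, h4, conj_zpow]
            rw [h1]
            exact Subgroup.zpow_mem _ hgd' m
        have hnnorm : n ∈ Subgroup.normalizer ((Subgroup.zpowers d : Subgroup G) : Set G) := by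
          apply Subgroup.centralizer_le_normalizer
          rw [Subgroup.mem_centralizer_iff]
          intro k hk
          have hkN : k ∈ N := (Subgroup.zpowers_le.mpr hdN) hk
          exact hNcomm k hkN n hn
        exact mul_mem (Subgroup.zpow_mem _ hgnorm i) hnnorm
      haveI := hKn
      have hGK : commutator G ≤ Subgroup.zpowers d := by
        rw [← Subgroup.Normal.quotient_commutative_iff_commutator_le]
        refine ⟨⟨fun a b => ?_⟩⟩
        obtain ⟨a', rfl⟩ := QuotientGroup.mk'_surjective _ a
        obtain ⟨b', rfl⟩ := QuotientGroup.mk'_surjective _ b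
        obtain ⟨i, n, hn, rfl⟩ := hform a'
        obtain ⟨k, n', hn', rfl⟩ := hform b'
        obtain ⟨γ, hγ⟩ : ∃ γ, γ = QuotientGroup.mk' (Subgroup.zpowers d) g := ⟨_, rfl⟩
        have hγn : ∀ m ∈ N, Commute γ (QuotientGroup.mk' (Subgroup.zpowers d) m) := by
          intro m hm
          have h1 := hκ m hm
          have h2 : ⁅QuotientGroup.mk' (Subgroup.zpowers d) m, γ⁆ = 1 := by
            rw [hγ, ← map_commutatorElement]
            exact (QuotientGroup.eq_one_iff _).mpr h1
          exact (commutatorElement_eq_one_iff_commute.mp h2).symm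
        have hnn : Commute (QuotientGroup.mk' (Subgroup.zpowers d) n)
            (QuotientGroup.mk' (Subgroup.zpowers d) n') := by
          show _ * _ = _ * _
          rw [← map_mul, ← map_mul, hNcomm n hn n' hn']
        rw [map_mul, map_mul, map_zpow, map_zpow, ← hγ]
        exact ((Commute.zpow_zpow_self γ i k).mul_right ((hγn n' hn').zpow_left i)).mul_left
          (((hγn n hn).zpow_left k).symm.mul_right hnn)
      have hwd : w ∈ Subgroup.zpowers d := hGK hwcomm
      have hdp : d ^ p = 1 := by
        obtain ⟨m, hm⟩ := (mem_powers_iff_mem_zpowers (x := d) (y := w)).mpr hwd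
        have hm' : d ^ m = w := hm
        by_cases hpm : p ∣ m
        · exfalso
          obtain ⟨m', rfl⟩ := hpm
          apply hwx
          obtain ⟨k, z', hz', hdk⟩ := (hNmem d).mp hdN
          have hdp : d ^ p = (x ^ k) ^ p := by
            have hc : Commute (x ^ k) z' := Subgroup.mem_center_iff.mp (hZc hz') (x ^ k)
            rw [hdk, hc.mul_pow, hZexp z' hz', mul_one]
          have h1 : w = ((x ^ k) ^ p) ^ m' := by rw [← hm', pow_mul, hdp]
          rw [h1]
          exact Subgroup.pow_mem _ (Subgroup.pow_mem _ (Subgroup.zpow_mem_zpowers x k) p) m'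
        · obtain ⟨e, he⟩ := exists_orderOf_eq_pow hG d
          have hcop : (orderOf d).Coprime m := by
            rw [he]
            exact Nat.Coprime.pow_left e ((Nat.Prime.coprime_iff_not_dvd hpp).mpr hpm)
          have h1 : orderOf w = orderOf d := by rw [← hm']; exact hcop.orderOf_pow
          rw [← hword, h1]
          exact pow_orderOf_eq_one d
      have hd1 : d ≠ 1 := by
        intro h
        rw [h, Subgroup.zpowers_one_eq_bot, Subgroup.mem_bot] at hwd
        exact hw1 hwd
      have hdord : orderOf d = p := orderOf_eq_prime hdp hd1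
      have hKZ : Z = Subgroup.zpowers d := by
        apply Subgroup.eq_of_le_of_card_ge
        · rw [hZ, Subgroup.zpowers_le]; exact hwd
        · rw [hZcard, Nat.card_zpowers, hdord]
      have hGZ : commutator G ≤ Z := by rw [hKZ]; exact hGK
      have hcl2 : ⁅commutator G, (⊤ : Subgroup G)⁆ = ⊥ := by
        rw [Subgroup.commutator_eq_bot_iff_le_centralizer, Subgroup.coe_top,
          Subgroup.centralizer_univ]
        exact le_trans hGZ hZc
      have hder : commutator G ≤ Subgroup.closure {t : G | t ^ p = 1} :=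
        fun t ht => Subgroup.subset_closure (hZexp t (hGZ ht))
      have hmul := mul_pow_prime_of_small_class (Or.inl ⟨hp2, hcl2⟩) hder
      obtain ⟨φ, hφ⟩ : ∃ φ : G →* G, ∀ t, φ t = t ^ p :=
        ⟨MonoidHom.mk' (fun t => t ^ p) hmul, fun t => rfl⟩
      have hidx2 : (frattini G).index = p ^ 2 := by
        obtain ⟨nn, hnn⟩ := IsPGroup.iff_card.mp hG
        have hdvd2 := Subgroup.index_dvd_card (frattini G)
        rw [hnn] at hdvd2
        obtain ⟨k, -, hk⟩ := (Nat.dvd_prime_pow hpp).mp hdvd2
        have hk2 : 2 ≤ k := by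
          by_contra hlt
          push Not at hlt
          apply hab
          apply commutative_of_index_frattini_le hG
          rw [hk]
          calc p ^ k ≤ p ^ 1 := Nat.pow_le_pow_right hpp.pos (by omega)
            _ = p := pow_one p
        have hk2' : k ≤ 2 := by
          rw [hk] at hidx
          exact (Nat.pow_le_pow_iff_right hpp.one_lt).mp hidx
        have hk' : k = 2 := by omega
        rw [hk, hk']
      have hrange : φ.range = frattini G := by
        apply Subgroup.eq_of_le_of_card_ge
        · rintro _ ⟨t, rfl⟩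
          rw [hφ]
          exact IsPGroup.pow_mem_frattini hG t
        · have h1 := Subgroup.card_mul_index φ.ker
          rw [Subgroup.index_ker] at h1
          have h2 : Nat.card φ.ker ≤ p ^ 2 := by
            refine le_trans (Subgroup.card_le_of_le ?_) hΩ
            intro t ht
            have ht1 : φ t = 1 := ht
            rw [hφ] at ht1
            exact mem_omegaOne p ⊤ trivial ht1
          have h3 := Subgroup.card_mul_index (frattini G)
          rw [hidx2] at h3
          have h4 : Nat.card (frattini G) * p ^ 2 ≤ Nat.card φ.range * p ^ 2 := by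
            rw [h3, ← h1, mul_comm]
            exact Nat.mul_le_mul_left _ h2
          exact Nat.le_of_mul_le_mul_right h4 (pow_pos hpp.pos 2)
      haveI : Nonempty {y : G // w ∈ Subgroup.zpowers y} := ⟨⟨w, Subgroup.mem_zpowers w⟩⟩
      obtain ⟨⟨y0, hy0⟩, hmax⟩ :=
        Finite.exists_max (fun y : {y : G // w ∈ Subgroup.zpowers y} => orderOf y.1)
      have hy0Φ : y0 ∉ frattini G := by
        intro hmem
        rw [← hrange] at hmem
        obtain ⟨u, hu⟩ := hmem
        rw [hφ] at hu
        have hwu : w ∈ Subgroup.zpowers u := by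
          have hle : Subgroup.zpowers y0 ≤ Subgroup.zpowers u := by
            rw [Subgroup.zpowers_le, ← hu]
            exact Subgroup.pow_mem _ (Subgroup.mem_zpowers u) p
          exact hle hy0
        have h1 := hmax ⟨u, hwu⟩
        have hu1 : u ≠ 1 := by
          intro h
          rw [h, Subgroup.zpowers_one_eq_bot, Subgroup.mem_bot] at hwu
          exact hw1 hwu
        obtain ⟨e, he⟩ := exists_orderOf_eq_pow hG u
        have he1 : 1 ≤ e := by
          rcases e with _ | e
          · exfalso
            rw [pow_zero, orderOf_eq_one_iff] at he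
            exact hu1 he
          · omega
        have hpd : p ∣ orderOf u := by rw [he]; exact dvd_pow_self p (by omega)
        have h2 : orderOf y0 = orderOf u / p := by
          rw [← hu]; exact orderOf_pow_of_dvd hpp.ne_zero hpd
        simp only at h1
        rw [h2] at h1
        have hpos : 0 < orderOf u := orderOf_pos u
        have h3 : orderOf u / p < orderOf u := Nat.div_lt_self hpos hpp.one_lt
        omega
      obtain ⟨g', hg'⟩ := exists_closure_pair_eq_top hG hidx y0 hy0Φ
      have hZy : Z ≤ Subgroup.zpowers y0 := by rw [hZ, Subgroup.zpowers_le]; exact hy0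
      have hynorm : (Subgroup.zpowers y0).Normal := by
        constructor
        intro n hn a
        have h1 : a * n * a⁻¹ = ⁅a, n⁆ * n := by rw [commutatorElement_def]; group
        rw [h1]
        exact mul_mem (hZy (hGZ (Subgroup.commutator_mem_commutator (Subgroup.mem_top a)
          (Subgroup.mem_top n)))) hn
      exact isMetacyclic_of_closure_pair y0 g' hynorm hg'

/-- Huppert's criterion: for `p > 3`, a `p`-group with `|Ω₁| ≤ p²` is metacyclic. -/
theorem isMetacyclic_of_small_omega {G : Type u} [Group G] [Finite G] {p : ℕ} [Fact p.Prime]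
    (hp3 : 3 < p) (hG : IsPGroup p G) (hΩ : Nat.card (omegaOne p (⊤ : Subgroup G)) ≤ p ^ 2) :
    IsMetacyclic G :=
  isMetacyclic_aux hp3 (Nat.card G) G rfl hG hΩ

end Cfsg.Agent.Lib.Helper1.HuppertMeta
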