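import Mathlib
import Cfsg.Prelude.Def_OddOrderLocal
import Cfsg.Agent.Lib.Helper1.PGroup
import Cfsg.Agent.Lib.Helper1.AutRankTwo

/-!
Metacyclic `2`-groups with an automorphism of odd order, part 1 (helper1 library):
quotients of metacyclic groups, the order bound from the exponent, groups without characteristic
subgroups of index two.
-/

set_option autoImplicit false

namespace Cfsg.Agent.Lib.Helper1

open Subgroup

/-- a surjective image of a metacyclic group is metacyclic -/
theorem isMetacyclic_of_surjective {G G' : Type*} [Group G] [Group G'] (f : G →* G')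
    (hf : Function.Surjective f) (hG : Cfsg.IsMetacyclic G) : Cfsg.IsMetacyclic G' := by
  obtain ⟨N, hN, hNc, hQc⟩ := hG
  have hN' : (N.map f).Normal := hN.map f hf
  refine ⟨N.map f, hN', ?_, ?_⟩
  · exact isCyclic_of_surjective (f.subgroupMap N) (f.subgroupMap_surjective N)
  · have hle : N ≤ (N.map f).comap f := Subgroup.le_comap_map f N
    refine isCyclic_of_surjective (QuotientGroup.map N (N.map f) f hle) ?_
    intro q
    induction q using QuotientGroup.induction_on with
    | H y =>
      obtain ⟨x, rfl⟩ := hf y
      exact ⟨(x : G ⧸ N), rfl⟩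

/-- the order of a metacyclic group of exponent dividing `e` divides `e ^ 2` -/
theorem card_dvd_of_isMetacyclic {G : Type*} [Group G] (hG : Cfsg.IsMetacyclic G) (e : ℕ)
    (he : ∀ g : G, g ^ e = 1) : Nat.card G ∣ e * e := by
  obtain ⟨N, hN, hNc, hQc⟩ := hG
  rw [Subgroup.card_eq_card_quotient_mul_card_subgroup N]
  apply Nat.mul_dvd_mul
  · rw [← IsCyclic.exponent_eq_card]
    apply Monoid.exponent_dvd_of_forall_pow_eq_one
    intro q
    induction q using QuotientGroup.induction_on with
    | H y => rw [← QuotientGroup.mk_pow, he]; rfl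
  · rw [← IsCyclic.exponent_eq_card]
    apply Monoid.exponent_dvd_of_forall_pow_eq_one
    intro g
    apply Subtype.ext
    simp [he]

/-- no characteristic subgroup has index two -/
def NoCharIndexTwo (X : Type*) [Group X] : Prop :=
  ∀ H : Subgroup X, H.Characteristic → H.index ≠ 2

theorem NoCharIndexTwo.of_mulEquiv {X Y : Type*} [Group X] [Group Y] (e : X ≃* Y)
    (h : NoCharIndexTwo X) : NoCharIndexTwo Y := by
  intro H hH hi
  apply h (H.comap e.toMonoidHom) _ (by rw [Subgroup.index_comap_of_surjective _ e.surjective, hi])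
  rw [Subgroup.characteristic_iff_le_comap]
  intro ϕ x hx
  rw [Subgroup.mem_comap] at hx ⊢
  rw [Subgroup.mem_comap]
  have h1 := char_invariant H ((e.symm.trans ϕ).trans e) _ hx
  simpa using h1

theorem NoCharIndexTwo.quotient {X : Type*} [Group X] (h : NoCharIndexTwo X) (M : Subgroup X)
    [M.Normal] (hM : M.Characteristic) : NoCharIndexTwo (X ⧸ M) := by
  intro H hH hi
  apply h (H.comap (QuotientGroup.mk' M)) _
    (by rw [Subgroup.index_comap_of_surjective _ (QuotientGroup.mk'_surjective M), hi])
  rw [Subgroup.characteristic_iff_le_comap]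
  intro ϕ x hx
  rw [Subgroup.mem_comap] at hx ⊢
  rw [Subgroup.mem_comap]
  have hMϕ : M.map (ϕ : X →* X) = M := Subgroup.characteristic_iff_map_eq.mp hM ϕ
  have h1 := char_invariant H (QuotientGroup.congr M M ϕ hMϕ) _ hx
  simpa using h1

end Cfsg.Agent.Lib.Helper1
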