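import Mathlib
import Cfsg.Prelude.Def_OddOrderLocal
import Cfsg.Prelude.Def_PLocal
import Cfsg.Prelude.Def_Transfer
import Cfsg.Agent.Lib.Helper4.Metacyc
import Cfsg.Agent.Lib.Helper23.Class2
import Cfsg.Agent.Lib.Helper12.Basic
import Cfsg.Agent.Lib.Helper1.MetacyclicTwoBasic
import Cfsg.Agent.Lib.Helper1.CoprimeAbelian
import Cfsg.Agent.Lib.Helper1.Commutator

/-!
# Coprime automorphisms of metacyclic `p`-groups, `p` odd (helper1)

Main result (`commutative_of_commutator_eq`): if `R` is a metacyclic `p`-subgroup (`p` odd) of a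
finite group, `A` a `p'`-subgroup normalizing `R` with `[R, A] = R`, then `R` is abelian.
-/

set_option autoImplicit false

namespace Cfsg.Agent.Lib.Helper1.MetaCoprime

open Subgroup
open scoped commutatorElement

section Bilinear

variable {R : Type*} [Group R]

theorem comm_mul_left (h : ∀ x y : R, ⁅x, y⁆ ∈ center R) (x y w : R) :
    ⁅x * y, w⁆ = ⁅x, w⁆ * ⁅y, w⁆ := by
  have e : ⁅x * y, w⁆ = x * ⁅y, w⁆ * x⁻¹ * ⁅x, w⁆ := by
    simp only [commutatorElement_def]; group
  rw [e]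
  have h1 : x * ⁅y, w⁆ = ⁅y, w⁆ * x := (mem_center_iff.mp (h y w)) x
  rw [h1, mul_inv_cancel_right]
  exact ((mem_center_iff.mp (h y w)) _).symm

theorem comm_mul_right (h : ∀ x y : R, ⁅x, y⁆ ∈ center R) (x y w : R) :
    ⁅x, y * w⁆ = ⁅x, y⁆ * ⁅x, w⁆ := by
  have e : ⁅x, y * w⁆ = ⁅x, y⁆ * (y * ⁅x, w⁆ * y⁻¹) := by
    simp only [commutatorElement_def]; group
  rw [e]
  have h1 : y * ⁅x, w⁆ = ⁅x, w⁆ * y := (mem_center_iff.mp (h x w)) y
  rw [h1, mul_inv_cancel_right]

/-- `x ↦ ⁅x, w⁆` as a homomorphism -/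
def cmL (h : ∀ x y : R, ⁅x, y⁆ ∈ center R) (w : R) : R →* R where
  toFun x := ⁅x, w⁆
  map_one' := by simp [commutatorElement_def]
  map_mul' x y := comm_mul_left h x y w

/-- `w ↦ ⁅x, w⁆` as a homomorphism -/
def cmR (h : ∀ x y : R, ⁅x, y⁆ ∈ center R) (x : R) : R →* R where
  toFun w := ⁅x, w⁆
  map_one' := by simp [commutatorElement_def]
  map_mul' y w := comm_mul_right h x y w

theorem comm_central_left {c : R} (hc : c ∈ center R) (w : R) : ⁅c, w⁆ = 1 := by
  rw [commutatorElement_def, ← (mem_center_iff.mp hc) w]; group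

theorem comm_central_right {c : R} (hc : c ∈ center R) (x : R) : ⁅x, c⁆ = 1 := by
  rw [commutatorElement_def, (mem_center_iff.mp hc) x]; group

theorem comm_self (x : R) : ⁅x, x⁆ = 1 := by
  rw [commutatorElement_def]; group

/-- the general commutator formula in class two -/
theorem comm_formula (h : ∀ x y : R, ⁅x, y⁆ ∈ center R) (x y : R) (n b a s : ℕ) {c c' : R}
    (hc : c ∈ center R) (hc' : c' ∈ center R) :
    ⁅x ^ n * y ^ b * c, x ^ a * y ^ s * c'⁆ = ⁅x, y⁆ ^ (n * s) * ⁅y, x⁆ ^ (b * a) := by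
  set Z := x ^ a * y ^ s * c' with hZ
  have h1 : ⁅x ^ n * y ^ b * c, Z⁆ = ⁅x, Z⁆ ^ n * ⁅y, Z⁆ ^ b * ⁅c, Z⁆ := by
    have := map_mul (cmL h Z) (x ^ n * y ^ b) c
    have h2 := map_mul (cmL h Z) (x ^ n) (y ^ b)
    have h3 := map_pow (cmL h Z) x n
    have h4 := map_pow (cmL h Z) y b
    simp only [cmL, MonoidHom.coe_mk, OneHom.coe_mk] at this h2 h3 h4
    rw [this, h2, h3, h4]
  have h5 : ⁅x, Z⁆ = ⁅x, y⁆ ^ s := by
    have := map_mul (cmR h x) (x ^ a * y ^ s) c'
    have h2 := map_mul (cmR h x) (x ^ a) (y ^ s)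
    have h3 := map_pow (cmR h x) x a
    have h4 := map_pow (cmR h x) y s
    simp only [cmR, MonoidHom.coe_mk, OneHom.coe_mk] at this h2 h3 h4
    rw [hZ, this, h2, h3, h4, comm_self, one_pow, one_mul, comm_central_right hc', mul_one]
  have h6 : ⁅y, Z⁆ = ⁅y, x⁆ ^ a := by
    have := map_mul (cmR h y) (x ^ a * y ^ s) c'
    have h2 := map_mul (cmR h y) (x ^ a) (y ^ s)
    have h3 := map_pow (cmR h y) x a
    have h4 := map_pow (cmR h y) y s
    simp only [cmR, MonoidHom.coe_mk, OneHom.coe_mk] at this h2 h3 h4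
    rw [hZ, this, h2, h3, h4, comm_self, one_pow, mul_one, comm_central_right hc', mul_one]
  rw [h1, h5, h6, comm_central_left hc, mul_one, ← pow_mul, ← pow_mul, mul_comm s n, mul_comm a b]

end Bilinear

section Avg

variable {R : Type*} [Group R]

/-- the generating set of `[R, A]`: the elements `α x * x⁻¹` -/
def genSet (A : Subgroup (MulAut R)) : Set R := {g | ∃ α ∈ A, ∃ x : R, g = α x * x⁻¹}

/-- averaging: if `[R, A] = R` (coprime action) and `A` fixes `y` modulo the center, where `R / Z(R)`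
is abelian of exponent `p`, then `y` is central. -/
theorem fixed_mod_center [Finite R] {p : ℕ} (A : Subgroup (MulAut R))
    (hcop : (Nat.card A).Coprime p) (hgen : closure (genSet A) = ⊤)
    (hQ : ∀ x y : R, ⁅x, y⁆ ∈ center R) (hexp : ∀ x : R, x ^ p ∈ center R) (y : R)
    (hy : ∀ α ∈ A, α y * y⁻¹ ∈ center R) : y ∈ center R := by
  classical
  letI : CommGroup (R ⧸ center R) :=
    { (inferInstance : Group (R ⧸ center R)) with
      mul_comm := by
        intro a b
        induction a using QuotientGroup.induction_on with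
        | H a =>
        induction b using QuotientGroup.induction_on with
        | H b =>
        rw [← QuotientGroup.mk_mul, ← QuotientGroup.mk_mul, QuotientGroup.eq]
        have h1 := hQ b⁻¹ a⁻¹
        have h2 : (a * b)⁻¹ * (b * a) = ⁅b⁻¹, a⁻¹⁆ := by
          rw [commutatorElement_def]; group
        rw [h2]; exact h1 }
  set π : R →* R ⧸ center R := QuotientGroup.mk' (center R) with hπ
  have : Fintype A := Fintype.ofFinite A
  let N' : R →* R ⧸ center R := ∏ α : A, π.comp ((α : MulAut R) : R ≃* R).toMonoidHom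
  have hN' : ∀ x, N' x = ∏ α : A, π ((α : MulAut R) x) := by
    intro x
    simp only [N', MonoidHom.finset_prod_apply]
    rfl
  have hinv : ∀ β : A, ∀ x, N' ((β : MulAut R) x) = N' x := by
    intro β x
    rw [hN', hN']
    apply Fintype.prod_equiv (Equiv.mulRight β)
    intro α
    rfl
  have hker : closure (genSet A) ≤ N'.ker := by
    rw [closure_le]
    rintro g ⟨α, hα, x, rfl⟩
    show _ ∈ N'.ker
    rw [MonoidHom.mem_ker, map_mul, map_inv, hinv ⟨α, hα⟩ x, mul_inv_cancel]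
  rw [hgen] at hker
  have hNy : N' y = 1 := MonoidHom.mem_ker.mp (hker (mem_top y))
  have hfix : ∀ α : A, π ((α : MulAut R) y) = π y := by
    intro α
    rw [hπ, QuotientGroup.mk'_apply, QuotientGroup.mk'_apply, QuotientGroup.eq_iff_div_mem,
      div_eq_mul_inv]
    exact hy α α.2
  have h1 : (π y) ^ Nat.card A = 1 := by
    rw [← hNy, hN']
    simp [hfix, Finset.card_univ, Nat.card_eq_fintype_card]
  have h2 : (π y) ^ p = 1 := by
    rw [← map_pow, hπ, QuotientGroup.mk'_apply, QuotientGroup.eq_one_iff]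
    exact hexp y
  have h3 : orderOf (π y) ∣ 1 := by
    have := Nat.dvd_gcd (orderOf_dvd_of_pow_eq_one h1) (orderOf_dvd_of_pow_eq_one h2)
    rwa [hcop] at this
  have h4 : π y = 1 := orderOf_eq_one_iff.mp (Nat.dvd_one.mp h3)
  rwa [hπ, QuotientGroup.mk'_apply, QuotientGroup.eq_one_iff] at h4

end Avg

section Core

variable {R : Type*} [Group R] [Finite R] {p : ℕ} [hp : Fact p.Prime]

/-- if `R / Z(R)` has order `p ^ 2`, `x₀ ∉ Z(R)`, `x₀ ^ p ∈ Z(R)` and `y ∉ ⟨x₀⟩ Z(R)`, then every element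
is `x₀ ^ a * y ^ s * c` with `c` central -/
theorem decomp (hidx : (center R).index = p ^ 2) {x₀ : R} (hx₀ : x₀ ∉ center R)
    (hx₀p : x₀ ^ p ∈ center R) {y : R} (hy : y ∉ zpowers x₀ ⊔ center R) (g : R) :
    ∃ a s : ℕ, ∃ c ∈ center R, g = x₀ ^ a * y ^ s * c := by
  classical
  have hcardQ : Nat.card (R ⧸ center R) = p ^ 2 := by
    rw [← Subgroup.index_eq_card]; exact hidx
  have hcommQ : IsMulCommutative (R ⧸ center R) :=
    IsPGroup.isMulCommutative_of_card_eq_prime_sq hcardQ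
  letI : CommGroup (R ⧸ center R) :=
    { (inferInstance : Group (R ⧸ center R)) with
      mul_comm := fun a b => hcommQ.is_comm.comm a b }
  set xb : R ⧸ center R := (x₀ : R ⧸ center R) with hxb
  set yb : R ⧸ center R := (y : R ⧸ center R) with hyb
  have hxb1 : xb ≠ 1 := by
    rw [hxb, Ne, QuotientGroup.eq_one_iff]; exact hx₀
  have hxbp : xb ^ p = 1 := by
    rw [hxb, ← QuotientGroup.mk_pow, QuotientGroup.eq_one_iff]; exact hx₀p
  have hox : orderOf xb = p := orderOf_eq_prime hxbp hxb1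
  have hyb_not : yb ∉ zpowers xb := by
    intro hmem
    rw [← mem_powers_iff_mem_zpowers] at hmem
    obtain ⟨k, hk⟩ := (Submonoid.mem_powers_iff _ _).mp hmem
    apply hy
    rw [hxb, hyb, ← QuotientGroup.mk_pow, QuotientGroup.eq] at hk
    have : y = x₀ ^ k * ((x₀ ^ k)⁻¹ * y) := by group
    rw [this]
    exact mul_mem (mem_sup_left (pow_mem (mem_zpowers _) _)) (mem_sup_right hk)
  set S : Subgroup (R ⧸ center R) := zpowers xb ⊔ zpowers yb with hS
  have hStop : S = ⊤ := by
    have h1 : Nat.card S ∣ p ^ 2 := hcardQ ▸ Subgroup.card_subgroup_dvd_card S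
    obtain ⟨k, hk2, hk⟩ := (Nat.dvd_prime_pow hp.out).mp h1
    have h2 : Nat.card (zpowers xb) = p := by rw [Nat.card_zpowers, hox]
    have h3 : p < Nat.card S := by
      by_contra hcon
      push Not at hcon
      have h4 : zpowers xb = S :=
        Subgroup.eq_of_le_of_card_ge le_sup_left (by rw [h2]; exact hcon)
      apply hyb_not
      rw [h4]
      exact mem_sup_right (mem_zpowers yb)
    have hk2' : k = 2 := by
      rcases Nat.lt_or_ge k 2 with hlt | hge
      · exfalso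
        have : p ^ k ≤ p ^ 1 := Nat.pow_le_pow_right hp.out.pos (by omega)
        rw [pow_one] at this
        omega
      · omega
    rw [← Subgroup.card_eq_iff_eq_top, hk, hk2', hcardQ]
  have hg : (g : R ⧸ center R) ∈ S := hStop ▸ mem_top _
  obtain ⟨u, hu, v, hv, huv⟩ := Subgroup.mem_sup.mp hg
  rw [← mem_powers_iff_mem_zpowers] at hu hv
  obtain ⟨a, rfl⟩ := (Submonoid.mem_powers_iff _ _).mp hu
  obtain ⟨s, rfl⟩ := (Submonoid.mem_powers_iff _ _).mp hv
  rw [hxb, hyb, ← QuotientGroup.mk_pow, ← QuotientGroup.mk_pow, ← QuotientGroup.mk_mul,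
    QuotientGroup.eq] at huv
  exact ⟨a, s, (x₀ ^ a * y ^ s)⁻¹ * g, huv, by group⟩

theorem zpowers_eq_of_mem_of_ne_one {z x : R} (hz : orderOf z = p) (hx : x ∈ zpowers z)
    (hx1 : x ≠ 1) : zpowers x = zpowers z := by
  have hle : zpowers x ≤ zpowers z := zpowers_le_of_mem hx
  have hxp : x ^ p = 1 := by
    obtain ⟨k, rfl⟩ := mem_zpowers_iff.mp hx
    rw [← zpow_natCast, ← zpow_mul, mul_comm, zpow_mul, zpow_natCast, ← hz, pow_orderOf_eq_one,
      one_zpow]
  have hox : orderOf x = p := orderOf_eq_prime hxp hx1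
  apply Subgroup.eq_of_le_of_card_ge hle
  rw [Nat.card_zpowers, Nat.card_zpowers, hox, hz]

theorem mul_pow_pow (h : ∀ a b : R, (a * b) ^ p = a ^ p * b ^ p) (j : ℕ) (a b : R) :
    (a * b) ^ (p ^ j) = a ^ (p ^ j) * b ^ (p ^ j) := by
  induction j with
  | zero => simp
  | succ j ih => rw [pow_succ, pow_mul, ih, h, ← pow_mul, ← pow_mul]

omit [Finite R] hp in
theorem commutator_eq_bot_of_comm (h : ∀ a b : R, a * b = b * a) : commutator R = ⊥ := by
  rw [commutator_eq_bot_iff_center_eq_top, eq_top_iff]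
  intro x _
  exact mem_center_iff.mpr (fun g => h g x)

/-- structure of a metacyclic `p`-group (`p` odd) with derived subgroup of order `p` -/
theorem core_setup (hp2 : p ≠ 2) (hR : IsPGroup p R) (hm : Cfsg.IsMetacyclic R)
    (z : R) (hz : orderOf z = p) (hcomm : commutator R = zpowers z) :
    z ∈ center R ∧ (∀ x y : R, ⁅x, y⁆ ∈ zpowers z) ∧ (∀ a b : R, (a * b) ^ p = a ^ p * b ^ p) ∧
      (center R).index = p ^ 2 ∧ (∀ c : R, c ∈ center R ↔ ∃ u : R, u ^ p = c) := by
  classical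
  have hpp : p.Prime := hp.out
  have hz1 : z ≠ 1 := by
    intro h; rw [h, orderOf_one] at hz; exact hpp.one_lt.ne hz
  have hzp : z ^ p = 1 := by rw [← hz]; exact pow_orderOf_eq_one z
  have hcz : ∀ x y : R, ⁅x, y⁆ ∈ zpowers z := by
    intro x y
    rw [← hcomm, commutator_def]
    exact commutator_mem_commutator (mem_top x) (mem_top y)
  have hzc : z ∈ center R := by
    haveI : (zpowers z).Normal := hcomm ▸ (inferInstance : (commutator R).Normal)
    have hne : zpowers z ≠ ⊥ := by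
      intro h
      have := mem_zpowers z
      rw [h] at this
      exact hz1 (mem_bot.mp this)
    obtain ⟨x, hxN, hx1, hxc⟩ :=
      Cfsg.Agent.Lib.Helper12.exists_ne_one_mem_center_of_normal hR (zpowers z) hne
    have h1 := zpowers_eq_of_mem_of_ne_one hz hxN hx1
    have hz' : z ∈ zpowers x := h1 ▸ mem_zpowers z
    exact (zpowers_le_of_mem hxc) hz'
  have hcen : ∀ x y : R, ⁅x, y⁆ ∈ center R := fun x y => (zpowers_le_of_mem hzc) (hcz x y)
  have hcp : ∀ x y : R, ⁅x, y⁆ ^ p = 1 := by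
    intro x y
    obtain ⟨k, hk⟩ := mem_zpowers_iff.mp (hcz x y)
    rw [← hk, ← zpow_natCast, ← zpow_mul, mul_comm, zpow_mul, zpow_natCast, hzp, one_zpow]
  have hmulpow : ∀ a b : R, (a * b) ^ p = a ^ p * b ^ p := by
    intro a b
    rw [Cfsg.Agent.Lib.Helper23.mul_pow_of_central_commutator a b (hcen b a) p]
    have h3 : 3 ≤ p := by
      have := hpp.two_le
      omega
    have hdvd : p ∣ p.choose 2 := hpp.dvd_choose_self (by norm_num) (by omega)
    obtain ⟨k, hk⟩ := hdvd
    rw [hk, pow_mul, hcp, one_pow, mul_one]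
  let φ : R →* R := { toFun := fun x => x ^ p, map_one' := one_pow p, map_mul' := hmulpow }
  have hφ : ∀ x, φ x = x ^ p := fun x => rfl
  have hnonab : ¬ ∀ a b : R, a * b = b * a := by
    intro h
    have := commutator_eq_bot_of_comm h
    rw [hcomm] at this
    have h2 := mem_zpowers z
    rw [this] at h2
    exact hz1 (mem_bot.mp h2)
  have hnc : ¬ IsCyclic R := by
    intro hc
    apply hnonab
    obtain ⟨g, hg⟩ := hc.exists_generator
    intro a b
    obtain ⟨k, rfl⟩ := mem_zpowers_iff.mp (hg a)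
    obtain ⟨l, rfl⟩ := mem_zpowers_iff.mp (hg b)
    rw [← zpow_add, ← zpow_add, add_comm]
  obtain ⟨hΩ1, hΩ2⟩ := Cfsg.Agent.Lib.Helper4.omegaOne_of_metacyclic hp2 hR hm hnc
  have hker_le : φ.ker ≤ Cfsg.omegaOne p (⊤ : Subgroup R) := by
    intro x hx
    exact subset_closure ⟨mem_top x, by rw [← hφ]; exact hx⟩
  have hker_card : Nat.card φ.ker ≤ p ^ 2 := hΩ2 ▸ Subgroup.card_le_of_le hker_le
  have hrange_le : φ.range ≤ center R := by
    rintro _ ⟨x, rfl⟩
    rw [hφ, mem_center_iff]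
    intro g
    have h1 : ⁅x ^ p, g⁆ = 1 := by
      rw [Cfsg.Agent.Lib.Helper23.commutatorElement_pow_left_of_central x g (hcen x g) p, hcp]
    exact (commutatorElement_eq_one_iff_mul_comm.mp h1).symm
  obtain ⟨k, hk⟩ := hR.index (center R)
  have hk0 : k ≠ 0 := by
    intro h0
    rw [h0, pow_zero, Subgroup.index_eq_one] at hk
    apply hnonab
    intro a b
    have : b ∈ center R := hk ▸ mem_top b
    exact (mem_center_iff.mp this) a
  have hk1 : k ≠ 1 := by
    intro h1
    rw [h1, pow_one, Subgroup.index_eq_card] at hk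
    haveI : IsCyclic (R ⧸ center R) := isCyclic_of_prime_card hk
    apply hnonab
    exact commutative_of_cyclic_center_quotient (QuotientGroup.mk' (center R)) (by simp)
  have e1 : Nat.card φ.ker * Nat.card φ.range = Nat.card R := by
    rw [← Subgroup.index_ker]; exact Subgroup.card_mul_index φ.ker
  have e2 : Nat.card (center R) * p ^ k = Nat.card R := by
    rw [← hk]; exact Subgroup.card_mul_index (center R)
  have hrc : Nat.card φ.range ≤ Nat.card (center R) := Subgroup.card_le_of_le hrange_le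
  have hcpos : 0 < Nat.card (center R) := Nat.card_pos
  have hk2 : 2 ≤ k := by omega
  have hpk : p ^ 2 ≤ p ^ k := Nat.pow_le_pow_right hpp.pos hk2
  have hchain : Nat.card (center R) * p ^ k ≤ p ^ 2 * Nat.card (center R) := by
    calc Nat.card (center R) * p ^ k = Nat.card φ.ker * Nat.card φ.range := by rw [e2, e1]
      _ ≤ p ^ 2 * Nat.card (center R) := Nat.mul_le_mul hker_card hrc
  have hpk' : p ^ k ≤ p ^ 2 := by
    rw [mul_comm] at hchain
    exact Nat.le_of_mul_le_mul_right hchain hcpos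
  have hpk2 : p ^ k = p ^ 2 := le_antisymm hpk' hpk
  have hcr : Nat.card (center R) ≤ Nat.card φ.range := by
    have h1 : Nat.card (center R) * p ^ 2 ≤ p ^ 2 * Nat.card φ.range := by
      calc Nat.card (center R) * p ^ 2 = Nat.card φ.ker * Nat.card φ.range := by
            rw [← hpk2, e2, e1]
        _ ≤ p ^ 2 * Nat.card φ.range := Nat.mul_le_mul_right _ hker_card
    rw [mul_comm] at h1
    exact Nat.le_of_mul_le_mul_left h1 (pow_pos hpp.pos 2)
  have hrange : φ.range = center R := Subgroup.eq_of_le_of_card_ge hrange_le hcr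
  refine ⟨hzc, hcz, hmulpow, by rw [hk, hpk2], ?_⟩
  intro c
  rw [← hrange]
  exact ⟨fun ⟨u, hu⟩ => ⟨u, hu⟩, fun ⟨u, hu⟩ => ⟨u, hu⟩⟩

/-- **Core**: a metacyclic `p`-group (`p` odd) with derived subgroup of order `p` is not of the form
`[R, A]` for a group `A` of automorphisms of order prime to `p`. -/
theorem core (hp2 : p ≠ 2) (hR : IsPGroup p R) (hm : Cfsg.IsMetacyclic R)
    (z : R) (hz : orderOf z = p) (hcomm : commutator R = zpowers z)
    (A : Subgroup (MulAut R)) (hcop : (Nat.card A).Coprime p)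
    (hgen : closure (genSet A) = ⊤) : False := by
  classical
  have hpp : p.Prime := hp.out
  obtain ⟨hzc, hcz, hmulpow, hidx, hcenter⟩ := core_setup hp2 hR hm z hz hcomm
  have hz1 : z ≠ 1 := by
    intro h; rw [h, orderOf_one] at hz; exact hpp.one_lt.ne hz
  have hzp : z ^ p = 1 := by rw [← hz]; exact pow_orderOf_eq_one z
  have hcen : ∀ x y : R, ⁅x, y⁆ ∈ center R := fun x y => (zpowers_le_of_mem hzc) (hcz x y)
  have hzpow_p : ∀ g ∈ zpowers z, g ^ p = 1 := by
    intro g hg
    obtain ⟨k, hk⟩ := mem_zpowers_iff.mp hg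
    rw [← hk, ← zpow_natCast, ← zpow_mul, mul_comm, zpow_mul, zpow_natCast, hzp, one_zpow]
  have hpowc : ∀ x : R, x ^ p ∈ center R := fun x => (hcenter _).mpr ⟨x, rfl⟩
  have hpc : ∀ (x : R) (a : ℕ), p ∣ a → x ^ a ∈ center R := by
    rintro x a ⟨q, rfl⟩
    rw [pow_mul]
    exact pow_mem (hpowc x) q
  -- the maximal `i`
  have hex : ∃ j, ¬ ∃ x : R, x ^ (p ^ j) = z := by
    obtain ⟨m, hm'⟩ := IsPGroup.iff_card.mp hR
    refine ⟨m, ?_⟩
    rintro ⟨x, hx⟩
    apply hz1
    rw [← hx, ← hm']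
    exact pow_card_eq_one'
  set j₀ := Nat.find hex with hj₀
  have hj₀spec : ¬ ∃ x : R, x ^ (p ^ j₀) = z := Nat.find_spec hex
  have hj₀min : ∀ j < j₀, ∃ x : R, x ^ (p ^ j) = z :=
    fun j hj => not_not.mp (Nat.find_min hex hj)
  have hj0 : j₀ ≠ 0 := by
    intro h0
    rw [h0] at hj₀spec
    exact hj₀spec ⟨z, by simp⟩
  have hj1 : j₀ ≠ 1 := by
    intro h1
    rw [h1] at hj₀spec
    obtain ⟨u, hu⟩ := (hcenter z).mp hzc
    exact hj₀spec ⟨u, by rw [pow_one]; exact hu⟩
  obtain ⟨i, hi⟩ : ∃ i, j₀ = i + 1 := Nat.exists_eq_succ_of_ne_zero hj0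
  have hzi1 : ¬ ∃ x : R, x ^ (p ^ (i + 1)) = z := hi ▸ hj₀spec
  obtain ⟨x₀, hx₀⟩ := hj₀min i (by omega)
  -- (F2)
  have hF2 : ∀ c ∈ center R, ∃ u : R, u ^ (p ^ (i + 1)) = c ^ (p ^ i) := by
    intro c hc
    obtain ⟨u, hu⟩ := (hcenter c).mp hc
    exact ⟨u, by rw [← hu, ← pow_mul, pow_succ']⟩
  -- (F1)
  have hF1 : ∀ g ∈ zpowers z, (∃ u : R, u ^ (p ^ (i + 1)) = g) → g = 1 := by
    rintro g hg ⟨u, hu⟩
    by_contra hg1
    have h1 := zpowers_eq_of_mem_of_ne_one hz hg hg1
    have h2 : z ∈ zpowers g := h1 ▸ mem_zpowers z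
    rw [← mem_powers_iff_mem_zpowers] at h2
    obtain ⟨k, hk⟩ := (Submonoid.mem_powers_iff _ _).mp h2
    apply hzi1
    refine ⟨u ^ k, ?_⟩
    rw [← hk, ← hu, ← pow_mul, ← pow_mul, mul_comm]
  have hx₀c : x₀ ∉ center R := by
    intro hc
    obtain ⟨u, hu⟩ := hF2 x₀ hc
    exact hzi1 ⟨u, by rw [hu]; exact hx₀⟩
  have hx₀p : x₀ ^ p ∈ center R := hpowc x₀
  -- expansion of `p^i`-th powers
  have hexp : ∀ (y : R) (a s : ℕ) (c : R),
      (x₀ ^ a * y ^ s * c) ^ (p ^ i) = z ^ a * (y ^ (p ^ i)) ^ s * c ^ (p ^ i) := by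
    intro y a s c
    rw [mul_pow_pow hmulpow, mul_pow_pow hmulpow, ← pow_mul, ← pow_mul, mul_comm a, mul_comm s,
      pow_mul, pow_mul, hx₀]
  -- `z ^ a * f = 1` with `f` a central `p^i`-th power forces `p ∣ a`
  have hdvd_of : ∀ (a : ℕ) (c : R), c ∈ center R → z ^ a * c ^ (p ^ i) = 1 → p ∣ a := by
    intro a c hc h
    have h1 : z ^ a = (c ^ (p ^ i))⁻¹ := eq_inv_of_mul_eq_one_left h
    obtain ⟨u, hu⟩ := hF2 c hc
    have h2 : z ^ a = 1 := by
      apply hF1 _ (pow_mem (mem_zpowers z) a)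
      exact ⟨u⁻¹, by rw [inv_pow, hu, h1]⟩
    rw [← hz]
    exact orderOf_dvd_of_pow_eq_one h2
  -- automorphisms
  have hαz : ∀ α : MulAut R, α z ∈ zpowers z := by
    intro α
    rw [← hcomm]
    have hchar : (commutator R).Characteristic := inferInstance
    have h1 := (Subgroup.characteristic_iff_map_le.mp hchar) α
    apply h1
    refine ⟨z, ?_, rfl⟩
    rw [hcomm]; exact mem_zpowers z
  have hαc : ∀ (α : MulAut R) (c : R), c ∈ center R → α c ∈ center R := by
    intro α c hc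
    have hchar : (center R).Characteristic := inferInstance
    have h1 := (Subgroup.characteristic_iff_map_le.mp hchar) α
    exact h1 ⟨c, hc, rfl⟩
  -- (K)
  have hK : ∀ (α : MulAut R) (n : ℕ) (k c : R), k ^ (p ^ i) = 1 → c ∈ center R →
      α x₀ = x₀ ^ n * k * c → α z = z ^ n := by
    intro α n k c hk hc hαx
    have h1 : α z = z ^ n * c ^ (p ^ i) := by
      rw [← hx₀, map_pow, hαx, mul_pow_pow hmulpow, mul_pow_pow hmulpow, hk, mul_one, ← pow_mul,
        mul_comm n, pow_mul]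
    have h2 : (z ^ n)⁻¹ * α z = c ^ (p ^ i) := by rw [h1]; group
    have h3 : c ^ (p ^ i) = 1 := by
      apply hF1 _ _ (hF2 c hc)
      rw [← h2]
      exact mul_mem (inv_mem (pow_mem (mem_zpowers z) n)) (hαz α)
    rw [h1, h3, mul_one]
  have hn_of : ∀ (α : MulAut R) (n : ℕ), α z = z ^ n → ¬ p ∣ n := by
    intro α n h hdvd
    obtain ⟨q, rfl⟩ := hdvd
    rw [pow_mul, hzp, one_pow] at h
    apply hz1
    have : α z = α 1 := by rw [h, map_one]
    exact α.injective this
  have hαw : ∀ (α : MulAut R) (n : ℕ), α z = z ^ n → ∀ w ∈ zpowers z, α w = w ^ n := by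
    intro α n h w hw
    rw [← mem_powers_iff_mem_zpowers] at hw
    obtain ⟨t, rfl⟩ := (Submonoid.mem_powers_iff _ _).mp hw
    rw [map_pow, h, ← pow_mul, ← pow_mul, mul_comm]
  set W₁ : Subgroup R := zpowers x₀ ⊔ center R with hW₁
  -- nondegeneracy
  have hnondeg : ∀ y : R, y ∉ W₁ → ⁅x₀, y⁆ ≠ 1 := by
    intro y hy h1
    apply hx₀c
    rw [mem_center_iff]
    intro g
    obtain ⟨a, s, c, hc, rfl⟩ := decomp hidx hx₀c hx₀p hy g
    have hxy : Commute x₀ y := commutatorElement_eq_one_iff_mul_comm.mp h1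
    have hxc : Commute x₀ c := (mem_center_iff.mp hc) x₀
    have h2 : Commute x₀ (x₀ ^ a * y ^ s * c) :=
      (((Commute.refl x₀).pow_right a).mul_right (hxy.pow_right s)).mul_right hxc
    exact h2.eq.symm
  -- the congruence step
  have hstep : ∀ (α : MulAut R) (y : R), y ∉ W₁ → ∀ (n b a s : ℕ) (c c'' : R), c ∈ center R →
      c'' ∈ center R → α x₀ = x₀ ^ n * y ^ b * c'' → α y = x₀ ^ a * y ^ s * c → α z = z ^ n →
      ⁅y, x₀⁆ ^ (b * a) = 1 → ∃ q, s = p * q + 1 := by
    intro α y hy n b a s c c'' hc hc'' hαx hαy hαzn hba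
    have hw1 := hnondeg y hy
    have hwz := hcz x₀ y
    have h1 : α ⁅x₀, y⁆ = ⁅x₀, y⁆ ^ n := hαw α n hαzn _ hwz
    have h2 : α ⁅x₀, y⁆ = ⁅x₀, y⁆ ^ (n * s) := by
      rw [map_commutatorElement, hαx, hαy, comm_formula hcen x₀ y n b a s hc'' hc, hba, mul_one]
    have how : orderOf ⁅x₀, y⁆ = p := orderOf_eq_prime (hzpow_p _ hwz) hw1
    have h3 : ⁅x₀, y⁆ ^ (n * s) = ⁅x₀, y⁆ ^ (n * 1) := by rw [← h2, h1, mul_one]
    have h4 : n * 1 ≡ n * s [MOD p] := by
      have := pow_eq_pow_iff_modEq.mp h3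
      rw [how] at this
      exact this.symm
    have hn := hn_of α n hαzn
    have hcop' : Nat.gcd p n = 1 := (Nat.Prime.coprime_iff_not_dvd hpp).mpr hn
    have h5 : 1 ≡ s [MOD p] := Nat.ModEq.cancel_left_of_coprime hcop' h4
    have h6 : s % p = 1 := by
      have := h5.symm
      rw [Nat.ModEq, Nat.mod_eq_of_lt hpp.one_lt] at this
      exact this
    exact ⟨s / p, by have := Nat.div_add_mod s p; omega⟩
  -- the final simplification
  have hfin : ∀ (y : R) (a q : ℕ) (c : R), c ∈ center R →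
      x₀ ^ a * y ^ (p * q + 1) * c * y⁻¹ = x₀ ^ a * y ^ (p * q) * c := by
    intro y a q c hc
    have h1 : c * y⁻¹ = y⁻¹ * c := ((mem_center_iff.mp hc) y⁻¹).symm
    rw [pow_succ, mul_assoc (x₀ ^ a * (y ^ (p * q) * y)), h1]
    group
  have hcW : center R ≤ W₁ := le_sup_right
  have hxW : ∀ a : ℕ, x₀ ^ a ∈ W₁ := fun a => mem_sup_left (pow_mem (mem_zpowers x₀) a)
  by_cases hcase : ∃ y : R, y ^ (p ^ i) = 1 ∧ y ∉ W₁
  · -- Case 2
    obtain ⟨y, hy1, hyW⟩ := hcase
    apply hyW
    apply hcW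
    apply fixed_mod_center A hcop hgen hcen hpowc y
    intro α hα
    obtain ⟨a, s, c, hc, hαy⟩ := decomp hidx hx₀c hx₀p hyW (α y)
    obtain ⟨n, b, c'', hc'', hαx⟩ := decomp hidx hx₀c hx₀p hyW (α x₀)
    have h1 : (α y) ^ (p ^ i) = 1 := by rw [← map_pow, hy1, map_one]
    have ha : p ∣ a := by
      apply hdvd_of a c hc
      rw [hαy, hexp, hy1, one_pow, mul_one] at h1
      exact h1
    have hαzn : α z = z ^ n := by
      apply hK α n (y ^ b) c'' _ hc'' hαx
      rw [← pow_mul, mul_comm, pow_mul, hy1, one_pow]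
    have hba : ⁅y, x₀⁆ ^ (b * a) = 1 := by
      obtain ⟨q, rfl⟩ := ha
      rw [mul_comm b, mul_assoc, pow_mul, hzpow_p _ (hcz y x₀), one_pow]
    obtain ⟨q, rfl⟩ := hstep α y hyW n b a s c c'' hc hc'' hαx hαy hαzn hba
    rw [hαy, hfin y a q c hc]
    exact mul_mem (mul_mem (hpc x₀ a ha) (hpc y _ (dvd_mul_right p q))) hc
  · -- Case 1
    push Not at hcase
    have hW₁top : W₁ ≠ ⊤ := by
      intro htop
      apply hx₀c
      rw [mem_center_iff]
      intro g
      have hg : g ∈ W₁ := htop ▸ mem_top g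
      obtain ⟨u, hu, c, hc, rfl⟩ := mem_sup_of_normal_right.mp hg
      obtain ⟨k, rfl⟩ := mem_zpowers_iff.mp hu
      have hxc : Commute x₀ c := (mem_center_iff.mp hc) x₀
      have h2 : Commute x₀ (x₀ ^ k * c) := ((Commute.refl x₀).zpow_right k).mul_right hxc
      exact h2.eq.symm
    apply hW₁top
    rw [eq_top_iff, ← hgen, closure_le]
    rintro _ ⟨α, hα, g, rfl⟩
    show α g * g⁻¹ ∈ W₁
    -- the action on `z`
    obtain ⟨n, hαzn⟩ : ∃ n : ℕ, α z = z ^ n := by
      have := hαz α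
      rw [← mem_powers_iff_mem_zpowers] at this
      obtain ⟨n, hn⟩ := (Submonoid.mem_powers_iff _ _).mp this
      exact ⟨n, hn.symm⟩
    -- `α x₀ = x₀ ^ n * k` with `k` central
    set k := α x₀ * (x₀ ^ n)⁻¹ with hk
    have hk1 : k ^ (p ^ i) = 1 := by
      rw [hk, mul_pow_pow hmulpow, ← map_pow, hx₀, hαzn, inv_pow, ← pow_mul, mul_comm n, pow_mul,
        hx₀, mul_inv_cancel]
    have hkW : k ∈ W₁ := hcase k hk1
    have hkc : k ∈ center R := by
      obtain ⟨u, hu, c, hc, huc⟩ := mem_sup_of_normal_right.mp hkW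
      rw [← mem_powers_iff_mem_zpowers] at hu
      obtain ⟨j, rfl⟩ := (Submonoid.mem_powers_iff _ _).mp hu
      have h1 : (x₀ ^ j * 1 ^ 0 * c) ^ (p ^ i) = 1 := by
        rw [one_pow, mul_one, huc, hk1]
      rw [hexp, one_pow, one_pow, mul_one] at h1
      have hj : p ∣ j := hdvd_of j c hc h1
      rw [← huc]
      exact mul_mem (hpc x₀ j hj) hc
    have hαx : ∀ y : R, α x₀ = x₀ ^ n * y ^ 0 * k := by
      intro y
      have h1 : α x₀ = k * x₀ ^ n := by rw [hk]; group
      rw [pow_zero, mul_one, (mem_center_iff.mp hkc) (x₀ ^ n)]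
      exact h1
    by_cases hgW : g ∈ W₁
    · -- `W₁` is invariant
      obtain ⟨u, hu, c, hc, rfl⟩ := mem_sup_of_normal_right.mp hgW
      rw [← mem_powers_iff_mem_zpowers] at hu
      obtain ⟨j, rfl⟩ := (Submonoid.mem_powers_iff _ _).mp hu
      apply mul_mem _ (inv_mem hgW)
      rw [map_mul, map_pow, hαx 1, one_pow, mul_one]
      exact mul_mem (pow_mem (mul_mem (hxW n) (hcW hkc)) j) (hcW (hαc α c hc))
    · obtain ⟨a, s, c, hc, hαg⟩ := decomp hidx hx₀c hx₀p hgW (α g)
      have hba : ⁅g, x₀⁆ ^ (0 * a) = 1 := by rw [zero_mul, pow_zero]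
      obtain ⟨q, rfl⟩ := hstep α g hgW n 0 a s c k hc hkc (hαx g) hαg hαzn hba
      rw [hαg, hfin g a q c hc]
      exact mul_mem (mul_mem (hxW a) (hcW (hpc g _ (dvd_mul_right p q)))) (hcW hc)

end Core

section Quot

variable {R : Type*} [Group R]

/-- automorphisms induced on the quotient by a characteristic subgroup -/
def quotAut (M : Subgroup R) [M.Normal]
    (hM : ∀ α : MulAut R, M.map ((α : R ≃* R) : R →* R) = M) : MulAut R →* MulAut (R ⧸ M) where
  toFun α := QuotientGroup.congr M M α (hM α)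
  map_one' := by
    ext x
    induction x using QuotientGroup.induction_on with
    | H x => rfl
  map_mul' α β := by
    ext x
    induction x using QuotientGroup.induction_on with
    | H x => rfl

theorem quotAut_mk (M : Subgroup R) [M.Normal]
    (hM : ∀ α : MulAut R, M.map ((α : R ≃* R) : R →* R) = M) (α : MulAut R) (x : R) :
    quotAut M hM α (x : R ⧸ M) = ((α x : R) : R ⧸ M) := rfl

end Quot

universe u

/-- **Abstract form**: a metacyclic `p`-group (`p` odd) with `[R, A] = R` for a `p'`-group `A` of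
automorphisms is abelian. -/
theorem abstract_claim {p : ℕ} [hp : Fact p.Prime] (hp2 : p ≠ 2) (n : ℕ) :
    ∀ (R : Type u) [Group R] [Finite R], Nat.card R = n → IsPGroup p R → Cfsg.IsMetacyclic R →
      ∀ A : Subgroup (MulAut R), (Nat.card A).Coprime p → closure (genSet A) = ⊤ →
      ∀ a b : R, a * b = b * a := by
  induction n using Nat.strong_induction_on with
  | _ n ih =>
  intro R _ _ hn hR hm A hcop hgen
  classical
  by_contra hnonab
  have hpp : p.Prime := hp.out
  have hcne : commutator R ≠ ⊥ := by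
    intro h
    apply hnonab
    rw [commutator_eq_bot_iff_center_eq_top] at h
    intro a b
    exact (mem_center_iff.mp (h ▸ mem_top b)) a
  have hm' := hm
  obtain ⟨N, hNn, hNc, hQc⟩ := hm
  have hleN : commutator R ≤ N := by
    letI : CommGroup (R ⧸ N) := IsCyclic.commGroup
    have := Abelianization.commutator_subset_ker (QuotientGroup.mk' N)
    rwa [QuotientGroup.ker_mk'] at this
  haveI hCc : IsCyclic (commutator R) :=
    isCyclic_of_injective (Subgroup.inclusion hleN) (Subgroup.inclusion_injective hleN)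
  -- an element of order `p` in the commutator subgroup
  obtain ⟨z, hzC, hz⟩ : ∃ z ∈ commutator R, orderOf z = p := by
    have hCp : IsPGroup p (commutator R) := hR.to_subgroup _
    have hnt : Nontrivial (commutator R) := (Subgroup.nontrivial_iff_ne_bot _).mpr hcne
    have dvd : p ∣ Nat.card (commutator R) := by
      obtain ⟨m, hm0, hm⟩ := hCp.nontrivial_iff_card.mp hnt
      exact hm.symm ▸ dvd_pow_self _ (ne_of_gt hm0)
    obtain ⟨x, hx⟩ := exists_prime_orderOf_dvd_card' p dvd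
    exact ⟨x, x.2, by rw [← hx]; exact (Subgroup.orderOf_coe x)⟩
  have hM : ∀ α : MulAut R, (zpowers z).map ((α : R ≃* R) : R →* R) = zpowers z := by
    intro α
    rw [MonoidHom.map_zpowers]
    have hαz : α z ∈ commutator R := by
      have hchar : (commutator R).Characteristic := inferInstance
      exact (Subgroup.characteristic_iff_map_le.mp hchar) α ⟨z, hzC, rfl⟩
    apply Cfsg.Agent.Lib.Helper9.eq_of_card_eq_of_le_isCyclic (commutator R) _ _
      (zpowers_le_of_mem hαz) (zpowers_le_of_mem hzC)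
    rw [Nat.card_zpowers, Nat.card_zpowers]
    exact orderOf_injective ((α : R ≃* R) : R →* R) α.injective z
  haveI hMn : (zpowers z).Normal := by
    refine ⟨fun x hx g => ?_⟩
    have := hM (MulAut.conj g)
    rw [← this]
    exact ⟨x, hx, by simp [MulAut.conj_apply]⟩
  have hcardM : Nat.card (zpowers z) = p := by rw [Nat.card_zpowers, hz]
  have hQcard : Nat.card (R ⧸ zpowers z) < n := by
    have h1 := Subgroup.card_eq_card_quotient_mul_card_subgroup (zpowers z)
    rw [hn, hcardM] at h1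
    have h2 : 0 < Nat.card (R ⧸ zpowers z) := Nat.card_pos
    have := hpp.two_le
    nlinarith
  have hQp : IsPGroup p (R ⧸ zpowers z) := hR.to_quotient _
  have hQm : Cfsg.IsMetacyclic (R ⧸ zpowers z) :=
    Cfsg.Agent.Lib.Helper1.isMetacyclic_of_surjective (QuotientGroup.mk' (zpowers z))
      (QuotientGroup.mk'_surjective _) hm'
  set Ab : Subgroup (MulAut (R ⧸ zpowers z)) := A.map (quotAut (zpowers z) hM) with hAb
  have hcopb : (Nat.card Ab).Coprime p := by
    have h1 : Nat.card Ab ∣ Nat.card A :=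
      Subgroup.card_dvd_of_surjective ((quotAut (zpowers z) hM).subgroupMap A)
        (MonoidHom.subgroupMap_surjective _ _)
    exact Nat.Coprime.coprime_dvd_left h1 hcop
  have hgenb : closure (genSet Ab) = ⊤ := by
    rw [eq_top_iff]
    have h1 : (⊤ : Subgroup (R ⧸ zpowers z)) = (closure (genSet A)).map (QuotientGroup.mk' (zpowers z)) := by
      rw [hgen, Subgroup.map_top_of_surjective _ (QuotientGroup.mk'_surjective _)]
    rw [h1, MonoidHom.map_closure]
    apply Subgroup.closure_mono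
    rintro _ ⟨_, ⟨α, hα, x, rfl⟩, rfl⟩
    refine ⟨quotAut (zpowers z) hM α, Subgroup.mem_map_of_mem _ hα, (x : R ⧸ zpowers z), ?_⟩
    rw [quotAut_mk]
    rfl
  have hQcomm := ih _ hQcard (R ⧸ zpowers z) rfl hQp hQm Ab hcopb hgenb
  have hcomm : commutator R = zpowers z := by
    apply le_antisymm _ (zpowers_le_of_mem hzC)
    letI : CommGroup (R ⧸ zpowers z) :=
      { (inferInstance : Group (R ⧸ zpowers z)) with mul_comm := hQcomm }
    have := Abelianization.commutator_subset_ker (QuotientGroup.mk' (zpowers z))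
    rwa [QuotientGroup.ker_mk'] at this
  exact core hp2 hR hm' z hz hcomm A hcop hgen

section Ambient

variable {G : Type*} [Group G]

/-- subgroups of metacyclic groups are metacyclic (cf. helper21) -/
theorem isMetacyclic_subgroup' {X : Type*} [Group X] (hmc : Cfsg.IsMetacyclic X) (L : Subgroup X) :
    Cfsg.IsMetacyclic ↥L := by
  obtain ⟨N, hN, hNc, hQc⟩ := hmc
  refine ⟨N.subgroupOf L, inferInstance, ?_, ?_⟩
  · have hinj : Function.Injective (Subgroup.inclusion (inf_le_left : N ⊓ L ≤ N)) :=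
      Subgroup.inclusion_injective _
    have h1 : IsCyclic ↥(N ⊓ L) := isCyclic_of_injective _ hinj
    have e : ↥(N.subgroupOf L) ≃* ↥(N ⊓ L) := by
      have := Subgroup.subgroupOfEquivOfLe (inf_le_right : N ⊓ L ≤ L)
      rw [Subgroup.inf_subgroupOf_right] at this
      exact this
    exact isCyclic_of_injective e.toMonoidHom e.injective
  · let f : ↥L →* X ⧸ N := (QuotientGroup.mk' N).comp L.subtype
    have hker : f.ker = N.subgroupOf L := by
      ext x
      simp [f, MonoidHom.mem_ker, Subgroup.mem_subgroupOf]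
    have h1 : IsCyclic (↥L ⧸ f.ker) :=
      isCyclic_of_injective (QuotientGroup.kerLift f) (QuotientGroup.kerLift_injective f)
    have e : ↥L ⧸ f.ker ≃* ↥L ⧸ N.subgroupOf L := QuotientGroup.quotientMulEquivOfEq hker
    exact isCyclic_of_surjective e.toMonoidHom e.surjective

theorem isMetacyclic_of_le {K R : Subgroup G} (hKR : K ≤ R) (hRm : Cfsg.IsMetacyclic R) :
    Cfsg.IsMetacyclic K := by
  have h1 := isMetacyclic_subgroup' hRm (K.subgroupOf R)
  exact Cfsg.Agent.Lib.Helper1.isMetacyclic_of_surjective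
    (Subgroup.subgroupOfEquivOfLe hKR).toMonoidHom (Subgroup.subgroupOfEquivOfLe hKR).surjective h1

variable [Finite G] {p : ℕ} [hp : Fact p.Prime]

open Cfsg.Agent.Lib.Helper1

/-- **Metacyclic `p`-groups, `p` odd, with `[R, A] = R` for a `p'`-group `A` are abelian.** -/
theorem commutative_of_commutator_eq (hp2 : p ≠ 2) (R A : Subgroup G) (hR : IsPGroup p R)
    (hRm : Cfsg.IsMetacyclic R) (hA : A ≤ normalizer (R : Set G)) (hcop : (Nat.card A).Coprime p)
    (hRA : ⁅R, A⁆ = R) : ∀ x ∈ R, ∀ y ∈ R, x * y = y * x := by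
  classical
  set f : ↥A →* MulAut ↥R := R.normalizerMonoidHom.comp (Subgroup.inclusion hA) with hf
  have hfx : ∀ (a : ↥A) (x : ↥R), ((f a x : ↥R) : G) = a * x * (a : G)⁻¹ := fun a x => rfl
  set A' : Subgroup (MulAut ↥R) := f.range with hA'
  have hcop' : (Nat.card A').Coprime p := by
    have h1 : Nat.card A' ∣ Nat.card A :=
      Subgroup.card_dvd_of_surjective f.rangeRestrict f.rangeRestrict_surjective
    exact Nat.Coprime.coprime_dvd_left h1 hcop
  have hgen : closure (genSet A') = ⊤ := by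
    apply Subgroup.map_injective (Subgroup.subtype_injective R)
    rw [MonoidHom.map_closure, ← MonoidHom.range_eq_map, Subgroup.range_subtype]
    apply le_antisymm
    · rw [closure_le]
      rintro _ ⟨x, _, rfl⟩
      exact x.2
    · conv_lhs => rw [← hRA, Subgroup.commutator_def]
      rw [closure_le]
      rintro _ ⟨r, hr, a, ha, rfl⟩
      have h1 : ⁅r, a⁆ = (a * r * a⁻¹ * r⁻¹)⁻¹ := by
        rw [commutatorElement_def]; group
      rw [h1]
      apply inv_mem
      apply Subgroup.subset_closure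
      refine ⟨f ⟨a, ha⟩ ⟨r, hr⟩ * (⟨r, hr⟩ : ↥R)⁻¹, ⟨f ⟨a, ha⟩, ⟨⟨a, ha⟩, rfl⟩, ⟨r, hr⟩, rfl⟩, ?_⟩
      simp [hfx]
  have h := abstract_claim hp2 (Nat.card R) ↥R rfl hR hRm A' hcop' hgen
  intro x hx y hy
  exact congrArg Subtype.val (h ⟨x, hx⟩ ⟨y, hy⟩)

/-- coprime action: `R = [R, A] C_R(A)` in product form -/
theorem exists_mul_of_coprime (R A : Subgroup G) (hR : IsPGroup p R)
    (hA : A ≤ normalizer (R : Set G)) (hcop : (Nat.card A).Coprime p) (x : G) (hx : x ∈ R) :
    ∃ k ∈ ⁅R, A⁆, ∃ c ∈ R ⊓ centralizer (A : Set G), x = k * c := by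
  have hKR : ⁅R, A⁆ ≤ R := commutator_le_of_le_normalizer hA
  have hnorm : A ≤ normalizer ((⁅R, A⁆ : Subgroup G) : Set G) :=
    le_normalizer_commutator_right R A
  have hKp : IsPGroup p (⁅R, A⁆ : Subgroup G) := hR.to_le hKR
  have hcop' : Nat.Coprime (Nat.card A) (Nat.card (⁅R, A⁆ : Subgroup G)) := by
    obtain ⟨m, hm⟩ := IsPGroup.iff_card.mp hKp
    rw [hm]; exact Nat.Coprime.pow_right m hcop
  have hsolv : Group.IsSolvable A ∨ Group.IsSolvable (⁅R, A⁆ : Subgroup G) := Or.inr (by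
    haveI : Group.IsNilpotent (⁅R, A⁆ : Subgroup G) := hKp.isNilpotent
    infer_instance)
  obtain ⟨n, hn, hc⟩ := exists_mul_mem_centralizer hnorm hcop' hsolv x⁻¹ (by
    intro a ha
    have : x⁻¹⁻¹ * a * x⁻¹ * a⁻¹ = ⁅x, a⁆ := by rw [commutatorElement_def, inv_inv]
    rw [this]
    exact commutator_mem_commutator hx ha)
  exact ⟨n, hn, (x⁻¹ * n)⁻¹, ⟨R.inv_mem (R.mul_mem (R.inv_mem hx) (hKR hn)), Subgroup.inv_mem _ hc⟩,
    by group⟩

/-- coprime action: `[R, A, A] = [R, A]` -/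
theorem commutator_commutator_eq (R A : Subgroup G) (hR : IsPGroup p R)
    (hA : A ≤ normalizer (R : Set G)) (hcop : (Nat.card A).Coprime p) :
    ⁅⁅R, A⁆, A⁆ = ⁅R, A⁆ := by
  apply le_antisymm (Subgroup.commutator_mono (commutator_le_of_le_normalizer hA) le_rfl)
  rw [Subgroup.commutator_le]
  intro x hx a ha
  obtain ⟨k, hk, c, hc, rfl⟩ := exists_mul_of_coprime R A hR hA hcop x hx
  have hca : c * a = a * c := ((mem_centralizer_iff.mp hc.2) a ha).symm
  have h1 : ⁅k * c, a⁆ = ⁅k, a⁆ := by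
    rw [commutatorElement_def, commutatorElement_def]
    have : k * c * a * (k * c)⁻¹ * a⁻¹ = k * (c * a) * c⁻¹ * k⁻¹ * a⁻¹ := by group
    rw [this, hca]
    group
  rw [h1]
  exact commutator_mem_commutator hk ha

/-- the subgroup `Ω₁` of a non-cyclic metacyclic `p`-subgroup, `p` odd -/
theorem exists_omega (hp2 : p ≠ 2) (X : Subgroup G) (hX : IsPGroup p X)
    (hm : Cfsg.IsMetacyclic X) (hnc : ¬ IsCyclic X) :
    ∃ E : Subgroup G, E ≤ X ∧ Nat.card E = p ^ 2 ∧ (∀ x ∈ X, x ^ p = 1 → x ∈ E) ∧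
      ∀ x ∈ E, x ^ p = 1 := by
  obtain ⟨h1, h2⟩ := Cfsg.Agent.Lib.Helper4.omegaOne_of_metacyclic hp2 hX hm hnc
  refine ⟨(Cfsg.omegaOne p (⊤ : Subgroup X)).map X.subtype, Subgroup.map_subtype_le _, ?_, ?_, ?_⟩
  · rw [Subgroup.card_map_of_injective (Subgroup.subtype_injective X), h2]
  · intro x hx hxp
    exact ⟨⟨x, hx⟩, subset_closure ⟨mem_top _, Subtype.ext (by simpa using hxp)⟩, rfl⟩
  · rintro _ ⟨x, hx, rfl⟩
    have := h1.2 x hx
    simpa using congrArg Subtype.val this

end Ambient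

end Cfsg.Agent.Lib.Helper1.MetaCoprime
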