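/-
helper1: B&G Theorem 15.2(d) = S1364 in hypothesis form: `K*` cyclic, nontrivial, `K* ≤ M_F`, `M_F` not cyclic.
-/
import Cfsg.Agent.Lib.Helper1.BG152B
import Cfsg.Agent.Lib.Helper2.BGCorW
import Cfsg.Agent.Lib.Helper9.Cyclic

set_option autoImplicit false
set_option linter.style.haveILetI false
open scoped commutatorElement
open Pointwise

namespace Cfsg.Agent.Lib.Helper1.BG152

open Cfsg.Agent.Lib.Helper1.BGX
open Cfsg.Agent.Lib.Helper2.BGCor
open Cfsg.Agent.Lib.Helper1.BGKap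
open Cfsg.Agent.Lib.Helper1.BGEmb
open Cfsg.Agent.Lib.Helper1.BGZhat
open Cfsg.Agent.Lib.Helper8 (mem_map_conj card_map_conj mem_normalizer_iff_map_conj)

variable {G : Type*} [Group G]

theorem isCyclic_of_le_isCyclic {W Q : Subgroup G} (hc : IsCyclic ↥W) (hQW : Q ≤ W) :
    IsCyclic ↥Q := by
  haveI := hc
  have h1 : IsCyclic ↥(Q.subgroupOf W) := inferInstance
  exact isCyclic_of_surjective (Subgroup.subgroupOfEquivOfLe hQW)
    (Subgroup.subgroupOfEquivOfLe hQW).surjective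

/-- `M_F` is not cyclic as soon as `K* ≤ M_F` (uses S1431(c)). -/
theorem not_isCyclic_fittingHallOf [Finite G] (hG : Cfsg.IsMinSimpleOddOrder G) {M K : Subgroup G}
    (hM : IsCoatom M) (hHall : Cfsg.IsPiHallOf (Cfsg.sigma M) (Cfsg.sigmaCore M) M)
    (hK : Cfsg.IsPiHallOf (Cfsg.kappa M) K M) (hK1 : K ≠ ⊥) (h142 : T142 M K) (h143 : T143 M K)
    (h3 : Cfsg.sigmaCore M ⊓ Subgroup.centralizer (K : Set G) ≤ Cfsg.fittingHallOf M) :
    ¬ IsCyclic ↥(Cfsg.fittingHallOf M) := by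
  intro hc
  set Ks := Cfsg.sigmaCore M ⊓ Subgroup.centralizer (K : Set G) with hKs
  have hKs1 : Ks ≠ ⊥ := kstar_ne_bot hG hM hK hK1 h142
  obtain ⟨y, hy, hy1⟩ : ∃ y ∈ Ks, y ≠ 1 := by
    obtain ⟨a, ha⟩ := Subgroup.ne_bot_iff_exists_ne_one.mp hKs1
    exact ⟨a.1, a.2, fun h => ha (Subtype.ext h)⟩
  obtain ⟨j, hj⟩ := exists_pow_prime_order hy1
  rw [Nat.card_zpowers] at hj
  set z := y ^ j with hz
  have hzKs : z ∈ Ks := Ks.pow_mem hy j
  have hz1 : z ≠ 1 := by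
    intro h
    rw [h, orderOf_one] at hj
    exact Nat.not_prime_one hj
  set p := orderOf z with hp
  haveI : Fact p.Prime := ⟨hj⟩
  have hpKs : p ∣ Nat.card ↥Ks := Subgroup.orderOf_dvd_natCard Ks hzKs
  have hpF : p ∣ Nat.card ↥(Cfsg.fittingHallOf M) :=
    Subgroup.orderOf_dvd_natCard _ (h3 hzKs)
  have hpσ : p ∈ Cfsg.sigma M :=
    hHall.2.1 p hj (dvd_trans hpKs (Subgroup.card_dvd_of_le inf_le_left))
  have hp2 : p ≠ 2 :=
    ne_two_of_dvd hG.1 (dvd_trans hpKs (Subgroup.card_subgroup_dvd_card Ks))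
  have hzσ : z ∈ Cfsg.sigmaCore M := (Subgroup.mem_inf.mp hzKs).1
  -- a Sylow `p`-subgroup of `M_σ` containing `z`
  have hzp : IsPGroup p ↥(Subgroup.zpowers (⟨z, hzσ⟩ : ↥(Cfsg.sigmaCore M))) := by
    apply IsPGroup.of_card (n := 1)
    rw [Nat.card_zpowers, Subgroup.orderOf_mk, pow_one]
  obtain ⟨S, hS⟩ := IsPGroup.exists_le_sylow hzp
  set Q := (S : Subgroup ↥(Cfsg.sigmaCore M)).map (Cfsg.sigmaCore M).subtype with hQ
  have hzQ : z ∈ Q := ⟨⟨z, hzσ⟩, hS (Subgroup.mem_zpowers _), rfl⟩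
  have hQp : IsPGroup p Q := S.2.map _
  have hQσ : Q ≤ Cfsg.sigmaCore M := by
    rintro _ ⟨w, -, rfl⟩
    exact w.2
  have hQM : Q ≤ M := hQσ.trans hHall.1
  have hQF : Q ≤ Cfsg.fittingHallOf M := le_fittingHallOf_of_isPGroup hQM hQp hpF
  have hQc : IsCyclic ↥Q := isCyclic_of_le_isCyclic hc hQF
  have hFN := Cfsg.Agent.Lib.Helper9.le_normalizer_fittingHallOf M
  have hKN : K ≤ Subgroup.normalizer (Q : Set G) := by
    intro k hk
    rw [mem_normalizer_iff_map_conj]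
    haveI := hc
    apply Cfsg.Agent.Lib.Helper9.eq_of_card_eq_of_le_isCyclic (Cfsg.fittingHallOf M) _ _ ?_ hQF
      (card_map_conj Q k)
    intro x hx
    rw [mem_map_conj] at hx
    have h1 := (Subgroup.mem_normalizer_iff.mp (hFN (hK.1 hk)) _).mp (hQF hx)
    have e : k * (k⁻¹ * x * k) * k⁻¹ = x := by group
    rwa [e] at h1
  have hQKs : Q ≤ Ks := by
    intro w hw
    refine Subgroup.mem_inf.mpr ⟨hQσ hw, ?_⟩
    rw [Subgroup.mem_centralizer_iff]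
    intro k hk
    have hcop : (orderOf k).Coprime p := by
      apply Nat.Coprime.symm
      rw [Nat.Prime.coprime_iff_not_dvd hj]
      intro hd
      have h1 : p ∈ Cfsg.kappa M :=
        hK.2.1 p hj (dvd_trans hd (Subgroup.orderOf_dvd_natCard K hk))
      exact h1.2.2.1 hpσ
    exact comm_of_isCyclic_of_fixed hp2 hQp hQc (hKN hk) hcop hzQ hz1
      (Subgroup.mem_centralizer_iff.mp (Subgroup.mem_inf.mp hzKs).2 k hk) w hw
  exact (h143.2.2.1 p hj hpKs S).2.2 hQKs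

/-- **S1364** in hypothesis form. -/
theorem s1364_core [Finite G] (hG : Cfsg.IsMinSimpleOddOrder G) {M K U : Subgroup G}
    (hM : IsCoatom M) (hHall : Cfsg.IsPiHallOf (Cfsg.sigma M) (Cfsg.sigmaCore M) M)
    (hKU : Cfsg.IsSigmaDecomposition M K U) (hK1 : K ≠ ⊥) (h142 : T142 M K) (h143 : T143 M K)
    (hZ : IsCyclic ↥(K ⊔ (Cfsg.sigmaCore M ⊓ Subgroup.centralizer (K : Set G))))
    (h26 : ∀ E : Subgroup G, Cfsg.IsComplIn E (Cfsg.sigmaCore M) M →
      ⁅Cfsg.sigmaCore M, E⁆ = Cfsg.sigmaCore M)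
    (h29 : (¬ ∀ q : ℕ, q.Prime → q ∣ Nat.card M → q ∉ Cfsg.sigma M → q ∈ Cfsg.kappa M) →
      Group.IsNilpotent (Cfsg.sigmaCore M))
    (h73 : U = ⊥ → (Nat.card ↥(Cfsg.sigmaCore M ⊓ Subgroup.centralizer (K : Set G))).Prime) :
    IsCyclic ↥(Cfsg.sigmaCore M ⊓ Subgroup.centralizer (K : Set G)) ∧
      (Cfsg.sigmaCore M ⊓ Subgroup.centralizer (K : Set G)) ≠ ⊥ ∧
      (Cfsg.sigmaCore M ⊓ Subgroup.centralizer (K : Set G)) ≤ Cfsg.fittingHallOf M ∧
      ¬ IsCyclic (Cfsg.fittingHallOf M) := by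
  have h3 : Cfsg.sigmaCore M ⊓ Subgroup.centralizer (K : Set G) ≤ Cfsg.fittingHallOf M := by
    by_cases hU : U = ⊥
    · have hE := isComplIn_U_sup_K hHall hKU
      rw [hU, bot_sup_eq] at hE
      have h1 := pCoreOf_le_fittingHallOf hG hM hHall hKU.hall hK1 h142 (h26 K hE) (h73 hU)
      exact h1.1.trans h1.2
    · have hc1 : Nat.card U ≠ 1 := fun h => hU (Subgroup.card_eq_one.mp h)
      obtain ⟨p, hp, hpU⟩ := Nat.exists_prime_and_dvd hc1
      obtain ⟨hpκ, hpσ⟩ := not_kappa_sigma_of_dvd_card_U hHall hKU hp hpU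
      have hnil := h29 (fun h => hpκ (h p hp
        (dvd_trans hpU (Subgroup.card_dvd_of_le hKU.compl.1)) hpσ))
      exact inf_le_left.trans (sigmaCore_le_fittingHallOf hHall hnil)
  exact ⟨isCyclic_of_le_isCyclic hZ le_sup_right, kstar_ne_bot hG hM hKU.hall hK1 h142, h3,
    not_isCyclic_fittingHallOf hG hM hHall hKU.hall hK1 h142 h143 h3⟩

end Cfsg.Agent.Lib.Helper1.BG152
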