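/-
helper1: B&G Theorem 15.2(a) = S1355 in hypothesis form:
`1 ≠ M_F ≤ M_σ ≤ M' < M` and `M' M_F / M_F` nilpotent.
-/
import Cfsg.Agent.Lib.Helper1.BG152C
import Cfsg.Agent.Lib.Helper2.BGCorZ
import Cfsg.Agent.Lib.Helper9.BG144B

set_option autoImplicit false
set_option linter.style.haveILetI false
open scoped commutatorElement
open Pointwise

namespace Cfsg.Agent.Lib.Helper1.BG152

open Cfsg.Agent.Lib.Helper1.BGX
open Cfsg.Agent.Lib.Helper2.BGCor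
open Cfsg.Agent.Lib.Helper1.BGKap
open Cfsg.Agent.Lib.Helper1.BGEmb
open Cfsg.Agent.Lib.Helper1.BGZhat

variable {G : Type*} [Group G]

/-- if `M' ≤ M_F D` with `D ≤ M` nilpotent, then the image of `M'` in `M / M_F` is nilpotent. -/
theorem nilpotent_map_of_le_sup {M D : Subgroup G} (hDM : D ≤ M)
    (hD : Group.IsNilpotent ↥D) (h : ⁅M, M⁆ ≤ Cfsg.fittingHallOf M ⊔ D) :
    Group.IsNilpotent
      ↥((commutator ↥M).map (QuotientGroup.mk' (Cfsg.fittingHall ↥M))) := by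
  haveI := hD
  have h1 : Group.IsNilpotent ↥(D.subgroupOf M) :=
    Group.nilpotent_of_mulEquiv (Subgroup.subgroupOfEquivOfLe hDM).symm
  haveI := h1
  have h2 : Group.IsNilpotent
      ↥((D.subgroupOf M).map (QuotientGroup.mk' (Cfsg.fittingHall ↥M))) :=
    Group.nilpotent_of_surjective ((QuotientGroup.mk' (Cfsg.fittingHall ↥M)).subgroupMap _)
      ((QuotientGroup.mk' (Cfsg.fittingHall ↥M)).subgroupMap_surjective _)
  refine isNilpotent_of_le' ?_ h2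
  rintro _ ⟨x, hx, rfl⟩
  have hx1 : (x : G) ∈ Cfsg.fittingHallOf M ⊔ D :=
    Subgroup.mem_subgroupOf.mp (commutator_le_subgroupOf h hx)
  have hDN : D ≤ Subgroup.normalizer (Cfsg.fittingHallOf M : Set G) :=
    hDM.trans (Cfsg.Agent.Lib.Helper9.le_normalizer_fittingHallOf M)
  obtain ⟨f, hf, d, hd, hfd⟩ := exists_mul_of_mem_sup' hDN hx1
  obtain ⟨f', hf', hff⟩ := hf
  refine ⟨⟨d, hDM hd⟩, Subgroup.mem_subgroupOf.mpr hd, ?_⟩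
  have e : x = f' * ⟨d, hDM hd⟩ := by
    apply Subtype.ext
    rw [Subgroup.coe_mul, hfd, ← hff]
    rfl
  rw [e, map_mul]
  have : (QuotientGroup.mk' (Cfsg.fittingHall ↥M)) f' = 1 :=
    (QuotientGroup.eq_one_iff f').mpr hf'
  rw [this, one_mul]

/-- `M' ≤ N E'` when `M = E N` with `N` normal. -/
theorem commutator_le_sup_of_complIn {E N M : Subgroup G} (hc : Cfsg.IsComplIn E N M)
    (hn : M ≤ Subgroup.normalizer (N : Set G)) : ⁅M, M⁆ ≤ N ⊔ ⁅E, E⁆ := by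
  rw [Subgroup.commutator_le]
  intro m1 hm1 m2 hm2
  obtain ⟨e1, he1, n1, hn1, rfl⟩ := hc.2.2.2 m1 hm1
  obtain ⟨e2, he2, n2, hn2, rfl⟩ := hc.2.2.2 m2 hm2
  have e : ⁅e1 * n1, e2 * n2⁆ = ⁅e1, e2⁆ * ((e2 * e1 * e2⁻¹) * n1 * (e2 * e1 * e2⁻¹)⁻¹) *
      ((e2 * e1) * (n2 * n1⁻¹) * (e2 * e1)⁻¹) * (e2 * n2⁻¹ * e2⁻¹) := by
    simp only [commutatorElement_def]
    group
  rw [e]
  have hEM : E ≤ M := hc.1
  have hconj : ∀ g ∈ M, ∀ n ∈ N, g * n * g⁻¹ ∈ N := fun g hg n hn' =>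
    (Subgroup.mem_normalizer_iff.mp (hn hg) n).mp hn'
  have h1 : ⁅e1, e2⁆ ∈ N ⊔ ⁅E, E⁆ :=
    Subgroup.mem_sup_right (Subgroup.commutator_mem_commutator he1 he2)
  have h2 : (e2 * e1 * e2⁻¹) * n1 * (e2 * e1 * e2⁻¹)⁻¹ ∈ N ⊔ ⁅E, E⁆ :=
    Subgroup.mem_sup_left (hconj _ (M.mul_mem (M.mul_mem (hEM he2) (hEM he1))
      (M.inv_mem (hEM he2))) _ hn1)
  have h3 : (e2 * e1) * (n2 * n1⁻¹) * (e2 * e1)⁻¹ ∈ N ⊔ ⁅E, E⁆ :=
    Subgroup.mem_sup_left (hconj _ (M.mul_mem (hEM he2) (hEM he1)) _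
      (N.mul_mem hn2 (N.inv_mem hn1)))
  have h4 : e2 * n2⁻¹ * e2⁻¹ ∈ N ⊔ ⁅E, E⁆ :=
    Subgroup.mem_sup_left (hconj _ (hEM he2) _ (N.inv_mem hn2))
  exact Subgroup.mul_mem _ (Subgroup.mul_mem _ (Subgroup.mul_mem _ h1 h2) h3) h4

/-- **S1355** in hypothesis form. -/
theorem s1355_core [Finite G] (hG : Cfsg.IsMinSimpleOddOrder G) (hUT : UT G) {M K U : Subgroup G}
    (hM : IsCoatom M) (hHall : Cfsg.IsPiHallOf (Cfsg.sigma M) (Cfsg.sigmaCore M) M)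
    (hKU : Cfsg.IsSigmaDecomposition M K U)
    (h26a : Cfsg.sigmaCore M ⊓ Subgroup.centralizer ((U ⊔ K : Subgroup G) : Set G) ≤
      ⁅Cfsg.sigmaCore M, Cfsg.sigmaCore M⁆)
    (h26 : ⁅Cfsg.sigmaCore M, U ⊔ K⁆ = Cfsg.sigmaCore M)
    (h15 : Group.IsNilpotent ↥⁅U ⊔ K, U ⊔ K⁆)
    (h29 : (¬ ∀ q : ℕ, q.Prime → q ∣ Nat.card M → q ∉ Cfsg.sigma M → q ∈ Cfsg.kappa M) →
      Group.IsNilpotent (Cfsg.sigmaCore M))
    (h142 : K ≠ ⊥ → T142 M K)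
    (h73 : K ≠ ⊥ → U = ⊥ →
      (Nat.card ↥(Cfsg.sigmaCore M ⊓ Subgroup.centralizer (K : Set G))).Prime)
    (h64 : K ≠ ⊥ → (Cfsg.sigmaCore M ⊓ Subgroup.centralizer (K : Set G)) ≠ ⊥ ∧
      (Cfsg.sigmaCore M ⊓ Subgroup.centralizer (K : Set G)) ≤ Cfsg.fittingHallOf M)
    (h65 : K ≠ ⊥ → ⁅M, M⁆ = U ⊔ Cfsg.sigmaCore M) :
    Cfsg.fittingHallOf M ≠ ⊥ ∧ Cfsg.fittingHallOf M ≤ Cfsg.sigmaCore M ∧
      Cfsg.sigmaCore M ≤ ⁅M, M⁆ ∧ ⁅M, M⁆ < M ∧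
      Group.IsNilpotent
        ↥((commutator ↥M).map (QuotientGroup.mk' (Cfsg.fittingHall ↥M))) := by
  have hE := isComplIn_U_sup_K hHall hKU
  have hσ1 : Cfsg.sigmaCore M ≠ ⊥ := sigmaCore_ne_bot hG hUT hM hHall
  have hsolv : Group.IsSolvable ↥M := hG.2.2.2 M hM.1
  have h2 : Cfsg.fittingHallOf M ≤ Cfsg.sigmaCore M :=
    Cfsg.Agent.Lib.Helper9.BG144.fittingHallOf_le_sigmaCore hG hM
  have h3 : Cfsg.sigmaCore M ≤ ⁅M, M⁆ := by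
    calc Cfsg.sigmaCore M = ⁅Cfsg.sigmaCore M, U ⊔ K⁆ := h26.symm
      _ ≤ ⁅M, M⁆ := Subgroup.commutator_mono hHall.1 hE.1
  have h4 : ⁅M, M⁆ < M := commutator_self_lt hsolv (coatom_ne_bot hG hM)
  by_cases hP1 : ∀ q : ℕ, q.Prime → q ∣ Nat.card M → q ∉ Cfsg.sigma M → q ∈ Cfsg.kappa M
  · -- type P1: `U = 1`, `K ≠ 1`
    have hU : U = ⊥ := U_eq_bot_of_P1 hHall hKU hP1
    have hK1 : K ≠ ⊥ := by
      intro hK
      rw [hU, hK, bot_sup_eq] at h26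
      apply hσ1
      rw [← h26]
      exact Subgroup.commutator_bot_right _
    obtain ⟨h64a, h64b⟩ := h64 hK1
    refine ⟨fun h => h64a (le_bot_iff.mp (h ▸ h64b)), h2, h3, h4, ?_⟩
    haveI : Fact (Nat.card ↥(Cfsg.sigmaCore M ⊓ Subgroup.centralizer (K : Set G))).Prime :=
      ⟨h73 hK1 hU⟩
    rw [hU, bot_sup_eq] at h26a
    have hder : ⁅M, M⁆ ≤ Cfsg.sigmaCore M := by
      rw [h65 hK1, hU, bot_sup_eq]
    exact caseB_derived_nilpotent hG hM hKU.hall hK1 (h142 hK1).1 rfl h26a hder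
  · -- `M_σ` nilpotent, `M_F = M_σ`
    have hnil := h29 hP1
    have h5 : Cfsg.sigmaCore M ≤ Cfsg.fittingHallOf M := sigmaCore_le_fittingHallOf hHall hnil
    refine ⟨fun h => hσ1 (le_bot_iff.mp (h ▸ h5)), h2, h3, h4, ?_⟩
    apply nilpotent_map_of_le_sup (D := ⁅U ⊔ K, U ⊔ K⁆)
      ((commutator_self_le _).trans hE.1) h15
    exact (commutator_le_sup_of_complIn hE (le_normalizer_sigmaCore M)).trans
      (sup_le_sup_right h5 _)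

end Cfsg.Agent.Lib.Helper1.BG152
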