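import Cfsg.Agent.Lib.Helper16.BGPrimC
import Cfsg.Agent.Lib.Helper2.BGCorF
import Cfsg.Agent.Lib.Helper17.CoprimeGen

/-!
# B & G Corollary 14.3 (embedding of `P`-type maximal subgroups), part 2: `M ∩ M* = K × K*`

Black-box corollary of the statements of S1430 (for `M`), S1423 (for `M`), S1351 (for `M*`) and S1350.
-/

set_option autoImplicit false
set_option linter.style.haveILetI false

namespace Cfsg.Agent.Lib.Helper1.BGEmb

open Subgroup
open Cfsg.Agent.Lib.Helper1.BGX (UT)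
open Cfsg.Agent.Lib.Helper2.BGCor
open Cfsg.Agent.Lib.Helper8 (mem_map_conj conj_mem_map_conj map_conj_map_conj map_conj_one
  map_conj_le_iff map_conj_eq_iff sylow_smul_coe)

variable {G : Type*} [Group G]

/-- The conclusion of S1423 for `M`. -/
def T1423 (M : Subgroup G) : Prop :=
  ∀ (p : ℕ) [Fact p.Prime], p ∈ Cfsg.sigma M → ∀ X : Subgroup G, X ≤ M → Nat.card X = p →
    ∀ P : Sylow p ↥(Cfsg.sigmaCore M),
      (p ∈ Cfsg.beta M ∨ X ≤ ⁅Cfsg.sigmaCore M, Cfsg.sigmaCore M⁆) →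
      (centralizer (X : Set G) ≤ M ∧
        ∀ L : Subgroup G, IsCoatom L → centralizer (X : Set G) ≤ L → L = M) ∧
      Cfsg.InUniqueMaximal ((P : Subgroup ↥(Cfsg.sigmaCore M)).map (Cfsg.sigmaCore M).subtype) ∧
      (P : Subgroup ↥(Cfsg.sigmaCore M)).map (Cfsg.sigmaCore M).subtype ≤ M

/-- A nontrivial finite subgroup has a subgroup of prime order. -/
theorem exists_subgroup_card_prime [Finite G] {H : Subgroup G} (hH : H ≠ ⊥) :
    ∃ (q : ℕ) (X : Subgroup G), q.Prime ∧ X ≤ H ∧ Nat.card X = q := by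
  have h1 : Nat.card H ≠ 1 := fun h => hH (Subgroup.card_eq_one.mp h)
  obtain ⟨q, hq, hqd⟩ := Nat.exists_prime_and_dvd h1
  haveI : Fact q.Prime := ⟨hq⟩
  obtain ⟨x, hx⟩ := exists_prime_orderOf_dvd_card' q hqd
  refine ⟨q, zpowers (x : G), hq, ?_, ?_⟩
  · rw [zpowers_le]; exact x.2
  · rw [Nat.card_zpowers, Subgroup.orderOf_coe, hx]

/-- The join of two commuting cyclic subgroups of coprime orders is cyclic. -/
theorem isCyclic_sup_of_coprime [Finite G] {A B : Subgroup G} (hA : IsCyclic A) (hB : IsCyclic B)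
    (hcop : (Nat.card A).Coprime (Nat.card B)) (hcomm : ∀ a ∈ A, ∀ b ∈ B, a * b = b * a) :
    IsCyclic ↥(A ⊔ B) := by
  let f : A × B →* G :=
    { toFun := fun x => (x.1 : G) * (x.2 : G)
      map_one' := by simp
      map_mul' := by
        rintro ⟨a, b⟩ ⟨a', b'⟩
        show ((a * a' : A) : G) * ((b * b' : B) : G) = ((a : G) * (b : G)) * ((a' : G) * (b' : G))
        have h := hcomm a' a'.2 b b.2
        simp only [Subgroup.coe_mul]
        calc (a : G) * (a' : G) * ((b : G) * (b' : G)) = (a : G) * ((a' : G) * (b : G)) * (b' : G) := by group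
          _ = (a : G) * ((b : G) * (a' : G)) * (b' : G) := by rw [h]
          _ = (a : G) * (b : G) * ((a' : G) * (b' : G)) := by group }
  have hrange : f.range = A ⊔ B := by
    apply le_antisymm
    · rintro _ ⟨x, rfl⟩
      exact (A ⊔ B).mul_mem ((le_sup_left : A ≤ A ⊔ B) x.1.2) ((le_sup_right : B ≤ A ⊔ B) x.2.2)
    · apply sup_le
      · intro a ha
        exact ⟨(⟨a, ha⟩, 1), by simp [f]⟩
      · intro b hb
        exact ⟨(1, ⟨b, hb⟩), by simp [f]⟩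
  haveI : IsCyclic (A × B) := Group.isCyclic_prod_iff.mpr ⟨hA, hB, hcop⟩
  have h1 : IsCyclic ↥f.range := isCyclic_of_surjective f.rangeRestrict f.rangeRestrict_surjective
  rwa [hrange] at h1

/-- `M_σ` has index prime to every `q ∈ σ(M)` (from S1350). -/
theorem not_dvd_index_sigmaCore [Finite G] (hG : Cfsg.IsMinSimpleOddOrder G) {M : Subgroup G}
    (hM : IsCoatom M) {q : ℕ} (hq : q ∈ Cfsg.sigma M) : ¬ q ∣ (Cfsg.sigmaCore M).index := by
  obtain ⟨-, ⟨-, hidx⟩, -⟩ := Cfsg.Agent.S1350.result hG M hM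
  exact hidx q hq.1 hq

/-- **Weak σ-partition.** If `q ∈ σ(M) ∩ σ(N)` divides `|M_σ'|`, then `N` is conjugate to `M`. -/
theorem conj_of_le_commutator_sigmaCore [Finite G] (hG : Cfsg.IsMinSimpleOddOrder G)
    {M N : Subgroup G} (hM : IsCoatom M) (hN : IsCoatom N) (h1423 : T1423 M)
    {q : ℕ} (hq : q.Prime) (hqN : q ∈ Cfsg.sigma N) (X : Subgroup G)
    (hX : X ≤ ⁅Cfsg.sigmaCore M, Cfsg.sigmaCore M⁆) (hXc : Nat.card X = q) :
    ∃ g : G, N = M.map (MulAut.conj g).toMonoidHom := by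
  haveI : Fact q.Prime := ⟨hq⟩
  have hXσ : X ≤ Cfsg.sigmaCore M :=
    hX.trans (Cfsg.Agent.Lib.Helper1.commutator_le_of_le_normalizer le_normalizer)
  have hqM : q ∈ Cfsg.sigma M := by
    apply primes_card_sigmaCore M q hq
    rw [← hXc]
    exact Subgroup.card_dvd_of_le hXσ
  obtain P : Sylow q ↥(Cfsg.sigmaCore M) := default
  obtain ⟨-, hPu, hPM⟩ := h1423 q hqM X (hXσ.trans (sigmaCore_le M)) hXc P (Or.inr hX)
  obtain ⟨S, hS⟩ := Cfsg.Agent.Lib.Helper16.BGPrim.exists_sylow_eq_of_not_dvd_index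
    (not_dvd_index_sigmaCore hG hM hqM) P
  obtain P' : Sylow q ↥(Cfsg.sigmaCore N) := default
  obtain ⟨S', hS'⟩ := Cfsg.Agent.Lib.Helper16.BGPrim.exists_sylow_eq_of_not_dvd_index
    (not_dvd_index_sigmaCore hG hN hqN) P'
  obtain ⟨g, hg⟩ := MulAction.exists_smul_eq G S S'
  have h1 : (S : Subgroup G).map (MulAut.conj g).toMonoidHom ≤ N := by
    rw [← sylow_smul_coe, hg, hS']
    exact (Subgroup.map_subtype_le _).trans (sigmaCore_le N)
  rw [map_conj_le_iff] at h1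
  refine ⟨g, ?_⟩
  obtain ⟨M0, -, hM0⟩ := hPu
  have h2 : N.map (MulAut.conj g⁻¹).toMonoidHom = M0 :=
    hM0 _ ⟨Cfsg.Agent.Lib.Helper17.BGU.isCoatom_map_conj g⁻¹ hN, hS ▸ h1⟩
  have h3 : M = M0 := hM0 _ ⟨hM, hPM⟩
  rw [← h3] at h2
  have := (map_conj_eq_iff.mp h2)
  rw [inv_inv] at this
  exact this

/-- **B & G 14.3, `M ∩ M* = K × K*`** from the statements of S1430, S1423, S1351. -/
theorem s1368_core [Finite G] (hG : Cfsg.IsMinSimpleOddOrder G) {M K Mstar : Subgroup G}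
    (hM : IsCoatom M) (hMs : IsCoatom Mstar)
    (hK : Cfsg.IsPiHallOf (Cfsg.kappa M) K M) (hKc : IsCyclic K) (hK1 : K ≠ ⊥)
    (h142 : T142 M K) (h1423 : T1423 M)
    (hcyc : IsCyclic ↥(Cfsg.sigmaCore M ⊓ centralizer (K : Set G)))
    (hKst : K = Cfsg.sigmaCore Mstar ⊓
      centralizer ((Cfsg.sigmaCore M ⊓ centralizer (K : Set G) : Subgroup G) : Set G))
    (hKstH : Cfsg.IsPiHallOf (Cfsg.kappa Mstar) (Cfsg.sigmaCore M ⊓ centralizer (K : Set G)) Mstar) :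
    M ⊓ Mstar = K ⊔ (Cfsg.sigmaCore M ⊓ centralizer (K : Set G)) ∧
      IsCyclic ↥(K ⊔ (Cfsg.sigmaCore M ⊓ centralizer (K : Set G))) := by
  classical
  obtain ⟨Kst, hKstdef⟩ : ∃ Kst : Subgroup G, Kst = Cfsg.sigmaCore M ⊓ centralizer (K : Set G) :=
    ⟨_, rfl⟩
  rw [← hKstdef] at hcyc hKst hKstH ⊢
  have hKstσ : Kst ≤ Cfsg.sigmaCore M := hKstdef ▸ inf_le_left
  have hKstC : Kst ≤ centralizer (K : Set G) := hKstdef ▸ inf_le_right
  have hKstM : Kst ≤ M := hKstσ.trans (sigmaCore_le M)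
  have hKstMs : Kst ≤ Mstar := hKstH.1
  have hKM : K ≤ M := hK.1
  have hKσs : K ≤ Cfsg.sigmaCore Mstar := by rw [hKst]; exact inf_le_left
  have hKMs : K ≤ Mstar := hKσs.trans (sigmaCore_le Mstar)
  -- `D2 = M ∩ M*_σ`
  obtain ⟨D2, hD2def⟩ : ∃ D2 : Subgroup G, D2 = M ⊓ Cfsg.sigmaCore Mstar := ⟨_, rfl⟩
  have hD2M : D2 ≤ M := hD2def ▸ inf_le_left
  have hD2σ : D2 ≤ Cfsg.sigmaCore Mstar := hD2def ▸ inf_le_right
  have hKD2 : K ≤ D2 := hD2def ▸ le_inf hKM hKσs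
  have hconjD2 : ∀ d ∈ M ⊓ Mstar, ∀ x ∈ D2, d * x * d⁻¹ ∈ D2 := by
    intro d hd x hx
    rw [hD2def] at hx ⊢
    exact ⟨M.mul_mem (M.mul_mem hd.1 hx.1) (M.inv_mem hd.1), conj_mem_sigmaCore hd.2 hx.2⟩
  have hKstN : Kst ≤ normalizer (D2 : Set G) := fun k hk =>
    Cfsg.Agent.Lib.Helper1.mem_normalizer_of_forall_conj_mem D2 k
      (hconjD2 k ⟨hKstM hk, hKstMs hk⟩)
  have hcop : (Nat.card Kst).Coprime (Nat.card D2) := by
    apply Nat.coprime_of_dvd
    intro p hp hpK hpD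
    have h1 : p ∈ Cfsg.kappa Mstar := hKstH.2.1 p hp hpK
    have h2 : p ∈ Cfsg.sigma Mstar :=
      primes_card_sigmaCore Mstar p hp (hpD.trans (Subgroup.card_dvd_of_le hD2σ))
    exact h1.2.2.1 h2
  have hsolv : Group.IsSolvable Kst ∨ Group.IsSolvable D2 := by
    left
    letI := hcyc.commGroup
    infer_instance
  -- `W = [D2, K*]` is trivial
  obtain ⟨W, hWdef⟩ : ∃ W : Subgroup G, W = ⁅D2, Kst⁆ := ⟨_, rfl⟩
  have hWσ : W ≤ Cfsg.sigmaCore M := by
    rw [hWdef, Subgroup.commutator_le]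
    intro d hd k hk
    rw [commutatorElement_def]
    exact (Cfsg.sigmaCore M).mul_mem (conj_mem_sigmaCore (hD2M hd) (hKstσ hk))
      ((Cfsg.sigmaCore M).inv_mem (hKstσ hk))
  have hWD2 : W ≤ D2 := hWdef ▸ Cfsg.Agent.Lib.Helper1.commutator_le_of_le_normalizer hKstN
  have hWW : ⁅W, Kst⁆ = W := by
    rw [hWdef]
    exact Cfsg.Agent.Lib.Helper16.BGPrim.comm_comm_eq_coprime D2 Kst hKstN hcop hsolv
  have hWcomm : W ≤ ⁅Cfsg.sigmaCore M, Cfsg.sigmaCore M⁆ := by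
    rw [← hWW]
    exact Subgroup.commutator_mono hWσ hKstσ
  have hW : W = ⊥ := by
    by_contra hne
    obtain ⟨q, X, hq, hXW, hXc⟩ := exists_subgroup_card_prime hne
    have hqs : q ∈ Cfsg.sigma Mstar := by
      apply primes_card_sigmaCore Mstar q hq
      rw [← hXc]
      exact Subgroup.card_dvd_of_le (hXW.trans (hWD2.trans hD2σ))
    obtain ⟨g, hg⟩ := conj_of_le_commutator_sigmaCore hG hM hMs h1423 hq hqs X (hXW.trans hWcomm) hXc
    obtain ⟨p, Y, hp, hYK, hYc⟩ := exists_subgroup_card_prime hK1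
    have hpK : p ∣ Nat.card K := hYc ▸ Subgroup.card_dvd_of_le hYK
    have h1 : p ∈ Cfsg.kappa M := hK.2.1 p hp hpK
    have h2 : p ∈ Cfsg.sigma Mstar :=
      primes_card_sigmaCore Mstar p hp (hpK.trans (Subgroup.card_dvd_of_le hKσs))
    have h3 : p ∈ Cfsg.sigma (Mstar.map (MulAut.conj g⁻¹).toMonoidHom) :=
      Cfsg.Agent.Lib.Helper16.BGPrim.sigma_map_conj h2 g⁻¹
    have h4 : Mstar.map (MulAut.conj g⁻¹).toMonoidHom = M := by
      rw [hg, map_conj_map_conj, inv_mul_cancel, map_conj_one]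
    rw [h4] at h3
    exact h1.2.2.1 h3
  have hD2K : D2 ≤ K := by
    have h1 := Cfsg.Agent.Lib.Helper17.le_centralizer_sup_commutator Kst D2 hKstN hcop hsolv
    rw [← hWdef, hW, sup_bot_eq] at h1
    intro d hd
    have h2 := h1 hd
    rw [hKst]
    exact ⟨hD2σ hd, h2.2⟩
  have hD2eq : D2 = K := le_antisymm hD2K hKD2
  refine ⟨?_, ?_⟩
  · apply le_antisymm
    · intro d hd
      obtain ⟨p, X, hp, hXK, hXc⟩ := exists_subgroup_card_prime hK1
      have hN := (h142.2.2 X hXK (hXc ▸ hp)).2.1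
      rw [hKstdef, ← hN]
      refine ⟨hd.1, ?_⟩
      apply Cfsg.Agent.Lib.Helper1.mem_normalizer_of_forall_conj_mem
      intro x hx
      rw [← hD2eq] at hx ⊢
      exact hconjD2 d hd x hx
    · exact sup_le (le_inf hKM hKMs) (le_inf hKstM hKstMs)
  · apply isCyclic_sup_of_coprime hKc hcyc
    · apply Nat.coprime_of_dvd
      intro p hp hpK hpS
      have h1 : p ∈ Cfsg.kappa M := hK.2.1 p hp hpK
      have h2 : p ∈ Cfsg.sigma M :=
        primes_card_sigmaCore M p hp (hpS.trans (Subgroup.card_dvd_of_le hKstσ))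
      exact h1.2.2.1 h2
    · intro a ha b hb
      exact ((mem_centralizer_iff.mp (hKstC hb)) a ha)

end Cfsg.Agent.Lib.Helper1.BGEmb
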