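import Mathlib
import Cfsg.Agent.Lib.Helper5.BLFullB
import Cfsg.Agent.Lib.Helper12.Ord5040E
import Cfsg.Agent.Lib.Helper10.GenOrtho

/-!
helper1: the degree bound `χ(1) ≥ 2p` for a nontrivial irreducible character `χ` of a simple group
which is constant on the `p`-singular elements of `⟨y⟩ × ⟨k⟩`, `k` an involution commuting with the
element `y` of odd prime order `p` (idea of helper13: the `-1`-eigenspace of `k` has dimension
divisible by `p`, and by `4p` up to the factor 2 because `det χ(k) = 1`).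
-/

set_option autoImplicit false
set_option linter.style.haveILetI false

namespace Cfsg.Agent.Lib.Helper1.BLBound

open Cfsg Cfsg.Agent.CharLib Cfsg.Agent.Lib.Helper24 Cfsg.Agent.Lib.Helper5.BLFull
open scoped ComplexConjugate

universe u

variable {G : Type u} [Group G] [Finite G]

/-- sum over a range with the first term split off -/
theorem sum_range_const_tail {M : Type*} [AddCommMonoid M] (F : ℕ → M) (p : ℕ) (hp : 0 < p) (c : M)
    (h : ∀ j, 0 < j → j < p → F j = c) :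
    ∑ j ∈ Finset.range p, F j = F 0 + (p - 1) • c := by
  obtain ⟨q, rfl⟩ : ∃ q, p = q + 1 := ⟨p - 1, by omega⟩
  rw [Finset.sum_range_succ', add_comm]
  congr 1
  rw [Nat.add_sub_cancel]
  rw [Finset.sum_congr rfl (fun j hj => h (j + 1) (by omega)
    (by have := Finset.mem_range.mp hj; omega)), Finset.sum_const, Finset.card_range]

theorem deg_ge_of_invol [IsSimpleGroup G] (hperf : commutator G = ⊤) (p : ℕ) [hp : Fact p.Prime]
    (hp2 : p ≠ 2) (χ : IrrCharacter G) (hχ : (χ : G → ℂ) ≠ fun _ => 1) (a : ℤ) (y k : G)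
    (hy : orderOf y = p) (hk : orderOf k = 2) (hyk : Commute y k)
    (hval : ∀ y' w : G, y' ∈ Subgroup.zpowers y → y' ≠ 1 → Commute y' w → ¬ p ∣ orderOf w →
      (χ : G → ℂ) (y' * w) = (a : ℂ)) :
    2 * p ≤ charDegree (χ : G → ℂ) := by
  classical
  have hpp : p.Prime := hp.out
  have hp3 : 3 ≤ p := by
    have := hpp.two_le
    omega
  have hpodd : ¬ 2 ∣ p := by
    intro h
    rcases (Nat.dvd_prime hpp).mp h with h1 | h1 <;> omega
  set z := y * k with hz
  have hcop : Nat.Coprime (orderOf y) (orderOf k) := by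
    rw [hy, hk]
    exact (Nat.coprime_primes hpp Nat.prime_two).mpr hp2
  have hzo : orderOf z = 2 * p := by
    rw [hz, hyk.orderOf_mul_eq_mul_orderOf_of_coprime hcop, hy, hk, mul_comm]
  have hzpow : ∀ j : ℕ, z ^ j = y ^ j * k ^ j := fun j => hyk.mul_pow j
  -- powers of `y` not divisible by `p` are nontrivial
  have hyj : ∀ j : ℕ, ¬ p ∣ j → y ^ j ≠ 1 := by
    intro j hj h1
    apply hj
    rw [← hy]
    exact orderOf_dvd_of_pow_eq_one h1
  have hkj : ∀ j : ℕ, ¬ p ∣ orderOf (k ^ j) := by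
    intro j hj
    have h1 : orderOf (k ^ j) ∣ 2 := by
      rw [← hk]; exact orderOf_pow_dvd j
    have h2 : p ∣ 2 := dvd_trans hj h1
    have := Nat.le_of_dvd (by norm_num) h2
    omega
  have hvalz : ∀ j : ℕ, ¬ p ∣ j → (χ : G → ℂ) (z ^ j) = (a : ℂ) := by
    intro j hj
    rw [hzpow]
    exact hval (y ^ j) (k ^ j) (Subgroup.pow_mem _ (Subgroup.mem_zpowers y) j) (hyj j hj)
      (hyk.pow_pow j j) (hkj j)
  have hvaly : ∀ j : ℕ, ¬ p ∣ j → (χ : G → ℂ) (y ^ j) = (a : ℂ) := by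
    intro j hj
    have := hval (y ^ j) 1 (Subgroup.pow_mem _ (Subgroup.mem_zpowers y) j) (hyj j hj)
      (Commute.one_right _) (by rw [orderOf_one]; intro h; exact hpp.one_lt.ne' (Nat.dvd_one.mp h))
    rwa [mul_one] at this
  -- the two sums
  obtain ⟨nz, hnz⟩ := sum_zpowers_irr χ z
  obtain ⟨ny, hny⟩ := sum_zpowers_irr χ y
  rw [hzo] at hnz
  rw [hy] at hny
  have hsy : ∑ j ∈ Finset.range p, (χ : G → ℂ) (y ^ j) =
      (χ : G → ℂ) 1 + ((p : ℂ) - 1) * (a : ℂ) := by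
    rw [sum_range_const_tail (fun j => (χ : G → ℂ) (y ^ j)) p hpp.pos (a : ℂ)
      (fun j h0 hj => hvaly j (fun hd => by have := Nat.le_of_dvd h0 hd; omega))]
    simp only [pow_zero, nsmul_eq_mul]
    rw [Nat.cast_sub hpp.one_lt.le, Nat.cast_one]
  have hzp : z ^ p = k := by
    rw [hzpow, ← hy, pow_orderOf_eq_one, one_mul, hy]
    obtain ⟨q, hq⟩ : ∃ q, p = 2 * q + 1 := ⟨p / 2, by omega⟩
    rw [hq, pow_succ, pow_mul, ← hk, pow_orderOf_eq_one, one_pow, one_mul]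
  have hsz : ∑ j ∈ Finset.range (2 * p), (χ : G → ℂ) (z ^ j) =
      (χ : G → ℂ) 1 + (χ : G → ℂ) k + 2 * (((p : ℂ) - 1) * (a : ℂ)) := by
    rw [sum_range_mul_split (fun j => (χ : G → ℂ) (z ^ j)) 2 p, Finset.sum_range_succ,
      Finset.sum_range_one]
    simp only [zero_mul, zero_add, one_mul]
    rw [sum_range_const_tail (fun j => (χ : G → ℂ) (z ^ j)) p hpp.pos (a : ℂ)
      (fun j h0 hj => hvalz j (fun hd => by have := Nat.le_of_dvd h0 hd; omega)),
      sum_range_const_tail (fun j => (χ : G → ℂ) (z ^ (p + j))) p hpp.pos (a : ℂ)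
      (fun j h0 hj => hvalz (p + j) (fun hd => by
        have h1 : p ∣ j := (Nat.dvd_add_right (dvd_refl p)).mp hd
        have := Nat.le_of_dvd h0 h1
        omega))]
    simp only [pow_zero, add_zero, nsmul_eq_mul, hzp]
    rw [Nat.cast_sub hpp.one_lt.le, Nat.cast_one]
    ring
  rw [hsy] at hny
  rw [hsz] at hnz
  -- `χ(1) - χ(k) = 2p (n_y - n_z)`
  have hdiff : (χ : G → ℂ) 1 - (χ : G → ℂ) k = 2 * (p : ℂ) * ((ny : ℂ) - (nz : ℂ)) := by
    have e1 : (χ : G → ℂ) 1 = (p : ℂ) * (ny : ℂ) - ((p : ℂ) - 1) * (a : ℂ) := by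
      rw [← hny]; ring
    have e2 : (χ : G → ℂ) k = ((2 * p : ℕ) : ℂ) * (nz : ℂ) - (χ : G → ℂ) 1 -
        2 * (((p : ℂ) - 1) * (a : ℂ)) := by
      rw [← hnz]; ring
    rw [e2, e1]
    push_cast
    ring
  obtain ⟨j, hj⟩ := Cfsg.Agent.Lib.Helper12.Ord5040.char_invol_mod_four hperf
    (IsIrrCharacter.isCharacter χ.2) k hk
  have h4j : (4 * (j : ℤ) : ℤ) = 2 * (p : ℤ) * ((ny : ℤ) - (nz : ℤ)) := by
    have h1 : (4 * (j : ℂ)) = 2 * (p : ℂ) * ((ny : ℂ) - (nz : ℂ)) := by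
      rw [← hdiff, hj]; ring
    exact_mod_cast h1
  -- `p ∣ j`
  have hpj : (p : ℤ) ∣ (j : ℤ) := by
    have h1 : (p : ℤ) ∣ 2 * (j : ℤ) := ⟨(ny : ℤ) - (nz : ℤ), by linarith⟩
    have hpi : Prime (p : ℤ) := Nat.prime_iff_prime_int.mp hpp
    rcases hpi.dvd_or_dvd h1 with h2 | h2
    · exfalso
      have h3 : p ∣ 2 := by exact_mod_cast h2
      have := Nat.le_of_dvd (by norm_num) h3
      omega
    · exact h2
  have hpj' : p ∣ j := by exact_mod_cast hpj
  obtain ⟨j', rfl⟩ := hpj'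
  -- `j' ≠ 0`
  have hj'0 : j' ≠ 0 := by
    rintro rfl
    rw [mul_zero, Nat.cast_zero, mul_zero, sub_zero] at hj
    have := eq_one_of_apply_eq χ hχ k hj
    rw [this, orderOf_one] at hk
    omega
  -- the norm bound
  have hnorm := Cfsg.Agent.Lib.Helper10.irr_norm_le χ.2 k
  rw [hj, irr_apply_one] at hnorm
  have hre : ((charDegree (χ : G → ℂ) : ℂ) - 4 * ((p * j' : ℕ) : ℂ)) =
      (((charDegree (χ : G → ℂ) : ℝ) - 4 * ((p * j' : ℕ) : ℝ) : ℝ) : ℂ) := by
    push_cast; ring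
  rw [hre, Complex.norm_real, Complex.norm_natCast, Real.norm_eq_abs] at hnorm
  have h5 := (abs_le.mp hnorm).1
  have hj'1 : (1 : ℝ) ≤ (j' : ℝ) := by exact_mod_cast Nat.one_le_iff_ne_zero.mpr hj'0
  have hp0 : (0 : ℝ) < (p : ℝ) := by exact_mod_cast hpp.pos
  have h6 : (2 * p : ℝ) ≤ (charDegree (χ : G → ℂ) : ℝ) := by
    push_cast at h5
    nlinarith
  exact_mod_cast h6

end Cfsg.Agent.Lib.Helper1.BLBound
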