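import Mathlib
import Cfsg.Agent.Lib.Helper1.BLBound

/-!
helper1: the degree bound `χ(1) ≥ 2p` for a nontrivial irreducible character `χ` of a simple group
which is constant on the `p`-singular elements of `⟨y⟩ × ⟨k⟩`, `k` of order `3` commuting with the
element `y` of prime order `p ≠ 3`: the multiplicities of the eigenvalues `ω`, `ω²` of `χ(k)` are
multiples of `p`, and congruent modulo `3` because `det χ(k) = 1`.
-/

set_option autoImplicit false
set_option linter.style.haveILetI false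

namespace Cfsg.Agent.Lib.Helper1.BLBound

open Cfsg Cfsg.Agent.CharLib Cfsg.Agent.Lib.Helper24 Cfsg.Agent.Lib.Helper5.BLFull
  Cfsg.Agent.Lib.Helper6
open scoped ComplexConjugate

universe u

variable {G : Type u} [Group G] [Finite G]

/-- geometric sum of a nontrivial root of unity -/
theorem geom_sum_root (w : ℂ) (n : ℕ) (hw : w ^ n = 1) (hw1 : w ≠ 1) :
    ∑ j ∈ Finset.range n, w ^ j = 0 := by
  have h := geom_sum_mul w n
  rw [hw, sub_self] at h
  rcases mul_eq_zero.mp h with h | h
  · exact h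
  · exact absurd (sub_eq_zero.mp h) hw1

open Classical in
/-- counting the eigenvalues equal to `ξ` by a twisted power sum -/
theorem count_eq {ι : Type*} [Fintype ι] (ν : ι → ℂ) (n : ℕ) (hν : ∀ i, ν i ^ n = 1) (ξ : ℂ)
    (hξ : ξ ^ n = 1) (hξ0 : ξ ≠ 0) :
    ∑ j ∈ Finset.range n, (ξ⁻¹) ^ j * ∑ i, ν i ^ j =
      (n : ℂ) * ((Finset.univ.filter (fun i => ν i = ξ)).card : ℂ) := by
  simp_rw [Finset.mul_sum]
  rw [Finset.sum_comm]
  have key : ∀ i, ∑ j ∈ Finset.range n, (ξ⁻¹) ^ j * ν i ^ j = if ν i = ξ then (n : ℂ) else 0 := by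
    intro i
    have h1 : ∀ j, (ξ⁻¹) ^ j * ν i ^ j = (ξ⁻¹ * ν i) ^ j := fun j => (mul_pow _ _ _).symm
    simp_rw [h1]
    split_ifs with h
    · rw [h, inv_mul_cancel₀ hξ0]
      simp
    · apply geom_sum_root
      · rw [mul_pow, inv_pow, hξ, hν i]
        simp
      · intro h2
        apply h
        have := congrArg (fun t => ξ * t) h2
        simp only [mul_one] at this
        rw [← mul_assoc, mul_inv_cancel₀ hξ0, one_mul] at this
        exact this
  rw [Finset.sum_congr rfl (fun i _ => key i), Finset.sum_ite, Finset.sum_const,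
    Finset.sum_const_zero, add_zero, nsmul_eq_mul, mul_comm]

/-- a sum over `range (q * p)` of a function vanishing off the multiples of `p` -/
theorem sum_range_mul_of_vanish {M : Type*} [AddCommMonoid M] (F : ℕ → M) (q p : ℕ) (hp : 0 < p)
    (h : ∀ j, ¬ p ∣ j → F j = 0) :
    ∑ j ∈ Finset.range (q * p), F j = ∑ t ∈ Finset.range q, F (t * p) := by
  rw [sum_range_mul_split F q p]
  apply Finset.sum_congr rfl
  intro t _
  rw [sum_range_const_tail (fun j => F (t * p + j)) p hp 0]
  · simp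
  · intro j h0 hj
    apply h
    intro hd
    have h1 : p ∣ j := (Nat.dvd_add_right (Dvd.intro_left t rfl)).mp hd
    have := Nat.le_of_dvd h0 h1
    omega

theorem deg_ge_of_order_three [IsSimpleGroup G] (hperf : commutator G = ⊤) (p : ℕ)
    [hp : Fact p.Prime] (hp3 : p ≠ 3) (χ : IrrCharacter G) (hχ : (χ : G → ℂ) ≠ fun _ => 1)
    (a : ℤ) (y k : G) (hy : orderOf y = p) (hk : orderOf k = 3) (hyk : Commute y k)
    (hval : ∀ y' w : G, y' ∈ Subgroup.zpowers y → y' ≠ 1 → Commute y' w → ¬ p ∣ orderOf w →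
      (χ : G → ℂ) (y' * w) = (a : ℂ)) :
    2 * p ≤ charDegree (χ : G → ℂ) := by
  classical
  have hpp : p.Prime := hp.out
  have h3p : ¬ 3 ∣ p := by
    intro h
    rcases (Nat.dvd_prime hpp).mp h with h1 | h1 <;> omega
  set z := y * k with hz
  have hcop : Nat.Coprime (orderOf y) (orderOf k) := by
    rw [hy, hk]
    exact (Nat.coprime_primes hpp Nat.prime_three).mpr hp3
  have hzo : orderOf z = 3 * p := by
    rw [hz, hyk.orderOf_mul_eq_mul_orderOf_of_coprime hcop, hy, hk, mul_comm]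
  have hzpow : ∀ j : ℕ, z ^ j = y ^ j * k ^ j := fun j => hyk.mul_pow j
  have hyj : ∀ j : ℕ, ¬ p ∣ j → y ^ j ≠ 1 := by
    intro j hj h1
    apply hj
    rw [← hy]
    exact orderOf_dvd_of_pow_eq_one h1
  have hkj : ∀ j : ℕ, ¬ p ∣ orderOf (k ^ j) := by
    intro j hj
    have h1 : orderOf (k ^ j) ∣ 3 := by
      rw [← hk]; exact orderOf_pow_dvd j
    have h2 : p ∣ 3 := dvd_trans hj h1
    rcases (Nat.dvd_prime Nat.prime_three).mp h2 with h | h
    · exact hpp.one_lt.ne' h
    · exact hp3 h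
  have hvalz : ∀ j : ℕ, ¬ p ∣ j → (χ : G → ℂ) (z ^ j) = (a : ℂ) := by
    intro j hj
    rw [hzpow]
    exact hval (y ^ j) (k ^ j) (Subgroup.pow_mem _ (Subgroup.mem_zpowers y) j) (hyj j hj)
      (hyk.pow_pow j j) (hkj j)
  -- the representation and the eigenbasis of `z`
  obtain ⟨n, ρ, hρ⟩ := IsIrrCharacter.isCharacter χ.2
  obtain ⟨ι, hι, b, μ, h1, h2, -, -⟩ := exists_eigenbasis ρ z
  rw [hzo] at h1
  have hpow : ∀ (j : ℕ) (i : ι), ρ (z ^ j) (b i) = μ i ^ j • b i := by
    intro j i
    induction j with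
    | zero => simp
    | succ j ih =>
      rw [pow_succ, map_mul, Module.End.mul_apply, h2 i, map_smul, ih, smul_smul, pow_succ,
        mul_comm]
  have hchar : ∀ j : ℕ, (χ : G → ℂ) (z ^ j) = ∑ i, μ i ^ j := by
    intro j
    rw [← hρ]
    exact trace_eq_sum_of_eigenbasis b (ρ (z ^ j)) (fun i => μ i ^ j) (hpow j)
  -- the determinant
  have hdet : LinearMap.det (ρ z) = 1 := by
    have h3 := hom_eq_one_of_perfect hperf (repDetHom ρ) (fun a b => mul_comm _ _) z
    have h4 := repDetHom_apply ρ z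
    rw [h3] at h4
    simpa using h4.symm
  have hmat : LinearMap.toMatrix b b (ρ z) = Matrix.diagonal μ := by
    ext i j
    rw [LinearMap.toMatrix_apply, h2 j, Matrix.diagonal_apply]
    simp only [map_smul, Module.Basis.repr_self, Finsupp.smul_apply, smul_eq_mul,
      Finsupp.single_apply]
    by_cases hij : i = j
    · subst hij; simp
    · rw [if_neg hij, if_neg (Ne.symm hij), mul_zero]
  have hprod : ∏ i, μ i = 1 := by
    rw [← hdet, ← LinearMap.det_toMatrix b, hmat, Matrix.det_diagonal]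
  -- the eigenvalues of `z ^ p`
  set ν : ι → ℂ := fun i => μ i ^ p with hν
  have hν3 : ∀ i, ν i ^ 3 = 1 := by
    intro i
    rw [hν]
    simp only
    rw [← pow_mul, mul_comm, h1 i]
  have hνt : ∀ (t : ℕ) (i : ι), μ i ^ (t * p) = ν i ^ t := by
    intro t i
    rw [hν]
    simp only
    rw [← pow_mul, mul_comm]
  have hprodν : ∏ i, ν i = 1 := by
    rw [hν]
    simp only
    rw [Finset.prod_pow, hprod, one_pow]
  obtain ⟨q, hq⟩ : ∃ q, p * p = 3 * q + 1 := by
    refine ⟨p * p / 3, ?_⟩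
    have h5 : (p * p) % 3 = 1 := by
      have h6 := Nat.mul_mod p p 3
      have h7 : p % 3 = 1 ∨ p % 3 = 2 := by omega
      rcases h7 with h7 | h7 <;> rw [h7] at h6 <;> omega
    omega
  -- multiplicities are multiples of `p`
  have key : ∀ ω' : ℂ, IsPrimitiveRoot ω' 3 →
      (Finset.univ.filter (fun i => ν i = ω')).card =
        p * (Finset.univ.filter (fun i => μ i = ω' ^ p)).card := by
    intro ω' hω'
    have hω'3 : ω' ^ 3 = 1 := hω'.pow_eq_one
    have hω'0 : ω' ≠ 0 := hω'.ne_zero (by norm_num)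
    have hω'1 : ω' ≠ 1 := hω'.ne_one (by norm_num)
    set ξ : ℂ := ω' ^ p with hξ
    have hξ0 : ξ ≠ 0 := pow_ne_zero _ hω'0
    have hξn : ξ ^ (3 * p) = 1 := by
      rw [hξ, ← pow_mul, mul_comm, mul_assoc, pow_mul, hω'3, one_pow]
    have hξp : ξ ^ p = ω' := by
      rw [hξ, ← pow_mul, hq, pow_succ, pow_mul, hω'3, one_pow, one_mul]
    have hξ1 : ξ ≠ 1 := by
      intro h
      rw [h, one_pow] at hξp
      exact hω'1 hξp.symm
    have hξi1 : ξ⁻¹ ≠ 1 := by
      intro h
      exact hξ1 (inv_eq_one.mp h)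
    have hξin : (ξ⁻¹) ^ (3 * p) = 1 := by rw [inv_pow, hξn, inv_one]
    have hωi1 : ω'⁻¹ ≠ 1 := by
      intro h
      exact hω'1 (inv_eq_one.mp h)
    have hωi3 : (ω'⁻¹) ^ 3 = 1 := by rw [inv_pow, hω'3, inv_one]
    have c1 := count_eq ν 3 hν3 ω' hω'3 hω'0
    have c2 := count_eq μ (3 * p) h1 ξ hξn hξ0
    set F : ℕ → ℂ := fun j => (ξ⁻¹) ^ j * (∑ i, μ i ^ j - (a : ℂ)) with hF
    have hF0 : ∀ j, ¬ p ∣ j → F j = 0 := by
      intro j hj
      rw [hF]
      simp only
      rw [← hchar j, hvalz j hj, sub_self, mul_zero]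
    have e1 := sum_range_mul_of_vanish F 3 p hpp.pos hF0
    have e2 : ∑ j ∈ Finset.range (3 * p), F j =
        ((3 * p : ℕ) : ℂ) * ((Finset.univ.filter (fun i => μ i = ξ)).card : ℂ) := by
      rw [← c2, hF]
      simp only [mul_sub]
      rw [Finset.sum_sub_distrib, ← Finset.sum_mul, geom_sum_root _ _ hξin hξi1, zero_mul,
        sub_zero]
    have e3 : ∑ t ∈ Finset.range 3, F (t * p) =
        ((3 : ℕ) : ℂ) * ((Finset.univ.filter (fun i => ν i = ω')).card : ℂ) := by
      rw [← c1, hF]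
      have h8 : ∀ t : ℕ, (ξ⁻¹) ^ (t * p) = (ω'⁻¹) ^ t := by
        intro t
        rw [mul_comm, pow_mul, inv_pow, hξp]
      simp only [h8, hνt, mul_sub]
      rw [Finset.sum_sub_distrib, ← Finset.sum_mul, geom_sum_root _ _ hωi3 hωi1, zero_mul,
        sub_zero]
    rw [e2, e3] at e1
    have e4 : (((3 * p) * (Finset.univ.filter (fun i => μ i = ξ)).card : ℕ) : ℂ) =
        ((3 * (Finset.univ.filter (fun i => ν i = ω')).card : ℕ) : ℂ) := by
      push_cast
      push_cast at e1
      exact e1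
    have e5 : (3 * p) * (Finset.univ.filter (fun i => μ i = ξ)).card =
        3 * (Finset.univ.filter (fun i => ν i = ω')).card := by exact_mod_cast e4
    rw [mul_assoc] at e5
    omega
  -- a primitive cube root of unity
  obtain ⟨ω, hω⟩ : ∃ ω : ℂ, IsPrimitiveRoot ω 3 := ⟨_, Complex.isPrimitiveRoot_exp 3 (by norm_num)⟩
  have hω2 : IsPrimitiveRoot (ω ^ 2) 3 := hω.pow_of_coprime 2 (by norm_num)
  have k1 := key ω hω
  have k2 := key (ω ^ 2) hω2
  set m₁ := (Finset.univ.filter (fun i => ν i = ω)).card with hm₁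
  set m₂ := (Finset.univ.filter (fun i => ν i = ω ^ 2)).card with hm₂
  set N₁ := (Finset.univ.filter (fun i => μ i = ω ^ p)).card with hN₁
  set N₂ := (Finset.univ.filter (fun i => μ i = (ω ^ 2) ^ p)).card with hN₂
  -- exponents
  have hex : ∀ i, ∃ s : ℕ, s < 3 ∧ ω ^ s = ν i := fun i => hω.eq_pow_of_pow_eq_one (hν3 i)
  choose s hs3 hsν using hex
  have hs1 : ∀ i, ν i = ω ↔ s i = 1 := by
    intro i
    rw [← hsν i]
    constructor
    · intro h
      exact hω.pow_inj (hs3 i) (by norm_num) (h.trans (pow_one ω).symm)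
    · intro h
      rw [h, pow_one]
  have hs2 : ∀ i, ν i = ω ^ 2 ↔ s i = 2 := by
    intro i
    rw [← hsν i]
    constructor
    · intro h
      exact hω.pow_inj (hs3 i) (by norm_num) h
    · intro h
      rw [h]
  have hm₁' : m₁ = (Finset.univ.filter (fun i => s i = 1)).card := by
    rw [hm₁]
    congr 1
    ext i
    simp only [Finset.mem_filter, Finset.mem_univ, true_and]
    exact hs1 i
  have hm₂' : m₂ = (Finset.univ.filter (fun i => s i = 2)).card := by
    rw [hm₂]
    congr 1
    ext i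
    simp only [Finset.mem_filter, Finset.mem_univ, true_and]
    exact hs2 i
  have hsum : ∑ i, s i = m₁ + 2 * m₂ := by
    rw [hm₁', hm₂', Finset.card_filter, Finset.card_filter, Finset.mul_sum,
      ← Finset.sum_add_distrib]
    apply Finset.sum_congr rfl
    intro i _
    have := hs3 i
    interval_cases (s i) <;> simp
  have h3dvd : 3 ∣ m₁ + 2 * m₂ := by
    rw [← hsum]
    apply (hω.pow_eq_one_iff_dvd _).mp
    rw [← Finset.prod_pow_eq_pow_sum]
    rw [← hprodν]
    apply Finset.prod_congr rfl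
    intro i _
    exact hsν i
  -- the degree
  have hcard : charDegree (χ : G → ℂ) = Fintype.card ι := by
    have h9 := hchar 0
    rw [pow_zero, irr_apply_one] at h9
    simp only [pow_zero, Finset.sum_const, Finset.card_univ, nsmul_eq_mul, mul_one] at h9
    exact_mod_cast h9
  have hle : m₁ + m₂ ≤ Fintype.card ι := by
    rw [hm₁', hm₂', ← Finset.card_union_of_disjoint, ← Finset.card_univ]
    · exact Finset.card_le_card (Finset.subset_univ _)
    · rw [Finset.disjoint_filter]
      intro i _ h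
      omega
  -- conclusion
  have h3N : 3 ∣ N₁ + 2 * N₂ := by
    have h10 : 3 ∣ p * (N₁ + 2 * N₂) := by
      have : p * (N₁ + 2 * N₂) = m₁ + 2 * m₂ := by rw [k1, k2]; ring
      rw [this]; exact h3dvd
    have hc3 : Nat.Coprime 3 p := (Nat.coprime_primes Nat.prime_three hpp).mpr (Ne.symm hp3)
    exact hc3.dvd_of_dvd_mul_left h10
  have hN0 : N₁ + N₂ ≠ 0 := by
    intro h0
    have hN₁0 : N₁ = 0 := by omega
    have hN₂0 : N₂ = 0 := by omega
    have hm₁0 : m₁ = 0 := by rw [k1, hN₁0, mul_zero]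
    have hm₂0 : m₂ = 0 := by rw [k2, hN₂0, mul_zero]
    have hall : ∀ i, ν i = 1 := by
      intro i
      have hne1 : s i ≠ 1 := by
        intro h
        have : i ∈ Finset.univ.filter (fun i => s i = 1) := by simp [h]
        rw [hm₁', Finset.card_eq_zero] at hm₁0
        rw [hm₁0] at this
        exact Finset.notMem_empty _ this
      have hne2 : s i ≠ 2 := by
        intro h
        have : i ∈ Finset.univ.filter (fun i => s i = 2) := by simp [h]
        rw [hm₂', Finset.card_eq_zero] at hm₂0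
        rw [hm₂0] at this
        exact Finset.notMem_empty _ this
      have hs0 : s i = 0 := by
        have := hs3 i
        omega
      rw [← hsν i, hs0, pow_zero]
    have h11 : (χ : G → ℂ) (z ^ p) = (χ : G → ℂ) 1 := by
      have h12 := hchar (1 * p)
      rw [one_mul] at h12
      rw [h12, irr_apply_one, hcard]
      have : ∀ i, μ i ^ p = 1 := hall
      simp [this]
    have h13 := eq_one_of_apply_eq χ hχ (z ^ p) h11
    have h14 := orderOf_dvd_of_pow_eq_one h13
    rw [hzo] at h14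
    have := Nat.le_of_dvd hpp.pos h14
    have := hpp.pos
    omega
  have hN2 : 2 ≤ N₁ + N₂ := by
    by_contra hlt
    have h1' : N₁ + N₂ = 1 := by omega
    omega
  rw [hcard]
  calc 2 * p = p * 2 := mul_comm _ _
    _ ≤ p * (N₁ + N₂) := Nat.mul_le_mul_left p hN2
    _ = m₁ + m₂ := by rw [k1, k2]; ring
    _ ≤ Fintype.card ι := hle

end Cfsg.Agent.Lib.Helper1.BLBound
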