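import Mathlib
import Cfsg.Agent.Lib.Helper5.BLFullB

/-!
helper1: the principal `p`-block for a Sylow subgroup `P` of prime order `p` with
`|N_G(P) : C_G(P)| = p - 1` (no hypothesis on `C_G(P)`): all of `P#` is fused, every irreducible
character is integral on `P#`, and the degree equation `1 + ∑ c_χ χ(1) = 0`, `∑ c_χ² = p - 1`.
-/

set_option autoImplicit false
set_option linter.style.haveILetI false
set_option linter.unusedSectionVars false

namespace Cfsg.Agent.Lib.Helper1.BLPm1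

open Cfsg Cfsg.Agent.CharLib Cfsg.Agent.Lib.Helper24 Cfsg.Agent.Lib.Helper6
open Cfsg.Agent.Lib.Helper12.BSF Cfsg.Agent.Lib.Helper5.BLFull
open scoped ComplexConjugate

universe u

variable {G : Type u} [Group G] [Finite G]

/-- A Sylow subgroup of prime order satisfies the Brauer–Leonard hypothesis. -/
theorem blfrob_of_card_prime (p : ℕ) [hp : Fact p.Prime] (P : Sylow p G)
    (hP : Nat.card (P : Subgroup G) = p) : BLFrob P := by
  intro y hy hy1
  have hCleN : Subgroup.centralizer ((P : Subgroup G) : Set G) ≤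
      Subgroup.normalizer ((P : Subgroup G) : Set G) := Subgroup.centralizer_le_normalizer _
  apply le_antisymm
  · intro g hg
    have hgy : g ∈ Subgroup.centralizer ({y} : Set G) := hg.1
    rw [Subgroup.mem_centralizer_singleton_iff] at hgy
    rw [Subgroup.mem_centralizer_iff]
    intro h hh
    have hz := le_zpowers_of_card_prime p (P : Subgroup G) hP y hy hy1 hh
    obtain ⟨k, rfl⟩ := Subgroup.mem_zpowers_iff.mp hz
    have hc : Commute g y := hgy
    exact ((hc.zpow_right k).eq).symm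
  · apply le_inf _ hCleN
    intro g hg
    rw [Subgroup.mem_centralizer_singleton_iff]
    rw [Subgroup.mem_centralizer_iff] at hg
    exact (hg y hy).symm

/-- If `|N_G(P) : C_G(P)| = p - 1` then all nonidentity elements of `P` are conjugate. -/
theorem isConj_of_relIndex (p : ℕ) [hp : Fact p.Prime] (P : Sylow p G)
    (hP : Nat.card (P : Subgroup G) = p)
    (hCN : (Subgroup.centralizer ((P : Subgroup G) : Set G)).relIndex
      (Subgroup.normalizer ((P : Subgroup G) : Set G)) = p - 1)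
    (x y : G) (hx : x ∈ (P : Subgroup G)) (hx1 : x ≠ 1) (hy : y ∈ (P : Subgroup G))
    (hy1 : y ≠ 1) : IsConj x y := by
  classical
  have hpp : p.Prime := hp.out
  have hcyc0 : IsCyclic ↥(P : Subgroup G) := isCyclic_of_prime_card hP
  have hab : IsMulCommutative P := IsCyclic.isMulCommutative
  have hfrob := blfrob_of_card_prime p P hP
  have hcyc := exists_cyc_of_card_prime p (P : Subgroup G) hP
  have hp2 := hpp.two_le
  obtain ⟨β, hfree, -, hdictK⟩ := exists_freeAut P hab (p - 1) (by omega) hCN hcyc hfrob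
  letI : Fintype ↥(P : Subgroup G) := Fintype.ofFinite _
  set x' : ↥(P : Subgroup G) := ⟨x, hx⟩ with hx'
  have hx'1 : x' ≠ 1 := fun h => hx1 (congrArg Subtype.val h)
  let f : Fin (p - 1) → {u : ↥(P : Subgroup G) // u ≠ 1} := fun k =>
    ⟨(β ^ (k : ℕ)) x', fun h => hx'1 ((β ^ (k : ℕ)).injective (h.trans (map_one _).symm))⟩
  have hinj : Function.Injective f := by
    intro j k hjk
    have h1 : (β ^ (j : ℕ)) x' = (β ^ (k : ℕ)) x' := congrArg Subtype.val hjk
    exact Fin.ext (hfree.pow_unique x' hx'1 j k j.2 k.2 h1)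
  have hcard : Fintype.card (Fin (p - 1)) = Fintype.card {u : ↥(P : Subgroup G) // u ≠ 1} := by
    rw [Fintype.card_fin, Fintype.card_subtype_compl, Fintype.card_subtype_eq,
      ← Nat.card_eq_fintype_card, hP]
  have hsurj := ((Fintype.bijective_iff_injective_and_card f).mpr ⟨hinj, hcard⟩).2
  obtain ⟨k, hk⟩ := hsurj ⟨⟨y, hy⟩, fun h => hy1 (congrArg Subtype.val h)⟩
  obtain ⟨n, -, hn⟩ := hdictK (k : ℕ)
  have h1 : (β ^ (k : ℕ)) x' = ⟨y, hy⟩ := congrArg Subtype.val hk
  have h2 := hn x'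
  rw [h1] at h2
  exact isConj_iff.mpr ⟨n, h2.symm⟩

/-- If `|N_G(P) : C_G(P)| = p - 1` then every irreducible character is integral on `P#`. -/
theorem int_value (p : ℕ) [hp : Fact p.Prime] (P : Sylow p G)
    (hP : Nat.card (P : Subgroup G) = p)
    (hCN : (Subgroup.centralizer ((P : Subgroup G) : Set G)).relIndex
      (Subgroup.normalizer ((P : Subgroup G) : Set G)) = p - 1)
    (y : G) (hy : y ∈ (P : Subgroup G)) (hy1 : y ≠ 1) (χ : IrrCharacter G) :
    ∃ c : ℤ, (χ : G → ℂ) y = c ∧ (p : ℤ) ∣ (charDegree (χ : G → ℂ) : ℤ) - c := by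
  classical
  have hpp : p.Prime := hp.out
  have hp2 := hpp.two_le
  letI : Fintype ↥(P : Subgroup G) := Fintype.ofFinite _
  have hd := irr_apply_one χ
  have hχ := IsIrrCharacter.isCharacter χ.2
  have hcl : IsClassFunction G (χ : G → ℂ) := IsCharacter.isClassFunction hχ
  have s1 := sum_subgroup_of_conj (P : Subgroup G) (χ : G → ℂ) hcl y
    (fun x hx hx1 => isConj_of_relIndex p P hP hCN x y hx hx1 hy hy1)
  obtain ⟨a, ha⟩ := exists_nat_sum_subgroup (P : Subgroup G) hχ
  rw [ha, hP, hd] at s1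
  have hp1 : ((p : ℂ) - 1) ≠ 0 := by
    intro h
    have h' : (p : ℂ) = 1 := by linear_combination h
    have h'' : p = 1 := by exact_mod_cast h'
    omega
  have hp1q : ((p : ℚ) - 1) ≠ 0 := by
    intro h
    have h' : (p : ℚ) = 1 := by linarith
    have h'' : p = 1 := by exact_mod_cast h'
    omega
  have hq : (χ : G → ℂ) y =
      ((((p : ℚ) * (a : ℚ) - (charDegree (χ : G → ℂ) : ℚ)) / ((p : ℚ) - 1) : ℚ) : ℂ) := by
    push_cast
    rw [eq_div_iff hp1]
    linear_combination (-1 : ℂ) * s1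
  obtain ⟨v, hv⟩ : ∃ v : ℤ, (χ : G → ℂ) y = (v : ℂ) := by
    have hint : IsIntegral ℤ ((χ : G → ℂ) y) := irr_isIntegral χ y
    rw [hq] at hint
    have h2 : IsIntegral ℤ (((p : ℚ) * (a : ℚ) - (charDegree (χ : G → ℂ) : ℚ)) / ((p : ℚ) - 1) : ℚ) :=
      (isIntegral_algebraMap_iff (algebraMap ℚ ℂ).injective (R := ℤ)
        (x := (((p : ℚ) * (a : ℚ) - (charDegree (χ : G → ℂ) : ℚ)) / ((p : ℚ) - 1) : ℚ))).mp hint
    obtain ⟨k, hk⟩ := IsIntegrallyClosed.isIntegral_iff.mp h2
    refine ⟨k, ?_⟩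
    rw [hq, ← hk]
    simp
  refine ⟨v, hv, ?_⟩
  rw [hv] at s1
  have hrel : (charDegree (χ : G → ℂ) : ℤ) + ((p : ℤ) - 1) * v = (p : ℤ) * a := by
    have h3 : (((charDegree (χ : G → ℂ) : ℤ) + ((p : ℤ) - 1) * v : ℤ) : ℂ) =
        (((p : ℤ) * a : ℤ) : ℂ) := by
      push_cast
      linear_combination (-1 : ℂ) * s1
    exact_mod_cast h3
  exact ⟨(a : ℤ) - v, by linarith⟩

/-- **Degree equation for `|N_G(P) : C_G(P)| = p - 1`**: the nontrivial characters `χ` of the
principal block have nonzero integer values `c χ` on the `p`-sections of `P#`, with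
`∑ (c χ)² = p - 1` and `1 + ∑ c χ · χ(1) = 0`. -/
theorem core_pm1 (p : ℕ) [hp : Fact p.Prime] (P : Sylow p G)
    (hP : Nat.card (P : Subgroup G) = p)
    (hCN : (Subgroup.centralizer ((P : Subgroup G) : Set G)).relIndex
      (Subgroup.normalizer ((P : Subgroup G) : Set G)) = p - 1) :
    ∃ (X : Finset (IrrCharacter G)) (c : IrrCharacter G → ℤ),
      (∀ χ ∈ X, (χ : G → ℂ) ≠ fun _ => 1) ∧ (∀ χ ∈ X, c χ ≠ 0) ∧
      ∑ χ ∈ X, c χ ^ 2 = (p : ℤ) - 1 ∧
      (∀ χ ∈ X, (p : ℤ) ∣ (charDegree (χ : G → ℂ) : ℤ) - c χ) ∧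
      1 + ∑ χ ∈ X, c χ * (charDegree (χ : G → ℂ) : ℤ) = 0 ∧
      (∀ χ ∈ X, ∀ y w : G, y ∈ (P : Subgroup G) → y ≠ 1 → Commute y w → ¬ p ∣ orderOf w →
        (χ : G → ℂ) (y * w) = (c χ : ℂ)) := by
  classical
  have hpp : p.Prime := hp.out
  obtain ⟨M, hM⟩ := exists_isPModular p
  have hcyc0 : IsCyclic ↥(P : Subgroup G) := isCyclic_of_prime_card hP
  have hab : IsMulCommutative P := IsCyclic.isMulCommutative
  have hfrob := blfrob_of_card_prime p P hP
  have hnt : Nontrivial ↥(P : Subgroup G) := by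
    haveI : Finite ↥(P : Subgroup G) := inferInstance
    rw [← Finite.one_lt_card_iff_nontrivial, hP]
    exact hpp.one_lt
  obtain ⟨y₀, hy₀⟩ := exists_ne (1 : ↥(P : Subgroup G))
  have hy₀1 : (y₀ : G) ≠ 1 := fun h => hy₀ (Subtype.ext h)
  choose c hc hcong using fun χ : IrrCharacter G => int_value p P hP hCN (y₀ : G) y₀.2 hy₀1 χ
  have hreg1 : ¬ p ∣ orderOf (1 : G) := by
    rw [orderOf_one]; exact fun h => hpp.one_lt.ne' (Nat.dvd_one.mp h)
  -- values on `P#`
  have hvalP : ∀ (χ : IrrCharacter G) (y : G), y ∈ (P : Subgroup G) → y ≠ 1 →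
      (χ : G → ℂ) y = (c χ : ℂ) := by
    intro χ y hy hy1
    have hcl : IsClassFunction G (χ : G → ℂ) :=
      IsCharacter.isClassFunction (IsIrrCharacter.isCharacter χ.2)
    rw [apply_eq_of_isConj hcl (isConj_of_relIndex p P hP hCN y (y₀ : G) hy hy1 y₀.2 hy₀1), hc χ]
  -- the principal block as a finset
  have hBfin : (principalBlock M G).Finite := Set.toFinite _
  set BF : Finset (IrrCharacter G) := hBfin.toFinset with hBF
  have hmemBF : ∀ χ, χ ∈ BF ↔ χ ∈ principalBlock M G := fun χ => Set.Finite.mem_toFinset hBfin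
  have htriv : CharLib.trivIrr G ∈ BF := (hmemBF _).mpr (CharLib.trivIrr_mem_principalBlock hM)
  have hc1 : c (CharLib.trivIrr G) = 1 := by
    have h1 := hc (CharLib.trivIrr G)
    have h2 : ((CharLib.trivIrr G : IrrCharacter G) : G → ℂ) (y₀ : G) = 1 := rfl
    rw [h2] at h1
    have h3 : ((c (CharLib.trivIrr G) : ℤ) : ℂ) = ((1 : ℤ) : ℂ) := by rw [← h1]; simp
    exact_mod_cast h3
  have hd1 : charDegree ((CharLib.trivIrr G : IrrCharacter G) : G → ℂ) = 1 := by
    have h := irr_apply_one (CharLib.trivIrr G)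
    have h1 : ((CharLib.trivIrr G : IrrCharacter G) : G → ℂ) 1 = 1 := rfl
    rw [h1] at h
    exact_mod_cast h.symm
  -- the norm equation
  have hsq := hfrob.sum_sq hM hab (y₀ : G) y₀.2 hy₀1
  rw [finsum_mem_eq_finite_toFinset_sum _ hBfin, hP] at hsq
  have hsq' : ∑ χ ∈ BF, c χ ^ 2 = (p : ℤ) := by
    have h1 : ((∑ χ ∈ BF, c χ ^ 2 : ℤ) : ℂ) = ((p : ℤ) : ℂ) := by
      push_cast
      rw [← hsq]
      apply Finset.sum_congr rfl
      intro χ _
      rw [hc χ, map_intCast]
      ring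
    exact_mod_cast h1
  -- the degree equation
  have hdeg := BLFrob.column_orthogonality_regular hM P (y₀ : G) 1 y₀.2 hy₀1 hreg1
  rw [finsum_mem_eq_finite_toFinset_sum _ hBfin] at hdeg
  have hdeg' : ∑ χ ∈ BF, c χ * (charDegree (χ : G → ℂ) : ℤ) = 0 := by
    have h1 : ((∑ χ ∈ BF, c χ * (charDegree (χ : G → ℂ) : ℤ) : ℤ) : ℂ) = ((0 : ℤ) : ℂ) := by
      push_cast
      rw [← hdeg]
      apply Finset.sum_congr rfl
      intro χ _
      rw [hc χ, map_intCast, irr_apply_one]
      ring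
    exact_mod_cast h1
  rw [← Finset.add_sum_erase BF _ htriv, hc1] at hsq' hdeg'
  rw [hd1] at hdeg'
  refine ⟨BF.erase (CharLib.trivIrr G), c, ?_, ?_, ?_, ?_, ?_, ?_⟩
  · intro χ hχ hχ1
    apply Finset.ne_of_mem_erase hχ
    apply Subtype.ext
    rw [hχ1]
    rfl
  · intro χ hχ h0
    have hmem := (hmemBF χ).mp (Finset.mem_of_mem_erase hχ)
    have h1 := apply_ne_zero_of_mem_principalBlock_sylow hM P hab χ hmem (y₀ : G) y₀.2
    rw [hc χ, h0] at h1
    exact h1 (by simp)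
  · linarith
  · intro χ _
    exact hcong χ
  · push_cast at hdeg'
    linarith
  · intro χ hχ y w hy hy1 hyw hw
    have hmem := (hmemBF χ).mp (Finset.mem_of_mem_erase hχ)
    rw [← hvalP χ y hy hy1]
    refine hfrob.apply_section hM hab χ hmem (y * w) y ?_ hy hy1
    refine ⟨w, rfl, hyw, ⟨1, ?_⟩, hw⟩
    rw [pow_one]
    exact orderOf_eq_of_card_prime p (P : Subgroup G) hP y hy hy1

end Cfsg.Agent.Lib.Helper1.BLPm1
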