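/-
helper1: auxiliary facts for the BRC leaves (S0999 + S4701, helper24's market): `cN` as a complex number,
the decomposition of `χ|_N` and of `Ind_N^G β` with the multiplicities `cN`.
-/
import Mathlib
import Cfsg.Prelude.Def_BlockRank
import Cfsg.Agent.Lib.Helper24.BRCDefs
import Cfsg.Agent.Lib.Lead.CharInd
import Cfsg.Agent.Lib.Lead.CharDecomp
import Cfsg.Agent.Lib.Lead.CharEquiv
import Cfsg.Agent.Lib.Lead.CharMain
import Cfsg.Agent.Lib.Helper6.CharExtra

set_option autoImplicit false
set_option linter.unusedSectionVars false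
set_option linter.unusedVariables false

namespace Cfsg.Agent.Lib.Helper1.BRCAux

open Cfsg Cfsg.Agent.Lib.Helper8.DOM Cfsg.Agent.Lib.Helper27.DO Cfsg.Agent.CharLib
open Cfsg.Agent.Lib.Helper6.BRH Cfsg.Agent.Lib.Helper24.BRC
open scoped ComplexConjugate

universe u

variable {G : Type u} [Group G] [Finite G]

/-- `mult` is `classInner` of the restriction. -/
theorem mult_eq_classInner (H : Subgroup G) [Fintype H] (f : G → ℂ) (φ : H → ℂ) :
    mult H f φ = classInner (fun h : H => f (h : G)) φ := by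
  unfold mult classInner
  rw [finsum_eq_sum_of_fintype]

/-- the multiplicity `⟨χ|_H, β⟩` of a character in a restricted character is a natural number -/
theorem exists_mult_nat (H : Subgroup G) {χ : G → ℂ} (hχ : IsCharacter G χ) {β : H → ℂ}
    (hβ : IsCharacter H β) : ∃ k : ℕ, mult H χ β = (k : ℂ) := by
  classical
  let _ : Fintype H := Fintype.ofFinite _
  rw [mult_eq_classInner]
  exact IsCharacter.classInner_nat (IsCharacter.restrict hχ H) hβ

/-- `cN` as a complex number -/
theorem cN_cast (P : Subgroup G) (χ : IrrCharacter G) (β : IrrCharacter (Nz P)) :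
    (cN P χ β : ℂ) = mult (Nz P) (χ : G → ℂ) (β : Nz P → ℂ) := by
  obtain ⟨k, hk⟩ := exists_mult_nat (Nz P) (IsIrrCharacter.isCharacter χ.2)
    (IsIrrCharacter.isCharacter β.2)
  unfold cN
  rw [hk]
  simp

/-- `χ|_N = ∑_γ cN χ γ · γ` -/
theorem restrict_eq_sum (P : Subgroup G) (χ : IrrCharacter G) (y : Nz P) :
    (χ : G → ℂ) y = ∑ᶠ γ : IrrCharacter (Nz P), (cN P χ γ : ℂ) * (γ : Nz P → ℂ) y := by
  classical
  let _ : Fintype (Nz P) := Fintype.ofFinite _
  let _ : Fintype (IrrCharacter (Nz P)) := Fintype.ofFinite _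
  obtain ⟨m, hm, hcoef⟩ := Cfsg.Agent.Lib.Helper6.IsCharacter.exists_decomp_sum
    (IsCharacter.restrict (IsIrrCharacter.isCharacter χ.2) (Nz P))
  rw [finsum_eq_sum_of_fintype]
  have h1 := congrFun hm y
  rw [Finset.sum_apply] at h1
  rw [h1]
  apply Finset.sum_congr rfl
  intro γ _
  rw [Pi.smul_apply, nsmul_eq_mul, cN_cast, mult_eq_classInner, hcoef]

/-- `Ind_N^G β = ∑_χ cN χ β · χ` -/
theorem indFun_eq_sum [Fintype G] (P : Subgroup G) (β : IrrCharacter (Nz P)) (g : G) :
    indFun (Nz P) (β : Nz P → ℂ) g = ∑ᶠ χ : IrrCharacter G, (cN P χ β : ℂ) * (χ : G → ℂ) g := by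
  classical
  let _ : Fintype (Nz P) := Fintype.ofFinite _
  let _ : Fintype (IrrCharacter G) := Fintype.ofFinite _
  have hcf := indFun_isClassFunction (Nz P) (β : Nz P → ℂ)
  have h1 := congrFun (classFunction_eq_sum hcf) g
  rw [finsum_eq_sum_of_fintype, h1]
  simp only [Finset.sum_apply, Pi.smul_apply, smul_eq_mul]
  apply Finset.sum_congr rfl
  intro χ _
  congr 1
  rw [frobenius_reciprocity (Nz P) (β : Nz P → ℂ)
    (IsCharacter.isClassFunction (IsIrrCharacter.isCharacter χ.2)), cN_cast, mult_eq_classInner,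
    ← classInner_conj_symm]
  obtain ⟨k, hk⟩ := IsCharacter.classInner_nat
    (IsCharacter.restrict (IsIrrCharacter.isCharacter χ.2) (Nz P)) (IsIrrCharacter.isCharacter β.2)
  rw [hk]
  simp

/-- a sum over a subgroup `B`, restricted to the elements of a smaller subgroup `A` -/
theorem sum_ite_mem_eq_finsum_mem (A B : Subgroup G) (hAB : A ≤ B) [Fintype B] (F : G → ℂ)
    [DecidablePred (· ∈ A)] :
    ∑ y : B, (if (y : G) ∈ A then F y else 0) = ∑ᶠ x ∈ (A : Set G), F x := by
  classical
  have h1 : ∑ y : B, (if (y : G) ∈ A then F y else 0) =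
      ∑ᶠ z ∈ (B : Set G), (if z ∈ A then F z else 0) := by
    rw [← finsum_set_coe_eq_finsum_mem]
    exact (finsum_eq_sum_of_fintype (fun y : B => if (y : G) ∈ A then F y else 0)).symm
  rw [h1, finsum_mem_def, finsum_mem_def]
  congr 1
  funext z
  by_cases hz : z ∈ A
  · have hzB : z ∈ B := hAB hz
    rw [Set.indicator_of_mem (show z ∈ (B : Set G) from hzB),
      Set.indicator_of_mem (show z ∈ (A : Set G) from hz), if_pos hz]
  · by_cases hzB : z ∈ B
    · rw [Set.indicator_of_mem (show z ∈ (B : Set G) from hzB),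
        Set.indicator_of_notMem (show z ∉ (A : Set G) from hz), if_neg hz]
    · rw [Set.indicator_of_notMem (show z ∉ (B : Set G) from hzB),
        Set.indicator_of_notMem (show z ∉ (A : Set G) from hz)]

end Cfsg.Agent.Lib.Helper1.BRCAux
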