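/-
helper1: BRC-OWN (S0999 + S4701, helper24's market): a type A character owns the linear characters of `N / P` it contains.
-/
import Mathlib
import Cfsg.Prelude.Def_BlockRank
import Cfsg.Prelude.Def_Perm
import Cfsg.Agent.Lib.Helper24.BRCDefs

set_option autoImplicit false
set_option linter.unusedSectionVars false
set_option linter.unusedVariables false

namespace Cfsg.Agent.Lib.Helper1.BRCOWN

open Cfsg Cfsg.Agent.Lib.Helper8.DOM Cfsg.Agent.Lib.Helper27.DO Cfsg.Agent.CharLib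
open Cfsg.Agent.Lib.Helper6.BRH Cfsg.Agent.Lib.Helper24.BRC
open scoped ComplexConjugate

universe u

variable {G : Type u} [Group G] [Finite G] {p : ℕ} [Fact p.Prime]

variable {P : Subgroup G} {n w : ℕ} {X Y : Set (IrrCharacter G)} {v : IrrCharacter G → ℤ} {ε : ℤ}

/-- **BRC-OWN**.  `cN η β ≥ 1` and `η(1) = 1 + n p = ∑_χ cN χ β · χ(1)` (`hA.deg_cN`). -/
theorem own (hS : Special p P n w X Y v ε) (hL : LinData P) (hA : StepA p P n w X Y v ε) :
    ∀ η ∈ typeA X v, ∀ β ∈ Lin P, cN P η β ≠ 0 →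
      cN P η β = 1 ∧ ∀ χ : IrrCharacter G, χ ≠ η → cN P χ β = 0 := by
  classical
  intro η hη β hβ hne
  let _ : Fintype (IrrCharacter G) := Fintype.ofFinite _
  have hdeg := hA.deg_cN β hβ
  rw [finsum_eq_sum_of_fintype] at hdeg
  obtain ⟨hηX, hη1, hηv⟩ := hη
  have hηdeg : charDegree (η : G → ℂ) = 1 + n * p := by
    rcases hS.typ η hηX hη1 with ⟨_, h⟩ | ⟨h, _⟩
    · exact h
    · rw [hηv] at h; norm_num at h
  rw [← Finset.add_sum_erase _ _ (Finset.mem_univ η), hηdeg] at hdeg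
  have hpos : 0 < 1 + n * p := by omega
  have hge : 1 ≤ cN P η β := Nat.one_le_iff_ne_zero.mpr hne
  have hle : cN P η β * (1 + n * p) ≤ 1 * (1 + n * p) := by omega
  have hle1 : cN P η β ≤ 1 := Nat.le_of_mul_le_mul_right hle hpos
  have h1 : cN P η β = 1 := by omega
  refine ⟨h1, ?_⟩
  rw [h1, one_mul] at hdeg
  have hzero : ∑ χ ∈ Finset.univ.erase η, cN P χ β * charDegree (χ : G → ℂ) = 0 := by omega
  intro χ hχ
  have hmem : χ ∈ Finset.univ.erase η := Finset.mem_erase.mpr ⟨hχ, Finset.mem_univ _⟩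
  have h2 := (Finset.sum_eq_zero_iff.mp hzero) χ hmem
  have hdpos := Cfsg.Agent.Lib.Helper6.BRH.charDegree_pos χ
  rcases Nat.mul_eq_zero.mp h2 with h | h
  · exact h
  · omega

end Cfsg.Agent.Lib.Helper1.BRCOWN
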