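/-
helper1: BRC-RESN (S0999 + S4701, helper24's market): `χ|_N = ∑_γ ⟨χ|_N, γ⟩ γ`, and the `γ ∉ Lin P` vanish off `P`.
-/
import Mathlib
import Cfsg.Prelude.Def_BlockRank
import Cfsg.Prelude.Def_Perm
import Cfsg.Agent.Lib.Helper24.BRCDefs
import Cfsg.Agent.Lib.Helper1.BRCAux

set_option autoImplicit false
set_option linter.unusedSectionVars false
set_option linter.unusedVariables false

namespace Cfsg.Agent.Lib.Helper1.BRCRESN

open Cfsg Cfsg.Agent.Lib.Helper8.DOM Cfsg.Agent.Lib.Helper27.DO Cfsg.Agent.CharLib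
open Cfsg.Agent.Lib.Helper6.BRH Cfsg.Agent.Lib.Helper24.BRC
open Cfsg.Agent.Lib.Helper1.BRCAux
open scoped ComplexConjugate

universe u

variable {G : Type u} [Group G] [Finite G] {p : ℕ} [Fact p.Prime]

/-- **BRC-RESN**.  `χ|_N = ∑_γ ⟨χ|_N, γ⟩ γ`, and the `γ ∉ Lin P` vanish off `P`. -/
theorem resN (P : Subgroup G)
    (hvan : ∀ γ : IrrCharacter (Nz P), γ ∉ Lin P → ∀ y : Nz P, (y : G) ∉ P → (γ : Nz P → ℂ) y = 0) :
    ∀ χ : IrrCharacter G, ∀ y : Nz P, (y : G) ∉ P →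
      (χ : G → ℂ) y = ∑ᶠ β ∈ Lin P, (cN P χ β : ℂ) * (β : Nz P → ℂ) y := by
  intro χ y hy
  rw [restrict_eq_sum P χ y]
  rw [← finsum_mem_univ]
  apply finsum_mem_inter_support_eq'
  intro γ hγ
  refine ⟨fun _ => ?_, fun _ => Set.mem_univ _⟩
  by_contra hγL
  apply hγ
  rw [hvan γ hγL y hy, mul_zero]

end Cfsg.Agent.Lib.Helper1.BRCRESN
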