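/-
helper1: BRC-SUMCN (S0999 + S4701, helper24's market): `∑_β ⟨χ|_N, β⟩ = ⟨χ|_P, 1_P⟩`.
-/
import Mathlib
import Cfsg.Prelude.Def_BlockRank
import Cfsg.Prelude.Def_Perm
import Cfsg.Agent.Lib.Helper24.BRCDefs
import Cfsg.Agent.Lib.Helper1.BRCAux

set_option autoImplicit false
set_option linter.unusedSectionVars false
set_option linter.unusedVariables false

namespace Cfsg.Agent.Lib.Helper1.BRCSUMCN

open Cfsg Cfsg.Agent.Lib.Helper8.DOM Cfsg.Agent.Lib.Helper27.DO Cfsg.Agent.CharLib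
open Cfsg.Agent.Lib.Helper6.BRH Cfsg.Agent.Lib.Helper24.BRC
open Cfsg.Agent.Lib.Helper1.BRCAux
open scoped ComplexConjugate

universe u

variable {G : Type u} [Group G] [Finite G] {p : ℕ} [Fact p.Prime]

/-- `|N| = f · |P|` when `C_G(P) = P` -/
theorem card_Nz_eq (P : Subgroup G) (hC : Cz P = P) : Nat.card (Nz P) = Nat.card P * fI P := by
  have hPN : P ≤ Nz P := Subgroup.le_normalizer
  have h := Subgroup.relIndex_mul_relIndex (⊥ : Subgroup G) P (Nz P) bot_le hPN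
  rw [Subgroup.relIndex_bot_left, Subgroup.relIndex_bot_left] at h
  unfold fI
  rw [hC, h]

variable {P : Subgroup G} {n w : ℕ} {X Y : Set (IrrCharacter G)} {v : IrrCharacter G → ℤ} {ε : ℤ}

/-- **BRC-SUMCN**.  `∑_β ⟨χ|_N, β⟩ = ⟨χ|_P, 1_P⟩` (`|N| = p f`; `∑_β conj β(y) = f [y ∈ P]`). -/
theorem sum_cN (hS : Special p P n w X Y v ε) (hL : LinData P) (χ : IrrCharacter G) :
    ∑ᶠ β ∈ Lin P, cN P χ β = aP P χ := by
  classical
  let _ : Fintype G := Fintype.ofFinite _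
  let _ : Fintype (Nz P) := Fintype.ofFinite _
  have hfin : (Lin P).Finite := Set.toFinite _
  have hPN : P ≤ Nz P := Subgroup.le_normalizer
  have hcard := card_Nz_eq P hS.hC
  have hPne : (Nat.card P : ℂ) ≠ 0 := by exact_mod_cast (Nat.card_pos (α := P)).ne'
  have hfne : (fI P : ℂ) ≠ 0 := by
    have : 2 ≤ fI P := hS.hf2
    exact_mod_cast (by omega : fI P ≠ 0)
  have key : ((∑ᶠ β ∈ Lin P, cN P χ β : ℕ) : ℂ) =
      (Nat.card P : ℂ)⁻¹ * ∑ᶠ x ∈ (P : Set G), (χ : G → ℂ) x := by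
    rw [finsum_mem_eq_finite_toFinset_sum _ hfin, Nat.cast_sum]
    have h0 : ∀ β ∈ hfin.toFinset, (cN P χ β : ℂ) =
        (Nat.card (Nz P) : ℂ)⁻¹ * ∑ y : Nz P, (χ : G → ℂ) y * conj ((β : Nz P → ℂ) y) := by
      intro β _
      rw [cN_cast]
      unfold mult
      rw [finsum_eq_sum_of_fintype]
    rw [Finset.sum_congr rfl h0, ← Finset.mul_sum, Finset.sum_comm]
    have h1 : ∀ y : Nz P, ∑ β ∈ hfin.toFinset, (χ : G → ℂ) y * conj ((β : Nz P → ℂ) y) =
        (if (y : G) ∈ P then (fI P : ℂ) * (χ : G → ℂ) y else 0) := by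
      intro y
      rw [← Finset.mul_sum, ← map_sum, ← finsum_mem_eq_finite_toFinset_sum _ hfin]
      by_cases hy : (y : G) ∈ P
      · rw [hL.sum_mem y hy, if_pos hy, Complex.conj_natCast, mul_comm]
      · rw [hL.sum_not_mem y hy, if_neg hy, map_zero, mul_zero]
    rw [Finset.sum_congr rfl (fun y _ => h1 y),
      sum_ite_mem_eq_finsum_mem P (Nz P) hPN (fun z => (fI P : ℂ) * (χ : G → ℂ) z),
      ← mul_finsum_mem (fun z => (χ : G → ℂ) z) (fI P : ℂ), hcard, Nat.cast_mul]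
    field_simp
  unfold aP
  rw [← key, Complex.natCast_re, Nat.floor_natCast]

end Cfsg.Agent.Lib.Helper1.BRCSUMCN
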