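/-
helper1: BRC-VALCN (S0999 + S4701, helper24's market): `(Ind_N^G β)(x) = 1` for `x ∈ P#`.
-/
import Mathlib
import Cfsg.Prelude.Def_BlockRank
import Cfsg.Prelude.Def_Perm
import Cfsg.Agent.Lib.Helper24.BRCDefs
import Cfsg.Agent.Lib.Helper1.BRCAux

set_option autoImplicit false
set_option linter.unusedSectionVars false
set_option linter.unusedVariables false

namespace Cfsg.Agent.Lib.Helper1.BRCVALCN

open Cfsg Cfsg.Agent.Lib.Helper8.DOM Cfsg.Agent.Lib.Helper27.DO Cfsg.Agent.CharLib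
open Cfsg.Agent.Lib.Helper6.BRH Cfsg.Agent.Lib.Helper24.BRC
open Cfsg.Agent.Lib.Helper1.BRCAux
open scoped ComplexConjugate

universe u

variable {G : Type u} [Group G] [Finite G] {p : ℕ} [Fact p.Prime]

/-- a `p`-element of `N_G(P)` lies in the Sylow `p`-subgroup `P` -/
theorem mem_of_pow_eq_one (P : Subgroup G) (hSyl : ¬ p ∣ P.index) (y : G) (hyN : y ∈ Nz P)
    (hyp : y ^ p = 1) : y ∈ P := by
  have hp : p.Prime := Fact.out
  have hPN : P ≤ Nz P := Subgroup.le_normalizer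
  have hnorm : (P.subgroupOf (Nz P)).Normal := Subgroup.normal_in_normalizer
  set q : Nz P ⧸ P.subgroupOf (Nz P) := QuotientGroup.mk' (P.subgroupOf (Nz P)) ⟨y, hyN⟩ with hq
  have h1 : q ^ p = 1 := by
    rw [hq, ← map_pow]
    have : (⟨y, hyN⟩ : Nz P) ^ p = 1 := by
      apply Subtype.ext
      simpa using hyp
    rw [this, map_one]
  have h2 : q ^ (P.relIndex (Nz P)) = 1 := by
    have : P.relIndex (Nz P) = Nat.card (Nz P ⧸ P.subgroupOf (Nz P)) := rfl
    rw [this]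
    exact pow_card_eq_one'
  have hcop : Nat.Coprime p (P.relIndex (Nz P)) := by
    rw [Nat.Prime.coprime_iff_not_dvd hp]
    intro hdvd
    exact hSyl (hdvd.trans (Subgroup.relIndex_dvd_index_of_le hPN))
  have h3 : q = 1 := by
    have := pow_gcd_eq_one.mpr ⟨h1, h2⟩
    rwa [hcop, pow_one] at this
  have h4 : (⟨y, hyN⟩ : Nz P) ∈ P.subgroupOf (Nz P) := (QuotientGroup.eq_one_iff _).mp h3
  exact Subgroup.mem_subgroupOf.mp h4

/-- if a conjugate of `x ∈ P#` lies in `N_G(P)` then the conjugating element lies in `N_G(P)` -/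
theorem mem_Nz_of_conj_mem (P : Subgroup G) (hP : Nat.card P = p) (hSyl : ¬ p ∣ P.index) (x : G)
    (hx : x ∈ P) (hx1 : x ≠ 1) (g : G) (hg : g⁻¹ * x * g ∈ Nz P) : g ∈ Nz P := by
  have hp : p.Prime := Fact.out
  have hxp : x ^ p = 1 := by
    have : (⟨x, hx⟩ : P) ^ Nat.card P = 1 := pow_card_eq_one'
    rw [hP] at this
    simpa using congrArg Subtype.val this
  have hyp : (g⁻¹ * x * g) ^ p = 1 := by
    have : (g⁻¹ * x * g) ^ p = g⁻¹ * x ^ p * g := by
      have := conj_pow (a := g⁻¹) (b := x) (i := p)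
      simpa using this
    rw [this, hxp]; group
  have hyP : g⁻¹ * x * g ∈ P := mem_of_pow_eq_one P hSyl _ hg hyp
  -- `P = ⟨x⟩`
  have hgen : ∀ z ∈ P, ∃ k : ℕ, z = x ^ k := by
    intro z hz
    have hx1' : (⟨x, hx⟩ : P) ≠ 1 := by
      intro h; exact hx1 (by simpa using congrArg Subtype.val h)
    have hcard : Nat.card P = p := hP
    have htop : Subgroup.zpowers (⟨x, hx⟩ : P) = ⊤ := by
      have : Fact (Nat.card P).Prime := ⟨hP ▸ hp⟩
      exact zpowers_eq_top_of_prime_card (by rfl) hx1'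
    have hmem : (⟨z, hz⟩ : P) ∈ Subgroup.zpowers (⟨x, hx⟩ : P) := by rw [htop]; trivial
    obtain ⟨k, hk⟩ := (mem_powers_iff_mem_zpowers.mpr hmem)
    refine ⟨k, ?_⟩
    have := congrArg Subtype.val hk
    simpa using this.symm
  -- `g⁻¹ P g ≤ P`, so `g⁻¹ ∈ N`
  have hginv : g⁻¹ ∈ Nz P := by
    apply Subgroup.mem_normalizer_fintype
    intro z hz
    obtain ⟨k, rfl⟩ := hgen z hz
    have : g⁻¹ * x ^ k * g⁻¹⁻¹ = (g⁻¹ * x * g) ^ k := by
      have := conj_pow (a := g⁻¹) (b := x) (i := k)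
      simpa using this.symm
    rw [this]
    exact pow_mem hyP k
  simpa using (Nz P).inv_mem hginv

variable {P : Subgroup G} {n w : ℕ} {X Y : Set (IrrCharacter G)} {v : IrrCharacter G → ℤ} {ε : ℤ}

/-- **BRC-VALCN**.  `(Ind_N^G β)(x) = 1` for `x ∈ P#`: `g⁻¹ x g ∈ N` forces `g⁻¹ x g ∈ P` (the only subgroup of order `p` of `N`),
so `g ∈ N` (`P = ⟨x⟩`); hence `(Ind β)(x) = |N|⁻¹ ∑_{g ∈ N} β(g⁻¹ x g) = 1`. -/
theorem val_cN (hS : Special p P n w X Y v ε) :
    ∀ β ∈ Lin P, ∀ x ∈ P, x ≠ 1 → ∑ᶠ χ : IrrCharacter G, (cN P χ β : ℂ) * (χ : G → ℂ) x = 1 := by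
  classical
  intro β hβ x hx hx1
  let _ : Fintype G := Fintype.ofFinite _
  rw [← indFun_eq_sum P β x, Cfsg.Agent.Lib.Helper6.indFun_apply]
  have hPN : P ≤ Nz P := Subgroup.le_normalizer
  have h1 : ∀ g : G, extendByZero (Nz P) (β : Nz P → ℂ) (g⁻¹ * x * g) = if g ∈ Nz P then 1 else 0 := by
    intro g
    by_cases hg : g ∈ Nz P
    · rw [if_pos hg]
      have hmem : g⁻¹ * x * g ∈ P := by
        have := (Subgroup.mem_normalizer_iff''.mp hg x).mp hx
        simpa using this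
      rw [Cfsg.Agent.Lib.Helper6.extendByZero_mem (Nz P) _ (hPN hmem)]
      exact hβ ⟨g⁻¹ * x * g, hPN hmem⟩ hmem
    · rw [if_neg hg]
      apply Cfsg.Agent.Lib.Helper6.extendByZero_not_mem
      intro hmem
      exact hg (mem_Nz_of_conj_mem P hS.hP hS.hSyl x hx hx1 g hmem)
  rw [Finset.sum_congr rfl (fun g _ => h1 g), Finset.sum_boole]
  have h2 : (Finset.univ.filter (fun g : G => g ∈ Nz P)).card = Nat.card (Nz P) := by
    rw [← Fintype.card_subtype, Nat.card_eq_fintype_card]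
  rw [h2]
  have hne : (Nat.card (Nz P) : ℂ) ≠ 0 := by exact_mod_cast (Nat.card_pos (α := Nz P)).ne'
  field_simp

end Cfsg.Agent.Lib.Helper1.BRCVALCN
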