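import Mathlib
import Cfsg.Prelude.Def_BlockRank
import Cfsg.Agent.Lib.Helper27.DODefs
import Cfsg.Agent.Lib.Helper10.AbelianRestrict
import Cfsg.Agent.Lib.Helper16.BREZCHAR

/-!
helper1: S4504 (Brauer, degree `(p-1)/2`), step (V): the `p`-regular elements of `C_G(P)` are central.

Tool (`coset_sum_eq_zero`, `coset_sum_eq_of_multFree`): for characters `φ, φ'` of `G`, a commutative subgroup `P`
and `y` centralizing `P`, the sums `∑_{x ∈ P} φ(xy) conj φ'(xy)` are governed by the common `P`-constituents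
of `φ`, `φ'` (restriction to the abelian group `⟨P, y⟩`):
* if `∑_{x ∈ P} φ(x) conj φ'(x) = 0` then `∑_{x ∈ P} φ(xy) conj φ'(xy) = 0`;
* if `∑_{x ∈ P} |φ(x)|² = |P| φ(1)` (`φ|_P` multiplicity free) then `∑_{x ∈ P} |φ(xy)|² = |P| φ(1)`.

Consequences (`central_of_self`, `central_of_pair`): if `ψ` is faithful irreducible and `Λ = ψ conj φ`
(`φ = ψ`, resp. `φ = ψ` on the `p`-regular elements and `ψ|_P`, `φ|_P` disjoint) satisfies `Λ(xy) = Λ(x)` for
`1 ≠ x ∈ P`, `y ∈ C(P)` `p`-regular, then `|ψ(y)| = ψ(1)` and `y` is central.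
-/

set_option autoImplicit false

namespace Cfsg.Agent.Lib.Helper1.BRV

open Cfsg Cfsg.Agent.CharLib Cfsg.Agent.Lib.Helper27.DO
open scoped ComplexConjugate

universe u

variable {G : Type u} [Group G] [Finite G]

/-- an abelian subgroup containing a commutative subgroup `P` and an element `y` centralizing it -/
theorem exists_abelian_envelope (P : Subgroup G) (hPc : ∀ a ∈ P, ∀ b ∈ P, a * b = b * a) (y : G)
    (hy : ∀ x ∈ P, x * y = y * x) :
    ∃ A : Subgroup G, P ≤ A ∧ y ∈ A ∧ ∀ a b : A, a * b = b * a := by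
  have hS : ∀ a ∈ ((P : Set G) ∪ {y}), ∀ b ∈ ((P : Set G) ∪ {y}), a * b = b * a := by
    intro a ha b hb
    rcases ha with ha | ha <;> rcases hb with hb | hb
    · exact hPc a ha b hb
    · rw [Set.mem_singleton_iff] at hb
      subst hb
      exact hy a ha
    · rw [Set.mem_singleton_iff] at ha
      subst ha
      exact (hy b hb).symm
    · rw [Set.mem_singleton_iff] at ha hb
      subst ha
      subst hb
      rfl
  refine ⟨Subgroup.closure ((P : Set G) ∪ {y}), ?_, ?_, ?_⟩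
  · intro x hx
    exact Subgroup.subset_closure (Or.inl hx)
  · exact Subgroup.subset_closure (Or.inr rfl)
  · intro a b
    exact (Subgroup.isMulCommutative_closure hS).is_comm.comm a b

section abelian

variable {A : Type u} [Group A] [Finite A] (hcomm : ∀ a b : A, a * b = b * a)

include hcomm in
theorem irr_mul_conj (μ : IrrCharacter A) (a : A) : (μ : A → ℂ) a * conj ((μ : A → ℂ) a) = 1 := by
  rw [← Cfsg.Agent.CharLib.IsCharacter.apply_inv (Cfsg.Agent.CharLib.IsIrrCharacter.isCharacter μ.2), ← Cfsg.Agent.Lib.Helper10.irr_mul_of_comm hcomm μ.2,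
    mul_inv_cancel, Cfsg.Agent.Lib.Helper10.irr_one_of_comm hcomm μ.2]

/-- the `P`-pairing of two linear characters -/
noncomputable def spair (Q : Subgroup A) (μ μ' : IrrCharacter A) : ℕ := by
  classical
  exact if ∀ x : Q, (μ : A → ℂ) x = (μ' : A → ℂ) x then Nat.card Q else 0

include hcomm in
theorem sum_pair (Q : Subgroup A) [Fintype Q] (μ μ' : IrrCharacter A) :
    ∑ x : Q, (μ : A → ℂ) x * conj ((μ' : A → ℂ) x) = (spair Q μ μ' : ℂ) := by
  classical
  unfold spair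
  by_cases h : ∀ x : Q, (μ : A → ℂ) x = (μ' : A → ℂ) x
  · rw [if_pos h]
    have : ∀ x : Q, (μ : A → ℂ) x * conj ((μ' : A → ℂ) x) = 1 := by
      intro x
      rw [h x]
      exact irr_mul_conj hcomm μ' x
    rw [Finset.sum_congr rfl (fun x _ => this x), Finset.sum_const, Finset.card_univ, nsmul_eq_mul, mul_one,
      Nat.card_eq_fintype_card]
  · rw [if_neg h, Nat.cast_zero]
    push Not at h
    obtain ⟨x0, hx0⟩ := h
    set ν : Q → ℂ := fun x => (μ : A → ℂ) x * conj ((μ' : A → ℂ) x) with hν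
    have hmul : ∀ a b : Q, ν (a * b) = ν a * ν b := by
      intro a b
      simp only [hν, Subgroup.coe_mul]
      rw [Cfsg.Agent.Lib.Helper10.irr_mul_of_comm hcomm μ.2, Cfsg.Agent.Lib.Helper10.irr_mul_of_comm hcomm μ'.2,
        map_mul]
      ring
    have hne : ν x0 ≠ 1 := by
      intro h1
      apply hx0
      have h2 := irr_mul_conj hcomm μ' x0
      have h3 : (μ : A → ℂ) x0 * conj ((μ' : A → ℂ) x0) = 1 := h1
      have h4 : conj ((μ' : A → ℂ) x0) ≠ 0 := by
        intro h0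
        rw [h0, mul_zero] at h2
        exact zero_ne_one h2
      exact mul_right_cancel₀ h4 (h3.trans h2.symm)
    have hshift : ∑ x : Q, ν (x0 * x) = ∑ x : Q, ν x :=
      Fintype.sum_equiv (Equiv.mulLeft x0) _ _ (fun _ => rfl)
    have h5 : ν x0 * ∑ x : Q, ν x = ∑ x : Q, ν x := by
      rw [Finset.mul_sum, ← hshift]
      exact Finset.sum_congr rfl (fun x _ => (hmul x0 x).symm)
    have h6 : (ν x0 - 1) * ∑ x : Q, ν x = 0 := by rw [sub_mul, h5, one_mul, sub_self]
    rcases mul_eq_zero.mp h6 with h7 | h7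
    · exact absurd (sub_eq_zero.mp h7) hne
    · exact h7

theorem spair_self (Q : Subgroup A) (μ : IrrCharacter A) : spair Q μ μ = Nat.card Q := by
  classical
  unfold spair
  rw [if_pos (fun _ => rfl)]

end abelian

section main

/-- the double sum formula on a coset `P y`, inside an abelian subgroup `A ⊇ P ∪ {y}`, for two functions that
are combinations of linear characters on `A` -/
theorem coset_sum_aux (φ φ' : G → ℂ) (P : Subgroup G) [Fintype P] (y : G) (A : Subgroup G) (hPA : P ≤ A)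
    (hyA : y ∈ A) (hcomm : ∀ a b : A, a * b = b * a) [Fintype (IrrCharacter A)] (m m' : IrrCharacter A → ℕ)
    (hval : ∀ a : A, φ a = ∑ μ : IrrCharacter A, (m μ : ℂ) * (μ : A → ℂ) a)
    (hval' : ∀ a : A, φ' a = ∑ μ : IrrCharacter A, (m' μ : ℂ) * (μ : A → ℂ) a) :
    ∃ (s : IrrCharacter A → IrrCharacter A → ℕ) (c : IrrCharacter A → ℂ),
      (∀ i, s i i = Nat.card P) ∧ (∀ i, c i * conj (c i) = 1) ∧
      φ 1 = ∑ i, (m i : ℂ) ∧
      (∑ x : P, φ x * conj (φ' x) = ∑ i, ∑ j, ((m i * m' j * s i j : ℕ) : ℂ)) ∧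
      (∑ x : P, φ (x * y) * conj (φ' (x * y)) =
        ∑ i, ∑ j, ((m i * m' j * s i j : ℕ) : ℂ) * (c i * conj (c j))) := by
  classical
  let Q : Subgroup A := P.subgroupOf A
  let e : P ≃ Q := (Subgroup.subgroupOfEquivOfLe hPA).symm.toEquiv
  have he : ∀ x : P, ((e x : A) : G) = (x : G) := fun x => rfl
  letI : Fintype Q := Fintype.ofEquiv P e
  have hcardQ : Nat.card Q = Nat.card P := (Nat.card_congr e).symm
  refine ⟨fun μ μ' => spair Q μ μ', fun μ => (μ : A → ℂ) ⟨y, hyA⟩, ?_, ?_, ?_, ?_, ?_⟩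
  · intro μ
    show spair Q μ μ = _
    rw [spair_self, hcardQ]
  · intro μ
    exact irr_mul_conj hcomm μ _
  · have := hval 1
    rw [Subgroup.coe_one] at this
    rw [this]
    apply Finset.sum_congr rfl
    intro μ _
    rw [Cfsg.Agent.Lib.Helper10.irr_one_of_comm hcomm μ.2, mul_one]
  · -- the sum over `P`
    have h1 : ∀ x : P, φ x * conj (φ' x) =
        ∑ μ : IrrCharacter A, ∑ μ' : IrrCharacter A, ((m μ : ℂ) * (m' μ' : ℂ)) *
          ((μ : A → ℂ) (e x) * conj ((μ' : A → ℂ) (e x))) := by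
      intro x
      have hx1 := hval (e x)
      have hx2 := hval' (e x)
      rw [he x] at hx1 hx2
      rw [hx1, hx2, map_sum, Finset.sum_mul_sum]
      apply Finset.sum_congr rfl
      intro μ _
      apply Finset.sum_congr rfl
      intro μ' _
      rw [map_mul, Complex.conj_natCast]
      ring
    rw [Finset.sum_congr rfl (fun x _ => h1 x), Finset.sum_comm]
    apply Finset.sum_congr rfl
    intro μ _
    rw [Finset.sum_comm]
    apply Finset.sum_congr rfl
    intro μ' _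
    rw [← Finset.mul_sum]
    have h2 : ∑ x : P, (μ : A → ℂ) (e x) * conj ((μ' : A → ℂ) (e x)) =
        ∑ x : Q, (μ : A → ℂ) x * conj ((μ' : A → ℂ) x) :=
      Fintype.sum_equiv e _ _ (fun _ => rfl)
    rw [h2, sum_pair hcomm Q μ μ']
    push_cast
    ring
  · have h1 : ∀ x : P, φ (x * y) * conj (φ' (x * y)) =
        ∑ μ : IrrCharacter A, ∑ μ' : IrrCharacter A, ((m μ : ℂ) * (m' μ' : ℂ)) *
          ((μ : A → ℂ) ⟨y, hyA⟩ * conj ((μ' : A → ℂ) ⟨y, hyA⟩)) *
          ((μ : A → ℂ) (e x) * conj ((μ' : A → ℂ) (e x))) := by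
      intro x
      have hx1 := hval ((e x : A) * ⟨y, hyA⟩)
      have hx2 := hval' ((e x : A) * ⟨y, hyA⟩)
      rw [Subgroup.coe_mul, he x] at hx1 hx2
      rw [hx1, hx2, map_sum, Finset.sum_mul_sum]
      apply Finset.sum_congr rfl
      intro μ _
      apply Finset.sum_congr rfl
      intro μ' _
      rw [map_mul, Complex.conj_natCast, Cfsg.Agent.Lib.Helper10.irr_mul_of_comm hcomm μ.2,
        Cfsg.Agent.Lib.Helper10.irr_mul_of_comm hcomm μ'.2, map_mul]
      ring
    rw [Finset.sum_congr rfl (fun x _ => h1 x), Finset.sum_comm]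
    apply Finset.sum_congr rfl
    intro μ _
    rw [Finset.sum_comm]
    apply Finset.sum_congr rfl
    intro μ' _
    rw [← Finset.mul_sum]
    have h2 : ∑ x : P, (μ : A → ℂ) (e x) * conj ((μ' : A → ℂ) (e x)) =
        ∑ x : Q, (μ : A → ℂ) x * conj ((μ' : A → ℂ) x) :=
      Fintype.sum_equiv e _ _ (fun _ => rfl)
    rw [h2, sum_pair hcomm Q μ μ']
    push_cast
    ring

/-- the values of a character on an abelian subgroup -/
theorem exists_mult (φ : G → ℂ) (hφ : IsCharacter G φ) (A : Subgroup G) [Fintype (IrrCharacter A)] :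
    ∃ m : IrrCharacter A → ℕ, ∀ a : A, φ a = ∑ μ : IrrCharacter A, (m μ : ℂ) * (μ : A → ℂ) a := by
  obtain ⟨m, hm⟩ := IsCharacter.exists_decomp (IsCharacter.restrict hφ A)
  rw [finsum_eq_sum_of_fintype] at hm
  refine ⟨m, fun a => ?_⟩
  have := congrFun hm a
  simpa [Finset.sum_apply, nsmul_eq_mul] using this

/-- (L1) : disjointness on `P` passes to the cosets `P y`, `y` centralizing `P` -/
theorem coset_sum_eq_zero (φ φ' : G → ℂ) (hφ : IsCharacter G φ) (hφ' : IsCharacter G φ') (P : Subgroup G)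
    [Fintype P] (hPc : ∀ a ∈ P, ∀ b ∈ P, a * b = b * a) (y : G) (hy : ∀ x ∈ P, x * y = y * x)
    (h0 : ∑ x : P, φ x * conj (φ' x) = 0) : ∑ x : P, φ (x * y) * conj (φ' (x * y)) = 0 := by
  classical
  obtain ⟨A, hPA, hyA, hcomm⟩ := exists_abelian_envelope P hPc y hy
  letI := fintypeIrr A
  obtain ⟨m, hval⟩ := exists_mult φ hφ A
  obtain ⟨m', hval'⟩ := exists_mult φ' hφ' A
  obtain ⟨s, c, -, -, -, hsum, hcos⟩ := coset_sum_aux φ φ' P y A hPA hyA hcomm m m' hval hval'
  rw [hsum] at h0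
  have h1 : (∑ i, ∑ j, m i * m' j * s i j : ℕ) = 0 := by
    have : ((∑ i, ∑ j, m i * m' j * s i j : ℕ) : ℂ) = 0 := by
      rw [← h0]
      push_cast
      rfl
    exact_mod_cast this
  have h2 : ∀ i j, m i * m' j * s i j = 0 := by
    intro i j
    have h3 := (Finset.sum_eq_zero_iff.mp h1) i (Finset.mem_univ i)
    exact (Finset.sum_eq_zero_iff.mp h3) j (Finset.mem_univ j)
  rw [hcos]
  apply Finset.sum_eq_zero
  intro i _
  apply Finset.sum_eq_zero
  intro j _
  rw [h2 i j, Nat.cast_zero, zero_mul]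

/-- (L2) : multiplicity freeness on `P` gives the norm on the cosets `P y`, `y` centralizing `P` -/
theorem coset_sum_eq_of_multFree (φ : G → ℂ) (hφ : IsCharacter G φ) (P : Subgroup G)
    [Fintype P] (hPc : ∀ a ∈ P, ∀ b ∈ P, a * b = b * a) (y : G) (hy : ∀ x ∈ P, x * y = y * x)
    (h0 : ∑ x : P, φ x * conj (φ x) = (Nat.card P : ℂ) * φ 1) :
    ∑ x : P, φ (x * y) * conj (φ (x * y)) = (Nat.card P : ℂ) * φ 1 := by
  classical
  obtain ⟨A, hPA, hyA, hcomm⟩ := exists_abelian_envelope P hPc y hy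
  letI := fintypeIrr A
  obtain ⟨m, hval⟩ := exists_mult φ hφ A
  obtain ⟨s, c, hs, hc, hone, hsum, hcos⟩ := coset_sum_aux φ φ P y A hPA hyA hcomm m m hval hval
  rw [hsum, hone] at h0
  have h1 : (∑ i, ∑ j, m i * m j * s i j : ℕ) = ∑ i, Nat.card P * m i := by
    have : ((∑ i, ∑ j, m i * m j * s i j : ℕ) : ℂ) = ((∑ i, Nat.card P * m i : ℕ) : ℂ) := by
      push_cast
      rw [← Finset.mul_sum]
      push_cast at h0
      exact h0
    exact_mod_cast this
  have hdiag : ∀ i, Nat.card P * m i ≤ m i * m i * s i i := by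
    intro i
    rw [hs i]
    rcases Nat.eq_zero_or_pos (m i) with h | h
    · simp [h]
    · calc Nat.card P * m i = m i * 1 * Nat.card P := by ring
        _ ≤ m i * m i * Nat.card P := by gcongr; exact h
  have hrow : ∀ i, m i * m i * s i i ≤ ∑ j, m i * m j * s i j := fun i =>
    Finset.single_le_sum (f := fun j => m i * m j * s i j) (fun _ _ => Nat.zero_le _) (Finset.mem_univ i)
  have h2 : ∀ i, ∑ j, m i * m j * s i j = Nat.card P * m i := by
    have := (Finset.sum_eq_sum_iff_of_le (s := Finset.univ) (f := fun i => Nat.card P * m i)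
      (g := fun i => ∑ j, m i * m j * s i j) (fun i _ => (hdiag i).trans (hrow i))).mp h1.symm
    intro i
    exact (this i (Finset.mem_univ i)).symm
  have h3 : ∀ i, m i * m i * s i i = Nat.card P * m i :=
    fun i => le_antisymm ((hrow i).trans (h2 i).le) (hdiag i)
  have h4 : ∀ i j, j ≠ i → m i * m j * s i j = 0 := by
    intro i j hji
    have h5 : ∑ j ∈ Finset.univ.erase i, m i * m j * s i j = 0 := by
      have := Finset.add_sum_erase Finset.univ (fun j => m i * m j * s i j) (Finset.mem_univ i)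
      rw [h2 i] at this
      have h6 : m i * m i * s i i + ∑ j ∈ Finset.univ.erase i, m i * m j * s i j = Nat.card P * m i := this
      rw [h3 i] at h6
      omega
    exact (Finset.sum_eq_zero_iff.mp h5) j (Finset.mem_erase.mpr ⟨hji, Finset.mem_univ j⟩)
  rw [hcos, hone, Finset.mul_sum]
  apply Finset.sum_congr rfl
  intro i _
  rw [Finset.sum_eq_single i]
  · rw [hc i, mul_one, h3 i]
    push_cast
    ring
  · intro j _ hji
    rw [h4 i j hji, Nat.cast_zero, zero_mul]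
  · intro h
    exact absurd (Finset.mem_univ i) h

end main

section central

variable {p : ℕ} [Fact p.Prime]

omit [Finite G] in
theorem comm_of_card_prime (P : Subgroup G) (hP : Nat.card P = p) : ∀ a ∈ P, ∀ b ∈ P, a * b = b * a := by
  intro a ha b hb
  haveI : IsCyclic P := isCyclic_of_prime_card hP
  have h := (IsCyclic.commGroup (α := P)).mul_comm ⟨a, ha⟩ ⟨b, hb⟩
  exact congrArg Subtype.val h

omit [Finite G] in
theorem finsum_mem_subgroup_eq_sum (P : Subgroup G) [Fintype P] (F : G → ℂ) :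
    ∑ᶠ x ∈ (P : Set G), F x = ∑ x : P, F x := by
  rw [← finsum_set_coe_eq_finsum_mem]
  exact finsum_eq_sum_of_fintype (fun x : P => F x)

/-- the common end of `central_of_self` and `central_of_pair` -/
theorem central_of_coset_eq (P : Subgroup G) [Fintype P] (ψ φ : IrrCharacter G)
    (hfaith : ∀ g : G, (ψ : G → ℂ) g = (ψ : G → ℂ) 1 → g = 1)
    (hreg : ∀ g : G, ¬ p ∣ orderOf g → (φ : G → ℂ) g = (ψ : G → ℂ) g) (y : G) (hyreg : ¬ p ∣ orderOf y)
    (hcos : ∑ x : P, (ψ : G → ℂ) (x * y) * conj ((φ : G → ℂ) (x * y)) =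
      ∑ x : P, (ψ : G → ℂ) x * conj ((φ : G → ℂ) x))
    (hsec : ∀ x ∈ P, x ≠ 1 → (ψ : G → ℂ) (x * y) * conj ((φ : G → ℂ) (x * y)) =
      (ψ : G → ℂ) x * conj ((φ : G → ℂ) x)) : y ∈ Subgroup.center G := by
  classical
  have hp : p.Prime := Fact.out
  have h1 := Finset.add_sum_erase Finset.univ
    (fun x : P => (ψ : G → ℂ) (x * y) * conj ((φ : G → ℂ) (x * y))) (Finset.mem_univ (1 : P))
  have h2 := Finset.add_sum_erase Finset.univ
    (fun x : P => (ψ : G → ℂ) x * conj ((φ : G → ℂ) x)) (Finset.mem_univ (1 : P))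
  have h3 : ∑ x ∈ Finset.univ.erase (1 : P), (ψ : G → ℂ) (x * y) * conj ((φ : G → ℂ) (x * y)) =
      ∑ x ∈ Finset.univ.erase (1 : P), (ψ : G → ℂ) x * conj ((φ : G → ℂ) x) := by
    apply Finset.sum_congr rfl
    intro x hx
    have hx1 : x ≠ 1 := (Finset.mem_erase.mp hx).1
    exact hsec x x.2 (fun h => hx1 (Subtype.ext h))
  simp only [Subgroup.coe_one, one_mul] at h1 h2
  have h4 : (ψ : G → ℂ) y * conj ((φ : G → ℂ) y) = (ψ : G → ℂ) 1 * conj ((φ : G → ℂ) 1) := by
    have : (ψ : G → ℂ) y * conj ((φ : G → ℂ) y) +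
        ∑ x ∈ Finset.univ.erase (1 : P), (ψ : G → ℂ) x * conj ((φ : G → ℂ) x) =
        (ψ : G → ℂ) 1 * conj ((φ : G → ℂ) 1) +
        ∑ x ∈ Finset.univ.erase (1 : P), (ψ : G → ℂ) x * conj ((φ : G → ℂ) x) := by
      rw [← h3, h1, hcos, ← h2, h3]
    exact add_right_cancel this
  have h1reg : ¬ p ∣ orderOf (1 : G) := by
    rw [orderOf_one]
    exact hp.one_lt.ne' ∘ Nat.dvd_one.mp
  rw [hreg y hyreg, hreg 1 h1reg, Cfsg.Agent.Lib.Helper24.irr_apply_one ψ, Complex.conj_natCast,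
    Complex.mul_conj, Complex.normSq_eq_norm_sq] at h4
  have h5 : ‖(ψ : G → ℂ) y‖ ^ 2 = (charDegree (ψ : G → ℂ) : ℝ) ^ 2 := by
    have : ((‖(ψ : G → ℂ) y‖ ^ 2 : ℝ) : ℂ) = (((charDegree (ψ : G → ℂ) : ℝ) ^ 2 : ℝ) : ℂ) := by
      rw [h4]
      push_cast
      ring
    exact_mod_cast this
  have h6 : ‖(ψ : G → ℂ) y‖ = (charDegree (ψ : G → ℂ) : ℝ) :=
    (sq_eq_sq₀ (norm_nonneg _) (Nat.cast_nonneg _)).mp h5
  exact Cfsg.Agent.Lib.Helper16.BREZCHAR.mem_center_of_norm_eq ψ hfaith y h6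

/-- (V), first form: `ψ|_P` multiplicity free and `|ψ|²` constant along `y ↦ x y` (`1 ≠ x ∈ P`) -/
theorem central_of_self (P : Subgroup G) (hP : Nat.card P = p) (ψ : IrrCharacter G)
    (hfaith : ∀ g : G, (ψ : G → ℂ) g = (ψ : G → ℂ) 1 → g = 1)
    (hmf : ∑ᶠ x ∈ (P : Set G), (ψ : G → ℂ) x * conj ((ψ : G → ℂ) x) =
      (p : ℂ) * (charDegree (ψ : G → ℂ) : ℂ))
    (hsec : ∀ x ∈ P, x ≠ 1 → ∀ y ∈ Cz P, ¬ p ∣ orderOf y →
      (ψ : G → ℂ) (x * y) * conj ((ψ : G → ℂ) (x * y)) = (ψ : G → ℂ) x * conj ((ψ : G → ℂ) x)) :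
    ∀ y ∈ Cz P, ¬ p ∣ orderOf y → y ∈ Subgroup.center G := by
  intro y hy hyreg
  letI : Fintype P := Fintype.ofFinite P
  have hPc := comm_of_card_prime P hP
  have hyc : ∀ x ∈ P, x * y = y * x := fun x hx => Subgroup.mem_centralizer_iff.mp hy x hx
  have hψ : IsCharacter G (ψ : G → ℂ) := Cfsg.Agent.CharLib.IsIrrCharacter.isCharacter ψ.2
  rw [finsum_mem_subgroup_eq_sum, ← hP, ← Cfsg.Agent.Lib.Helper24.irr_apply_one ψ] at hmf
  have hcos := coset_sum_eq_of_multFree (ψ : G → ℂ) hψ P hPc y hyc hmf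
  exact central_of_coset_eq P ψ ψ hfaith (fun _ _ => rfl) y hyreg (hcos.trans hmf.symm)
    (fun x hx hx1 => hsec x hx hx1 y hy hyreg)

/-- (V), second form: `ψ|_P`, `φ|_P` disjoint, `φ = ψ` on the `p`-regular elements, and `ψ conj φ` constant
along `y ↦ x y` (`1 ≠ x ∈ P`) -/
theorem central_of_pair (P : Subgroup G) (hP : Nat.card P = p) (ψ φ : IrrCharacter G)
    (hfaith : ∀ g : G, (ψ : G → ℂ) g = (ψ : G → ℂ) 1 → g = 1)
    (hreg : ∀ g : G, ¬ p ∣ orderOf g → (φ : G → ℂ) g = (ψ : G → ℂ) g)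
    (hP0 : ∑ᶠ x ∈ (P : Set G), (ψ : G → ℂ) x * conj ((φ : G → ℂ) x) = 0)
    (hsec : ∀ x ∈ P, x ≠ 1 → ∀ y ∈ Cz P, ¬ p ∣ orderOf y →
      (ψ : G → ℂ) (x * y) * conj ((φ : G → ℂ) (x * y)) = (ψ : G → ℂ) x * conj ((φ : G → ℂ) x)) :
    ∀ y ∈ Cz P, ¬ p ∣ orderOf y → y ∈ Subgroup.center G := by
  intro y hy hyreg
  letI : Fintype P := Fintype.ofFinite P
  have hPc := comm_of_card_prime P hP
  have hyc : ∀ x ∈ P, x * y = y * x := fun x hx => Subgroup.mem_centralizer_iff.mp hy x hx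
  have hψ : IsCharacter G (ψ : G → ℂ) := Cfsg.Agent.CharLib.IsIrrCharacter.isCharacter ψ.2
  have hφ : IsCharacter G (φ : G → ℂ) := Cfsg.Agent.CharLib.IsIrrCharacter.isCharacter φ.2
  rw [finsum_mem_subgroup_eq_sum] at hP0
  have hcos := coset_sum_eq_zero (ψ : G → ℂ) (φ : G → ℂ) hψ hφ P hPc y hyc hP0
  exact central_of_coset_eq P ψ φ hfaith hreg y hyreg (hcos.trans hP0.symm)
    (fun x hx hx1 => hsec x hx hx1 y hy hyreg)

end central

end Cfsg.Agent.Lib.Helper1.BRV
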