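import Mathlib
import Cfsg.Prelude.Def_BlockRank
import Cfsg.Agent.Lib.Helper27.DODefs
import Cfsg.Agent.Lib.Helper15.BRENOTRIV

/-!
helper1: S4504 step (V), companion of `Helper1.BRV.central_of_self`: the norm on `P` of an exceptional character
from its values (`helper14`'s `partE_le` seam): `∑_{x ∈ P} |χ(x)|² = p |F| c²`.
-/

set_option autoImplicit false

namespace Cfsg.Agent.Lib.Helper1.BRVNorm

open Cfsg Cfsg.Agent.Lib.Helper8.DOM Cfsg.Agent.Lib.Helper27.DO Cfsg.Agent.Lib.Helper15.BRENOTRIV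
open scoped ComplexConjugate

universe u

variable {G : Type u} [Group G] [Finite G] {p : ℕ} [Fact p.Prime]

/-- `∑_{j<p} ζ^(a j) conj(ζ^(a j)) = p` -/
theorem sum_zeta_mul_conj_self (a : ℕ) :
    ∑ j ∈ Finset.range p, zetaP p ^ (a * j) * conj (zetaP p ^ (a * j)) = (p : ℂ) := by
  rw [Finset.sum_congr rfl (fun j _ => zetaP_mul_conj (p := p) (a * j)), Finset.sum_const, Finset.card_range,
    nsmul_eq_mul, mul_one]

/-- the norm on `P` of a character with the values of an exceptional character -/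
theorem sum_mul_conj_self (P : Subgroup G) (x0 : G) (hx0 : P = Subgroup.zpowers x0)
    (hord : orderOf x0 = p) (F : Subgroup (ZMod p)ˣ) (i : (ZMod p)ˣ) (c : ℕ) (χ : G → ℂ)
    (hval : ∀ j : ℕ, ¬ p ∣ j → χ (x0 ^ j) = (c : ℂ) *
      ∑ᶠ w ∈ (F : Set (ZMod p)ˣ), zetaP p ^ (((w : ZMod p) * (i : ZMod p)).val * j))
    (h1 : χ 1 = ((Nat.card F * c : ℕ) : ℂ)) :
    ∑ᶠ x ∈ (P : Set G), χ x * conj (χ x) = (p : ℂ) * ((Nat.card F * c * c : ℕ) : ℂ) := by
  classical
  have hcconj : conj (c : ℂ) = (c : ℂ) := map_natCast (starRingEnd ℂ) c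
  set FS : Finset (ZMod p)ˣ := Finset.univ.filter (fun w : (ZMod p)ˣ => w ∈ F) with hFS
  have hcardF : (Nat.card F : ℂ) = (FS.card : ℂ) := by
    congr 1
    rw [hFS, Nat.card_eq_fintype_card, Fintype.card_subtype]
  have hterm : ∀ j ∈ Finset.range p, χ (x0 ^ j) * conj (χ (x0 ^ j)) =
      (c : ℂ) * (c : ℂ) * ∑ w ∈ FS, ∑ w' ∈ FS,
        zetaP p ^ (((w : ZMod p) * (i : ZMod p)).val * j) *
          conj (zetaP p ^ (((w' : ZMod p) * (i : ZMod p)).val * j)) := by
    intro j hj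
    rw [Finset.mem_range] at hj
    by_cases hj0 : j = 0
    · subst hj0
      simp only [pow_zero, mul_zero, map_one, mul_one, Finset.sum_const, nsmul_eq_mul]
      rw [h1, map_natCast, ← hcardF]
      push_cast
      ring
    · have hpj : ¬ p ∣ j := fun hd => hj0 (Nat.eq_zero_of_dvd_of_lt hd hj)
      rw [hval j hpj, finsum_mem_subgroup_units, map_mul, hcconj, map_sum, ← hFS]
      have : (c : ℂ) * (∑ w ∈ FS, zetaP p ^ (((w : ZMod p) * (i : ZMod p)).val * j)) *
          ((c : ℂ) * ∑ w' ∈ FS, conj (zetaP p ^ (((w' : ZMod p) * (i : ZMod p)).val * j)))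
          = ((c : ℂ) * (c : ℂ)) *
            ((∑ w ∈ FS, zetaP p ^ (((w : ZMod p) * (i : ZMod p)).val * j)) *
              ∑ w' ∈ FS, conj (zetaP p ^ (((w' : ZMod p) * (i : ZMod p)).val * j))) := by ring
      rw [this, Finset.sum_mul_sum]
  rw [hx0, finsum_mem_zpowers, hord, Finset.sum_congr rfl hterm, ← Finset.mul_sum,
    Finset.sum_comm]
  have hrow : ∀ w ∈ FS, ∑ j ∈ Finset.range p, ∑ w' ∈ FS,
      zetaP p ^ (((w : ZMod p) * (i : ZMod p)).val * j) *
        conj (zetaP p ^ (((w' : ZMod p) * (i : ZMod p)).val * j)) = (p : ℂ) := by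
    intro w hw
    rw [Finset.sum_comm, Finset.sum_eq_single w]
    · exact sum_zeta_mul_conj_self _
    · intro w' _ hw'
      apply sum_zeta_mul_conj_eq_zero
      rw [ZMod.natCast_zmod_val, ZMod.natCast_zmod_val]
      intro heq
      apply hw'
      have hu : w * i = w' * i := Units.ext (by push_cast; exact heq)
      exact (mul_right_cancel hu).symm
    · intro h
      exact absurd hw h
  rw [Finset.sum_congr rfl hrow, Finset.sum_const, nsmul_eq_mul, ← hcardF]
  push_cast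
  ring

end Cfsg.Agent.Lib.Helper1.BRVNorm
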