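/-
helper1: BS-CSET (twin; S4705 market "BS", planner helper6; `notes/S4705_leaves.lean`): all members of a `TwoBlock`
have the same central character.
-/
import Mathlib
import Cfsg.Prelude.Def_BlockRank
import Cfsg.Agent.Lib.Helper6.BRHDefs
import Cfsg.Agent.Lib.Helper6.BSDefs
import Cfsg.Agent.Lib.Helper23.BRVIDefs
import Cfsg.Agent.Lib.Helper23.BRVIZC

set_option autoImplicit false

namespace Cfsg.Agent.Lib.Helper1.BSCSET

open Cfsg Cfsg.Agent.Lib.Helper8.DOM Cfsg.Agent.Lib.Helper27.DO Cfsg.Agent.CharLib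
open Cfsg.Agent.Lib.Helper6.BRH Cfsg.Agent.Lib.Helper23.BRVI Cfsg.Agent.Lib.Helper6.BS
open Cfsg.Agent.Lib.Helper23.BRVIZC
open scoped ComplexConjugate

universe u

variable {G : Type u} [Group G] [Finite G] {p : ℕ} [Fact p.Prime] {M : Ideal AlgInt}

/-- equality in the triangle inequality for unit complex numbers with positive weights -/
theorem unit_eq_of_add (a b c : ℂ) (ha : ‖a‖ = 1) (hb : ‖b‖ = 1) (hc : ‖c‖ = 1) (x y : ℝ)
    (hx : 0 < x) (hy : 0 < y) (h : c * ((x + y : ℝ) : ℂ) = a * (x : ℂ) + b * (y : ℂ)) :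
    a = c ∧ b = c := by
  have hnorm : ‖a * (x : ℂ) + b * (y : ℂ)‖ = ‖a * (x : ℂ)‖ + ‖b * (y : ℂ)‖ := by
    rw [← h, norm_mul, norm_mul, norm_mul, ha, hb, hc, Complex.norm_real, Complex.norm_real,
      Complex.norm_real, Real.norm_of_nonneg hx.le, Real.norm_of_nonneg hy.le,
      Real.norm_of_nonneg (by linarith)]
    ring
  have hray : SameRay ℝ (a * (x : ℂ)) (b * (y : ℂ)) := sameRay_iff_norm_add.mpr hnorm
  have hax : a * (x : ℂ) ≠ 0 := by
    intro h0
    have := congrArg norm h0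
    rw [norm_mul, ha, Complex.norm_real, Real.norm_of_nonneg hx.le, norm_zero] at this
    linarith
  have hby : b * (y : ℂ) ≠ 0 := by
    intro h0
    have := congrArg norm h0
    rw [norm_mul, hb, Complex.norm_real, Real.norm_of_nonneg hy.le, norm_zero] at this
    linarith
  have heq := (sameRay_iff_inv_norm_smul_eq_of_ne hax hby).mp hray
  rw [norm_mul, norm_mul, ha, hb, Complex.norm_real, Complex.norm_real, Real.norm_of_nonneg hx.le,
    Real.norm_of_nonneg hy.le, one_mul, one_mul] at heq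
  have hab : a = b := by
    have hxc : (x : ℂ) ≠ 0 := by exact_mod_cast hx.ne'
    have hyc : (y : ℂ) ≠ 0 := by exact_mod_cast hy.ne'
    have h1 : (x⁻¹ : ℝ) • (a * (x : ℂ)) = a := by
      rw [Complex.real_smul]
      push_cast
      field_simp
    have h2 : (y⁻¹ : ℝ) • (b * (y : ℂ)) = b := by
      rw [Complex.real_smul]
      push_cast
      field_simp
    rw [h1, h2] at heq
    exact heq
  have hxy : ((x + y : ℝ) : ℂ) ≠ 0 := by
    have : (0 : ℝ) < x + y := by linarith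
    exact_mod_cast this.ne'
  have hac : a = c := by
    rw [← hab] at h
    have : c * ((x + y : ℝ) : ℂ) = a * ((x + y : ℝ) : ℂ) := by
      rw [h]; push_cast; ring
    exact (mul_right_cancel₀ hxy this).symm
  exact ⟨hac, hab ▸ hac⟩

/-- BS-CSET : all members of the block have the same central character. -/
theorem cset_of_twoBlock (hZreg : ∀ z ∈ Subgroup.center G, ¬ p ∣ orderOf z) (P : Subgroup G)
    (η₁ η₂ : IrrCharacter G) (v₁ v₂ : ℤ) (Y : Set (IrrCharacter G)) (ε : ℤ)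
    (d : TwoBlock p P η₁ η₂ v₁ v₂ Y ε) (ψ0 : IrrCharacter G) (hψ0 : ψ0 ∈ Y) :
    η₁ ∈ cset ψ0 ∧ η₂ ∈ cset ψ0 ∧ Y ⊆ cset ψ0 := by
  have hpp : p.Prime := Fact.out
  have h1reg : ¬ p ∣ orderOf (1 : G) := by
    rw [orderOf_one]
    intro h
    exact hpp.one_lt.ne' (Nat.dvd_one.mp h)
  have hE0 : (ε : ℂ) ≠ 0 := by
    rcases d.sgn with h | h <;> rw [h] <;> norm_num
  have hagree : ∀ ψ' ∈ Y, ∀ g : G, ¬ p ∣ orderOf g → (ψ' : G → ℂ) g = (ψ0 : G → ℂ) g := by
    intro ψ' hψ' g hg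
    have e1 := d.relY ψ' hψ' g hg
    have e2 := d.relY ψ0 hψ0 g hg
    exact mul_left_cancel₀ hE0 (e1.trans e2.symm)
  -- degrees as positive reals
  have hdeg : ∀ χ : IrrCharacter G, (χ : G → ℂ) 1 = ((charDegree (χ : G → ℂ) : ℝ) : ℂ) := by
    intro χ
    rw [apply_one_eq]
    push_cast
    rfl
  have hpos : ∀ χ : IrrCharacter G, (0 : ℝ) < (charDegree (χ : G → ℂ) : ℝ) := fun χ => by
    exact_mod_cast charDegree_pos χ
  set X₁ : ℝ := (charDegree (η₁ : G → ℂ) : ℝ) with hX₁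
  set X₂ : ℝ := (charDegree (η₂ : G → ℂ) : ℝ) with hX₂
  set D : ℝ := (charDegree (ψ0 : G → ℂ) : ℝ) with hD
  have hrel1 := d.relY ψ0 hψ0 1 h1reg
  rw [hdeg ψ0, hdeg η₁, hdeg η₂] at hrel1
  -- the values at central elements
  have hval : ∀ (χ : IrrCharacter G) (z : Subgroup.center G),
      (χ : G → ℂ) (z : G) = omegaHom χ z * ((charDegree (χ : G → ℂ) : ℝ) : ℂ) := by
    intro χ z
    rw [omegaHom_apply, ← hdeg χ]
    have h0 := Cfsg.Agent.Lib.Helper24.irr_apply_one_ne_zero χ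
    field_simp
  have hkey : ∀ z : Subgroup.center G, omegaHom η₁ z = omegaHom ψ0 z ∧ omegaHom η₂ z = omegaHom ψ0 z := by
    intro z
    have hrelz := d.relY ψ0 hψ0 (z : G) (hZreg (z : G) z.2)
    rw [hval ψ0 z, hval η₁ z, hval η₂ z] at hrelz
    have n0 := norm_omegaHom ψ0 z
    have n1 := norm_omegaHom η₁ z
    have n2 := norm_omegaHom η₂ z
    have hX₁pos := hpos η₁
    have hX₂pos := hpos η₂
    have hDpos := hpos ψ0
    -- sign analysis
    rcases d.sgn with hε | hε <;> rcases d.sgn1 with hv1 | hv1 <;> rcases d.sgn2 with hv2 | hv2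
    all_goals
      rw [hε, hv1, hv2] at hrelz hrel1
      push_cast at hrelz hrel1
    · -- ε = 1, v₁ = 1, v₂ = 1 : D = X₁ + X₂
      have hDeq : D = X₁ + X₂ := by
        have : ((D : ℝ) : ℂ) = ((X₁ + X₂ : ℝ) : ℂ) := by push_cast; linear_combination hrel1
        exact_mod_cast this
      have := unit_eq_of_add (omegaHom η₁ z) (omegaHom η₂ z) (omegaHom ψ0 z) n1 n2 n0 X₁ X₂
        hX₁pos hX₂pos (by rw [← hDeq]; linear_combination hrelz)
      exact this
    · -- ε = 1, v₁ = 1, v₂ = -1 : X₁ = D + X₂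
      have hDeq : X₁ = D + X₂ := by
        have : ((X₁ : ℝ) : ℂ) = ((D + X₂ : ℝ) : ℂ) := by push_cast; linear_combination -hrel1
        exact_mod_cast this
      have := unit_eq_of_add (omegaHom ψ0 z) (omegaHom η₂ z) (omegaHom η₁ z) n0 n2 n1 D X₂
        hDpos hX₂pos (by rw [← hDeq]; linear_combination -hrelz)
      exact ⟨this.1.symm, this.2.trans this.1.symm⟩
    · -- ε = 1, v₁ = -1, v₂ = 1 : X₂ = D + X₁
      have hDeq : X₂ = D + X₁ := by
        have : ((X₂ : ℝ) : ℂ) = ((D + X₁ : ℝ) : ℂ) := by push_cast; linear_combination -hrel1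
        exact_mod_cast this
      have := unit_eq_of_add (omegaHom ψ0 z) (omegaHom η₁ z) (omegaHom η₂ z) n0 n1 n2 D X₁
        hDpos hX₁pos (by rw [← hDeq]; linear_combination -hrelz)
      exact ⟨this.2.trans this.1.symm, this.1.symm⟩
    · -- ε = 1, v₁ = -1, v₂ = -1 : impossible
      exfalso
      have : ((D + X₁ + X₂ : ℝ) : ℂ) = 0 := by push_cast; linear_combination hrel1
      have h0 : D + X₁ + X₂ = 0 := by exact_mod_cast this
      linarith
    · -- ε = -1, v₁ = 1, v₂ = 1 : impossible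
      exfalso
      have : ((D + X₁ + X₂ : ℝ) : ℂ) = 0 := by push_cast; linear_combination -hrel1
      have h0 : D + X₁ + X₂ = 0 := by exact_mod_cast this
      linarith
    · -- ε = -1, v₁ = 1, v₂ = -1 : X₂ = D + X₁
      have hDeq : X₂ = D + X₁ := by
        have : ((X₂ : ℝ) : ℂ) = ((D + X₁ : ℝ) : ℂ) := by push_cast; linear_combination hrel1
        exact_mod_cast this
      have := unit_eq_of_add (omegaHom ψ0 z) (omegaHom η₁ z) (omegaHom η₂ z) n0 n1 n2 D X₁
        hDpos hX₁pos (by rw [← hDeq]; linear_combination hrelz)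
      exact ⟨this.2.trans this.1.symm, this.1.symm⟩
    · -- ε = -1, v₁ = -1, v₂ = 1 : X₁ = D + X₂
      have hDeq : X₁ = D + X₂ := by
        have : ((X₁ : ℝ) : ℂ) = ((D + X₂ : ℝ) : ℂ) := by push_cast; linear_combination hrel1
        exact_mod_cast this
      have := unit_eq_of_add (omegaHom ψ0 z) (omegaHom η₂ z) (omegaHom η₁ z) n0 n2 n1 D X₂
        hDpos hX₂pos (by rw [← hDeq]; linear_combination hrelz)
      exact ⟨this.1.symm, this.2.trans this.1.symm⟩
    · -- ε = -1, v₁ = -1, v₂ = -1 : D = X₁ + X₂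
      have hDeq : D = X₁ + X₂ := by
        have : ((D : ℝ) : ℂ) = ((X₁ + X₂ : ℝ) : ℂ) := by push_cast; linear_combination -hrel1
        exact_mod_cast this
      have := unit_eq_of_add (omegaHom η₁ z) (omegaHom η₂ z) (omegaHom ψ0 z) n1 n2 n0 X₁ X₂
        hX₁pos hX₂pos (by rw [← hDeq]; linear_combination -hrelz)
      exact this
  refine ⟨?_, ?_, ?_⟩
  · rw [mem_cset_iff]
    ext z
    exact (hkey z).1
  · rw [mem_cset_iff]
    ext z
    exact (hkey z).2
  · intro ψ' hψ' z hz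
    rw [hagree ψ' hψ' z (hZreg z hz), hagree ψ' hψ' 1 h1reg]

end Cfsg.Agent.Lib.Helper1.BSCSET
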