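/-
helper1: BS-EVAL (S4705 market "BS", planner helper6; `notes/S4705_leaves.lean`): the value of the sector sum
`Tc (cset ψ0) w w x` for a sector containing a `TwoBlock` outside of which everything vanishes at `x`.
-/
import Mathlib
import Cfsg.Prelude.Def_BlockRank
import Cfsg.Agent.Lib.Helper6.BRHDefs
import Cfsg.Agent.Lib.Helper6.BSDefs
import Cfsg.Agent.Lib.Helper23.BRVIDefs

set_option autoImplicit false

namespace Cfsg.Agent.Lib.Helper1.BSEVAL

open Cfsg Cfsg.Agent.Lib.Helper8.DOM Cfsg.Agent.Lib.Helper27.DO Cfsg.Agent.CharLib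
open Cfsg.Agent.Lib.Helper6.BRH Cfsg.Agent.Lib.Helper23.BRVI Cfsg.Agent.Lib.Helper6.BS
open scoped ComplexConjugate

universe u

variable {G : Type u} [Group G] [Finite G] {p : ℕ} [Fact p.Prime] {M : Ideal AlgInt}

/-- `finsum_mem` over a set of a fintype as a filtered sum -/
theorem finsum_mem_eq_sum_filter_univ {α M' : Type*} [Fintype α] [AddCommMonoid M'] (s : Set α)
    [DecidablePred (· ∈ s)] (f : α → M') :
    ∑ᶠ a ∈ s, f a = ∑ a ∈ Finset.univ.filter (· ∈ s), f a := by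
  rw [finsum_mem_eq_finite_toFinset_sum f (Set.toFinite s)]
  apply Finset.sum_congr
  · ext a; simp
  · intro _ _; rfl

/-- the pure algebra behind BS-EVAL -/
theorem eval_algebra (a b X₁ X₂ ψw ψ1 V1 V2 E : ℂ) (hX₁ : X₁ ≠ 0) (hX₂ : X₂ ≠ 0) (hψ1 : ψ1 ≠ 0)
    (hV1 : V1 = 1 ∨ V1 = -1) (hV2 : V2 = 1 ∨ V2 = -1) (hE : E = 1 ∨ E = -1)
    (hw : E * ψw = V1 * a + V2 * b) (h1 : E * ψ1 = V1 * X₁ + V2 * X₂) :
    (a * a * V1 / X₁ + b * b * V2 / X₂ + ψw * ψw / ψ1 * (-E)) * (X₁ * X₂ * ψ1) =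
      (V1 * V2 * E) * (a * X₂ - b * X₁) ^ 2 := by
  rcases hV1 with rfl | rfl <;> rcases hV2 with rfl | rfl <;> rcases hE with rfl | rfl
  all_goals
    first
    | (have hw' : ψw = 1 * a + 1 * b := by linear_combination hw
       have h1' : ψ1 = 1 * X₁ + 1 * X₂ := by linear_combination h1
       subst hw'
       field_simp
       rw [h1']
       ring)
    | (have hw' : ψw = -(1 * a + 1 * b) := by linear_combination -hw
       have h1' : ψ1 = -(1 * X₁ + 1 * X₂) := by linear_combination -h1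
       subst hw'
       field_simp
       rw [h1']
       ring)
    | (have hw' : ψw = 1 * a + -1 * b := by linear_combination hw
       have h1' : ψ1 = 1 * X₁ + -1 * X₂ := by linear_combination h1
       subst hw'
       field_simp
       rw [h1']
       ring)
    | (have hw' : ψw = -(1 * a + -1 * b) := by linear_combination -hw
       have h1' : ψ1 = -(1 * X₁ + -1 * X₂) := by linear_combination -h1
       subst hw'
       field_simp
       rw [h1']
       ring)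
    | (have hw' : ψw = -1 * a + 1 * b := by linear_combination hw
       have h1' : ψ1 = -1 * X₁ + 1 * X₂ := by linear_combination h1
       subst hw'
       field_simp
       rw [h1']
       ring)
    | (have hw' : ψw = -(-1 * a + 1 * b) := by linear_combination -hw
       have h1' : ψ1 = -(-1 * X₁ + 1 * X₂) := by linear_combination -h1
       subst hw'
       field_simp
       rw [h1']
       ring)
    | (have hw' : ψw = -1 * a + -1 * b := by linear_combination hw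
       have h1' : ψ1 = -1 * X₁ + -1 * X₂ := by linear_combination h1
       subst hw'
       field_simp
       rw [h1']
       ring)
    | (have hw' : ψw = -(-1 * a + -1 * b) := by linear_combination -hw
       have h1' : ψ1 = -(-1 * X₁ + -1 * X₂) := by linear_combination -h1
       subst hw'
       field_simp
       rw [h1']
       ring)

/-- BS-EVAL (K3) = (K4) : the value of the sector sum. -/
theorem tc_eval (P : Subgroup G) (hP : Nat.card P = p)
    (η₁ η₂ : IrrCharacter G) (v₁ v₂ : ℤ) (Y : Set (IrrCharacter G)) (ε : ℤ)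
    (d : TwoBlock p P η₁ η₂ v₁ v₂ Y ε) (ψ0 : IrrCharacter G)
    (h1 : η₁ ∈ cset ψ0) (h2 : η₂ ∈ cset ψ0) (hY : Y ⊆ cset ψ0)
    (x : G) (hx : x ∈ P) (hx1 : x ≠ 1)
    (hrest : ∀ χ ∈ cset ψ0, χ ≠ η₁ → χ ≠ η₂ → χ ∉ Y → (χ : G → ℂ) x = 0)
    (w : G) (hw : ¬ p ∣ orderOf w) (ψ : IrrCharacter G) (hψ : ψ ∈ Y) :
    Tc (cset ψ0) w w x * ((η₁ : G → ℂ) 1 * (η₂ : G → ℂ) 1 * (ψ : G → ℂ) 1) =
      ((v₁ * v₂ * ε : ℤ) : ℂ) *
        ((η₁ : G → ℂ) w * (η₂ : G → ℂ) 1 - (η₂ : G → ℂ) w * (η₁ : G → ℂ) 1) ^ 2 := by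
  classical
  have hpp : p.Prime := Fact.out
  have hfin : Finite (IrrCharacter G) := Cfsg.Agent.CharLib.finite_irrCharacter
  let _ : Fintype (IrrCharacter G) := Fintype.ofFinite _
  have h1reg : ¬ p ∣ orderOf (1 : G) := by
    rw [orderOf_one]
    intro h
    exact hpp.one_lt.ne' (Nat.dvd_one.mp h)
  have hEcases : (ε : ℂ) = 1 ∨ (ε : ℂ) = -1 := by
    rcases d.sgn with h | h <;> rw [h] <;> simp
  have hV1cases : (v₁ : ℂ) = 1 ∨ (v₁ : ℂ) = -1 := by
    rcases d.sgn1 with h | h <;> rw [h] <;> simp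
  have hV2cases : (v₂ : ℂ) = 1 ∨ (v₂ : ℂ) = -1 := by
    rcases d.sgn2 with h | h <;> rw [h] <;> simp
  have hE0 : (ε : ℂ) ≠ 0 := by
    rcases hEcases with h | h <;> rw [h] <;> norm_num
  -- all members of `Y` agree with `ψ` on `p`-regular elements
  have hagree : ∀ ψ' ∈ Y, ∀ g : G, ¬ p ∣ orderOf g → (ψ' : G → ℂ) g = (ψ : G → ℂ) g := by
    intro ψ' hψ' g hg
    have e1 := d.relY ψ' hψ' g hg
    have e2 := d.relY ψ hψ g hg
    exact mul_left_cancel₀ hE0 (e1.trans e2.symm)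
  set F : IrrCharacter G → ℂ := fun χ =>
    (χ : G → ℂ) w * (χ : G → ℂ) w * conj ((χ : G → ℂ) x) / (χ : G → ℂ) 1 with hF
  set S : Finset (IrrCharacter G) := Finset.univ.filter (· ∈ cset ψ0) with hS
  set Yf : Finset (IrrCharacter G) := Finset.univ.filter (· ∈ Y) with hYf
  have hmemS : ∀ χ, χ ∈ S ↔ χ ∈ cset ψ0 := fun χ => by simp [hS]
  have hmemY : ∀ χ, χ ∈ Yf ↔ χ ∈ Y := fun χ => by simp [hYf]
  have hTc : Tc (cset ψ0) w w x = ∑ χ ∈ S, F χ := by
    unfold Tc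
    rw [finsum_mem_eq_sum_filter_univ]
  -- reduce to the block
  have hη₁Y : η₁ ∉ Yf := fun h => d.notY1 ((hmemY _).mp h)
  have hη₂Y : η₂ ∉ Yf := fun h => d.notY2 ((hmemY _).mp h)
  have hη₁ins : η₁ ∉ insert η₂ Yf := by
    intro h
    rcases Finset.mem_insert.mp h with h | h
    · exact d.ne h
    · exact hη₁Y h
  have hsub : insert η₁ (insert η₂ Yf) ⊆ S := by
    intro χ hχ
    rw [hmemS]
    rcases Finset.mem_insert.mp hχ with h | h
    · rw [h]; exact h1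
    · rcases Finset.mem_insert.mp h with h | h
      · rw [h]; exact h2
      · exact hY ((hmemY _).mp h)
  have hred : ∑ χ ∈ S, F χ = ∑ χ ∈ insert η₁ (insert η₂ Yf), F χ := by
    symm
    apply Finset.sum_subset hsub
    intro χ hχS hχT
    have hne1 : χ ≠ η₁ := fun h => hχT (by rw [h]; exact Finset.mem_insert_self _ _)
    have hne2 : χ ≠ η₂ := fun h => hχT (by
      rw [h]; exact Finset.mem_insert_of_mem (Finset.mem_insert_self _ _))
    have hneY : χ ∉ Y := fun h => hχT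
      (Finset.mem_insert_of_mem (Finset.mem_insert_of_mem ((hmemY _).mpr h)))
    have h0 := hrest χ ((hmemS _).mp hχS) hne1 hne2 hneY
    simp only [hF]
    rw [h0]
    simp
  -- the `Y`-part
  have hYsum : ∑ χ ∈ Yf, F χ =
      (ψ : G → ℂ) w * (ψ : G → ℂ) w / (ψ : G → ℂ) 1 * (-(ε : ℂ)) := by
    have hterm : ∀ χ ∈ Yf, F χ =
        (ψ : G → ℂ) w * (ψ : G → ℂ) w / (ψ : G → ℂ) 1 * conj ((χ : G → ℂ) x) := by
      intro χ hχ
      have hχY := (hmemY _).mp hχ
      simp only [hF]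
      rw [hagree χ hχY w hw, hagree χ hχY 1 h1reg]
      ring
    rw [Finset.sum_congr rfl hterm, ← Finset.mul_sum, ← map_sum]
    have hs := d.sumY x hx hx1
    rw [finsum_mem_eq_sum_filter_univ] at hs
    rw [hs]
    simp
  rw [hTc, hred, Finset.sum_insert hη₁ins, Finset.sum_insert hη₂Y, hYsum]
  simp only [hF]
  rw [d.val1 x hx hx1, d.val2 x hx hx1]
  have hc1 : conj ((v₁ : ℤ) : ℂ) = (v₁ : ℂ) := by simp
  have hc2 : conj ((v₂ : ℤ) : ℂ) = (v₂ : ℂ) := by simp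
  rw [hc1, hc2]
  have hX₁ : (η₁ : G → ℂ) 1 ≠ 0 := by
    rw [apply_one_eq]
    exact_mod_cast (charDegree_pos η₁).ne'
  have hX₂ : (η₂ : G → ℂ) 1 ≠ 0 := by
    rw [apply_one_eq]
    exact_mod_cast (charDegree_pos η₂).ne'
  have hψ1 : (ψ : G → ℂ) 1 ≠ 0 := by
    rw [apply_one_eq]
    exact_mod_cast (charDegree_pos ψ).ne'
  have key := eval_algebra ((η₁ : G → ℂ) w) ((η₂ : G → ℂ) w) ((η₁ : G → ℂ) 1) ((η₂ : G → ℂ) 1)
    ((ψ : G → ℂ) w) ((ψ : G → ℂ) 1) (v₁ : ℂ) (v₂ : ℂ) (ε : ℂ) hX₁ hX₂ hψ1 hV1cases hV2cases hEcases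
    (d.relY ψ hψ w hw) (d.relY ψ hψ 1 h1reg)
  have hcast : ((v₁ * v₂ * ε : ℤ) : ℂ) = (v₁ : ℂ) * (v₂ : ℂ) * (ε : ℂ) := by push_cast; ring
  rw [hcast, ← key]
  ring

end Cfsg.Agent.Lib.Helper1.BSEVAL
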