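/-
helper1: BS-PSUM (S4705 market "BS", planner helper6; `notes/S4705_leaves.lean`): the sums over `P` of the members of a `TwoBlock`.
-/
import Mathlib
import Cfsg.Prelude.Def_BlockRank
import Cfsg.Agent.Lib.Helper6.BRHDefs
import Cfsg.Agent.Lib.Helper6.BSDefs
import Cfsg.Agent.Lib.Helper23.BRVIDefs
import Cfsg.Agent.Lib.Helper6.BRCTools
import Cfsg.Agent.Lib.Helper6.BRCOUT

set_option autoImplicit false

namespace Cfsg.Agent.Lib.Helper1.BSPSUM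

open Cfsg Cfsg.Agent.Lib.Helper8.DOM Cfsg.Agent.Lib.Helper27.DO Cfsg.Agent.CharLib
open Cfsg.Agent.Lib.Helper6.BRH Cfsg.Agent.Lib.Helper23.BRVI Cfsg.Agent.Lib.Helper6.BS
open scoped ComplexConjugate

universe u

variable {G : Type u} [Group G] [Finite G] {p : ℕ} [Fact p.Prime] {M : Ideal AlgInt}

/-- the sum over `P \ 1` of a function constant on `P \ 1` -/
theorem finsum_Psharp_const (P : Subgroup G) (hP : Nat.card P = p) (F : G → ℂ) (c : ℂ)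
    (hF : ∀ x ∈ P, x ≠ 1 → F x = c) :
    ∑ᶠ x ∈ {x : G | x ∈ P ∧ x ≠ 1}, F x = c * ((p : ℂ) - 1) := by
  classical
  have hpp : p.Prime := Fact.out
  have hAfin : {x : G | x ∈ P ∧ x ≠ 1}.Finite := Set.toFinite _
  rw [finsum_mem_eq_finite_toFinset_sum _ hAfin]
  have h1 : ∀ x ∈ hAfin.toFinset, F x = c := by
    intro x hx
    have := (Set.Finite.mem_toFinset hAfin).mp hx
    exact hF x this.1 this.2
  rw [Finset.sum_congr rfl h1, Finset.sum_const, Cfsg.Agent.Lib.Helper6.BRCOUT.card_Psharp P hP,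
    nsmul_eq_mul, Nat.cast_sub hpp.one_le, Nat.cast_one]
  ring

/-- BS-PSUM : the sums over `P`. -/
theorem psum_of_twoBlock (P : Subgroup G) (hP : Nat.card P = p)
    (η₁ η₂ : IrrCharacter G) (v₁ v₂ : ℤ) (Y : Set (IrrCharacter G)) (ε : ℤ)
    (d : TwoBlock p P η₁ η₂ v₁ v₂ Y ε) :
    ∑ᶠ x ∈ (P : Set G), (η₁ : G → ℂ) x = (η₁ : G → ℂ) 1 + (v₁ : ℂ) * ((p : ℂ) - 1) ∧
    ∑ᶠ x ∈ (P : Set G), (η₂ : G → ℂ) x = (η₂ : G → ℂ) 1 + (v₂ : ℂ) * ((p : ℂ) - 1) ∧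
    ∀ ψ ∈ Y, ∑ᶠ x ∈ (P : Set G), (ψ : G → ℂ) x = (ψ : G → ℂ) 1 - 2 * (ε : ℂ) := by
  refine ⟨?_, ?_, ?_⟩
  · rw [Cfsg.Agent.Lib.Helper6.BRCTools.finsum_P_split,
      finsum_Psharp_const P hP _ (v₁ : ℂ) (fun x hx hx1 => d.val1 x hx hx1)]
  · rw [Cfsg.Agent.Lib.Helper6.BRCTools.finsum_P_split,
      finsum_Psharp_const P hP _ (v₂ : ℂ) (fun x hx hx1 => d.val2 x hx hx1)]
  · intro ψ hψ
    rw [Cfsg.Agent.Lib.Helper6.BRCTools.finsum_P_split, d.psumY ψ hψ]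
    ring

end Cfsg.Agent.Lib.Helper1.BSPSUM
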