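import Mathlib
import Cfsg.Prelude.Def_Characters
import Cfsg.Agent.Lib.Helper24.BSWDefs
import Cfsg.Agent.Lib.Lead.BlockBasic

/-!
# Brauer-Suzuki-Wall, abstract form (S3282), BATCH 2 = characters: shared vocabulary (helper1)

* `theta K μ = indFun K (1 - μ)` for a linear character `μ : ↥K →* ℂˣ` (the generalized character
  `Θ_μ` of the plan);
* `mult K μ χ = classInner (theta K μ) χ` (the multiplicity `m(χ, μ)`);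
* `Coh K ν ε X L Y₁ Y₂` : the output of the lattice lemma ("COH" in `notes/S3282_plan.md`).
-/

set_option autoImplicit false

namespace Cfsg.Agent.Lib.Helper1.BSWC

open Cfsg Cfsg.Agent.CharLib

universe u

variable {G : Type u} [Group G] [Fintype G]

/-- `Θ_μ = Ind_K^G (1_K - μ)`. -/
noncomputable def theta (K : Subgroup G) (μ : ↥K →* ℂˣ) : G → ℂ :=
  Cfsg.indFun K (fun x => 1 - ((μ x : ℂˣ) : ℂ))

/-- `m(χ, μ) = ⟨Θ_μ, χ⟩`. -/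
noncomputable def mult (K : Subgroup G) (μ : ↥K →* ℂˣ) (χ : G → ℂ) : ℂ :=
  Cfsg.classInner (theta K μ) χ

open Classical in
/-- COH: the shape of all the `Θ_μ` (`ν` = the linear character of order 2 of `K`):
`Θ_μ = 1 + ε X - ε L_μ` (`μ² ≠ 1`), `Θ_ν = 1 + ε X - ε Y₁ - ε Y₂`, every other irreducible
character is orthogonal to all `Θ_μ`; `L_μ = L_μ'` iff `μ' = μ^{±1}`; degrees. -/
structure Coh (K : Subgroup G) (ν : ↥K →* ℂˣ) (ε : ℤ) (X : IrrCharacter G)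
    (L : (↥K →* ℂˣ) → IrrCharacter G) (Y₁ Y₂ : IrrCharacter G) : Prop where
  hε : ε = 1 ∨ ε = -1
  multL : ∀ μ : ↥K →* ℂˣ, μ ≠ 1 → μ ≠ ν → ∀ χ : IrrCharacter G,
    mult K μ (χ : G → ℂ) = (if χ = trivIrr G then 1 else 0) + (if χ = X then (ε : ℂ) else 0)
      - (if χ = L μ then (ε : ℂ) else 0)
  multν : ∀ χ : IrrCharacter G,
    mult K ν (χ : G → ℂ) = (if χ = trivIrr G then 1 else 0) + (if χ = X then (ε : ℂ) else 0)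
      - (if χ = Y₁ then (ε : ℂ) else 0) - (if χ = Y₂ then (ε : ℂ) else 0)
  X_ne : X ≠ trivIrr G
  Y_ne : Y₁ ≠ Y₂
  Y_ne_triv : Y₁ ≠ trivIrr G ∧ Y₂ ≠ trivIrr G
  Y_ne_X : Y₁ ≠ X ∧ Y₂ ≠ X
  L_ne : ∀ μ : ↥K →* ℂˣ, μ ≠ 1 → μ ≠ ν →
    L μ ≠ trivIrr G ∧ L μ ≠ X ∧ L μ ≠ Y₁ ∧ L μ ≠ Y₂
  L_eq_iff : ∀ μ μ' : ↥K →* ℂˣ, μ ≠ 1 → μ ≠ ν → μ' ≠ 1 → μ' ≠ ν →
    (L μ = L μ' ↔ μ' = μ ∨ μ' = μ⁻¹)
  degL : ∀ μ : ↥K →* ℂˣ, μ ≠ 1 → μ ≠ ν → (L μ : G → ℂ) 1 = (X : G → ℂ) 1 + (ε : ℂ)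
  degY : (Y₁ : G → ℂ) 1 = (Y₂ : G → ℂ) 1 ∧ 2 * (Y₁ : G → ℂ) 1 = (X : G → ℂ) 1 + (ε : ℂ)

end Cfsg.Agent.Lib.Helper1.BSWC
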