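import Mathlib
import Cfsg.Prelude.Def_Characters
import Cfsg.Agent.Lib.Helper24.BSWDefs
import Cfsg.Agent.Lib.Helper1.BSWCDefs
import Cfsg.Agent.Lib.Helper5.BSWCT3
import Cfsg.Agent.Lib.Lead.CharMain
import Cfsg.Agent.Lib.Lead.BrLeo4
import Cfsg.Agent.Lib.Helper10.Coherence
import Cfsg.Agent.Lib.Helper10.GenChar

/-!
# S3282 batch 2 (helper1): basic facts on `Θ_μ` and the dual group of `K` used by the spine
(expansion of `Θ_μ` along `Irr G`, Parseval, integrality of the multiplicities, `|K^| = |K|`).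
-/

set_option autoImplicit false

namespace Cfsg.Agent.Lib.Helper1.BSWCBase

open Cfsg Cfsg.Agent.Lib.Helper24.BSW Cfsg.Agent.CharLib Cfsg.Agent.Lib.Helper1.BSWC
open Cfsg.Agent.Lib.Helper5.BSWCT3
open scoped ComplexConjugate

universe u

variable {G : Type u} [Group G] [Fintype G]

/-- `Θ_1 = 0`. -/
lemma theta_one' (K : Subgroup G) : theta K (1 : ↥K →* ℂˣ) = 0 := by
  funext g
  have h0 : (fun x : ↥K => (1 : ℂ) - (((1 : ↥K →* ℂˣ) x : ℂˣ) : ℂ)) = 0 := by
    funext x; simp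
  have h1 : ∀ y : G, Cfsg.extendByZero K (0 : ↥K → ℂ) y = 0 := by
    intro y
    unfold Cfsg.extendByZero
    by_cases hy : ∃ a : ↥K, (a : G) = y
    · obtain ⟨a, rfl⟩ := hy
      rw [Subtype.val_injective.extend_apply]; rfl
    · rw [Function.extend_apply' _ _ _ hy]; rfl
  unfold theta Cfsg.indFun
  rw [h0]
  simp [h1]

lemma mult_one' (K : Subgroup G) (χ : G → ℂ) : mult K (1 : ↥K →* ℂˣ) χ = 0 := by
  unfold mult
  rw [theta_one']
  exact classInner_zero_left χ

/-- `m(χ, μ)` is an integer. -/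
lemma mult_int (K : Subgroup G) (μ : ↥K →* ℂˣ) (χ : IrrCharacter G) :
    ∃ a : ℤ, mult K μ (χ : G → ℂ) = (a : ℂ) :=
  Cfsg.Agent.Lib.Helper10.genChar_inner_int (isGenChar_theta K μ)
    (Cfsg.Agent.Lib.Helper10.isGeneralizedCharacter_of_isCharacter (IsIrrCharacter.isCharacter χ.2))

/-- expansion of `Θ_μ`. -/
lemma theta_expand [Fintype (IrrCharacter G)] (K : Subgroup G) (μ : ↥K →* ℂˣ) :
    theta K μ = ∑ χ : IrrCharacter G, mult K μ (χ : G → ℂ) • (χ : G → ℂ) :=
  classFunction_eq_sum (isClassFunction_theta K μ)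

lemma theta_apply_expand [Fintype (IrrCharacter G)] (K : Subgroup G) (μ : ↥K →* ℂˣ) (g : G) :
    theta K μ g = ∑ χ : IrrCharacter G, mult K μ (χ : G → ℂ) * (χ : G → ℂ) g := by
  conv_lhs => rw [theta_expand K μ]
  simp [Finset.sum_apply]

/-- Parseval. -/
lemma classInner_theta_expand [Fintype (IrrCharacter G)] (K : Subgroup G) (μ μ' : ↥K →* ℂˣ) :
    classInner (theta K μ) (theta K μ') =
      ∑ χ : IrrCharacter G, mult K μ (χ : G → ℂ) * conj (mult K μ' (χ : G → ℂ)) := by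
  classical
  conv_lhs => rw [theta_expand K μ, theta_expand K μ']
  exact Cfsg.Agent.Lib.Helper10.classInner_sum_smul_sum_smul Finset.univ
    (fun χ : IrrCharacter G => (χ : G → ℂ))
    (fun i _ j _ => by
      rw [classInner_irr' i j]) _ _

omit [Fintype G] in
/-- values of a linear character at the involution `t` -/
lemma lin_t_sq {K : Subgroup G} (μ : ↥K →* ℂˣ) (t' : ↥K) (ht' : t' * t' = 1) :
    ((μ t' : ℂˣ) : ℂ) = 1 ∨ ((μ t' : ℂˣ) : ℂ) = -1 := by
  have h1 : μ t' * μ t' = 1 := by rw [← map_mul, ht', map_one]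
  have h2 : ((μ t' : ℂˣ) : ℂ) * ((μ t' : ℂˣ) : ℂ) = 1 := by
    rw [← Units.val_mul, h1, Units.val_one]
  have h3 : (((μ t' : ℂˣ) : ℂ) - 1) * (((μ t' : ℂˣ) : ℂ) + 1) = 0 := by ring_nf; rw [← h2]; ring
  rcases mul_eq_zero.mp h3 with h | h
  · left; exact sub_eq_zero.mp h
  · right; exact eq_neg_of_add_eq_zero_left h

omit [Fintype G] in
lemma hom_inv_ne_one {K : Subgroup G} (μ : ↥K →* ℂˣ) (hμ : μ ≠ 1) : μ⁻¹ ≠ 1 := by
  intro h1
  apply hμ
  refine MonoidHom.ext fun x => ?_
  have := DFunLike.congr_fun h1 x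
  simp only [MonoidHom.inv_apply, MonoidHom.one_apply, inv_eq_one] at this
  simp [this]

omit [Fintype G] in
lemma hom_inv_inv {K : Subgroup G} (μ : ↥K →* ℂˣ) : μ⁻¹⁻¹ = μ := by
  refine MonoidHom.ext fun x => ?_
  simp

omit [Fintype G] in
lemma hom_inv_eq_self_iff {K : Subgroup G} (μ : ↥K →* ℂˣ) : μ⁻¹ = μ ↔ μ * μ = 1 := by
  constructor
  · intro h
    refine MonoidHom.ext fun x => ?_
    have := DFunLike.congr_fun h x
    simp only [MonoidHom.inv_apply] at this
    simp only [MonoidHom.mul_apply, MonoidHom.one_apply]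
    rw [inv_eq_iff_mul_eq_one] at this
    exact this
  · intro h
    refine MonoidHom.ext fun x => ?_
    have := DFunLike.congr_fun h x
    simp only [MonoidHom.mul_apply, MonoidHom.one_apply] at this
    simp only [MonoidHom.inv_apply]
    rw [inv_eq_iff_mul_eq_one, this]

omit [Fintype G] in
/-- the dual of a finite abelian group has the same order. -/
lemma card_dual {K : Subgroup G} [Fintype ↥K] [Fintype (↥K →* ℂˣ)]
    (hcomm : ∀ a b : ↥K, a * b = b * a) :
    Fintype.card (↥K →* ℂˣ) = Fintype.card ↥K := by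
  classical
  have h1 := sum_dual_apply hcomm (1 : ↥K)
  simp only [map_one, Units.val_one, Finset.sum_const, Finset.card_univ, nsmul_eq_mul, mul_one,
    if_true] at h1
  exact_mod_cast h1

omit [Fintype G] in
/-- there is a linear character different from `1` and `ν`. -/
lemma exists_ne_nu {K : Subgroup G} [Finite ↥K] (hcomm : ∀ a b : ↥K, a * b = b * a)
    (hk : 4 ≤ Nat.card K) (ν : ↥K →* ℂˣ) (hν1 : ν ≠ 1) :
    ∃ μ : ↥K →* ℂˣ, μ ≠ 1 ∧ μ ≠ ν := by
  classical
  let _ : Fintype ↥K := Fintype.ofFinite _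
  let _ : Fintype (↥K →* ℂˣ) := Fintype.ofFinite _
  by_contra hcon
  push Not at hcon
  have hall : ∀ μ : ↥K →* ℂˣ, μ = 1 ∨ μ = ν := by
    intro μ
    by_cases hμ : μ = 1
    · left; exact hμ
    · right; exact hcon μ hμ
  have hinj : Function.Injective (fun μ : ↥K →* ℂˣ => decide (μ = 1)) := by
    intro a b hab
    simp only [decide_eq_decide] at hab
    rcases hall a with ha | ha <;> rcases hall b with hb | hb
    · rw [ha, hb]
    · exact absurd (hab.mp ha) (hb ▸ hν1)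
    · exact absurd (hab.mpr hb) (ha ▸ hν1)
    · rw [ha, hb]
  have h1 := Fintype.card_le_of_injective _ hinj
  rw [card_dual hcomm, Fintype.card_bool, ← Nat.card_eq_fintype_card] at h1
  omega

end Cfsg.Agent.Lib.Helper1.BSWCBase
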