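import Mathlib
import Cfsg.Prelude.Def_Characters
import Cfsg.Agent.Lib.Helper24.BSWDefs
import Cfsg.Agent.Lib.Helper1.BSWCDefs
import Cfsg.Agent.Lib.Helper10.PowTwistChar
import Cfsg.Agent.Lib.Helper1.BSWCBase
import Cfsg.Agent.Lib.Helper2.BSWCT2
import Cfsg.Agent.Lib.Helper21.BSWCE2

/-!
# S3282 batch 2, leaf V5 `pairCount_RR` in `_of` form (helper1, twin of helper2)
-/

set_option autoImplicit false

namespace Cfsg.Agent.Lib.Helper1.BSWCV5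

open Cfsg Cfsg.Agent.Lib.Helper24.BSW Cfsg.Agent.CharLib Cfsg.Agent.Lib.Helper1.BSWC
open Cfsg.Agent.Lib.Helper1.BSWCBase
open scoped ComplexConjugate

universe u

variable {G : Type u} [Group G] [Fintype G]

omit [Fintype G] in
lemma inv_mem_RR {K : Subgroup G} {y : G} (hy : y ∈ RR K) : y⁻¹ ∈ RR K := by
  refine ⟨fun h1 => hy.1 (inv_eq_one.mp h1), fun x hx => hy.2 x ?_⟩
  have h2 : x * y * x⁻¹ = (x * y⁻¹ * x⁻¹)⁻¹ := by group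
  rw [h2]
  exact K.inv_mem hx

omit [Fintype G] in
lemma t_mem_KK {t s : G} {K : Subgroup G} (h : Hyp t s K) : t ∈ KK K := by
  refine ⟨?_, 1, by simpa using h.htK⟩
  intro h1
  have := h.ht
  rw [h1, orderOf_one] at this
  norm_num at this

/-- `L_μ = X + ε` where `Θ_μ` vanishes. -/
lemma L_apply_of_theta_zero {K : Subgroup G} [Fintype (IrrCharacter G)]
    {ν : ↥K →* ℂˣ} {ε : ℤ} {X : IrrCharacter G} {L : (↥K →* ℂˣ) → IrrCharacter G}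
    {Y₁ Y₂ : IrrCharacter G} (hc : Coh K ν ε X L Y₁ Y₂) (μ : ↥K →* ℂˣ) (hμ : μ ≠ 1) (hμν : μ ≠ ν)
    (g : G) (hg : theta K μ g = 0) :
    (L μ : G → ℂ) g = (X : G → ℂ) g + (ε : ℂ) := by
  classical
  have hε2 : (ε : ℂ) * (ε : ℂ) = 1 := by
    rcases hc.hε with h1 | h1 <;> rw [h1] <;> norm_num
  have h1 := theta_apply_expand K μ g
  rw [hg] at h1
  have h2 : ∀ χ : IrrCharacter G, mult K μ (χ : G → ℂ) * (χ : G → ℂ) g =
      (if χ = trivIrr G then (χ : G → ℂ) g else 0) + (if χ = X then (ε : ℂ) * (χ : G → ℂ) g else 0)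
        - (if χ = L μ then (ε : ℂ) * (χ : G → ℂ) g else 0) := by
    intro χ
    rw [hc.multL μ hμ hμν χ]
    split_ifs <;> ring
  rw [Finset.sum_congr rfl (fun χ _ => h2 χ), Finset.sum_sub_distrib, Finset.sum_add_distrib,
    Finset.sum_ite_eq' Finset.univ, Finset.sum_ite_eq' Finset.univ,
    Finset.sum_ite_eq' Finset.univ] at h1
  simp only [Finset.mem_univ, if_true] at h1
  have ht1 : ((trivIrr G : IrrCharacter G) : G → ℂ) g = 1 := rfl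
  rw [ht1] at h1
  linear_combination (ε : ℂ) * h1 - ((L μ : G → ℂ) g - (X : G → ℂ) g) * hε2

/-- `Y₁ + Y₂ = X + ε` where `Θ_ν` vanishes. -/
lemma Y_apply_of_theta_zero {K : Subgroup G} [Fintype (IrrCharacter G)]
    {ν : ↥K →* ℂˣ} {ε : ℤ} {X : IrrCharacter G} {L : (↥K →* ℂˣ) → IrrCharacter G}
    {Y₁ Y₂ : IrrCharacter G} (hc : Coh K ν ε X L Y₁ Y₂)
    (g : G) (hg : theta K ν g = 0) :
    (Y₁ : G → ℂ) g + (Y₂ : G → ℂ) g = (X : G → ℂ) g + (ε : ℂ) := by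
  classical
  have hε2 : (ε : ℂ) * (ε : ℂ) = 1 := by
    rcases hc.hε with h1 | h1 <;> rw [h1] <;> norm_num
  have h1 := theta_apply_expand K ν g
  rw [hg] at h1
  have h2 : ∀ χ : IrrCharacter G, mult K ν (χ : G → ℂ) * (χ : G → ℂ) g =
      (if χ = trivIrr G then (χ : G → ℂ) g else 0) + (if χ = X then (ε : ℂ) * (χ : G → ℂ) g else 0)
        - (if χ = Y₁ then (ε : ℂ) * (χ : G → ℂ) g else 0)
        - (if χ = Y₂ then (ε : ℂ) * (χ : G → ℂ) g else 0) := by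
    intro χ
    rw [hc.multν χ]
    split_ifs <;> ring
  rw [Finset.sum_congr rfl (fun χ _ => h2 χ), Finset.sum_sub_distrib, Finset.sum_sub_distrib,
    Finset.sum_add_distrib,
    Finset.sum_ite_eq' Finset.univ, Finset.sum_ite_eq' Finset.univ,
    Finset.sum_ite_eq' Finset.univ, Finset.sum_ite_eq' Finset.univ] at h1
  simp only [Finset.mem_univ, if_true] at h1
  have ht1 : ((trivIrr G : IrrCharacter G) : G → ℂ) g = 1 := rfl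
  rw [ht1] at h1
  linear_combination (ε : ℂ) * h1 -
    ((Y₁ : G → ℂ) g + (Y₂ : G → ℂ) g - (X : G → ℂ) g) * hε2

/-- counting the `μ ∉ {1, ν}`. -/
lemma sum_ite_const {K : Subgroup G} [Fintype (↥K →* ℂˣ)]
    (hcomm : ∀ a b : ↥K, a * b = b * a) (ν : ↥K →* ℂˣ) (hν1 : ν ≠ 1) (c : ℂ) :
    ∑ μ : ↥K →* ℂˣ, (open Classical in if μ = 1 ∨ μ = ν then 0 else c) =
      ((Nat.card K : ℂ) - 2) * c := by
  classical
  have h1 : ∀ μ : ↥K →* ℂˣ, (if μ = 1 ∨ μ = ν then (0 : ℂ) else c) =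
      c - (if μ = 1 then c else 0) - (if μ = ν then c else 0) := by
    intro μ
    by_cases h1 : μ = 1
    · have : μ ≠ ν := fun h2 => hν1 (h2 ▸ h1)
      rw [if_pos (Or.inl h1), if_pos h1, if_neg this]; ring
    · by_cases h2 : μ = ν
      · rw [if_pos (Or.inr h2), if_neg h1, if_pos h2]; ring
      · rw [if_neg (by tauto), if_neg h1, if_neg h2]; ring
  rw [Finset.sum_congr rfl (fun μ _ => h1 μ), Finset.sum_sub_distrib, Finset.sum_sub_distrib,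
    Finset.sum_ite_eq' Finset.univ, Finset.sum_ite_eq' Finset.univ]
  simp only [Finset.mem_univ, if_true, Finset.sum_const, Finset.card_univ, nsmul_eq_mul]
  rw [card_dual hcomm, ← Nat.card_eq_fintype_card]
  ring

/-- **V5** in `_of` form over V1 `table` (`hV1`) and V2 `sum_split` (`hV2`). -/
theorem pairCount_RR_of {t s : G} {K : Subgroup G} (h : Hyp t s K) (hk : 4 ≤ Nat.card K)
    [Fintype (IrrCharacter G)] [Fintype (↥K →* ℂˣ)]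
    {ν : ↥K →* ℂˣ} (hν : ν ≠ 1 ∧ ν * ν = 1 ∧ ∀ μ : ↥K →* ℂˣ, μ * μ = 1 → μ = 1 ∨ μ = ν)
    {ε : ℤ} {X : IrrCharacter G} {L : (↥K →* ℂˣ) → IrrCharacter G} {Y₁ Y₂ : IrrCharacter G}
    (hc : Coh K ν ε X L Y₁ Y₂) (q : ℕ) (hq : (q : ℤ) = 2 * (Nat.card K : ℤ) + ε)
    (hcard : (Nat.card G : ℤ) = (Nat.card K : ℤ) * q * (q + ε))
    (hdeg : (X : G → ℂ) 1 = (q : ℂ)) (hint : ∀ g : G, ∃ n : ℤ, (X : G → ℂ) g = (n : ℂ))
    (hV1 : (∀ g ∈ KK K, (X : G → ℂ) g = (ε : ℂ)) ∧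
      (∃ b : ℤ, (X : G → ℂ) 1 = (b : ℂ) * (Nat.card K : ℂ) + (ε : ℂ)) ∧
      (∀ μ : ↥K →* ℂˣ, μ ≠ 1 → μ ≠ ν → ((L μ : G → ℂ) t) ^ 2 = 4) ∧
      ((Y₁ : G → ℂ) t) ^ 2 = 1 ∧ ((Y₂ : G → ℂ) t) ^ 2 = 1 ∧
      (∀ χ : IrrCharacter G, χ ≠ trivIrr G → χ ≠ X → χ ≠ Y₁ → χ ≠ Y₂ →
        (∀ μ : ↥K →* ℂˣ, μ ≠ 1 → μ ≠ ν → χ ≠ L μ) → (χ : G → ℂ) t = 0))
    (hV2 : ∀ F : IrrCharacter G → ℂ,
      (∀ χ : IrrCharacter G, χ ≠ trivIrr G → χ ≠ X → χ ≠ Y₁ → χ ≠ Y₂ →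
        (∀ μ : ↥K →* ℂˣ, μ ≠ 1 → μ ≠ ν → χ ≠ L μ) → F χ = 0) →
      2 * ∑ χ : IrrCharacter G, F χ = 2 * (F (trivIrr G) + F X + F Y₁ + F Y₂) +
        ∑ μ : ↥K →* ℂˣ, (open Classical in if μ = 1 ∨ μ = ν then 0 else F (L μ)))
    (y : G) (hy : y ∈ RR K) :
    ((X : G → ℂ) y = 0 → (pairCount y : ℤ) * 2 = q * (1 + ε)) ∧
    ((X : G → ℂ) y = -(ε : ℂ) → (pairCount y : ℤ) = (Nat.card K : ℤ) + ε) := by
  classical
  have hcomm : ∀ a b : ↥K, a * b = b * a := fun a b => h.hKab.is_comm.comm a b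
  obtain ⟨hXKK, -, hLt, hY1t, hY2t, hother⟩ := hV1
  have hyinv : y⁻¹ ∈ RR K := inv_mem_RR hy
  obtain ⟨a, ha⟩ := hint y
  have hXinv : (X : G → ℂ) y⁻¹ = (a : ℂ) := by
    rw [IsCharacter.apply_inv (IsIrrCharacter.isCharacter X.2) y, ha, map_intCast]
  have hXt : (X : G → ℂ) t = (ε : ℂ) := hXKK t (t_mem_KK h)
  have hε2 : (ε : ℂ) * (ε : ℂ) = 1 := by
    rcases hc.hε with h1 | h1 <;> rw [h1] <;> norm_num
  -- the values at `y⁻¹`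
  have hLy : ∀ μ : ↥K →* ℂˣ, μ ≠ 1 → μ ≠ ν → (L μ : G → ℂ) y⁻¹ = (a : ℂ) + (ε : ℂ) := by
    intro μ hμ hμν
    rw [L_apply_of_theta_zero hc μ hμ hμν y⁻¹
      (Cfsg.Agent.Lib.Helper2.BSWCT2.theta_apply_RR K μ y⁻¹ hyinv), hXinv]
  have hYy : (Y₁ : G → ℂ) y⁻¹ + (Y₂ : G → ℂ) y⁻¹ = (a : ℂ) + (ε : ℂ) := by
    rw [Y_apply_of_theta_zero hc y⁻¹
      (Cfsg.Agent.Lib.Helper2.BSWCT2.theta_apply_RR K ν y⁻¹ hyinv), hXinv]
  -- the numbers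
  have hkC : (Nat.card K : ℂ) ≠ 0 := by
    have : Nat.card K ≠ 0 := by omega
    exact_mod_cast this
  have hqC : (q : ℂ) = 2 * (Nat.card K : ℂ) + (ε : ℂ) := by exact_mod_cast hq
  have hGC : (Nat.card G : ℂ) = (Nat.card K : ℂ) * (q : ℂ) * ((q : ℂ) + (ε : ℂ)) := by
    exact_mod_cast hcard
  have hq0 : (q : ℂ) ≠ 0 := by
    rw [← hdeg]
    obtain ⟨n, hn, hn1⟩ := IsIrrCharacter.apply_one_pos X.2
    rw [hn1]; exact_mod_cast hn.ne'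
  have hY1 : (Y₁ : G → ℂ) 1 ≠ 0 := by
    obtain ⟨n, hn, hn1⟩ := IsIrrCharacter.apply_one_pos Y₁.2
    rw [hn1]; exact_mod_cast hn.ne'
  have hqe : (q : ℂ) + (ε : ℂ) ≠ 0 := by
    rw [← hdeg, ← hc.degY.2]
    exact mul_ne_zero two_ne_zero hY1
  -- the function `F`
  set F : IrrCharacter G → ℂ := fun χ =>
    (χ : G → ℂ) t * (χ : G → ℂ) t * (χ : G → ℂ) y⁻¹ / (χ : G → ℂ) 1 with hF
  have hF0 : ∀ χ : IrrCharacter G, χ ≠ trivIrr G → χ ≠ X → χ ≠ Y₁ → χ ≠ Y₂ →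
      (∀ μ : ↥K →* ℂˣ, μ ≠ 1 → μ ≠ ν → χ ≠ L μ) → F χ = 0 := by
    intro χ h1 h2 h3 h4 h5
    simp only [hF]
    rw [hother χ h1 h2 h3 h4 h5]
    simp
  have hsplit := hV2 F hF0
  have hFtriv : F (trivIrr G) = 1 := by
    simp only [hF]
    have ht1 : ((trivIrr G : IrrCharacter G) : G → ℂ) = 1 := rfl
    rw [ht1]; simp
  have hFX : F X = (a : ℂ) / (q : ℂ) := by
    simp only [hF]
    rw [hXt, hXinv, hdeg, hε2, one_mul]
  have hFY : F Y₁ + F Y₂ = 2 * ((a : ℂ) + (ε : ℂ)) / ((q : ℂ) + (ε : ℂ)) := by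
    simp only [hF]
    rw [← hc.degY.1, ← pow_two, ← pow_two, hY1t, hY2t, one_mul, one_mul, ← add_div, hYy,
      ← hdeg, ← hc.degY.2]
    field_simp
  have hFL : ∀ μ : ↥K →* ℂˣ, μ ≠ 1 → μ ≠ ν →
      F (L μ) = 4 * ((a : ℂ) + (ε : ℂ)) / ((q : ℂ) + (ε : ℂ)) := by
    intro μ hμ hμν
    simp only [hF]
    rw [← pow_two, hLt μ hμ hμν, hLy μ hμ hμν, hc.degL μ hμ hμν, hdeg]
  have hsumL : ∑ μ : ↥K →* ℂˣ, (if μ = 1 ∨ μ = ν then 0 else F (L μ)) =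
      ((Nat.card K : ℂ) - 2) * (4 * ((a : ℂ) + (ε : ℂ)) / ((q : ℂ) + (ε : ℂ))) := by
    rw [← sum_ite_const hcomm ν hν.1]
    apply Finset.sum_congr rfl
    intro μ _
    by_cases h1 : μ = 1 ∨ μ = ν
    · rw [if_pos h1, if_pos h1]
    · rw [if_neg h1, if_neg h1]
      push Not at h1
      exact hFL μ h1.1 h1.2
  have hE2 := Cfsg.Agent.Lib.Helper21.BSWCE2.pairCount_formula h y
  change (pairCount y : ℂ) * (2 * (Nat.card K : ℂ)) ^ 2 =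
    (Nat.card G : ℂ) * ∑ χ : IrrCharacter G, F χ at hE2
  -- division-free equation
  have hmain : (pairCount y : ℂ) * (4 * (Nat.card K : ℂ)) =
      (q : ℂ) * ((q : ℂ) + (ε : ℂ)) + ((q : ℂ) + (ε : ℂ)) * (a : ℂ) +
        2 * (q : ℂ) * ((a : ℂ) + (ε : ℂ)) * ((Nat.card K : ℂ) - 1) := by
    have h2 : 2 * ∑ χ : IrrCharacter G, F χ =
        2 * (1 + (a : ℂ) / (q : ℂ) + 2 * ((a : ℂ) + (ε : ℂ)) / ((q : ℂ) + (ε : ℂ))) +
        ((Nat.card K : ℂ) - 2) * (4 * ((a : ℂ) + (ε : ℂ)) / ((q : ℂ) + (ε : ℂ))) := by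
      rw [hsplit, hsumL, hFtriv, hFX, add_assoc (1 + (a : ℂ) / (q : ℂ)), hFY]
    have h3 : (pairCount y : ℂ) * (2 * (Nat.card K : ℂ)) ^ 2 * 2 =
        (Nat.card G : ℂ) * (2 * ∑ χ : IrrCharacter G, F χ) := by rw [hE2]; ring
    rw [h2, hGC] at h3
    have h4 : (Nat.card K : ℂ) * (q : ℂ) * ((q : ℂ) + (ε : ℂ)) *
        (2 * (1 + (a : ℂ) / (q : ℂ) + 2 * ((a : ℂ) + (ε : ℂ)) / ((q : ℂ) + (ε : ℂ))) +
        ((Nat.card K : ℂ) - 2) * (4 * ((a : ℂ) + (ε : ℂ)) / ((q : ℂ) + (ε : ℂ)))) =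
        2 * (Nat.card K : ℂ) * ((q : ℂ) * ((q : ℂ) + (ε : ℂ)) + ((q : ℂ) + (ε : ℂ)) * (a : ℂ) +
        2 * (q : ℂ) * ((a : ℂ) + (ε : ℂ)) * ((Nat.card K : ℂ) - 1)) := by
      field_simp
      ring
    rw [h4] at h3
    have h5 : (2 * (Nat.card K : ℂ)) ≠ 0 := mul_ne_zero two_ne_zero hkC
    apply mul_left_cancel₀ h5
    rw [← h3]; ring
  have hmainZ : (pairCount y : ℤ) * (4 * (Nat.card K : ℤ)) =
      (q : ℤ) * ((q : ℤ) + ε) + ((q : ℤ) + ε) * a +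
        2 * (q : ℤ) * (a + ε) * ((Nat.card K : ℤ) - 1) := by exact_mod_cast hmain
  have hkZ : (0 : ℤ) < (Nat.card K : ℤ) := by exact_mod_cast (by omega : 0 < Nat.card K)
  have hεZ : ε * ε = 1 := by rcases hc.hε with h1 | h1 <;> rw [h1] <;> norm_num
  constructor
  · intro h0
    have ha0 : a = 0 := by
      rw [ha] at h0; exact_mod_cast h0
    rw [ha0] at hmainZ
    have h6 : (2 * (Nat.card K : ℤ)) * ((pairCount y : ℤ) * 2) =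
        (2 * (Nat.card K : ℤ)) * ((q : ℤ) * (1 + ε)) := by
      rw [hq] at hmainZ ⊢
      linear_combination hmainZ
    exact mul_left_cancel₀ (by positivity) h6
  · intro h0
    have ha0 : a = -ε := by
      rw [ha] at h0; exact_mod_cast h0
    rw [ha0] at hmainZ
    have h6 : (4 * (Nat.card K : ℤ)) * (pairCount y : ℤ) =
        (4 * (Nat.card K : ℤ)) * ((Nat.card K : ℤ) + ε) := by
      rw [hq] at hmainZ
      linear_combination hmainZ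
    exact mul_left_cancel₀ (by positivity) h6

end Cfsg.Agent.Lib.Helper1.BSWCV5
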