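/-
S3282 batch 2 (characters): the 21 frozen leaves of `notes/S3282_leaves2.lean`, VERBATIM statements,
each closed by the landed module of its taker (aggregator for helper1's spine `BSWCoh`/`BSWChar`).
-/
import Mathlib
import Cfsg.Prelude.Def_Characters
import Cfsg.Agent.Lib.Helper24.BSWDefs
import Cfsg.Agent.Lib.Helper1.BSWCDefs
import Cfsg.Agent.Lib.Helper10.PowTwistChar
import Cfsg.Agent.Lib.Helper1.BSWCV5
import Cfsg.Agent.Lib.Helper14.BSWCD1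
import Cfsg.Agent.Lib.Helper14.BSWCD2
import Cfsg.Agent.Lib.Helper14.BSWCE1
import Cfsg.Agent.Lib.Helper14.BSWCE4
import Cfsg.Agent.Lib.Helper14.BSWCE5
import Cfsg.Agent.Lib.Helper2.BSWCT1
import Cfsg.Agent.Lib.Helper2.BSWCT2
import Cfsg.Agent.Lib.Helper2.BSWCT4
import Cfsg.Agent.Lib.Helper2.BSWCT5
import Cfsg.Agent.Lib.Helper2.BSWCT6
import Cfsg.Agent.Lib.Helper2.BSWCV1
import Cfsg.Agent.Lib.Helper2.BSWCV3
import Cfsg.Agent.Lib.Helper2.BSWCV4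
import Cfsg.Agent.Lib.Helper21.BSWCE2
import Cfsg.Agent.Lib.Helper5.BSWCE3Of
import Cfsg.Agent.Lib.Helper5.BSWCT3
import Cfsg.Agent.Lib.Helper5.BSWCT7
import Cfsg.Agent.Lib.Helper5.BSWCV2
import Cfsg.Agent.Lib.Helper9.BSWCARITH
import Cfsg.Agent.Lib.Helper9.BSWCLAT
import Cfsg.Agent.Lib.Lead.CharMain

set_option autoImplicit false
open Cfsg Cfsg.Agent.Lib.Helper24.BSW Cfsg.Agent.CharLib Cfsg.Agent.Lib.Helper1.BSWC
open scoped ComplexConjugate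

namespace Cfsg.Agent.Lib.Helper1.BSWCAll

universe u

variable {G : Type u} [Group G] [Fintype G]

/-! ## T : the generalized characters `Θ_μ` -/

/-- **T1** (T.I. induction formula) `Θ_μ(g x g⁻¹) = 2 - μ(x) - μ(x⁻¹)` for `1 ≠ x ∈ K`.
(`indFun K α` is a class function; in `|K|⁻¹ ∑_c ext(c⁻¹ x c)` only `c ∈ C(t)` contribute (B4);
`c ∈ K` gives `x`, `c ∈ C(t) \ K` gives `x⁻¹` (B3); `|C(t)| = 2|K|` (B1).) -/
theorem theta_apply_conj {t s : G} {K : Subgroup G} (h : Hyp t s K) (μ : ↥K →* ℂˣ) (g : G) (x : ↥K)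
    (hx : x ≠ 1) :
    theta K μ (g * (x : G) * g⁻¹) = 2 - ((μ x : ℂˣ) : ℂ) - ((μ x⁻¹ : ℂˣ) : ℂ) := by exact Cfsg.Agent.Lib.Helper2.BSWCT1.theta_apply_conj h μ g x hx

/-- **T2** `Θ_μ` vanishes on `RR K` and at `1`. (No conjugate of `y ∈ RR K` lies in `K`; `1 - μ 1 = 0`.) -/
theorem theta_apply_RR (K : Subgroup G) (μ : ↥K →* ℂˣ) (y : G) (hy : y ∈ RR K) : theta K μ y = 0 := by
  exact Cfsg.Agent.Lib.Helper2.BSWCT2.theta_apply_RR K μ y hy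
theorem theta_apply_one (K : Subgroup G) (μ : ↥K →* ℂˣ) : theta K μ 1 = 0 := by exact Cfsg.Agent.Lib.Helper2.BSWCT2.theta_apply_one K μ

/-- **T3** `Θ_μ` is a generalized character and a class function. -/
theorem isGenChar_theta (K : Subgroup G) (μ : ↥K →* ℂˣ) : IsGeneralizedCharacter G (theta K μ) := by
  exact Cfsg.Agent.Lib.Helper5.BSWCT3.isGenChar_theta K μ
theorem isClassFunction_theta (K : Subgroup G) (μ : ↥K →* ℂˣ) : IsClassFunction G (theta K μ) := by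
  exact Cfsg.Agent.Lib.Helper5.BSWCT3.isClassFunction_theta K μ

open Classical in
/-- **T4** (Gram matrix) `⟨Θ_μ, Θ_μ'⟩ = 2 + [μ = μ'] + [μ = μ'⁻¹]` for `μ, μ' ≠ 1`.
(Frobenius reciprocity, T1 and T2 at `1`: `⟨Θ_μ, Θ_μ'⟩ = ⟨1 - μ, (1 - μ') + (1 - μ'⁻¹)⟩_K` because
`1 - μ` vanishes at `1`; orthogonality of linear characters of `K`.) -/
theorem classInner_theta_theta {t s : G} {K : Subgroup G} (h : Hyp t s K) (μ μ' : ↥K →* ℂˣ)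
    (hμ : μ ≠ 1) (hμ' : μ' ≠ 1) :
    classInner (theta K μ) (theta K μ') =
      2 + (if μ = μ' then 1 else 0) + (if μ = μ'⁻¹ then 1 else 0) := by exact Cfsg.Agent.Lib.Helper2.BSWCT4.classInner_theta_theta h μ μ' hμ hμ'

/-- **T5** `⟨Θ_μ, 1_G⟩ = 1` for `μ ≠ 1` (Frobenius reciprocity). -/
theorem classInner_theta_one (K : Subgroup G) (μ : ↥K →* ℂˣ) (hμ : μ ≠ 1) :
    classInner (theta K μ) (1 : G → ℂ) = 1 := by exact Cfsg.Agent.Lib.Helper2.BSWCT5.classInner_theta_one K μ hμ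

/-- **T6** `Θ_{μ⁻¹} = Θ_μ`. (Both are class functions vanishing at `1` and on `RR`, and equal to
`2 - μ(x) - μ(x⁻¹)` on the conjugates of `1 ≠ x ∈ K` (T1, T2); every `g ≠ 1` is in `KK` or `RR`.) -/
theorem theta_inv {t s : G} {K : Subgroup G} (h : Hyp t s K) (μ : ↥K →* ℂˣ) :
    theta K μ⁻¹ = theta K μ := by exact Cfsg.Agent.Lib.Helper2.BSWCT6.theta_inv h μ

/-- **T7** power-map twists: `Θ_μ(g^n) = Θ_{μ^n}(g)` for `n` prime to `|G|`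
(`Helper10.powTwist_indFun`). -/
theorem powTwist_theta (K : Subgroup G) (μ : ↥K →* ℂˣ) (n : ℕ) (hn : n.Coprime (Nat.card G)) :
    Cfsg.Agent.Lib.Helper10.powTwist n (theta K μ) = theta K (μ ^ n) := by exact Cfsg.Agent.Lib.Helper5.BSWCT7.powTwist_theta K μ n hn

/-! ## D : the dual group of `K` -/

/-- **D1** `K` (abelian, `t` its only involution: B2) has exactly one linear character of order 2.
(`(↥K →* ℂˣ) ≃* ↥K` non-canonically, or: `x ↦ x²` has kernel `{1,t}`, so its image `K²` has index 2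
and every `μ` with `μ² = 1` is trivial on `K²`; `ν` := the sign character of `K/K²`.) -/
theorem exists_nu {t s : G} {K : Subgroup G} (h : Hyp t s K) :
    ∃ ν : ↥K →* ℂˣ, ν ≠ 1 ∧ ν * ν = 1 ∧ ∀ μ : ↥K →* ℂˣ, μ * μ = 1 → μ = 1 ∨ μ = ν := by exact Cfsg.Agent.Lib.Helper14.BSWCD1.exists_nu h

/-- **D2** the values of a character `χ` of `G` on `K` in terms of the `m(χ, μ)`:
`χ(y) = - ∑_μ m(χ,μ) μ(y)` for `1 ≠ y ∈ K` and `χ(1) = a k - ∑_μ m(χ,μ)` with `a ∈ ℕ`.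
(`a_μ := ⟨χ|_K, μ⟩_K ∈ ℕ` (restriction is a character, `μ` is irreducible);
`m(χ,μ) = ⟨1 - μ, χ|_K⟩_K = a_1 - a_μ` by Frobenius reciprocity (note `m(χ,1) = 0`);
Fourier inversion on `K` (`Lead/BrLeo4.fourier_inversion`): `χ(y) = ∑_μ a_μ μ(y)`, and
`∑_μ μ(y) = 0` for `y ≠ 1`, `= k` for `y = 1` (`sum_dual_apply`).) -/
theorem apply_of_mem {t s : G} {K : Subgroup G} (h : Hyp t s K) [Fintype (↥K →* ℂˣ)] {χ : G → ℂ}
    (hχ : IsCharacter G χ) (y : ↥K) (hy : y ≠ 1) :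
    χ (y : G) = - ∑ μ : ↥K →* ℂˣ, mult K μ χ * ((μ y : ℂˣ) : ℂ) := by exact Cfsg.Agent.Lib.Helper14.BSWCD2.apply_of_mem h hχ y hy
theorem apply_one_eq {t s : G} {K : Subgroup G} (h : Hyp t s K) [Fintype (↥K →* ℂˣ)] {χ : G → ℂ}
    (hχ : IsCharacter G χ) :
    ∃ a : ℕ, χ 1 = (a : ℂ) * (Nat.card K : ℂ) - ∑ μ : ↥K →* ℂˣ, mult K μ χ := by exact Cfsg.Agent.Lib.Helper14.BSWCD2.apply_one_eq h hχ

/-! ## E : the count of pairs of involutions -/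

/-- **E1** `pairCount = k` on `KK`.  (`pairCount` is conjugation invariant, so let `1 ≠ g ∈ K`.  If
`u v = g` with involutions `u, v` then `u` inverts `g`; for `g ≠ t`: `u g u⁻¹ = g⁻¹ ∈ K` gives
`u ∈ C(t)` (B4), `u ∉ K` (`K` abelian, `g² ≠ 1` by B2), so `u` is one of the `k` elements of
`C(t) \ K`, all of which are involutions inverting `g` (B3), and `v = u g` is then an involution.
For `g = t`: `u, v ∈ C(t)`, `u ≠ t`, so again `u ∈ C(t) \ K` and `v = u t`.) -/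
theorem pairCount_of_mem_KK {t s : G} {K : Subgroup G} (h : Hyp t s K) (g : G) (hg : g ∈ KK K) :
    pairCount g = Nat.card K := by exact Cfsg.Agent.Lib.Helper14.BSWCE1.pairCount_of_mem_KK h g hg

/-- **E2** class multiplication: `pairCount z * (2k)² = |G| ∑_χ χ(t)² χ(z⁻¹) / χ(1)`.
(`Helper24.Ord4320.card_pairs_conj t t z` and `class_mul_count t t z`; the involutions are exactly
the conjugates of `t`; `|C(t)| = 2k` (B1).) -/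
theorem pairCount_formula {t s : G} {K : Subgroup G} (h : Hyp t s K) [Fintype (IrrCharacter G)]
    (z : G) :
    (pairCount z : ℂ) * (2 * (Nat.card K : ℂ)) ^ 2 =
      (Nat.card G : ℂ) * ∑ χ : IrrCharacter G,
        (χ : G → ℂ) t * (χ : G → ℂ) t * (χ : G → ℂ) z⁻¹ / (χ : G → ℂ) 1 := by exact Cfsg.Agent.Lib.Helper21.BSWCE2.pairCount_formula h z

/-- **E3** the test equation: `4 k³ = |G| ∑_χ m(χ,μ) χ(t)² / χ(1)` for `μ ≠ 1`.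
(`S := ∑_z pairCount z * Θ_μ z`.  By E1, T2: `S = k ∑_z Θ_μ z = k |G| ⟨Θ_μ, 1⟩ = k |G|` (T5).
By E2: `S (2k)² = |G| ∑_χ χ(t)²/χ(1) ∑_z Θ_μ(z) χ(z⁻¹) = |G|² ∑_χ χ(t)²/χ(1) m(χ,μ)`.) -/
theorem test_eq {t s : G} {K : Subgroup G} (h : Hyp t s K) [Fintype (IrrCharacter G)]
    (μ : ↥K →* ℂˣ) (hμ : μ ≠ 1) :
    4 * (Nat.card K : ℂ) ^ 3 = (Nat.card G : ℂ) * ∑ χ : IrrCharacter G,
        mult K μ (χ : G → ℂ) * ((χ : G → ℂ) t) ^ 2 / (χ : G → ℂ) 1 := by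
  exact Cfsg.Agent.Lib.Helper5.BSWCE3Of.test_eq_of μ (fun g hg => pairCount_of_mem_KK h g hg)
    (fun z => pairCount_formula h z) (fun y hy => theta_apply_RR K μ y hy) (theta_apply_one K μ)
    (classInner_theta_one K μ hμ)

omit [Fintype G] in
/-- **E4** (pure) for `y` not an involution, `pairCount y = invCount y` (`(u, v) ↦ u`, inverse
`u ↦ (u, u⁻¹ y)`: `u y u⁻¹ = y⁻¹` iff `(u⁻¹ y)² = 1`, and `u⁻¹ y ≠ 1` as `y` is not an involution). -/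
theorem pairCount_eq_invCount [Finite G] (y : G) (hy : orderOf y ≠ 2) : pairCount y = invCount y := by
  exact Cfsg.Agent.Lib.Helper14.BSWCE4.pairCount_eq_invCount y hy

/-- **E5** `|KK| * 2k = |G| (k - 1)`: the `[G : C(t)]` conjugates of `K \ 1` are pairwise disjoint
(T.I., `N(K) = C(t)`: B4/B5). -/
theorem card_KK {t s : G} {K : Subgroup G} (h : Hyp t s K) :
    Nat.card (KK K) * (2 * Nat.card K) = Nat.card G * (Nat.card K - 1) := by exact Cfsg.Agent.Lib.Helper14.BSWCE5.card_KK h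

/-! ## L : the lattice lemma -/

/-- **LAT** (pure integers; BIG - sub-divide freely, say how).  `I` = the nontrivial linear
characters of `K`, `inv` = inversion with unique fixed point `ν`; `B` = the irreducible characters
of `G`; `m i χ = ⟨Θ_i, χ⟩`; `f` = degrees; `σ i = μ_i(t)`; `htest` = the test equation E3 (with
`χ(t) = -∑_l m l χ σ l`, D2).  Proof: notes/S3282_plan.md "Lattice lemma": rows have norm 3 (`i ≠ ν`)
resp. 4 (`ν`) and contain `triv` once; `u_i := m i - δ_triv`.  `u_ν = e₁c₁ + e₂c₂ + e₃c₃`; each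
`u_i` (`i ≠ ν`) is `e_a c_a + f_i b_i` with `b_i ∉ {c₁,c₂,c₃}` (inner product 1 with `u_ν`); two
`u_i, u_j` (`j ≠ i, inv i`) using the same `c_a` have `b_i ≠ b_j`, using different `c`'s have
`b_i = b_j` and `f_i = f_j`.  So either all use the same `c_a =: X`, `ε := e_a` (GOOD), or there
are exactly 2 or 3 pairs `{i, inv i}`, all `b_i` equal and the `c`'s used are distinct.  3 pairs:
summing the degree equations gives `3 f_b f(b) = -2`, impossible.  2 pairs: then `σ` takes the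
values `+1, -1` on the two pairs... in general `htest i j` for the two pairs gives a contradiction
(compute `val χ = ∑_l m l χ σ l` for `χ = b, c_a`: see plan).  GOOD: degree equation gives
`f_i = -ε`, `f(b_i) = f(X) + ε`; for `ν`: signs `(e₂, e₃)` of the two other constituents: `(ε,ε)`
impossible by degrees, `(ε,-ε)` impossible by `htest` + degrees, so `(-ε,-ε)` and then `htest`
gives `1/y₁ + 1/y₂ = 4/(y₁+y₂)`, i.e. `y₁ = y₂`.) -/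
theorem lattice_main {B I : Type*} [Fintype B] [DecidableEq B] [Fintype I] [DecidableEq I]
    (inv : I → I) (hinv : ∀ i, inv (inv i) = i) (ν : I) (hν : ∀ i, inv i = i ↔ i = ν)
    (hI : ∃ i, i ≠ ν)
    (m : I → B → ℤ) (hminv : ∀ i, m (inv i) = m i)
    (triv : B) (htriv : ∀ i, m i triv = 1)
    (hgram : ∀ i j, ∑ χ, m i χ * m j χ =
      2 + (if i = j then 1 else 0) + (if i = inv j then 1 else 0))
    (f : B → ℤ) (hf : ∀ χ, 0 < f χ) (hftriv : f triv = 1) (hdeg : ∀ i, ∑ χ, m i χ * f χ = 0)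
    (σ : I → ℤ) (hσ : ∀ i, σ i = 1 ∨ σ i = -1) (hσinv : ∀ i, σ (inv i) = σ i)
    (hσsum : ∑ i, σ i = -1)
    (htest : ∀ i j, ∑ χ, (m i χ : ℚ) * ((∑ l, m l χ * σ l : ℤ) : ℚ) ^ 2 / (f χ : ℚ) =
      ∑ χ, (m j χ : ℚ) * ((∑ l, m l χ * σ l : ℤ) : ℚ) ^ 2 / (f χ : ℚ)) :
    ∃ (ε : ℤ) (X : B) (L : I → B) (Y₁ Y₂ : B), (ε = 1 ∨ ε = -1) ∧
      (∀ i, i ≠ ν → ∀ χ, m i χ = (if χ = triv then 1 else 0) + (if χ = X then ε else 0)
        - (if χ = L i then ε else 0)) ∧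
      (∀ χ, m ν χ = (if χ = triv then 1 else 0) + (if χ = X then ε else 0)
        - (if χ = Y₁ then ε else 0) - (if χ = Y₂ then ε else 0)) ∧
      X ≠ triv ∧ Y₁ ≠ Y₂ ∧ Y₁ ≠ triv ∧ Y₂ ≠ triv ∧ Y₁ ≠ X ∧ Y₂ ≠ X ∧
      (∀ i, i ≠ ν → L i ≠ triv ∧ L i ≠ X ∧ L i ≠ Y₁ ∧ L i ≠ Y₂) ∧
      (∀ i j, i ≠ ν → j ≠ ν → (L i = L j ↔ j = i ∨ j = inv i)) ∧
      (∀ i, i ≠ ν → f (L i) = f X + ε) ∧ f Y₁ = f Y₂ ∧ 2 * f Y₁ = f X + ε := by exact Cfsg.Agent.Lib.Helper9.BSWCLAT.lattice_main inv hinv ν hν hI m hminv triv htriv hgram f hf hftriv hdeg σ hσ hσinv hσsum htest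

/-! ## A : arithmetic -/

/-- **ARITH** (pure number theory) `k ≥ 4` even, `x = b k + ε ≥ 1`, `|G| = 2 k j` with `j` odd and
`|G| (x - ε)² = 4 k³ x (x + ε)` force `b = 2`.  (`j b² = 2 x (x + ε)`; `gcd(b, x) = 1` so
`b² ∣ 2(x + ε) = 2(bk + 2ε)`, `b ∣ 4`; `b = 0` gives `0 = 4`; `b < 0` gives `x < 0`; `b = 1` gives `j`
even; `b = 4`: `16 j = 2 (4k+ε)(4k+2ε) = 4 · odd · odd`.) -/
theorem arith (k j b x ε : ℤ) (hk : 4 ≤ k) (hk2 : Even k) (hj : Odd j) (hε : ε = 1 ∨ ε = -1)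
    (hx : x = b * k + ε) (hx1 : 1 ≤ x)
    (heq : 2 * k * j * (x - ε) ^ 2 = 4 * k ^ 3 * x * (x + ε)) : b = 2 := by exact Cfsg.Agent.Lib.Helper9.BSWCARITH.arith k j b x ε hk hk2 hj hε hx hx1 heq

/-! ## V : consequences of COH (all in `_of` form over `Coh`) -/

/-- **V1** the table at `t` and on `K`: from `Coh` and D2.
(`X`: `m(X,μ) = ε` for all `μ ≠ 1` and `∑_{μ≠1} μ(y) = -1`.  `L_μ`: `m = -ε` exactly at `μ, μ⁻¹`,
so `L_μ(t) = ε (μ(t) + μ(t)⁻¹) = 2 ε μ(t)`.  `Y_i`: `m = -ε` exactly at `ν`.  Other `χ`: all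
`m(χ,μ) = 0`.) -/
theorem table {t s : G} {K : Subgroup G} (h : Hyp t s K) (hk : 4 ≤ Nat.card K)
    {ν : ↥K →* ℂˣ} (hν : ν ≠ 1 ∧ ν * ν = 1 ∧ ∀ μ : ↥K →* ℂˣ, μ * μ = 1 → μ = 1 ∨ μ = ν)
    {ε : ℤ} {X : IrrCharacter G} {L : (↥K →* ℂˣ) → IrrCharacter G} {Y₁ Y₂ : IrrCharacter G}
    (hc : Coh K ν ε X L Y₁ Y₂) :
    (∀ g ∈ KK K, (X : G → ℂ) g = (ε : ℂ)) ∧
    (∃ b : ℤ, (X : G → ℂ) 1 = (b : ℂ) * (Nat.card K : ℂ) + (ε : ℂ)) ∧
    (∀ μ : ↥K →* ℂˣ, μ ≠ 1 → μ ≠ ν → ((L μ : G → ℂ) t) ^ 2 = 4) ∧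
    ((Y₁ : G → ℂ) t) ^ 2 = 1 ∧ ((Y₂ : G → ℂ) t) ^ 2 = 1 ∧
    (∀ χ : IrrCharacter G, χ ≠ trivIrr G → χ ≠ X → χ ≠ Y₁ → χ ≠ Y₂ →
      (∀ μ : ↥K →* ℂˣ, μ ≠ 1 → μ ≠ ν → χ ≠ L μ) → (χ : G → ℂ) t = 0) := by
  exact Cfsg.Agent.Lib.Helper2.BSWCV1.table_of' h hk (fun _ => apply_of_mem h) (fun _ => apply_one_eq h) hν hc

/-- **V2** splitting a sum over all irreducible characters along the table (each `L μ` is hit by
exactly the two indices `μ, μ⁻¹`: `Coh.L_eq_iff`, and `μ ≠ μ⁻¹` as `μ² ≠ 1`). -/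
theorem sum_split {K : Subgroup G} [Fintype (IrrCharacter G)] [Fintype (↥K →* ℂˣ)]
    {ν : ↥K →* ℂˣ} (hν : ν ≠ 1 ∧ ν * ν = 1 ∧ ∀ μ : ↥K →* ℂˣ, μ * μ = 1 → μ = 1 ∨ μ = ν)
    {ε : ℤ} {X : IrrCharacter G} {L : (↥K →* ℂˣ) → IrrCharacter G} {Y₁ Y₂ : IrrCharacter G}
    (hc : Coh K ν ε X L Y₁ Y₂) (F : IrrCharacter G → ℂ)
    (hF : ∀ χ : IrrCharacter G, χ ≠ trivIrr G → χ ≠ X → χ ≠ Y₁ → χ ≠ Y₂ →
      (∀ μ : ↥K →* ℂˣ, μ ≠ 1 → μ ≠ ν → χ ≠ L μ) → F χ = 0) :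
    2 * ∑ χ : IrrCharacter G, F χ = 2 * (F (trivIrr G) + F X + F Y₁ + F Y₂) +
      ∑ μ : ↥K →* ℂˣ, (open Classical in if μ = 1 ∨ μ = ν then 0 else F (L μ)) := by exact Cfsg.Agent.Lib.Helper5.BSWCV2.sum_split hν hc F hF

/-- **V3** `X` is integer valued.  (For `n` prime to `|G|`, `X' := X(·^n)` is irreducible
(`isIrrCharacter_powTwist`) of the same degree with `⟨Θ_{μ^n}, X'⟩ = ⟨Θ_μ, X⟩` (T7,
`classInner_powTwist`); `μ ↦ μ^n` permutes the nontrivial linear characters of `K` (`n` prime to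
`k ∣ |G|`), so `m(X', μ) = ε` for all `μ ≠ 1`, hence `X' = X` by `huniq`; then
`Helper10.irr_int_of_forall_pow_eq`.) -/
theorem int_valued {K : Subgroup G} (X : IrrCharacter G) (ε : ℂ)
    (hX : ∀ μ : ↥K →* ℂˣ, μ ≠ 1 → mult K μ (X : G → ℂ) = ε)
    (huniq : ∀ χ : IrrCharacter G, (∀ μ : ↥K →* ℂˣ, μ ≠ 1 → mult K μ (χ : G → ℂ) = ε) →
      (χ : G → ℂ) 1 = (X : G → ℂ) 1 → χ = X) :
    ∀ g : G, ∃ n : ℤ, (X : G → ℂ) g = (n : ℂ) := by exact Cfsg.Agent.Lib.Helper2.BSWCV3.int_valued X ε hX huniq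

/-- **V4** the values of `X` on `RR` and the number of zeros.  (`G = {1} ⊔ KK ⊔ RR`;
`∑_g X g = 0`, `∑_g X g * conj (X g) = |G|`; with `2|KK| = q(q+ε)(k-1)` (E5):
`∑_RR (X² + εX) = |G| - q² - εq - 2|KK| = 0`; `n² + εn ≥ 0` for integers, so `X ∈ {0,-ε}` on `RR`;
`#{X = -ε} = εq + |KK|`, `#{X = 0} = |G| - 1 - 2|KK| - εq = q² - 1`.) -/
theorem values_on_RR {t s : G} {K : Subgroup G} (h : Hyp t s K) (ε : ℤ) (hε : ε = 1 ∨ ε = -1)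
    (q : ℕ) (hq : (q : ℤ) = 2 * (Nat.card K : ℤ) + ε)
    (hcard : (Nat.card G : ℤ) = (Nat.card K : ℤ) * q * (q + ε))
    (X : G → ℂ) (hX : IsIrrCharacter G X) (hX1 : X ≠ 1) (hint : ∀ g : G, ∃ n : ℤ, X g = (n : ℂ))
    (hdeg : X 1 = (q : ℂ)) (hKK : ∀ g ∈ KK K, X g = (ε : ℂ)) :
    (∀ y ∈ RR K, X y = 0 ∨ X y = -(ε : ℂ)) ∧
      Nat.card {y : G // y ∈ RR K ∧ X y = 0} = q ^ 2 - 1 := by exact Cfsg.Agent.Lib.Helper2.BSWCV4.values_on_RR h ε hε q hq hcard X hX hX1 hint hdeg hKK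

/-- **V5** `pairCount` on `RR`.  (E2 + V2 + V1: `pairCount y (2k)² = |G| (1 + X(y⁻¹)/q +
∑_pairs 4 L_μ(y⁻¹)/(q+ε) + (Y₁+Y₂)(y⁻¹)/(k+ε))`; `Θ_μ(y⁻¹) = 0 = Θ_ν(y⁻¹)` (T2) and `Coh` give
`L_μ(y⁻¹) = X(y⁻¹) + ε = (Y₁+Y₂)(y⁻¹)`; `X(y⁻¹) = conj X(y) = X(y)`; there are `k - 2` indices
`μ ≠ 1, ν`; `|G| = k q (q+ε)`, `q + ε = 2(k+ε)`.  Result: `pairCount y = q(1+ε)/2` if `X y = 0`,
`= k + ε` if `X y = -ε`.) -/
theorem pairCount_RR {t s : G} {K : Subgroup G} (h : Hyp t s K) (hk : 4 ≤ Nat.card K)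
    {ν : ↥K →* ℂˣ} (hν : ν ≠ 1 ∧ ν * ν = 1 ∧ ∀ μ : ↥K →* ℂˣ, μ * μ = 1 → μ = 1 ∨ μ = ν)
    {ε : ℤ} {X : IrrCharacter G} {L : (↥K →* ℂˣ) → IrrCharacter G} {Y₁ Y₂ : IrrCharacter G}
    (hc : Coh K ν ε X L Y₁ Y₂) (q : ℕ) (hq : (q : ℤ) = 2 * (Nat.card K : ℤ) + ε)
    (hcard : (Nat.card G : ℤ) = (Nat.card K : ℤ) * q * (q + ε))
    (hdeg : (X : G → ℂ) 1 = (q : ℂ)) (hint : ∀ g : G, ∃ n : ℤ, (X : G → ℂ) g = (n : ℂ))
    (y : G) (hy : y ∈ RR K) :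
    ((X : G → ℂ) y = 0 → (pairCount y : ℤ) * 2 = q * (1 + ε)) ∧
    ((X : G → ℂ) y = -(ε : ℂ) → (pairCount y : ℤ) = (Nat.card K : ℤ) + ε) := by
  classical
  letI : Fintype (IrrCharacter G) := fintypeIrr G
  letI : Fintype (↥K →* ℂˣ) := Fintype.ofFinite _
  exact Cfsg.Agent.Lib.Helper1.BSWCV5.pairCount_RR_of h hk hν hc q hq hcard hdeg hint
    (table h hk hν hc) (fun F hF => sum_split hν hc F hF) y hy

end Cfsg.Agent.Lib.Helper1.BSWCAll
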