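import Mathlib
import Cfsg.Prelude.Def_Characters
import Cfsg.Agent.Lib.Helper24.BSWDefs
import Cfsg.Agent.Lib.Helper1.BSWCDefs
import Cfsg.Agent.Lib.Helper1.BSWCAll
import Cfsg.Agent.Lib.Helper1.BSWCBase
import Cfsg.Agent.Lib.Lead.CharMain
import Cfsg.Agent.Lib.Lead.BrLeo4
import Cfsg.Agent.Lib.Helper10.Coherence
import Cfsg.Agent.Lib.Helper10.GenChar

/-!
# S3282 batch 2 (helper1): instantiation of the lattice lemma, `exists_coh`
-/

set_option autoImplicit false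

namespace Cfsg.Agent.Lib.Helper1.BSWCoh

open Cfsg Cfsg.Agent.Lib.Helper24.BSW Cfsg.Agent.CharLib Cfsg.Agent.Lib.Helper1.BSWC
open Cfsg.Agent.Lib.Helper1.BSWCAll Cfsg.Agent.Lib.Helper1.BSWCBase
open scoped ComplexConjugate

universe u

variable {G : Type u} [Group G] [Fintype G]

open Classical in
/-- The instantiation of the lattice lemma. -/
theorem exists_coh {t s : G} {K : Subgroup G} (h : Hyp t s K) (hk : 4 ≤ Nat.card K)
    [Fintype (IrrCharacter G)] [Fintype (↥K →* ℂˣ)]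
    {ν : ↥K →* ℂˣ} (hν : ν ≠ 1 ∧ ν * ν = 1 ∧ ∀ μ : ↥K →* ℂˣ, μ * μ = 1 → μ = 1 ∨ μ = ν) :
    ∃ (ε : ℤ) (X : IrrCharacter G) (L : (↥K →* ℂˣ) → IrrCharacter G) (Y₁ Y₂ : IrrCharacter G),
      Coh K ν ε X L Y₁ Y₂ := by
  have hcomm : ∀ a b : ↥K, a * b = b * a := fun a b => h.hKab.is_comm.comm a b
  -- the index type
  let I := {μ : ↥K →* ℂˣ // μ ≠ 1}
  let inv : I → I := fun i => ⟨i.1⁻¹, hom_inv_ne_one i.1 i.2⟩
  let νI : I := ⟨ν, hν.1⟩
  have hinv : ∀ i : I, inv (inv i) = i := fun i => Subtype.ext (hom_inv_inv i.1)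
  have hνinv : ν⁻¹ = ν := (hom_inv_eq_self_iff ν).mpr hν.2.1
  have hνI : ∀ i : I, inv i = i ↔ i = νI := by
    intro i
    constructor
    · intro hi
      have h1 : i.1⁻¹ = i.1 := congrArg Subtype.val hi
      have h2 : i.1 * i.1 = 1 := (hom_inv_eq_self_iff i.1).mp h1
      rcases hν.2.2 i.1 h2 with h3 | h3
      · exact absurd h3 i.2
      · exact Subtype.ext h3
    · rintro rfl
      exact Subtype.ext hνinv
  -- the involution `t` as an element of `K`
  let t' : ↥K := ⟨t, h.htK⟩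
  have htt : t * t = 1 := by
    have := pow_orderOf_eq_one t
    rw [h.ht, pow_two] at this; exact this
  have ht' : t' * t' = 1 := Subtype.ext htt
  have ht1 : t ≠ 1 := by
    intro h1
    have := h.ht
    rw [h1, orderOf_one] at this
    norm_num at this
  have ht'1 : t' ≠ 1 := fun h1 => ht1 (congrArg Subtype.val h1)
  have hI : ∃ i : I, i ≠ νI := by
    obtain ⟨μ, hμ1, hμν⟩ := exists_ne_nu hcomm hk ν hν.1
    exact ⟨⟨μ, hμ1⟩, fun hh => hμν (congrArg Subtype.val hh)⟩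
  -- integer versions of the multiplicities and the degrees
  choose m hm using fun (i : I) (χ : IrrCharacter G) => mult_int K i.1 χ
  choose f hf using fun χ : IrrCharacter G => IsIrrCharacter.apply_one_pos χ.2
  have hminv : ∀ i : I, m (inv i) = m i := by
    intro i
    funext χ
    have h1 : ((m (inv i) χ : ℤ) : ℂ) = ((m i χ : ℤ) : ℂ) := by
      rw [← hm, ← hm]
      change mult K i.1⁻¹ _ = mult K i.1 _
      unfold mult
      rw [theta_inv h]
    exact_mod_cast h1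
  have htriv : ∀ i : I, m i (trivIrr G) = 1 := by
    intro i
    have h1 : ((m i (trivIrr G) : ℤ) : ℂ) = 1 := by
      rw [← hm]
      exact classInner_theta_one K i.1 i.2
    exact_mod_cast h1
  have hgram : ∀ i j : I, ∑ χ, m i χ * m j χ =
      2 + (if i = j then 1 else 0) + (if i = inv j then 1 else 0) := by
    intro i j
    have h1 : ((∑ χ, m i χ * m j χ : ℤ) : ℂ) =
        ((2 + (if i = j then 1 else 0) + (if i = inv j then 1 else 0) : ℤ) : ℂ) := by
      push_cast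
      have h2 := classInner_theta_theta h i.1 j.1 i.2 j.2
      rw [classInner_theta_expand] at h2
      have h3 : ∀ χ : IrrCharacter G, mult K i.1 (χ : G → ℂ) * conj (mult K j.1 (χ : G → ℂ)) =
          (m i χ : ℂ) * (m j χ : ℂ) := by
        intro χ
        rw [hm i χ, hm j χ, map_intCast]
      rw [Finset.sum_congr rfl (fun χ _ => h3 χ)] at h2
      rw [h2]
      have e1 : (i.1 = j.1) ↔ (i = j) := Subtype.ext_iff.symm
      have e2 : (i.1 = j.1⁻¹) ↔ (i = inv j) := by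
        constructor
        · intro hh; exact Subtype.ext hh
        · intro hh; exact congrArg Subtype.val hh
      simp only [e1, e2]
    exact_mod_cast h1
  have hfpos : ∀ χ : IrrCharacter G, 0 < (f χ : ℤ) := fun χ => by exact_mod_cast (hf χ).1
  have hftriv : (f (trivIrr G) : ℤ) = 1 := by
    have h1 : ((f (trivIrr G) : ℕ) : ℂ) = 1 := by
      rw [← (hf (trivIrr G)).2]
      rfl
    exact_mod_cast h1
  have hdeg : ∀ i : I, ∑ χ, m i χ * (f χ : ℤ) = 0 := by
    intro i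
    have h1 : ((∑ χ, m i χ * (f χ : ℤ) : ℤ) : ℂ) = 0 := by
      push_cast
      have h2 := theta_apply_expand K i.1 (1 : G)
      rw [theta_apply_one] at h2
      rw [h2]
      apply Finset.sum_congr rfl
      intro χ _
      rw [hm i χ, (hf χ).2]
    exact_mod_cast h1
  -- the signs `σ`
  let σ : I → ℤ := fun i => if ((i.1 t' : ℂˣ) : ℂ) = 1 then 1 else -1
  have hσc : ∀ i : I, ((σ i : ℤ) : ℂ) = ((i.1 t' : ℂˣ) : ℂ) := by
    intro i
    simp only [σ]
    rcases lin_t_sq i.1 t' ht' with h1 | h1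
    · rw [if_pos h1, h1]; simp
    · have : ¬ ((i.1 t' : ℂˣ) : ℂ) = 1 := by rw [h1]; norm_num
      rw [if_neg this, h1]; simp
  have hσ : ∀ i : I, σ i = 1 ∨ σ i = -1 := by
    intro i
    simp only [σ]
    split_ifs
    · left; rfl
    · right; rfl
  have hσinv : ∀ i : I, σ (inv i) = σ i := by
    intro i
    have h1 : ((σ (inv i) : ℤ) : ℂ) = ((σ i : ℤ) : ℂ) := by
      rw [hσc, hσc]
      change (((i.1⁻¹) t' : ℂˣ) : ℂ) = _
      rw [MonoidHom.inv_apply, Units.val_inv_eq_inv_val]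
      rcases lin_t_sq i.1 t' ht' with h1 | h1 <;> rw [h1] <;> norm_num
    exact_mod_cast h1
  have hσsum : ∑ i : I, σ i = -1 := by
    have h1 : ((∑ i : I, σ i : ℤ) : ℂ) = -1 := by
      push_cast
      have h2 := sum_dual_apply hcomm t'
      rw [if_neg ht'1, Fintype.sum_eq_add_sum_subtype_ne _ (1 : ↥K →* ℂˣ)] at h2
      simp only [MonoidHom.one_apply, Units.val_one] at h2
      rw [Finset.sum_congr rfl (fun i _ => hσc i)]
      linear_combination h2
    exact_mod_cast h1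
  -- the value at `t`
  have hval : ∀ χ : IrrCharacter G,
      ((∑ l : I, m l χ * σ l : ℤ) : ℂ) = - (χ : G → ℂ) t := by
    intro χ
    have h2 := apply_of_mem h (IsIrrCharacter.isCharacter χ.2) t' ht'1
    rw [Fintype.sum_eq_add_sum_subtype_ne _ (1 : ↥K →* ℂˣ), mult_one', zero_mul, zero_add] at h2
    change (χ : G → ℂ) t = _ at h2
    rw [h2, neg_neg]
    push_cast
    apply Finset.sum_congr rfl
    intro l _
    rw [hm l χ, hσc l]
  have htest : ∀ i j : I,
      ∑ χ, (m i χ : ℚ) * ((∑ l, m l χ * σ l : ℤ) : ℚ) ^ 2 / ((f χ : ℤ) : ℚ) =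
      ∑ χ, (m j χ : ℚ) * ((∑ l, m l χ * σ l : ℤ) : ℚ) ^ 2 / ((f χ : ℤ) : ℚ) := by
    have key : ∀ i : I,
        ((∑ χ, (m i χ : ℚ) * ((∑ l, m l χ * σ l : ℤ) : ℚ) ^ 2 / ((f χ : ℤ) : ℚ) : ℚ) : ℂ) =
          ∑ χ : IrrCharacter G, mult K i.1 (χ : G → ℂ) * ((χ : G → ℂ) t) ^ 2 / (χ : G → ℂ) 1 := by
      intro i
      push_cast
      apply Finset.sum_congr rfl
      intro χ _
      have h1 := hval χ
      push_cast at h1
      rw [h1, hm i χ, (hf χ).2]
      ring
    intro i j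
    have h1 := test_eq h i.1 i.2
    have h2 := test_eq h j.1 j.2
    have hG : (Nat.card G : ℂ) ≠ 0 := card_ne_zero_complex
    have h3 : ∑ χ : IrrCharacter G, mult K i.1 (χ : G → ℂ) * ((χ : G → ℂ) t) ^ 2 / (χ : G → ℂ) 1 =
        ∑ χ : IrrCharacter G, mult K j.1 (χ : G → ℂ) * ((χ : G → ℂ) t) ^ 2 / (χ : G → ℂ) 1 := by
      apply mul_left_cancel₀ hG
      rw [← h1, ← h2]
    rw [← key i, ← key j] at h3
    exact_mod_cast h3
  -- apply the lattice lemma
  obtain ⟨ε, X, Lb, Y₁, Y₂, hε, hL, hY, hXt, hYY, hY1t, hY2t, hY1X, hY2X, hLne, hLeq, hdL, hdY1, hdY2⟩ :=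
    lattice_main inv hinv νI hνI hI m hminv (trivIrr G) htriv hgram (fun χ => (f χ : ℤ)) hfpos hftriv
      hdeg σ hσ hσinv hσsum htest
  refine ⟨ε, X, fun μ => if hμ : μ ≠ 1 then Lb ⟨μ, hμ⟩ else trivIrr G, Y₁, Y₂, ?_⟩
  have hne : ∀ (μ : ↥K →* ℂˣ) (hμ : μ ≠ 1), μ ≠ ν → (⟨μ, hμ⟩ : I) ≠ νI := by
    intro μ hμ hμν hh
    exact hμν (congrArg Subtype.val hh)
  have hfX : ∀ χ : IrrCharacter G, (χ : G → ℂ) 1 = (((f χ : ℤ)) : ℂ) := fun χ => by
    rw [(hf χ).2]; simp
  refine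
    { hε := hε
      multL := ?_
      multν := ?_
      X_ne := hXt
      Y_ne := hYY
      Y_ne_triv := ⟨hY1t, hY2t⟩
      Y_ne_X := ⟨hY1X, hY2X⟩
      L_ne := ?_
      L_eq_iff := ?_
      degL := ?_
      degY := ?_ }
  · intro μ hμ hμν χ
    rw [dif_pos hμ]
    have h1 := hL ⟨μ, hμ⟩ (hne μ hμ hμν) χ
    have h2 := hm ⟨μ, hμ⟩ χ
    change mult K μ (χ : G → ℂ) = _ at h2
    rw [h2, h1]
    split_ifs <;> simp
  · intro χ
    have h1 := hY χ
    have h2 := hm νI χ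
    change mult K ν (χ : G → ℂ) = _ at h2
    rw [h2, h1]
    split_ifs <;> simp
  · intro μ hμ hμν
    rw [dif_pos hμ]
    exact hLne ⟨μ, hμ⟩ (hne μ hμ hμν)
  · intro μ μ' hμ hμν hμ' hμ'ν
    rw [dif_pos hμ, dif_pos hμ']
    rw [hLeq ⟨μ, hμ⟩ ⟨μ', hμ'⟩ (hne μ hμ hμν) (hne μ' hμ' hμ'ν)]
    constructor
    · rintro (hh | hh)
      · left; exact congrArg Subtype.val hh
      · right; exact congrArg Subtype.val hh
    · rintro (hh | hh)
      · left; exact Subtype.ext hh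
      · right; exact Subtype.ext hh
  · intro μ hμ hμν
    rw [dif_pos hμ, hfX, hfX]
    have h1 := hdL ⟨μ, hμ⟩ (hne μ hμ hμν)
    rw [h1]; push_cast; ring
  · rw [hfX, hfX, hfX]
    constructor
    · rw [hdY1]
    · have : ((2 * (f Y₁ : ℤ) : ℤ) : ℂ) = (((f X : ℤ) + ε : ℤ) : ℂ) := by rw [hdY2]
      push_cast at this
      exact this

end Cfsg.Agent.Lib.Helper1.BSWCoh
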