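import Mathlib
import Cfsg.Prelude.Def_Characters
import Cfsg.Agent.Lib.Helper24.BSWDefs
import Cfsg.Agent.Lib.Helper1.BSWCDefs
import Cfsg.Agent.Lib.Helper1.BSWCAll
import Cfsg.Agent.Lib.Helper1.BSWCoh
import Cfsg.Agent.Lib.Helper16.BSWB1
import Cfsg.Agent.Lib.Helper12.BSWB9
import Cfsg.Agent.Lib.Helper9.BSWCARITH

/-!
# S3282 batch 2 (helper1): the character-theoretic part `char_part`
-/

set_option autoImplicit false

namespace Cfsg.Agent.Lib.Helper1.BSWChar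

open Cfsg Cfsg.Agent.Lib.Helper24.BSW Cfsg.Agent.CharLib Cfsg.Agent.Lib.Helper1.BSWC
open Cfsg.Agent.Lib.Helper1.BSWCAll Cfsg.Agent.Lib.Helper1.BSWCoh Cfsg.Agent.Lib.Helper1.BSWCBase
open scoped ComplexConjugate

universe u

variable {G : Type u} [Group G] [Fintype G]

omit [Fintype G] in
/-- elements of `RR` are not involutions. -/
lemma orderOf_ne_two_of_mem_RR {t s : G} {K : Subgroup G} (h : Hyp t s K) {y : G} (hy : y ∈ RR K) :
    orderOf y ≠ 2 := by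
  intro h2
  obtain ⟨c, hc⟩ := isConj_iff.mp (h.hconj y t h2 h.ht)
  exact hy.2 c (by rw [hc]; exact h.htK)

omit [Fintype G] in
/-- `t ∈ KK`. -/
lemma t_mem_KK {t s : G} {K : Subgroup G} (h : Hyp t s K) : t ∈ KK K := by
  refine ⟨?_, 1, by simpa using h.htK⟩
  intro h1
  have := h.ht
  rw [h1, orderOf_one] at this
  norm_num at this

/-- The order equation: `|G| (x - ε)² = 4 k³ x (x + ε)` where `x = X(1)`. -/
theorem order_eq {t s : G} {K : Subgroup G} (h : Hyp t s K) (hk : 4 ≤ Nat.card K)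
    [Fintype (IrrCharacter G)]
    {ν : ↥K →* ℂˣ} (hν : ν ≠ 1 ∧ ν * ν = 1 ∧ ∀ μ : ↥K →* ℂˣ, μ * μ = 1 → μ = 1 ∨ μ = ν)
    {ε : ℤ} {X : IrrCharacter G} {L : (↥K →* ℂˣ) → IrrCharacter G} {Y₁ Y₂ : IrrCharacter G}
    (hc : Coh K ν ε X L Y₁ Y₂) :
    (Nat.card G : ℂ) * ((X : G → ℂ) 1 - (ε : ℂ)) ^ 2 =
      4 * (Nat.card K : ℂ) ^ 3 * (X : G → ℂ) 1 * ((X : G → ℂ) 1 + (ε : ℂ)) := by
  classical
  have hcomm : ∀ a b : ↥K, a * b = b * a := fun a b => h.hKab.is_comm.comm a b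
  obtain ⟨μ₀, hμ1, hμν⟩ := exists_ne_nu hcomm hk ν hν.1
  obtain ⟨hXKK, -, hLt, -, -, -⟩ := table h hk hν hc
  have hε2 : (ε : ℂ) ^ 2 = 1 := by
    rcases hc.hε with h1 | h1 <;> rw [h1] <;> norm_num
  have htest := test_eq h μ₀ hμ1
  have hXt : (X : G → ℂ) t = (ε : ℂ) := hXKK t (t_mem_KK h)
  have hL1 := hc.degL μ₀ hμ1 hμν
  have hLne := hc.L_ne μ₀ hμ1 hμν
  -- evaluate the sum
  have hsum : ∑ χ : IrrCharacter G,
      mult K μ₀ (χ : G → ℂ) * ((χ : G → ℂ) t) ^ 2 / (χ : G → ℂ) 1 =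
      1 + (ε : ℂ) * (ε : ℂ) ^ 2 / (X : G → ℂ) 1 - (ε : ℂ) * 4 / ((X : G → ℂ) 1 + (ε : ℂ)) := by
    have h1 : ∀ χ : IrrCharacter G,
        mult K μ₀ (χ : G → ℂ) * ((χ : G → ℂ) t) ^ 2 / (χ : G → ℂ) 1 =
        (if χ = trivIrr G then ((χ : G → ℂ) t) ^ 2 / (χ : G → ℂ) 1 else 0) +
        (if χ = X then (ε : ℂ) * ((χ : G → ℂ) t) ^ 2 / (χ : G → ℂ) 1 else 0) -
        (if χ = L μ₀ then (ε : ℂ) * ((χ : G → ℂ) t) ^ 2 / (χ : G → ℂ) 1 else 0) := by
      intro χ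
      rw [hc.multL μ₀ hμ1 hμν χ]
      split_ifs <;> ring
    rw [Finset.sum_congr rfl (fun χ _ => h1 χ), Finset.sum_sub_distrib, Finset.sum_add_distrib,
      Finset.sum_ite_eq' Finset.univ, Finset.sum_ite_eq' Finset.univ,
      Finset.sum_ite_eq' Finset.univ]
    simp only [Finset.mem_univ, if_true]
    rw [hXt, hLt μ₀ hμ1 hμν, hL1]
    have ht1 : ((trivIrr G : IrrCharacter G) : G → ℂ) = 1 := rfl
    rw [ht1]
    simp
  rw [hsum] at htest
  have hx0 : (X : G → ℂ) 1 ≠ 0 := by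
    obtain ⟨n, hn, hn1⟩ := IsIrrCharacter.apply_one_pos X.2
    rw [hn1]; exact_mod_cast hn.ne'
  have hxe : (X : G → ℂ) 1 + (ε : ℂ) ≠ 0 := by
    rw [← hL1]
    obtain ⟨n, hn, hn1⟩ := IsIrrCharacter.apply_one_pos (L μ₀).2
    rw [hn1]; exact_mod_cast hn.ne'
  have h3 : (1 + (ε : ℂ) * (ε : ℂ) ^ 2 / (X : G → ℂ) 1 - (ε : ℂ) * 4 / ((X : G → ℂ) 1 + (ε : ℂ))) *
      ((X : G → ℂ) 1 * ((X : G → ℂ) 1 + (ε : ℂ))) = ((X : G → ℂ) 1 - (ε : ℂ)) ^ 2 := by
    have ha : (ε : ℂ) * (ε : ℂ) ^ 2 / (X : G → ℂ) 1 * (X : G → ℂ) 1 = (ε : ℂ) * (ε : ℂ) ^ 2 :=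
      div_mul_cancel₀ _ hx0
    have hb : (ε : ℂ) * 4 / ((X : G → ℂ) 1 + (ε : ℂ)) * ((X : G → ℂ) 1 + (ε : ℂ)) = (ε : ℂ) * 4 :=
      div_mul_cancel₀ _ hxe
    linear_combination ((X : G → ℂ) 1 + (ε : ℂ)) * ha - (X : G → ℂ) 1 * hb +
      ((ε : ℂ) * (X : G → ℂ) 1 + (ε : ℂ) ^ 2) * hε2
  calc (Nat.card G : ℂ) * ((X : G → ℂ) 1 - (ε : ℂ)) ^ 2
      = ((Nat.card G : ℂ) * (1 + (ε : ℂ) * (ε : ℂ) ^ 2 / (X : G → ℂ) 1 -
          (ε : ℂ) * 4 / ((X : G → ℂ) 1 + (ε : ℂ)))) *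
          ((X : G → ℂ) 1 * ((X : G → ℂ) 1 + (ε : ℂ))) := by rw [← h3]; ring
    _ = 4 * (Nat.card K : ℂ) ^ 3 * (X : G → ℂ) 1 * ((X : G → ℂ) 1 + (ε : ℂ)) := by
        rw [← htest]; ring

/-- The degree of `X` is `q = 2k + ε` and `|G| = k q (q + ε)`. -/
theorem degree_and_order {t s : G} {K : Subgroup G} (h : Hyp t s K) (hk : 4 ≤ Nat.card K)
    [Fintype (IrrCharacter G)]
    {ν : ↥K →* ℂˣ} (hν : ν ≠ 1 ∧ ν * ν = 1 ∧ ∀ μ : ↥K →* ℂˣ, μ * μ = 1 → μ = 1 ∨ μ = ν)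
    {ε : ℤ} {X : IrrCharacter G} {L : (↥K →* ℂˣ) → IrrCharacter G} {Y₁ Y₂ : IrrCharacter G}
    (hc : Coh K ν ε X L Y₁ Y₂) :
    ∃ q : ℕ, (q : ℤ) = 2 * (Nat.card K : ℤ) + ε ∧ (X : G → ℂ) 1 = (q : ℂ) ∧
      (Nat.card G : ℤ) = (Nat.card K : ℤ) * q * (q + ε) := by
  classical
  obtain ⟨q, hqpos, hq1⟩ := IsIrrCharacter.apply_one_pos X.2
  obtain ⟨-, ⟨b, hb⟩, -, -, -, -⟩ := table h hk hν hc
  have hord := order_eq h hk hν hc
  rw [hq1] at hb hord
  have hbZ : (q : ℤ) = b * (Nat.card K : ℤ) + ε := by exact_mod_cast hb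
  have hordZ : (Nat.card G : ℤ) * ((q : ℤ) - ε) ^ 2 =
      4 * (Nat.card K : ℤ) ^ 3 * (q : ℤ) * ((q : ℤ) + ε) := by exact_mod_cast hord
  obtain ⟨hB1, hKeven⟩ := Cfsg.Agent.Lib.Helper16.BSWB1.card_centralizer h
  have hB9 := Cfsg.Agent.Lib.Helper12.BSWB9.odd_index h
  have hidx := Subgroup.card_mul_index (Subgroup.centralizer ({t} : Set G))
  rw [hB1] at hidx
  have hGZ : (Nat.card G : ℤ) =
      2 * (Nat.card K : ℤ) * ((Subgroup.centralizer ({t} : Set G)).index : ℤ) := by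
    rw [← hidx]; push_cast; ring
  have hb2 : b = 2 := by
    refine Cfsg.Agent.Lib.Helper9.BSWCARITH.arith (Nat.card K : ℤ)
      ((Subgroup.centralizer ({t} : Set G)).index : ℤ) b (q : ℤ) ε (by exact_mod_cast hk)
      (by exact_mod_cast hKeven) (by exact_mod_cast hB9) hc.hε hbZ (by exact_mod_cast hqpos) ?_
    rw [← hGZ]; exact hordZ
  rw [hb2] at hbZ
  refine ⟨q, hbZ, hq1, ?_⟩
  have hk0 : (4 * (Nat.card K : ℤ) ^ 2) ≠ 0 := by
    have : (0 : ℤ) < (Nat.card K : ℤ) := by exact_mod_cast (by omega : 0 < Nat.card K)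
    positivity
  apply mul_left_cancel₀ hk0
  have h1 : (q : ℤ) - ε = 2 * (Nat.card K : ℤ) := by rw [hbZ]; ring
  rw [h1] at hordZ
  linear_combination hordZ

omit [Fintype G] in
/-- `m(X, μ) = ε` for all `μ ≠ 1`. -/
lemma mult_X {K : Subgroup G} [Fintype G]
    {ν : ↥K →* ℂˣ} {ε : ℤ} {X : IrrCharacter G} {L : (↥K →* ℂˣ) → IrrCharacter G}
    {Y₁ Y₂ : IrrCharacter G} (hc : Coh K ν ε X L Y₁ Y₂) (μ : ↥K →* ℂˣ) (hμ : μ ≠ 1) :
    mult K μ (X : G → ℂ) = (ε : ℂ) := by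
  by_cases hμν : μ = ν
  · subst hμν
    rw [hc.multν X, if_neg hc.X_ne, if_pos rfl, if_neg (Ne.symm hc.Y_ne_X.1),
      if_neg (Ne.symm hc.Y_ne_X.2)]
    ring
  · rw [hc.multL μ hμ hμν X, if_neg hc.X_ne, if_pos rfl, if_neg (Ne.symm (hc.L_ne μ hμ hμν).2.1)]
    ring

/-- the uniqueness statement needed for integrality. -/
lemma X_unique {t s : G} {K : Subgroup G} (h : Hyp t s K) (hk : 4 ≤ Nat.card K)
    {ν : ↥K →* ℂˣ} (hν : ν ≠ 1 ∧ ν * ν = 1 ∧ ∀ μ : ↥K →* ℂˣ, μ * μ = 1 → μ = 1 ∨ μ = ν)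
    {ε : ℤ} {X : IrrCharacter G} {L : (↥K →* ℂˣ) → IrrCharacter G} {Y₁ Y₂ : IrrCharacter G}
    (hc : Coh K ν ε X L Y₁ Y₂) (q : ℕ) (hq : (q : ℤ) = 2 * (Nat.card K : ℤ) + ε)
    (hdeg : (X : G → ℂ) 1 = (q : ℂ))
    (χ : IrrCharacter G) (hχ : ∀ μ : ↥K →* ℂˣ, μ ≠ 1 → mult K μ (χ : G → ℂ) = (ε : ℂ))
    (hχ1 : (χ : G → ℂ) 1 = (X : G → ℂ) 1) : χ = X := by
  classical
  have hcomm : ∀ a b : ↥K, a * b = b * a := fun a b => h.hKab.is_comm.comm a b
  obtain ⟨μ₀, hμ1, hμν⟩ := exists_ne_nu hcomm hk ν hν.1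
  by_contra hne
  have h1 := hχ μ₀ hμ1
  rw [hc.multL μ₀ hμ1 hμν χ, if_neg hne] at h1
  have hε0 : (ε : ℂ) ≠ 0 := by
    rcases hc.hε with h2 | h2 <;> rw [h2] <;> norm_num
  by_cases ht : χ = trivIrr G
  · -- degree contradiction
    rw [ht, hdeg] at hχ1
    have h2 : ((trivIrr G : IrrCharacter G) : G → ℂ) 1 = 1 := rfl
    rw [h2] at hχ1
    have h3 : (q : ℤ) = 1 := by exact_mod_cast hχ1.symm
    have hk' : (4 : ℤ) ≤ (Nat.card K : ℤ) := by exact_mod_cast hk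
    rcases hc.hε with h4 | h4 <;> rw [h4] at hq <;> omega
  · rw [if_neg ht] at h1
    by_cases hL : χ = L μ₀
    · rw [if_pos hL] at h1
      apply hε0
      linear_combination (-1 / 2 : ℂ) * h1
    · rw [if_neg hL] at h1
      apply hε0
      linear_combination -h1

/-- **The character-theoretic part of Brauer-Suzuki-Wall** (`Fintype` form). -/
theorem char_part_fintype {t s : G} {K : Subgroup G} (h : Hyp t s K) (hk : 4 ≤ Nat.card K) :
    DataP K ∨ ∃ X : G → ℂ, DataM K X := by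
  classical
  let _ : Fintype (IrrCharacter G) := fintypeIrr G
  let _ : Fintype (↥K →* ℂˣ) := Fintype.ofFinite _
  obtain ⟨ν, hν⟩ := exists_nu h
  obtain ⟨ε, X, L, Y₁, Y₂, hc⟩ := exists_coh h hk hν
  obtain ⟨q, hq, hdeg, hcard⟩ := degree_and_order h hk hν hc
  obtain ⟨hXKK, -, -, -, -, -⟩ := table h hk hν hc
  have hint : ∀ g : G, ∃ n : ℤ, (X : G → ℂ) g = (n : ℂ) :=
    int_valued X (ε : ℂ) (mult_X hc) (X_unique h hk hν hc q hq hdeg)
  have hX1 : (X : G → ℂ) ≠ 1 := by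
    intro h1
    exact hc.X_ne (Subtype.ext h1)
  obtain ⟨hvals, hzeros⟩ := values_on_RR h ε hc.hε q hq hcard (X : G → ℂ) X.2 hX1 hint hdeg hXKK
  have hpc : ∀ y ∈ RR K, ((X : G → ℂ) y = 0 → (invCount y : ℤ) * 2 = q * (1 + ε)) ∧
      ((X : G → ℂ) y = -(ε : ℂ) → (invCount y : ℤ) = (Nat.card K : ℤ) + ε) := by
    intro y hy
    have h1 := pairCount_RR h hk hν hc q hq hcard hdeg hint y hy
    rw [pairCount_eq_invCount y (orderOf_ne_two_of_mem_RR h hy)] at h1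
    exact h1
  have hk' : (4 : ℤ) ≤ (Nat.card K : ℤ) := by exact_mod_cast hk
  rcases hc.hε with hε | hε
  · -- `ε = 1`
    left
    subst hε
    have hqN : q = 2 * Nat.card K + 1 := by exact_mod_cast hq
    have hne : ∀ y ∈ RR K, (X : G → ℂ) y = -((1 : ℤ) : ℂ) → invCount y ≠ 2 * Nat.card K + 1 := by
      intro y hy hXy hcon
      have h2 := (hpc y hy).2 hXy
      rw [hcon] at h2
      push_cast at h2
      omega
    have h0 : ∀ y ∈ RR K, (X : G → ℂ) y = 0 → invCount y = 2 * Nat.card K + 1 := by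
      intro y hy hXy
      have h2 := (hpc y hy).1 hXy
      rw [hq] at h2
      have : (invCount y : ℤ) = 2 * (Nat.card K : ℤ) + 1 := by omega
      exact_mod_cast this
    refine ⟨?_, ?_, ?_, ?_⟩
    · have : (Nat.card G : ℤ) =
          ((Nat.card K * (2 * Nat.card K + 1) * (2 * Nat.card K + 2) : ℕ) : ℤ) := by
        rw [hcard, hq]; push_cast; ring
      exact_mod_cast this
    · intro y hy
      rcases hvals y hy with hXy | hXy
      · left; exact h0 y hy hXy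
      · right
        have h2 := (hpc y hy).2 hXy
        exact_mod_cast h2
    · have hpos : 0 < Nat.card {y : G // y ∈ RR K ∧ (X : G → ℂ) y = 0} := by
        rw [hzeros, hqN]
        have : 1 < (2 * Nat.card K + 1) ^ 2 := by nlinarith
        omega
      obtain ⟨⟨y, hy, hXy⟩⟩ := (Nat.card_pos_iff.mp hpos).1
      exact ⟨y, hy, h0 y hy hXy⟩
    · have hle : Nat.card {y : G // y ∈ RR K ∧ invCount y = 2 * Nat.card K + 1} ≤
          Nat.card {y : G // y ∈ RR K ∧ (X : G → ℂ) y = 0} := by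
        apply Nat.card_le_card_of_injective
          (fun z : {y : G // y ∈ RR K ∧ invCount y = 2 * Nat.card K + 1} =>
            (⟨z.1, z.2.1, by
              rcases hvals z.1 z.2.1 with hXy | hXy
              · exact hXy
              · exact absurd z.2.2 (hne z.1 z.2.1 hXy)⟩ :
              {y : G // y ∈ RR K ∧ (X : G → ℂ) y = 0}))
        intro a b hab
        exact Subtype.ext
          (congrArg (fun z : {y : G // y ∈ RR K ∧ (X : G → ℂ) y = 0} => z.1) hab)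
      calc Nat.card {y : G // y ∈ RR K ∧ invCount y = 2 * Nat.card K + 1}
          ≤ Nat.card {y : G // y ∈ RR K ∧ (X : G → ℂ) y = 0} := hle
        _ = q ^ 2 - 1 := hzeros
        _ = (2 * Nat.card K + 1) ^ 2 - 1 := by rw [hqN]
  · -- `ε = -1`
    right
    subst hε
    have hqN : q + 1 = 2 * Nat.card K := by
      have : ((q + 1 : ℕ) : ℤ) = ((2 * Nat.card K : ℕ) : ℤ) := by push_cast; rw [hq]; ring
      exact_mod_cast this
    refine ⟨(X : G → ℂ), X.2, ?_, ?_, ?_, ?_, ?_⟩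
    · rw [hdeg]
      have : (q : ℂ) = ((2 * (Nat.card K : ℤ) + (-1 : ℤ) : ℤ) : ℂ) := by rw [← hq]; simp
      rw [this]; push_cast; ring
    · have hk1 : 2 * Nat.card K - 1 = q := by omega
      have hk2 : 2 * Nat.card K - 2 = q - 1 := by omega
      have hq1 : 1 ≤ q := by omega
      rw [hk1, hk2]
      have : (Nat.card G : ℤ) = ((Nat.card K * q * (q - 1) : ℕ) : ℤ) := by
        rw [hcard]; push_cast [hq1]; ring
      exact_mod_cast this
    · intro g hg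
      rw [hXKK g hg]; simp
    · intro y hy
      rcases hvals y hy with hXy | hXy
      · left
        refine ⟨hXy, ?_⟩
        have h2 := (hpc y hy).1 hXy
        have : (invCount y : ℤ) = 0 := by
          have h3 : (invCount y : ℤ) * 2 = 0 := by rw [h2]; ring
          omega
        exact_mod_cast this
      · right
        have hXy' : (X : G → ℂ) y = 1 := by rw [hXy]; simp
        refine ⟨hXy', ?_⟩
        have h2 := (hpc y hy).2 hXy
        have : (invCount y : ℤ) = ((Nat.card K - 1 : ℕ) : ℤ) := by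
          rw [h2]; push_cast [(by omega : 1 ≤ Nat.card K)]; ring
        exact_mod_cast this
    · rw [hzeros]
      have hq' : q = 2 * Nat.card K - 1 := by omega
      rw [hq']
      have h4 : 1 ≤ Nat.card K := by omega
      obtain ⟨k', hk''⟩ : ∃ k', Nat.card K = k' + 1 := ⟨Nat.card K - 1, by omega⟩
      rw [hk'']
      have e1 : 2 * (k' + 1) - 1 = 2 * k' + 1 := by omega
      have e2 : k' + 1 - 1 = k' := by omega
      rw [e1, e2]
      have : (2 * k' + 1) ^ 2 = 4 * (k' + 1) * k' + 1 := by ring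
      omega

omit [Fintype G] in
/-- **The character-theoretic part of Brauer-Suzuki-Wall**: the interface of batch 2 of S3282. -/
theorem char_part [Finite G] {t s : G} {K : Subgroup G} (h : Hyp t s K) (hk : 4 ≤ Nat.card K) :
    DataP K ∨ ∃ X : G → ℂ, DataM K X := by
  classical
  let _ : Fintype G := Fintype.ofFinite G
  exact char_part_fintype h hk

end Cfsg.Agent.Lib.Helper1.BSWChar
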