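/-
helper1: BT-CLASSPOS (twin; S0997 Brauer-Tuan market, planner helper19; `notes/S0997_leaves.lean`): step 6 of the header:
the class constant `a(z,z;x)` is positive, so a conjugate of the involution `z` inverts `x ∈ P#`.
-/
import Mathlib
import Cfsg.Prelude.Def_BlockRank
import Cfsg.Prelude.Def_CaseTheorems
import Cfsg.Agent.Lib.Helper6.BRHDefs
import Cfsg.Agent.Lib.Helper24.BRCDefs
import Cfsg.Agent.Lib.Helper21.ClassMulPos
import Cfsg.Agent.Lib.Helper24.IrrFacts

set_option autoImplicit false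

namespace Cfsg.Agent.Lib.Helper1.BTCLASSPOS

open Cfsg Cfsg.Agent.Lib.Helper8.DOM Cfsg.Agent.Lib.Helper27.DO Cfsg.Agent.CharLib
open Cfsg.Agent.Lib.Helper6.BRH Cfsg.Agent.Lib.Helper24.BRC
open scoped ComplexConjugate

universe u

variable {G : Type u} [Group G] [Finite G] {p : ℕ} [Fact p.Prime]

variable {X Y : Set (IrrCharacter G)} {v : IrrCharacter G → ℤ} {ε : ℤ}

/-- `finsum_mem` over a set of a fintype as a filtered sum -/
theorem finsum_mem_eq_sum_filter_univ {α M : Type*} [Fintype α] [AddCommMonoid M] (s : Set α)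
    [DecidablePred (· ∈ s)] (f : α → M) :
    ∑ᶠ a ∈ s, f a = ∑ a ∈ Finset.univ.filter (· ∈ s), f a := by
  rw [finsum_mem_eq_finite_toFinset_sum f (Set.toFinite s)]
  apply Finset.sum_congr
  · ext a; simp
  · intro _ _; rfl

/-- the value of an irreducible character at an involution is real -/
theorem irr_involution_real (χ : IrrCharacter G) (z : G) (hz : orderOf z = 2) :
    (χ : G → ℂ) z = (((χ : G → ℂ) z).re : ℂ) := by
  have hzz : z⁻¹ = z := by
    have h2 : z ^ 2 = 1 := by rw [← hz]; exact pow_orderOf_eq_one z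
    rw [inv_eq_iff_mul_eq_one, ← sq]; exact h2
  have h := Cfsg.Agent.Lib.Helper24.irr_apply_inv χ z
  rw [hzz] at h
  exact (Complex.conj_eq_iff_re.mp h.symm).symm

/-- BT-CLASSPOS. -/
theorem exists_inverting (hp2 : p ≠ 2) (P : Subgroup G) (hP : Nat.card P = p) (bx : B0X p P X Y v ε) (hε : ε = -1)
    (hout : ∀ χ : IrrCharacter G, χ ∉ X ∪ Y → ∀ x ∈ P, x ≠ 1 → (χ : G → ℂ) x = 0)
    (z : G) (hz : orderOf z = 2) (hvan : ∀ η ∈ X, v η = -1 → (η : G → ℂ) z = 0) (x : G) (hx : x ∈ P) (hx1 : x ≠ 1) :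
    ∃ z₁ : G, orderOf z₁ = 2 ∧
      (Subgroup.centralizer ({z₁} : Set G)).index = (Subgroup.centralizer ({z} : Set G)).index ∧ z₁ * x * z₁⁻¹ = x⁻¹ := by
  classical
  have hpp : p.Prime := Fact.out
  have b0 := bx.b0
  have hfin : Finite (IrrCharacter G) := Cfsg.Agent.CharLib.finite_irrCharacter
  let _ : Fintype G := Fintype.ofFinite G
  let _ : Fintype (IrrCharacter G) := Fintype.ofFinite _
  -- `x` has order `p`
  have hordx : orderOf x = p := by
    have h1 : orderOf (⟨x, hx⟩ : P) ∣ p := by rw [← hP]; exact orderOf_dvd_natCard _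
    rcases (Nat.dvd_prime hpp).mp h1 with h | h
    · exfalso
      have := orderOf_eq_one_iff.mp h
      exact hx1 (congrArg Subtype.val this)
    · have h2 : orderOf ((⟨x, hx⟩ : P) : G) = orderOf (⟨x, hx⟩ : P) := Subgroup.orderOf_coe _
      rw [← h]; exact h2
  have hsing : p ∣ orderOf x := by rw [hordx]
  -- `z` and `1` are `p`-regular
  have hzreg : ¬ p ∣ orderOf z := by
    rw [hz]
    intro h
    rcases (Nat.dvd_prime Nat.prime_two).mp h with h | h
    · exact hpp.one_lt.ne' h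
    · exact hp2 h
  have h1reg : ¬ p ∣ orderOf (1 : G) := by
    rw [orderOf_one]
    intro h
    exact hpp.one_lt.ne' (Nat.dvd_one.mp h)
  -- the character sum
  set F : IrrCharacter G → ℂ := fun χ =>
    (χ : G → ℂ) z * (χ : G → ℂ) z * conj ((χ : G → ℂ) x) / (χ : G → ℂ) 1 with hF
  have hcount := Cfsg.Agent.Lib.Helper21.ClassMulPos.card_pairs_eq z z x
  -- terms outside `Y`
  have hdegpos : ∀ χ : IrrCharacter G, (0 : ℝ) < (charDegree (χ : G → ℂ) : ℝ) := fun χ => by
    exact_mod_cast charDegree_pos χ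
  have hnotY : ∀ χ : IrrCharacter G, χ ∉ Y → 0 ≤ (F χ).re := by
    intro χ hχY
    by_cases hχX : χ ∈ X
    · rcases b0.sgnX χ hχX with hv | hv
      · have hval := b0.valX χ hχX x hsing
        have hreal := irr_involution_real χ z hz
        have h1 := apply_one_eq χ
        have : F χ = ((((χ : G → ℂ) z).re ^ 2 / (charDegree (χ : G → ℂ) : ℝ) : ℝ) : ℂ) := by
          simp only [hF]
          rw [hval, hv, h1, hreal]
          simp only [Complex.ofReal_re]
          push_cast
          simp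
          ring
        rw [this, Complex.ofReal_re]
        exact div_nonneg (sq_nonneg _) (hdegpos χ).le
      · have h0 := hvan χ hχX hv
        have : F χ = 0 := by simp only [hF]; rw [h0]; simp
        rw [this]; simp
    · have h0 := hout χ (fun h => h.elim hχX hχY) x hx hx1
      have : F χ = 0 := by simp only [hF]; rw [h0]; simp
      rw [this]; simp
  -- the trivial character contributes `1`
  have htrivY : trivIrr G ∉ Y := fun h => (Set.disjoint_left.mp b0.disj) b0.trivX h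
  have hFtriv : F (trivIrr G) = 1 := by
    simp only [hF]
    have h1 : ∀ g : G, ((trivIrr G : IrrCharacter G) : G → ℂ) g = 1 := fun g => rfl
    rw [h1, h1, h1]
    simp
  -- the `Y` part
  have hYpart : 0 ≤ (∑ ψ ∈ Finset.univ.filter (· ∈ Y), F ψ).re := by
    by_cases hYne : (Finset.univ.filter (· ∈ Y) : Finset (IrrCharacter G)).Nonempty
    · obtain ⟨ψ₀, hψ₀⟩ := hYne
      have hψ₀Y : ψ₀ ∈ Y := (Finset.mem_filter.mp hψ₀).2
      have hreal := irr_involution_real ψ₀ z hz
      have h1 := apply_one_eq ψ₀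
      have hterm : ∀ ψ ∈ Finset.univ.filter (· ∈ Y), F ψ =
          ((((ψ₀ : G → ℂ) z).re ^ 2 / (charDegree (ψ₀ : G → ℂ) : ℝ) : ℝ) : ℂ) * conj ((ψ : G → ℂ) x) := by
        intro ψ hψ
        have hψY : ψ ∈ Y := (Finset.mem_filter.mp hψ).2
        simp only [hF]
        rw [bx.regY ψ hψY ψ₀ hψ₀Y z hzreg, bx.regY ψ hψY ψ₀ hψ₀Y 1 h1reg, h1, hreal]
        simp only [Complex.ofReal_re]
        push_cast
        ring
      rw [Finset.sum_congr rfl hterm, ← Finset.mul_sum]
      have hsum : ∑ ψ ∈ Finset.univ.filter (· ∈ Y), conj ((ψ : G → ℂ) x) = 1 := by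
        rw [← map_sum]
        have h := b0.sumY x hsing
        rw [finsum_mem_eq_sum_filter_univ] at h
        rw [h, hε]
        simp
      rw [hsum, mul_one, Complex.ofReal_re]
      exact div_nonneg (sq_nonneg _) (hdegpos ψ₀).le
    · rw [Finset.not_nonempty_iff_eq_empty] at hYne
      rw [hYne]; simp
  -- lower bound for the real part of the whole sum
  have hsplit : ∑ χ : IrrCharacter G, F χ =
      ∑ χ ∈ Finset.univ.filter (· ∈ Y), F χ + ∑ χ ∈ Finset.univ.filter (fun χ => ¬ χ ∈ Y), F χ :=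
    (Finset.sum_filter_add_sum_filter_not Finset.univ (· ∈ Y) F).symm
  have hnotYsum : 1 ≤ (∑ χ ∈ Finset.univ.filter (fun χ => ¬ χ ∈ Y), F χ).re := by
    rw [Complex.re_sum]
    have hmem : trivIrr G ∈ Finset.univ.filter (fun χ : IrrCharacter G => ¬ χ ∈ Y) := by
      simp [htrivY]
    have h1 : (F (trivIrr G)).re ≤ ∑ χ ∈ Finset.univ.filter (fun χ => ¬ χ ∈ Y), (F χ).re :=
      Finset.single_le_sum (f := fun χ => (F χ).re)
        (fun χ hχ => hnotY χ (Finset.mem_filter.mp hχ).2) hmem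
    rw [hFtriv] at h1
    simpa using h1
  have hre : 1 ≤ (∑ χ : IrrCharacter G, F χ).re := by
    rw [hsplit, Complex.add_re]
    linarith
  -- so some pair exists
  have hcardpos : 0 < (Finset.univ.filter
      (fun ab : G × G => ab.1 * z * ab.1⁻¹ * (ab.2 * z * ab.2⁻¹) = x)).card := by
    by_contra h0
    have h0' : (Finset.univ.filter
      (fun ab : G × G => ab.1 * z * ab.1⁻¹ * (ab.2 * z * ab.2⁻¹) = x)).card = 0 := by omega
    rw [h0'] at hcount
    have hGpos : (0 : ℝ) < (Fintype.card G : ℝ) := by exact_mod_cast Fintype.card_pos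
    have h2 := congrArg Complex.re hcount
    simp only [Nat.cast_zero, Complex.zero_re] at h2
    have h3 : ((Fintype.card G : ℂ) * ∑ χ : IrrCharacter G, F χ).re =
        (Fintype.card G : ℝ) * (∑ χ : IrrCharacter G, F χ).re := by
      rw [Complex.mul_re]
      simp
    have h4 : ((Fintype.card G : ℂ) * ∑ χ : IrrCharacter G,
        (χ : G → ℂ) z * (χ : G → ℂ) z * conj ((χ : G → ℂ) x) / (χ : G → ℂ) 1).re =
        (Fintype.card G : ℝ) * (∑ χ : IrrCharacter G, F χ).re := h3
    rw [h4] at h2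
    nlinarith
  obtain ⟨⟨a, b⟩, hab⟩ := Finset.card_pos.mp hcardpos
  have hab' : a * z * a⁻¹ * (b * z * b⁻¹) = x := (Finset.mem_filter.mp hab).2
  have hz2 : z * z = 1 := by
    have h2 : z ^ 2 = 1 := by rw [← hz]; exact pow_orderOf_eq_one z
    rwa [sq] at h2
  refine ⟨a * z * a⁻¹, ?_, ?_, ?_⟩
  · have h : a * z * a⁻¹ = MulAut.conj a z := by simp [MulAut.conj_apply]
    rw [h, MulEquiv.orderOf_eq]
    exact hz
  · -- centralizers of conjugate elements have the same index
    have hcent : Subgroup.centralizer ({a * z * a⁻¹} : Set G) =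
        (Subgroup.centralizer ({z} : Set G)).map (MulAut.conj a).toMonoidHom := by
      ext g
      simp only [Subgroup.mem_centralizer_iff, Set.mem_singleton_iff, forall_eq, Subgroup.mem_map,
        MulEquiv.coe_toMonoidHom, MulAut.conj_apply]
      constructor
      · intro h
        refine ⟨a⁻¹ * g * a, ?_, by group⟩
        have h1 : a⁻¹ * (a * z * a⁻¹ * g) * a = a⁻¹ * (g * (a * z * a⁻¹)) * a := by rw [h]
        calc z * (a⁻¹ * g * a) = a⁻¹ * (a * z * a⁻¹ * g) * a := by group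
          _ = a⁻¹ * (g * (a * z * a⁻¹)) * a := h1
          _ = a⁻¹ * g * a * z := by group
      · rintro ⟨k, hk, rfl⟩
        calc a * z * a⁻¹ * (a * k * a⁻¹) = a * (z * k) * a⁻¹ := by group
          _ = a * (k * z) * a⁻¹ := by rw [hk]
          _ = a * k * a⁻¹ * (a * z * a⁻¹) := by group
    rw [hcent]
    exact Subgroup.index_map_equiv _ (MulAut.conj a)
  · have hz1 : (a * z * a⁻¹) * (a * z * a⁻¹) = 1 := by
      calc (a * z * a⁻¹) * (a * z * a⁻¹) = a * (z * z) * a⁻¹ := by group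
        _ = 1 := by rw [hz2]; group
    have hz1' : (b * z * b⁻¹) * (b * z * b⁻¹) = 1 := by
      calc (b * z * b⁻¹) * (b * z * b⁻¹) = b * (z * z) * b⁻¹ := by group
        _ = 1 := by rw [hz2]; group
    have hinv1 : (a * z * a⁻¹)⁻¹ = a * z * a⁻¹ := inv_eq_of_mul_eq_one_left hz1
    have hinv2 : (b * z * b⁻¹)⁻¹ = b * z * b⁻¹ := inv_eq_of_mul_eq_one_left hz1'
    rw [hinv1]
    calc a * z * a⁻¹ * x * (a * z * a⁻¹)
        = a * z * a⁻¹ * (a * z * a⁻¹ * (b * z * b⁻¹)) * (a * z * a⁻¹) := by rw [hab']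
      _ = ((a * z * a⁻¹) * (a * z * a⁻¹)) * (b * z * b⁻¹) * (a * z * a⁻¹) := by group
      _ = (b * z * b⁻¹) * (a * z * a⁻¹) := by rw [hz1, one_mul]
      _ = (b * z * b⁻¹)⁻¹ * (a * z * a⁻¹)⁻¹ := by rw [hinv1, hinv2]
      _ = (a * z * a⁻¹ * (b * z * b⁻¹))⁻¹ := (mul_inv_rev _ _).symm
      _ = x⁻¹ := by rw [hab']

end Cfsg.Agent.Lib.Helper1.BTCLASSPOS
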