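/-
helper1: BT-STEP1 (S0997 Brauer-Tuan market, planner helper19; `notes/S0997_leaves.lean`): step 1 of the header.
-/
import Mathlib
import Cfsg.Prelude.Def_BlockRank
import Cfsg.Prelude.Def_CaseTheorems
import Cfsg.Agent.Lib.Helper6.BRHDefs
import Cfsg.Agent.Lib.Helper24.BRCDefs
import Cfsg.Agent.Lib.Helper5.BRWLIN
import Cfsg.Agent.Lib.Helper24.IrrFacts

set_option autoImplicit false

namespace Cfsg.Agent.Lib.Helper1.BTSTEP1

open Cfsg Cfsg.Agent.Lib.Helper8.DOM Cfsg.Agent.Lib.Helper27.DO Cfsg.Agent.CharLib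
open Cfsg.Agent.Lib.Helper6.BRH Cfsg.Agent.Lib.Helper24.BRC
open scoped ComplexConjugate

universe u

variable {G : Type u} [Group G] [Finite G] {p : ℕ} [Fact p.Prime]

variable {X Y : Set (IrrCharacter G)} {v : IrrCharacter G → ℤ} {ε : ℤ}

/-- a degree prime to `p` and `q` dividing `p q^b g₀` divides `g₀` -/
theorem dvd_of_coprime (q b g₀ d : ℕ) (hq : q.Prime) (hd : d ∣ p * q ^ b * g₀) (hp : ¬ p ∣ d) (hqd : ¬ q ∣ d) :
    d ∣ g₀ := by
  have hpp : p.Prime := Fact.out
  have h1 : Nat.Coprime d p := (Nat.Prime.coprime_iff_not_dvd hpp).mpr hp |>.symm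
  have h2 : Nat.Coprime d (q ^ b) := Nat.Coprime.pow_right b ((Nat.Prime.coprime_iff_not_dvd hq).mpr hqd |>.symm)
  have h3 : d ∣ q ^ b * g₀ := by
    rw [mul_assoc] at hd
    exact h1.dvd_of_dvd_mul_left hd
  exact h2.dvd_of_dvd_mul_left h3

/-- BT-STEP1. -/
theorem step1 (hperf : commutator G = ⊤) (q b g₀ : ℕ) (hq : q.Prime) (hpq : p ≠ q)
    (hcard : Nat.card G = p * q ^ b * g₀) (hg : g₀ < p - 1)
    (P : Subgroup G) (hP : Nat.card P = p) (hSyl : ¬ p ∣ P.index) (hf2 : 2 ≤ fI P) (b0 : B0 p P X Y v ε)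
    (hdX : ∀ η ∈ X, (charDegree (η : G → ℂ) : ℤ) ≡ v η [ZMOD p])
    (hdY : ∀ ξ ∈ Y, (charDegree (ξ : G → ℂ) : ℤ) ≡ ε * ((Cz P).relIndex (Nz P) : ℤ) [ZMOD p]) :
    fI P < p - 1 ∧ (∀ η ∈ X, η ≠ trivIrr G → q ∣ charDegree (η : G → ℂ)) ∧
      ∀ ψ ∈ Y, charDegree (ψ : G → ℂ) ∣ g₀ ∧
        ((ε = 1 ∧ charDegree (ψ : G → ℂ) = fI P) ∨ (ε = -1 ∧ charDegree (ψ : G → ℂ) + fI P = p)) := by
  classical
  have hpp : p.Prime := Fact.out
  have hfin : Finite (IrrCharacter G) := Cfsg.Agent.CharLib.finite_irrCharacter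
  have hGpos : 0 < Nat.card G := Nat.card_pos
  have hg0pos : 0 < g₀ := by
    rcases Nat.eq_zero_or_pos g₀ with h | h
    · rw [h, mul_zero] at hcard; omega
    · exact h
  have hp3 : 3 ≤ p := by omega
  set f := fI P with hfdef
  have hfdvd : f ∣ p - 1 := b0.dvd
  have hfle : f ≤ p - 1 := Nat.le_of_dvd (by omega) hfdvd
  -- degrees divide `|G|`
  have hdvdG : ∀ χ : IrrCharacter G, charDegree (χ : G → ℂ) ∣ p * q ^ b * g₀ := by
    intro χ
    rw [← hcard]
    exact Cfsg.Agent.Lib.Helper24.irr_charDegree_dvd_card χ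
  have hpos : ∀ χ : IrrCharacter G, 0 < charDegree (χ : G → ℂ) := fun χ => charDegree_pos χ
  -- `v 1_G = 1`
  have hvtriv : v (trivIrr G) = 1 := by
    obtain ⟨x, hx⟩ : ∃ x : P, x ≠ 1 := by
      have : Nontrivial P := (Finite.one_lt_card_iff_nontrivial).mp (by rw [hP]; exact hpp.one_lt)
      exact exists_ne 1
    have hord : orderOf (x : G) = p := by
      have h1 : orderOf x ∣ p := by rw [← hP]; exact orderOf_dvd_natCard x
      rcases (Nat.dvd_prime hpp).mp h1 with h | h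
      · exact absurd (orderOf_eq_one_iff.mp h) hx
      · rw [Subgroup.orderOf_coe]; exact h
    have h := b0.valX (trivIrr G) b0.trivX (x : G) (by rw [hord])
    have h1 : ((trivIrr G : IrrCharacter G) : G → ℂ) (x : G) = 1 := rfl
    rw [h1] at h
    exact_mod_cast h.symm
  -- `q ∣ η(1)` for `η ∈ X \ 1`
  have hX : ∀ η ∈ X, η ≠ trivIrr G → q ∣ charDegree (η : G → ℂ) := by
    intro η hη hne
    by_contra hq'
    have hcong := hdX η hη
    have hnp : ¬ p ∣ charDegree (η : G → ℂ) := by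
      intro hd
      have h1 : ((charDegree (η : G → ℂ) : ℕ) : ℤ) ≡ 0 [ZMOD p] :=
        (Int.modEq_zero_iff_dvd).mpr (by exact_mod_cast hd)
      have h2 : (v η : ℤ) ≡ 0 [ZMOD p] := hcong.symm.trans h1
      have h3 : (p : ℤ) ∣ v η := (Int.modEq_zero_iff_dvd).mp h2
      rcases b0.sgnX η hη with h | h
      · rw [h] at h3
        have := Int.le_of_dvd one_pos h3
        omega
      · rw [h] at h3
        have := Int.le_of_dvd one_pos ((dvd_neg).mp h3)
        omega
    have hdg : charDegree (η : G → ℂ) ∣ g₀ := dvd_of_coprime q b g₀ _ hq (hdvdG η) hnp hq'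
    have hle : charDegree (η : G → ℂ) ≤ g₀ := Nat.le_of_dvd hg0pos hdg
    have hdpos := hpos η
    have hone : charDegree (η : G → ℂ) = 1 := by
      rcases b0.sgnX η hη with h | h
      · rw [h] at hcong
        have h3 : (p : ℤ) ∣ (charDegree (η : G → ℂ) : ℤ) - 1 := (Int.modEq_iff_dvd.mp hcong.symm)
        have h4 : (charDegree (η : G → ℂ) : ℤ) - 1 = 0 :=
          Int.eq_zero_of_dvd_of_nonneg_of_lt (by omega) (by omega) h3
        omega
      · rw [h] at hcong
        have h3 : (p : ℤ) ∣ (charDegree (η : G → ℂ) : ℤ) - (-1) := (Int.modEq_iff_dvd.mp hcong.symm)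
        have h4 : (charDegree (η : G → ℂ) : ℤ) - (-1) = 0 :=
          Int.eq_zero_of_dvd_of_nonneg_of_lt (by omega) (by omega) h3
        omega
    exact hne (Cfsg.Agent.Lib.Helper5.BRWLIN.eq_triv_of_degree_one hperf η hone)
  -- the facts on `Y`
  have hYfacts : ∀ ψ ∈ Y, charDegree (ψ : G → ℂ) ∣ g₀ ∧
      ((ε = 1 ∧ charDegree (ψ : G → ℂ) = f) ∨ (ε = -1 ∧ charDegree (ψ : G → ℂ) + f = p)) := by
    intro ψ hψ
    have hcong := hdY ψ hψ
    have hdpos := hpos ψ
    -- `p ∤ ψ(1)`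
    have hnp : ¬ p ∣ charDegree (ψ : G → ℂ) := by
      intro hd
      have h1 : ((charDegree (ψ : G → ℂ) : ℕ) : ℤ) ≡ 0 [ZMOD p] :=
        (Int.modEq_zero_iff_dvd).mpr (by exact_mod_cast hd)
      have h2 : ε * (f : ℤ) ≡ 0 [ZMOD p] := hcong.symm.trans h1
      have h3 : (p : ℤ) ∣ ε * (f : ℤ) := (Int.modEq_zero_iff_dvd).mp h2
      have h4 : (p : ℤ) ∣ (f : ℤ) := by
        rcases b0.sgn with h | h
        · rw [h, one_mul] at h3; exact h3
        · rw [h, neg_one_mul] at h3; exact (dvd_neg).mp h3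
      have h5 : p ∣ f := by exact_mod_cast h4
      have := Nat.le_of_dvd (by omega) h5
      omega
    -- `q ∤ ψ(1)`
    have hnq : ¬ q ∣ charDegree (ψ : G → ℂ) := by
      intro hd
      have hdeg := b0.degY ψ hψ
      have hXfin : X.Finite := Set.toFinite X
      have hins : X = insert (trivIrr G) (X \ {trivIrr G}) := by
        ext χ
        constructor
        · intro h
          by_cases hc : χ = trivIrr G
          · exact Or.inl hc
          · exact Or.inr ⟨h, hc⟩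
        · rintro (h | h)
          · rw [h]; exact b0.trivX
          · exact h.1
      have hsum : ∑ᶠ η ∈ X, v η * (charDegree (η : G → ℂ) : ℤ) =
          1 + ∑ᶠ η ∈ X \ {trivIrr G}, v η * (charDegree (η : G → ℂ) : ℤ) := by
        conv_lhs => rw [hins]
        rw [finsum_mem_insert _ (by simp) (hXfin.subset Set.sdiff_subset)]
        congr 1
        rw [hvtriv, one_mul]
        have h1 : charDegree ((trivIrr G : IrrCharacter G) : G → ℂ) = 1 := by
          have h := apply_one_eq (trivIrr G)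
          have h2 : ((trivIrr G : IrrCharacter G) : G → ℂ) 1 = 1 := rfl
          rw [h2] at h
          exact_mod_cast h.symm
        rw [h1]; rfl
      have hrest : (q : ℤ) ∣ ∑ᶠ η ∈ X \ {trivIrr G}, v η * (charDegree (η : G → ℂ) : ℤ) := by
        apply finsum_mem_induction (fun z => (q : ℤ) ∣ z) (dvd_zero _) (fun _ _ hx hy => dvd_add hx hy)
        intro η hη
        have := hX η hη.1 (fun h => hη.2 h)
        exact Dvd.dvd.mul_left (by exact_mod_cast this) _
      have hlhs : (q : ℤ) ∣ ε * (charDegree (ψ : G → ℂ) : ℤ) :=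
        Dvd.dvd.mul_left (by exact_mod_cast hd) _
      rw [hdeg, hsum] at hlhs
      have h1 : (q : ℤ) ∣ 1 := (dvd_add_left hrest).mp hlhs
      have h2 : q ∣ 1 := by exact_mod_cast h1
      exact hq.one_lt.ne' (Nat.dvd_one.mp h2)
    have hdg : charDegree (ψ : G → ℂ) ∣ g₀ := dvd_of_coprime q b g₀ _ hq (hdvdG ψ) hnp hnq
    have hle : charDegree (ψ : G → ℂ) ≤ g₀ := Nat.le_of_dvd hg0pos hdg
    refine ⟨hdg, ?_⟩
    rcases b0.sgn with h | h
    · left
      refine ⟨h, ?_⟩
      rw [h, one_mul] at hcong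
      have h3 : (p : ℤ) ∣ (f : ℤ) - (charDegree (ψ : G → ℂ) : ℤ) := (Int.modEq_iff_dvd.mp hcong)
      rcases le_total (charDegree (ψ : G → ℂ)) f with hc | hc
      · have h4 : (f : ℤ) - (charDegree (ψ : G → ℂ) : ℤ) = 0 :=
          Int.eq_zero_of_dvd_of_nonneg_of_lt (by omega) (by omega) h3
        omega
      · have h3' : (p : ℤ) ∣ (charDegree (ψ : G → ℂ) : ℤ) - (f : ℤ) := by
          have := (dvd_neg).mpr h3
          rwa [neg_sub] at this
        have h4 : (charDegree (ψ : G → ℂ) : ℤ) - (f : ℤ) = 0 :=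
          Int.eq_zero_of_dvd_of_nonneg_of_lt (by omega) (by omega) h3'
        omega
    · right
      refine ⟨h, ?_⟩
      rw [h, neg_one_mul] at hcong
      have h3 : (p : ℤ) ∣ -(f : ℤ) - (charDegree (ψ : G → ℂ) : ℤ) := (Int.modEq_iff_dvd.mp hcong)
      have h3' : (p : ℤ) ∣ (charDegree (ψ : G → ℂ) : ℤ) + (f : ℤ) - p := by
        have h5 := (dvd_neg).mpr h3
        have h6 : -(-(f : ℤ) - (charDegree (ψ : G → ℂ) : ℤ)) = (charDegree (ψ : G → ℂ) : ℤ) + (f : ℤ) := by ring
        rw [h6] at h5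
        exact dvd_sub h5 (dvd_refl _)
      rcases le_total p (charDegree (ψ : G → ℂ) + f) with hc | hc
      · have h4 : (charDegree (ψ : G → ℂ) : ℤ) + (f : ℤ) - p = 0 :=
          Int.eq_zero_of_dvd_of_nonneg_of_lt (by omega) (by omega) h3'
        omega
      · have h5 : (p : ℤ) ∣ (charDegree (ψ : G → ℂ) : ℤ) + (f : ℤ) := by
          have := dvd_add h3' (dvd_refl (p : ℤ))
          simpa using this
        have h6 : p ∣ charDegree (ψ : G → ℂ) + f := by exact_mod_cast h5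
        have := Nat.le_of_dvd (by omega) h6
        omega
  refine ⟨?_, hX, hYfacts⟩
  -- `f < p - 1`
  by_contra hcon
  have hfeq : f = p - 1 := by omega
  have hcY : Nat.card Y = 1 := by
    rw [b0.cardY]
    show (p - 1) / f = 1
    rw [hfeq]
    exact Nat.div_self (by omega)
  have hYne : Y.Nonempty := by
    by_contra hne
    rw [Set.not_nonempty_iff_eq_empty] at hne
    rw [hne] at hcY
    simp at hcY
  obtain ⟨ψ, hψ⟩ := hYne
  obtain ⟨hdg, hcase⟩ := hYfacts ψ hψ
  have hle : charDegree (ψ : G → ℂ) ≤ g₀ := Nat.le_of_dvd hg0pos hdg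
  rcases hcase with ⟨_, h⟩ | ⟨_, h⟩
  · omega
  · have hone : charDegree (ψ : G → ℂ) = 1 := by omega
    have htriv := Cfsg.Agent.Lib.Helper5.BRWLIN.eq_triv_of_degree_one hperf ψ hone
    have hmem : ψ ∈ X := by rw [htriv]; exact b0.trivX
    exact (Set.disjoint_left.mp b0.disj) hmem hψ

end Cfsg.Agent.Lib.Helper1.BTSTEP1
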