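import Mathlib

/-!
The Baer trick (helper1 library): on a group of odd prime exponent `p` and class at most two, the
operation `a ∘ b = a * b * ⁅b, a⁆ ^ ((p + 1) / 2)` is a commutative group structure with the same
automorphisms.
-/

set_option autoImplicit false
open scoped commutatorElement

namespace Cfsg.Agent.Lib.Helper1

/-- hypotheses for the Baer trick -/
class BaerHyp (p : ℕ) (G : Type*) [Group G] : Prop where
  half : 2 * ((p + 1) / 2) = p + 1
  central : ∀ x y : G, ⁅x, y⁆ ∈ Subgroup.center G
  exp : ∀ x : G, x ^ p = 1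

/-- the Baer group: a type synonym -/
def Baer (_p : ℕ) (G : Type*) := G

section lemmas

variable {G : Type*} [Group G]

theorem comm_mul_right_of_central (hc : ∀ x y : G, ⁅x, y⁆ ∈ Subgroup.center G) (a b c : G) :
    ⁅a, b * c⁆ = ⁅a, b⁆ * ⁅a, c⁆ := by
  have h1 : ⁅a, b * c⁆ = ⁅a, b⁆ * (b * ⁅a, c⁆ * b⁻¹) := by
    simp only [commutatorElement_def]; group
  have h2 := Subgroup.mem_center_iff.mp (hc a c) b
  rw [h1, h2, mul_inv_cancel_right]

theorem comm_mul_left_of_central (hc : ∀ x y : G, ⁅x, y⁆ ∈ Subgroup.center G) (a b c : G) :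
    ⁅a * b, c⁆ = ⁅a, c⁆ * ⁅b, c⁆ := by
  have h1 : ⁅a * b, c⁆ = a * ⁅b, c⁆ * a⁻¹ * ⁅a, c⁆ := by
    simp only [commutatorElement_def]; group
  have h2 := Subgroup.mem_center_iff.mp (hc b c) a
  have h3 := Subgroup.mem_center_iff.mp (hc b c) ⁅a, c⁆
  rw [h1, h2, mul_inv_cancel_right, h3]

theorem comm_mul_central_right (hc : ∀ x y : G, ⁅x, y⁆ ∈ Subgroup.center G) (a b z : G)
    (hz : z ∈ Subgroup.center G) : ⁅a, b * z⁆ = ⁅a, b⁆ := by
  rw [comm_mul_right_of_central hc]
  have : ⁅a, z⁆ = 1 := by
    rw [commutatorElement_eq_one_iff_mul_comm]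
    exact Subgroup.mem_center_iff.mp hz a
  rw [this, mul_one]

theorem comm_mul_central_left (hc : ∀ x y : G, ⁅x, y⁆ ∈ Subgroup.center G) (a b z : G)
    (hz : z ∈ Subgroup.center G) : ⁅a * z, b⁆ = ⁅a, b⁆ := by
  rw [comm_mul_left_of_central hc]
  have : ⁅z, b⁆ = 1 := by
    rw [commutatorElement_eq_one_iff_mul_comm]
    exact (Subgroup.mem_center_iff.mp hz b).symm
  rw [this, mul_one]

theorem central_assoc_aux {a b c u v w : G} (hu : u ∈ Subgroup.center G)
    (hw : w ∈ Subgroup.center G) :
    a * b * u * c * (v * w) = a * (b * c * w) * (u * v) := by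
  have hu' := Subgroup.mem_center_iff.mp hu
  have hw' := Subgroup.mem_center_iff.mp hw
  have e1 : a * b * u * c = a * b * c * u := by
    rw [mul_assoc (a * b) u c, ← hu' c, ← mul_assoc]
  rw [e1]
  have e2 : u * (v * w) = w * (u * v) := by
    rw [← mul_assoc, hw' (u * v)]
  calc a * b * c * u * (v * w) = a * b * c * (u * (v * w)) := by rw [mul_assoc]
    _ = a * b * c * (w * (u * v)) := by rw [e2]
    _ = a * (b * c * w) * (u * v) := by simp only [mul_assoc]

end lemmas

namespace Baer

variable {p : ℕ} {G : Type*} [Group G] [hB : BaerHyp p G]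

/-- the correction factor -/
def cor (p : ℕ) {G : Type*} [Group G] (a b : G) : G := ⁅b, a⁆ ^ ((p + 1) / 2)

theorem cor_central (a b : G) : cor p a b ∈ Subgroup.center G :=
  Subgroup.pow_mem _ (hB.central b a) _

theorem cor_mul_right (a b c : G) : cor p a (b * c) = cor p a b * cor p a c := by
  unfold cor
  rw [comm_mul_left_of_central hB.central]
  have hcomm : Commute ⁅b, a⁆ ⁅c, a⁆ := Subgroup.mem_center_iff.mp (hB.central c a) ⁅b, a⁆
  exact hcomm.mul_pow _

theorem cor_mul_left (a b c : G) : cor p (a * b) c = cor p a c * cor p b c := by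
  unfold cor
  rw [comm_mul_right_of_central hB.central]
  have hcomm : Commute ⁅c, a⁆ ⁅c, b⁆ := Subgroup.mem_center_iff.mp (hB.central c b) ⁅c, a⁆
  exact hcomm.mul_pow _

theorem cor_central_right (a b z : G) (hz : z ∈ Subgroup.center G) :
    cor p a (b * z) = cor p a b := by
  unfold cor
  rw [comm_mul_central_left hB.central _ _ _ hz]

theorem cor_central_left (a b z : G) (hz : z ∈ Subgroup.center G) :
    cor p (a * z) b = cor p a b := by
  unfold cor
  rw [comm_mul_central_right hB.central _ _ _ hz]

/-- the Baer multiplication on the underlying type -/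
def bmul (p : ℕ) {G : Type*} [Group G] (a b : G) : G := a * b * cor p a b

theorem bmul_assoc (a b c : G) : bmul p (bmul p a b) c = bmul p a (bmul p b c) := by
  unfold bmul
  rw [cor_central_left (p := p) (a * b) c _ (cor_central a b), cor_mul_left,
    cor_central_right (p := p) a (b * c) _ (cor_central b c), cor_mul_right]
  exact central_assoc_aux (cor_central a b) (cor_central b c)

theorem bmul_one_left (a : G) : bmul p 1 a = a := by
  unfold bmul cor
  simp

theorem bmul_inv_left (a : G) : bmul p a⁻¹ a = 1 := by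
  unfold bmul cor
  have : ⁅a, a⁻¹⁆ = 1 := by simp [commutatorElement_def]
  rw [this]
  simp

theorem bmul_comm (a b : G) : bmul p a b = bmul p b a := by
  unfold bmul cor
  set c := ⁅a, b⁆ with hc
  have hcinv : ⁅b, a⁆ = c⁻¹ := by rw [hc, commutatorElement_inv]
  have hcc := Subgroup.mem_center_iff.mp (hB.central a b)
  have hab : a * b = c * (b * a) := by
    rw [hc]; simp only [commutatorElement_def]; group
  have hpow : c ^ (2 * ((p + 1) / 2)) = c := by
    rw [hB.half, pow_succ, hB.exp, one_mul]
  have h1 : c * (c⁻¹) ^ ((p + 1) / 2) = c ^ ((p + 1) / 2) := by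
    rw [inv_pow, mul_inv_eq_iff_eq_mul, ← pow_add, ← two_mul]
    exact hpow.symm
  rw [hcinv, hab, ← hcc (b * a), mul_assoc, h1]

/-- underlying element -/
def out {p : ℕ} {G : Type*} (a : Baer p G) : G := a
/-- element of the Baer group -/
def mk {p : ℕ} {G : Type*} (a : G) : Baer p G := a

omit hB in
instance instMul : Mul (Baer p G) := ⟨fun a b => mk (bmul p (out a) (out b))⟩
omit hB in
instance instInv : Inv (Baer p G) := ⟨fun a => mk (out a)⁻¹⟩
omit hB in
instance instOne : One (Baer p G) := ⟨mk (1 : G)⟩

instance instGroup : Group (Baer p G) :=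
  Group.ofLeftAxioms
    (fun a b c => bmul_assoc (p := p) (out a) (out b) (out c))
    (fun a => bmul_one_left (p := p) (out a))
    (fun a => bmul_inv_left (p := p) (out a))

instance instCommGroup : CommGroup (Baer p G) :=
  { instGroup with mul_comm := fun a b => bmul_comm (p := p) (out a) (out b) }

omit hB in
theorem out_mul (a b : Baer p G) : out (a * b) = bmul p (out a) (out b) := rfl

/-- an automorphism of `G` as an automorphism of the Baer group -/
def aut (α : MulAut G) : MulAut (Baer p G) :=
  { toFun := fun a => mk (α (out a))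
    invFun := fun a => mk (α.symm (out a))
    left_inv := fun a => α.symm_apply_apply (out a)
    right_inv := fun a => α.apply_symm_apply (out a)
    map_mul' := by
      intro a b
      show α (bmul p (out a) (out b)) = bmul p (α (out a)) (α (out b))
      unfold bmul cor
      rw [map_mul, map_mul, map_pow, map_commutatorElement] }

theorem aut_apply (α : MulAut G) (a : Baer p G) : out (aut α a) = α (out a) := rfl

/-- a homomorphism into `MulAut G` as a homomorphism into `MulAut (Baer p G)` -/
def autHom {A : Type*} [Group A] (φ : A →* MulAut G) : A →* MulAut (Baer p G) :=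
  { toFun := fun a => aut (φ a)
    map_one' := by
      ext x
      show mk ((φ 1) (out x)) = x
      rw [map_one]
      rfl
    map_mul' := by
      intro a b
      ext x
      show mk ((φ (a * b)) (out x)) = mk ((φ a) (out (mk ((φ b) (out x)))))
      rw [map_mul]
      rfl }

theorem autHom_apply {A : Type*} [Group A] (φ : A →* MulAut G) (a : A) (x : Baer p G) :
    out (autHom φ a x) = φ a (out x) := rfl

end Baer

end Cfsg.Agent.Lib.Helper1
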