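import Mathlib
import Cfsg.Prelude.Def_ClassicalGeometry
import Cfsg.Prelude.Def_GeometricClasses
import Cfsg.Agent.Lib.Helper5.SpMax
import Cfsg.Agent.Lib.Helper22.C3Defs
import Cfsg.Agent.Lib.Helper22.C3Tool
import Cfsg.Agent.Lib.Helper23.C3E

/-!
helper1 for helper22's S5665 market, leaf C3C (`eq_or_eq_neg_of_line_invariant`): a matrix `J₁` with
`J₁² = δ` mapping every non-singular vector into its `K`-line is `± J`.
-/

set_option autoImplicit false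
set_option linter.unusedSectionVars false
set_option linter.unusedVariables false

namespace Cfsg.Agent.Lib.Helper1.C3Leaf
open Cfsg Matrix Cfsg.Agent.Lib.Helper5 Cfsg.Agent.Lib.Helper5.SpMax Cfsg.Agent.Lib.Helper22.C3
  Cfsg.Agent.Lib.Helper22.C3Leaf

variable {F : Type*} [Field F] {m : ℕ}

local notation "𝕍" => (Fin m ⊕ Fin m → F)
local notation "𝕄" => Matrix (Fin m ⊕ Fin m) (Fin m ⊕ Fin m) F

/-! ### basic facts on `N`, `β`, `act` -/

lemma c3c_beta_symm (S : CS m F) (u w : 𝕍) :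
    sympForm m F u (S.J *ᵥ w) = sympForm m F w (S.J *ᵥ u) := by
  rw [sympForm_swap m w, S.skew, neg_neg]

lemma c3c_N_add (S : CS m F) (u w : 𝕍) :
    S.N (u + w) = S.N u + S.N w + 2 * sympForm m F u (S.J *ᵥ w) := by
  unfold CS.N
  rw [Matrix.mulVec_add, sympForm_add_left, sympForm_add_right, sympForm_add_right,
    c3c_beta_symm S w u]
  ring

lemma c3c_N_sub (S : CS m F) (u w : 𝕍) :
    S.N (u - w) = S.N u + S.N w - 2 * sympForm m F u (S.J *ᵥ w) := by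
  unfold CS.N
  rw [Matrix.mulVec_sub, sympForm_sub_left, sympForm_sub_right, sympForm_sub_right,
    c3c_beta_symm S w u]
  ring

lemma c3c_N_zero (S : CS m F) : S.N (0 : 𝕍) = 0 := by
  unfold CS.N
  rw [sympForm_zero_left]

lemma c3c_ne_zero (S : CS m F) {v : 𝕍} (hv : S.N v ≠ 0) : v ≠ 0 := by
  intro h
  apply hv
  rw [h, c3c_N_zero]

lemma c3c_act_sub (S : CS m F) (s t s' t' : F) (u : 𝕍) :
    S.act (s - s') (t - t') u = S.act s t u - S.act s' t' u := by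
  unfold CS.act
  rw [sub_smul, sub_smul]
  abel

lemma c3c_act_one_zero (S : CS m F) (u : 𝕍) : S.act 1 0 u = u := by
  unfold CS.act
  rw [one_smul, zero_smul, add_zero]

/-- orthogonality to a `K`-line is `K`-stable -/
lemma c3c_act_perp (S : CS m F) {y v : 𝕍} (h1 : sympForm m F y v = 0)
    (h2 : sympForm m F y (S.J *ᵥ v) = 0) (a b : F) :
    sympForm m F (S.act a b y) v = 0 ∧ sympForm m F (S.act a b y) (S.J *ᵥ v) = 0 := by
  unfold CS.act
  constructor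
  · rw [sympForm_add_left, sympForm_smul_left, sympForm_smul_left, S.skew, h1, h2]
    ring
  · rw [sympForm_add_left, sympForm_smul_left, sympForm_smul_left, S.form_JJ, h1, h2]
    ring

/-- two orthogonal `K`-lines, one of them non-degenerate, meet trivially -/
lemma c3c_indep (S : CS m F) {u v : 𝕍} (huv : sympForm m F u v = 0)
    (huJv : sympForm m F u (S.J *ᵥ v) = 0) (hu : S.N u ≠ 0) (hv : v ≠ 0) {a b c d : F}
    (h : S.act a b u = S.act c d v) : (a = 0 ∧ b = 0) ∧ (c = 0 ∧ d = 0) := by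
  have hN : S.N (S.act a b u) = 0 := by
    have h1 : S.N (S.act a b u) = sympForm m F (S.act a b u) (S.J *ᵥ (S.act c d v)) := by
      rw [← h]; rfl
    rw [h1]
    unfold CS.act
    simp only [Matrix.mulVec_add, Matrix.mulVec_smul, S.JJ, sympForm_add_left, sympForm_add_right,
      sympForm_smul_left, sympForm_smul_right, S.form_JJ, S.skew, huv, huJv]
    ring
  rw [N_act] at hN
  have h3 : a * a - S.δ * (b * b) = 0 := (mul_eq_zero.mp hN).resolve_right hu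
  have hb : b = 0 := by
    by_contra hb
    apply S.nsq (a / b)
    field_simp
    linear_combination h3
  have ha : a = 0 := by
    rw [hb] at h3
    have : a * a = 0 := by linear_combination h3
    exact mul_self_eq_zero.mp this
  refine ⟨⟨ha, hb⟩, ?_⟩
  rw [ha, hb] at h
  have h4 : S.act c d v = 0 := by
    rw [← h]
    unfold CS.act
    simp
  exact act_eq_zero S hv h4


/-- the difference `J₁ - (s + t J)` -/
def c3cD (S : CS m F) (J₁ : 𝕄) (s t : F) : 𝕄 := J₁ - (s • (1 : 𝕄) + t • S.J)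

lemma c3cD_mulVec (S : CS m F) (J₁ : 𝕄) (s t : F) (u : 𝕍) :
    c3cD S J₁ s t *ᵥ u = J₁ *ᵥ u - S.act s t u := by
  unfold c3cD CS.act
  rw [Matrix.sub_mulVec, Matrix.add_mulVec, Matrix.smul_mulVec, Matrix.smul_mulVec,
    Matrix.one_mulVec]

lemma c3cD_eq_zero_iff (S : CS m F) (J₁ : 𝕄) (s t : F) (u : 𝕍) :
    c3cD S J₁ s t *ᵥ u = 0 ↔ J₁ *ᵥ u = S.act s t u := by
  rw [c3cD_mulVec, sub_eq_zero]

lemma c3cD_act (S : CS m F) (J₁ : 𝕄) (s t a b : F) (u : 𝕍) :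
    c3cD S J₁ s t *ᵥ (S.act a b u) =
      a • (c3cD S J₁ s t *ᵥ u) + b • (c3cD S J₁ s t *ᵥ (S.J *ᵥ u)) := by
  unfold CS.act
  rw [Matrix.mulVec_add, Matrix.mulVec_smul, Matrix.mulVec_smul]

/-- orthogonal non-singular vectors with non-singular sum have the same multiplier -/
lemma c3c_same (S : CS m F) (J₁ : 𝕄)
    (h : ∀ v : 𝕍, S.N v ≠ 0 → ∃ s t : F, J₁ *ᵥ v = S.act s t v) {u v : 𝕍} (huv : sympForm m F u v = 0)
    (huJv : sympForm m F u (S.J *ᵥ v) = 0) (hu : S.N u ≠ 0) (hv : S.N v ≠ 0)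
    (hsum : S.N u + S.N v ≠ 0) {s t : F} (hvst : J₁ *ᵥ v = S.act s t v) :
    J₁ *ᵥ u = S.act s t u := by
  obtain ⟨s', t', hu'⟩ := h u hu
  have hN : S.N (u + v) ≠ 0 := by
    rw [c3c_N_add, huJv, mul_zero, add_zero]
    exact hsum
  obtain ⟨s'', t'', huv'⟩ := h (u + v) hN
  have e1 : S.act (s' - s'') (t' - t'') u = S.act (s'' - s) (t'' - t) v := by
    rw [c3c_act_sub, c3c_act_sub, ← hu', ← hvst]
    have e2 : J₁ *ᵥ u + J₁ *ᵥ v = S.act s'' t'' v + S.act s'' t'' u := by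
      rw [← Matrix.mulVec_add, huv']
      unfold CS.act
      rw [Matrix.mulVec_add, smul_add, smul_add]
      abel
    rw [sub_eq_sub_iff_add_eq_add]
    exact e2
  obtain ⟨⟨h1, h2⟩, h3, h4⟩ := c3c_indep S huv huJv hu (c3c_ne_zero S hv) e1
  have hs : s' = s := by linear_combination h1 + h3
  have ht : t' = t := by linear_combination h2 + h4
  rw [hu', hs, ht]

/-- B1 -/
lemma c3c_B1 (S : CS m F) (J₁ : 𝕄)
    (h : ∀ v : 𝕍, S.N v ≠ 0 → ∃ s t : F, J₁ *ᵥ v = S.act s t v) (h2 : (2 : F) ≠ 0) {w y : 𝕍} (hw : S.N w ≠ 0) (hyw : sympForm m F y w = 0)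
    (hyJw : sympForm m F y (S.J *ᵥ w) = 0) (hNy : S.N y = S.N w) {s t : F}
    (hwst : J₁ *ᵥ w = S.act s t w) :
    c3cD S J₁ s t *ᵥ y = 0 ∧ c3cD S J₁ s t *ᵥ (S.J *ᵥ y) = 0 := by
  have h2w : S.N w + S.N w ≠ 0 := by
    rw [← two_mul]
    exact mul_ne_zero h2 hw
  have hy : c3cD S J₁ s t *ᵥ y = 0 := by
    rw [c3cD_eq_zero_iff]
    exact c3c_same S J₁ h hyw hyJw (by rw [hNy]; exact hw) hw (by rw [hNy]; exact h2w) hwst
  refine ⟨hy, ?_⟩
  obtain ⟨c, d, hcd, hd⟩ := Cfsg.Agent.Lib.Helper23.C3Leaf.exists_norm_one S h2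
  have hN'' : S.N (S.act c d y) = S.N w := by rw [N_act, hcd, one_mul, hNy]
  obtain ⟨hp1, hp2⟩ := c3c_act_perp S hyw hyJw c d
  have hy'' : c3cD S J₁ s t *ᵥ (S.act c d y) = 0 := by
    rw [c3cD_eq_zero_iff]
    exact c3c_same S J₁ h hp1 hp2 (by rw [hN'']; exact hw) hw (by rw [hN'']; exact h2w) hwst
  rw [c3cD_act, hy, smul_zero, zero_add] at hy''
  exact (smul_eq_zero.mp hy'').resolve_left hd


/-- B2: every non-singular vector orthogonal to the `K`-line of the base vector is killed -/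
lemma c3c_B2 [Fintype F] (S : CS m F) (J₁ : 𝕄)
    (h : ∀ v : 𝕍, S.N v ≠ 0 → ∃ s t : F, J₁ *ᵥ v = S.act s t v) (h2 : (2 : F) ≠ 0)
    {v y : 𝕍} (hv : S.N v ≠ 0) (hyv : sympForm m F y v = 0)
    (hyJv : sympForm m F y (S.J *ᵥ v) = 0) (hy : S.N y ≠ 0) {s t : F}
    (hvst : J₁ *ᵥ v = S.act s t v) :
    c3cD S J₁ s t *ᵥ y = 0 := by
  obtain ⟨a₀, b₀, hab⟩ := Cfsg.Agent.Lib.Helper23.C3Leaf.exists_norm S (S.N v / S.N y)
  have hn0 : a₀ * a₀ - S.δ * (b₀ * b₀) ≠ 0 := by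
    rw [hab]
    exact div_ne_zero hv hy
  have hN' : S.N (S.act a₀ b₀ y) = S.N v := by
    rw [N_act, hab, div_mul_cancel₀ _ hy]
  obtain ⟨hp1, hp2⟩ := c3c_act_perp S hyv hyJv a₀ b₀
  obtain ⟨hB1, hB2⟩ := c3c_B1 S J₁ h h2 hv hp1 hp2 hN' hvst
  have hyy : y = S.act (a₀ / (a₀ * a₀ - S.δ * (b₀ * b₀))) (-b₀ / (a₀ * a₀ - S.δ * (b₀ * b₀)))
      (S.act a₀ b₀ y) := by
    rw [act_act]
    have e1 : a₀ / (a₀ * a₀ - S.δ * (b₀ * b₀)) * a₀ +
        S.δ * (-b₀ / (a₀ * a₀ - S.δ * (b₀ * b₀)) * b₀) = 1 := by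
      have e3 : a₀ / (a₀ * a₀ - S.δ * (b₀ * b₀)) * a₀ +
          S.δ * (-b₀ / (a₀ * a₀ - S.δ * (b₀ * b₀)) * b₀) =
          (a₀ * a₀ - S.δ * (b₀ * b₀)) / (a₀ * a₀ - S.δ * (b₀ * b₀)) := by ring
      rw [e3, div_self hn0]
    have e2 : a₀ / (a₀ * a₀ - S.δ * (b₀ * b₀)) * b₀ +
        -b₀ / (a₀ * a₀ - S.δ * (b₀ * b₀)) * a₀ = 0 := by
      ring
    rw [e1, e2, c3c_act_one_zero]
  rw [hyy, c3cD_act, hB1, hB2, smul_zero, smul_zero, add_zero]

lemma c3c_finrank_pair (a b : 𝕍) :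
    Module.finrank F (Submodule.span F (Set.range ![a, b])) ≤ 6 := by
  have := finrank_range_le_card (R := F) ![a, b]
  rw [Fintype.card_fin] at this
  unfold Set.finrank at this
  omega

lemma c3c_mem_pair_left (a b : 𝕍) : a ∈ Submodule.span F (Set.range ![a, b]) :=
  Submodule.subset_span ⟨0, rfl⟩

lemma c3c_mem_pair_right (a b : 𝕍) : b ∈ Submodule.span F (Set.range ![a, b]) :=
  Submodule.subset_span ⟨1, rfl⟩

/-- a non-singular vector orthogonal to the `K`-line of `v` -/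
lemma c3c_exists_perp (S : CS m F) (hm : 7 ≤ m) (h2 : (2 : F) ≠ 0) (v : 𝕍) :
    ∃ y : 𝕍, S.N y ≠ 0 ∧ sympForm m F y v = 0 ∧ sympForm m F y (S.J *ᵥ v) = 0 := by
  obtain ⟨y, hy, hperp⟩ := Cfsg.Agent.Lib.Helper23.C3Leaf.exists_nonsing_perp S hm h2
    (Submodule.span F (Set.range ![v, S.J *ᵥ v])) (c3c_finrank_pair _ _)
  exact ⟨y, hy, hperp _ (c3c_mem_pair_left _ _), hperp _ (c3c_mem_pair_right _ _)⟩

/-- Step D: every vector orthogonal to the `K`-line of the base vector is killed -/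
lemma c3c_perp_all [Fintype F] (S : CS m F) (hm : 7 ≤ m) (J₁ : 𝕄)
    (h : ∀ v : 𝕍, S.N v ≠ 0 → ∃ s t : F, J₁ *ᵥ v = S.act s t v) (h2 : (2 : F) ≠ 0)
    {v y : 𝕍} (hv : S.N v ≠ 0) (hyv : sympForm m F y v = 0)
    (hyJv : sympForm m F y (S.J *ᵥ v) = 0) {s t : F}
    (hvst : J₁ *ᵥ v = S.act s t v) :
    c3cD S J₁ s t *ᵥ y = 0 := by
  by_cases hy : S.N y ≠ 0
  · exact c3c_B2 S J₁ h h2 hv hyv hyJv hy hvst
  rw [not_not] at hy
  obtain ⟨y₀, hy₀, h1, h2'⟩ := c3c_exists_perp S hm h2 v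
  have hD0 := c3c_B2 S J₁ h h2 hv h1 h2' hy₀ hvst
  have hsum : S.N (y + y₀) + S.N (y - y₀) = 2 * S.N y₀ := by
    rw [c3c_N_add, c3c_N_sub, hy]
    ring
  by_cases hp : S.N (y + y₀) ≠ 0
  · have h3 := c3c_B2 S J₁ h h2 hv (y := y + y₀)
      (by rw [sympForm_add_left, hyv, h1, add_zero])
      (by rw [sympForm_add_left, hyJv, h2', add_zero]) hp hvst
    rw [Matrix.mulVec_add, hD0, add_zero] at h3
    exact h3
  · rw [not_not] at hp
    have hq : S.N (y - y₀) ≠ 0 := by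
      rw [hp, zero_add] at hsum
      rw [hsum]
      exact mul_ne_zero h2 hy₀
    have h3 := c3c_B2 S J₁ h h2 hv (y := y - y₀)
      (by rw [sympForm_sub_left, hyv, h1, sub_zero])
      (by rw [sympForm_sub_left, hyJv, h2', sub_zero]) hq hvst
    rw [Matrix.mulVec_sub, hD0, sub_zero] at h3
    exact h3

/-- Step C: the base `K`-line itself is killed -/
lemma c3c_base [Fintype F] (S : CS m F) (hm : 7 ≤ m) (J₁ : 𝕄)
    (h : ∀ v : 𝕍, S.N v ≠ 0 → ∃ s t : F, J₁ *ᵥ v = S.act s t v) (h2 : (2 : F) ≠ 0)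
    {v : 𝕍} (hv : S.N v ≠ 0) {s t : F} (hvst : J₁ *ᵥ v = S.act s t v) :
    c3cD S J₁ s t *ᵥ v = 0 ∧ c3cD S J₁ s t *ᵥ (S.J *ᵥ v) = 0 := by
  obtain ⟨y₀, hy₀, h1, h2'⟩ := c3c_exists_perp S hm h2 v
  obtain ⟨a₀, b₀, hab⟩ := Cfsg.Agent.Lib.Helper23.C3Leaf.exists_norm S (S.N v / S.N y₀)
  have hN' : S.N (S.act a₀ b₀ y₀) = S.N v := by
    rw [N_act, hab, div_mul_cancel₀ _ hy₀]
  obtain ⟨hp1, hp2⟩ := c3c_act_perp S h1 h2' a₀ b₀
  obtain ⟨hB1, -⟩ := c3c_B1 S J₁ h h2 hv hp1 hp2 hN' hvst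
  rw [c3cD_eq_zero_iff] at hB1
  -- now the base is `y' = act a₀ b₀ y₀`
  have hvy : sympForm m F v (S.act a₀ b₀ y₀) = 0 := by
    rw [sympForm_swap, hp1, neg_zero]
  have hvJy : sympForm m F v (S.J *ᵥ (S.act a₀ b₀ y₀)) = 0 := by
    rw [c3c_beta_symm, hp2]
  exact c3c_B1 S J₁ h h2 (by rw [hN']; exact hv) hvy hvJy hN'.symm hB1


/-- C. If `J₁` (with `J₁² = δ`) maps every non-singular vector `v` into its `K`-line `⟨v, J v⟩`,
then `J₁ = ± J`. -/
theorem eq_or_eq_neg_of_line_invariant [Fintype F] (S : CS m F) (hm : 7 ≤ m) (h2 : (2 : F) ≠ 0)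
    (J₁ : 𝕄) (hJ₁ : J₁ * J₁ = S.δ • (1 : 𝕄))
    (h : ∀ v : 𝕍, S.N v ≠ 0 → ∃ s t : F, J₁ *ᵥ v = S.act s t v) :
    J₁ = S.J ∨ J₁ = -S.J := by
  obtain ⟨v, hv, -⟩ := Cfsg.Agent.Lib.Helper23.C3Leaf.exists_nonsing_perp S hm h2 ⊥ (by rw [finrank_bot]; omega)
  obtain ⟨s, t, hvst⟩ := h v hv
  obtain ⟨hDv, hDJv⟩ := c3c_base S hm J₁ h h2 hv hvst
  -- the difference vanishes everywhere
  have hall : ∀ u : 𝕍, c3cD S J₁ s t *ᵥ u = 0 := by
    intro u
    have hdec : u = (sympForm m F u (S.J *ᵥ v) / S.N v) • v +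
        (-(sympForm m F u v) / S.N v) • (S.J *ᵥ v) +
        (u - (sympForm m F u (S.J *ᵥ v) / S.N v) • v -
          (-(sympForm m F u v) / S.N v) • (S.J *ᵥ v)) := by abel
    have hy1 : sympForm m F (u - (sympForm m F u (S.J *ᵥ v) / S.N v) • v -
        (-(sympForm m F u v) / S.N v) • (S.J *ᵥ v)) v = 0 := by
      rw [sympForm_sub_left, sympForm_sub_left, sympForm_smul_left, sympForm_smul_left,
        sympForm_self, S.form_J_self]
      field_simp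
      ring
    have hy2 : sympForm m F (u - (sympForm m F u (S.J *ᵥ v) / S.N v) • v -
        (-(sympForm m F u v) / S.N v) • (S.J *ᵥ v)) (S.J *ᵥ v) = 0 := by
      rw [sympForm_sub_left, sympForm_sub_left, sympForm_smul_left, sympForm_smul_left,
        sympForm_self]
      have : sympForm m F v (S.J *ᵥ v) = S.N v := rfl
      rw [this]
      field_simp
      ring
    have hy := c3c_perp_all S hm J₁ h h2 hv hy1 hy2 hvst
    rw [hdec, Matrix.mulVec_add, Matrix.mulVec_add, Matrix.mulVec_smul, Matrix.mulVec_smul, hDv,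
      hDJv, hy, smul_zero, smul_zero, add_zero, add_zero]
  have hJ₁eq : J₁ = s • (1 : 𝕄) + t • S.J := by
    have h0 : c3cD S J₁ s t = 0 := by
      apply mat_eq_of_mulVec
      intro u
      rw [hall u, Matrix.zero_mulVec]
    unfold c3cD at h0
    exact sub_eq_zero.mp h0
  -- `(s + t J)² = δ`
  have hv0 := c3c_ne_zero S hv
  have hsq : S.act (s * s + S.δ * (t * t) - S.δ) (s * t + t * s) v = 0 := by
    have e1 : J₁ *ᵥ (J₁ *ᵥ v) = S.δ • v := by
      rw [Matrix.mulVec_mulVec, hJ₁, Matrix.smul_mulVec, Matrix.one_mulVec]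
    have e2 : ∀ u : 𝕍, J₁ *ᵥ u = S.act s t u := by
      intro u
      rw [← c3cD_eq_zero_iff]
      exact hall u
    rw [e2, e2, act_act] at e1
    have e3 : S.act (s * s + S.δ * (t * t) - S.δ) (s * t + t * s) v =
        S.act (s * s + S.δ * (t * t)) (s * t + t * s) v - S.δ • v := by
      unfold CS.act
      rw [sub_smul]
      abel
    rw [e3, e1, sub_self]
  obtain ⟨h3, h4⟩ := act_eq_zero S hv0 hsq
  have hst : s * t = 0 := by
    have : 2 * (s * t) = 0 := by linear_combination h4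
    exact (mul_eq_zero.mp this).resolve_left h2
  rcases mul_eq_zero.mp hst with hs | ht
  · rw [hs] at h3
    have ht2 : (t - 1) * (t + 1) = 0 := by
      have h5 : S.δ * ((t - 1) * (t + 1)) = 0 := by linear_combination h3
      exact (mul_eq_zero.mp h5).resolve_left S.δ_ne_zero
    rcases mul_eq_zero.mp ht2 with h6 | h6
    · left
      rw [hJ₁eq, hs, sub_eq_zero.mp h6, zero_smul, one_smul, zero_add]
    · right
      rw [hJ₁eq, hs, eq_neg_of_add_eq_zero_left h6, zero_smul, neg_smul, one_smul, zero_add]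
  · exfalso
    rw [ht] at h3
    apply S.nsq s
    linear_combination h3

end Cfsg.Agent.Lib.Helper1.C3Leaf
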