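import Mathlib
import Cfsg.Prelude.Def_ClassicalGeometry
import Cfsg.Prelude.Def_GeometricClasses
import Cfsg.Agent.Lib.Helper5.SpMax
import Cfsg.Agent.Lib.Helper22.C3Defs
import Cfsg.Agent.Lib.Helper22.C3Tool
import Cfsg.Agent.Lib.Helper1.C3C

/-!
helper1 for helper22's S5665 market, leaf C3I (`exists_line_not_invariant`): an element of `Sp` which neither
commutes nor anticommutes with `J` moves some non-degenerate `K`-line off the `K`-lines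
(leaf C3C applied to `J₁ = g⁻¹ J g`).
-/

set_option autoImplicit false
set_option linter.unusedSectionVars false
set_option linter.unusedVariables false

namespace Cfsg.Agent.Lib.Helper1.C3Leaf
open Cfsg Matrix Cfsg.Agent.Lib.Helper5 Cfsg.Agent.Lib.Helper5.SpMax Cfsg.Agent.Lib.Helper22.C3
  Cfsg.Agent.Lib.Helper22.C3Leaf

variable {F : Type*} [Field F] {m : ℕ}

local notation "𝕍" => (Fin m ⊕ Fin m → F)
local notation "𝕄" => Matrix (Fin m ⊕ Fin m) (Fin m ⊕ Fin m) F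

/-- I. An element of `Sp` not normalising `K` moves some non-degenerate `K`-line off the `K`-lines. -/
theorem exists_line_not_invariant [Fintype F] (S : CS m F) (hm : 7 ≤ m) (h2 : (2 : F) ≠ 0)
    (g : GL (Fin m ⊕ Fin m) F) (hg : g ∈ spGL m F)
    (hgJ : ¬ ((g : 𝕄) * S.J = S.J * (g : 𝕄) ∨ (g : 𝕄) * S.J = -(S.J * (g : 𝕄)))) :
    ∃ v : 𝕍, S.N v ≠ 0 ∧
      S.J *ᵥ ((g : 𝕄) *ᵥ v) ∉ Submodule.span F {(g : 𝕄) *ᵥ v, (g : 𝕄) *ᵥ (S.J *ᵥ v)} := by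
  by_contra hcon
  push Not at hcon
  apply hgJ
  have hinv1 : ((g⁻¹ : GL (Fin m ⊕ Fin m) F) : 𝕄) * (g : 𝕄) = 1 := by
    rw [← Units.val_mul, inv_mul_cancel, Units.val_one]
  have hinv2 : (g : 𝕄) * ((g⁻¹ : GL (Fin m ⊕ Fin m) F) : 𝕄) = 1 := by
    rw [← Units.val_mul, mul_inv_cancel, Units.val_one]
  obtain ⟨J₁, hJ₁def⟩ : ∃ J₁ : 𝕄, J₁ = ((g⁻¹ : GL (Fin m ⊕ Fin m) F) : 𝕄) * S.J * (g : 𝕄) :=
    ⟨_, rfl⟩
  have hsq : J₁ * J₁ = S.δ • (1 : 𝕄) := by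
    rw [hJ₁def]
    calc ((g⁻¹ : GL (Fin m ⊕ Fin m) F) : 𝕄) * S.J * (g : 𝕄) *
          (((g⁻¹ : GL (Fin m ⊕ Fin m) F) : 𝕄) * S.J * (g : 𝕄))
        = ((g⁻¹ : GL (Fin m ⊕ Fin m) F) : 𝕄) * S.J *
            ((g : 𝕄) * ((g⁻¹ : GL (Fin m ⊕ Fin m) F) : 𝕄)) * S.J * (g : 𝕄) := by
          simp only [Matrix.mul_assoc]
      _ = ((g⁻¹ : GL (Fin m ⊕ Fin m) F) : 𝕄) * (S.J * S.J) * (g : 𝕄) := by
          rw [hinv2, Matrix.mul_one, Matrix.mul_assoc ((g⁻¹ : GL (Fin m ⊕ Fin m) F) : 𝕄)]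
      _ = S.δ • (1 : 𝕄) := by
          rw [S.sq, Matrix.mul_smul, Matrix.mul_one, Matrix.smul_mul, hinv1]
  have hline : ∀ v : 𝕍, S.N v ≠ 0 → ∃ s t : F, J₁ *ᵥ v = S.act s t v := by
    intro v hv
    obtain ⟨s, t, hst⟩ := Submodule.mem_span_pair.mp (hcon v hv)
    refine ⟨s, t, ?_⟩
    rw [hJ₁def, ← Matrix.mulVec_mulVec, ← Matrix.mulVec_mulVec, ← hst, Matrix.mulVec_add,
      Matrix.mulVec_smul, Matrix.mulVec_smul, inv_mul_mulVec, inv_mul_mulVec]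
    rfl
  have hback : (g : 𝕄) * J₁ = S.J * (g : 𝕄) := by
    rw [hJ₁def, ← Matrix.mul_assoc, ← Matrix.mul_assoc, hinv2, Matrix.one_mul]
  rcases eq_or_eq_neg_of_line_invariant S hm h2 J₁ hsq hline with h1 | h1
  · left
    rw [h1] at hback
    exact hback
  · right
    rw [h1, Matrix.mul_neg] at hback
    rw [← hback, neg_neg]

end Cfsg.Agent.Lib.Helper1.C3Leaf
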