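import Mathlib
import Cfsg.Prelude.Def_GeometricClasses
import Cfsg.Agent.Lib.Helper25.C3O2Defs
import Cfsg.Agent.Lib.Helper25.C3O2Modp

/-!
helper1, C3O2 market (planner helper25; S5825 conjunct (7)): leaf S4E `z_exists`.
-/

set_option autoImplicit false
set_option linter.unusedSectionVars false
set_option linter.unusedVariables false

namespace Cfsg.Agent.Lib.Helper1.C3O2Leaf
open Matrix Module QuadraticMap Cfsg Cfsg.Geo Cfsg.Agent.Lib.Helper25.OEFsa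
  Cfsg.Agent.Lib.Helper25.CD Cfsg.Agent.Lib.Helper25.Siegel
  Cfsg.Agent.Lib.Helper5.NSMax Cfsg.Agent.Lib.Helper5.TSMax Cfsg.Agent.Lib.Helper25.AutO
  Cfsg.Agent.Lib.Helper25.C3O2

variable {F : Type*} [Field F] [Fintype F] {E : Type*} [Field E] [Algebra F E] [FiniteDimensional F E]
  {ι : Type} [Fintype ι] [DecidableEq ι]
  {ρ : E →ₐ[F] Matrix ι ι F} {Q : QuadraticForm F (ι → F)} {B : (ι → F) → (ι → F) → E} {QE : (ι → F) → E}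
  {κ : E} {δ : F}

theorem smulF_eq_rho1 (ρ : E →ₐ[F] Matrix ι ι F) (c : F) (y : ι → F) : c • y = ρ (algebraMap F E c) *ᵥ y := by
  rw [Algebra.algebraMap_eq_smul_one, map_smul, map_one, Matrix.smul_mulVec, Matrix.one_mulVec]

/-- `f(x, J y) = f(J x, y)` -/
theorem polar_J_swap (h : Forms ρ Q B QE) (κ : E) (x y : ι → F) :
    polar Q x (ρ κ *ᵥ y) = polar Q (ρ κ *ᵥ x) y := by
  rw [polar_J_right h, polar_J h]

/-- an isometry fixing `p` and `J p` fixes `E p` pointwise -/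
theorem act_rho_fix (hκ : Kap κ δ) (k : ↥(Cfsg.Omega F ⇑Q)) {p : ι → F} (hkp : act Q k p = p)
    (hke : act Q k (ρ κ *ᵥ p) = ρ κ *ᵥ p) (a : E) : act Q k (ρ a *ᵥ p) = ρ a *ᵥ p := by
  obtain ⟨a0, a1, rfl⟩ := hκ.span a
  have e : ρ (algebraMap F E a0 + algebraMap F E a1 * κ) *ᵥ p = a0 • p + a1 • (ρ κ *ᵥ p) := by
    rw [rho_add_mulVec, rho_mul_mulVec, ← smulF_eq_rho1, ← smulF_eq_rho1]
  rw [e, map_add, map_smul, map_smul, hkp, hke]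

/-- an isometry fixing `p` and `J p` preserves `B p ·` -/
theorem B_act_fix (h : Forms ρ Q B QE) (hκ : Kap κ δ) (h2 : (2 : F) ≠ 0) (k : ↥(Cfsg.Omega F ⇑Q)) {p : ι → F}
    (hkp : act Q k p = p) (hke : act Q k (ρ κ *ᵥ p) = ρ κ *ᵥ p) (x : ι → F) : B p (act Q k x) = B p x := by
  have h1 : Algebra.trace F E (B p (act Q k x) - B p x) = 0 := by
    rw [map_sub, h.tr_B, h.tr_B]
    nth_rewrite 1 [← hkp]
    rw [polar_act, sub_self]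
  have h3 : Algebra.trace F E (κ * (B p (act Q k x) - B p x)) = 0 := by
    rw [mul_sub, map_sub, ← polar_J h, ← polar_J h]
    nth_rewrite 1 [← hke]
    rw [polar_act, sub_self]
  have := hκ.eq_zero_of_tr h2 h1 h3
  exact sub_eq_zero.1 this

/-- S4E: `z = k T_{p,w} k⁻¹ T_{p,w₁}⁻¹` is a non-trivial `F`-Siegel element `egen p y` of `M`, `y ∉ F p`. -/
theorem z_exists (h : Forms ρ Q B QE) (hκ : Kap κ δ) {M : Subgroup ↥(Cfsg.Omega F ⇑Q)} (C : Ctx h M) {p : ι → F}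
    (hp0 : p ≠ 0) (hp : QE p = 0) (k : ↥(Cfsg.Omega F ⇑Q)) (hk : k ∈ M) (hkp : act Q k p = p)
    (hke : act Q k (ρ κ *ᵥ p) = ρ κ *ᵥ p) (w : ι → F) (hw : B p w = 0)
    (hne : ∀ a : E, act Q k (ρ κ *ᵥ w) - ρ κ *ᵥ (act Q k w) ≠ ρ a *ᵥ p) :
    ∃ y, y ∈ AA M p (Q_of_QE h hp) ∧ ∀ c : F, y ≠ c • p := by
  have h2 := C.two
  have hQp : Q p = 0 := Q_of_QE h hp
  have hnd : (polarBilin Q).Nondegenerate := h.ctx.nd
  have hδ : δ ≠ 0 := hκ.delta_ne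
  -- `w₁`
  obtain ⟨w₁, hw₁def⟩ : ∃ w₁ : ι → F, w₁ = δ⁻¹ • (ρ κ *ᵥ (act Q k (ρ κ *ᵥ w))) := ⟨_, rfl⟩
  have hJw₁ : ρ κ *ᵥ w₁ = act Q k (ρ κ *ᵥ w) := by
    rw [hw₁def, Matrix.mulVec_smul, J_J hκ, smul_smul, inv_mul_cancel₀ hδ, one_smul]
  have hpw : polar Q p w = 0 := by rw [← h.tr_B, hw, map_zero]
  have hpJw : polar Q p (ρ κ *ᵥ w) = 0 := by rw [polar_J_right h, hw, mul_zero, map_zero]
  have hw₁ : B p w₁ = 0 := by
    rw [B_eq_zero_iff h hκ h2]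
    constructor
    · rw [hw₁def, polar_smul_right, polar_J_swap h]
      nth_rewrite 1 [← hke]
      rw [polar_act, polar_J_J h hκ, hpw]
      simp
    · rw [hw₁def, polar_smul_right, polar_J_J h hκ]
      nth_rewrite 1 [← hkp]
      rw [polar_act, hpJw]
      simp
  -- the elements
  have hTM := C.es p w hp hw
  have hT₁M := C.es p w₁ hp hw₁
  obtain ⟨T, hTdef⟩ : ∃ T, T = ES h h2 p w hp hw := ⟨_, rfl⟩
  obtain ⟨T₁, hT₁def⟩ : ∃ T₁, T₁ = ES h h2 p w₁ hp hw₁ := ⟨_, rfl⟩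
  rw [← hTdef] at hTM
  rw [← hT₁def] at hT₁M
  have hT : ∀ x, act Q T x = esF h p w x := fun x => by rw [hTdef, act_ES]
  have hT₁ : ∀ x, act Q T₁ x = esF h p w₁ x := fun x => by rw [hT₁def, act_ES]
  have hTp : act Q T p = p := by rw [hT, esF_self h hp hw]
  have hT₁p : act Q T₁ p = p := by rw [hT₁, esF_self h hp hw₁]
  have hT₁ip : act Q T₁⁻¹ p = p := by
    nth_rewrite 1 [← hT₁p]
    rw [act_inv_act]
  have hkip : act Q k⁻¹ p = p := by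
    nth_rewrite 1 [← hkp]
    rw [act_inv_act]
  obtain ⟨z, hzdef⟩ : ∃ z, z = k * T * k⁻¹ * T₁⁻¹ := ⟨_, rfl⟩
  have hzM : z ∈ M := by
    rw [hzdef]
    exact M.mul_mem (M.mul_mem (M.mul_mem hk hTM) (M.inv_mem hk)) (M.inv_mem hT₁M)
  have hz : ∀ x, act Q z x = act Q k (act Q T (act Q k⁻¹ (act Q T₁⁻¹ x))) := by
    intro x
    rw [hzdef, act_mul, act_mul, act_mul]
  have hzp : act Q z p = p := by rw [hz, hT₁ip, hkip, hTp, hkp]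
  -- trivial on `p^⊥ / F p`
  have hkb : act Q k ((2 * δ)⁻¹ • (ρ κ *ᵥ w)) = (2 * δ)⁻¹ • (ρ κ *ᵥ w₁) := by
    rw [map_smul, hJw₁]
  have htriv : ∀ v, polar Q p v = 0 → ∃ c : F, act Q z v = v + c • p := by
    intro v hv
    obtain ⟨v', hv'def⟩ : ∃ v', v' = act Q T₁⁻¹ v := ⟨_, rfl⟩
    have hv' : polar Q p v' = 0 := by
      rw [hv'def, polar_comm, polar_act_inv, hT₁p, polar_comm, hv]
    have hvv' : act Q T₁ v' = v := by rw [hv'def, act_act_inv]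
    obtain ⟨c₁, hc₁⟩ := Cfsg.Agent.Lib.Helper25.C3O2Leaf.modp h hκ h2 hp hw₁ v' hv'
    rw [← hT₁, hvv'] at hc₁
    obtain ⟨v'', hv''def⟩ : ∃ v'', v'' = act Q k⁻¹ v' := ⟨_, rfl⟩
    have hv'' : polar Q p v'' = 0 := by
      rw [hv''def, polar_comm, polar_act_inv, hkp, polar_comm, hv']
    have hkv'' : act Q k v'' = v' := by rw [hv''def, act_act_inv]
    obtain ⟨c₂, hc₂⟩ := Cfsg.Agent.Lib.Helper25.C3O2Leaf.modp h hκ h2 hp hw v'' hv''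
    refine ⟨c₂ - c₁, ?_⟩
    rw [hz, ← hv'def, ← hv''def, hT, hc₂, map_add, map_smul, hkp, egen_conj Q (Q_act Q k), hke, hkb, hkv'']
    rw [hc₁]
    module
  have hzRU := mem_RU_of_trivial Q hnd hp0 hQp z hzp htriv
  obtain ⟨y, hpy, hzy⟩ := hzRU
  refine ⟨y, ⟨hpy, z, hzM, hzy⟩, ?_⟩
  rintro c rfl
  -- `z` acts trivially
  have hz1 : ∀ x, act Q z x = x := fun x => by rw [hzy, egen_smul_self Q hQp]
  -- so `k T = T₁ k`
  have hcomm : ∀ x₀, act Q k (act Q T x₀) = act Q T₁ (act Q k x₀) := by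
    intro x₀
    have := hz1 (act Q T₁ (act Q k x₀))
    rw [hz, act_inv_act, act_inv_act] at this
    exact this
  -- a vector with `B p x₀ = 1`
  obtain ⟨u, hu⟩ : ∃ u, B u p ≠ 0 := by
    by_contra hcon
    push Not at hcon
    exact hp0 (h.B_nondeg p hcon)
  have hpu : B p u ≠ 0 := by rwa [h.B_symm]
  obtain ⟨x₀, hx₀def⟩ : ∃ x₀ : ι → F, x₀ = ρ (B p u)⁻¹ *ᵥ u := ⟨_, rfl⟩
  have hx₀ : B p x₀ = 1 := by rw [hx₀def, h.B_smul_right, inv_mul_cancel₀ hpu]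
  have hkx₀ : B p (act Q k x₀) = 1 := by rw [B_act_fix h hκ h2 k hkp hke, hx₀]
  have h5 := hcomm x₀
  rw [hT, hT₁, esF_apply, esF_apply, hx₀, hkx₀, rho_one_mulVec, rho_one_mulVec, map_sub, map_sub, map_add,
    act_rho_fix hκ k hkp hke, act_rho_fix hκ k hkp hke] at h5
  -- `k w - w₁ ∈ E p`
  have h6 : act Q k w - w₁ = ρ (B w x₀ + QE w * 1 - B w₁ (act Q k x₀) - QE w₁ * 1) *ᵥ p := by
    rw [sub_eq_add_neg (B w x₀ + QE w * 1 - B w₁ (act Q k x₀)), sub_eq_add_neg (B w x₀ + QE w * 1),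
      rho_add_mulVec, rho_add_mulVec, rho_add_mulVec, rho_neg_mulVec, rho_neg_mulVec]
    have h7 : act Q k x₀ + act Q k w - ρ (B w x₀) *ᵥ p - ρ (QE w * 1) *ᵥ p =
      act Q k x₀ + w₁ - ρ (B w₁ (act Q k x₀)) *ᵥ p - ρ (QE w₁ * 1) *ᵥ p := h5
    have h8 : act Q k w - w₁ = (act Q k x₀ + act Q k w - ρ (B w x₀) *ᵥ p - ρ (QE w * 1) *ᵥ p)
        - (act Q k x₀ + w₁ - ρ (B w₁ (act Q k x₀)) *ᵥ p - ρ (QE w₁ * 1) *ᵥ p)
        + (ρ (B w x₀) *ᵥ p + ρ (QE w * 1) *ᵥ p + -(ρ (B w₁ (act Q k x₀)) *ᵥ p) + -(ρ (QE w₁ * 1) *ᵥ p)) := by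
      abel
    rw [h8, h7, sub_self, zero_add]
  obtain ⟨a, ha⟩ : ∃ a : E, act Q k w - w₁ = ρ a *ᵥ p := ⟨_, h6⟩
  apply hne (-(κ * a))
  have h9 : ρ κ *ᵥ (act Q k w - w₁) = ρ κ *ᵥ (ρ a *ᵥ p) := by rw [ha]
  rw [Matrix.mulVec_sub, hJw₁, ← rho_mul_mulVec] at h9
  rw [rho_neg_mulVec, ← h9]
  abel

end Cfsg.Agent.Lib.Helper1.C3O2Leaf
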