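import Mathlib
import Cfsg.Prelude.Def_GeometricClasses
import Cfsg.Agent.Lib.Helper25.C3O2Defs
import Cfsg.Agent.Lib.Helper25.C3O2Modp
import Cfsg.Agent.Lib.Helper1.C3O2S4E
import Cfsg.Agent.Lib.Helper22.C3O2Tools

/-!
helper1, C3O2 market (planner helper25; S5825 conjunct (7)): leaf S4A `t_modp`.
-/

set_option autoImplicit false
set_option linter.unusedSectionVars false
set_option linter.unusedVariables false

namespace Cfsg.Agent.Lib.Helper1.C3O2Leaf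
open Matrix Module QuadraticMap Cfsg Cfsg.Geo Cfsg.Agent.Lib.Helper25.OEFsa
  Cfsg.Agent.Lib.Helper25.CD Cfsg.Agent.Lib.Helper25.Siegel
  Cfsg.Agent.Lib.Helper5.NSMax Cfsg.Agent.Lib.Helper5.TSMax Cfsg.Agent.Lib.Helper25.AutO
  Cfsg.Agent.Lib.Helper25.C3O2

variable {F : Type*} [Field F] [Fintype F] {E : Type*} [Field E] [Algebra F E] [FiniteDimensional F E]
  {ι : Type} [Fintype ι] [DecidableEq ι]
  {ρ : E →ₐ[F] Matrix ι ι F} {Q : QuadraticForm F (ι → F)} {B : (ι → F) → (ι → F) → E} {QE : (ι → F) → E}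
  {κ : E} {δ : F}

/-- S4A: the conjugate `t = g T_{p,w'} g⁻¹` with `b' = g ((2δ)⁻¹ J w')` non-singular and orthogonal to
`p, J p, g J p`. -/
theorem t_modp (h : Forms ρ Q B QE) (hκ : Kap κ δ) {M : Subgroup ↥(Cfsg.Omega F ⇑Q)} (C : Ctx h M) {p : ι → F}
    (hp0 : p ≠ 0) (hp : QE p = 0) (g : ↥(Cfsg.Omega F ⇑Q)) (hg : g ∈ M) (hgp : act Q g p = p)
    (hε : polar Q (act Q g (ρ κ *ᵥ p)) (ρ κ *ᵥ p) ≠ 0) :
    ∃ t ∈ M, ∃ b' : ι → F, act Q t p = p ∧ polar Q p b' = 0 ∧ polar Q (act Q g (ρ κ *ᵥ p)) b' = 0 ∧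
      polar Q (ρ κ *ᵥ p) b' = 0 ∧ Q b' ≠ 0 ∧
      ∀ x, polar Q p x = 0 → ∃ c : F, act Q t x = egen Q (act Q g (ρ κ *ᵥ p)) b' x + c • p := by
  have h2 := C.two
  have hnd : (polarBilin Q).Nondegenerate := h.ctx.nd
  have hδ : δ ≠ 0 := hκ.delta_ne
  have hcard7 : 7 ≤ Fintype.card ι := by rw [C.card]; norm_num
  obtain ⟨b', hpb, heb, he'b, hQb⟩ := Cfsg.Agent.Lib.Helper22.C3O2Leaf.exists_nonsing_perp3 hnd h2 hcard7
    p (ρ κ *ᵥ p) (act Q g (ρ κ *ᵥ p))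
  obtain ⟨w', hw'def⟩ : ∃ w' : ι → F, w' = (2 : F) • (ρ κ *ᵥ (act Q g⁻¹ b')) := ⟨_, rfl⟩
  have hgip : act Q g⁻¹ p = p := by
    nth_rewrite 1 [← hgp]
    rw [act_inv_act]
  have hw' : B p w' = 0 := by
    rw [B_eq_zero_iff h hκ h2]
    constructor
    · rw [hw'def, polar_smul_right, polar_J_swap h, polar_comm, polar_act_inv, polar_comm, he'b]
      simp
    · rw [hw'def, polar_smul_right, polar_J_J h hκ, polar_comm, polar_act_inv, hgp, polar_comm, hpb]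
      simp
  have hJw' : (2 * δ)⁻¹ • (ρ κ *ᵥ w') = act Q g⁻¹ b' := by
    rw [hw'def, Matrix.mulVec_smul, J_J hκ, smul_smul, smul_smul]
    have : (2 * δ)⁻¹ * (2 * δ) = 1 := inv_mul_cancel₀ (mul_ne_zero h2 hδ)
    rw [mul_assoc, this, one_smul]
  have hTM := C.es p w' hp hw'
  obtain ⟨T, hTdef⟩ : ∃ T, T = ES h h2 p w' hp hw' := ⟨_, rfl⟩
  rw [← hTdef] at hTM
  have hT : ∀ x, act Q T x = esF h p w' x := fun x => by rw [hTdef, act_ES]
  have hTp : act Q T p = p := by rw [hT, esF_self h hp hw']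
  refine ⟨g * T * g⁻¹, M.mul_mem (M.mul_mem hg hTM) (M.inv_mem hg), b', ?_, hpb, he'b, heb, hQb, ?_⟩
  · rw [act_mul, act_mul, hgip, hTp, hgp]
  · intro x hx
    obtain ⟨x', hx'def⟩ : ∃ x', x' = act Q g⁻¹ x := ⟨_, rfl⟩
    have hx' : polar Q p x' = 0 := by
      rw [hx'def, polar_comm, polar_act_inv, hgp, polar_comm, hx]
    have hgx' : act Q g x' = x := by rw [hx'def, act_act_inv]
    obtain ⟨c, hc⟩ := Cfsg.Agent.Lib.Helper25.C3O2Leaf.modp h hκ h2 hp hw' x' hx'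
    refine ⟨c, ?_⟩
    rw [act_mul, act_mul, ← hx'def, hT, hc, map_add, map_smul, hgp, egen_conj Q (Q_act Q g), hJw', act_act_inv,
      hgx']

end Cfsg.Agent.Lib.Helper1.C3O2Leaf
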