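import Mathlib
import Cfsg.Prelude.Def_GeometricClasses
import Cfsg.Agent.Lib.Helper25.C3O2Defs
import Cfsg.Agent.Lib.Helper1.C3O2S4E
import Cfsg.Agent.Lib.Helper6.C3O2S4C

/-!
helper1, C3O2 market (planner helper25; S5825 conjunct (7)): leaf S4D `h_exists`.
-/

set_option autoImplicit false
set_option linter.unusedSectionVars false
set_option linter.unusedVariables false

namespace Cfsg.Agent.Lib.Helper1.C3O2Leaf
open Matrix Module QuadraticMap Cfsg Cfsg.Geo Cfsg.Agent.Lib.Helper25.OEFsa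
  Cfsg.Agent.Lib.Helper25.CD Cfsg.Agent.Lib.Helper25.Siegel
  Cfsg.Agent.Lib.Helper5.NSMax Cfsg.Agent.Lib.Helper5.TSMax Cfsg.Agent.Lib.Helper25.AutO
  Cfsg.Agent.Lib.Helper25.C3O2

variable {F : Type*} [Field F] [Fintype F] {E : Type*} [Field E] [Algebra F E] [FiniteDimensional F E]
  {ι : Type} [Fintype ι] [DecidableEq ι]
  {ρ : E →ₐ[F] Matrix ι ι F} {Q : QuadraticForm F (ι → F)} {B : (ι → F) → (ι → F) → E} {QE : (ι → F) → E}
  {κ : E} {δ : F}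

theorem B_erF_perp (h : Forms ρ Q B QE) {z b : ι → F} (hzb : B z b = 0) (x : ι → F) :
    B z (erF h b x) = B z x := by
  rw [erF_apply, sub_eq_add_neg, ← rho_neg_mulVec, h.B_add_right, h.B_smul_right, hzb, mul_zero, add_zero]

theorem B_smulF_right_eq (h : Forms ρ Q B QE) (z x : ι → F) (c : F) :
    B z (c • x) = algebraMap F E c * B z x := by
  rw [smulF_eq_rho1 ρ, h.B_smul_right]

/-- the `F`-reflection data: `φ x = f(u₀,x)/Q u₀`, `r x = x - φ x • u₀` -/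
theorem phi_refl {u₀ : ι → F} (hQu : Q u₀ ≠ 0) (x : ι → F) :
    polar Q u₀ (x - (polar Q u₀ x / Q u₀) • u₀) / Q u₀ = -(polar Q u₀ x / Q u₀) := by
  rw [polar_sub_right, polar_smul_right, polar_self, smul_eq_mul, two_nsmul]
  field_simp
  ring

theorem refl_refl {u₀ : ι → F} (hQu : Q u₀ ≠ 0) (x : ι → F) :
    (x - (polar Q u₀ x / Q u₀) • u₀) -
      (polar Q u₀ (x - (polar Q u₀ x / Q u₀) • u₀) / Q u₀) • u₀ = x := by
  rw [phi_refl hQu, neg_smul]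
  abel

/-- S4D: `k = t⁻¹ s t` (`s = RC u₀ c` from S4C) fixes `p` and `J p` and is not `E`-linear modulo `E p`. -/
theorem h_exists (h : Forms ρ Q B QE) (hκ : Kap κ δ) {M : Subgroup ↥(Cfsg.Omega F ⇑Q)} (C : Ctx h M) {p : ι → F}
    (hp0 : p ≠ 0) (hp : QE p = 0) (t : ↥(Cfsg.Omega F ⇑Q)) (ht : t ∈ M) (htp : act Q t p = p) (u₀ : ι → F)
    (hη : polar Q (ρ κ *ᵥ p) (act Q t (ρ κ *ᵥ p)) ≠ 0) (hpu : B p u₀ = 0)
    (hvu : B (act Q t (ρ κ *ᵥ p)) u₀ = 0) (hQu : Q u₀ ≠ 0)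
    (htw : ∀ w, B p w = 0 → B (act Q t (ρ κ *ᵥ p)) w = 0 →
      ∃ c : F, act Q t w = w - (polar Q u₀ w / Q u₀) • u₀ +
        (2 * polar Q u₀ w / Q u₀) • act Q t (ρ κ *ᵥ p) + c • p) :
    ∃ k ∈ M, act Q k p = p ∧ act Q k (ρ κ *ᵥ p) = ρ κ *ᵥ p ∧
      ∃ w, B p w = 0 ∧ ∀ a : E, act Q k (ρ κ *ᵥ w) - ρ κ *ᵥ (act Q k w) ≠ ρ a *ᵥ p := by
  have h2 := C.two
  have hδ := hκ.delta_ne
  obtain ⟨v, hvdef⟩ : ∃ v : ι → F, v = act Q t (ρ κ *ᵥ p) := ⟨_, rfl⟩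
  rw [← hvdef] at hη hvu htw
  have hBpv : B p v ≠ 0 := by
    intro h0
    exact hη ((B_eq_zero_iff h hκ h2 p v).1 h0).2
  have hBvp : B v p ≠ 0 := by rwa [h.B_symm]
  have hQEu : QE u₀ ≠ 0 := by
    intro h0
    apply hQu
    rw [h.Q_eq, h0, map_zero]
  obtain ⟨c, hQEc, hpc, hvc, hsne⟩ := Cfsg.Agent.Lib.Helper6.C3O2Leaf.s_exists h h2 C.rank C.card C.w1 hp0 hp
    hBpv hQEu hpu hvu
  have hsM := C.rc u₀ c hQEu hQEc
  obtain ⟨s, hsdef⟩ : ∃ s, s = RC h u₀ c hQEu hQEc := ⟨_, rfl⟩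
  rw [← hsdef] at hsM
  have hs : ∀ x, act Q s x = erF h u₀ (erF h c (erF h u₀ (erF h c x))) := fun x => by rw [hsdef, act_RC]
  have hup : B u₀ p = 0 := by rw [h.B_symm]; exact hpu
  have hcp : B c p = 0 := by rw [h.B_symm]; exact hpc
  have huv : B u₀ v = 0 := by rw [h.B_symm]; exact hvu
  have hcv : B c v = 0 := by rw [h.B_symm]; exact hvc
  have hsp : act Q s p = p := by rw [hs, erF_fix h hcp, erF_fix h hup, erF_fix h hcp, erF_fix h hup]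
  have hsv : act Q s v = v := by rw [hs, erF_fix h hcv, erF_fix h huv, erF_fix h hcv, erF_fix h huv]
  have hsBp : ∀ x, B p (act Q s x) = B p x := fun x => by
    rw [hs, B_erF_perp h hpu, B_erF_perp h hpc, B_erF_perp h hpu, B_erF_perp h hpc]
  have hsBv : ∀ x, B v (act Q s x) = B v x := fun x => by
    rw [hs, B_erF_perp h hvu, B_erF_perp h hvc, B_erF_perp h hvu, B_erF_perp h hvc]
  have hsrho : ∀ (a : E) x, act Q s (ρ a *ᵥ x) = ρ a *ᵥ act Q s x := fun a x => by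
    rw [hs, hs, erF_rho, erF_rho, erF_rho, erF_rho]
  have htip : act Q t⁻¹ p = p := by
    nth_rewrite 1 [← htp]
    rw [act_inv_act]
  have htiv : act Q t⁻¹ v = ρ κ *ᵥ p := by rw [hvdef, act_inv_act]
  -- `r w ∈ W`
  have hrW : ∀ (z w : ι → F), B z w = 0 → B z u₀ = 0 → B z (w - (polar Q u₀ w / Q u₀) • u₀) = 0 := by
    intro z w hw hz
    rw [sub_eq_add_neg, ← neg_smul, h.B_add_right, B_smulF_right_eq h, hw, hz, mul_zero, add_zero]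
  -- Claim A: `t⁻¹` on `W`
  have hA : ∀ w, B p w = 0 → B v w = 0 → ∃ c' : F, act Q t⁻¹ w =
      w - (polar Q u₀ w / Q u₀) • u₀ + (2 * polar Q u₀ w / Q u₀) • (ρ κ *ᵥ p) + c' • p := by
    intro w hw1 hw2
    obtain ⟨c1, hc1⟩ := htw _ (hrW p w hw1 hpu) (hrW v w hw2 hvu)
    rw [refl_refl hQu, mul_div_assoc, phi_refl hQu] at hc1
    have h3 := congrArg (act Q t⁻¹) hc1
    rw [act_inv_act, map_add, map_add, map_smul, map_smul, htiv, htip] at h3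
    refine ⟨-c1, ?_⟩
    rw [mul_div_assoc]
    linear_combination (norm := module) -h3
  -- Claim B: `k` on `W`
  obtain ⟨k, hkdef⟩ : ∃ k, k = t⁻¹ * s * t := ⟨_, rfl⟩
  have hkM : k ∈ M := by
    rw [hkdef]
    exact M.mul_mem (M.mul_mem (M.inv_mem ht) hsM) ht
  have hk : ∀ x, act Q k x = act Q t⁻¹ (act Q s (act Q t x)) := fun x => by
    rw [hkdef, act_mul, act_mul]
  have hkp : act Q k p = p := by rw [hk, htp, hsp, htip]
  have hke : act Q k (ρ κ *ᵥ p) = ρ κ *ᵥ p := by rw [hk, ← hvdef, hsv, htiv]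
  have hB : ∀ w, B p w = 0 → B v w = 0 → ∃ a b : F, act Q k w =
      act Q s (w - (polar Q u₀ w / Q u₀) • u₀) -
        (polar Q u₀ (act Q s (w - (polar Q u₀ w / Q u₀) • u₀)) / Q u₀) • u₀ + a • (ρ κ *ᵥ p) + b • p := by
    intro w hw1 hw2
    obtain ⟨c1, hc1⟩ := htw w hw1 hw2
    have hr1 := hrW p w hw1 hpu
    have hr2 := hrW v w hw2 hvu
    obtain ⟨c2, hc2⟩ := hA (act Q s (w - (polar Q u₀ w / Q u₀) • u₀)) (by rw [hsBp, hr1]) (by rw [hsBv, hr2])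
    refine ⟨2 * polar Q u₀ w / Q u₀ +
      2 * polar Q u₀ (act Q s (w - (polar Q u₀ w / Q u₀) • u₀)) / Q u₀, c1 + c2, ?_⟩
    have e1 : act Q s (act Q t w) = act Q s (w - (polar Q u₀ w / Q u₀) • u₀) +
        (2 * polar Q u₀ w / Q u₀) • v + c1 • p := by
      rw [hc1, map_add, map_add, map_smul, map_smul, hsv, hsp]
    rw [hk, e1, map_add, map_add, map_smul, map_smul, htiv, htip, hc2]
    module
  refine ⟨k, hkM, hkp, hke, ?_⟩
  -- the test vector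
  have h2E : (2 : E) ≠ 0 := by
    have e : (2 : E) = algebraMap F E 2 := (map_ofNat (algebraMap F E) 2).symm
    rw [e]
    exact (map_ne_zero _).2 h2
  obtain ⟨w₀, hw₀def⟩ : ∃ w₀ : ι → F, w₀ = ρ (κ * (2 * QE u₀)⁻¹) *ᵥ u₀ := ⟨_, rfl⟩
  have hBuw : B u₀ w₀ = κ := by
    rw [hw₀def, h.B_smul_right, h.B_self]
    field_simp
  have hpw₀ : B p w₀ = 0 := by rw [hw₀def, h.B_smul_right, hpu, mul_zero]
  have hvw₀ : B v w₀ = 0 := by rw [hw₀def, h.B_smul_right, hvu, mul_zero]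
  have hpJw₀ : B p (ρ κ *ᵥ w₀) = 0 := by rw [h.B_smul_right, hpw₀, mul_zero]
  have hvJw₀ : B v (ρ κ *ᵥ w₀) = 0 := by rw [h.B_smul_right, hvw₀, mul_zero]
  have hφw₀ : polar Q u₀ w₀ = 0 := by rw [← h.tr_B, hBuw, hκ.tr0]
  have hφJw₀ : polar Q u₀ (ρ κ *ᵥ w₀) = 2 * δ := by
    rw [polar_J_right h, hBuw, hκ.sq]
    have e := hκ.tr_ab δ 0
    rw [map_zero, zero_mul, add_zero] at e
    exact e
  refine ⟨w₀, hpw₀, ?_⟩
  intro a ha
  obtain ⟨a1, b1, hk1⟩ := hB w₀ hpw₀ hvw₀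
  obtain ⟨a2, b2, hk2⟩ := hB (ρ κ *ᵥ w₀) hpJw₀ hvJw₀
  rw [hφw₀, zero_div, zero_smul, sub_zero] at hk1
  rw [hφJw₀] at hk2
  have e2 : act Q s (ρ κ *ᵥ w₀ - (2 * δ / Q u₀) • u₀) =
      ρ κ *ᵥ act Q s w₀ - (2 * δ / Q u₀) • act Q s u₀ := by
    rw [map_sub, map_smul, hsrho]
  rw [e2] at hk2
  obtain ⟨f1, hf1⟩ : ∃ f1 : F, f1 = 2 * δ / Q u₀ := ⟨_, rfl⟩
  rw [← hf1] at hk2
  obtain ⟨α, hα⟩ : ∃ α : F, α = polar Q u₀ (act Q s w₀) / Q u₀ := ⟨_, rfl⟩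
  rw [← hα] at hk1
  obtain ⟨β, hβ⟩ : ∃ β : F, β = polar Q u₀ (ρ κ *ᵥ act Q s w₀ - f1 • act Q s u₀) / Q u₀ := ⟨_, rfl⟩
  rw [← hβ] at hk2
  have hf1ne : f1 ≠ 0 := by
    rw [hf1]
    exact div_ne_zero (mul_ne_zero h2 hδ) hQu
  have h5 : ρ κ *ᵥ (act Q k w₀) =
      ρ κ *ᵥ act Q s w₀ - α • (ρ κ *ᵥ u₀) + (a1 * δ) • p + b1 • (ρ κ *ᵥ p) := by
    rw [hk1, Matrix.mulVec_add, Matrix.mulVec_add, Matrix.mulVec_sub, Matrix.mulVec_smul, Matrix.mulVec_smul,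
      Matrix.mulVec_smul, J_J hκ, smul_smul]
  rw [hk2, h5] at ha
  have h6 : f1 • act Q s u₀ = ρ (algebraMap F E (-β) + algebraMap F E α * κ) *ᵥ u₀ +
      ρ (algebraMap F E (b2 - a1 * δ) + algebraMap F E (a2 - b1) * κ - a) *ᵥ p := by
    rw [rho_add_mulVec, rho_mul_mulVec, ← smulF_eq_rho1, ← smulF_eq_rho1, sub_eq_add_neg _ a, rho_add_mulVec,
      rho_add_mulVec, rho_mul_mulVec, ← smulF_eq_rho1, ← smulF_eq_rho1, rho_neg_mulVec, ← ha]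
    module
  have h7 := congrArg (B v) h6
  rw [B_smulF_right_eq h, hsBv, hvu, mul_zero, h.B_add_right, h.B_smul_right, hvu, mul_zero, zero_add,
    h.B_smul_right] at h7
  have h8 : algebraMap F E (b2 - a1 * δ) + algebraMap F E (a2 - b1) * κ - a = 0 := by
    rcases mul_eq_zero.1 h7.symm with h9 | h9
    · exact h9
    · exact absurd h9 hBvp
  rw [h8, rho_zero_mulVec, add_zero] at h6
  apply hsne (algebraMap F E f1⁻¹ * (algebraMap F E (-β) + algebraMap F E α * κ))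
  rw [← hs, rho_mul_mulVec, ← h6, ← smulF_eq_rho1, smul_smul, inv_mul_cancel₀ hf1ne, one_smul]

end Cfsg.Agent.Lib.Helper1.C3O2Leaf
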