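import Cfsg.Agent.Lib.Helper1.C3ODefs

/-!
helper1, S5700: calculus of `J` (`CS`), `KL`, and the `Adm` lemmas (K1).
-/

set_option autoImplicit false
set_option linter.unusedSectionVars false
set_option linter.unusedVariables false

namespace Cfsg.Agent.Lib.Helper1.C3O
open Module QuadraticMap Matrix Cfsg.Agent.Lib.Helper25.CD Cfsg.Agent.Lib.Helper25.Siegel
  Cfsg.Agent.Lib.Helper5.NSMax Cfsg.Agent.Lib.Helper5.PairMax Cfsg.Agent.Lib.Helper5.NDMax

variable {ι : Type} [Fintype ι] [DecidableEq ι] {F : Type*} [Field F] [Fintype F]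
  {Q : QuadraticForm F (ι → F)}

theorem CS.polar_right {t ν : F} {J : Matrix ι ι F} (h : CS Q t ν J) (u v : ι → F) :
    polar Q u (J *ᵥ v) = t * polar Q u v - polar Q (J *ᵥ u) v := by
  rw [h.adj u v]; ring

theorem CS.polar_JJ {t ν : F} {J : Matrix ι ι F} (h : CS Q t ν J) (u v : ι → F) :
    polar Q (J *ᵥ u) (J *ᵥ v) = ν * polar Q u v := by
  rw [h.adj u (J *ᵥ v), h.sq v, polar_sub_right, polar_smul_right, polar_smul_right]
  simp only [smul_eq_mul]
  ring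

/-- `(t - γ - J)(J - γ) = γ² - tγ + ν` -/
theorem CS.resolvent {t ν : F} {J : Matrix ι ι F} (h : CS Q t ν J) (γ : F) (x : ι → F) :
    (t - γ) • (J *ᵥ x - γ • x) - J *ᵥ (J *ᵥ x - γ • x) = (γ * γ - t * γ + ν) • x := by
  rw [Matrix.mulVec_sub, Matrix.mulVec_smul, h.sq x]
  module

theorem CS.comb_eq_zero {t ν : F} {J : Matrix ι ι F} (h : CS Q t ν J) {a : ι → F} (ha : a ≠ 0)
    {s r : F} (e : s • a + r • (J *ᵥ a) = 0) : s = 0 ∧ r = 0 := by
  by_cases hr : r = 0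
  · subst hr
    rw [zero_smul, add_zero] at e
    exact ⟨(smul_eq_zero.1 e).resolve_right ha, rfl⟩
  · exfalso
    have e1 : J *ᵥ a - (-(s / r)) • a = 0 := by
      have : r • (J *ᵥ a - (-(s / r)) • a) = s • a + r • (J *ᵥ a) := by
        rw [smul_sub, smul_smul, mul_neg, mul_div_cancel₀ _ hr]
        module
      have h2 := this.trans e
      exact (smul_eq_zero.1 h2).resolve_left hr
    have h3 := h.resolvent (-(s / r)) a
    rw [e1, smul_zero, Matrix.mulVec_zero, sub_zero] at h3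
    exact ha ((smul_eq_zero.1 h3.symm).resolve_left (h.irr _))

theorem KL_zero (J : Matrix ι ι F) (a : ι → F) : KL J a 0 := ⟨0, 0, by simp⟩

theorem KL_self (J : Matrix ι ι F) (a : ι → F) : KL J a a := ⟨1, 0, by simp⟩

theorem KL_J_self (J : Matrix ι ι F) (a : ι → F) : KL J a (J *ᵥ a) := ⟨0, 1, by simp⟩

theorem KL.add {J : Matrix ι ι F} {a v w : ι → F} (hv : KL J a v) (hw : KL J a w) :
    KL J a (v + w) := by
  obtain ⟨s, r, rfl⟩ := hv
  obtain ⟨s', r', rfl⟩ := hw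
  exact ⟨s + s', r + r', by module⟩

theorem KL.smul {J : Matrix ι ι F} {a v : ι → F} (hv : KL J a v) (c : F) : KL J a (c • v) := by
  obtain ⟨s, r, rfl⟩ := hv
  exact ⟨c * s, c * r, by module⟩

theorem KL.sub {J : Matrix ι ι F} {a v w : ι → F} (hv : KL J a v) (hw : KL J a w) :
    KL J a (v - w) := by
  obtain ⟨s, r, rfl⟩ := hv
  obtain ⟨s', r', rfl⟩ := hw
  exact ⟨s - s', r - r', by module⟩

theorem CS.KL_J {t ν : F} {J : Matrix ι ι F} (h : CS Q t ν J) {a v : ι → F} (hv : KL J a v) :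
    KL J a (J *ᵥ v) := by
  obtain ⟨s, r, rfl⟩ := hv
  refine ⟨-(r * ν), s + r * t, ?_⟩
  rw [Matrix.mulVec_add, Matrix.mulVec_smul, Matrix.mulVec_smul, h.sq a]
  module

/-- `F[J]`-lines are invariant under `(J - γ)⁻¹` -/
theorem CS.KL_of_resolvent {t ν : F} {J : Matrix ι ι F} (h : CS Q t ν J) {a x : ι → F} (γ : F)
    (hx : KL J a (J *ᵥ x - γ • x)) : KL J a x := by
  have h1 : KL J a ((γ * γ - t * γ + ν) • x) := by
    rw [← h.resolvent γ x]
    exact (hx.smul _).sub (h.KL_J hx)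
  have h2 := h1.smul (γ * γ - t * γ + ν)⁻¹
  rwa [smul_smul, inv_mul_cancel₀ (h.irr γ), one_smul] at h2

theorem CS.KL_symm {t ν : F} {J : Matrix ι ι F} (h : CS Q t ν J) {a v : ι → F} (hv0 : v ≠ 0)
    (hv : KL J a v) : KL J v a := by
  obtain ⟨s, r, rfl⟩ := hv
  have hd : s * s + s * r * t + r * r * ν ≠ 0 := by
    by_cases hr : r = 0
    · subst hr
      have hs : s ≠ 0 := by
        rintro rfl
        apply hv0
        simp
      simpa using hs
    · have e : s * s + s * r * t + r * r * ν =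
          r * r * ((-(s / r)) * (-(s / r)) - t * (-(s / r)) + ν) := by
        field_simp
        ring
      rw [e]
      exact mul_ne_zero (mul_ne_zero hr hr) (h.irr _)
  refine ⟨(s + r * t) / (s * s + s * r * t + r * r * ν), -r / (s * s + s * r * t + r * r * ν), ?_⟩
  have e2 : (s * s + s * r * t + r * r * ν) • a =
      (s + r * t) • (s • a + r • J *ᵥ a) + (-r) • (J *ᵥ (s • a + r • J *ᵥ a)) := by
    rw [Matrix.mulVec_add, Matrix.mulVec_smul, Matrix.mulVec_smul, h.sq a]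
    module
  rw [div_eq_inv_mul, div_eq_inv_mul, ← smul_smul, ← smul_smul, ← smul_add, ← e2, smul_smul,
    inv_mul_cancel₀ hd, one_smul]

theorem CS.KL_trans {t ν : F} {J : Matrix ι ι F} (h : CS Q t ν J) {a v w : ι → F}
    (h₁ : KL J a v) (h₂ : KL J v w) : KL J a w := by
  obtain ⟨s, r, rfl⟩ := h₂
  exact (h₁.smul s).add ((h.KL_J h₁).smul r)

/-- the `F[J]`-line of a singular vector is totally singular -/
theorem CS.KL_sing {t ν : F} {J : Matrix ι ι F} (h : CS Q t ν J) {a v : ι → F} (ha : Q a = 0)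
    (hv : KL J a v) : Q v = 0 ∧ polar Q a v = 0 ∧ polar Q (J *ᵥ a) v = 0 := by
  obtain ⟨s, r, rfl⟩ := hv
  have haa : polar Q a a = 0 := Cfsg.Agent.Lib.Helper5.TSMax.pself Q ha
  have hQJ : Q (J *ᵥ a) = 0 := by rw [h.norm, ha, mul_zero]
  have hJJ : polar Q (J *ᵥ a) (J *ᵥ a) = 0 := Cfsg.Agent.Lib.Helper5.TSMax.pself Q hQJ
  have haJ : polar Q a (J *ᵥ a) = 0 := by rw [h.pself, ha, mul_zero]
  have hJa : polar Q (J *ᵥ a) a = 0 := by rw [polar_comm]; exact haJ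
  refine ⟨?_, ?_, ?_⟩
  · rw [Cfsg.Agent.Lib.Helper25.MaxTS.Q_add, QuadraticMap.map_smul, QuadraticMap.map_smul, ha,
      hQJ, polar_smul_left, polar_smul_right, haJ]
    simp
  · rw [polar_add_right, polar_smul_right, polar_smul_right, haa, haJ]; simp
  · rw [polar_add_right, polar_smul_right, polar_smul_right, hJa, hJJ]; simp

theorem CS.comb4_eq_zero {t ν : F} {J : Matrix ι ι F} (h : CS Q t ν J) {a v : ι → F} (ha : a ≠ 0)
    (hv : ¬ KL J a v) {s r s' r' : F}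
    (e : s • a + r • (J *ᵥ a) + s' • v + r' • (J *ᵥ v) = 0) :
    s = 0 ∧ r = 0 ∧ s' = 0 ∧ r' = 0 := by
  have hv0 : v ≠ 0 := by
    rintro rfl
    exact hv (KL_zero J a)
  have hw : KL J a (s' • v + r' • (J *ᵥ v)) := by
    have : s' • v + r' • (J *ᵥ v) = (-s) • a + (-r) • (J *ᵥ a) := by
      have := eq_neg_of_add_eq_zero_right (by rw [← e]; abel :
        (s • a + r • (J *ᵥ a)) + (s' • v + r' • (J *ᵥ v)) = 0)
      rw [this]; module
    exact ⟨-s, -r, this⟩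
  have hw0 : s' • v + r' • (J *ᵥ v) = 0 := by
    by_contra hne
    have h1 : KL J v (s' • v + r' • (J *ᵥ v)) := ⟨s', r', rfl⟩
    exact hv (h.KL_trans hw (h.KL_symm hne h1))
  obtain ⟨hs', hr'⟩ := h.comb_eq_zero hv0 hw0
  have e' : s • a + r • (J *ᵥ a) = 0 := by
    have : s • a + r • (J *ᵥ a) + s' • v + r' • (J *ᵥ v) =
        s • a + r • (J *ᵥ a) + (s' • v + r' • (J *ᵥ v)) := by abel
    rw [this, hw0, add_zero] at e
    exact e
  obtain ⟨hs, hr⟩ := h.comb_eq_zero ha e'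
  exact ⟨hs, hr, hs', hr'⟩

theorem toOG_inv_apply (m : ↥(Cfsg.isometryGroup F ⇑Q)) (x : ι → F) :
    toOG Q m (toOG Q m⁻¹ x) = x := by
  rw [← LinearEquiv.mul_apply, ← map_mul, mul_inv_cancel, map_one]
  rfl

theorem toOG_inv_apply' (m : ↥(Cfsg.isometryGroup F ⇑Q)) (x : ι → F) :
    toOG Q m⁻¹ (toOG Q m x) = x := by
  rw [← LinearEquiv.mul_apply, ← map_mul, inv_mul_cancel, map_one]
  rfl

theorem polar_toOG_left (m : ↥(Cfsg.isometryGroup F ⇑Q)) (x y : ι → F) :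
    polar Q (toOG Q m x) y = polar Q x (toOG Q m⁻¹ y) := by
  rw [← Cfsg.Agent.Lib.Helper25.PS.polar_toOG Q m⁻¹ (toOG Q m x) y, toOG_inv_apply']

theorem polar_toOG_right (m : ↥(Cfsg.isometryGroup F ⇑Q)) (x y : ι → F) :
    polar Q x (toOG Q m y) = polar Q (toOG Q m⁻¹ x) y := by
  rw [← Cfsg.Agent.Lib.Helper25.PS.polar_toOG Q m⁻¹ x (toOG Q m y), toOG_inv_apply']

/-- conjugation by an isometry preserves the structure (same `t`, `ν`) -/
theorem CS.cj {t ν : F} {J : Matrix ι ι F} (h : CS Q t ν J) (m : ↥(Cfsg.isometryGroup F ⇑Q)) :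
    CS Q t ν (cj Q m J) := by
  refine ⟨?_, h.irr, ?_, ?_, ?_⟩
  · intro x
    rw [cj_mulVec, cj_mulVec, toOG_inv_apply', h.sq, map_sub, map_smul, map_smul, toOG_inv_apply]
  · intro u v
    rw [cj_mulVec, cj_mulVec, polar_toOG_left m (J *ᵥ (toOG Q m⁻¹ u)) v,
      polar_toOG_right m u (J *ᵥ (toOG Q m⁻¹ v)), h.adj,
      Cfsg.Agent.Lib.Helper25.PS.polar_toOG]
  · intro v
    rw [cj_mulVec, Cfsg.Agent.Lib.Helper25.PS.Q_toOG, h.norm, Cfsg.Agent.Lib.Helper25.PS.Q_toOG]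
  · intro v
    rw [cj_mulVec, polar_toOG_right m v (J *ᵥ (toOG Q m⁻¹ v)), h.pself,
      Cfsg.Agent.Lib.Helper25.PS.Q_toOG]

/-! ## K1 : `Adm` -/

theorem siegF_J_comm {t ν : F} {J : Matrix ι ι F} (h : CS Q t ν J) {a : ι → F} (ha : Q a = 0)
    (c : F) (x : ι → F) :
    J *ᵥ (siegF Q a (J *ᵥ a) c x) = siegF Q a (J *ᵥ a) c (J *ᵥ x) := by
  unfold siegF
  rw [Matrix.mulVec_add, Matrix.mulVec_smul, Matrix.mulVec_sub, Matrix.mulVec_smul,
    Matrix.mulVec_smul, h.sq a, h.polar_right a x, h.polar_JJ a x]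
  module

theorem adm_of_CM (hQ : (polarBilin Q).Nondegenerate) (hn : 7 ≤ Fintype.card ι) {t ν : F}
    {J : Matrix ι ι F} (h : CS Q t ν J) {M : Subgroup ↥(Cfsg.isometryGroup F ⇑Q)}
    (hM : CM Q J M) : Adm Q M J := by
  intro b hb
  have hQJ : Q (J *ᵥ b) = 0 := by rw [h.norm, hb, mul_zero]
  have hbJ : polar Q b (J *ᵥ b) = 0 := by rw [h.pself, hb, mul_zero]
  apply InA.of_sieg hb hQJ hbJ
  intro c
  apply hM _ (siegG_mem_omega Q hQ hn b (J *ᵥ b) c hb hQJ hbJ)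
  apply Matrix.toLin'.injective
  apply LinearMap.ext
  intro x
  rw [Matrix.toLin'_mul, Matrix.toLin'_mul, LinearMap.comp_apply, LinearMap.comp_apply,
    Matrix.toLin'_apply, Matrix.toLin'_apply, Matrix.toLin'_apply, Matrix.toLin'_apply,
    ← toOG_apply, ← toOG_apply, toOG_siegG, toOG_siegG, siegF_J_comm h hb]

theorem Adm.cj {J : Matrix ι ι F} {M : Subgroup ↥(Cfsg.isometryGroup F ⇑Q)}
    {m : ↥(Cfsg.isometryGroup F ⇑Q)} (hm : m ∈ M) (hA : Adm Q M J) : Adm Q M (cj Q m J) := by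
  intro b hb
  have h1 : Q (toOG Q m⁻¹ b) = 0 := by rw [Cfsg.Agent.Lib.Helper25.PS.Q_toOG, hb]
  have h2 := InA.conj hm (hA _ h1)
  rwa [toOG_inv_apply, ← cj_mulVec] at h2

end Cfsg.Agent.Lib.Helper1.C3O
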