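import Cfsg.Agent.Lib.Helper5.NDMax

/-!
helper1, S5700 (`GU_m(q)`-type `C3` subgroup of `Ω^±_2m(q)`): shared definitions.

`CS Q t ν J` : the matrix `J` generates a quadratic field `F[J]` (`J² = tJ - ν`, `x² - tx + ν` without roots), its adjoint
for the polar form of `Q` is `t - J`, it rescales `Q` by `ν` and `B(x, Jx) = t Q(x)`.
`KL J a v` : `v` lies on the `F[J]`-line `⟨a, J a⟩` of `a`.
`Nrm J g` : `g J g⁻¹ ∈ F + F J`.
`cj Q m J = m J m⁻¹` for an isometry `m`.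
`Adm Q M J` : for every singular `b`, `J b` lies in the root module of `b` relative to `M` (`InA`, helper5).
`CM Q J M` : `M` contains the centraliser of `J` in `Ω`.
`AS M u hu` : the root module `{y ⊥ u : InA Q M u y}` as a submodule.
-/

set_option autoImplicit false
set_option linter.unusedSectionVars false
set_option linter.unusedVariables false

namespace Cfsg.Agent.Lib.Helper1.C3O
open Module QuadraticMap Matrix Cfsg.Agent.Lib.Helper25.CD Cfsg.Agent.Lib.Helper25.Siegel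
  Cfsg.Agent.Lib.Helper5.NSMax Cfsg.Agent.Lib.Helper5.PairMax Cfsg.Agent.Lib.Helper5.NDMax

variable {ι : Type} [Fintype ι] [DecidableEq ι] {F : Type*} [Field F] [Fintype F]

/-- `J` generates a quadratic field compatible with `Q` in the unitary way -/
structure CS (Q : QuadraticForm F (ι → F)) (t ν : F) (J : Matrix ι ι F) : Prop where
  sq : ∀ x : ι → F, J *ᵥ (J *ᵥ x) = t • (J *ᵥ x) - ν • x
  irr : ∀ c : F, c * c - t * c + ν ≠ 0
  adj : ∀ u v : ι → F, polar Q (J *ᵥ u) v = t * polar Q u v - polar Q u (J *ᵥ v)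
  norm : ∀ v : ι → F, Q (J *ᵥ v) = ν * Q v
  pself : ∀ v : ι → F, polar Q v (J *ᵥ v) = t * Q v

/-- `v` lies on the `F[J]`-line of `a` -/
def KL (J : Matrix ι ι F) (a v : ι → F) : Prop := ∃ s r : F, v = s • a + r • (J *ᵥ a)

/-- `g J g⁻¹ ∈ F + F J` -/
def Nrm (J : Matrix ι ι F) (g : GL ι F) : Prop :=
  ∃ s r : F, (g : Matrix ι ι F) * J * ((g⁻¹ : GL ι F) : Matrix ι ι F) =
    s • (1 : Matrix ι ι F) + r • J

variable (Q : QuadraticForm F (ι → F))

/-- the conjugate `m J m⁻¹` -/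
def cj (m : ↥(Cfsg.isometryGroup F ⇑Q)) (J : Matrix ι ι F) : Matrix ι ι F :=
  ((m : GL ι F) : Matrix ι ι F) * J * (((m : GL ι F)⁻¹ : GL ι F) : Matrix ι ι F)

/-- all `F[J]`-line root groups lie in `M` -/
def Adm (M : Subgroup ↥(Cfsg.isometryGroup F ⇑Q)) (J : Matrix ι ι F) : Prop :=
  ∀ b : ι → F, Q b = 0 → InA Q M b (J *ᵥ b)

/-- `M` contains the centraliser of `J` in `Ω` -/
def CM (J : Matrix ι ι F) (M : Subgroup ↥(Cfsg.isometryGroup F ⇑Q)) : Prop :=
  ∀ g ∈ Cfsg.Omega F ⇑Q,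
    ((g : GL ι F) : Matrix ι ι F) * J = J * ((g : GL ι F) : Matrix ι ι F) → g ∈ M

variable {Q}

/-- the root module of the singular vector `u` relative to `M` -/
def AS (M : Subgroup ↥(Cfsg.isometryGroup F ⇑Q)) (u : ι → F) (hu : Q u = 0) :
    Submodule F (ι → F) where
  carrier := {y | polar Q u y = 0 ∧ InA Q M u y}
  add_mem' := by
    rintro a b ⟨ha, ha'⟩ ⟨hb, hb'⟩
    exact ⟨by rw [polar_add_right, ha, hb, add_zero], InA.add hu ha hb ha' hb'⟩
  zero_mem' := ⟨by simp, inA_zero M u⟩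
  smul_mem' := by
    rintro c a ⟨ha, ha'⟩
    exact ⟨by rw [polar_smul_right, ha, smul_zero], ha'.smul c⟩

theorem mem_AS {M : Subgroup ↥(Cfsg.isometryGroup F ⇑Q)} {u : ι → F} {hu : Q u = 0} {y : ι → F} :
    y ∈ AS M u hu ↔ polar Q u y = 0 ∧ InA Q M u y := Iff.rfl

theorem cj_mulVec (m : ↥(Cfsg.isometryGroup F ⇑Q)) (J : Matrix ι ι F) (x : ι → F) :
    cj Q m J *ᵥ x = toOG Q m (J *ᵥ (toOG Q m⁻¹ x)) := by
  unfold cj
  rw [toOG_apply, toOG_apply, Matrix.mulVec_mulVec, Matrix.mulVec_mulVec]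
  rfl

end Cfsg.Agent.Lib.Helper1.C3O
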