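import Mathlib
import Cfsg.Prelude.Def_ClassicalGeometry
import Cfsg.Prelude.Def_GeometricClasses
import Cfsg.Agent.Lib.Helper5.NDMax
import Cfsg.Agent.Lib.Helper25.OmegaNonMax
import Cfsg.Agent.Lib.Helper1.C3ODefs
import Cfsg.Agent.Lib.Helper1.C3OCalc

set_option autoImplicit false
set_option linter.unusedSectionVars false
set_option linter.unusedVariables false
set_option linter.unusedSimpArgs false

namespace Cfsg.Agent.Lib.Helper1.C3OLeaf
open Module QuadraticMap Matrix Cfsg.Agent.Lib.Helper25.CD Cfsg.Agent.Lib.Helper25.Spin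
  Cfsg.Agent.Lib.Helper25.Fam Cfsg.Agent.Lib.Helper25.Siegel
  Cfsg.Agent.Lib.Helper25.PS Cfsg.Agent.Lib.Helper25.OGeom Cfsg.Agent.Lib.Helper15
  Cfsg.Agent.Lib.Helper5.TSMax Cfsg.Agent.Lib.Helper5.NSMax Cfsg.Agent.Lib.Helper5.PairMax
  Cfsg.Agent.Lib.Helper5.NDMax Cfsg.Agent.Lib.Helper1.C3O

variable {ι : Type} [Fintype ι] [DecidableEq ι] {F : Type*} [Field F] [Fintype F]
  {Q : QuadraticForm F (ι → F)}

/-! ## F4 : the commutator relation -/


/-- F4 : the commutator relation -/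
theorem inA_comm {M : Subgroup ↥(Cfsg.isometryGroup F ⇑Q)} {u u' y y' : ι → F} (hu : Q u = 0)
    (hu' : Q u' = 0) (huu' : polar Q u u' = 0) (h : InA Q M u y) (h' : InA Q M u' y')
    (huy : polar Q u y = 0) (hu'y' : polar Q u' y' = 0) (hyu' : polar Q y u' = 0)
    (hy'u : polar Q y' u = 0) (hyy' : polar Q y y' ≠ 0) : InA Q M u u' := by
  intro c
  obtain ⟨c₁, hc₁⟩ : ∃ c₁ : F, c₁ * polar Q y y' = c := ⟨c / polar Q y y', div_mul_cancel₀ _ hyy'⟩
  obtain ⟨g, hg, hgx⟩ := h c₁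
  obtain ⟨gi, hgi, hgix⟩ := h (-c₁)
  obtain ⟨g', hg', hg'x⟩ := h' 1
  obtain ⟨g'i, hg'i, hg'ix⟩ := h' (-1)
  refine ⟨g * g' * gi * g'i, mul_mem (mul_mem (mul_mem hg hg') hgi) hg'i, fun x => ?_⟩
  rw [map_mul, map_mul, map_mul, LinearEquiv.mul_apply, LinearEquiv.mul_apply,
    LinearEquiv.mul_apply, hgx, hg'x, hgix, hg'ix, ← hc₁]
  have huu : polar Q u u = 0 := Cfsg.Agent.Lib.Helper5.TSMax.pself Q hu
  have hu'u' : polar Q u' u' = 0 := Cfsg.Agent.Lib.Helper5.TSMax.pself Q hu'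
  have hyy : polar Q y y = 2 * Q y := Cfsg.Agent.Lib.Helper25.MaxTS.polar_self y
  have hy'y' : polar Q y' y' = 2 * Q y' := Cfsg.Agent.Lib.Helper25.MaxTS.polar_self y'
  unfold egen
  simp only [polar_add_right, polar_smul_right, polar_sub_right, polar_sub_left, polar_add_left,
    polar_smul_left, smul_eq_mul, QuadraticMap.map_smul, polar_neg_right, polar_neg_left,
    QuadraticMap.map_neg, hu, hu', huu', huy, hu'y', hyu', hy'u,
    huu, hu'u', polar_comm Q u' u, polar_comm Q y u, polar_comm Q y' u', polar_comm Q u' y,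
    polar_comm Q u y', polar_comm Q y' y, hyy, hy'y', mul_zero, zero_mul, add_zero, sub_zero,
    zero_add, smul_zero, zero_smul, one_smul, neg_smul, one_mul, mul_one]
  match_scalars <;> ring

end Cfsg.Agent.Lib.Helper1.C3OLeaf
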