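import Mathlib
import Cfsg.Prelude.Def_ClassicalGeometry
import Cfsg.Prelude.Def_GeometricClasses
import Cfsg.Agent.Lib.Helper5.NDMax
import Cfsg.Agent.Lib.Helper25.OmegaNonMax
import Cfsg.Agent.Lib.Helper1.C3ODefs
import Cfsg.Agent.Lib.Helper1.C3OCalc
import Cfsg.Agent.Lib.Helper1.C3OF4
import Cfsg.Agent.Lib.Lead.C3OG123
import Cfsg.Agent.Lib.Helper20.C3OG45
import Cfsg.Agent.Lib.Helper20.C3OSC
import Cfsg.Agent.Lib.Helper27.C3OCore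
import Cfsg.Agent.Lib.Helper12.C3OC
import Cfsg.Agent.Lib.Helper12.C3OGS
import Cfsg.Agent.Lib.Helper6.C3OL0
import Cfsg.Agent.Lib.Helper6.C3OPcore

/-!
helper1, S5700: assembly.  `GU_{n/2}(q)`-type `C3` subgroup (normaliser of a quadratic field `K`, adjoint-closed, not
self-adjoint, rescaling `Q`) is maximal in `Ω^±_n(q)`, `n ≥ 13`, all `q`.

Leaves: F4 (helper1), G1-G3 (lead), G4, G5, SC (helper20), CP, CL, CG (helper27), C, GS (helper12), L0, P (helper6).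
-/

set_option autoImplicit false
set_option linter.unusedSectionVars false
set_option linter.unusedVariables false

namespace Cfsg.Agent.Lib.Helper1.C3OMain
open Module QuadraticMap Matrix Cfsg.Agent.Lib.Helper25.CD Cfsg.Agent.Lib.Helper25.Spin
  Cfsg.Agent.Lib.Helper25.Fam Cfsg.Agent.Lib.Helper25.Siegel
  Cfsg.Agent.Lib.Helper25.PS Cfsg.Agent.Lib.Helper25.OGeom Cfsg.Agent.Lib.Helper15
  Cfsg.Agent.Lib.Helper5.TSMax Cfsg.Agent.Lib.Helper5.NSMax Cfsg.Agent.Lib.Helper5.PairMax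
  Cfsg.Agent.Lib.Helper5.NDMax Cfsg.Agent.Lib.Helper1.C3O

variable {ι : Type} [Fintype ι] [DecidableEq ι] {F : Type*} [Field F] [Fintype F]
  {Q : QuadraticForm F (ι → F)}

theorem g1 (hQ : (polarBilin Q).Nondegenerate) : Cfsg.Agent.Lib.Helper12.C3OLeaf.HypPerpList Q :=
  fun l hl => Cfsg.Agent.Lib.Lead.C3OLeaf.exists_hyp_perp_list hQ l hl

theorem core_good (hQ : (polarBilin Q).Nondegenerate) (hn : 13 ≤ Fintype.card ι) {t ν : F}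
    {J J' : Matrix ι ι F} (hJ : CS Q t ν J) (hJ' : CS Q t ν J')
    {M : Subgroup ↥(Cfsg.isometryGroup F ⇑Q)} (hA : Adm Q M J) (hA' : Adm Q M J') {u : ι → F}
    (hu0 : u ≠ 0) (hu : Q u = 0) (hnot : ¬ KL J u (J' *ᵥ u)) : Good Q M (mk' Q u hu0 hu) :=
  Cfsg.Agent.Lib.Helper27.C3OCore.core_good_of
    (fun hu hu' huu' h h' huy hu'y' hyu' hy'u hyy' =>
      Cfsg.Agent.Lib.Helper1.C3OLeaf.inA_comm hu hu' huu' h h' huy hu'y' hyu' hy'u hyy')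
    (fun l hl N hN _ hx => Cfsg.Agent.Lib.Lead.C3OLeaf.mem_span_sing_perp_not_mem hQ hn l hl N hN hx)
    (fun l _ hz => Cfsg.Agent.Lib.Helper20.C3OLeaf.exists_perp_list_ne hQ l hz)
    (fun l N h => Cfsg.Agent.Lib.Helper20.C3OLeaf.exists_perp_list_not_mem hQ l N h)
    hn hJ hJ' hA hA' hu0 hu hnot

theorem good_spread (hQ : (polarBilin Q).Nondegenerate) (hn : 13 ≤ Fintype.card ι) {t ν : F}
    {J : Matrix ι ι F} (hJ : CS Q t ν J) {M : Subgroup ↥(Cfsg.isometryGroup F ⇑Q)}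
    (hA : Adm Q M J) {u v : ι → F} (hu0 : u ≠ 0) (hu : Q u = 0) (hv0 : v ≠ 0) (hv : Q v = 0)
    (hG : Good Q M (mk' Q u hu0 hu)) (hb : polar Q u v ≠ 0) : Good Q M (mk' Q v hv0 hv) :=
  Cfsg.Agent.Lib.Helper12.C3OLeaf.good_spread_core hn (g1 hQ) hJ
    (fun hu hy hy0 hb h1 h2 h3 h4 m hm =>
      Cfsg.Agent.Lib.Helper20.C3OLeaf.spread_calc hJ hu hy hy0 hb h1 h2 h3 h4 m hm)
    (fun hJ' hA' _ hu0 hu hnot => core_good hQ hn hJ hJ' hA hA' hu0 hu hnot)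
    hA hu0 hu hv0 hv hG hb

theorem exists_omega_not_nrm (hQ : (polarBilin Q).Nondegenerate) (hn : 13 ≤ Fintype.card ι)
    {t ν : F} {J : Matrix ι ι F} (hJ : CS Q t ν J) :
    ∃ g : ↥(Cfsg.isometryGroup F ⇑Q), g ∈ Cfsg.Omega F ⇑Q ∧ ¬ Nrm J (g : GL ι F) :=
  Cfsg.Agent.Lib.Helper6.C3OLeaf.exists_omega_not_nrm_of
    (fun l hl => Cfsg.Agent.Lib.Lead.C3OLeaf.exists_hyp_perp_list hQ l hl)
    (fun hu hy hy0 hb h1 h2 h3 h4 m hm =>
      Cfsg.Agent.Lib.Helper20.C3OLeaf.spread_calc hJ hu hy hy0 hb h1 h2 h3 h4 m hm) hQ hn hJ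

theorem eq_omega_of_lt (hQ : (polarBilin Q).Nondegenerate) (hn : 13 ≤ Fintype.card ι) {t ν : F}
    {J : Matrix ι ι F} (hJ : CS Q t ν J) (M : Subgroup ↥(Cfsg.isometryGroup F ⇑Q))
    (hM : CM Q J M) (hMΩ : M ≤ Cfsg.Omega F ⇑Q) {g : ↥(Cfsg.isometryGroup F ⇑Q)} (hg : g ∈ M)
    (hgN : ¬ Nrm J (g : GL ι F)) : M = Cfsg.Omega F ⇑Q := by
  have hA : Adm Q M J := adm_of_CM hQ (by omega) hJ hM
  have hJ' : CS Q t ν (cj Q g J) := hJ.cj g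
  have hA' : Adm Q M (cj Q g J) := hA.cj hg
  obtain ⟨u, hu, hnot⟩ : ∃ u : ι → F, Q u = 0 ∧ ¬ KL J u (cj Q g J *ᵥ u) := by
    by_contra hcon
    push Not at hcon
    exact hgN (Cfsg.Agent.Lib.Helper12.C3OLeaf.eq_comb_of_line_invariant_core hQ hn (g1 hQ) hJ _
      hcon)
  have hu0 : u ≠ 0 := by
    rintro rfl
    exact hnot ⟨0, 0, by simp⟩
  have hG := core_good hQ hn hJ hJ' hA hA' hu0 hu hnot
  obtain ⟨v, hv, huv⟩ := exists_sing_partner Q hQ hu0 hu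
  have hv0 : v ≠ 0 := by
    rintro rfl
    simp at huv
  have hb : polar Q u v ≠ 0 := by rw [huv]; exact one_ne_zero
  have hG' := good_spread hQ hn hJ hA hu0 hu hv0 hv hG hb
  exact eq_omega_of_all_good Q hQ (by omega) M hMΩ
    (all_good_of_opposite Q hQ (by omega) M hG hG' (by rw [ort_mk']; exact hb))

theorem main {n : ℕ} (hn : 13 ≤ n) (heven : Even n) (Q₀ : (Fin n → F) → F)
    (hQ₀ : Cfsg.Geo.IsNondegenerateQuadraticForm Q₀)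
    (K : Subalgebra F (Matrix (Fin n) (Fin n) F)) (hK : Cfsg.Geo.IsFieldSubalgebra 2 K)
    (hac : Cfsg.Geo.IsAdjointClosedFor (QuadraticMap.polar Q₀) K)
    (hnsa : ¬ Cfsg.Geo.IsSelfAdjointFor (QuadraticMap.polar Q₀) K)
    (hsc : ∀ k ∈ K, ∃ c : F, ∀ v : (Fin n → F), Q₀ (Matrix.mulVec k v) = c * Q₀ v) :
    Cfsg.Geo.IsMaximalIn (Cfsg.Geo.omegaGL Q₀)
      (Cfsg.Geo.subalgebraNormalizer K ⊓ Cfsg.Geo.omegaGL Q₀) := by
  obtain ⟨Qf, rfl, hnd⟩ := Cfsg.Agent.Lib.Helper25.Fam.exists_qf hQ₀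
  have hn13 : 13 ≤ Fintype.card (Fin n) := by rw [Fintype.card_fin]; exact hn
  obtain ⟨t, ν, J, hJ, hS⟩ :=
    Cfsg.Agent.Lib.Helper6.C3OLeaf.exists_CS hnd (by omega) K hK hac hnsa hsc
  -- the normaliser inside the isometry group
  obtain ⟨N, hN⟩ : ∃ N : Subgroup ↥(Cfsg.isometryGroup F ⇑Qf),
      N = (Cfsg.Geo.subalgebraNormalizer K).comap (Cfsg.isometryGroup F ⇑Qf).subtype := ⟨_, rfl⟩
  have hmemN : ∀ g : ↥(Cfsg.isometryGroup F ⇑Qf), g ∈ N ↔ Nrm J (g : GL (Fin n) F) := by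
    intro g
    rw [hN, Subgroup.mem_comap]
    exact hS _
  have e1 : Cfsg.Geo.subalgebraNormalizer K ⊓ Cfsg.Geo.omegaGL ⇑Qf =
      (N ⊓ Cfsg.Omega F ⇑Qf).map (Cfsg.isometryGroup F ⇑Qf).subtype := by
    ext x
    constructor
    · rintro ⟨hx1, g, hg, rfl⟩
      exact ⟨g, ⟨by rw [hN]; exact hx1, hg⟩, rfl⟩
    · rintro ⟨g, ⟨hg1, hg2⟩, rfl⟩
      exact ⟨by rw [hN] at hg1; exact hg1, g, hg2, rfl⟩
  rw [e1]
  have hlt : N ⊓ Cfsg.Omega F ⇑Qf < Cfsg.Omega F ⇑Qf := by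
    refine lt_of_le_of_ne inf_le_right ?_
    intro heq
    obtain ⟨g, hgΩ, hgN⟩ := exists_omega_not_nrm hnd hn13 hJ
    have : g ∈ N ⊓ Cfsg.Omega F ⇑Qf := by rw [heq]; exact hgΩ
    exact hgN ((hmemN g).mp this.1)
  refine Cfsg.Agent.Lib.Helper5.TSMax.isMaximalIn_map _ (Subgroup.subtype_injective _) hlt ?_
  intro M h1 h2
  by_cases hM : M = N ⊓ Cfsg.Omega F ⇑Qf
  · exact Or.inl hM
  right
  have hCM : CM Qf J M := by
    intro g hgΩ hcomm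
    apply h1
    refine ⟨(hmemN g).mpr ⟨0, 1, ?_⟩, hgΩ⟩
    rw [hcomm, Matrix.mul_assoc, ← Units.val_mul, mul_inv_cancel,
      Units.val_one, Matrix.mul_one, zero_smul, one_smul, zero_add]
  obtain ⟨g, hgM, hgN⟩ : ∃ g ∈ M, g ∉ N := by
    by_contra hcon
    push Not at hcon
    exact hM (le_antisymm (fun g hg => ⟨hcon g hg, h2 hg⟩) h1)
  exact eq_omega_of_lt hnd hn13 hJ M hCM h2 hgM (fun h => hgN ((hmemN g).mpr h))

end Cfsg.Agent.Lib.Helper1.C3OMain
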