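import Mathlib
import Cfsg.Prelude.Def_ClassicalGeometry
import Cfsg.Prelude.Def_GeometricClasses
import Cfsg.Agent.Lib.Helper5.SpMax
import Cfsg.Agent.Lib.Helper24.C3lDefs
import Cfsg.Agent.Lib.Helper24.C3lEL

/-!
helper1 for helper22's S5886 market, leaf SK (`mem_normalizer_of_lines`): a matrix mapping every
`E`-line into an `E`-line normalises `E` (kernel of the spread).  Form-free version of
`Cfsg.Agent.Lib.Helper1.C3sLeaf.mem_normalizer_of_lines` (S5664), on helper24's `C3lDefs`.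
-/

set_option autoImplicit false
set_option linter.unusedSectionVars false
set_option linter.unusedVariables false

namespace Cfsg.Agent.Lib.Helper1.C3lLeaf
open Cfsg Matrix Module Cfsg.Agent.Lib.Helper5 Cfsg.Agent.Lib.Helper5.SpMax
  Cfsg.Agent.Lib.Helper24.C3l

variable {F : Type*} [Field F] {n : ℕ} {E : Type*} [Field E] [Algebra F E]

local notation "𝕍" => (Fin n → F)
local notation "𝕄" => Matrix (Fin n) (Fin n) F

/-- `E` is finite-dimensional over `F`, because it embeds into a matrix algebra -/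
theorem rho_injective (S : KL n F E) (hn : 0 < n) : Function.Injective S.ρ := by
  have : Nonempty (Fin n) := ⟨⟨0, hn⟩⟩
  exact S.ρ.toRingHom.injective

/-- `E` is finite-dimensional over `F`, because it embeds into a matrix algebra -/
theorem finiteDimensional_of_KL (S : KL n F E) (hn : 0 < n) : FiniteDimensional F E :=
  FiniteDimensional.of_injective S.ρ.toLinearMap (rho_injective S hn)

/-- a map sending every vector into its `E`-line acts as one element of `E`
(`hd`: no `E`-line is everything) -/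
theorem sk_const (S : KL n F E) (hd : ∀ v : 𝕍, ∃ y : 𝕍, y ∉ S.line v) (A : 𝕄) (lam : 𝕍 → E)
    (hlam : ∀ w, A *ᵥ w = S.act (lam w) w)
    {v w : 𝕍} (hv : v ≠ 0) (hw : w ≠ 0) : lam v = lam w := by
  have step : ∀ v w : 𝕍, v ≠ 0 → w ∉ S.line v → lam v = lam w := by
    intro v w hv hwv
    have e1 : S.act (lam (v + w) - lam v) v = S.act (lam w - lam (v + w)) w := by
      have h1 := hlam (v + w)
      rw [Matrix.mulVec_add, hlam v, hlam w, S.act_vadd] at h1
      rw [S.act_sub, S.act_sub]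
      have h2 : S.act (lam (v + w)) v - S.act (lam v) v =
          S.act (lam w) w - S.act (lam (v + w)) w := by
        rw [sub_eq_sub_iff_add_eq_add, ← h1]; abel
      exact h2
    have hb : lam w - lam (v + w) = 0 := by
      by_contra hb
      apply hwv
      have h3 : w = S.act ((lam w - lam (v + w))⁻¹ * (lam (v + w) - lam v)) v := by
        rw [S.act_mul, e1, S.act_inv_act hb]
      rw [h3]
      exact S.act_mem_line _ _
    rw [hb, S.act_zero] at e1
    rcases S.act_eq_zero e1 with h4 | h4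
    · rw [sub_eq_zero] at h4 hb
      rw [← h4, hb]
    · exact absurd h4 hv
  by_cases hwv : w ∈ S.line v
  · obtain ⟨y, hyv⟩ := hd v
    have hyw : y ∉ S.line w := by
      rw [S.line_eq_of_mem hwv hw]
      exact hyv
    rw [step v y hv hyv, step w y hw hyw]
  · exact step v w hv hwv

/-- SK (core form): a matrix mapping every `E`-line into an `E`-line normalises `E` -/
theorem mem_normalizer_of_lines_of (S : KL n F E) (hd : ∀ v : 𝕍, ∃ y : 𝕍, y ∉ S.line v)
    (g : GL (Fin n) F)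
    (h : ∀ (v : 𝕍) (e : E), ∃ e' : E, (g : 𝕄) *ᵥ (S.act e v) = S.act e' ((g : 𝕄) *ᵥ v)) :
    g ∈ Cfsg.Geo.subalgebraNormalizer S.ρ.range := by
  obtain ⟨v₀, hv₀⟩ : ∃ v₀ : 𝕍, v₀ ≠ 0 := by
    obtain ⟨y, hy⟩ := hd 0
    refine ⟨y, fun h0 => hy ?_⟩
    rw [h0]
    exact S.self_mem_line 0
  have hn : 0 < n := by
    rcases Nat.eq_zero_or_pos n with h0 | h0
    · exfalso
      subst h0
      exact hv₀ (Subsingleton.elim _ _)
    · exact h0
  have hρinj : Function.Injective S.ρ := rho_injective S hn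
  have hgg : ∀ x : 𝕍, (g : 𝕄) *ᵥ (((g⁻¹ : GL (Fin n) F) : 𝕄) *ᵥ x) = x := by
    intro x
    rw [Matrix.mulVec_mulVec, ← Units.val_mul, mul_inv_cancel, Units.val_one, Matrix.one_mulVec]
  have key : ∀ e : E, ∃ l : E,
      (g : 𝕄) * S.ρ e * ((g⁻¹ : GL (Fin n) F) : 𝕄) = S.ρ l := by
    intro e
    have h1 : ∀ w : 𝕍, ∃ l : E,
        ((g : 𝕄) * S.ρ e * ((g⁻¹ : GL (Fin n) F) : 𝕄)) *ᵥ w = S.act l w := by
      intro w
      obtain ⟨e', he'⟩ := h (((g⁻¹ : GL (Fin n) F) : 𝕄) *ᵥ w) e
      refine ⟨e', ?_⟩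
      rw [← Matrix.mulVec_mulVec, ← Matrix.mulVec_mulVec, ← S.act_def, he', hgg]
    choose lam hlam using h1
    refine ⟨lam v₀, ?_⟩
    apply mat_eq_of_mulVec
    intro w
    by_cases hw : w = 0
    · rw [hw, Matrix.mulVec_zero, Matrix.mulVec_zero]
    · rw [hlam w, sk_const S hd _ lam hlam hw hv₀, S.act_def]
  choose φ hφ using key
  have hφadd : ∀ a b, φ (a + b) = φ a + φ b := by
    intro a b
    apply hρinj
    rw [← hφ, map_add, map_add, ← hφ, ← hφ, Matrix.mul_add, Matrix.add_mul]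
  have hφsmul : ∀ (c : F) a, φ (c • a) = c • φ a := by
    intro c a
    apply hρinj
    rw [← hφ, map_smul, map_smul, ← hφ, Matrix.mul_smul, Matrix.smul_mul]
  let Φ : E →ₗ[F] E :=
    { toFun := φ
      map_add' := hφadd
      map_smul' := by
        intro c a
        simp only [RingHom.id_apply]
        exact hφsmul c a }
  have hΦinj : Function.Injective Φ := by
    rw [← LinearMap.ker_eq_bot, LinearMap.ker_eq_bot']
    intro a ha
    have h1 : φ a = 0 := ha
    have h2 := hφ a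
    rw [h1, map_zero] at h2
    apply hρinj
    rw [map_zero]
    have h3 : S.ρ a = ((g⁻¹ : GL (Fin n) F) : 𝕄) *
        ((g : 𝕄) * S.ρ a * ((g⁻¹ : GL (Fin n) F) : 𝕄)) * (g : 𝕄) := by
      rw [Matrix.mul_assoc, Matrix.mul_assoc, Matrix.mul_assoc, ← Units.val_mul, inv_mul_cancel,
        Units.val_one, Matrix.mul_one, ← Matrix.mul_assoc, ← Units.val_mul, inv_mul_cancel,
        Units.val_one, Matrix.one_mul]
    rw [h3, h2, Matrix.mul_zero, Matrix.zero_mul]
  have : FiniteDimensional F E := finiteDimensional_of_KL S hn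
  have hΦsurj : Function.Surjective Φ := LinearMap.injective_iff_surjective.mp hΦinj
  intro k
  constructor
  · rintro ⟨e, rfl⟩
    exact ⟨φ e, (hφ e).symm⟩
  · rintro ⟨l, hl⟩
    obtain ⟨a, ha⟩ := hΦsurj l
    refine ⟨a, ?_⟩
    have h1 : (g : 𝕄) * S.ρ a * ((g⁻¹ : GL (Fin n) F) : 𝕄) =
        (g : 𝕄) * k * ((g⁻¹ : GL (Fin n) F) : 𝕄) := by
      have hl' : S.ρ l = (g : 𝕄) * k * ((g⁻¹ : GL (Fin n) F) : 𝕄) := hl
      have ha' : φ a = l := ha
      rw [hφ a, ha', hl']
    have h2 : ∀ X : 𝕄, X = ((g⁻¹ : GL (Fin n) F) : 𝕄) *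
        ((g : 𝕄) * X * ((g⁻¹ : GL (Fin n) F) : 𝕄)) * (g : 𝕄) := by
      intro X
      rw [Matrix.mul_assoc, Matrix.mul_assoc, Matrix.mul_assoc, ← Units.val_mul, inv_mul_cancel,
        Units.val_one, Matrix.mul_one, ← Matrix.mul_assoc, ← Units.val_mul, inv_mul_cancel,
        Units.val_one, Matrix.one_mul]
    change S.ρ a = k
    rw [h2 (S.ρ a), h1, ← h2 k]

/-- SK: a matrix mapping every `E`-line into an `E`-line normalises `E`
(`finrank F E < n`, i.e. `d = n / r ≥ 2`) -/
theorem mem_normalizer_of_lines (S : KL n F E) (hlt : Module.finrank F E < n)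
    (g : GL (Fin n) F)
    (h : ∀ (v : 𝕍) (e : E), ∃ e' : E, (g : 𝕄) *ᵥ (S.act e v) = S.act e' ((g : 𝕄) *ᵥ v)) :
    g ∈ Cfsg.Geo.subalgebraNormalizer S.ρ.range := by
  have : FiniteDimensional F E := finiteDimensional_of_KL S (lt_of_le_of_lt (Nat.zero_le _) hlt)
  exact mem_normalizer_of_lines_of S (fun v => S.exists_not_mem_line hlt v) g h

/-- SK, subspace form: a matrix mapping every `E`-line onto/into an `E`-line (as `F`-subspaces,
`img g (line v) ≤ line (g v)`) normalises `E` -/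
theorem mem_normalizer_of_img_line_le (S : KL n F E) (hlt : Module.finrank F E < n)
    (g : GL (Fin n) F)
    (h : ∀ v : 𝕍, ∀ x ∈ S.line v, (g : 𝕄) *ᵥ x ∈ S.line ((g : 𝕄) *ᵥ v)) :
    g ∈ Cfsg.Geo.subalgebraNormalizer S.ρ.range := by
  apply mem_normalizer_of_lines S hlt g
  intro v e
  obtain ⟨e', he'⟩ := S.mem_line.mp (h v _ (S.act_mem_line e v))
  exact ⟨e', he'.symm⟩

end Cfsg.Agent.Lib.Helper1.C3lLeaf

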