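import Mathlib
import Cfsg.Prelude.Def_ClassicalGeometry
import Cfsg.Prelude.Def_GeometricClasses
import Cfsg.Agent.Lib.Helper5.SpMax
import Cfsg.Agent.Lib.Helper22.C3sDefs

/-!
helper1 for helper22's S5664 market, leaf C3sP (`tvc_not_mem_normalizer`): an `F`-transvection does not
normalise the field `E` (degree `≥ 2`).
-/

set_option autoImplicit false
set_option linter.unusedSectionVars false
set_option linter.unusedVariables false

namespace Cfsg.Agent.Lib.Helper1.C3sLeaf
open Cfsg Matrix Module Cfsg.Agent.Lib.Helper5 Cfsg.Agent.Lib.Helper5.SpMax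
  Cfsg.Agent.Lib.Helper22.C3 Cfsg.Agent.Lib.Helper22.C3s

universe u
variable {F : Type u} [Field F] {m : ℕ} {E : Type u} [Field E] [Algebra F E]

local notation "𝕍" => (Fin m ⊕ Fin m → F)
local notation "𝕄" => Matrix (Fin m ⊕ Fin m) (Fin m ⊕ Fin m) F

/-- P: a transvection does not normalise `E` -/
theorem tvc_not_mem_normalizer (S : KS m F E) (hm : 2 ≤ m) (hr : 2 ≤ finrank F E) {v : 𝕍}
    (hv : v ≠ 0) : tvc v 1 ∉ Cfsg.Geo.subalgebraNormalizer S.ρ.range := by
  intro hN
  -- an `e` with `e v ∉ F v`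
  obtain ⟨e, he⟩ : ∃ e : E, S.act e v ∉ Submodule.span F {v} := by
    by_contra hcon
    push Not at hcon
    have hle : S.line v ≤ Submodule.span F {v} := by
      intro x hx
      obtain ⟨e, rfl⟩ := S.mem_line.mp hx
      exact hcon e
    have h1 := Submodule.finrank_mono hle
    rw [S.finrank_line hv, finrank_span_singleton hv] at h1
    omega
  have hk : S.ρ e ∈ S.ρ.range := ⟨e, rfl⟩
  obtain ⟨e', he'⟩ := (hN (S.ρ e)).mp hk
  -- `t ρ(e) = ρ(e') t`
  have hcomm : ((tvc v 1 : GL (Fin m ⊕ Fin m) F) : 𝕄) * S.ρ e =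
      S.ρ e' * ((tvc v 1 : GL (Fin m ⊕ Fin m) F) : 𝕄) := by
    have h2 : S.ρ e' * ((tvc v 1 : GL (Fin m ⊕ Fin m) F) : 𝕄) =
        ((tvc v 1 : GL (Fin m ⊕ Fin m) F) : 𝕄) * S.ρ e *
          (((tvc v 1)⁻¹ : GL (Fin m ⊕ Fin m) F) : 𝕄) *
          ((tvc v 1 : GL (Fin m ⊕ Fin m) F) : 𝕄) := by
      rw [← he']
      rfl
    rw [h2, Matrix.mul_assoc, ← Units.val_mul, inv_mul_cancel, Units.val_one, Matrix.mul_one]
  have happ : ∀ x : 𝕍, S.act e x + (1 * sympForm m F (S.act e x) v) • v =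
      S.act e' (x + (1 * sympForm m F x v) • v) := by
    intro x
    have h3 := congrArg (fun A : 𝕄 => A *ᵥ x) hcomm
    simp only [← Matrix.mulVec_mulVec] at h3
    rw [tvc_mulVec, tvc_mulVec, ← S.act_def, ← S.act_def] at h3
    exact h3
  -- `e' = e`
  have hee' : e' = e := by
    have h4 := happ v
    rw [sympForm_self, mul_zero, zero_smul, add_zero, S.form_act_left, S.alt, mul_zero, map_zero,
      mul_zero, zero_smul, add_zero] at h4
    have h5 : S.act (e - e') v = 0 := by rw [S.act_sub, h4, sub_self]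
    rcases S.act_eq_zero h5 with h6 | h6
    · exact (sub_eq_zero.mp h6).symm
    · exact absurd h6 hv
  subst hee'
  obtain ⟨y, hy⟩ := sympForm_nondeg v hv
  apply he
  have h7 := happ ((sympForm m F y v)⁻¹ • y)
  have hyv : sympForm m F y v ≠ 0 := by
    intro h0
    apply hy
    rw [sympForm_swap, h0, neg_zero]
  rw [sympForm_smul_left, inv_mul_cancel₀ hyv, mul_one, one_smul, S.act_vadd, one_mul] at h7
  have h8 := add_left_cancel h7
  rw [← h8]
  exact Submodule.smul_mem _ _ (Submodule.mem_span_singleton_self v)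

end Cfsg.Agent.Lib.Helper1.C3sLeaf
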