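import Mathlib
import Cfsg.Prelude.Def_ClassicalGeometry
import Cfsg.Prelude.Def_GeometricClasses
import Cfsg.Agent.Lib.Helper5.SpMax
import Cfsg.Agent.Lib.Helper22.C3sDefs

/-!
helper1 for helper22's S5664 market, leaf C3sSK (`mem_normalizer_of_lines`): a matrix mapping every
`E`-line into an `E`-line normalises `E` (kernel of the spread).
-/

set_option autoImplicit false
set_option linter.unusedSectionVars false
set_option linter.unusedVariables false

namespace Cfsg.Agent.Lib.Helper1.C3sLeaf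
open Cfsg Matrix Module Cfsg.Agent.Lib.Helper5 Cfsg.Agent.Lib.Helper5.SpMax
  Cfsg.Agent.Lib.Helper22.C3 Cfsg.Agent.Lib.Helper22.C3s

universe u
variable {F : Type u} [Field F] {m : ℕ} {E : Type u} [Field E] [Algebra F E]

local notation "𝕍" => (Fin m ⊕ Fin m → F)
local notation "𝕄" => Matrix (Fin m ⊕ Fin m) (Fin m ⊕ Fin m) F

/-- a map sending every vector into its `E`-line acts as one element of `E` -/
theorem sk_const (S : KS m F E) (A : 𝕄) (lam : 𝕍 → E) (hlam : ∀ w, A *ᵥ w = S.act (lam w) w)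
    {v w : 𝕍} (hv : v ≠ 0) (hw : w ≠ 0) : lam v = lam w := by
  have step : ∀ v w : 𝕍, v ≠ 0 → w ∉ S.line v → lam v = lam w := by
    intro v w hv hwv
    have e1 : S.act (lam (v + w) - lam v) v = S.act (lam w - lam (v + w)) w := by
      have h1 := hlam (v + w)
      rw [Matrix.mulVec_add, hlam v, hlam w, S.act_vadd] at h1
      rw [S.act_sub, S.act_sub]
      have h2 : S.act (lam (v + w)) v - S.act (lam v) v =
          S.act (lam w) w - S.act (lam (v + w)) w := by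
        rw [sub_eq_sub_iff_add_eq_add, ← h1]; abel
      exact h2
    have hb : lam w - lam (v + w) = 0 := by
      by_contra hb
      apply hwv
      have h3 : w = S.act ((lam w - lam (v + w))⁻¹ * (lam (v + w) - lam v)) v := by
        rw [S.act_mul, e1, S.act_inv_act hb]
      rw [h3]
      exact S.act_mem_line _ _
    rw [hb, S.act_zero] at e1
    rcases S.act_eq_zero e1 with h4 | h4
    · rw [sub_eq_zero] at h4 hb
      rw [← h4, hb]
    · exact absurd h4 hv
  by_cases hwv : w ∈ S.line v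
  · obtain ⟨y, hy⟩ := S.fE_nondeg hv
    have hyv : y ∉ S.line v := by
      intro hyl
      obtain ⟨e, rfl⟩ := S.mem_line.mp hyl
      exact hy (S.fE_self_act e v)
    have hyw : y ∉ S.line w := by
      rw [S.line_eq_of_mem hwv hw]
      exact hyv
    rw [step v y hv hyv, step w y hw hyw]
  · exact step v w hv hwv

/-- SK: a matrix mapping every `E`-line into an `E`-line normalises `E` -/
theorem mem_normalizer_of_lines (S : KS m F E) (hm : 0 < m) (g : GL (Fin m ⊕ Fin m) F)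
    (h : ∀ (v : 𝕍) (e : E), ∃ e' : E, (g : 𝕄) *ᵥ (S.act e v) = S.act e' ((g : 𝕄) *ᵥ v)) :
    g ∈ Cfsg.Geo.subalgebraNormalizer S.ρ.range := by
  have : Nonempty (Fin m ⊕ Fin m) := ⟨Sum.inl ⟨0, hm⟩⟩
  have hρinj : Function.Injective S.ρ := S.ρ.toRingHom.injective
  obtain ⟨v₀, hv₀⟩ : ∃ v₀ : 𝕍, v₀ ≠ 0 := by
    refine ⟨Pi.single (Sum.inl ⟨0, hm⟩) 1, fun h0 => ?_⟩
    have := congrFun h0 (Sum.inl ⟨0, hm⟩)
    simp at this
  have hgg : ∀ x : 𝕍, (g : 𝕄) *ᵥ (((g⁻¹ : GL (Fin m ⊕ Fin m) F) : 𝕄) *ᵥ x) = x := by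
    intro x
    rw [Matrix.mulVec_mulVec, ← Units.val_mul, mul_inv_cancel, Units.val_one, Matrix.one_mulVec]
  have key : ∀ e : E, ∃ l : E,
      (g : 𝕄) * S.ρ e * ((g⁻¹ : GL (Fin m ⊕ Fin m) F) : 𝕄) = S.ρ l := by
    intro e
    have h1 : ∀ w : 𝕍, ∃ l : E,
        ((g : 𝕄) * S.ρ e * ((g⁻¹ : GL (Fin m ⊕ Fin m) F) : 𝕄)) *ᵥ w = S.act l w := by
      intro w
      obtain ⟨e', he'⟩ := h (((g⁻¹ : GL (Fin m ⊕ Fin m) F) : 𝕄) *ᵥ w) e
      refine ⟨e', ?_⟩
      rw [← Matrix.mulVec_mulVec, ← Matrix.mulVec_mulVec, ← S.act_def, he', hgg]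
    choose lam hlam using h1
    refine ⟨lam v₀, ?_⟩
    apply mat_eq_of_mulVec
    intro w
    by_cases hw : w = 0
    · rw [hw, Matrix.mulVec_zero, Matrix.mulVec_zero]
    · rw [hlam w, sk_const S _ lam hlam hw hv₀, S.act_def]
  choose φ hφ using key
  have hφadd : ∀ a b, φ (a + b) = φ a + φ b := by
    intro a b
    apply hρinj
    rw [← hφ, map_add, map_add, ← hφ, ← hφ, Matrix.mul_add, Matrix.add_mul]
  have hφsmul : ∀ (c : F) a, φ (c • a) = c • φ a := by
    intro c a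
    apply hρinj
    rw [← hφ, map_smul, map_smul, ← hφ, Matrix.mul_smul, Matrix.smul_mul]
  let Φ : E →ₗ[F] E :=
    { toFun := φ
      map_add' := hφadd
      map_smul' := by
        intro c a
        simp only [RingHom.id_apply]
        exact hφsmul c a }
  have hΦinj : Function.Injective Φ := by
    rw [← LinearMap.ker_eq_bot, LinearMap.ker_eq_bot']
    intro a ha
    have h1 : φ a = 0 := ha
    have h2 := hφ a
    rw [h1, map_zero] at h2
    apply hρinj
    rw [map_zero]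
    have h3 : S.ρ a = ((g⁻¹ : GL (Fin m ⊕ Fin m) F) : 𝕄) *
        ((g : 𝕄) * S.ρ a * ((g⁻¹ : GL (Fin m ⊕ Fin m) F) : 𝕄)) * (g : 𝕄) := by
      rw [Matrix.mul_assoc, Matrix.mul_assoc, Matrix.mul_assoc, ← Units.val_mul, inv_mul_cancel,
        Units.val_one, Matrix.mul_one, ← Matrix.mul_assoc, ← Units.val_mul, inv_mul_cancel,
        Units.val_one, Matrix.one_mul]
    rw [h3, h2, Matrix.mul_zero, Matrix.zero_mul]
  have : FiniteDimensional F E :=
    FiniteDimensional.of_injective S.ρ.toLinearMap hρinj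
  have hΦsurj : Function.Surjective Φ := LinearMap.injective_iff_surjective.mp hΦinj
  intro k
  constructor
  · rintro ⟨e, rfl⟩
    exact ⟨φ e, (hφ e).symm⟩
  · rintro ⟨l, hl⟩
    obtain ⟨a, ha⟩ := hΦsurj l
    refine ⟨a, ?_⟩
    have h1 : (g : 𝕄) * S.ρ a * ((g⁻¹ : GL (Fin m ⊕ Fin m) F) : 𝕄) =
        (g : 𝕄) * k * ((g⁻¹ : GL (Fin m ⊕ Fin m) F) : 𝕄) := by
      have hl' : S.ρ l = (g : 𝕄) * k * ((g⁻¹ : GL (Fin m ⊕ Fin m) F) : 𝕄) := hl
      have ha' : φ a = l := ha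
      rw [hφ a, ha', hl']
    have h2 : ∀ X : 𝕄, X = ((g⁻¹ : GL (Fin m ⊕ Fin m) F) : 𝕄) *
        ((g : 𝕄) * X * ((g⁻¹ : GL (Fin m ⊕ Fin m) F) : 𝕄)) * (g : 𝕄) := by
      intro X
      rw [Matrix.mul_assoc, Matrix.mul_assoc, Matrix.mul_assoc, ← Units.val_mul, inv_mul_cancel,
        Units.val_one, Matrix.mul_one, ← Matrix.mul_assoc, ← Units.val_mul, inv_mul_cancel,
        Units.val_one, Matrix.one_mul]
    change S.ρ a = k
    rw [h2 (S.ρ a), h1, ← h2 k]

end Cfsg.Agent.Lib.Helper1.C3sLeaf
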