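import Mathlib

/-!
helper1 for helper26's S5075 market, leaf GSp: the isometry group of a nondegenerate alternating
bilinear form on a finite-dimensional vector space is generated by the symplectic transvections
`x ↦ x + c * B x v • v`.  Coordinate-free, any field.
-/

set_option autoImplicit false
set_option linter.unusedSectionVars false
set_option linter.unusedVariables false

namespace Cfsg.Agent.Lib.Helper1.McLLeaf
open Module

universe u v
variable {F : Type v} [Field F]

section basics
variable {V : Type u} [AddCommGroup V] [Module F V] (B : LinearMap.BilinForm F V)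

/-- the set of symplectic transvections of `B` -/
def sympTv : Set (V ≃ₗ[F] V) := {t | ∃ (c : F) (v : V), ∀ x, t x = x + (c * B x v) • v}

/-- the symplectic transvection `x ↦ x + c * B x v • v` -/
def stvFun (v : V) (c : F) : V →ₗ[F] F where
  toFun x := c * B x v
  map_add' x y := by rw [map_add, LinearMap.add_apply, mul_add]
  map_smul' a x := by
    rw [map_smul, LinearMap.smul_apply, RingHom.id_apply, smul_eq_mul, smul_eq_mul]; ring

lemma stvFun_apply (v : V) (c : F) (x : V) : stvFun B v c x = c * B x v := rfl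

noncomputable def stv (hB : ∀ x, B x x = 0) (v : V) (c : F) : V ≃ₗ[F] V :=
  LinearEquiv.transvection (f := stvFun B v c) (v := v) (by
    rw [stvFun_apply, hB, mul_zero])

lemma stv_apply (hB : ∀ x, B x x = 0) (v : V) (c : F) (x : V) :
    stv B hB v c x = x + (c * B x v) • v := by
  unfold stv
  rw [LinearEquiv.transvection.apply, stvFun_apply]

lemma stv_mem (hB : ∀ x, B x x = 0) (v : V) (c : F) : stv B hB v c ∈ sympTv B :=
  ⟨c, v, stv_apply B hB v c⟩

lemma skew (hB : ∀ x, B x x = 0) (x y : V) : B x y = - B y x := by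
  have h := hB (x + y)
  rw [map_add, map_add, LinearMap.add_apply, LinearMap.add_apply, hB, hB, zero_add, add_zero] at h
  exact eq_neg_of_add_eq_zero_left ((add_comm _ _).trans h)

lemma isom_of_mem_sympTv (hB : ∀ x, B x x = 0) {t : V ≃ₗ[F] V} (ht : t ∈ sympTv B) (x y : V) :
    B (t x) (t y) = B x y := by
  obtain ⟨c, v, hv⟩ := ht
  rw [hv x, hv y]
  simp only [map_add, LinearMap.add_apply, map_smul, LinearMap.smul_apply, smul_eq_mul, hB,
    mul_zero, add_zero]
  rw [skew B hB v y]
  ring

lemma isom_of_mem_closure (hB : ∀ x, B x x = 0) {t : V ≃ₗ[F] V}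
    (ht : t ∈ Subgroup.closure (sympTv B)) : ∀ x y : V, B (t x) (t y) = B x y := by
  induction ht using Subgroup.closure_induction with
  | mem t ht => exact isom_of_mem_sympTv B hB ht
  | one => intro x y; rfl
  | mul a b _ _ iha ihb =>
    intro x y
    change B (a (b x)) (a (b y)) = _
    rw [iha, ihb]
  | inv a _ iha =>
    intro x y
    have := iha (a⁻¹ x) (a⁻¹ y)
    have h1 : ∀ z, a (a⁻¹ z) = z := fun z => by
      change (a * a⁻¹) z = z
      rw [mul_inv_cancel]; rfl
    rw [h1, h1] at this
    exact this.symm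

/-- one transvection maps `u` to `u'` when `B u u' ≠ 0`; it fixes everything perpendicular to
`u' - u` -/
lemma exists_tv_map (hB : ∀ x, B x x = 0) {u u' : V} (h : B u u' ≠ 0) :
    ∃ t ∈ sympTv B, t u = u' ∧ ∀ z, B z (u' - u) = 0 → t z = z := by
  refine ⟨stv B hB (u' - u) (B u u')⁻¹, stv_mem B hB _ _, ?_, ?_⟩
  · rw [stv_apply, map_sub, hB, sub_zero, inv_mul_cancel₀ h, one_smul]; abel
  · intro z hz
    rw [stv_apply, hz, mul_zero, zero_smul, add_zero]

/-- the transvection group is transitive on nonzero vectors -/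
lemma exists_closure_map (hB : ∀ x, B x x = 0) (hnd : ∀ x, (∀ y, B x y = 0) → x = 0)
    {u u' : V} (hu : u ≠ 0) (hu' : u' ≠ 0) :
    ∃ t ∈ Subgroup.closure (sympTv B), t u = u' := by
  by_cases h : B u u' = 0
  · -- find z with B u z ≠ 0 and B u' z ≠ 0
    obtain ⟨z, hz1, hz2⟩ : ∃ z, B u z ≠ 0 ∧ B u' z ≠ 0 := by
      obtain ⟨z₁, hz₁⟩ : ∃ z₁, B u z₁ ≠ 0 := by
        by_contra hcon
        push Not at hcon
        exact hu (hnd u hcon)
      obtain ⟨z₂, hz₂⟩ : ∃ z₂, B u' z₂ ≠ 0 := by
        by_contra hcon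
        push Not at hcon
        exact hu' (hnd u' hcon)
      by_cases h1 : B u' z₁ = 0
      · by_cases h2 : B u z₂ = 0
        · refine ⟨z₁ + z₂, ?_, ?_⟩
          · rw [map_add, h2, add_zero]; exact hz₁
          · rw [map_add, h1, zero_add]; exact hz₂
        · exact ⟨z₂, h2, hz₂⟩
      · exact ⟨z₁, hz₁, h1⟩
    obtain ⟨t₁, ht₁, ht₁u, -⟩ := exists_tv_map B hB hz1
    have hz2' : B z u' ≠ 0 := by
      rw [skew B hB]; exact neg_ne_zero.mpr hz2
    obtain ⟨t₂, ht₂, ht₂u, -⟩ := exists_tv_map B hB hz2'
    refine ⟨t₂ * t₁, Subgroup.mul_mem _ (Subgroup.subset_closure ht₂)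
      (Subgroup.subset_closure ht₁), ?_⟩
    change t₂ (t₁ u) = u'
    rw [ht₁u, ht₂u]
  · obtain ⟨t, ht, htu, -⟩ := exists_tv_map B hB h
    exact ⟨t, Subgroup.subset_closure ht, htu⟩

/-- transitivity on hyperbolic pairs with a fixed first member -/
lemma exists_closure_map_pair (hB : ∀ x, B x x = 0) {v w w' : V} (hw : B v w = 1)
    (hw' : B v w' = 1) : ∃ t ∈ Subgroup.closure (sympTv B), t v = v ∧ t w = w' := by
  have key : ∀ a b : V, B v a = 1 → B v b = 1 → B a b ≠ 0 →
      ∃ t ∈ sympTv B, t v = v ∧ t a = b := by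
    intro a b ha hb hab
    obtain ⟨t, ht, hta, htz⟩ := exists_tv_map B hB hab
    refine ⟨t, ht, htz v ?_, hta⟩
    rw [map_sub, hb, ha, sub_self]
  by_cases h : B w w' = 0
  · have h1 : B v (w + v) = 1 := by rw [map_add, hw, hB, add_zero]
    have h2 : B w (w + v) ≠ 0 := by
      rw [map_add, hB, zero_add, skew B hB, hw]; exact neg_ne_zero.mpr one_ne_zero
    have h3 : B (w + v) w' ≠ 0 := by
      rw [map_add, LinearMap.add_apply, h, zero_add, hw']; exact one_ne_zero
    obtain ⟨t₁, ht₁, ht₁v, ht₁w⟩ := key w (w + v) hw h1 h2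
    obtain ⟨t₂, ht₂, ht₂v, ht₂w⟩ := key (w + v) w' h1 hw' h3
    refine ⟨t₂ * t₁, Subgroup.mul_mem _ (Subgroup.subset_closure ht₂)
      (Subgroup.subset_closure ht₁), ?_, ?_⟩
    · change t₂ (t₁ v) = v
      rw [ht₁v, ht₂v]
    · change t₂ (t₁ w) = w'
      rw [ht₁w, ht₂w]
  · obtain ⟨t, ht, htv, htw⟩ := key w w' hw hw' h
    exact ⟨t, Subgroup.subset_closure ht, htv, htw⟩

end basics

section main

/-- core statement, by strong induction on the dimension -/
theorem gsp_aux (n : ℕ) : ∀ (V : Type u) [AddCommGroup V] [Module F V] [FiniteDimensional F V]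
    (B : LinearMap.BilinForm F V) (hB : ∀ x, B x x = 0) (hnd : ∀ x, (∀ y, B x y = 0) → x = 0),
    finrank F V = n → ∀ f : V ≃ₗ[F] V, (∀ x y, B (f x) (f y) = B x y) →
      f ∈ Subgroup.closure (sympTv B) := by
  induction n using Nat.strong_induction_on with
  | _ n ih =>
  intro V _ _ _ B hB hnd hn f hf
  by_cases htriv : ∀ x : V, x = 0
  · have : f = 1 := by
      ext x
      rw [htriv (f x), htriv ((1 : V ≃ₗ[F] V) x)]
    rw [this]
    exact Subgroup.one_mem _
  · push Not at htriv
    obtain ⟨v, hv⟩ := htriv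
    obtain ⟨w₀, hw₀⟩ : ∃ w₀, B v w₀ ≠ 0 := by
      by_contra hcon
      push Not at hcon
      exact hv (hnd v hcon)
    obtain ⟨w, hvw⟩ : ∃ w, B v w = 1 := by
      refine ⟨(B v w₀)⁻¹ • w₀, ?_⟩
      rw [map_smul, smul_eq_mul, inv_mul_cancel₀ hw₀]
    have hwv : B w v = -1 := by rw [skew B hB, hvw]
    -- reduce to `g` fixing `v` and `w`
    have hfv : f v ≠ 0 := fun h => hv (f.map_eq_zero_iff.mp h)
    obtain ⟨t₁, ht₁, ht₁v⟩ := exists_closure_map B hB hnd hfv hv
    have h1 : B v (t₁ (f w)) = 1 := by
      have := isom_of_mem_closure B hB ht₁ (f v) (f w)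
      rw [ht₁v, hf, hvw] at this
      exact this
    obtain ⟨t₂, ht₂, ht₂v, ht₂w⟩ := exists_closure_map_pair B hB h1 hvw
    have hgv : (t₂ * (t₁ * f)) v = v := by
      change t₂ (t₁ (f v)) = v
      rw [ht₁v, ht₂v]
    have hgw : (t₂ * (t₁ * f)) w = w := by
      change t₂ (t₁ (f w)) = w
      rw [ht₂w]
    have hgi : ∀ x y, B ((t₂ * (t₁ * f)) x) ((t₂ * (t₁ * f)) y) = B x y := by
      intro x y
      change B (t₂ (t₁ (f x))) (t₂ (t₁ (f y))) = _
      rw [isom_of_mem_closure B hB ht₂, isom_of_mem_closure B hB ht₁, hf]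
    suffices hg : t₂ * (t₁ * f) ∈ Subgroup.closure (sympTv B) by
      have h2 : f = t₁⁻¹ * (t₂⁻¹ * (t₂ * (t₁ * f))) := by group
      rw [h2]
      exact Subgroup.mul_mem _ (Subgroup.inv_mem _ ht₁)
        (Subgroup.mul_mem _ (Subgroup.inv_mem _ ht₂) hg)
    generalize t₂ * (t₁ * f) = g at hgv hgw hgi
    -- the complement `W = ⟨v, w⟩^⊥`
    let W : Submodule F V := LinearMap.ker (B v) ⊓ LinearMap.ker (B w)
    have hmemW : ∀ x, x ∈ W ↔ B v x = 0 ∧ B w x = 0 := by
      intro x
      change x ∈ LinearMap.ker (B v) ⊓ LinearMap.ker (B w) ↔ _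
      rw [Submodule.mem_inf, LinearMap.mem_ker, LinearMap.mem_ker]
    have hpW : ∀ x, x - (B x w) • v - (B v x) • w ∈ W := by
      intro x
      rw [hmemW]
      constructor
      · rw [map_sub, map_sub, map_smul, map_smul, hB, hvw, smul_eq_mul, smul_eq_mul]; ring
      · rw [map_sub, map_sub, map_smul, map_smul, hB, hwv, smul_eq_mul, smul_eq_mul,
          skew B hB w x]; ring
    have hgW : ∀ x ∈ W, g x ∈ W := by
      intro x hx
      rw [hmemW] at hx ⊢
      constructor
      · have := hgi v x
        rw [hgv] at this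
        rw [this]; exact hx.1
      · have := hgi w x
        rw [hgw] at this
        rw [this]; exact hx.2
    have hgsW : ∀ x ∈ W, g.symm x ∈ W := by
      intro x hx
      rw [hmemW] at hx ⊢
      constructor
      · have := hgi v (g.symm x)
        rw [hgv, LinearEquiv.apply_symm_apply] at this
        rw [← this]; exact hx.1
      · have := hgi w (g.symm x)
        rw [hgw, LinearEquiv.apply_symm_apply] at this
        rw [← this]; exact hx.2
    let gW : W ≃ₗ[F] W := LinearEquiv.ofLinearMap (g.toLinearMap.restrict hgW)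
      (g.symm.toLinearMap.restrict hgsW)
      (by
        ext x
        simp [LinearMap.restrict_apply])
      (by
        ext x
        simp [LinearMap.restrict_apply])
    have hgWa : ∀ x : W, ((gW x : W) : V) = g (x : V) := fun x => rfl
    let BW : LinearMap.BilinForm F W := B.restrict W
    have hBWa : ∀ x y : W, BW x y = B (x : V) (y : V) := fun x y => rfl
    have hBW : ∀ x : W, BW x x = 0 := fun x => by rw [hBWa, hB]
    have hndW : ∀ x : W, (∀ y : W, BW x y = 0) → x = 0 := by
      intro x hx
      have hxW := (hmemW (x : V)).mp x.2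
      have : (x : V) = 0 := by
        apply hnd
        intro y
        have hy : y = (B y w) • v + (B v y) • w + (y - (B y w) • v - (B v y) • w) := by abel
        rw [hy, map_add, map_add, map_smul, map_smul]
        have e1 : B (x : V) v = 0 := by rw [skew B hB, hxW.1, neg_zero]
        have e2 : B (x : V) w = 0 := by rw [skew B hB, hxW.2, neg_zero]
        have e3 := hx ⟨_, hpW y⟩
        rw [hBWa] at e3
        rw [e1, e2, e3, smul_zero, smul_zero, add_zero, add_zero]
      exact Subtype.ext this
    have hlt : finrank F W < n := by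
      rw [← hn]
      apply Submodule.finrank_lt
      intro htop
      have hvW : v ∈ W := by rw [htop]; exact Submodule.mem_top
      rw [hmemW] at hvW
      rw [hwv] at hvW
      exact absurd hvW.2 (neg_ne_zero.mpr one_ne_zero)
    have hgWi : ∀ x y : W, BW (gW x) (gW y) = BW x y := by
      intro x y
      rw [hBWa, hBWa, hgWa, hgWa, hgi]
    have hIH := ih (finrank F W) hlt W BW hBW hndW rfl gW hgWi
    -- lifting from `W` to `V`
    have lift : ∀ h ∈ Subgroup.closure (sympTv BW), ∃ t ∈ Subgroup.closure (sympTv B),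
        t v = v ∧ t w = w ∧ ∀ x : W, t (x : V) = ((h x : W) : V) := by
      intro h hh
      induction hh using Subgroup.closure_induction with
      | mem h hh =>
        obtain ⟨c, u, hu⟩ := hh
        have huW := (hmemW (u : V)).mp u.2
        refine ⟨stv B hB (u : V) c, Subgroup.subset_closure (stv_mem B hB _ _), ?_, ?_, ?_⟩
        · rw [stv_apply, huW.1, mul_zero, zero_smul, add_zero]
        · rw [stv_apply, huW.2, mul_zero, zero_smul, add_zero]
        · intro x
          rw [stv_apply, hu x]
          rfl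
      | one =>
        exact ⟨1, Subgroup.one_mem _, rfl, rfl, fun x => rfl⟩
      | mul a b _ _ iha ihb =>
        obtain ⟨ta, hta, hta1, hta2, hta3⟩ := iha
        obtain ⟨tb, htb, htb1, htb2, htb3⟩ := ihb
        refine ⟨ta * tb, Subgroup.mul_mem _ hta htb, ?_, ?_, ?_⟩
        · change ta (tb v) = v
          rw [htb1, hta1]
        · change ta (tb w) = w
          rw [htb2, hta2]
        · intro x
          change ta (tb (x : V)) = ((a (b x) : W) : V)
          rw [htb3, hta3]
      | inv a _ iha =>
        obtain ⟨ta, hta, hta1, hta2, hta3⟩ := iha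
        have hinv : ∀ z : V, ta⁻¹ (ta z) = z := fun z => by
          change (ta⁻¹ * ta) z = z
          rw [inv_mul_cancel]; rfl
        refine ⟨ta⁻¹, Subgroup.inv_mem _ hta, ?_, ?_, ?_⟩
        · conv_lhs => rw [← hta1]
          exact hinv v
        · conv_lhs => rw [← hta2]
          exact hinv w
        · intro x
          have h3 := hta3 (a⁻¹ x)
          have h4 : a (a⁻¹ x) = x := by
            change (a * a⁻¹) x = x
            rw [mul_inv_cancel]; rfl
          rw [h4] at h3
          rw [← h3]
          exact hinv _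
    obtain ⟨t, ht, htv, htw, htW⟩ := lift gW hIH
    have : g = t := by
      ext x
      have hx : x = (B x w) • v + (B v x) • w + (x - (B x w) • v - (B v x) • w) := by abel
      rw [hx, map_add, map_add, map_smul, map_smul, map_add, map_add, map_smul, map_smul,
        hgv, hgw, htv, htw]
      congr 1
      have := htW ⟨_, hpW x⟩
      rw [hgWa] at this
      exact this.symm
    rw [this]
    exact ht

/-- GSp: the isometry group of a nondegenerate alternating form is generated by the symplectic
transvections (elementary hypotheses) -/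
theorem mem_closure_sympTv {V : Type u} [AddCommGroup V] [Module F V] [FiniteDimensional F V]
    (B : LinearMap.BilinForm F V) (hB : ∀ x, B x x = 0) (hnd : ∀ x, (∀ y, B x y = 0) → x = 0)
    (f : V ≃ₗ[F] V) (hf : ∀ x y, B (f x) (f y) = B x y) :
    f ∈ Subgroup.closure (sympTv B) :=
  gsp_aux (finrank F V) V B hB hnd rfl f hf

/-- GSp, Mathlib-predicate form (`B.IsAlt`, `B.Nondegenerate`, explicit generating set) -/
theorem mem_closure_sympTransvections {V : Type u} [AddCommGroup V] [Module F V]
    [FiniteDimensional F V] (B : LinearMap.BilinForm F V) (hB : B.IsAlt) (hnd : B.Nondegenerate)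
    (f : V ≃ₗ[F] V) (hf : ∀ x y, B (f x) (f y) = B x y) :
    f ∈ Subgroup.closure {t : V ≃ₗ[F] V | ∃ (c : F) (v : V), ∀ x, t x = x + (c * B x v) • v} :=
  mem_closure_sympTv B hB (fun x hx => hnd.1 x hx) f hf

/-- GSp, only left-separating needed -/
theorem mem_closure_sympTransvections' {V : Type u} [AddCommGroup V] [Module F V]
    [FiniteDimensional F V] (B : LinearMap.BilinForm F V) (hB : B.IsAlt)
    (hnd : ∀ x, (∀ y, B x y = 0) → x = 0)
    (f : V ≃ₗ[F] V) (hf : ∀ x y, B (f x) (f y) = B x y) :
    f ∈ Subgroup.closure {t : V ≃ₗ[F] V | ∃ (c : F) (v : V), ∀ x, t x = x + (c * B x v) • v} :=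
  mem_closure_sympTv B hB hnd f hf

/-- the generators are Mathlib transvections `LinearEquiv.transvection` -/
theorem sympTv_subset_transvections {V : Type u} [AddCommGroup V] [Module F V]
    (B : LinearMap.BilinForm F V) (hB : ∀ x, B x x = 0) :
    sympTv B ⊆ LinearEquiv.transvections F V := by
  rintro t ⟨c, v, hv⟩
  have : t = stv B hB v c := by
    ext x
    rw [hv, stv_apply]
  rw [this]
  exact LinearEquiv.transvection_mem_transvections

end main

end Cfsg.Agent.Lib.Helper1.McLLeaf

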