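import Mathlib
import Cfsg.Prelude.Def_ClassicalGeometry
import Cfsg.Prelude.Def_GeometricClasses
import Cfsg.Agent.Lib.Helper18.T23.H2.SOTDefs
import Cfsg.Agent.Lib.Helper18.T23.H2.SOTGDefs
import Cfsg.Agent.Lib.Helper18.T23.H27.SOTLADefs
import Cfsg.Agent.Lib.Helper18.T23.H27.SOTLAMaincore
import Cfsg.Agent.Lib.Helper18.T23.H27.SOTLAFCcore
import Cfsg.Agent.Lib.Helper18.T23.H22.SOTLAFCA
import Cfsg.Agent.Lib.Helper18.T23.H1.SOTLAR1
import Cfsg.Agent.Lib.Helper18.T23.H1.SOTTools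
import Cfsg.Agent.Lib.Helper18.T23.H1.SOTA2
import Cfsg.Agent.Lib.Helper18.T23.H9.SOTA1
import Cfsg.Agent.Lib.Helper18.T23.H9.SOTX1
import Cfsg.Agent.Lib.Helper18.T23.H4.SOTS
import Cfsg.Agent.Lib.Helper18.T23.H13.SOTGMain
import Cfsg.Agent.Lib.Helper18.T23.H7.SOTT
import Cfsg.Agent.Lib.Helper7.SpTN


/-!
helper1: S5804 conjunct (7) (helper18's C4 market), leaf **N6** `opp_fibre`: the OPPOSITE case, `R''` is a fibre `x₂ ⊗ B`.
-/

set_option autoImplicit false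
set_option linter.unusedSectionVars false
set_option linter.unusedVariables false

namespace Cfsg.Agent.Lib.Helper1.C4Leaf
open Matrix Module
open Cfsg.Agent.Lib.Helper25.Tens Cfsg.Agent.Lib.Helper25.SpT Cfsg.Agent.Lib.Helper19.OSub
open Cfsg.Agent.Lib.Helper18.T23.H2.SOT Cfsg.Agent.Lib.Helper18.T23.H27.SOTLA
open scoped Kronecker

variable {F : Type*} [Field F] [Fintype F] {a b : ℕ} {G : Matrix (Fin b) (Fin b) F}
  {M : Subgroup (GL (Idx a b) F)}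

/-- an element of the Kronecker group acting as the scalar `ν ≠ 0` on the fibre `x ⊗ B` (`x ≠ 0`) is `α' ⊗ 1` -/
lemma kg_shape (hb0 : 0 < b) {T : GL (Idx a b) F} (hTK : T ∈ KG a b F) {x₁ : Fin a → F} (hx₁ : x₁ ≠ 0)
    {ν : F} (hν : ν ≠ 0) (hb : ∀ y : Fin b → F, mv T (pt x₁ y) = ν • pt x₁ y) :
    ∃ α' : Matrix (Fin a) (Fin a) F, ∀ (x : Fin a → F) (y : Fin b → F),
      mv T (pt x y) = pt (α' *ᵥ x) y := by
  obtain ⟨α, β, hT⟩ := (mem_KG_iff T).mp hTK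
  have hact : ∀ (x : Fin a → F) (y : Fin b → F), mv T (pt x y)
      = pt ((α : Matrix (Fin a) (Fin a) F) *ᵥ x) ((β : Matrix (Fin b) (Fin b) F) *ᵥ y) := by
    intro x y
    unfold mv
    rw [hT, kron_mulVec_pt]
  obtain ⟨i, hi⟩ : ∃ i, x₁ i ≠ 0 := by
    by_contra hh
    push Not at hh
    exact hx₁ (funext hh)
  set c : F := ((α : Matrix (Fin a) (Fin a) F) *ᵥ x₁) i with hc
  have hkey : ∀ (y : Fin b → F) (k : Fin b),
      c * ((β : Matrix (Fin b) (Fin b) F) *ᵥ y) k = ν * (x₁ i * y k) := by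
    intro y k
    have := congrFun ((hact x₁ y).symm.trans (hb y)) (i, k)
    simpa [pt] using this
  have hc0 : c ≠ 0 := by
    intro h0
    have := hkey (Pi.single ⟨0, hb0⟩ 1) ⟨0, hb0⟩
    rw [h0, zero_mul, Pi.single_eq_same, mul_one] at this
    exact mul_ne_zero hν hi this.symm
  have hβ : ∀ y : Fin b → F, (β : Matrix (Fin b) (Fin b) F) *ᵥ y = (ν * x₁ i / c) • y := by
    intro y
    ext k
    rw [Pi.smul_apply, smul_eq_mul]
    have := hkey y k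
    field_simp
    linear_combination this
  refine ⟨(ν * x₁ i / c) • (α : Matrix (Fin a) (Fin a) F), fun x y => ?_⟩
  rw [hact, hβ, pt_smul_right, Matrix.smul_mulVec, pt_smul_left]

theorem opp_fibre (h : Ctx 2 b G) {o o' : Fin 2} (ho : o.val = 0) (ho' : o'.val = 1)
    (R'' : Submodule F (Idx 2 b → F))
    (hdec : ∀ v : Idx 2 b → F, ∃ p ∈ Rs (Pi.single o 1), ∃ p'' ∈ R'', v = p + p'')
    (x₀ : GL (Idx 2 b) F) (μ₀ : F) (hμ0 : μ₀ ≠ 0) (hμ : μ₀ ^ 2 ≠ 1)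
    (T₁ T₂ : GL (Idx 2 b) F) (hT₁K : T₁ ∈ KG 2 b F) (hT₁S : T₁ ∈ SpV G)
    (hT₂K : T₂ ∈ KG 2 b F) (hT₂S : T₂ ∈ SpV G)
    (hb₁ : ∀ y : Fin b → F, mv T₁ (pt (Pi.single o 1) y) = - pt (Pi.single o 1) y)
    (hb₂ : ∀ y : Fin b → F, mv T₂ (pt (Pi.single o 1) y) = μ₀⁻¹ • pt (Pi.single o 1) y)
    (hc₁ : ∀ v ∈ R'', ∀ p ∈ Rs (Pi.single o (1 : F)), ∀ p'' ∈ R'', mv x₀ v = p + p'' →
      mv x₀ (mv T₁ v) = -p + p'')
    (hc₂ : ∀ v ∈ R'', ∀ p ∈ Rs (Pi.single o (1 : F)), ∀ p'' ∈ R'', mv x₀ v = p + p'' →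
      mv x₀ (mv T₂ v) = μ₀ • p + p'') :
    ∃ x₂ : Fin 2 → F, x₂ ≠ 0 ∧ ∀ v ∈ R'', ∃ y : Fin b → F, v = pt x₂ y := by
  have hb0 : 0 < b := by have := h.hb; omega
  have h2 : (2 : F) ≠ 0 := h.two
  have hoo : o ≠ o' := by
    intro hh
    rw [hh] at ho
    omega
  have hcases : ∀ i : Fin 2, i = o ∨ i = o' := by
    intro i
    have := i.2
    by_cases hi : i.val = 0
    · left; exact Fin.ext (hi.trans ho.symm)
    · right; exact Fin.ext (by omega)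
  have he0 : (Pi.single o (1 : F) : Fin 2 → F) ≠ 0 := by
    intro h0
    have := congrFun h0 o
    simp at this
  have hb₁' : ∀ y : Fin b → F, mv T₁ (pt (Pi.single o 1) y) = (-1 : F) • pt (Pi.single o 1) y := by
    intro y
    rw [hb₁, neg_one_smul]
  obtain ⟨α₁, hα₁⟩ := kg_shape hb0 hT₁K he0 (neg_ne_zero.mpr one_ne_zero) hb₁'
  obtain ⟨α₂, hα₂⟩ := kg_shape hb0 hT₂K he0 (inv_ne_zero hμ0) hb₂
  set x₁' : Fin 2 → F := α₁ *ᵥ Pi.single o' 1 with hx₁'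
  set x₂' : Fin 2 → F := α₂ *ᵥ Pi.single o' 1 with hx₂'
  have hd : μ₀⁻¹ - μ₀ ≠ 0 := by
    intro h0
    apply hμ
    have : μ₀⁻¹ = μ₀ := sub_eq_zero.mp h0
    calc μ₀ ^ 2 = μ₀ * μ₀ := pow_two _
      _ = μ₀ * μ₀⁻¹ := by rw [this]
      _ = 1 := mul_inv_cancel₀ hμ0
  set κ : F := ((1 - μ₀) * x₁' o - 2 * x₂' o) / (2 * (μ₀⁻¹ - μ₀)) with hκ
  refine ⟨κ • Pi.single o 1 + Pi.single o' 1, ?_, ?_⟩
  · intro h0
    have := congrFun h0 o'
    simp [hoo.symm] at this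
  intro v hv
  set y₁ : Fin b → F := fun k => v (o, k) with hy₁
  set y₂ : Fin b → F := fun k => v (o', k) with hy₂
  have hvdec : v = pt (Pi.single o 1) y₁ + pt (Pi.single o' 1) y₂ := by
    ext ⟨i, k⟩
    rcases hcases i with rfl | rfl
    · simp [pt, hy₁, hoo]
    · simp [pt, hy₂, hoo.symm]
  have hT₁v : mv T₁ v = - pt (Pi.single o 1) y₁ + pt x₁' y₂ := by
    conv_lhs => rw [hvdec]
    rw [mv_add, hb₁, hα₁]
  have hT₂v : mv T₂ v = μ₀⁻¹ • pt (Pi.single o 1) y₁ + pt x₂' y₂ := by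
    conv_lhs => rw [hvdec]
    rw [mv_add, hb₂, hα₂]
  -- the relation
  have hE : (1 - μ₀) • (mv T₁ v + v) = (2 : F) • (mv T₂ v - μ₀ • v) := by
    obtain ⟨p, hp, p'', hp'', hxv⟩ := hdec (mv x₀ v)
    have h1 := hc₁ v hv p hp p'' hp'' hxv
    have h2' := hc₂ v hv p hp p'' hp'' hxv
    have hinj : mv x₀ ((1 - μ₀) • (mv T₁ v + v)) = mv x₀ ((2 : F) • (mv T₂ v - μ₀ • v)) := by
      rw [mv_smul, mv_add, mv_smul, mv_sub, mv_smul, h1, h2', hxv]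
      module
    have := congrArg (mv x₀⁻¹) hinj
    rwa [mv_inv_mv, mv_inv_mv] at this
  have hrel : ∀ k, y₁ k = κ * y₂ k := by
    intro k
    have := congrFun hE (o, k)
    rw [hT₁v, hT₂v] at this
    simp only [Pi.smul_apply, Pi.add_apply, Pi.sub_apply, Pi.neg_apply, smul_eq_mul, pt,
      Pi.single_eq_same, one_mul] at this
    have hvo : v (o, k) = y₁ k := rfl
    rw [hvo] at this
    rw [hκ, div_mul_eq_mul_div, eq_div_iff (mul_ne_zero h2 hd)]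
    linear_combination (-1 : F) * this
  refine ⟨y₂, ?_⟩
  ext ⟨i, k⟩
  rcases hcases i with rfl | rfl
  · have : v (i, k) = y₁ k := rfl
    rw [this, hrel k]
    simp [pt, hoo]
  · have : v (i, k) = y₂ k := rfl
    rw [this]
    simp [pt, hoo.symm]

end Cfsg.Agent.Lib.Helper1.C4Leaf
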