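import Cfsg.Agent.Lib.Helper11.CTDLB2

/-! # Curtis–Tits for type `D_n` (S3352; helper11's market), leaf B5 `xi_smul_apply` (helper1) -/

set_option autoImplicit false

namespace Cfsg.Agent.Lib.Helper1.CTDB5

open Matrix
open Cfsg.Agent.Lib.Helper8.StSL
open Cfsg.Agent.Lib.Helper11.CTA
open Cfsg.Agent.Lib.Helper11.CTD

section
variable {I : Type*} [Fintype I] [DecidableEq I] {F : Type*} [Field F] {G : Type*} [Group G]
variable (D : DData I F G)

/-- the torus element `h_{po}(t)` fixes the basis vectors other than `e_p`, `e_o` -/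
theorem h_mulVec_single_of_ne {o p q : I} (hop : o ≠ p) (hqo : q ≠ o) (hqp : q ≠ p) (t : F) (ht : t ≠ 0) :
    (((slRel I F).h o p t : Matrix.SpecialLinearGroup I F) : Matrix I I F) *ᵥ Pi.single q 1 = Pi.single q 1 := by
  rw [h_eq_diag2n hop t ht, Matrix.SpecialLinearGroup.diag2n_coe, mulVec_single_one]
  ext i
  by_cases hi : i = q
  · subst hi; simp [hqo, hqp]
  · simp [hi]

theorem u_zero : D.u 0 = 1 := by
  rw [← D.P12, tv_zero, map_one]

theorem xi_of_not {v w : I → F} (h : ¬ ∃ k : SpecialLinearGroup I F,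
    (k : Matrix I I F) *ᵥ ev D.p = v ∧ (k : Matrix I I F) *ᵥ ev D.q = w) : xi D v w = 1 := by
  classical
  unfold xi
  rw [dif_neg h]

theorem xi_zero_left (w : I → F) : xi D 0 w = 1 := by
  apply xi_of_not
  rintro ⟨k, hk, -⟩
  exact sl_mulVec_ne_zero k (single_one_ne_zero D.p) hk

/-- images of the rank one words -/
theorem Φ_w_po (t : F) : D.Φ ((slRel I F).w D.p D.o t) = D.P ((slRel (Fin 3) F).w 1 0 t) := by
  unfold StRel.w
  simp only [map_mul]
  rw [show (slRel I F).x D.p D.o t = tv D.p D.o t from rfl,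
    show (slRel I F).x D.o D.p (-t⁻¹) = tv D.o D.p (-t⁻¹) from rfl,
    show (slRel (Fin 3) F).x 1 0 t = tv 1 0 t from rfl,
    show (slRel (Fin 3) F).x 0 1 (-t⁻¹) = tv 0 1 (-t⁻¹) from rfl, D.P10, D.P01]

theorem Φ_h_po (t : F) : D.Φ ((slRel I F).h D.p D.o t) = D.P ((slRel (Fin 3) F).h 1 0 t) := by
  unfold StRel.h
  rw [map_mul, map_mul, map_inv, map_inv, Φ_w_po, Φ_w_po]

/-- the torus element `Φ(h_{po}(t))` scales `u` -/
theorem h_conj_u (t s : F) (ht : t ≠ 0) :
    D.Φ ((slRel I F).h D.p D.o t) * D.u s * (D.Φ ((slRel I F).h D.p D.o t))⁻¹ = D.u (t * s) := by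
  rw [Φ_h_po, ← D.P12 s, ← D.P12 (t * s), ← map_inv, ← map_mul, ← map_mul]
  have := (slRel (Fin 3) F).h_conj_ik (i := 1) (j := 0) (k := 2) (by decide) (by decide) (by decide) t s ht
  rw [MulAut.conj_apply] at this
  rw [show (tv 1 2 s : Matrix.SpecialLinearGroup (Fin 3) F) = (slRel (Fin 3) F).x 1 2 s from rfl, this]
  rfl

/-- B5: scaling the first vector -/
theorem xi_smul_apply (k : SpecialLinearGroup I F) (t : F) :
    xi D (t • ((k : Matrix I I F) *ᵥ ev D.p)) ((k : Matrix I I F) *ᵥ ev D.q) = D.Φ k * D.u t * (D.Φ k)⁻¹ := by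
  by_cases ht : t = 0
  · subst ht
    rw [zero_smul, xi_zero_left, u_zero, mul_one, mul_inv_cancel]
  · have hpo : D.p ≠ D.o := Ne.symm D.hop
    have hqp : D.q ≠ D.p := Ne.symm D.hpq
    have hqo : D.q ≠ D.o := Ne.symm D.hoq
    have e1 : t • ((k : Matrix I I F) *ᵥ ev D.p) =
        ((k * (slRel I F).h D.p D.o t : SpecialLinearGroup I F) : Matrix I I F) *ᵥ ev D.p := by
      rw [Matrix.SpecialLinearGroup.coe_mul, ← Matrix.mulVec_mulVec]
      show _ = (k : Matrix I I F) *ᵥ ((((slRel I F).h D.p D.o t : SpecialLinearGroup I F) : Matrix I I F) *ᵥ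
        Pi.single D.p 1)
      rw [h_mulVec_single hpo t ht, mulVec_single_smul (k : Matrix I I F) D.p t]
    have e2 : (k : Matrix I I F) *ᵥ ev D.q =
        ((k * (slRel I F).h D.p D.o t : SpecialLinearGroup I F) : Matrix I I F) *ᵥ ev D.q := by
      rw [Matrix.SpecialLinearGroup.coe_mul, ← Matrix.mulVec_mulVec]
      show _ = (k : Matrix I I F) *ᵥ ((((slRel I F).h D.p D.o t : SpecialLinearGroup I F) : Matrix I I F) *ᵥ
        Pi.single D.q 1)
      rw [h_mulVec_single_of_ne hpo hqp hqo t ht]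
    rw [e1, e2, xi_apply, map_mul]
    have e3 := h_conj_u D t 1 ht
    rw [mul_one] at e3
    rw [← e3]
    group

end

end Cfsg.Agent.Lib.Helper1.CTDB5
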