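import Mathlib
import Cfsg.Prelude.Def_BlockRank
import Cfsg.Agent.Lib.Helper27.DODefs
import Cfsg.Agent.Lib.Helper29.DOSECTION

/-!
helper1: S4503 family (Brauer, `p ∥ |G|`), a computation-free lemma for the `Φ`-trick.

`classInner_congr_of_section` : if `Φ` vanishes on the `p`-regular elements and the class functions `F₁`, `F₂`
agree on the section `{x y : 1 ≠ x ∈ P, y ∈ C_G(P) p-regular}`, then `⟨Φ, F₁⟩ = ⟨Φ, F₂⟩`
(`Φ * conj (F₁ - F₂)` vanishes everywhere: SECTION only, no TI / section-sum formula).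

`classInner_eq_mul_of_const_on_section` : the special case `F₂ = c • 1`:
`⟨Φ, F⟩ = conj c * ⟨Φ, 1⟩` when `F = c` on the section.
-/

set_option autoImplicit false

namespace Cfsg.Agent.Lib.Helper1.DOCor

open Cfsg Cfsg.Agent.Lib.Helper8.DOM Cfsg.Agent.Lib.Helper27.DO
open scoped ComplexConjugate

universe u

variable {G : Type u} [Group G] [Fintype G] {p : ℕ} [Fact p.Prime]

/-- two class functions that agree on the section agree on all `p`-singular elements -/
theorem eq_of_agree_on_section (P : Subgroup G) (hP : Nat.card P = p) (hSyl : ¬ p ∣ P.index)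
    (F₁ F₂ : G → ℂ) (h₁ : IsClassFunction G F₁) (h₂ : IsClassFunction G F₂)
    (hagree : ∀ x ∈ P, x ≠ 1 → ∀ y ∈ Cz P, ¬ p ∣ orderOf y → F₁ (x * y) = F₂ (x * y))
    (g : G) (hg : p ∣ orderOf g) : F₁ g = F₂ g := by
  obtain ⟨t, x, y, hx, hx1, hy, hyreg, htg⟩ :=
    Cfsg.Agent.Lib.Helper29.DOSECTION.exists_section P hP hSyl g hg
  rw [← h₁ g t, ← h₂ g t, htg]
  exact hagree x hx hx1 y hy hyreg

/-- COR : `⟨Φ, F₁⟩ = ⟨Φ, F₂⟩` when `Φ` vanishes on `p`-regular elements and `F₁ = F₂` on the section. -/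
theorem classInner_congr_of_section (P : Subgroup G) (hP : Nat.card P = p) (hSyl : ¬ p ∣ P.index)
    (Φ F₁ F₂ : G → ℂ) (hΦ : ∀ g : G, ¬ p ∣ orderOf g → Φ g = 0)
    (h₁ : IsClassFunction G F₁) (h₂ : IsClassFunction G F₂)
    (hagree : ∀ x ∈ P, x ≠ 1 → ∀ y ∈ Cz P, ¬ p ∣ orderOf y → F₁ (x * y) = F₂ (x * y)) :
    classInner Φ F₁ = classInner Φ F₂ := by
  unfold classInner
  congr 1
  apply Finset.sum_congr rfl
  intro g _
  by_cases hg : p ∣ orderOf g
  · rw [eq_of_agree_on_section P hP hSyl F₁ F₂ h₁ h₂ hagree g hg]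
  · rw [hΦ g hg, zero_mul, zero_mul]

/-- COR, constant case : `⟨Φ, F⟩ = conj c * ⟨Φ, 1⟩` when `F = c` on the section. -/
theorem classInner_eq_mul_of_const_on_section (P : Subgroup G) (hP : Nat.card P = p)
    (hSyl : ¬ p ∣ P.index) (Φ F : G → ℂ) (c : ℂ) (hΦ : ∀ g : G, ¬ p ∣ orderOf g → Φ g = 0)
    (hF : IsClassFunction G F)
    (hconst : ∀ x ∈ P, x ≠ 1 → ∀ y ∈ Cz P, ¬ p ∣ orderOf y → F (x * y) = c) :
    classInner Φ F = conj c * classInner Φ (fun _ : G => (1 : ℂ)) := by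
  have h := classInner_congr_of_section P hP hSyl Φ F (fun _ : G => c) hΦ hF (fun _ _ => rfl)
    (fun x hx hx1 y hy hyr => hconst x hx hx1 y hy hyr)
  rw [h]
  unfold classInner
  have hs : ∑ g : G, Φ g * conj ((fun _ : G => c) g) =
      conj c * ∑ g : G, Φ g * conj ((fun _ : G => (1 : ℂ)) g) := by
    rw [Finset.mul_sum]
    apply Finset.sum_congr rfl
    intro g _
    simp only [map_one, mul_one]
    ring
  rw [hs]
  ring

end Cfsg.Agent.Lib.Helper1.DOCor
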