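import Mathlib
import Cfsg.Agent.Lib.Lead.KleinSqrt2
import Cfsg.Agent.Lib.Lead.OddIndexReal
import Cfsg.Agent.Lib.Helper13.AltForm
import Cfsg.Agent.Lib.Helper23.DefectZeroIrr
import Cfsg.Agent.Lib.Helper6.Ramification2
import Cfsg.Agent.Lib.Helper20.DZRealPAR
import Cfsg.Agent.Lib.Helper29.DZRealCNT

/-!
helper1: spine of S4872 (real characters of 2-defect zero under a 2-group quotient).
Leaves: (PAR) helper20 `DZRealPAR`, (CNT) helper29 `DZRealCNT`; (RAM) and the conjugation-pairing
argument are here.  Plan: notes/S4872_plan.md.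
-/

set_option autoImplicit false

namespace Cfsg.Agent.Lib.Helper1.DZReal

open Cfsg Cfsg.Agent.CharLib Cfsg.Agent.Lib.Helper6 Cfsg.Agent.Lib.Helper24
open scoped ComplexConjugate

universe u

variable {G : Type u} [Group G] [Fintype G]

/-- (RAM) the multiplicity of `φ` in `χ_N` divides `|G:N|`. -/
theorem mult_dvd_index (N : Subgroup G) [N.Normal] [Fintype N] (χ : IrrCharacter G)
    (φ : IrrCharacter N) (e : ℕ) (he : classInner (resFun N (χ : G → ℂ)) (φ : N → ℂ) = e)
    (he0 : e ≠ 0) : e ∣ N.index := by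
  classical
  have hcon : classInner (resFun N (χ : G → ℂ)) (φ : N → ℂ) ≠ 0 := by
    rw [he]; exact_mod_cast he0
  have hdeg := clifford_degree N χ.2 φ.2 hcon
  obtain ⟨c, hc⟩ := IsCharacter.apply_one (IsIrrCharacter.isCharacter χ.2)
  obtain ⟨d, hdpos, hd⟩ := IsIrrCharacter.apply_one_pos φ.2
  have h1 := degree_ratio_dvd_index N χ.2 φ.2 hcon hc hd
  rw [he, hc, hd] at hdeg
  have hdeg' : c = e * (conjOrbit N (φ : N → ℂ)).card * d := by exact_mod_cast hdeg
  have h3 : c / d = e * (conjOrbit N (φ : N → ℂ)).card := by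
    rw [hdeg']
    exact Nat.mul_div_cancel _ hdpos
  rw [h3] at h1
  exact (Dvd.intro _ rfl).trans h1.2

theorem classInner_conj_conj {H : Type u} [Group H] [Fintype H] (f g : H → ℂ) :
    classInner (fun x => conj (f x)) (fun x => conj (g x)) = conj (classInner f g) := by
  unfold classInner
  rw [map_mul, map_inv₀, Complex.conj_natCast, map_sum]
  congr 1
  apply Finset.sum_congr rfl
  intro x _
  rw [map_mul]

/-- an odd divisor of a power of two is one -/
theorem eq_one_of_odd_of_dvd_two_pow {e k : ℕ} (ho : Odd e) (hd : e ∣ 2 ^ k) : e = 1 := by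
  obtain ⟨j, _, rfl⟩ := (Nat.dvd_prime_pow Nat.prime_two).mp hd
  rcases Nat.eq_zero_or_pos j with rfl | hj
  · rfl
  · exfalso
    have : Even (2 ^ j) := (Nat.even_pow' hj.ne').mpr even_two
    exact (Nat.not_odd_iff_even.mpr this) ho

/-- spine of S4872 -/
theorem main (N : Subgroup G) [N.Normal] [Fintype N] (h2 : IsPGroup 2 (G ⧸ N)) (φ : IrrCharacter N)
    (hdef : 2 ^ (Nat.card N).factorization 2 ∣ charDegree (φ : N → ℂ))
    (hconj : ∃ g : G, conjFun N g (φ : N → ℂ) = fun n => conj ((φ : N → ℂ) n)) :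
    ∃ χ : IrrCharacter G, fsInd (χ : G → ℂ) = 1 ∧
      classInner (resFun N (χ : G → ℂ)) (φ : N → ℂ) = 1 := by
  classical
  let _ := fintypeIrr G
  obtain ⟨S₀⟩ : Nonempty (Sylow 2 G) := inferInstance
  obtain ⟨S, hS⟩ : ∃ S : Subgroup G, Nat.card S = 2 ^ (Nat.card G).factorization 2 :=
    ⟨S₀, S₀.card_eq_multiplicity⟩
  let _ : Fintype S := Fintype.ofFinite _
  obtain ⟨g, hg⟩ := hconj
  -- multiplicities
  have he : ∀ χ : IrrCharacter G, ∃ e : ℕ,
      classInner (resFun N (χ : G → ℂ)) (φ : N → ℂ) = e := fun χ =>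
    IsCharacter.classInner_nat (isCharacter_resFun N (IsIrrCharacter.isCharacter χ.2))
      (IsIrrCharacter.isCharacter φ.2)
  choose e he using he
  have ha : ∀ χ : IrrCharacter G, ∃ a : ℕ,
      classInner (resFun S (χ : G → ℂ)) (1 : S → ℂ) = a := fun χ =>
    IsCharacter.classInner_nat
      (isCharacter_resFun S (IsIrrCharacter.isCharacter χ.2))
      (IsIrrCharacter.isCharacter (isIrrCharacter_one S))
  choose a ha using ha
  -- the count
  set v := (Nat.card N).factorization 2 with hv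
  set m := charDegree (φ : N → ℂ) / 2 ^ v with hm
  have hsum := Cfsg.Agent.Lib.Helper29.DZReal.sum_mult_mul_fixed N h2 φ hdef S hS
  have hsumN : ∑ χ : IrrCharacter G, e χ * a χ = m := by
    have : ((∑ χ : IrrCharacter G, e χ * a χ : ℕ) : ℂ) = (m : ℂ) := by
      rw [← hsum]
      push_cast
      apply Finset.sum_congr rfl
      intro χ _
      rw [he, ha]
    exact_mod_cast this
  -- m is odd
  have hmodd : Odd m := by
    rw [← Nat.not_even_iff_odd]
    intro hev
    obtain ⟨t, ht⟩ := hev.two_dvd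
    have hdeg : charDegree (φ : N → ℂ) = 2 ^ v * m := (Nat.mul_div_cancel' hdef).symm
    have h1 : 2 ^ (v + 1) ∣ charDegree (φ : N → ℂ) := by
      rw [hdeg, ht, pow_succ]
      exact ⟨t, by ring⟩
    have h3 : 2 ^ (v + 1) ∣ Nat.card N := h1.trans (irr_charDegree_dvd_card φ)
    exact Nat.pow_succ_factorization_not_dvd Nat.card_pos.ne' Nat.prime_two h3
  -- conjugation preserves e and a
  have hecj : ∀ χ : IrrCharacter G, e (cjPerm G χ) = e χ := by
    intro χ
    have h1 : classInner (resFun N ((cjPerm G χ : IrrCharacter G) : G → ℂ)) (φ : N → ℂ) =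
        conj (classInner (resFun N (χ : G → ℂ)) (fun n => conj ((φ : N → ℂ) n))) := by
      rw [← classInner_conj_conj]
      congr 1
      funext n
      simp
    rw [← hg, classInner_resFun_conjFun N
      (IsCharacter.isClassFunction (IsIrrCharacter.isCharacter χ.2)), he, he,
      Complex.conj_natCast] at h1
    exact_mod_cast h1
  have hacj : ∀ χ : IrrCharacter G, a (cjPerm G χ) = a χ := by
    intro χ
    have h1 : classInner (resFun S ((cjPerm G χ : IrrCharacter G) : G → ℂ))
        (1 : S → ℂ) =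
        conj (classInner (resFun S (χ : G → ℂ)) (1 : S → ℂ)) := by
      rw [← classInner_conj_conj]
      congr 1
      funext n
      simp
    rw [ha, ha, Complex.conj_natCast] at h1
    exact_mod_cast h1
  -- parity: only real characters count
  have hpar : ∑ χ ∈ (Finset.univ : Finset (IrrCharacter G)).filter (fun χ => cjPerm G χ = χ),
      ((e χ : ZMod 2) * (a χ : ZMod 2)) = 1 := by
    rw [← sum_zmod_two_eq_sum_fixed (fun χ : IrrCharacter G => ((e χ : ZMod 2) * (a χ : ZMod 2)))
      1 (cjPerm G) Finset.univ (fun _ _ => Finset.mem_univ _)]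
    · have : ((∑ χ : IrrCharacter G, e χ * a χ : ℕ) : ZMod 2) = (m : ZMod 2) := by rw [hsumN]
      push_cast at this
      rw [this]
      exact (ZMod.natCast_eq_one_iff_odd).mpr hmodd
    · apply Equiv.ext
      intro χ
      rw [pow_one, pow_two, Equiv.Perm.coe_mul, Function.comp_apply, Equiv.Perm.coe_one, id_eq]
      exact cjIrr_cjIrr χ
    · intro χ _
      simp only [hecj, hacj]
  obtain ⟨χ, hχmem, hχne⟩ : ∃ χ ∈ (Finset.univ : Finset (IrrCharacter G)).filter
      (fun χ => cjPerm G χ = χ), ((e χ : ZMod 2) * (a χ : ZMod 2)) ≠ 0 := by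
    by_contra hcon
    push Not at hcon
    rw [Finset.sum_eq_zero hcon] at hpar
    exact zero_ne_one hpar
  rw [Finset.mem_filter] at hχmem
  have hreal := hχmem.2
  have heodd : Odd (e χ) := by
    rw [← ZMod.natCast_eq_one_iff_odd]
    rcases (by decide : ∀ x : ZMod 2, x = 0 ∨ x = 1) (e χ : ZMod 2) with h | h
    · rw [h, zero_mul] at hχne; exact absurd rfl hχne
    · exact h
  have haodd : Odd (a χ) := by
    rw [← ZMod.natCast_eq_one_iff_odd]
    rcases (by decide : ∀ x : ZMod 2, x = 0 ∨ x = 1) (a χ : ZMod 2) with h | h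
    · rw [h, mul_zero] at hχne; exact absurd rfl hχne
    · exact h
  -- e = 1
  obtain ⟨k, hk⟩ : ∃ k : ℕ, N.index = 2 ^ k := by
    rw [Subgroup.index_eq_card]
    exact (IsPGroup.iff_card.mp h2)
  have he1 : e χ = 1 := by
    apply eq_one_of_odd_of_dvd_two_pow heodd (k := k)
    rw [← hk]
    exact mult_dvd_index N χ φ (e χ) (he χ) (Nat.ne_of_odd_add (by simpa using heodd))
  refine ⟨χ, ?_, by rw [he, he1, Nat.cast_one]⟩
  rcases fsInd_cases χ with h0 | h1 | hneg
  · exfalso
    obtain ⟨s, hs⟩ := (fsInd_eq_zero_iff χ).mp h0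
    apply hs
    have := conj_eq_of_cjPerm_eq hreal s
    exact Complex.conj_eq_iff_im.mp this
  · exact h1
  · exfalso
    have := Cfsg.Agent.Lib.Helper20.DZReal.even_mult_one_of_fsInd_neg_one χ hneg S (a χ) (ha χ)
    exact (Nat.not_odd_iff_even.mpr this) haodd

end Cfsg.Agent.Lib.Helper1.DZReal
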