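import Mathlib

set_option autoImplicit false

namespace Cfsg.Agent.Lib.Helper1.DefZeroOrd3

universe u

variable {G : Type u} [Group G]

/-- the property of the statement: `g` normalizes no nontrivial `2`-subgroup -/
def NoTwo (g : G) : Prop :=
  ∀ Q : Subgroup G, IsPGroup 2 ↥Q → g ∈ Subgroup.normalizer (Q : Set G) → Q = ⊥

/-- the four-group `{1, a, b, a*b}` of two commuting involutions -/
def fourGroup (a b : G) (ha : a * a = 1) (hb : b * b = 1) (hab : a * b = b * a) : Subgroup G where
  carrier := {x | x = 1 ∨ x = a ∨ x = b ∨ x = a * b}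
  one_mem' := Or.inl rfl
  mul_mem' := by
    have e1 : a * (a * b) = b := by rw [← mul_assoc, ha, one_mul]
    have e2 : b * a = a * b := hab.symm
    have e3 : b * (a * b) = a := by rw [← mul_assoc, e2, mul_assoc, hb, mul_one]
    have e4 : a * b * a = b := by rw [mul_assoc, e2, ← mul_assoc, ha, one_mul]
    have e5 : a * b * b = a := by rw [mul_assoc, hb, mul_one]
    have e6 : a * b * (a * b) = 1 := by rw [← mul_assoc, e4, hb]
    rintro x y (rfl | rfl | rfl | rfl) (rfl | rfl | rfl | rfl)
    · left; rw [mul_one]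
    · right; left; rw [one_mul]
    · right; right; left; rw [one_mul]
    · right; right; right; rw [one_mul]
    · right; left; rw [mul_one]
    · left; exact ha
    · right; right; right; rfl
    · right; right; left; exact e1
    · right; right; left; rw [mul_one]
    · right; right; right; exact e2
    · left; exact hb
    · right; left; exact e3
    · right; right; right; rw [mul_one]
    · right; right; left; exact e4
    · right; left; exact e5
    · left; exact e6
  inv_mem' := by
    have e2 : b * a = a * b := hab.symm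
    have e4 : a * b * a = b := by rw [mul_assoc, e2, ← mul_assoc, ha, one_mul]
    have e6 : a * b * (a * b) = 1 := by rw [← mul_assoc, e4, hb]
    rintro x (rfl | rfl | rfl | rfl)
    · left; exact inv_one
    · right; left; exact inv_eq_of_mul_eq_one_right ha
    · right; right; left; exact inv_eq_of_mul_eq_one_right hb
    · right; right; right; exact inv_eq_of_mul_eq_one_right e6

theorem mem_fourGroup {a b : G} (ha : a * a = 1) (hb : b * b = 1) (hab : a * b = b * a) (x : G) :
    x ∈ fourGroup a b ha hb hab ↔ x = 1 ∨ x = a ∨ x = b ∨ x = a * b := Iff.rfl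

theorem fourGroup_sq {a b : G} (ha : a * a = 1) (hb : b * b = 1) (hab : a * b = b * a) (x : G)
    (hx : x ∈ fourGroup a b ha hb hab) : x * x = 1 := by
  have e2 : b * a = a * b := hab.symm
  have e4 : a * b * a = b := by rw [mul_assoc, e2, ← mul_assoc, ha, one_mul]
  have e6 : a * b * (a * b) = 1 := by rw [← mul_assoc, e4, hb]
  rcases hx with rfl | rfl | rfl | rfl
  · rw [mul_one]
  · exact ha
  · exact hb
  · exact e6

theorem isPGroup_fourGroup {a b : G} (ha : a * a = 1) (hb : b * b = 1) (hab : a * b = b * a) :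
    IsPGroup 2 ↥(fourGroup a b ha hb hab) := by
  intro x
  refine ⟨1, ?_⟩
  apply Subtype.ext
  rw [pow_one, pow_two]
  exact fourGroup_sq ha hb hab x.1 x.2

/-- `(2,3,3)`: if `s^3 = 1`, `t` an involution and `(s t)^3 = 1`, then `s` normalizes a nontrivial
`2`-group. -/
theorem not_noTwo_of_233 {s t : G} (hs : s ^ 3 = 1) (ht : t * t = 1) (ht1 : t ≠ 1)
    (hst : (s * t) ^ 3 = 1) : ¬ NoTwo s := by
  intro hN
  have hs3 : s * s * s = 1 := by rw [← hs, pow_succ, pow_two]
  have hsinv : s⁻¹ = s * s := by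
    rw [inv_eq_iff_mul_eq_one, ← mul_assoc]; exact hs3
  have hsinv2 : s⁻¹ * s⁻¹ = s := by
    rw [hsinv]
    calc s * s * (s * s) = (s * s * s) * s := by group
      _ = s := by rw [hs3, one_mul]
  have h11 : (s * t * s⁻¹) * (s * t * s⁻¹) = 1 := by
    calc s * t * s⁻¹ * (s * t * s⁻¹) = s * (t * t) * s⁻¹ := by group
      _ = 1 := by rw [ht]; group
  have h22 : (s * (s * t * s⁻¹) * s⁻¹) * (s * (s * t * s⁻¹) * s⁻¹) = 1 := by
    calc s * (s * t * s⁻¹) * s⁻¹ * (s * (s * t * s⁻¹) * s⁻¹)
        = s * ((s * t * s⁻¹) * (s * t * s⁻¹)) * s⁻¹ := by group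
      _ = 1 := by rw [h11]; group
  have h3 : s * t * (s * t) * (s * t) = 1 := by rw [← hst, pow_succ, pow_two]
  have hrel : (s * t * s⁻¹) * (s * (s * t * s⁻¹) * s⁻¹) * t = 1 := by
    calc s * t * s⁻¹ * (s * (s * t * s⁻¹) * s⁻¹) * t
        = s * t * (s * t) * (s⁻¹ * s⁻¹) * t := by group
      _ = s * t * (s * t) * (s * t) := by rw [hsinv2]; group
      _ = 1 := h3
  have h12 : (s * t * s⁻¹) * (s * (s * t * s⁻¹) * s⁻¹) = t := by
    have h := eq_inv_of_mul_eq_one_left hrel
    rw [h]; exact inv_eq_of_mul_eq_one_right ht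
  have hcomm : (s * t * s⁻¹) * (s * (s * t * s⁻¹) * s⁻¹) =
      (s * (s * t * s⁻¹) * s⁻¹) * (s * t * s⁻¹) := by
    have h : (s * t * s⁻¹) * (s * (s * t * s⁻¹) * s⁻¹) *
        ((s * t * s⁻¹) * (s * (s * t * s⁻¹) * s⁻¹)) = 1 := by rw [h12]; exact ht
    have h1 := (inv_eq_of_mul_eq_one_right h).symm
    rw [h1, mul_inv_rev, inv_eq_of_mul_eq_one_right h11, inv_eq_of_mul_eq_one_right h22]
  -- conjugation by `s` permutes the three involutions
  have hc2 : s * (s * (s * t * s⁻¹) * s⁻¹) * s⁻¹ = t := by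
    calc s * (s * (s * t * s⁻¹) * s⁻¹) * s⁻¹ = (s * s * s) * t * (s * s * s)⁻¹ := by group
      _ = t := by rw [hs3]; group
  have hfwd : ∀ h, h ∈ fourGroup _ _ h11 h22 hcomm → s * h * s⁻¹ ∈ fourGroup _ _ h11 h22 hcomm := by
    intro h hh
    rcases hh with rfl | rfl | rfl | rfl
    · left; group
    · right; right; left; rfl
    · right; right; right; rw [hc2, h12]
    · right; left; rw [h12]
  have hnorm : s ∈ Subgroup.normalizer ((fourGroup _ _ h11 h22 hcomm : Subgroup G) : Set G) := by
    rw [Subgroup.mem_set_normalizer_iff]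
    intro h
    refine ⟨fun hh => hfwd h hh, fun hh => ?_⟩
    have h2 := hfwd _ (hfwd _ hh)
    have e : s * (s * (s * h * s⁻¹) * s⁻¹) * s⁻¹ = h := by
      calc s * (s * (s * h * s⁻¹) * s⁻¹) * s⁻¹ = (s * s * s) * h * (s * s * s)⁻¹ := by group
        _ = h := by rw [hs3]; group
    rw [e] at h2
    exact h2
  have hbot := hN _ (isPGroup_fourGroup h11 h22 hcomm) hnorm
  have hmem : s * t * s⁻¹ ∈ fourGroup _ _ h11 h22 hcomm := Or.inr (Or.inl rfl)
  rw [hbot, Subgroup.mem_bot] at hmem
  apply ht1
  have : t = s⁻¹ * (s * t * s⁻¹) * s := by group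
  rw [this, hmem]; group

/-- an element normalizing no nontrivial `2`-subgroup has a centralizer of odd order -/
theorem odd_card_centralizer_of_noTwo [Finite G] {g : G} (hg : NoTwo g) :
    Odd (Nat.card (Subgroup.centralizer ({g} : Set G))) := by
  classical
  by_contra hodd
  rw [Nat.not_odd_iff_even] at hodd
  have h2 : 2 ∣ Nat.card (Subgroup.centralizer ({g} : Set G)) := hodd.two_dvd
  have : Fact (Nat.Prime 2) := ⟨Nat.prime_two⟩
  obtain ⟨z, hz⟩ := exists_prime_orderOf_dvd_card' 2 h2
  have hzc : (z : G) ∈ Subgroup.centralizer ({g} : Set G) := z.2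
  rw [Subgroup.mem_centralizer_singleton_iff] at hzc
  have hz2 : orderOf (z : G) = 2 := by rw [Subgroup.orderOf_coe]; exact hz
  have hnorm : g ∈ Subgroup.normalizer ((Subgroup.zpowers (z : G) : Subgroup G) : Set G) := by
    rw [Subgroup.mem_set_normalizer_iff]
    intro h
    have hcomm : ∀ k : ℤ, g * (z : G) ^ k * g⁻¹ = (z : G) ^ k := by
      intro k
      have : Commute g ((z : G) ^ k) := Commute.zpow_right hzc.symm k
      rw [this.eq]; group
    constructor
    · intro hh
      obtain ⟨k, rfl⟩ := Subgroup.mem_zpowers_iff.mp hh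
      rw [SetLike.mem_coe, hcomm k]; exact hh
    · intro hh
      obtain ⟨k, hk⟩ := Subgroup.mem_zpowers_iff.mp hh
      have : h = g⁻¹ * (g * h * g⁻¹) * g := by group
      rw [SetLike.mem_coe, this, ← hk]
      have h5 : g⁻¹ * (z : G) ^ k * g = (z : G) ^ k := by
        have := hcomm k
        calc g⁻¹ * (z : G) ^ k * g = g⁻¹ * (g * (z : G) ^ k * g⁻¹) * g := by rw [this]
          _ = (z : G) ^ k := by group
      rw [h5]
      exact Subgroup.zpow_mem_zpowers _ k
  have hp : IsPGroup 2 ↥(Subgroup.zpowers (z : G)) := by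
    apply IsPGroup.of_card (n := 1)
    rw [Nat.card_zpowers, hz2, pow_one]
  have hbot := hg _ hp hnorm
  have hmem : (z : G) ∈ Subgroup.zpowers (z : G) := Subgroup.mem_zpowers _
  rw [hbot, Subgroup.mem_bot] at hmem
  rw [hmem, orderOf_one] at hz2
  exact absurd hz2 (by norm_num)

end Cfsg.Agent.Lib.Helper1.DefZeroOrd3
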