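import Mathlib
import Cfsg.Agent.Lib.Helper6.Osima2

set_option autoImplicit false

namespace Cfsg.Agent.Lib.Helper1.DefZeroOrd3

open Cfsg Cfsg.Agent.Lib.Helper6

universe u

variable {G : Type u} [Group G]

/-- indicator of `{t | t * t = 1}` -/
noncomputable def gam (t : G) : ℂ := by
  classical exact if t * t = 1 then 1 else 0

theorem gam_of_sq {t : G} (h : t * t = 1) : gam t = 1 := by
  classical
  unfold gam
  rw [if_pos h]

theorem gam_of_not_sq {t : G} (h : t * t ≠ 1) : gam t = 0 := by
  classical
  unfold gam
  rw [if_neg h]

theorem gam_isClassFunction : IsClassFunction G (gam (G := G)) := by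
  classical
  intro g h
  have e : h * g * h⁻¹ * (h * g * h⁻¹) = 1 ↔ g * g = 1 := by
    have : h * g * h⁻¹ * (h * g * h⁻¹) = h * (g * g) * h⁻¹ := by group
    rw [this]
    constructor
    · intro h1
      have : g * g = h⁻¹ * (h * (g * g) * h⁻¹) * h := by group
      rw [this, h1]; group
    · intro h1
      rw [h1]; group
  unfold gam
  simp only [e]

/-- the set of factorizations `x = t * t'` with `t^2 = t'^2 = 1`, indexed by `t` -/
noncomputable def pairSet [Fintype G] (x : G) : Finset G := by
  classical exact Finset.univ.filter (fun t : G => t * t = 1 ∧ (t⁻¹ * x) * (t⁻¹ * x) = 1)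

theorem conv_gam_gam [Fintype G] (x : G) : conv gam gam x = ((pairSet x).card : ℂ) := by
  classical
  unfold conv pairSet
  rw [Finset.card_filter]
  push_cast
  apply Finset.sum_congr rfl
  intro t _
  by_cases h1 : t * t = 1
  · by_cases h2 : (t⁻¹ * x) * (t⁻¹ * x) = 1
    · rw [gam_of_sq h1, gam_of_sq h2, if_pos ⟨h1, h2⟩, mul_one]
    · rw [gam_of_sq h1, gam_of_not_sq h2, if_neg (fun h => h2 h.2), mul_zero]
  · rw [gam_of_not_sq h1, if_neg (fun h => h1 h.1), zero_mul]

/-- if an involution centralizes `x`, the number of factorizations is even -/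
theorem even_card_pairSet [Fintype G] {x z : G} (hz : z * z = 1) (hz1 : z ≠ 1)
    (hzx : z * x = x * z) : Even (pairSet x).card := by
  classical
  have hzinv : z⁻¹ = z := inv_eq_of_mul_eq_one_right hz
  -- the involution
  let φ : G → G := fun t => if t * z = z * t then t * z else z * t * z
  have hφ_comm : ∀ t, t * z = z * t → φ t = t * z := fun t h => if_pos h
  have hφ_ncomm : ∀ t, t * z ≠ z * t → φ t = z * t * z := fun t h => if_neg h
  have hsum : ∑ t ∈ pairSet x, (1 : ZMod 2) = 0 := by
    apply Finset.sum_involution (fun t _ => φ t)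
    · intro t _
      exact CharTwo.add_self_eq_zero 1
    · intro t _ _
      by_cases hc : t * z = z * t
      · rw [hφ_comm t hc]
        intro h
        apply hz1
        have : t * z = t * 1 := by rw [mul_one]; exact h
        exact mul_left_cancel this
      · rw [hφ_ncomm t hc]
        intro h
        apply hc
        calc t * z = (z * t * z) * z := by rw [h]
          _ = z * t * (z * z) := by group
          _ = z * t := by rw [hz, mul_one]
    · intro t ht
      unfold pairSet at ht ⊢
      rw [Finset.mem_filter] at ht ⊢
      refine ⟨Finset.mem_univ _, ?_⟩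
      obtain ⟨_, ht1, ht2⟩ := ht
      by_cases hc : t * z = z * t
      · rw [hφ_comm t hc]
        constructor
        · calc t * z * (t * z) = t * (z * t) * z := by group
            _ = t * (t * z) * z := by rw [hc]
            _ = (t * t) * (z * z) := by group
            _ = 1 := by rw [ht1, hz, one_mul]
        · have hc' : t⁻¹ * z = z * t⁻¹ := by
            calc t⁻¹ * z = t⁻¹ * (z * t) * t⁻¹ := by group
              _ = t⁻¹ * (t * z) * t⁻¹ := by rw [hc]
              _ = z * t⁻¹ := by group
          calc (t * z)⁻¹ * x * ((t * z)⁻¹ * x)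
              = z⁻¹ * (t⁻¹ * x) * (z⁻¹ * (t⁻¹ * x)) := by group
            _ = z * (t⁻¹ * x) * (z * (t⁻¹ * x)) := by rw [hzinv]
            _ = z * t⁻¹ * (x * z) * (t⁻¹ * x) := by group
            _ = z * t⁻¹ * (z * x) * (t⁻¹ * x) := by rw [hzx]
            _ = (z * t⁻¹) * z * x * (t⁻¹ * x) := by group
            _ = (t⁻¹ * z) * z * x * (t⁻¹ * x) := by rw [hc']
            _ = t⁻¹ * (z * z) * x * (t⁻¹ * x) := by group
            _ = (t⁻¹ * x) * (t⁻¹ * x) := by rw [hz]; group
            _ = 1 := ht2
      · rw [hφ_ncomm t hc]
        constructor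
        · calc z * t * z * (z * t * z) = z * t * (z * z) * t * z := by group
            _ = z * (t * t) * z := by rw [hz]; group
            _ = 1 := by rw [ht1, mul_one, hz]
        · have hxz : x * z = z * x := hzx.symm
          calc (z * t * z)⁻¹ * x * ((z * t * z)⁻¹ * x)
              = z⁻¹ * t⁻¹ * z⁻¹ * x * (z⁻¹ * t⁻¹ * z⁻¹ * x) := by group
            _ = z * t⁻¹ * z * x * (z * t⁻¹ * z * x) := by rw [hzinv]
            _ = z * t⁻¹ * (z * x) * z * t⁻¹ * (z * x) := by group
            _ = z * t⁻¹ * (x * z) * z * t⁻¹ * (x * z) := by rw [hzx]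
            _ = z * t⁻¹ * x * (z * z) * t⁻¹ * x * z := by group
            _ = z * ((t⁻¹ * x) * (t⁻¹ * x)) * z := by rw [hz]; group
            _ = 1 := by rw [ht2, mul_one, hz]
    · intro t _
      by_cases hc : t * z = z * t
      · have hc2 : (t * z) * z = z * (t * z) := by
          calc t * z * z = (z * t) * z := by rw [hc]
            _ = z * (t * z) := by group
        show φ (φ t) = t
        rw [hφ_comm t hc, hφ_comm _ hc2]
        calc t * z * z = t * (z * z) := by group
          _ = t := by rw [hz, mul_one]
      · have hc2 : (z * t * z) * z ≠ z * (z * t * z) := by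
          intro h
          apply hc
          have h1 : (z * t * z) * z = z * t := by
            calc z * t * z * z = z * t * (z * z) := by group
              _ = z * t := by rw [hz, mul_one]
          have h2 : z * (z * t * z) = t * z := by
            calc z * (z * t * z) = (z * z) * t * z := by group
              _ = t * z := by rw [hz, one_mul]
          rw [h1, h2] at h
          exact h.symm
        show φ (φ t) = t
        rw [hφ_ncomm t hc, hφ_ncomm _ hc2]
        calc z * (z * t * z) * z = (z * z) * t * (z * z) := by group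
          _ = t := by rw [hz, one_mul, mul_one]
  rw [Finset.sum_const, nsmul_eq_mul, mul_one] at hsum
  exact (ZMod.natCast_eq_zero_iff_even).mp hsum

end Cfsg.Agent.Lib.Helper1.DefZeroOrd3
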