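import Mathlib
import Cfsg.Agent.Lib.Helper6.Osima2
import Cfsg.Agent.Lib.Helper6.DefectOrder
import Cfsg.Agent.Lib.Helper24.IrrFacts
import Cfsg.Agent.Lib.Helper24.IntLemmas
import Cfsg.Agent.Lib.Lead.BrLeo16
import Cfsg.Agent.Lib.Helper1.DefZeroOrd3B

set_option autoImplicit false

namespace Cfsg.Agent.Lib.Helper1.DefZeroOrd3

open Cfsg Cfsg.Agent.CharLib Cfsg.Agent.Lib.Helper24 Cfsg.Agent.Lib.Helper6
open scoped ComplexConjugate

universe u

variable {G : Type u} [Group G]

/-- a rational algebraic integer `N / d` is an integer -/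
theorem exists_int_of_isIntegral_div {N : ℤ} {d : ℕ} (hd : 0 < d)
    (h : IsIntegral ℤ ((N : ℂ) / (d : ℂ))) : ∃ n : ℤ, (N : ℂ) / (d : ℂ) = (n : ℂ) := by
  have hq : ((N : ℂ) / (d : ℂ)) = (((N : ℚ) / (d : ℚ) : ℚ) : ℂ) := by
    push_cast; rfl
  rw [hq] at h
  have h2 : IsIntegral ℤ ((N : ℚ) / (d : ℚ)) :=
    (isIntegral_algebraMap_iff (algebraMap ℚ ℂ).injective (R := ℤ)
      (x := ((N : ℚ) / (d : ℚ)))).mp h
  obtain ⟨k, hk⟩ := IsIntegrallyClosed.isIntegral_iff.mp h2
  refine ⟨k, ?_⟩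
  rw [hq, ← hk]
  simp

theorem isIntegral_gam (t : G) : IsIntegral ℤ (gam t) := by
  classical
  by_cases h : t * t = 1
  · rw [gam_of_sq h]; exact isIntegral_one
  · rw [gam_of_not_sq h]; exact isIntegral_zero

/-- `ι_χ = ω_χ(∑_{t² = 1} t)` is a rational integer -/
theorem exists_int_iota [Fintype G] (χ : IrrCharacter G) :
    ∃ n : ℤ, omegaFun (χ : G → ℂ) gam = (n : ℂ) := by
  classical
  -- numerator is an integer
  have hterm : ∀ g : G, ∃ k : ℤ, gam g * (χ : G → ℂ) g = (k : ℂ) := by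
    intro g
    by_cases h : g * g = 1
    · rw [gam_of_sq h, one_mul]
      by_cases h1 : g = 1
      · refine ⟨(charDegree (χ : G → ℂ) : ℤ), ?_⟩
        rw [h1, irr_apply_one]; simp
      · have ho : orderOf g = 2 := by
          apply orderOf_eq_prime
          · rw [pow_two]; exact h
          · exact h1
        exact IsCharacter.apply_involution_int (IsIrrCharacter.isCharacter χ.2) g ho
    · exact ⟨0, by rw [gam_of_not_sq h, zero_mul]; simp⟩
  choose k hk using hterm
  have hnum : ∑ g : G, gam g * (χ : G → ℂ) g = ((∑ g : G, k g : ℤ) : ℂ) := by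
    push_cast
    exact Finset.sum_congr rfl (fun g _ => hk g)
  have hint : IsIntegral ℤ (omegaFun (χ : G → ℂ) gam) := by
    let _ : Fintype (ConjClasses G) := Fintype.ofFinite _
    rw [omegaFun_eq_sum_conjClasses χ gam_isClassFunction]
    exact IsIntegral.sum _ (fun C _ => IsIntegral.mul (isIntegral_gam _) (isIntegral_centralChar χ _))
  have hval : omegaFun (χ : G → ℂ) gam = ((∑ g : G, k g : ℤ) : ℂ) / (charDegree (χ : G → ℂ) : ℂ) := by
    unfold omegaFun
    rw [hnum, irr_apply_one]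
  rw [hval] at hint ⊢
  exact exists_int_of_isIntegral_div (irr_charDegree_pos χ) hint

end Cfsg.Agent.Lib.Helper1.DefZeroOrd3
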