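import Mathlib
import Cfsg.Agent.Lib.Helper1.DefZeroOrd3C

set_option autoImplicit false

namespace Cfsg.Agent.Lib.Helper1.DefZeroOrd3

open Cfsg Cfsg.Agent.CharLib Cfsg.Agent.Lib.Helper24 Cfsg.Agent.Lib.Helper6
open scoped ComplexConjugate

universe u

variable {G : Type u} [Group G]

/-- if the centralizer of `g` has even order, the number of factorizations is even -/
theorem even_card_pairSet_of_even [Fintype G] (g : G)
    (h : Even (Nat.card (Subgroup.centralizer ({g} : Set G)))) : Even (pairSet g).card := by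
  classical
  have h2 : 2 ∣ Nat.card (Subgroup.centralizer ({g} : Set G)) := h.two_dvd
  have : Fact (Nat.Prime 2) := ⟨Nat.prime_two⟩
  obtain ⟨z, hz⟩ := exists_prime_orderOf_dvd_card' 2 h2
  have hzc : (z : G) ∈ Subgroup.centralizer ({g} : Set G) := z.2
  rw [Subgroup.mem_centralizer_singleton_iff] at hzc
  have hz2 : orderOf (z : G) = 2 := by rw [Subgroup.orderOf_coe]; exact hz
  have hzz : (z : G) * (z : G) = 1 := by
    rw [← pow_two, ← hz2]; exact pow_orderOf_eq_one _
  have hz1 : (z : G) ≠ 1 := by
    intro h1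
    rw [h1, orderOf_one] at hz2
    exact absurd hz2 (by norm_num)
  exact even_card_pairSet hzz hz1 hzc

/-- if the centralizer of `g` has odd order, the class size carries the full `2`-part of `|G|` -/
theorem pow_dvd_index_of_odd [Finite G] (g : G)
    (h : Odd (Nat.card (Subgroup.centralizer ({g} : Set G)))) :
    2 ^ (Nat.card G).factorization 2 ∣ (Subgroup.centralizer ({g} : Set G)).index := by
  have h1 : (Subgroup.centralizer ({g} : Set G)).index *
      Nat.card (Subgroup.centralizer ({g} : Set G)) = Nat.card G :=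
    Subgroup.index_mul_card _
  have h2 : 2 ^ (Nat.card G).factorization 2 ∣ (Subgroup.centralizer ({g} : Set G)).index *
      Nat.card (Subgroup.centralizer ({g} : Set G)) := by
    rw [h1]; exact Nat.ordProj_dvd _ _
  have hcop : Nat.Coprime (2 ^ (Nat.card G).factorization 2)
      (Nat.card (Subgroup.centralizer ({g} : Set G))) := by
    apply Nat.Coprime.pow_left
    exact (Nat.Prime.coprime_iff_not_dvd Nat.prime_two).mpr
      (fun hd => (Nat.not_even_iff_odd.mpr h) (even_iff_two_dvd.mpr hd))
  exact hcop.dvd_of_dvd_mul_right h2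

/-- **Key lemma.** For an irreducible character of positive `2`-defect, the integer
`ι_χ = ω_χ(∑_{t² = 1} t)` is even. -/
theorem even_iota [Fintype G] (χ : IrrCharacter G)
    (hχ : (charDegree (χ : G → ℂ)).factorization 2 ≠ (Nat.card G).factorization 2) :
    ∃ m : ℤ, omegaFun (χ : G → ℂ) gam = 2 * (m : ℂ) := by
  classical
  let _ : Fintype (ConjClasses G) := Fintype.ofFinite _
  obtain ⟨n, hn⟩ := exists_int_iota χ
  set d := charDegree (χ : G → ℂ) with hd
  have hdpos : 0 < d := irr_charDegree_pos χ
  have hddvd : d ∣ Nat.card G := irr_charDegree_dvd_card χ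
  have hGpos : 0 < Nat.card G := Nat.card_pos
  set a := (Nat.card G).factorization 2 with ha
  set b := d.factorization 2 with hb
  have hba : b ≤ a := (Nat.factorization_le_iff_dvd hdpos.ne' hGpos.ne').mpr hddvd 2
  have hblt : b + 1 ≤ a := by
    have : b ≠ a := hχ
    omega
  -- d = 2^b * c with c odd
  set c := d / 2 ^ b with hc
  have hdc : 2 ^ b * c = d := Nat.ordProj_mul_ordCompl_eq_self d 2
  have hcodd : ¬ 2 ∣ c := Nat.not_dvd_ordCompl Nat.prime_two hdpos.ne'
  -- ι² as a sum over classes
  have hsq : omegaFun (χ : G → ℂ) gam * omegaFun (χ : G → ℂ) gam =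
      ∑ C : ConjClasses G, conv gam gam (Quotient.out C) *
        centralChar (χ : G → ℂ) (Quotient.out C) := by
    rw [← omegaFun_conv χ gam_isClassFunction gam_isClassFunction,
      omegaFun_eq_sum_conjClasses χ (conv_isClassFunction gam_isClassFunction gam_isClassFunction)]
  -- each term times c/2 is integral
  have hterm : ∀ C : ConjClasses G, IsIntegral ℤ ((c : ℂ) * (conv gam gam (Quotient.out C) *
        centralChar (χ : G → ℂ) (Quotient.out C)) / 2) := by
    intro C
    set g := Quotient.out C with hg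
    rw [conv_gam_gam]
    rcases Nat.even_or_odd (Nat.card (Subgroup.centralizer ({g} : Set G))) with hev | hodd
    · obtain ⟨m, hm⟩ := even_card_pairSet_of_even g hev
      have e : (c : ℂ) * (((pairSet g).card : ℂ) * centralChar (χ : G → ℂ) g) / 2 =
          ((c * m : ℕ) : ℂ) * centralChar (χ : G → ℂ) g := by
        rw [hm]; push_cast; ring
      rw [e]
      exact IsIntegral.mul (isIntegral_natCast _) (isIntegral_centralChar χ g)
    · have hdvd : 2 ^ (b + 1) ∣ (Subgroup.centralizer ({g} : Set G)).index :=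
        (pow_dvd_pow 2 hblt).trans (pow_dvd_index_of_odd g hodd)
      obtain ⟨k, hk⟩ := hdvd
      have hd0 : (d : ℂ) ≠ 0 := by exact_mod_cast hdpos.ne'
      have e : (c : ℂ) * (((pairSet g).card : ℂ) * centralChar (χ : G → ℂ) g) / 2 =
          (((pairSet g).card * k : ℕ) : ℂ) * (χ : G → ℂ) g := by
        unfold centralChar
        rw [irr_apply_one, ← hd, hk]
        have hdc' : (d : ℂ) = 2 ^ b * (c : ℂ) := by rw [← hdc]; push_cast; ring
        have hc0 : (c : ℂ) ≠ 0 := by
          intro h0; apply hd0; rw [hdc', h0, mul_zero]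
        rw [hdc']
        push_cast
        field_simp
        ring
      rw [e]
      exact IsIntegral.mul (isIntegral_natCast _) (irr_isIntegral χ g)
  have hint : IsIntegral ℤ ((c : ℂ) * ((n : ℂ) * (n : ℂ)) / 2) := by
    rw [← hn, hsq, Finset.mul_sum, Finset.sum_div]
    exact IsIntegral.sum _ (fun C _ => hterm C)
  have hnat : IsIntegral ℤ (((c * (n.natAbs * n.natAbs) : ℕ) : ℂ) / ((2 : ℕ) : ℂ)) := by
    have e : ((c * (n.natAbs * n.natAbs) : ℕ) : ℂ) = (c : ℂ) * ((n : ℂ) * (n : ℂ)) := by
      have h1 : ((n.natAbs * n.natAbs : ℕ) : ℤ) = n * n := by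
        rw [Nat.cast_mul]
        exact Int.natAbs_mul_self' n
      have h2 : ((n.natAbs * n.natAbs : ℕ) : ℂ) = (n : ℂ) * (n : ℂ) := by
        have h3 : (((n.natAbs * n.natAbs : ℕ) : ℤ) : ℂ) = ((n * n : ℤ) : ℂ) := by rw [h1]
        rw [Int.cast_natCast, Int.cast_mul] at h3
        exact h3
      rw [Nat.cast_mul, h2]
    rw [e]
    simpa using hint
  have hdv : 2 ∣ c * (n.natAbs * n.natAbs) := nat_dvd_of_isIntegral_div (by norm_num) hnat
  have h2n : 2 ∣ n.natAbs := by
    rcases (Nat.Prime.dvd_mul Nat.prime_two).mp hdv with h | h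
    · exact absurd h hcodd
    · rcases (Nat.Prime.dvd_mul Nat.prime_two).mp h with h | h <;> exact h
  have h2n' : (2 : ℤ) ∣ n := by
    have := Int.natCast_dvd_natCast.mpr h2n
    rwa [Int.dvd_natAbs] at this
  obtain ⟨m, hm⟩ := h2n'
  exact ⟨m, by rw [hn, hm]; push_cast; ring⟩

end Cfsg.Agent.Lib.Helper1.DefZeroOrd3
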