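import Mathlib

set_option autoImplicit false

namespace Cfsg.Agent.Lib.Helper1.DefZeroOrd3

universe u v w

/-- Rank argument modulo an ideal: if `A * B` is congruent to a diagonal matrix with
"unit-like" diagonal modulo an ideal `I`, then `A` has at least as many columns as rows. -/
theorem card_le_of_mul_congr_diagonal {R : Type u} [CommRing R] {K : Type v} [Field K]
    (φ : R →+* K) (hφ : Function.Injective φ) (I : Ideal R)
    {T : Type w} {S : Type w} [Fintype T] [DecidableEq T] [Fintype S] [DecidableEq S]
    (A : Matrix T S R) (B : Matrix S T R) (c : T → R)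
    (hcong : ∀ i j, (A * B) i j - (if i = j then c i else 0) ∈ I)
    (hc : ∏ i, c i ∉ I) : Fintype.card T ≤ Fintype.card S := by
  by_contra hlt
  rw [not_le] at hlt
  -- determinant vanishes
  have hdet0 : (A * B).det = 0 := by
    apply hφ
    rw [map_zero, RingHom.map_det]
    by_contra hne
    have hunit : IsUnit ((φ.mapMatrix (A * B))) := by
      rw [Matrix.isUnit_iff_isUnit_det]
      exact isUnit_iff_ne_zero.mpr hne
    have hrank := Matrix.rank_of_isUnit _ hunit
    have hmul : φ.mapMatrix (A * B) = A.map φ * B.map φ := by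
      rw [RingHom.mapMatrix_apply, Matrix.map_mul]
    rw [hmul] at hrank
    have h1 := Matrix.rank_mul_le_left (A.map φ) (B.map φ)
    have h2 := Matrix.rank_le_card_width (A.map φ)
    omega
  -- determinant modulo I
  have hmap : (Ideal.Quotient.mk I).mapMatrix (A * B) =
      Matrix.diagonal (fun i => Ideal.Quotient.mk I (c i)) := by
    ext i j
    rw [RingHom.mapMatrix_apply, Matrix.map_apply, Matrix.diagonal_apply]
    have h := hcong i j
    rw [← Ideal.Quotient.eq] at h
    rw [h]
    split_ifs <;> simp
  have h3 : Ideal.Quotient.mk I (A * B).det = ∏ i, Ideal.Quotient.mk I (c i) := by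
    rw [RingHom.map_det, hmap, Matrix.det_diagonal]
  rw [hdet0, map_zero, ← map_prod] at h3
  exact hc (Ideal.Quotient.eq_zero_iff_mem.mp h3.symm)

end Cfsg.Agent.Lib.Helper1.DefZeroOrd3
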