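import Mathlib
import Cfsg.Agent.Lib.Helper1.DefZeroOrd3A
import Cfsg.Agent.Lib.Helper1.DefZeroOrd3D
import Cfsg.Agent.Lib.Helper1.DefZeroOrd3E
import Cfsg.Agent.Lib.Lead.CharMain
import Cfsg.Agent.Lib.Helper6.D8C2

set_option autoImplicit false

namespace Cfsg.Agent.Lib.Helper1.DefZeroOrd3

open Cfsg Cfsg.Agent.CharLib Cfsg.Agent.Lib.Helper24 Cfsg.Agent.Lib.Helper6
open scoped ComplexConjugate

universe u

variable {G : Type u} [Group G]

/-- the weighted column orthogonality: for `s` of order `3` normalizing no nontrivial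
`2`-subgroup and `g` of order `3`,
`∑_χ ι_χ χ(s) conj(χ(g)) = |C(g)|` if `s ~ g` and `0` otherwise. -/
theorem sum_iota_mul [Fintype G] [Fintype (IrrCharacter G)] {s g : G} (hs3 : orderOf s = 3)
    (hs : NoTwo s) (hg3 : orderOf g = 3) :
    ∑ χ : IrrCharacter G, omegaFun (χ : G → ℂ) gam * (χ : G → ℂ) s * conj ((χ : G → ℂ) g) =
      classIndicator g s * (Nat.card (Subgroup.centralizer ({g} : Set G)) : ℂ) := by
  classical
  have h1 : ∀ χ : IrrCharacter G, omegaFun (χ : G → ℂ) gam * (χ : G → ℂ) s * conj ((χ : G → ℂ) g) =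
      ∑ t : G, gam t * ((χ : G → ℂ) (t * s) * conj ((χ : G → ℂ) g)) := by
    intro χ
    rw [← sum_mul_char_mul_right χ gam_isClassFunction s, Finset.sum_mul]
    apply Finset.sum_congr rfl
    intro t _
    ring
  simp only [h1]
  rw [Finset.sum_comm]
  simp only [← Finset.mul_sum, sum_irr_mul_conj]
  -- only `t = 1` contributes
  rw [Finset.sum_eq_single (1 : G)]
  · rw [gam_of_sq (one_mul 1), one_mul, one_mul]
  · intro t _ ht1
    by_cases htt : t * t = 1
    · have hnc : ¬ IsConj (t * s) g := by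
        intro hc
        obtain ⟨c, hc'⟩ := isConj_iff.mp hc
        have hg3' : g ^ 3 = 1 := by rw [← hg3]; exact pow_orderOf_eq_one _
        have h3 : (t * s) ^ 3 = 1 := by
          have h := hg3'
          rw [← hc', conj_pow] at h
          have e : (t * s) ^ 3 = c⁻¹ * (c * (t * s) ^ 3 * c⁻¹) * c := by group
          rw [e, h]; group
        have h3' : (s * t) ^ 3 = 1 := by
          have e : s * t = t⁻¹ * (t * s) * t⁻¹⁻¹ := by group
          rw [e, conj_pow, h3]; group
        have hs3' : s ^ 3 = 1 := by rw [← hs3]; exact pow_orderOf_eq_one _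
        exact not_noTwo_of_233 hs3' htt ht1 h3' hs
      rw [Cfsg.Agent.Lib.Helper6.D8Cent.classIndicator_of_not hnc, zero_mul, mul_zero]
    · rw [gam_of_not_sq htt, zero_mul]
  · intro h
    exact absurd (Finset.mem_univ _) h

end Cfsg.Agent.Lib.Helper1.DefZeroOrd3
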