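import Mathlib
import Cfsg.Agent.Lib.Helper1.DefZeroOrd3F

set_option autoImplicit false

namespace Cfsg.Agent.Lib.Helper1.DefZeroOrd3

open Cfsg Cfsg.Agent.CharLib Cfsg.Agent.Lib.Helper24 Cfsg.Agent.Lib.Helper6
open scoped ComplexConjugate

universe u

variable {G : Type u} [Group G]

/-- **S4737**: the number of irreducible characters of `2`-defect zero is at least the number of
conjugacy classes of elements of order `3` normalizing no nontrivial `2`-subgroup. -/
theorem card_classes_le_card_defectZero [Finite G] :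
    Nat.card {C : ConjClasses G // ∃ g ∈ C.carrier, orderOf g = 3 ∧ NoTwo g} ≤
      Nat.card {χ : IrrCharacter G //
        (charDegree (χ : G → ℂ)).factorization 2 = (Nat.card G).factorization 2} := by
  classical
  let _ : Fintype G := Fintype.ofFinite G
  let _ : Fintype (IrrCharacter G) := Fintype.ofFinite _
  let _ : Fintype {C : ConjClasses G // ∃ g ∈ C.carrier, orderOf g = 3 ∧ NoTwo g} :=
    Fintype.ofFinite _
  rw [Nat.card_eq_fintype_card, Nat.card_eq_fintype_card]
  -- representatives
  choose r hr using fun C : {C : ConjClasses G // ∃ g ∈ C.carrier, orderOf g = 3 ∧ NoTwo g} => C.2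
  have hrmk : ∀ C, ConjClasses.mk (r C) = C.1 := fun C =>
    ConjClasses.mem_carrier_iff_mk_eq.mp (hr C).1
  have hr3 : ∀ C, orderOf (r C) = 3 := fun C => (hr C).2.1
  have hrN : ∀ C, NoTwo (r C) := fun C => (hr C).2.2
  have hrinj : ∀ i j, IsConj (r i) (r j) → i = j := by
    intro i j h
    apply Subtype.ext
    rw [← hrmk i, ← hrmk j]
    exact ConjClasses.mk_eq_mk_iff_isConj.mpr h
  -- the ring of algebraic integers
  let R := integralClosure ℤ ℂ
  let φ : R →+* ℂ := (integralClosure ℤ ℂ).val.toRingHom
  have hφ : Function.Injective φ := Subtype.val_injective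
  have hφval : ∀ z : R, φ z = (z : ℂ) := fun z => rfl
  -- the integers ι
  choose ι hι using fun χ : IrrCharacter G => exists_int_iota χ
  -- entries
  let x : IrrCharacter G → _ → R := fun χ i => ⟨(χ : G → ℂ) (r i), irr_isIntegral χ (r i)⟩
  let y : IrrCharacter G → _ → R := fun χ j => ⟨conj ((χ : G → ℂ) (r j)), by
    rw [← irr_apply_inv]; exact irr_isIntegral χ _⟩
  let term : IrrCharacter G → _ → _ → R := fun χ i j => (ι χ : R) * x χ i * y χ j
  have hterm : ∀ χ i j, φ (term χ i j) =
      omegaFun (χ : G → ℂ) gam * (χ : G → ℂ) (r i) * conj ((χ : G → ℂ) (r j)) := by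
    intro χ i j
    rw [hι χ]
    show φ ((ι χ : R) * x χ i * y χ j) = _
    rw [map_mul, map_mul, map_intCast]
    rfl
  let c : _ → R := fun i => ((Nat.card (Subgroup.centralizer ({r i} : Set G)) : ℕ) : R)
  -- the full identity in R
  have hfull : ∀ i j, ∑ χ : IrrCharacter G, term χ i j = if i = j then c i else 0 := by
    intro i j
    apply hφ
    rw [map_sum]
    simp only [hterm]
    rw [sum_iota_mul (hr3 i) (hrN i) (hr3 j)]
    by_cases hij : i = j
    · subst hij
      rw [if_pos rfl, Cfsg.Agent.Lib.Helper6.D8Cent.classIndicator_self, one_mul]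
      simp only [c, map_natCast]
    · have hnc : ¬ IsConj (r i) (r j) := fun h => hij (hrinj i j h)
      rw [if_neg hij, Cfsg.Agent.Lib.Helper6.D8Cent.classIndicator_of_not hnc, zero_mul, map_zero]
  let A : Matrix {C : ConjClasses G // ∃ g ∈ C.carrier, orderOf g = 3 ∧ NoTwo g}
      {χ : IrrCharacter G //
        (charDegree (χ : G → ℂ)).factorization 2 = (Nat.card G).factorization 2} R :=
    Matrix.of (fun i χ => (ι χ.1 : R) * x χ.1 i)
  let B : Matrix {χ : IrrCharacter G //
        (charDegree (χ : G → ℂ)).factorization 2 = (Nat.card G).factorization 2}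
      {C : ConjClasses G // ∃ g ∈ C.carrier, orderOf g = 3 ∧ NoTwo g} R :=
    Matrix.of (fun χ j => y χ.1 j)
  apply card_le_of_mul_congr_diagonal φ hφ (Ideal.span {(2 : R)}) A B c
  · intro i j
    have hsplit := Fintype.sum_subtype_add_sum_subtype
      (fun χ : IrrCharacter G =>
        (charDegree (χ : G → ℂ)).factorization 2 = (Nat.card G).factorization 2)
      (fun χ => term χ i j)
    rw [hfull i j] at hsplit
    rw [Matrix.mul_apply]
    show (∑ χ : {χ : IrrCharacter G //
        (charDegree (χ : G → ℂ)).factorization 2 = (Nat.card G).factorization 2}, term χ.1 i j) -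
        (if i = j then c i else 0) ∈ Ideal.span {(2 : R)}
    have hrest : ∑ χ : {χ : IrrCharacter G //
        ¬ (charDegree (χ : G → ℂ)).factorization 2 = (Nat.card G).factorization 2}, term χ.1 i j ∈
        Ideal.span {(2 : R)} := by
      apply Ideal.sum_mem
      intro χ _
      obtain ⟨m, hm⟩ := even_iota χ.1 χ.2
      have hιm : ι χ.1 = 2 * m := by
        have h := hι χ.1
        rw [hm] at h
        have h' : ((2 * m : ℤ) : ℂ) = ((ι χ.1 : ℤ) : ℂ) := by rw [← h]; push_cast; ring
        exact (Int.cast_injective h').symm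
      rw [Ideal.mem_span_singleton']
      refine ⟨(m : R) * x χ.1 i * y χ.1 j, ?_⟩
      show (m : R) * x χ.1 i * y χ.1 j * 2 = (ι χ.1 : R) * x χ.1 i * y χ.1 j
      rw [hιm]
      push_cast
      ring
    have e : (∑ χ : {χ : IrrCharacter G //
        (charDegree (χ : G → ℂ)).factorization 2 = (Nat.card G).factorization 2}, term χ.1 i j) -
        (if i = j then c i else 0) = - ∑ χ : {χ : IrrCharacter G //
        ¬ (charDegree (χ : G → ℂ)).factorization 2 = (Nat.card G).factorization 2}, term χ.1 i j := by
      rw [← hsplit]; ring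
    rw [e]
    exact neg_mem hrest
  · intro hmem
    rw [Ideal.mem_span_singleton'] at hmem
    obtain ⟨w, hw⟩ := hmem
    have h1 : φ (∏ i, c i) = φ (w * 2) := by rw [hw]
    rw [map_prod, map_mul, map_ofNat] at h1
    have h2 : ((∏ i, Nat.card (Subgroup.centralizer ({r i} : Set G)) : ℕ) : ℂ) =
        ((2 : ℕ) : ℂ) * (w : ℂ) := by
      rw [Nat.cast_prod]
      have e : ∀ i, φ (c i) = ((Nat.card (Subgroup.centralizer ({r i} : Set G)) : ℕ) : ℂ) := by
        intro i
        show φ ((Nat.card (Subgroup.centralizer ({r i} : Set G)) : ℕ) : R) = _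
        rw [map_natCast]
      simp only [e] at h1
      rw [h1, hφval]
      push_cast
      ring
    have h3 : 2 ∣ ∏ i, Nat.card (Subgroup.centralizer ({r i} : Set G)) :=
      nat_dvd_of_eq_mul_isIntegral (by norm_num) w.2 h2
    obtain ⟨i, _, hi⟩ := (Prime.dvd_finsetProd_iff Nat.prime_two.prime _).mp h3
    have hodd := odd_card_centralizer_of_noTwo (hrN i)
    exact (Nat.not_even_iff_odd.mpr hodd) (even_iff_two_dvd.mpr hi)

end Cfsg.Agent.Lib.Helper1.DefZeroOrd3
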