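/-
helper1: the derived series of a subgroup, as subgroups of the ambient group.
-/
import Mathlib

set_option autoImplicit false

namespace Cfsg.Agent.Lib.Helper1.PLen

universe u v

variable {G : Type u} [Group G]

/-- iterated derived subgroups of a subgroup, in the ambient group. -/
def dser (H : Subgroup G) : ℕ → Subgroup G
  | 0 => H
  | n + 1 => ⁅dser H n, dser H n⁆

@[simp] theorem dser_zero (H : Subgroup G) : dser H 0 = H := rfl

theorem dser_succ (H : Subgroup G) (n : ℕ) : dser H (n + 1) = ⁅dser H n, dser H n⁆ := rfl

theorem dser_top (n : ℕ) : dser (⊤ : Subgroup G) n = derivedSeries G n := by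
  induction n with
  | zero => rfl
  | succ n ih => rw [dser_succ, ih, derivedSeries_succ]

theorem dser_mono {H K : Subgroup G} (h : H ≤ K) (n : ℕ) : dser H n ≤ dser K n := by
  induction n with
  | zero => exact h
  | succ n ih => rw [dser_succ, dser_succ]; exact Subgroup.commutator_mono ih ih

theorem dser_add (H : Subgroup G) (a b : ℕ) : dser (dser H a) b = dser H (a + b) := by
  induction b with
  | zero => rfl
  | succ b ih => rw [dser_succ, ih, ← Nat.add_assoc, dser_succ]

theorem map_dser {G' : Type v} [Group G'] (f : G →* G') (H : Subgroup G) (n : ℕ) :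
    (dser H n).map f = dser (H.map f) n := by
  induction n with
  | zero => rfl
  | succ n ih => rw [dser_succ, dser_succ, Subgroup.map_commutator, ih]

theorem dser_eq_map (H : Subgroup G) (n : ℕ) :
    dser H n = (derivedSeries ↥H n).map H.subtype := by
  induction n with
  | zero =>
    rw [dser_zero, derivedSeries_zero, ← MonoidHom.range_eq_map, Subgroup.range_subtype]
  | succ n ih => rw [dser_succ, derivedSeries_succ, Subgroup.map_commutator, ih]

theorem dser_bot (n : ℕ) : dser (⊥ : Subgroup G) n = ⊥ := by
  induction n with
  | zero => rfl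
  | succ n ih => rw [dser_succ, ih, Subgroup.commutator_bot_left]

theorem derivedSeries_add_le_of_le (B : Subgroup G) {a : ℕ} (h : derivedSeries G a ≤ B) (b : ℕ) :
    derivedSeries G (a + b) ≤ dser B b := by
  rw [← dser_top, ← dser_add, dser_top]
  exact dser_mono h b

end Cfsg.Agent.Lib.Helper1.PLen
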