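import Mathlib

set_option autoImplicit false

namespace Cfsg.Agent.Lib.Helper1.Dickson

theorem modEq_one_iff {q i N : ℕ} (hq : 1 ≤ q) : q ^ i ≡ 1 [MOD N] ↔ N ∣ q ^ i - 1 := by
  have h1 : 1 ≤ q ^ i := Nat.one_le_pow _ _ hq
  rw [Nat.ModEq.comm, Nat.modEq_iff_dvd' h1]

theorem pow_sub_one_dvd {q a b : ℕ} (h : a ∣ b) : q ^ a - 1 ∣ q ^ b - 1 := by
  have := Nat.pow_sub_one_gcd_pow_sub_one q a b
  rw [Nat.gcd_eq_left h] at this
  rw [← this]
  exact Nat.gcd_dvd_right _ _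

/-- The geometric sum `1 + x + ⋯ + x^(r-1)` is divisible by `r` when `x ≡ 1 mod r`. -/
theorem dvd_geom_sum {x r : ℕ} (hx : r ∣ x - 1) (hx1 : 1 ≤ x) :
    r ∣ ∑ i ∈ Finset.range r, x ^ i := by
  have h1 : x ≡ 1 [MOD r] := ((Nat.modEq_iff_dvd' hx1).mpr hx).symm
  have h2 : ∑ i ∈ Finset.range r, x ^ i ≡ ∑ _i ∈ Finset.range r, 1 [MOD r] := by
    apply Nat.ModEq.sum
    intro i _
    simpa using h1.pow i
  rw [Finset.sum_const, Finset.card_range, smul_eq_mul, mul_one] at h2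
  exact (Nat.modEq_zero_iff_dvd.mp (h2.trans (Nat.modEq_zero_iff_dvd.mpr dvd_rfl)))

/-- If every prime factor of `k` divides `q - 1` then `k (q - 1) ∣ q ^ k - 1`. -/
theorem mul_dvd_pow_sub_one {q : ℕ} (hq : 1 ≤ q) :
    ∀ k : ℕ, 0 < k → (∀ r : ℕ, r.Prime → r ∣ k → r ∣ q - 1) → k * (q - 1) ∣ q ^ k - 1 := by
  intro k
  induction k using Nat.strong_induction_on with
  | _ k ih =>
    intro hk hpr
    by_cases hk1 : k = 1
    · subst hk1
      simp
    obtain ⟨r, hr, hrk⟩ := Nat.exists_prime_and_dvd hk1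
    obtain ⟨k', rfl⟩ := hrk
    have hk' : 0 < k' := Nat.pos_of_mul_pos_left hk |> fun _ => by
      rcases Nat.eq_zero_or_pos k' with h | h
      · subst h; simp at hk
      · exact h
    have hlt : k' < r * k' := by
      have := hr.two_le
      nlinarith
    have ih' := ih k' hlt hk' (fun s hs hsk => hpr s hs (Dvd.dvd.mul_left hsk r))
    have hrm : r ∣ q - 1 := hpr r hr (Dvd.intro _ rfl)
    have hx1 : 1 ≤ q ^ k' := Nat.one_le_pow _ _ hq
    have hrx : r ∣ q ^ k' - 1 := by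
      have h1 : q - 1 ∣ q ^ k' - 1 := by
        have := pow_sub_one_dvd (q := q) (one_dvd k')
        simpa using this
      exact hrm.trans h1
    have hS := dvd_geom_sum hrx hx1
    have hgeo := geom_sum_mul_of_one_le hx1 r
    rw [← pow_mul, mul_comm k' r] at hgeo
    rw [← hgeo, mul_assoc]
    exact Nat.mul_dvd_mul hS ih'

theorem geom_sum_modEq_one {x r k : ℕ} (hx : r ∣ x - 1) (hx1 : 1 ≤ x) :
    ∑ i ∈ Finset.range k, x ^ i ≡ k [MOD r] := by
  have h1 : x ≡ 1 [MOD r] := ((Nat.modEq_iff_dvd' hx1).mpr hx).symm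
  have h2 : ∑ i ∈ Finset.range k, x ^ i ≡ ∑ _i ∈ Finset.range k, 1 [MOD r] := by
    apply Nat.ModEq.sum
    intro i _
    simpa using h1.pow i
  rwa [Finset.sum_const, Finset.card_range, smul_eq_mul, mul_one] at h2

theorem padicValNat_le_of_dvd {p a b : ℕ} [Fact p.Prime] (hb : b ≠ 0) (h : a ∣ b) :
    padicValNat p a ≤ padicValNat p b :=
  (padicValNat_dvd_iff_le hb).mp (pow_padicValNat_dvd.trans h)

theorem padicValNat_two_eq_one {a : ℕ} (h2 : 2 ∣ a) (h4 : ¬ 4 ∣ a) : padicValNat 2 a = 1 := by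
  have ha : a ≠ 0 := by rintro rfl; exact h4 (dvd_zero _)
  have h1 : 1 ≤ padicValNat 2 a := (padicValNat_dvd_iff_le ha).mp (by simpa using h2)
  have h3 : ¬ 2 ≤ padicValNat 2 a := by
    intro h
    exact h4 ((padicValNat_dvd_iff_le (p := 2) (n := 2) ha).mpr h)
  omega

theorem minimal_of_cond {q n : ℕ} (hq : 2 ≤ q)
    (h1 : ∀ r : ℕ, r.Prime → r ∣ n → r ∣ q - 1) (h2 : 4 ∣ n → 4 ∣ q - 1) :
    ∀ i, 0 < i → i < n → ¬ n * (q - 1) ∣ q ^ i - 1 := by
  intro i hi hin hdvd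
  have hq1 : 1 ≤ q := by omega
  have hnpos : 0 < n := by omega
  have hN := mul_dvd_pow_sub_one hq1 n hnpos h1
  have hgcd : n * (q - 1) ∣ q ^ Nat.gcd i n - 1 := by
    rw [← Nat.pow_sub_one_gcd_pow_sub_one]
    exact Nat.dvd_gcd hdvd hN
  have hdn : Nat.gcd i n ∣ n := Nat.gcd_dvd_right i n
  have hdlt : Nat.gcd i n < n := lt_of_le_of_lt (Nat.gcd_le_left n hi) hin
  have hdpos : 0 < Nat.gcd i n := Nat.gcd_pos_of_pos_left n hi
  obtain ⟨d, hd⟩ : ∃ d, d = Nat.gcd i n := ⟨_, rfl⟩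
  rw [← hd] at hgcd hdn hdlt hdpos
  clear hd
  obtain ⟨e, he⟩ := hdn
  have he1 : e ≠ 1 := by
    rintro rfl
    rw [mul_one] at he
    omega
  obtain ⟨r, hr, hre⟩ := Nat.exists_prime_and_dvd he1
  obtain ⟨e', rfl⟩ := hre
  -- n = r * n'
  obtain ⟨n', hn'⟩ : ∃ n', n' = d * e' := ⟨_, rfl⟩
  have hnr : n = r * n' := by rw [hn', he]; ring
  have hn'pos : 0 < n' := by
    rcases Nat.eq_zero_or_pos n' with h | h
    · rw [h, mul_zero] at hnr; omega
    · exact h
  have hX : n * (q - 1) ∣ q ^ n' - 1 :=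
    hgcd.trans (pow_sub_one_dvd (Dvd.intro _ hn'.symm))
  have hrn : r ∣ n := Dvd.intro _ hnr.symm
  have hrm : r ∣ q - 1 := h1 r hr hrn
  have hrq : ¬ r ∣ q := by
    intro h
    have : r ∣ q - (q - 1) := Nat.dvd_sub h hrm
    have h3 : q - (q - 1) = 1 := by omega
    rw [h3] at this
    exact hr.one_lt.ne' (Nat.dvd_one.mp this)
  have hXne : q ^ n' - 1 ≠ 0 := by
    have : 2 ^ n' ≤ q ^ n' := Nat.pow_le_pow_left hq n'
    have : 2 ≤ 2 ^ n' := by
      calc 2 = 2 ^ 1 := by norm_num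
        _ ≤ 2 ^ n' := Nat.pow_le_pow_right (by norm_num) hn'pos
    omega
  have hmne : q - 1 ≠ 0 := by omega
  haveI := Fact.mk hr
  have hval : padicValNat r (n * (q - 1)) = 1 + padicValNat r n' + padicValNat r (q - 1) := by
    rw [hnr, padicValNat.mul (Nat.mul_ne_zero hr.ne_zero hn'pos.ne') hmne, padicValNat.mul hr.ne_zero hn'pos.ne',
      padicValNat_self]
  have hle := padicValNat_le_of_dvd (p := r) hXne hX
  rw [hval] at hle
  rcases hr.eq_two_or_odd' with rfl | hodd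
  · -- r = 2
    rcases Nat.even_or_odd n' with hev | hod
    · have h4n : 4 ∣ n := by
        obtain ⟨c, hc⟩ := hev
        exact ⟨c, by rw [hnr, hc]; ring⟩
      have h4m := h2 h4n
      have hLTE := padicValNat.pow_two_sub_one (x := q) (by omega) hrq hn'pos.ne' hev
      have hq1' : padicValNat 2 (q + 1) = 1 := by
        apply padicValNat_two_eq_one
        · omega
        · omega
      omega
    · have hgeo := geom_sum_mul_of_one_le hq1 n'
      have hS := geom_sum_modEq_one (k := n') hrm hq1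
      rw [← hgeo, hnr] at hX
      have h5 : 2 * n' ∣ ∑ i ∈ Finset.range n', q ^ i :=
        Nat.dvd_of_mul_dvd_mul_right (by omega : 0 < q - 1) hX
      have h6 : 2 ∣ ∑ i ∈ Finset.range n', q ^ i := (Dvd.intro _ rfl).trans h5
      have h7 := (Nat.modEq_zero_iff_dvd.mpr h6).symm.trans hS
      have h8 : 2 ∣ n' := Nat.modEq_zero_iff_dvd.mp h7.symm
      exact (Nat.not_even_iff_odd.mpr hod) (even_iff_two_dvd.mpr h8)
  · have hLTE := padicValNat.pow_sub_pow (p := r) hodd (by omega : 1 < q) (by simpa using hrm) hrq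
      hn'pos.ne'
    rw [one_pow] at hLTE
    omega


/-- `n = t ^ v_t(n) * n₁` with `t ∤ n₁`. -/
theorem exists_eq_pow_padicValNat_mul {t n : ℕ} (ht : t.Prime) (hn : 0 < n) :
    ∃ n₁, n = t ^ padicValNat t n * n₁ ∧ ¬ t ∣ n₁ := by
  haveI := Fact.mk ht
  obtain ⟨n₁, hn₁⟩ := pow_padicValNat_dvd (p := t) (n := n)
  refine ⟨n₁, hn₁, ?_⟩
  intro hc
  obtain ⟨c, hc⟩ := hc
  apply pow_succ_padicValNat_not_dvd (p := t) hn.ne'
  exact ⟨c, by rw [pow_succ, mul_assoc, ← hc]; exact hn₁⟩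

/-- Prime powers of primes dividing `q - 1`. -/
theorem good_prime_pow_dvd {q n n' t k : ℕ} (hq : 1 ≤ q) (hn : 0 < n) (ht : t.Prime)
    (htm : t ∣ q - 1) (hk : t ^ k ∣ n * (q - 1)) (hn' : t ^ padicValNat t n ∣ n') :
    t ^ k ∣ q ^ n' - 1 := by
  have h1 : t ^ padicValNat t n * (q - 1) ∣ q ^ (t ^ padicValNat t n) - 1 := by
    apply mul_dvd_pow_sub_one hq _ (pow_pos ht.pos _)
    intro r hr hrt
    have := (Nat.prime_dvd_prime_iff_eq hr ht).mp (hr.dvd_of_dvd_pow hrt)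
    rw [this]
    exact htm
  have h2 := h1.trans (pow_sub_one_dvd (q := q) hn')
  refine Dvd.dvd.trans ?_ h2
  obtain ⟨n₁, hn₁, htn₁⟩ := exists_eq_pow_padicValNat_mul ht hn
  have hcop : Nat.Coprime (t ^ k) n₁ :=
    Nat.Coprime.pow_left k ((Nat.Prime.coprime_iff_not_dvd ht).mpr htn₁)
  rw [hn₁, mul_comm (t ^ padicValNat t n) n₁, mul_assoc] at hk
  exact hcop.dvd_of_dvd_mul_left hk

/-- Euler's theorem combined with the gcd formula. -/
theorem prime_pow_dvd_gcd {q n t b : ℕ} (hq : 1 ≤ q) (ht : t.Prime) (htq : ¬ t ∣ q)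
    (h : t ^ b ∣ q ^ n - 1) : t ^ b ∣ q ^ Nat.gcd n (Nat.totient (t ^ b)) - 1 := by
  have hcop : Nat.Coprime q (t ^ b) :=
    Nat.Coprime.pow_right b ((Nat.Prime.coprime_iff_not_dvd ht).mpr htq).symm
  have he := (modEq_one_iff hq).mp (Nat.ModEq.pow_totient hcop)
  rw [← Nat.pow_sub_one_gcd_pow_sub_one]
  exact Nat.dvd_gcd h he


theorem all_primes_dvd {q n : ℕ} (hq : 2 ≤ q) (hn : 1 < n)
    (hN : n * (q - 1) ∣ q ^ n - 1)
    (hmin : ∀ i, 0 < i → i < n → ¬ n * (q - 1) ∣ q ^ i - 1) :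
    ∀ r : ℕ, r.Prime → r ∣ n → r ∣ q - 1 := by
  classical
  by_contra hbad
  push Not at hbad
  let P : ℕ → Prop := fun r => r.Prime ∧ r ∣ n ∧ ¬ r ∣ q - 1
  obtain ⟨r0, hr0a, hr0b, hr0c⟩ := hbad
  have hr0n : r0 ≤ n := Nat.le_of_dvd (by omega) hr0b
  have hPr : P (Nat.findGreatest P n) := Nat.findGreatest_spec (P := P) hr0n ⟨hr0a, hr0b, hr0c⟩
  have hmax : ∀ t : ℕ, t.Prime → t ∣ n → ¬ t ∣ q - 1 → t ≤ Nat.findGreatest P n := by
    intro t ht htn htq
    exact Nat.le_findGreatest (P := P) (Nat.le_of_dvd (by omega) htn) ⟨ht, htn, htq⟩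
  obtain ⟨r, hr⟩ : ∃ r, r = Nat.findGreatest P n := ⟨_, rfl⟩
  rw [← hr] at hPr hmax
  obtain ⟨hrp, hrn, hrq⟩ := hPr
  obtain ⟨n', hn'⟩ := hrn
  have hn'pos : 0 < n' := by
    rcases Nat.eq_zero_or_pos n' with h | h
    · subst h; omega
    · exact h
  have hr2 := hrp.two_le
  have hn'lt : n' < n := by rw [hn']; nlinarith
  have hq1 : 1 ≤ q := by omega
  have hqn1 : 1 ≤ q ^ n := Nat.one_le_pow _ _ hq1
  apply hmin n' hn'pos hn'lt
  rw [Nat.dvd_iff_prime_pow_dvd_dvd]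
  intro t k ht hk
  by_cases htq1 : t ∣ q - 1
  · apply good_prime_pow_dvd hq1 (by omega) ht htq1 hk
    have htr : t ≠ r := by rintro rfl; exact hrq htq1
    haveI := Fact.mk ht
    have h1 : t ^ padicValNat t n ∣ r * n' := by rw [← hn']; exact pow_padicValNat_dvd
    exact (Nat.Coprime.pow_left _ ((Nat.coprime_primes ht hrp).mpr htr)).dvd_of_dvd_mul_left h1
  · rcases Nat.eq_zero_or_pos k with hk0 | hk0
    · subst hk0; simp
    haveI := Fact.mk ht
    have htcop : Nat.Coprime t (q - 1) := (Nat.Prime.coprime_iff_not_dvd ht).mpr htq1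
    have htkn : t ^ k ∣ n := (Nat.Coprime.pow_left k htcop).dvd_of_dvd_mul_right hk
    have htn : t ∣ n := (dvd_pow_self t hk0.ne').trans htkn
    have htr : t ≤ r := hmax t ht htn htq1
    have htq : ¬ t ∣ q := by
      intro h
      have h2 : t ∣ q ^ n := h.trans (dvd_pow_self q (by omega))
      have h3 : t ∣ q ^ n - 1 := (htn.trans (Dvd.intro _ rfl)).trans hN
      have h4 : t ∣ q ^ n - (q ^ n - 1) := Nat.dvd_sub h2 h3
      have h5 : q ^ n - (q ^ n - 1) = 1 := by omega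
      rw [h5] at h4
      exact ht.one_lt.ne' (Nat.dvd_one.mp h4)
    have hn0 : n ≠ 0 := by omega
    have hkb : k ≤ padicValNat t n := (padicValNat_dvd_iff_le hn0).mp htkn
    obtain ⟨b, hb⟩ : ∃ b, b = padicValNat t n := ⟨_, rfl⟩
    rw [← hb] at hkb
    have hbpos : 0 < b := by omega
    have htbn : t ^ b ∣ n := by rw [hb]; exact pow_padicValNat_dvd
    refine (pow_dvd_pow t hkb).trans ?_
    have h1 : t ^ b ∣ q ^ n - 1 := (htbn.trans (Dvd.intro _ rfl)).trans hN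
    have h2 := prime_pow_dvd_gcd hq1 ht htq h1
    rw [Nat.totient_prime_pow ht hbpos] at h2
    refine h2.trans (pow_sub_one_dvd ?_)
    -- gcd n (t^(b-1) * (t-1)) ∣ n'
    rcases lt_or_eq_of_le htr with hlt | heq
    · have hc1 : Nat.Coprime r t := (Nat.coprime_primes hrp ht).mpr hlt.ne'
      have hc2 : Nat.Coprime r (t - 1) := by
        rw [Nat.Prime.coprime_iff_not_dvd hrp]
        intro h
        have := Nat.le_of_dvd (by have := ht.two_le; omega) h
        omega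
      have hc3 : Nat.Coprime r (t ^ (b - 1) * (t - 1)) :=
        Nat.Coprime.mul_right (Nat.Coprime.pow_right _ hc1) hc2
      have hc4 : Nat.Coprime (Nat.gcd n (t ^ (b - 1) * (t - 1))) r :=
        (Nat.Coprime.coprime_dvd_right (Nat.gcd_dvd_right _ _) hc3).symm
      have h5 : Nat.gcd n (t ^ (b - 1) * (t - 1)) ∣ r * n' := by
        rw [← hn']; exact Nat.gcd_dvd_left _ _
      exact hc4.dvd_of_dvd_mul_left h5
    · subst heq
      obtain ⟨n₁, hn₁, htn₁⟩ := exists_eq_pow_padicValNat_mul ht (n := n) (by omega)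
      rw [← hb] at hn₁
      have hbb : b = (b - 1) + 1 := by omega
      have hn'eq : n' = t ^ (b - 1) * n₁ := by
        have h6 : t * n' = t * (t ^ (b - 1) * n₁) := by
          rw [← hn', hn₁]
          conv_lhs => rw [hbb, pow_succ]
          ring
        exact Nat.eq_of_mul_eq_mul_left ht.pos h6
      have hneq : n = t ^ (b - 1) * (t * n₁) := by
        rw [hn₁]
        conv_lhs => rw [hbb, pow_succ]
        ring
      rw [hneq, Nat.gcd_mul_left, hn'eq]
      apply Nat.mul_dvd_mul_left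
      have hc2 : Nat.Coprime t (t - 1) := by
        rw [Nat.Prime.coprime_iff_not_dvd ht]
        intro h
        have := Nat.le_of_dvd (by have := ht.two_le; omega) h
        omega
      rw [Nat.Coprime.gcd_mul_left_cancel _ hc2]
      exact Nat.gcd_dvd_left _ _

theorem four_dvd {q n : ℕ} (hq : 2 ≤ q) (hn : 1 < n)
    (h1 : ∀ r : ℕ, r.Prime → r ∣ n → r ∣ q - 1)
    (hmin : ∀ i, 0 < i → i < n → ¬ n * (q - 1) ∣ q ^ i - 1) :
    4 ∣ n → 4 ∣ q - 1 := by
  intro h4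
  by_contra h4q
  have h2n : 2 ∣ n := Dvd.dvd.trans (by norm_num) h4
  have h2q : 2 ∣ q - 1 := h1 2 Nat.prime_two h2n
  have hq1 : 1 ≤ q := by omega
  obtain ⟨m, hm⟩ := h4
  have hmpos : 0 < m := by omega
  apply hmin (2 * m) (by omega) (by omega)
  rw [Nat.dvd_iff_prime_pow_dvd_dvd]
  intro t k ht hk
  by_cases ht2 : t = 2
  · subst ht2
    have hn0 : n ≠ 0 := by omega
    have hq0 : q - 1 ≠ 0 := by omega
    have hv1 : padicValNat 2 (q - 1) = 1 := padicValNat_two_eq_one h2q h4q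
    have hv2 : padicValNat 2 (n * (q - 1)) = padicValNat 2 n + 1 := by
      rw [padicValNat.mul hn0 hq0, hv1]
    have hv3 : padicValNat 2 n = 1 + padicValNat 2 (2 * m) := by
      have : n = 2 * (2 * m) := by omega
      rw [this, padicValNat.mul (by norm_num) (by omega)]
      simp
    have hk1 : k ≤ padicValNat 2 (n * (q - 1)) :=
      (padicValNat_dvd_iff_le (Nat.mul_ne_zero hn0 hq0)).mp hk
    have hqodd : ¬ 2 ∣ q := by
      intro h
      omega
    have h5 := padicValNat.pow_two_sub_one_ge (n := 2 * m) (x := q) (by omega) hqodd (by omega)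
      (even_two_mul m)
    have hpos : q ^ (2 * m) - 1 ≠ 0 := by
      have : 2 ^ (2 * m) ≤ q ^ (2 * m) := Nat.pow_le_pow_left hq _
      have h6 : 2 ≤ 2 ^ (2 * m) := by
        calc 2 = 2 ^ 1 := by norm_num
          _ ≤ 2 ^ (2 * m) := Nat.pow_le_pow_right (by norm_num) (by omega)
      omega
    rw [padicValNat_dvd_iff_le hpos]
    omega
  · rcases Nat.eq_zero_or_pos k with hk0 | hk0
    · subst hk0; simp
    have htdvd : t ∣ n * (q - 1) := (dvd_pow_self t hk0.ne').trans hk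
    have htq1 : t ∣ q - 1 := by
      rcases (Nat.Prime.dvd_mul ht).mp htdvd with h | h
      · exact h1 t ht h
      · exact h
    apply good_prime_pow_dvd hq1 (by omega) ht htq1 hk
    haveI := Fact.mk ht
    have h6 : t ^ padicValNat t n ∣ 2 * (2 * m) := by
      have : n = 2 * (2 * m) := by omega
      rw [← this]; exact pow_padicValNat_dvd
    exact (Nat.Coprime.pow_left _ ((Nat.coprime_primes ht Nat.prime_two).mpr ht2)).dvd_of_dvd_mul_left h6

theorem main {q n : ℕ} (hq : 2 ≤ q) (hn : 1 < n) :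
    ((∀ r : ℕ, r.Prime → r ∣ n → r ∣ q - 1) ∧ (4 ∣ n → 4 ∣ q - 1)) ↔
      (q ^ n ≡ 1 [MOD n * (q - 1)] ∧
        ∀ i : ℕ, 0 < i → i < n → ¬ q ^ i ≡ 1 [MOD n * (q - 1)]) := by
  have hq1 : 1 ≤ q := by omega
  constructor
  · rintro ⟨h1, h2⟩
    refine ⟨(modEq_one_iff hq1).mpr (mul_dvd_pow_sub_one hq1 n (by omega) h1), ?_⟩
    intro i hi hin h
    exact minimal_of_cond hq h1 h2 i hi hin ((modEq_one_iff hq1).mp h)
  · rintro ⟨hN, hmin⟩
    have hN' := (modEq_one_iff hq1).mp hN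
    have hmin' : ∀ i, 0 < i → i < n → ¬ n * (q - 1) ∣ q ^ i - 1 := by
      intro i hi hin h
      exact hmin i hi hin ((modEq_one_iff hq1).mpr h)
    have h1 := all_primes_dvd hq hn hN' hmin'
    exact ⟨h1, four_dvd hq hn h1 hmin'⟩

end Cfsg.Agent.Lib.Helper1.Dickson
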