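import Cfsg.Agent.Lib.Helper17.FrobCount2

/-!
# Frobenius action with one-dimensional fixed space of a complement of prime order:
the derived subgroup of the kernel acts trivially (linear version)
-/

set_option autoImplicit false

namespace Cfsg.Agent.Lib.Helper1.FM

open scoped BigOperators commutatorElement
open Module Cfsg.Agent.Lib.Helper17 Cfsg.Agent.Lib.Helper17.FreeMod

section Nil

/-- a homomorphism from a nilpotent group whose "central" elements are all killed is trivial. -/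
theorem trivial_of_central_trivial {G M : Type*} [Group G] [Monoid M] (hG : Group.IsNilpotent G)
    (ψ : G →* M) (h : ∀ z, (∀ g, ψ z * ψ g = ψ g * ψ z) → ψ z = 1) : ∀ g, ψ g = 1 := by
  obtain ⟨n, hn⟩ := Subgroup.nilpotent_iff_lowerCentralSeries.mp hG
  have key : ∀ m, m ≤ n → ∀ x ∈ Subgroup.lowerCentralSeries (⊤ : Subgroup G) (n - m), ψ x = 1 := by
    intro m
    induction m with
    | zero =>
      intro _ x hx
      rw [Nat.sub_zero, hn] at hx
      rw [Subgroup.mem_bot.mp hx, map_one]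
    | succ m ih =>
      intro hm x hx
      apply h
      intro g
      have h1 : ⁅x, g⁆ ∈ Subgroup.lowerCentralSeries (⊤ : Subgroup G) (n - m) := by
        have : n - m = (n - (m + 1)) + 1 := by omega
        rw [this, Subgroup.lowerCentralSeries_succ]
        exact Subgroup.commutator_mem_commutator hx (Subgroup.mem_top g)
      have h2 := ih (by omega) _ h1
      have h3 : x * g = ⁅x, g⁆ * (g * x) := by
        rw [commutatorElement_def]; group
      rw [← map_mul, ← map_mul, h3, map_mul, h2, one_mul]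
  intro g
  have := key n le_rfl g (by rw [Nat.sub_self, Subgroup.lowerCentralSeries_zero]; exact Subgroup.mem_top g)
  exact this

end Nil

section Cyclic

variable {k V : Type*} [Field k] [AddCommGroup V] [Module k V]

/-- operators commuting with a commutative algebra having a cyclic vector commute. -/
theorem commute_of_cyclic (L : Subalgebra k (Module.End k V))
    (hL : ∀ a ∈ L, ∀ b ∈ L, a * b = b * a) (v₀ : V) (hcyc : ∀ v, ∃ r ∈ L, r v₀ = v)
    (T T' : Module.End k V) (hT : ∀ r ∈ L, T * r = r * T) (hT' : ∀ r ∈ L, T' * r = r * T') :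
    T * T' = T' * T := by
  apply LinearMap.ext
  intro w
  obtain ⟨b, hb, rfl⟩ := hcyc w
  obtain ⟨a, ha, hTa⟩ := hcyc (T v₀)
  obtain ⟨a', ha', hTa'⟩ := hcyc (T' v₀)
  have e1 : ∀ r ∈ L, ∀ v, T (r v) = r (T v) := fun r hr v => LinearMap.congr_fun (hT r hr) v
  have e2 : ∀ r ∈ L, ∀ v, T' (r v) = r (T' v) := fun r hr v => LinearMap.congr_fun (hT' r hr) v
  have e3 : a (a' v₀) = a' (a v₀) := LinearMap.congr_fun (hL a ha a' ha') v₀
  show T (T' (b v₀)) = T' (T (b v₀))
  rw [e2 b hb, e1 b hb, e1 b hb, e2 b hb, ← hTa', ← hTa, e1 a' ha', e2 a ha, ← hTa, ← hTa', e3]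

end Cyclic

section DimLemma

universe u

variable {k : Type*} [Field k] {A : Type*} [Group A] [Finite A]
variable {V : Type u} [AddCommGroup V] [Module k V] [FiniteDimensional k V]

theorem dim_lemma_normal (ρ : Representation k A V) (F H : Subgroup A) [F.Normal]
    (hnil : Group.IsNilpotent ↥F) (hchar : (Nat.card ↥F : k) ≠ 0)
    (hfpf : ∀ h ∈ H, h ≠ 1 → ∀ f ∈ F, h * f * h⁻¹ = f → f = 1)
    (W : Submodule k V) (hW : ∀ a, W ≤ W.comap (ρ a))
    (hfix : ∀ w ∈ W, (∀ f ∈ F, ρ f w = w) → w = 0) :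
    finrank k W = Nat.card ↥H * finrank k ↥(W ⊓ fixOn ρ H) := by
  set ρ' : Representation k A ↥W := ρ.subrepresentation W hW with hρ'
  have key := frobenius_dim_formula ρ' F H hnil hchar hfpf
  have h1 : fixOn ρ' F = ⊥ := by
    rw [eq_bot_iff]
    intro w hw
    rw [Submodule.mem_bot]
    apply Subtype.ext
    apply hfix w.1 w.2
    intro f hf
    exact congrArg Subtype.val (mem_fixOn.mp hw f hf)
  have h2 : fixOn ρ' (F ⊔ H) = ⊥ := by
    rw [fixOn_sup, h1, bot_inf_eq]
  have h3 : finrank k ↥(fixOn ρ' H) = finrank k ↥(W ⊓ fixOn ρ H) := by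
    have : W ⊓ fixOn ρ H = (fixOn ρ' H).map W.subtype := by
      ext v
      constructor
      · rintro ⟨h1, h2⟩
        refine ⟨⟨v, h1⟩, ?_, rfl⟩
        apply mem_fixOn.mpr
        intro h hh
        apply Subtype.ext
        exact mem_fixOn.mp h2 h hh
      · rintro ⟨w, hw, rfl⟩
        refine ⟨w.2, ?_⟩
        apply mem_fixOn.mpr
        intro h hh
        exact congrArg Subtype.val (mem_fixOn.mp hw h hh)
    rw [this, Submodule.finrank_map_subtype_eq]
  rw [h1, h2, finrank_bot, h3, mul_zero, zero_add, add_zero] at key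
  exact key

theorem dim_lemma (ρ : Representation k A V) (F H : Subgroup A)
    (hN : ∀ h ∈ H, ∀ f ∈ F, h * f * h⁻¹ ∈ F)
    (hnil : Group.IsNilpotent ↥F) (hchar : (Nat.card ↥F : k) ≠ 0)
    (hfpf : ∀ h ∈ H, h ≠ 1 → ∀ f ∈ F, h * f * h⁻¹ = f → f = 1)
    (W : Submodule k V) (hWF : ∀ f ∈ F, ∀ w ∈ W, ρ f w ∈ W) (hWH : ∀ h ∈ H, ∀ w ∈ W, ρ h w ∈ W)
    (hfix : ∀ w ∈ W, (∀ f ∈ F, ρ f w = w) → w = 0) :
    finrank k W = Nat.card ↥H * finrank k ↥(W ⊓ fixOn ρ H) := by
  classical
  set B : Subgroup A := F ⊔ H with hB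
  set ρB : Representation k ↥B V := ρ.comp B.subtype with hρB
  have hFB : F ≤ B := le_sup_left
  have hHB : H ≤ B := le_sup_right
  have hnormal : (F.subgroupOf B).Normal := by
    apply (Subgroup.normal_subgroupOf_iff_le_normalizer hFB).mpr
    apply sup_le Subgroup.le_normalizer
    intro h hh
    exact Cfsg.Agent.Lib.Helper1.mem_normalizer_of_forall_conj_mem F h (hN h hh)
  have hstab : ∀ (S : Subgroup A), (∀ s ∈ S, ∀ w ∈ W, ρ s w ∈ W) → S ≤ stabC ρ W := by
    intro S hS s hs
    rw [mem_stabC]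
    apply le_antisymm
    · rintro _ ⟨w, hw, rfl⟩
      exact hS s hs w hw
    · intro w hw
      exact ⟨ρ s⁻¹ w, hS s⁻¹ (S.inv_mem hs) w hw, rep_apply_inv ρ s w⟩
  have hBstab : B ≤ stabC ρ W := sup_le (hstab F hWF) (hstab H hWH)
  have hWB : ∀ b : ↥B, W ≤ W.comap (ρB b) := by
    intro b w hw
    have h1 : W.map (ρ b.1) = W := mem_stabC.mp (hBstab b.2)
    show ρ b.1 w ∈ W
    rw [← h1]
    exact ⟨w, hw, rfl⟩
  have hnil' : Group.IsNilpotent ↥(F.subgroupOf B) :=
    Group.nilpotent_of_mulEquiv (Subgroup.subgroupOfEquivOfLe hFB).symm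
  have hcardF : Nat.card ↥(F.subgroupOf B) = Nat.card ↥F :=
    Nat.card_congr (Subgroup.subgroupOfEquivOfLe hFB).toEquiv
  have hcardH : Nat.card ↥(H.subgroupOf B) = Nat.card ↥H :=
    Nat.card_congr (Subgroup.subgroupOfEquivOfLe hHB).toEquiv
  have hfpf' : ∀ h ∈ H.subgroupOf B, h ≠ 1 → ∀ f ∈ F.subgroupOf B,
      h * f * h⁻¹ = f → f = 1 := by
    intro h hh h1 f hf hc
    apply Subtype.ext
    refine hfpf (h : A) hh (fun h0 => h1 (Subtype.ext h0)) (f : A) hf ?_
    have h2 := congrArg Subtype.val hc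
    simpa only [Subgroup.coe_mul, Subgroup.coe_inv] using h2
  have key := dim_lemma_normal ρB (F.subgroupOf B) (H.subgroupOf B) hnil'
    (by rw [hcardF]; exact hchar) hfpf' W hWB (by
      intro w hw hfw
      apply hfix w hw
      intro f hf
      exact hfw ⟨f, hFB hf⟩ hf)
  have hfixeq : fixOn ρB (H.subgroupOf B) = fixOn ρ H := by
    ext v
    rw [mem_fixOn, mem_fixOn]
    constructor
    · intro h s hs
      exact h ⟨s, hHB hs⟩ hs
    · intro h s hs
      exact h s.1 hs
  rw [hcardH, hfixeq] at key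
  exact key

end DimLemma

end Cfsg.Agent.Lib.Helper1.FM
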