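import Cfsg.Agent.Lib.Helper1.FM1

/-!
# Frobenius action with one-dimensional fixed space of a complement of prime order:
the images of the kernel elements commute (linear version)
-/

set_option autoImplicit false

namespace Cfsg.Agent.Lib.Helper1.FM

open scoped BigOperators commutatorElement
open Module Cfsg.Agent.Lib.Helper17 Cfsg.Agent.Lib.Helper17.FreeMod

section Main

universe u

variable {k : Type*} [Field k] {A : Type*} [Group A] [Finite A]
variable {V : Type u} [AddCommGroup V] [Module k V] [FiniteDimensional k V]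

omit [Finite A] [FiniteDimensional k V] in
theorem rho_inv_mul (ρ : Representation k A V) (a : A) : ρ a⁻¹ * ρ a = 1 := by
  rw [← map_mul, inv_mul_cancel, map_one]

omit [Finite A] [FiniteDimensional k V] in
theorem rho_mul_inv (ρ : Representation k A V) (a : A) : ρ a * ρ a⁻¹ = 1 := by
  rw [← map_mul, mul_inv_cancel, map_one]

/-- the special case without fixed vectors of the kernel. -/
theorem comm_of_fix_le_one_aux (ρ : Representation k A V) (F H : Subgroup A) [F.Normal]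
    (hnil : Group.IsNilpotent ↥F) (hchar : (Nat.card ↥F : k) ≠ 0)
    (hfpf : ∀ h ∈ H, h ≠ 1 → ∀ f ∈ F, h * f * h⁻¹ = f → f = 1)
    (hfixH : finrank k ↥(fixOn ρ H) ≤ 1)
    (hCF : ∀ v, (∀ f ∈ F, ρ f v = v) → v = 0) :
    ∀ x ∈ F, ∀ y ∈ F, ρ x * ρ y = ρ y * ρ x := by
  classical
  have hFn : ∀ g : A, ∀ f ∈ F, g * f * g⁻¹ ∈ F := fun g f hf => ‹F.Normal›.conj_mem f hf g
  have hdimV : finrank k V = Nat.card ↥H * finrank k ↥(fixOn ρ H) := by
    have := dim_lemma_normal ρ F H hnil hchar hfpf ⊤ (fun a => le_top) (fun w _ hw => hCF w hw)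
    rw [finrank_top, top_inf_eq] at this
    exact this
  by_cases h0 : finrank k ↥(fixOn ρ H) = 0
  · have h1 : finrank k V = 0 := by rw [hdimV, h0, mul_zero]
    have hss : Subsingleton V := Module.finrank_zero_iff.mp h1
    intro x _ y _
    apply LinearMap.ext
    intro v
    exact Subsingleton.elim _ _
  have h1 : finrank k ↥(fixOn ρ H) = 1 := by omega
  have hdimV' : finrank k V = Nat.card ↥H := by rw [hdimV, h1, mul_one]
  obtain ⟨v₀', hv₀'⟩ : ∃ v : ↥(fixOn ρ H), v ≠ 0 := by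
    have : 0 < finrank k ↥(fixOn ρ H) := by omega
    exact (Module.finrank_pos_iff_exists_ne_zero).mp this
  set v₀ : V := v₀'.1 with hv₀def
  have hv₀ : v₀ ≠ 0 := fun h => hv₀' (Subtype.ext h)
  have hv₀H : ∀ h ∈ H, ρ h v₀ = v₀ := mem_fixOn.mp v₀'.2
  -- the "centre"
  let Z : Subgroup A :=
    { carrier := {z | z ∈ F ∧ ∀ f ∈ F, ρ z * ρ f = ρ f * ρ z}
      mul_mem' := fun {a b} ha hb => ⟨F.mul_mem ha.1 hb.1, fun f hf => by
        rw [map_mul, mul_assoc, hb.2 f hf, ← mul_assoc, ha.2 f hf, mul_assoc]⟩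
      one_mem' := ⟨F.one_mem, fun f _ => by rw [map_one, one_mul, mul_one]⟩
      inv_mem' := fun {a} ha => ⟨F.inv_mem ha.1, fun f hf => by
        have h := ha.2 f hf
        calc ρ a⁻¹ * ρ f = ρ a⁻¹ * ρ f * (ρ a * ρ a⁻¹) := by rw [rho_mul_inv, mul_one]
          _ = ρ a⁻¹ * (ρ f * ρ a) * ρ a⁻¹ := by simp only [mul_assoc]
          _ = ρ a⁻¹ * (ρ a * ρ f) * ρ a⁻¹ := by rw [h]
          _ = (ρ a⁻¹ * ρ a) * ρ f * ρ a⁻¹ := by simp only [mul_assoc]
          _ = ρ f * ρ a⁻¹ := by rw [rho_inv_mul, one_mul]⟩ }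
  have hZmem : ∀ z, z ∈ Z ↔ z ∈ F ∧ ∀ f ∈ F, ρ z * ρ f = ρ f * ρ z := fun z => Iff.rfl
  have hZF : Z ≤ F := fun z hz => hz.1
  have hZconj : ∀ g : A, ∀ z ∈ Z, g * z * g⁻¹ ∈ Z := by
    intro g z hz
    refine ⟨hFn g z hz.1, fun f hf => ?_⟩
    have hf' : g⁻¹ * f * g ∈ F := by
      have := hFn g⁻¹ f hf
      rwa [inv_inv] at this
    have h := hz.2 _ hf'
    have e1 : g * z * g⁻¹ * f = g * (z * (g⁻¹ * f * g)) * g⁻¹ := by group
    have e2 : f * (g * z * g⁻¹) = g * ((g⁻¹ * f * g) * z) * g⁻¹ := by group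
    calc ρ (g * z * g⁻¹) * ρ f = ρ (g * (z * (g⁻¹ * f * g)) * g⁻¹) := by rw [← map_mul, e1]
      _ = ρ g * (ρ z * ρ (g⁻¹ * f * g)) * ρ g⁻¹ := by simp only [map_mul]
      _ = ρ g * (ρ (g⁻¹ * f * g) * ρ z) * ρ g⁻¹ := by rw [h]
      _ = ρ (g * ((g⁻¹ * f * g) * z) * g⁻¹) := by simp only [map_mul]
      _ = ρ f * ρ (g * z * g⁻¹) := by rw [← e2, map_mul]
  -- the fixed space of Z is zero
  have hfixZinv : ∀ g : A, ∀ w ∈ fixOn ρ Z, ρ g w ∈ fixOn ρ Z := by
    intro g w hw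
    rw [mem_fixOn] at hw ⊢
    intro z hz
    have hz' : g⁻¹ * z * g ∈ Z := by
      have := hZconj g⁻¹ z hz
      rwa [inv_inv] at this
    have e : z * g = g * (g⁻¹ * z * g) := by group
    calc ρ z (ρ g w) = (ρ (z * g)) w := by rw [map_mul]; rfl
      _ = ρ g (ρ (g⁻¹ * z * g) w) := by rw [e, map_mul]; rfl
      _ = ρ g w := by rw [hw _ hz']
  have hV3 : ∀ v, (∀ z ∈ Z, ρ z v = v) → v = 0 := by
    intro v hv
    by_contra hv0
    have hW := dim_lemma ρ F H (fun h _ f hf => hFn h f hf) hnil hchar hfpf (fixOn ρ Z)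
      (fun f _ w hw => hfixZinv f w hw) (fun h _ w hw => hfixZinv h w hw)
      (fun w _ hw => hCF w hw)
    have hpos : 0 < finrank k ↥(fixOn ρ Z) := by
      rw [Module.finrank_pos_iff_exists_ne_zero]
      exact ⟨⟨v, mem_fixOn.mpr hv⟩, fun h => hv0 (congrArg Subtype.val h)⟩
    have hpos2 : 0 < finrank k ↥(fixOn ρ Z ⊓ fixOn ρ H) := by
      rcases Nat.eq_zero_or_pos (finrank k ↥(fixOn ρ Z ⊓ fixOn ρ H)) with h | h
      · rw [h, mul_zero] at hW
        omega
      · exact h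
    have hge : Nat.card ↥H ≤ finrank k ↥(fixOn ρ Z) := by
      rw [hW]
      exact Nat.le_mul_of_pos_right _ hpos2
    have htop : fixOn ρ Z = ⊤ := by
      apply Submodule.eq_top_of_finrank_eq
      have := Submodule.finrank_le (fixOn ρ Z)
      omega
    -- so Z acts trivially, hence F does
    have hZtriv : ∀ z ∈ Z, ρ z = 1 := by
      intro z hz
      apply LinearMap.ext
      intro w
      have : w ∈ fixOn ρ Z := by rw [htop]; exact Submodule.mem_top
      exact mem_fixOn.mp this z hz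
    let ψ : ↥F →* Module.End k V := (ρ : A →* Module.End k V).comp F.subtype
    have hψ : ∀ f : ↥F, ψ f = ρ f.1 := fun _ => rfl
    have hFtriv := trivial_of_central_trivial hnil ψ (by
      intro z hz
      rw [hψ]
      apply hZtriv
      refine ⟨z.2, fun f hf => ?_⟩
      exact hz ⟨f, hf⟩)
    apply hv₀
    apply hCF
    intro f hf
    have := hFtriv ⟨f, hf⟩
    rw [hψ] at this
    show ρ f v₀ = v₀
    rw [this]; rfl
  -- the algebra generated by Z
  set L : Subalgebra k (Module.End k V) := Algebra.adjoin k (ρ '' (Z : Set A)) with hL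
  have hLgen : ∀ z ∈ Z, ρ z ∈ L := fun z hz => Algebra.subset_adjoin ⟨z, hz, rfl⟩
  -- elements of F commute with L
  have hFL : ∀ f ∈ F, ∀ r ∈ L, ρ f * r = r * ρ f := by
    intro f hf
    have : L ≤ Subalgebra.centralizer k {ρ f} := by
      apply Algebra.adjoin_le
      rintro _ ⟨z, hz, rfl⟩
      rw [SetLike.mem_coe, Subalgebra.mem_centralizer_iff]
      intro g hg
      rw [Set.mem_singleton_iff] at hg
      rw [hg]
      exact (hz.2 f hf).symm
    intro r hr
    have := this hr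
    rw [Subalgebra.mem_centralizer_iff] at this
    exact this (ρ f) rfl
  have hLcomm : ∀ a ∈ L, ∀ b ∈ L, a * b = b * a := by
    intro a ha
    have : L ≤ Subalgebra.centralizer k {a} := by
      apply Algebra.adjoin_le
      rintro _ ⟨z, hz, rfl⟩
      rw [SetLike.mem_coe, Subalgebra.mem_centralizer_iff]
      intro g hg
      rw [Set.mem_singleton_iff] at hg
      rw [hg]
      exact (hFL z hz.1 a ha).symm
    intro b hb
    have := this hb
    rw [Subalgebra.mem_centralizer_iff] at this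
    exact this a rfl
  -- the cyclic subspace
  let W : Submodule k V :=
    { carrier := {v | ∃ r ∈ L, r v₀ = v}
      add_mem' := by
        rintro _ _ ⟨r, hr, rfl⟩ ⟨s, hs, rfl⟩
        exact ⟨r + s, L.add_mem hr hs, rfl⟩
      zero_mem' := ⟨0, L.zero_mem, rfl⟩
      smul_mem' := by
        rintro c _ ⟨r, hr, rfl⟩
        exact ⟨c • r, L.smul_mem hr c, rfl⟩ }
  have hWmem : ∀ v, v ∈ W ↔ ∃ r ∈ L, r v₀ = v := fun v => Iff.rfl
  have hv₀W : v₀ ∈ W := ⟨1, L.one_mem, rfl⟩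
  have hWZ : ∀ z ∈ Z, ∀ w ∈ W, ρ z w ∈ W := by
    rintro z hz _ ⟨r, hr, rfl⟩
    exact ⟨ρ z * r, L.mul_mem (hLgen z hz) hr, rfl⟩
  have hWH : ∀ h ∈ H, ∀ w ∈ W, ρ h w ∈ W := by
    rintro h hh _ ⟨r, hr, rfl⟩
    have hle : L ≤ conjAlg ρ h L := by
      apply Algebra.adjoin_le
      rintro _ ⟨z, hz, rfl⟩
      show ρ h * ρ z * ρ h⁻¹ ∈ L
      rw [← map_mul, ← map_mul]
      exact hLgen _ (hZconj h z hz)
    have hr' : ρ h * r * ρ h⁻¹ ∈ L := hle hr
    refine ⟨ρ h * r * ρ h⁻¹, hr', ?_⟩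
    show ρ h (r (ρ h⁻¹ v₀)) = ρ h (r v₀)
    rw [hv₀H h⁻¹ (H.inv_mem hh)]
  have hZnil : Group.IsNilpotent ↥Z := by
    haveI := hnil
    exact Group.nilpotent_of_mulEquiv (Subgroup.subgroupOfEquivOfLe hZF)
  have hZchar : (Nat.card ↥Z : k) ≠ 0 := by
    intro h
    apply hchar
    obtain ⟨m, hm⟩ := Subgroup.card_dvd_of_le hZF
    rw [hm, Nat.cast_mul, h, zero_mul]
  have hWdim := dim_lemma ρ Z H (fun h _ z hz => hZconj h z hz) hZnil hZchar
    (fun h hh h1 f hf hc => hfpf h hh h1 f (hZF hf) hc) W hWZ hWH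
    (fun w _ hw => hV3 w hw)
  have hWtop : W = ⊤ := by
    apply Submodule.eq_top_of_finrank_eq
    have hpos2 : 0 < finrank k ↥(W ⊓ fixOn ρ H) := by
      rw [Module.finrank_pos_iff_exists_ne_zero]
      exact ⟨⟨v₀, hv₀W, v₀'.2⟩, fun h => hv₀ (congrArg Subtype.val h)⟩
    have hge : Nat.card ↥H ≤ finrank k ↥W := by
      rw [hWdim]
      exact Nat.le_mul_of_pos_right _ hpos2
    have := Submodule.finrank_le W
    omega
  have hcyc : ∀ v, ∃ r ∈ L, r v₀ = v := by
    intro v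
    have : v ∈ W := by rw [hWtop]; exact Submodule.mem_top
    exact this
  intro x hx y hy
  exact commute_of_cyclic L hLcomm v₀ hcyc (ρ x) (ρ y) (hFL x hx) (hFL y hy)

/-- **Frobenius action with at most one-dimensional fixed space of the complement**: the
operators of the kernel commute. -/
theorem comm_of_fix_le_one (ρ : Representation k A V) (F H : Subgroup A) [F.Normal]
    (hnil : Group.IsNilpotent ↥F) (hchar : (Nat.card ↥F : k) ≠ 0)
    (hfpf : ∀ h ∈ H, h ≠ 1 → ∀ f ∈ F, h * f * h⁻¹ = f → f = 1)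
    (hfixH : finrank k ↥(fixOn ρ H) ≤ 1) :
    ∀ x ∈ F, ∀ y ∈ F, ρ x * ρ y = ρ y * ρ x := by
  classical
  have : Fintype ↥F := Fintype.ofFinite _
  have hcharF : (Fintype.card ↥F : k) ≠ 0 := by rwa [← Nat.card_eq_fintype_card]
  set NF : Module.End k V := ∑ f : ↥F, ρ f with hNF
  have hNF_left : ∀ g ∈ F, ρ g * NF = NF := by
    intro g hg
    rw [hNF, Finset.mul_sum]
    refine Fintype.sum_equiv (Equiv.mulLeft (⟨g, hg⟩ : ↥F)) _ _ fun x => ?_
    rw [← map_mul]; rfl
  have hNF_conj : ∀ a : A, ρ a * NF = NF * ρ a := by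
    intro a
    rw [hNF, Finset.mul_sum, Finset.sum_mul]
    refine Fintype.sum_equiv (MulAut.conjNormal a : ↥F ≃* ↥F).toEquiv _ _ fun x => ?_
    rw [← map_mul, ← map_mul]
    congr 1
    show a * x.1 = ((MulAut.conjNormal a : MulAut ↥F) x : A) * a
    rw [MulAut.conjNormal_apply]; group
  have hNF_fix : ∀ v ∈ fixOn ρ F, NF v = (Fintype.card ↥F : k) • v := by
    intro v hv
    rw [hNF, LinearMap.sum_apply]
    have : ∀ f : ↥F, ρ f v = v := fun f => hv f
    simp_rw [this]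
    rw [Finset.sum_const, Finset.card_univ, Nat.cast_smul_eq_nsmul]
  have hNF_range : ∀ v, NF v ∈ fixOn ρ F := by
    intro v
    rw [mem_fixOn]
    intro g hg
    calc ρ g (NF v) = (ρ g * NF) v := rfl
      _ = NF v := by rw [hNF_left g hg]
  set V₂ : Submodule k V := LinearMap.ker NF with hV₂
  have hV₂inv : ∀ a, V₂ ≤ V₂.comap (ρ a) := by
    intro a v hv
    show NF (ρ a v) = 0
    have h1 : NF v = 0 := hv
    calc NF (ρ a v) = (NF * ρ a) v := rfl
      _ = (ρ a * NF) v := by rw [hNF_conj]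
      _ = ρ a (NF v) := rfl
      _ = 0 := by rw [h1, map_zero]
  set ρ₂ : Representation k A ↥V₂ := ρ.subrepresentation V₂ hV₂inv with hρ₂
  have hρ₂_apply : ∀ (a : A) (v : ↥V₂), ((ρ₂ a v : ↥V₂) : V) = ρ a v.1 := fun _ _ => rfl
  have hCF₂ : ∀ v : ↥V₂, (∀ f ∈ F, ρ₂ f v = v) → v = 0 := by
    intro v hv
    apply Subtype.ext
    have h1 : v.1 ∈ fixOn ρ F := by
      apply mem_fixOn.mpr
      intro f hf
      exact congrArg Subtype.val (hv f hf)
    have h3 : NF v.1 = 0 := v.2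
    rw [hNF_fix v.1 h1] at h3
    rcases smul_eq_zero.mp h3 with h | h
    · exact absurd h hcharF
    · exact h
  have hfix₂ : finrank k ↥(fixOn ρ₂ H) ≤ 1 := by
    refine le_trans ?_ hfixH
    have hle : (fixOn ρ₂ H).map V₂.subtype ≤ fixOn ρ H := by
      rintro _ ⟨w, hw, rfl⟩
      apply mem_fixOn.mpr
      intro h hh
      exact congrArg Subtype.val (mem_fixOn.mp hw h hh)
    have := Submodule.finrank_mono hle
    rwa [Submodule.finrank_map_subtype_eq] at this
  have key := comm_of_fix_le_one_aux ρ₂ F H hnil hchar hfpf hfix₂ hCF₂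
  intro x hx y hy
  apply LinearMap.ext
  intro v
  set e : V := (Fintype.card ↥F : k)⁻¹ • NF v with he
  have heF : e ∈ fixOn ρ F := Submodule.smul_mem _ _ (hNF_range v)
  have hd : v - e ∈ V₂ := by
    show NF (v - e) = 0
    rw [map_sub, he, map_smul, hNF_fix (NF v) (hNF_range v), smul_smul,
      inv_mul_cancel₀ hcharF, one_smul, sub_self]
  have hv : v = e + (v - e) := by abel
  have h1 : (ρ x * ρ y) e = (ρ y * ρ x) e := by
    show ρ x (ρ y e) = ρ y (ρ x e)
    rw [mem_fixOn.mp heF y hy, mem_fixOn.mp heF x hx, mem_fixOn.mp heF y hy]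
  have h2 : (ρ x * ρ y) (v - e) = (ρ y * ρ x) (v - e) := by
    have := congrArg (fun T : Module.End k ↥V₂ => ((T ⟨v - e, hd⟩ : ↥V₂) : V)) (key x hx y hy)
    exact this
  rw [hv, map_add, map_add, h1, h2]

end Main

end Cfsg.Agent.Lib.Helper1.FM
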