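import Cfsg.Agent.Lib.Helper1.FM2

/-!
# Frobenius action on an elementary abelian group with small fixed points of the complement:
the kernel acts through a commutative group
-/

set_option autoImplicit false

namespace Cfsg.Agent.Lib.Helper1.FM

open scoped BigOperators commutatorElement
open Module Cfsg.Agent.Lib.Helper17 Cfsg.Agent.Lib.Helper17.FreeMod

universe u

/-- **Frobenius action on an elementary abelian `p`-group** with at most `p` fixed points of the
complement: the kernel acts through a commutative group. -/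
theorem act_comm_of_fix_le_comm {A : Type u} [CommGroup A] [Finite A]
    {p : ℕ} (hp : p.Prime) (hexp : ∀ a : A, a ^ p = 1) {Γ : Type*} [Group Γ] [Finite Γ]
    (act : Γ →* MulAut A) (F H : Subgroup Γ) [F.Normal] (hnil : Group.IsNilpotent ↥F)
    (hpF : ¬ p ∣ Nat.card ↥F)
    (hfpf : ∀ h ∈ H, h ≠ 1 → ∀ f ∈ F, h * f * h⁻¹ = f → f = 1)
    (hfix : Nat.card {a : A // ∀ g ∈ H, act g a = a} ≤ p) :
    ∀ x ∈ F, ∀ y ∈ F, ∀ a : A, act x (act y a) = act y (act x a) := by
  classical
  have : Fact p.Prime := ⟨hp⟩
  obtain ⟨iM⟩ : Nonempty (Module (ZMod p) (Additive A)) :=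
    ⟨AddCommGroup.zmodModule (n := p) (by
      intro x
      have h2 : p • x = Additive.ofMul ((Additive.toMul x) ^ p) := rfl
      rw [h2, hexp]; rfl)⟩
  let ρ : Γ →* Module.End (ZMod p) (Additive A) :=
    { toFun := fun g => (MonoidHom.toAdditive (act g).toMonoidHom).toZModLinearMap p
      map_one' := by
        apply LinearMap.ext
        intro x
        change Additive.ofMul ((act 1) (Additive.toMul x)) = x
        rw [map_one]
        rfl
      map_mul' := fun g h => by
        apply LinearMap.ext
        intro x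
        change Additive.ofMul ((act (g * h)) (Additive.toMul x)) =
          Additive.ofMul ((act g) (Additive.toMul (Additive.ofMul ((act h) (Additive.toMul x)))))
        rw [map_mul]
        rfl }
  have hρ : ∀ (g : Γ) (x : Additive A), ρ g x = Additive.ofMul (act g (Additive.toMul x)) :=
    fun _ _ => rfl
  have hfixS : ∀ S : Subgroup Γ, Nat.card {a : A // ∀ g ∈ S, act g a = a}
      = p ^ finrank (ZMod p) (fixOn ρ S) := by
    intro S
    have h1 := Module.natCard_eq_pow_finrank (K := ZMod p) (V := ↥(fixOn ρ S))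
    rw [Nat.card_zmod] at h1
    rw [← h1]
    refine Nat.card_congr
      { toFun := fun a => ⟨Additive.ofMul a.1, mem_fixOn.mpr fun s hs => ?_⟩
        invFun := fun x => ⟨Additive.toMul x.1, fun g hg => ?_⟩
        left_inv := fun a => rfl
        right_inv := fun x => rfl }
    · rw [hρ]
      exact congrArg Additive.ofMul (a.2 s hs)
    · have := mem_fixOn.mp x.2 g hg
      rw [hρ] at this
      exact Additive.ofMul.injective this
  have hchar : (Nat.card ↥F : ZMod p) ≠ 0 := by
    rw [Ne, ZMod.natCast_eq_zero_iff]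
    exact hpF
  have hfixH : finrank (ZMod p) ↥(fixOn ρ H) ≤ 1 := by
    rw [hfixS H] at hfix
    by_contra hcon
    push Not at hcon
    have h2 : p ^ 2 ≤ p ^ finrank (ZMod p) ↥(fixOn ρ H) :=
      Nat.pow_le_pow_right hp.pos hcon
    have h3 : p < p ^ 2 := by
      have := hp.one_lt
      nlinarith
    omega
  have key := comm_of_fix_le_one ρ F H hnil hchar hfpf hfixH
  intro x hx y hy a
  have h1 := LinearMap.congr_fun (key x hx y hy) (Additive.ofMul a)
  have h2 : Additive.ofMul (act x (act y a)) = Additive.ofMul (act y (act x a)) := h1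
  exact Additive.ofMul.injective h2

/-- the same for a group known to be commutative. -/
theorem act_comm_of_fix_le {A : Type u} [iG : Group A] [Finite A]
    (hcomm : ∀ a b : A, a * b = b * a)
    {p : ℕ} (hp : p.Prime) (hexp : ∀ a : A, a ^ p = 1) {Γ : Type*} [Group Γ] [Finite Γ]
    (act : Γ →* MulAut A) (F H : Subgroup Γ) [F.Normal] (hnil : Group.IsNilpotent ↥F)
    (hpF : ¬ p ∣ Nat.card ↥F)
    (hfpf : ∀ h ∈ H, h ≠ 1 → ∀ f ∈ F, h * f * h⁻¹ = f → f = 1)
    (hfix : Nat.card {a : A // ∀ g ∈ H, act g a = a} ≤ p) :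
    ∀ x ∈ F, ∀ y ∈ F, ∀ a : A, act x (act y a) = act y (act x a) := by
  obtain ⟨iC, hiC⟩ : ∃ iC : CommGroup A, iC.toGroup = iG :=
    ⟨{ iG with mul_comm := hcomm }, rfl⟩
  subst hiC
  exact act_comm_of_fix_le_comm hp hexp act F H hnil hpF hfpf hfix

end Cfsg.Agent.Lib.Helper1.FM
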