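import Mathlib
import Cfsg.Prelude.Def_SporadicB

/-!
Helper1: Fischer's rank three theorem, part 1.
Basic facts on a normal set of 3-transpositions, the context of a generating class whose
ambient group has simple non-abelian commutator subgroup, the dichotomy for normal subgroups and
primitivity on the class.
-/

set_option autoImplicit false
set_option linter.unusedSectionVars false
set_option linter.unusedVariables false

open Subgroup
open scoped commutatorElement

namespace Cfsg.Agent.Lib.Helper1.FR3

universe u

variable {G : Type u} [Group G] {D : Set G}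

/-- a normal set of `3`-transpositions -/
structure T3 (D : Set G) : Prop where
  ord : ∀ d ∈ D, orderOf d = 2
  h23 : ∀ d ∈ D, ∀ e ∈ D, (d * e) ^ 2 = 1 ∨ (d * e) ^ 3 = 1
  conj : ∀ g : G, ∀ d ∈ D, g * d * g⁻¹ ∈ D

theorem T3.sq (h : T3 D) {x : G} (hx : x ∈ D) : x * x = 1 := by
  have := pow_orderOf_eq_one x
  rw [h.ord x hx, pow_two] at this
  exact this

theorem T3.inv (h : T3 D) {x : G} (hx : x ∈ D) : x⁻¹ = x :=
  inv_eq_of_mul_eq_one_left (h.sq hx)

theorem T3.ne_one (h : T3 D) {x : G} (hx : x ∈ D) : x ≠ 1 := by
  intro h1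
  have := h.ord x hx
  rw [h1, orderOf_one] at this
  omega

theorem T3.cube (h : T3 D) {x y : G} (hx : x ∈ D) (hy : y ∈ D) (hnc : ¬ Commute x y) :
    (x * y) ^ 3 = 1 := by
  rcases h.h23 x hx y hy with h2 | h3
  · exfalso
    apply hnc
    have hxx := h.sq hx
    have hyy := h.sq hy
    rw [pow_two] at h2
    show x * y = y * x
    calc x * y = (y * y) * (x * y) * (x * x) := by rw [hxx, hyy, one_mul, mul_one]
      _ = y * (y * x) * (y * x) * x := by group
      _ = y * ((x * y) * (x * y))⁻¹ * x := by
          rw [mul_inv_rev, mul_inv_rev, h.inv hx, h.inv hy]; group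
      _ = y * x := by rw [h2, inv_one, mul_one]
  · exact h3

theorem T3.braid (h : T3 D) {x y : G} (hx : x ∈ D) (hy : y ∈ D) (hnc : ¬ Commute x y) :
    x * y * x = y * x * y := by
  have h3 := h.cube hx hy hnc
  have h1 : x * y * (x * y) * (x * y) = 1 := by
    rw [← h3]; simp [pow_succ]
  calc x * y * x = (x * y * (x * y) * (x * y)) * y⁻¹ * x⁻¹ * y⁻¹ := by group
    _ = y * x * y := by rw [h1, one_mul, h.inv hx, h.inv hy]

/-- conjugation by a member written without inverse -/
theorem T3.cj (h : T3 D) {x y : G} (hx : x ∈ D) (hy : y ∈ D) : x * y * x ∈ D := by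
  have := h.conj x y hy
  rwa [h.inv hx] at this

theorem commute_cj_iff {x y z : G} (hx : x * x = 1) :
    Commute (x * y * x) z ↔ Commute y (x * z * x) := by
  have hxi : x⁻¹ = x := inv_eq_of_mul_eq_one_left hx
  have h1 : Commute (x * y * x) z ↔ Commute (x * (x * y * x) * x⁻¹) (x * z * x⁻¹) :=
    (Commute.conj_iff x).symm
  rw [h1, hxi]
  have e : x * (x * y * x) * x = y := by
    calc x * (x * y * x) * x = (x * x) * y * (x * x) := by group
      _ = y := by rw [hx, one_mul, mul_one]
  rw [e]

/-- the third point of a line does not commute with the first -/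
theorem T3.third_nc_left (h : T3 D) {x y : G} (hx : x ∈ D) (hy : y ∈ D) (hnc : ¬ Commute x y) :
    ¬ Commute (x * y * x) x := by
  intro hc
  rw [commute_cj_iff (h.sq hx)] at hc
  have e : x * x * x = x := by rw [h.sq hx, one_mul]
  rw [e] at hc
  exact hnc hc.symm

theorem T3.third_nc_right (h : T3 D) {x y : G} (hx : x ∈ D) (hy : y ∈ D) (hnc : ¬ Commute x y) :
    ¬ Commute (x * y * x) y := by
  rw [h.braid hx hy hnc]
  exact h.third_nc_left hy hx (fun hc => hnc hc.symm)

/-- the third point swaps the other two -/
theorem T3.third_swap (h : T3 D) {x y : G} (hx : x ∈ D) (hy : y ∈ D) (hnc : ¬ Commute x y) :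
    (x * y * x) * x * (x * y * x) = y := by
  have hb := h.braid hx hy hnc
  calc (x * y * x) * x * (x * y * x) = x * y * (x * x) * x * y * x := by group
    _ = x * (y * x * y) * x := by rw [h.sq hx]; group
    _ = x * (x * y * x) * x := by rw [hb]
    _ = (x * x) * y * (x * x) := by group
    _ = y := by rw [h.sq hx, one_mul, mul_one]

theorem T3.third_ne_left (h : T3 D) {x y : G} (hx : x ∈ D) (hy : y ∈ D) (hnc : ¬ Commute x y) :
    x * y * x ≠ x := by
  intro he
  apply h.third_nc_left hx hy hnc
  rw [he]

/-- the context: a generating class of `3`-transpositions in a group with simple non-abelian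
commutator subgroup -/
structure Ctx (D : Set G) : Prop where
  tt : T3 D
  trans : ∀ x ∈ D, ∀ y ∈ D, ∃ g : G, g * x * g⁻¹ = y
  gen : closure D = ⊤
  simple : IsSimpleGroup (commutator G)
  nonab : ∃ x y : commutator G, x * y ≠ y * x

theorem Ctx.of_class (hD : Cfsg.IsThreeTranspositionClass D)
    (hsimple : IsSimpleGroup (commutator G))
    (hnonab : ∃ x y : commutator G, x * y ≠ y * x) : Ctx D := by
  obtain ⟨⟨hord, h23⟩, ⟨d, hd, hDd⟩, hgen⟩ := hD
  have hmem : ∀ y : G, y ∈ D ↔ ∃ c : G, c * d * c⁻¹ = y := by
    intro y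
    rw [hDd]
    show IsConj d y ↔ _
    rw [isConj_iff]
  refine ⟨⟨hord, h23, ?_⟩, ?_, hgen, hsimple, hnonab⟩
  · intro g e he
    obtain ⟨c, rfl⟩ := (hmem e).mp he
    exact (hmem _).mpr ⟨g * c, by group⟩
  · intro x hx y hy
    obtain ⟨c, rfl⟩ := (hmem x).mp hx
    obtain ⟨c', rfl⟩ := (hmem y).mp hy
    exact ⟨c' * c⁻¹, by group⟩

/-- every element is in the commutator subgroup or becomes so after multiplying by `d ∈ D` -/
theorem Ctx.mem_comm_or (h : Ctx D) {d : G} (hd : d ∈ D) (g : G) :
    g ∈ commutator G ∨ g * d ∈ commutator G := by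
  have hn : (commutator G).Normal := inferInstance
  have hdd := h.tt.sq hd
  have hdi := h.tt.inv hd
  have hg : g ∈ closure D := by rw [h.gen]; exact mem_top g
  induction hg using Subgroup.closure_induction with
  | mem e he =>
    right
    obtain ⟨c, rfl⟩ := h.trans d hd e he
    have : c * d * c⁻¹ * d = ⁅c, d⁆ := by
      rw [commutatorElement_def, hdi]
    rw [this, _root_.commutator_def]
    exact Subgroup.commutator_mem_commutator (mem_top c) (mem_top d)
  | one => left; exact one_mem _
  | mul x y _ _ hx hy =>
    rcases hx with hx | hx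
    · rcases hy with hy | hy
      · left; exact mul_mem hx hy
      · right; rw [mul_assoc]; exact mul_mem hx hy
    · rcases hy with hy | hy
      · right
        have h1 : d⁻¹ * y * d ∈ commutator G := by
          have := hn.conj_mem y hy d⁻¹
          rwa [inv_inv] at this
        have e : x * y * d = (x * d) * (d⁻¹ * y * d) := by group
        rw [e]; exact mul_mem hx h1
      · left
        have h1 : d⁻¹ * y ∈ commutator G := by
          have := hn.conj_mem (y * d) hy d⁻¹
          rw [inv_inv] at this
          have e : d⁻¹ * (y * d) * d = d⁻¹ * y := by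
            rw [mul_assoc, mul_assoc, hdd, mul_one]
          rwa [e] at this
        have e : x * y = (x * d) * (d⁻¹ * y) := by group
        rw [e]; exact mul_mem hx h1
  | inv x _ hx =>
    rcases hx with hx | hx
    · left; exact inv_mem hx
    · right
      have h1 : (x * d)⁻¹ ∈ commutator G := inv_mem hx
      have h2 := hn.conj_mem _ h1 d⁻¹
      rw [inv_inv] at h2
      have e : d⁻¹ * (x * d)⁻¹ * d = x⁻¹ * d := by
        rw [mul_inv_rev, hdi]
        calc d * (d * x⁻¹) * d = (d * d) * x⁻¹ * d := by group
          _ = x⁻¹ * d := by rw [hdd, one_mul]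
      rwa [e] at h2

/-- a normal subgroup contains the commutator subgroup or is central -/
theorem Ctx.normal_dich (h : Ctx D) (N : Subgroup G) (hN : N.Normal) :
    commutator G ≤ N ∨ N ≤ center G := by
  haveI := h.simple
  have hH : (N.subgroupOf (commutator G)).Normal := hN.subgroupOf _
  rcases hH.eq_bot_or_eq_top with hb | ht
  · right
    rw [subgroupOf_eq_bot] at hb
    intro n hn
    rw [mem_center_iff]
    intro g
    have h1 : ⁅n, g⁆ ∈ N := by
      rw [commutatorElement_def]
      have := hN.conj_mem n⁻¹ (inv_mem hn) g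
      have e : n * g * n⁻¹ * g⁻¹ = n * (g * n⁻¹ * g⁻¹) := by group
      rw [e]; exact mul_mem hn this
    have h2 : ⁅n, g⁆ ∈ commutator G := by
      rw [_root_.commutator_def]
      exact Subgroup.commutator_mem_commutator (mem_top n) (mem_top g)
    have h3 : ⁅n, g⁆ = 1 := by
      have := hb.le_bot (show ⁅n, g⁆ ∈ N ⊓ commutator G from ⟨h1, h2⟩)
      simpa using this
    rw [commutatorElement_def] at h3
    calc g * n = (n * g * n⁻¹ * g⁻¹)⁻¹ * (n * g) := by group
      _ = n * g := by rw [h3, inv_one, one_mul]
  · left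
    exact subgroupOf_eq_top.mp ht

/-- the group is not commutative -/
theorem Ctx.not_comm (h : Ctx D) : ¬ ∀ g k : G, g * k = k * g := by
  intro hc
  obtain ⟨x, y, hxy⟩ := h.nonab
  apply hxy
  apply Subtype.ext
  simp only [Subgroup.coe_mul]
  exact hc _ _

/-- no member of `D` is central -/
theorem Ctx.exists_nc (h : Ctx D) {a : G} (ha : a ∈ D) : ∃ x ∈ D, ¬ Commute x a := by
  by_contra hcon
  push Not at hcon
  have h1 : ∀ g : G, g * a = a * g := by
    intro g
    have hg : g ∈ closure D := by rw [h.gen]; exact mem_top g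
    have hle : closure D ≤ centralizer {a} := by
      rw [closure_le]
      intro x hx
      rw [SetLike.mem_coe, mem_centralizer_iff]
      intro y hy
      rw [Set.mem_singleton_iff] at hy
      rw [hy]
      exact ((hcon x hx).eq).symm
    have := hle hg
    rw [mem_centralizer_iff] at this
    exact (this a rfl).symm
  have h2 : ∀ y ∈ D, y = a := by
    intro y hy
    obtain ⟨g, rfl⟩ := h.trans a ha y hy
    rw [h1 g, mul_inv_cancel_right]
  apply h.not_comm
  have hle : closure D ≤ center G := by
    rw [closure_le]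
    intro x hx
    rw [SetLike.mem_coe, mem_center_iff, h2 x hx]
    exact h1
  intro g k
  have hk : k ∈ closure D := by rw [h.gen]; exact mem_top k
  have := hle hk
  rw [mem_center_iff] at this
  exact this g

end Cfsg.Agent.Lib.Helper1.FR3
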