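import Mathlib
import Cfsg.Agent.Lib.Helper1.FR1

/-!
Helper1: Fischer's rank three theorem, part 2: the conjugation action on the class is primitive.
-/

set_option autoImplicit false
set_option linter.unusedSectionVars false
set_option linter.unusedVariables false

open Subgroup
open scoped commutatorElement

namespace Cfsg.Agent.Lib.Helper1.FR3

universe u

variable {G : Type u} [Group G] {D B : Set G}

/-- a block for the conjugation action (pointwise form) -/
def IsBlk (B : Set G) : Prop :=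
  ∀ g : G, ∀ x ∈ B, g * x * g⁻¹ ∈ B → ∀ y ∈ B, g * y * g⁻¹ ∈ B

/-- the setwise stabiliser of `B` under conjugation -/
def stabS (B : Set G) : Subgroup G where
  carrier := {g | ∀ y, y ∈ B ↔ g * y * g⁻¹ ∈ B}
  one_mem' := by intro y; simp
  mul_mem' := by
    intro g k hg hk y
    rw [hk y, hg (k * y * k⁻¹)]
    have : g * (k * y * k⁻¹) * g⁻¹ = g * k * y * (g * k)⁻¹ := by group
    rw [this]
  inv_mem' := by
    intro g hg y
    rw [hg (g⁻¹ * y * g⁻¹⁻¹)]
    have : g * (g⁻¹ * y * g⁻¹⁻¹) * g⁻¹ = y := by group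
    rw [this]

theorem mem_stabS {g : G} : g ∈ stabS B ↔ ∀ y, y ∈ B ↔ g * y * g⁻¹ ∈ B := Iff.rfl

theorem mem_stabS_of (hB : IsBlk B) {g x : G} (hx : x ∈ B) (hgx : g * x * g⁻¹ ∈ B) :
    g ∈ stabS B := by
  intro y
  constructor
  · intro hy; exact hB g x hx hgx y hy
  · intro hy
    have h1 : g⁻¹ * (g * x * g⁻¹) * g⁻¹⁻¹ ∈ B := by
      have e : g⁻¹ * (g * x * g⁻¹) * g⁻¹⁻¹ = x := by group
      rw [e]; exact hx
    have h2 := hB g⁻¹ _ hgx h1 _ hy
    have e : g⁻¹ * (g * y * g⁻¹) * g⁻¹⁻¹ = y := by group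
    rwa [e] at h2

theorem self_mem_stabS (hB : IsBlk B) {x : G} (hx : x ∈ B) : x ∈ stabS B := by
  apply mem_stabS_of hB hx
  rw [mul_inv_cancel_right]; exact hx

/-- the conjugate of a set -/
def cjB (g : G) (B : Set G) : Set G := {z | g⁻¹ * z * g ∈ B}

theorem mem_cjB {g z : G} : z ∈ cjB g B ↔ g⁻¹ * z * g ∈ B := Iff.rfl

theorem conj_mem_cjB {g x : G} (hx : x ∈ B) : g * x * g⁻¹ ∈ cjB g B := by
  rw [mem_cjB]
  have e : g⁻¹ * (g * x * g⁻¹) * g = x := by group
  rw [e]; exact hx

theorem isBlk_cjB (hB : IsBlk B) (g : G) : IsBlk (cjB g B) := by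
  intro k x hx hkx y hy
  rw [mem_cjB] at *
  have e1 : (g⁻¹ * k * g) * (g⁻¹ * x * g) * (g⁻¹ * k * g)⁻¹ = g⁻¹ * (k * x * k⁻¹) * g := by group
  have h1 := hB (g⁻¹ * k * g) _ hx (by rw [e1]; exact hkx) _ hy
  have e2 : (g⁻¹ * k * g) * (g⁻¹ * y * g) * (g⁻¹ * k * g)⁻¹ = g⁻¹ * (k * y * k⁻¹) * g := by group
  rwa [e2] at h1

theorem cjB_subset (h : T3 D) (hBD : B ⊆ D) (g : G) : cjB g B ⊆ D := by
  intro z hz
  have := h.conj g _ (hBD hz)
  have e : g * (g⁻¹ * z * g) * g⁻¹ = z := by group
  rwa [e] at this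

theorem cjB_eq_of_common (hB : IsBlk B) {k₁ k₂ z : G} (h1 : z ∈ cjB k₁ B) (h2 : z ∈ cjB k₂ B) :
    cjB k₁ B = cjB k₂ B := by
  rw [mem_cjB] at h1 h2
  have hk : k₂⁻¹ * k₁ ∈ stabS B := by
    apply mem_stabS_of hB h1
    have e : k₂⁻¹ * k₁ * (k₁⁻¹ * z * k₁) * (k₂⁻¹ * k₁)⁻¹ = k₂⁻¹ * z * k₂ := by group
    rw [e]; exact h2
  ext w
  rw [mem_cjB, mem_cjB, hk (k₁⁻¹ * w * k₁)]
  have e : k₂⁻¹ * k₁ * (k₁⁻¹ * w * k₁) * (k₂⁻¹ * k₁)⁻¹ = k₂⁻¹ * w * k₂ := by group
  rw [e]

/-- a member of `D` outside a block which commutes with one member of the block commutes with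
all of them -/
theorem blk_comm_all (h : T3 D) (hBD : B ⊆ D) (hB : IsBlk B) {x : G} (hx : x ∈ D)
    (hxB : x ∉ B) {y₀ : G} (hy₀ : y₀ ∈ B) (hc : Commute x y₀) : ∀ y ∈ B, Commute x y := by
  intro y hy
  by_contra hnc
  have hxS : x ∈ stabS B := by
    apply mem_stabS_of hB hy₀
    rw [hc.eq, mul_inv_cancel_right]; exact hy₀
  have h1 : x * y * x⁻¹ ∈ B := (hxS y).mp hy
  rw [h.inv hx, h.braid hx (hBD hy) hnc] at h1
  have hyS := self_mem_stabS hB hy
  have h2 := (hyS x).mpr (by rw [h.inv (hBD hy)]; exact h1)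
  exact hxB h2

/-- products of two members of a conjugate block stabilise the block -/
theorem blk_mul_mem (h : T3 D) (hBD : B ⊆ D) (hB : IsBlk B) (hne : B.Nonempty) (g : G)
    {u u' : G} (hu : u ∈ cjB g B) (hu' : u' ∈ cjB g B) : u * u' ∈ stabS B := by
  have hB' := isBlk_cjB hB g
  have hB'D := cjB_subset h hBD g
  have huD := hB'D hu
  have hu'D := hB'D hu'
  by_cases hcase1 : ∃ y ∈ B, y ∈ cjB g B
  · obtain ⟨y, hy, hy'⟩ := hcase1
    have hg : g⁻¹ ∈ stabS B := by
      apply mem_stabS_of hB hy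
      rw [inv_inv]; exact hy'
    have hg' : g ∈ stabS B := by
      have := inv_mem hg
      rwa [inv_inv] at this
    have key : ∀ w ∈ cjB g B, w ∈ stabS B := by
      intro w hw
      have hwB : w ∈ B := by
        have := (hg' (g⁻¹ * w * g)).mp hw
        have e : g * (g⁻¹ * w * g) * g⁻¹ = w := by group
        rwa [e] at this
      exact self_mem_stabS hB hwB
    exact mul_mem (key u hu) (key u' hu')
  · push Not at hcase1
    by_cases hcase2 : ∃ u₀ ∈ cjB g B, ∃ y₀ ∈ B, Commute u₀ y₀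
    · obtain ⟨u₀, hu₀, y₀, hy₀, hc⟩ := hcase2
      have hu₀B : u₀ ∉ B := fun hh => hcase1 u₀ hh hu₀
      have h1 := blk_comm_all h hBD hB (hB'D hu₀) hu₀B hy₀ hc
      have h2 : ∀ y ∈ B, ∀ w ∈ cjB g B, Commute y w := by
        intro y hy
        exact blk_comm_all h hB'D hB' (hBD hy) (hcase1 y hy) hu₀ (h1 y hy).symm
      obtain ⟨y₁, hy₁⟩ := hne
      have key : ∀ w ∈ cjB g B, w ∈ stabS B := by
        intro w hw
        apply mem_stabS_of hB hy₁
        rw [(h2 y₁ hy₁ w hw).symm.eq, mul_inv_cancel_right]; exact hy₁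
      exact mul_mem (key u hu) (key u' hu')
    · push Not at hcase2
      obtain ⟨y₀, hy₀⟩ := hne
      have hy₀D := hBD hy₀
      have key : ∀ w ∈ cjB g B, cjB w B = cjB (y₀ * g) B := by
        intro w hw
        have hwD := hB'D hw
        have hnc : ¬ Commute w y₀ := hcase2 w hw y₀ hy₀
        apply cjB_eq_of_common hB (z := w * y₀ * w⁻¹)
        · exact conj_mem_cjB hy₀
        · rw [mem_cjB, h.inv hwD, h.braid hwD hy₀D hnc]
          have e : (y₀ * g)⁻¹ * (y₀ * w * y₀) * (y₀ * g) = g⁻¹ * ((y₀⁻¹ * y₀) * w * (y₀ * y₀)) * g := by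
            group
          rw [e, h.sq hy₀D, inv_mul_cancel, one_mul, mul_one]
          exact hw
      have hEq : cjB u B = cjB u' B := by rw [key u hu, key u' hu']
      intro y
      have e1 : y ∈ B ↔ u' * y * u'⁻¹ ∈ cjB u' B := by
        rw [mem_cjB]
        have e : u'⁻¹ * (u' * y * u'⁻¹) * u' = y := by group
        rw [e]
      rw [e1, ← hEq, mem_cjB, h.inv huD]
      have e : u * (u' * y * u'⁻¹) * u = u * u' * y * (u * u')⁻¹ := by
        rw [mul_inv_rev, h.inv huD]; group
      rw [e]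

/-- **Primitivity**: a block with two distinct members is the whole class. -/
theorem Ctx.blk_trivial (h : Ctx D) (hBD : B ⊆ D) (hB : IsBlk B) {a a' : G} (ha : a ∈ B)
    (ha' : a' ∈ B) (hne : a ≠ a') : D ⊆ B := by
  have hT := h.tt
  have haD := hBD ha
  have ha'D := hBD ha'
  set K : Subgroup G := (stabS B).normalCore with hK
  have hKn : K.Normal := Subgroup.normalCore_normal _
  have hzK : a * a' ∈ K := by
    show ∀ k : G, k * (a * a') * k⁻¹ ∈ stabS B
    intro k
    have e : k * (a * a') * k⁻¹ = (k * a * k⁻¹) * (k * a' * k⁻¹) := by group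
    rw [e]
    exact blk_mul_mem hT hBD hB ⟨a, ha⟩ k (conj_mem_cjB ha) (conj_mem_cjB ha')
  have haS : a ∈ stabS B := self_mem_stabS hB ha
  rcases h.normal_dich K hKn with hc | hc
  · -- the stabiliser is everything
    have hall : ∀ g : G, g ∈ stabS B := by
      intro g
      rcases h.mem_comm_or haD g with hg | hg
      · exact (Subgroup.normalCore_le _) (hc hg)
      · have h1 : g * a ∈ stabS B := (Subgroup.normalCore_le _) (hc hg)
        have h2 := mul_mem h1 (inv_mem haS)
        rwa [mul_inv_cancel_right] at h2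
    intro e he
    obtain ⟨g, rfl⟩ := h.trans a haD e he
    exact (hall g a).mp ha
  · exfalso
    have hz := hc hzK
    rw [mem_center_iff] at hz
    have haa := hT.sq haD
    have ha'a' := hT.sq ha'D
    -- `a` and `a'` commute
    have hcomm : a * a' = a' * a := by
      have h1 := hz a
      -- a * (a * a') = a * a' * a
      calc a * a' = a * ((a * a) * a') := by rw [haa, one_mul]
        _ = a * (a * (a * a')) := by group
        _ = a * (a * a' * a) := by rw [h1]
        _ = (a * a) * a' * a := by group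
        _ = a' * a := by rw [haa, one_mul]
    have hz1 : a * a' ≠ 1 := by
      intro h1
      apply hne
      calc a = a * (a' * a') := by rw [ha'a', mul_one]
        _ = (a * a') * a' := by group
        _ = a' := by rw [h1, one_mul]
    have hz2 : (a * a') * (a * a') = 1 := by
      calc (a * a') * (a * a') = a * (a' * a) * a' := by group
        _ = a * (a * a') * a' := by rw [hcomm]
        _ = (a * a) * (a' * a') := by group
        _ = 1 := by rw [haa, ha'a', one_mul]
    obtain ⟨x, hx, hxa⟩ := h.exists_nc haD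
    have hcube := hT.cube hx haD hxa
    have e1 : x * a' = (x * a) * (a * a') := by
      calc x * a' = x * ((a * a) * a') := by rw [haa, one_mul]
        _ = (x * a) * (a * a') := by group
    have hcz : Commute (x * a) (a * a') := hz (x * a)
    rcases hT.h23 x hx a' ha'D with h2 | h3
    · rw [e1, hcz.mul_pow, pow_two (a * a'), hz2, mul_one] at h2
      -- (x a)^2 = 1 and (x a)^3 = 1 give x a = 1
      have h4 : x * a = 1 := by
        calc x * a = (x * a) ^ 3 * ((x * a) ^ 2)⁻¹ := by group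
          _ = 1 := by rw [hcube, h2, inv_one, one_mul]
      apply hxa
      have hxe : x = a := by
        calc x = (x * a) * a⁻¹ := by group
          _ = a := by rw [h4, one_mul, hT.inv haD]
      rw [hxe]
    · rw [e1, hcz.mul_pow, hcube, one_mul] at h3
      apply hz1
      have h5 : (a * a') ^ 3 = (a * a') * ((a * a') * (a * a')) := by
        rw [pow_succ, pow_two]; group
      rw [h5, hz2, mul_one] at h3
      exact h3

end Cfsg.Agent.Lib.Helper1.FR3
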