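import Mathlib
import Cfsg.Agent.Lib.Helper1.FR2

/-!
Helper1: Fischer's rank three theorem, part 3: word identities in the groups generated by three or
four `3`-transpositions, orbitals, consequences of primitivity, cardinalities.
-/

set_option autoImplicit false
set_option linter.unusedSectionVars false
set_option linter.unusedVariables false

open Subgroup
open scoped commutatorElement

namespace Cfsg.Agent.Lib.Helper1.FR3

universe u

variable {G : Type u} [Group G] {D : Set G}

/-! ### word identities -/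

theorem commute_of_mul_sq_one {a b : G} (ha : a * a = 1) (hb : b * b = 1)
    (hab : (a * b) * (a * b) = 1) : Commute a b := by
  show a * b = b * a
  calc a * b = (a * b) * ((a * b) * (a * b))⁻¹ := by rw [hab, inv_one, mul_one]
    _ = (b * b)⁻¹ * b * ((a * a)⁻¹ * a) := by group
    _ = b * a := by rw [ha, hb, inv_one, one_mul, one_mul]

/-- `p r` commutes with its conjugate under `q` when `p - q - r` is a string. -/
theorem T3.string_comm (h : T3 D) {p q r : G} (hp : p ∈ D) (hq : q ∈ D) (hr : r ∈ D)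
    (hpr : Commute p r) (hpq : ¬ Commute p q) (hrq : ¬ Commute r q) :
    Commute (p * r) (q * (p * r) * q) := by
  have hpp := h.sq hp
  have hqq := h.sq hq
  have hrr := h.sq hr
  have b1 : p * q * p = q * p * q := h.braid hp hq hpq
  have b2 : r * q * r = q * r * q := h.braid hr hq hrq
  have hrpr : r * p * r = p := by
    calc r * p * r = (p * r) * r := by rw [hpr.eq]
      _ = p := by rw [mul_assoc, hrr, mul_one]
  have e1 : (p * r) * (p * r) = 1 := by
    calc (p * r) * (p * r) = p * (r * p * r) := by group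
      _ = 1 := by rw [hrpr, hpp]
  have e2 : (q * (p * r) * q) * (q * (p * r) * q) = 1 := by
    calc (q * (p * r) * q) * (q * (p * r) * q) = q * (p * r) * (q * q) * (p * r) * q := by group
      _ = q * ((p * r) * (p * r)) * q := by rw [hqq]; group
      _ = 1 := by rw [e1, mul_one, hqq]
  apply commute_of_mul_sq_one e1 e2
  -- X = p q r q p q
  have hX : (p * r) * (q * (p * r) * q) = p * q * r * q * p * q := by
    calc (p * r) * (q * (p * r) * q) = p * (r * q * p * r) * q := by group
      _ = p * (r * q * (p * r)) * q := by group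
      _ = p * (r * q * (r * p)) * q := by rw [hpr.eq]
      _ = p * (r * q * r) * p * q := by group
      _ = p * (q * r * q) * p * q := by rw [b2]
      _ = p * q * r * q * p * q := by group
  rw [hX]
  calc (p * q * r * q * p * q) * (p * q * r * q * p * q)
      = p * q * r * q * (p * q * p) * q * r * q * p * q := by group
    _ = p * q * r * q * (q * p * q) * q * r * q * p * q := by rw [b1]
    _ = p * q * r * (q * q) * p * (q * q) * r * q * p * q := by group
    _ = p * q * (r * p * r) * q * p * q := by rw [hqq]; group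
    _ = (p * q * p) * (q * p * q) := by rw [hrpr]; group
    _ = (q * p * q) * (q * p * q) := by rw [b1]
    _ = q * p * (q * q) * p * q := by group
    _ = 1 := by rw [hqq, mul_one, mul_assoc q p p, hpp, mul_one, hqq]

/-- in a string `b - c - e` the conjugates `c b c` and `e c e` commute -/
theorem T3.string_cross (h : T3 D) {b c e : G} (hb : b ∈ D) (hc : c ∈ D) (he : e ∈ D)
    (hbe : Commute b e) (hce : ¬ Commute c e) :
    Commute (c * b * c) (e * c * e) := by
  rw [commute_cj_iff (h.sq hc)]
  have hb2 : e * c * e = c * e * c := h.braid he hc (fun hh => hce hh.symm)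
  have e1 : c * (e * c * e) * c = e := by
    rw [hb2]
    calc c * (c * e * c) * c = (c * c) * e * (c * c) := by group
      _ = e := by rw [h.sq hc, one_mul, mul_one]
  rw [e1]
  exact hbe

/-! ### orbitals -/

/-- the pairs `(x, y)` and `(x', y')` lie in the same orbital -/
def OP (x y x' y' : G) : Prop := ∃ g : G, g * x * g⁻¹ = x' ∧ g * y * g⁻¹ = y'

theorem OP.refl (x y : G) : OP x y x y := ⟨1, by simp, by simp⟩

theorem OP.symm {x y x' y' : G} (h : OP x y x' y') : OP x' y' x y := by
  obtain ⟨g, rfl, rfl⟩ := h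
  exact ⟨g⁻¹, by group, by group⟩

theorem OP.trans {x y x' y' x'' y'' : G} (h1 : OP x y x' y') (h2 : OP x' y' x'' y'') :
    OP x y x'' y'' := by
  obtain ⟨g, rfl, rfl⟩ := h1
  obtain ⟨k, rfl, rfl⟩ := h2
  exact ⟨k * g, by group, by group⟩

theorem OP.swap {x y x' y' : G} (h : OP x y x' y') : OP y x y' x' := by
  obtain ⟨g, h1, h2⟩ := h
  exact ⟨g, h2, h1⟩

/-- orbitals of non-commuting pairs are symmetric -/
theorem T3.OP_flip (h : T3 D) {x y : G} (hx : x ∈ D) (hy : y ∈ D) (hnc : ¬ Commute x y) :
    OP x y y x := by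
  have hi : (x * y * x)⁻¹ = x * y * x := h.inv (h.cj hx hy)
  refine ⟨x * y * x, ?_, ?_⟩
  · rw [hi]; exact h.third_swap hx hy hnc
  · rw [hi, h.braid hx hy hnc]
    exact h.third_swap hy hx (fun hh => hnc hh.symm)

/-- **Fact 1**: two commuting members not commuting with `a` are conjugate under `C(a)`. -/
theorem T3.OP_fact1 (h : T3 D) {a u v : G} (ha : a ∈ D) (hu : u ∈ D) (hv : v ∈ D)
    (hau : ¬ Commute a u) (hav : ¬ Commute a v) (huv : Commute u v) : OP a u a v := by
  -- p = u, q = a, r = v
  have huu := h.sq hu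
  have haa := h.sq ha
  have hvv := h.sq hv
  set w : G := v * a * v with hw
  have hwD : w ∈ D := h.cj hv ha
  have hww := h.sq hwD
  have hvuv : v * u * v = u := by
    calc v * u * v = (u * v) * v := by rw [huv.eq]
      _ = u := by rw [mul_assoc, hvv, mul_one]
  have hwu : ¬ Commute w u := by
    rw [hw, commute_cj_iff hvv, hvuv]
    exact hau
  have hb : w * u * w = u * w * u := h.braid hwD hu hwu
  have hbva : v * a * v = a * v * a := h.braid hv ha (fun hh => hav hh.symm)
  -- w a w = v
  have hwaw : w * a * w = v := by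
    rw [hw]
    calc (v * a * v) * a * (v * a * v) = v * a * (v * a * v) * a * v := by group
      _ = v * a * (a * v * a) * a * v := by rw [hbva]
      _ = v * (a * a) * v * (a * a) * v := by group
      _ = v := by rw [haa, mul_one, mul_one, hvv, one_mul]
  have heps : (u * v) * (u * v) = 1 := by
    calc (u * v) * (u * v) = u * (v * u * v) := by group
      _ = 1 := by rw [hvuv, huu]
  set g : G := w * (u * v) * w with hg
  have hgg : g * g = 1 := by
    rw [hg]
    calc (w * (u * v) * w) * (w * (u * v) * w) = w * (u * v) * (w * w) * (u * v) * w := by group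
      _ = w * ((u * v) * (u * v)) * w := by rw [hww]; group
      _ = 1 := by rw [heps, mul_one, hww]
  have hgi : g⁻¹ = g := inv_eq_of_mul_eq_one_left hgg
  refine ⟨g, ?_, ?_⟩
  · -- g commutes with a
    rw [hgi]
    have hc : Commute g a := by
      rw [hg, commute_cj_iff hww, hwaw]
      show u * v * v = v * (u * v)
      rw [← mul_assoc, hvuv]
      rw [mul_assoc, hvv, mul_one]
    calc g * a * g = a * g * g := by rw [hc.eq]
      _ = a := by rw [mul_assoc, hgg, mul_one]
  · rw [hgi, hg]
    -- w ε (w u w) ε w with ε (u w u) ε = a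
    have e1 : (u * v) * (u * w * u) * (u * v) = a := by
      calc (u * v) * (u * w * u) * (u * v) = (v * u) * (u * w * u) * (u * v) := by rw [huv.eq]
        _ = v * (u * u) * w * (u * u) * v := by group
        _ = v * w * v := by rw [huu, mul_one, mul_one]
        _ = (v * v) * a * (v * v) := by rw [hw]; group
        _ = a := by rw [hvv, one_mul, mul_one]
    calc w * (u * v) * w * u * (w * (u * v) * w)
        = w * ((u * v) * (w * u * w) * (u * v)) * w := by group
      _ = w * ((u * v) * (u * w * u) * (u * v)) * w := by rw [hb]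
      _ = v := by rw [e1, hwaw]

/-! ### consequences of primitivity -/

/-- a `C(a)`-invariant set of members other than `a` is not invariant under a member not
commuting with `a` -/
theorem Ctx.no_invariant (h : Ctx D) {a : G} (ha : a ∈ D) {S : Set G} (hS : S ⊆ D)
    (haS : a ∉ S) (hne : S.Nonempty)
    (hC : ∀ g : G, Commute g a → ∀ y ∈ S, g * y * g⁻¹ ∈ S) {b : G} (hb : b ∈ D)
    (hba : ¬ Commute b a) (hbS : ∀ y ∈ S, b * y * b⁻¹ ∈ S) : False := by
  have hT := h.tt
  have hCs : ∀ g : G, Commute g a → g ∈ stabS S := by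
    intro g hg y
    constructor
    · exact hC g hg y
    · intro hy
      have := hC g⁻¹ hg.inv_left _ hy
      have e : g⁻¹ * (g * y * g⁻¹) * g⁻¹⁻¹ = y := by group
      rwa [e] at this
  have hbs : b ∈ stabS S := by
    intro y
    constructor
    · exact hbS y
    · intro hy
      have := hbS _ hy
      have e : b * (b * y * b⁻¹) * b⁻¹ = y := by
        rw [hT.inv hb]
        calc b * (b * y * b) * b = (b * b) * y * (b * b) := by group
          _ = y := by rw [hT.sq hb, one_mul, mul_one]
      rwa [e] at this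
  set B : Set G := {z | ∃ k ∈ stabS S, z = k * a * k⁻¹} with hBdef
  have hBD : B ⊆ D := by
    rintro z ⟨k, -, rfl⟩
    exact hT.conj k a ha
  have hB : IsBlk B := by
    rintro g x ⟨k, hk, rfl⟩ ⟨k', hk', hkk'⟩ y ⟨k₂, hk₂, rfl⟩
    have hc : Commute (k'⁻¹ * g * k) a := by
      show k'⁻¹ * g * k * a = a * (k'⁻¹ * g * k)
      calc k'⁻¹ * g * k * a = k'⁻¹ * (g * (k * a * k⁻¹) * g⁻¹) * g * k := by group
        _ = k'⁻¹ * (k' * a * k'⁻¹) * g * k := by rw [hkk']
        _ = a * (k'⁻¹ * g * k) := by group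
    have hg : g ∈ stabS S := by
      have h1 := mul_mem (mul_mem hk' (hCs _ hc)) (inv_mem hk)
      have e : k' * (k'⁻¹ * g * k) * k⁻¹ = g := by group
      rwa [e] at h1
    exact ⟨g * k₂, mul_mem hg hk₂, by group⟩
  have haB : a ∈ B := ⟨1, one_mem _, by simp⟩
  have hbaB : b * a * b⁻¹ ∈ B := ⟨b, hbs, rfl⟩
  have hne' : a ≠ b * a * b⁻¹ := by
    intro he
    apply hba
    show b * a = a * b
    calc b * a = (b * a * b⁻¹) * b := by group
      _ = a * b := by rw [← he]
  have hDB := h.blk_trivial hBD hB haB hbaB hne'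
  obtain ⟨c, hc⟩ := hne
  obtain ⟨k, hk, hck⟩ := hDB (hS hc)
  apply haS
  rw [hk a, ← hck]
  exact hc

/-- **No commuting twins**. -/
theorem Ctx.twin_comm (h : Ctx D) {a b : G} (ha : a ∈ D) (hb : b ∈ D)
    (hab : ∀ e ∈ D, Commute e a ↔ Commute e b) : a = b := by
  by_contra hne
  have hT := h.tt
  set B : Set G := {y | y ∈ D ∧ ∀ e ∈ D, Commute e y ↔ Commute e a} with hBdef
  have hBD : B ⊆ D := fun y hy => hy.1
  have hB : IsBlk B := by
    rintro g x ⟨hx, hxa⟩ ⟨-, hgx⟩ y ⟨hy, hya⟩
    refine ⟨hT.conj g y hy, ?_⟩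
    intro e he
    have he' : g⁻¹ * e * g ∈ D := by
      have := hT.conj g⁻¹ e he
      rwa [inv_inv] at this
    have c1 : ∀ z : G, Commute e (g * z * g⁻¹) ↔ Commute (g⁻¹ * e * g) z := by
      intro z
      have := Commute.conj_iff g (a := g⁻¹ * e * g) (b := z)
      have e1 : g * (g⁻¹ * e * g) * g⁻¹ = e := by group
      rw [e1] at this
      exact this
    rw [c1 y, hya _ he', ← hxa _ he', ← c1 x, hgx e he]
  have haB : a ∈ B := ⟨ha, fun e _ => Iff.rfl⟩
  have hbB : b ∈ B := ⟨hb, fun e he => (hab e he).symm⟩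
  have hDB := h.blk_trivial hBD hB haB hbB hne
  obtain ⟨x, hx, hxa⟩ := h.exists_nc ha
  apply hxa
  exact ((hDB hx).2 x hx).mp (Commute.refl x)

/-! ### cardinalities -/

/-- the members of `D` commuting with `a` -/
def perp (D : Set G) (a : G) : Set G := {y | y ∈ D ∧ Commute a y}

/-- the members of `D` other than `a` commuting with `a` -/
def Dp (D : Set G) (a : G) : Set G := {y | y ∈ D ∧ y ≠ a ∧ Commute a y}

theorem T3.perp_conj (h : T3 D) (g a : G) :
    perp D (g * a * g⁻¹) = (fun y => g * y * g⁻¹) '' perp D a := by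
  ext z
  constructor
  · rintro ⟨hz, hc⟩
    refine ⟨g⁻¹ * z * g, ⟨?_, ?_⟩, by group⟩
    · have := h.conj g⁻¹ z hz
      rwa [inv_inv] at this
    · have := (Commute.conj_iff g⁻¹).mpr hc
      have e1 : g⁻¹ * (g * a * g⁻¹) * g⁻¹⁻¹ = a := by group
      have e2 : g⁻¹ * z * g⁻¹⁻¹ = g⁻¹ * z * g := by group
      rwa [e1, e2] at this
  · rintro ⟨y, ⟨hy, hc⟩, rfl⟩
    exact ⟨h.conj g y hy, (Commute.conj_iff g).mpr hc⟩

theorem T3.Dp_conj (h : T3 D) (g a : G) :
    Dp D (g * a * g⁻¹) = (fun y => g * y * g⁻¹) '' Dp D a := by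
  ext z
  constructor
  · rintro ⟨hz, hne, hc⟩
    refine ⟨g⁻¹ * z * g, ⟨?_, ?_, ?_⟩, by group⟩
    · have := h.conj g⁻¹ z hz
      rwa [inv_inv] at this
    · intro he
      apply hne
      calc z = g * (g⁻¹ * z * g) * g⁻¹ := by group
        _ = g * a * g⁻¹ := by rw [he]
    · have := (Commute.conj_iff g⁻¹).mpr hc
      have e1 : g⁻¹ * (g * a * g⁻¹) * g⁻¹⁻¹ = a := by group
      have e2 : g⁻¹ * z * g⁻¹⁻¹ = g⁻¹ * z * g := by group
      rwa [e1, e2] at this
  · rintro ⟨y, ⟨hy, hne, hc⟩, rfl⟩
    refine ⟨h.conj g y hy, ?_, (Commute.conj_iff g).mpr hc⟩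
    intro he
    apply hne
    have he' : g * y * g⁻¹ = g * a * g⁻¹ := he
    calc y = g⁻¹ * (g * y * g⁻¹) * g := by group
      _ = g⁻¹ * (g * a * g⁻¹) * g := by rw [he']
      _ = a := by group

theorem conj_injective (g : G) : Function.Injective (fun y : G => g * y * g⁻¹) := by
  intro y z hyz
  have : g * y * g⁻¹ = g * z * g⁻¹ := hyz
  calc y = g⁻¹ * (g * y * g⁻¹) * g := by group
    _ = g⁻¹ * (g * z * g⁻¹) * g := by rw [this]
    _ = z := by group

variable [Finite G]

theorem Ctx.perp_ncard (h : Ctx D) {a b : G} (ha : a ∈ D) (hb : b ∈ D) :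
    (perp D a).ncard = (perp D b).ncard := by
  obtain ⟨g, rfl⟩ := h.trans a ha b hb
  rw [h.tt.perp_conj, Set.ncard_image_of_injective _ (conj_injective g)]

theorem Ctx.Dp_ncard (h : Ctx D) {a b : G} (ha : a ∈ D) (hb : b ∈ D) :
    (Dp D a).ncard = (Dp D b).ncard := by
  obtain ⟨g, rfl⟩ := h.trans a ha b hb
  rw [h.tt.Dp_conj, Set.ncard_image_of_injective _ (conj_injective g)]

theorem Ctx.perp_eq_of_subset (h : Ctx D) {a b : G} (ha : a ∈ D) (hb : b ∈ D)
    (hsub : perp D a ⊆ perp D b) : perp D a = perp D b :=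
  Set.eq_of_subset_of_ncard_le hsub (le_of_eq (h.perp_ncard hb ha)) (Set.toFinite _)

theorem Ctx.Dp_eq_of_subset (h : Ctx D) {a b : G} (ha : a ∈ D) (hb : b ∈ D)
    (hsub : Dp D a ⊆ Dp D b) : Dp D a = Dp D b :=
  Set.eq_of_subset_of_ncard_le hsub (le_of_eq (h.Dp_ncard hb ha)) (Set.toFinite _)

/-- **No commuting twins**, subset form. -/
theorem Ctx.perp_subset (h : Ctx D) {a b : G} (ha : a ∈ D) (hb : b ∈ D)
    (hsub : perp D a ⊆ perp D b) : a = b := by
  have heq := h.perp_eq_of_subset ha hb hsub
  apply h.twin_comm ha hb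
  intro e he
  constructor
  · intro hc
    have : e ∈ perp D a := ⟨he, hc.symm⟩
    rw [heq] at this
    exact this.2.symm
  · intro hc
    have : e ∈ perp D b := ⟨he, hc.symm⟩
    rw [← heq] at this
    exact this.2.symm

end Cfsg.Agent.Lib.Helper1.FR3
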