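import Mathlib
import Cfsg.Agent.Lib.Helper1.FR3

/-!
Helper1: Fischer's rank three theorem, part 4: the commuting graph on the class has no
non-trivial modules (homogeneous sets).
-/

set_option autoImplicit false
set_option linter.unusedSectionVars false
set_option linter.unusedVariables false

open Subgroup
open scoped commutatorElement

namespace Cfsg.Agent.Lib.Helper1.FR3

universe u

variable {G : Type u} [Group G] {D M M' : Set G}

/-- a module of the commuting graph on `D` -/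
def IsMod (D M : Set G) : Prop :=
  M ⊆ D ∧ ∀ y ∈ D, y ∉ M → ∀ u ∈ M, ∀ v ∈ M, (Commute y u ↔ Commute y v)

/-- no two distinct members of `D` are twins in the commuting graph -/
def NoTwin (D : Set G) : Prop :=
  ∀ u ∈ D, ∀ v ∈ D, u ≠ v → ∃ y ∈ D, y ≠ u ∧ y ≠ v ∧ ¬ (Commute y u ↔ Commute y v)

theorem isMod_cjB (hT : T3 D) (hM : IsMod D M) (g : G) : IsMod D (cjB g M) := by
  refine ⟨cjB_subset hT hM.1 g, ?_⟩
  intro y hy hyM u hu v hv
  rw [mem_cjB] at hyM hu hv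
  have hy' : g⁻¹ * y * g ∈ D := by
    have := hT.conj g⁻¹ y hy
    rwa [inv_inv] at this
  have key := hM.2 _ hy' hyM _ hu _ hv
  have c1 : ∀ z : G, Commute (g⁻¹ * y * g) (g⁻¹ * z * g) ↔ Commute y z := by
    intro z
    have := Commute.conj_iff g⁻¹ (a := y) (b := z)
    rwa [inv_inv] at this
  rw [c1, c1] at key
  exact key

theorem isMod_inter (hM : IsMod D M) (hM' : IsMod D M') : IsMod D (M ∩ M') := by
  refine ⟨fun z hz => hM.1 hz.1, ?_⟩
  intro y hy hyM u hu v hv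
  by_cases h1 : y ∈ M
  · have h2 : y ∉ M' := fun hh => hyM ⟨h1, hh⟩
    exact hM'.2 y hy h2 u hu.2 v hv.2
  · exact hM.2 y hy h1 u hu.1 v hv.1

theorem isMod_diff (hM : IsMod D M) (hM' : IsMod D M') {z : G} (hz : z ∈ M') (hzM : z ∉ M) :
    IsMod D (M \ M') := by
  refine ⟨fun w hw => hM.1 hw.1, ?_⟩
  intro y hy hyM u hu v hv
  by_cases h1 : y ∈ M
  · have h2 : y ∈ M' := by
      by_contra hh
      exact hyM ⟨h1, hh⟩
    have hzD : z ∈ D := hM'.1 hz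
    have k1 := hM.2 z hzD hzM y h1 u hu.1
    have k2 := hM.2 z hzD hzM y h1 v hv.1
    have k3 := hM'.2 u (hM.1 hu.1) hu.2 y h2 z hz
    have k4 := hM'.2 v (hM.1 hv.1) hv.2 y h2 z hz
    constructor
    · intro hc
      have a1 : Commute u z := k3.mp hc.symm
      have a2 : Commute z y := k1.mpr a1.symm
      have a3 : Commute z v := k2.mp a2
      exact (k4.mpr a3.symm).symm
    · intro hc
      have a1 : Commute v z := k4.mp hc.symm
      have a2 : Commute z y := k2.mpr a1.symm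
      have a3 : Commute z u := k1.mp a2
      exact (k3.mpr a3.symm).symm
  · exact hM.2 y hy h1 u hu.1 v hv.1

theorem cjB_eq_image (g : G) (M : Set G) : cjB g M = (fun y => g * y * g⁻¹) '' M := by
  ext z
  constructor
  · intro hz
    exact ⟨g⁻¹ * z * g, hz, by group⟩
  · rintro ⟨m, hm, rfl⟩
    exact conj_mem_cjB hm

variable [Finite G]

theorem ncard_cjB (g : G) (M : Set G) : (cjB g M).ncard = M.ncard := by
  rw [cjB_eq_image, Set.ncard_image_of_injective _ (conj_injective g)]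

/-- **Module lemma**: a module with two distinct members is the whole class. -/
theorem Ctx.mod_trivial (h : Ctx D) (hNT : NoTwin D) (hM : IsMod D M) {u v : G} (hu : u ∈ M)
    (hv : v ∈ M) (huv : u ≠ v) : D ⊆ M := by
  classical
  by_contra hcon
  rw [Set.not_subset] at hcon
  obtain ⟨e, heD, heM⟩ := hcon
  let P : ℕ → Prop := fun n => ∃ M : Set G, IsMod D M ∧ (∃ u ∈ M, ∃ v ∈ M, u ≠ v) ∧
    (∃ e ∈ D, e ∉ M) ∧ M.ncard = n
  have hP : ∃ n, P n := ⟨M.ncard, M, hM, ⟨u, hu, v, hv, huv⟩, ⟨e, heD, heM⟩, rfl⟩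
  obtain ⟨M₀, hM₀, ⟨u₀, hu₀, v₀, hv₀, huv₀⟩, ⟨e₀, he₀D, he₀M⟩, hn₀⟩ := Nat.find_spec hP
  have hmin : ∀ M₁ : Set G, IsMod D M₁ → (∃ u ∈ M₁, ∃ v ∈ M₁, u ≠ v) → M₁ ⊆ M₀ → M₁ ≠ M₀ → False := by
    intro M₁ hM₁ h2 hsub hne
    have hlt : M₁.ncard < M₀.ncard :=
      Set.ncard_lt_ncard (lt_of_le_of_ne hsub hne) (Set.toFinite _)
    rw [hn₀] at hlt
    exact Nat.find_min hP hlt ⟨M₁, hM₁, h2, ⟨e₀, he₀D, fun hh => he₀M (hsub hh)⟩, rfl⟩
  -- a third member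
  have hthird : ∃ t ∈ M₀, t ≠ u₀ ∧ t ≠ v₀ := by
    by_contra hno
    push Not at hno
    obtain ⟨y, hy, hyu, hyv, hiff⟩ := hNT u₀ (hM₀.1 hu₀) v₀ (hM₀.1 hv₀) huv₀
    have hyM : y ∉ M₀ := by
      intro hh
      by_cases h1 : y = u₀
      · exact hyu h1
      · exact hyv (hno y hh h1)
    exact hiff (hM₀.2 y hy hyM u₀ hu₀ v₀ hv₀)
  obtain ⟨t, ht, htu, htv⟩ := hthird
  -- `M₀` is a block
  have hblk : IsBlk M₀ := by
    intro g x hx hgx y hy
    by_contra hgy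
    have hMg : IsMod D (cjB g M₀) := isMod_cjB h.tt hM₀ g
    have hx' : g * x * g⁻¹ ∈ cjB g M₀ := conj_mem_cjB hx
    have hy' : g * y * g⁻¹ ∈ cjB g M₀ := conj_mem_cjB hy
    have hw : ∃ w ∈ M₀, w ∉ cjB g M₀ := by
      by_contra hno
      push Not at hno
      have hsub : M₀ ⊆ cjB g M₀ := hno
      have heq : M₀ = cjB g M₀ :=
        Set.eq_of_subset_of_ncard_le hsub (le_of_eq (ncard_cjB g M₀)) (Set.toFinite _)
      rw [← heq] at hy'
      exact hgy hy'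
    obtain ⟨w, hwM, hwg⟩ := hw
    have hI : IsMod D (M₀ ∩ cjB g M₀) := isMod_inter hM₀ hMg
    have hDf : IsMod D (M₀ \ cjB g M₀) := isMod_diff hM₀ hMg hy' hgy
    have hIne : M₀ ∩ cjB g M₀ ≠ M₀ := by
      intro he
      have : w ∈ M₀ ∩ cjB g M₀ := by rw [he]; exact hwM
      exact hwg this.2
    have hDne : M₀ \ cjB g M₀ ≠ M₀ := by
      intro he
      have : g * x * g⁻¹ ∈ M₀ \ cjB g M₀ := by rw [he]; exact hgx
      exact this.2 hx'
    -- pigeonhole on `u₀, v₀, t`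
    by_cases h1 : u₀ ∈ cjB g M₀
    · by_cases h2 : v₀ ∈ cjB g M₀
      · exact hmin _ hI ⟨u₀, ⟨hu₀, h1⟩, v₀, ⟨hv₀, h2⟩, huv₀⟩ Set.inter_subset_left hIne
      · by_cases h3 : t ∈ cjB g M₀
        · exact hmin _ hI ⟨t, ⟨ht, h3⟩, u₀, ⟨hu₀, h1⟩, htu⟩ Set.inter_subset_left hIne
        · exact hmin _ hDf ⟨t, ⟨ht, h3⟩, v₀, ⟨hv₀, h2⟩, htv⟩ Set.diff_subset hDne
    · by_cases h2 : v₀ ∈ cjB g M₀
      · by_cases h3 : t ∈ cjB g M₀
        · exact hmin _ hI ⟨t, ⟨ht, h3⟩, v₀, ⟨hv₀, h2⟩, htv⟩ Set.inter_subset_left hIne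
        · exact hmin _ hDf ⟨t, ⟨ht, h3⟩, u₀, ⟨hu₀, h1⟩, htu⟩ Set.diff_subset hDne
      · exact hmin _ hDf ⟨u₀, ⟨hu₀, h1⟩, v₀, ⟨hv₀, h2⟩, huv₀⟩ Set.diff_subset hDne
  exact he₀M (h.blk_trivial hM₀.1 hblk hu₀ hv₀ huv₀ he₀D)

end Cfsg.Agent.Lib.Helper1.FR3
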