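import Mathlib
import Cfsg.Agent.Lib.Helper1.FR4

/-!
Helper1: Fischer's rank three theorem, part 5: the centraliser of a member `a` of the class is
transitive on the members not commuting with `a`.
-/

set_option autoImplicit false
set_option linter.unusedSectionVars false
set_option linter.unusedVariables false

open Subgroup
open scoped commutatorElement

namespace Cfsg.Agent.Lib.Helper1.FR3

universe u

variable {G : Type u} [Group G] {D : Set G}

/-- the members of `D` commuting with both `a` and `y` -/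
def EE (D : Set G) (a y : G) : Set G := {e | e ∈ D ∧ Commute e a ∧ Commute e y}

/-- the members of `D` not commuting with `a` -/
def Ap (D : Set G) (a : G) : Set G := {y | y ∈ D ∧ ¬ Commute a y}

theorem T3.EE_conj (h : T3 D) {g a : G} (hg : Commute g a) (y : G) :
    EE D a (g * y * g⁻¹) = (fun z => g * z * g⁻¹) '' EE D a y := by
  have hga : g * a * g⁻¹ = a := by rw [hg.eq, mul_inv_cancel_right]
  ext z
  constructor
  · rintro ⟨hz, hza, hzy⟩
    refine ⟨g⁻¹ * z * g, ⟨?_, ?_, ?_⟩, by group⟩
    · have := h.conj g⁻¹ z hz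
      rwa [inv_inv] at this
    · have := (Commute.conj_iff g⁻¹).mpr hza
      have e1 : g⁻¹ * a * g⁻¹⁻¹ = a := by
        calc g⁻¹ * a * g⁻¹⁻¹ = g⁻¹ * (g * a * g⁻¹) * g := by rw [hga, inv_inv]
          _ = a := by group
      rw [e1, inv_inv] at this
      exact this
    · have := (Commute.conj_iff g⁻¹).mpr hzy
      have e1 : g⁻¹ * (g * y * g⁻¹) * g⁻¹⁻¹ = y := by group
      rw [e1, inv_inv] at this
      exact this
  · rintro ⟨w, ⟨hw, hwa, hwy⟩, rfl⟩
    refine ⟨h.conj g w hw, ?_, (Commute.conj_iff g).mpr hwy⟩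
    have := (Commute.conj_iff g).mpr hwa
    rwa [hga] at this

theorem T3.fact2 (h : T3 D) {a b c : G} (ha : a ∈ D) (hb : b ∈ D) (hc : c ∈ D)
    (hab : ¬ Commute a b) (hac : ¬ Commute a c) (hno : ¬ OP a b a c) :
    ¬ Commute b c ∧ ¬ Commute a (b * c * b) := by
  have hbc : ¬ Commute b c := fun hh => hno (h.OP_fact1 ha hb hc hab hac hh)
  refine ⟨hbc, ?_⟩
  intro hcomm
  apply hno
  have hi : (b * c * b)⁻¹ = b * c * b := h.inv (h.cj hb hc)
  refine ⟨b * c * b, ?_, ?_⟩
  · rw [hcomm.symm.eq, mul_inv_cancel_right]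
  · rw [hi]; exact h.third_swap hb hc hbc

theorem T3.alpha (h : T3 D) {a b c e : G} (ha : a ∈ D) (hb : b ∈ D) (hc : c ∈ D) (he : e ∈ D)
    (hab : ¬ Commute a b) (hac : ¬ Commute a c) (hno : ¬ OP a b a c)
    (hea : Commute e a) (heb : Commute e b) (hec : ¬ Commute e c) : OP a (b * c * b) a c := by
  obtain ⟨hbc, hau⟩ := h.fact2 ha hb hc hab hac hno
  have hee := h.sq he
  have hei := h.inv he
  have hbr : b * c * b = c * b * c := h.braid hb hc hbc
  have hvD : e * c * e ∈ D := h.cj he hc
  have hav : ¬ Commute a (e * c * e) := by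
    intro hh
    have h1 := hh.symm
    rw [commute_cj_iff hee] at h1
    have e1 : e * a * e = a := by
      calc e * a * e = a * e * e := by rw [hea.eq]
        _ = a := by rw [mul_assoc, hee, mul_one]
    rw [e1] at h1
    exact hac h1.symm
  have huv : Commute (b * c * b) (e * c * e) := by
    rw [hbr]
    exact h.string_cross hb hc he heb.symm (fun hh => hec hh.symm)
  have h1 : OP a (b * c * b) a (e * c * e) := h.OP_fact1 ha (h.cj hb hc) hvD hau hav huv
  have h2 : OP a (e * c * e) a c := by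
    refine ⟨e, ?_, ?_⟩
    · rw [hea.eq, mul_inv_cancel_right]
    · rw [hei]
      calc e * (e * c * e) * e = (e * e) * c * (e * e) := by group
        _ = c := by rw [hee, one_mul, mul_one]
  exact h1.trans h2

theorem T3.comp (h : T3 D) {a b c : G} (ha : a ∈ D) (hb : b ∈ D) (hc : c ∈ D)
    (hab : ¬ Commute a b) (hac : ¬ Commute a c) (hno : ¬ OP a b a c) :
    EE D a b ⊆ EE D a c ∨ EE D a c ⊆ EE D a b := by
  by_contra hcon
  push Not at hcon
  obtain ⟨h1, h2⟩ := hcon
  rw [Set.not_subset] at h1 h2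
  obtain ⟨e, ⟨heD, hea, heb⟩, hec⟩ := h1
  obtain ⟨e', ⟨he'D, he'a, he'c⟩, he'b⟩ := h2
  have hec' : ¬ Commute e c := fun hh => hec ⟨heD, hea, hh⟩
  have he'b' : ¬ Commute e' b := fun hh => he'b ⟨he'D, he'a, hh⟩
  have hno' : ¬ OP a c a b := fun hh => hno hh.symm
  obtain ⟨hbc, -⟩ := h.fact2 ha hb hc hab hac hno
  have k1 := h.alpha ha hb hc heD hab hac hno hea heb hec'
  have k2 := h.alpha ha hc hb he'D hac hab hno' he'a he'c he'b'
  rw [← h.braid hb hc hbc] at k2
  exact hno (k2.symm.trans k1)

variable [Finite G]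

theorem T3.EE_ncard_of_OP (h : T3 D) {a y y' : G} (hop : OP a y a y') :
    (EE D a y).ncard = (EE D a y').ncard := by
  obtain ⟨g, hga, rfl⟩ := hop
  have hg : Commute g a := by
    show g * a = a * g
    calc g * a = (g * a * g⁻¹) * g := by group
      _ = a * g := by rw [hga]
  rw [h.EE_conj hg, Set.ncard_image_of_injective _ (conj_injective g)]

/-- the number of common commuting partners is the same for all members not commuting with `a` -/
theorem Ctx.mu_const (h : Ctx D) {a b c : G} (ha : a ∈ D) (hb : b ∈ Ap D a) (hc : c ∈ Ap D a) :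
    (EE D a b).ncard = (EE D a c).ncard := by
  have hT := h.tt
  obtain ⟨b₀, hb₀A, hmax⟩ := Set.exists_max_image (Ap D a) (fun y => (EE D a y).ncard)
    (Set.toFinite _) ⟨b, hb⟩
  have key : ∀ y ∈ Ap D a, (EE D a y).ncard = (EE D a b₀).ncard := by
    by_contra hcon
    push Not at hcon
    obtain ⟨c₀, hc₀A, hc₀⟩ := hcon
    have hc₀lt : (EE D a c₀).ncard < (EE D a b₀).ncard := lt_of_le_of_ne (hmax c₀ hc₀A) hc₀
    set S : Set G := {y | y ∈ Ap D a ∧ (EE D a y).ncard < (EE D a b₀).ncard} with hS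
    have hSD : S ⊆ D := fun y hy => hy.1.1
    have haS : a ∉ S := fun hh => hh.1.2 (Commute.refl a)
    have hSne : S.Nonempty := ⟨c₀, hc₀A, hc₀lt⟩
    have hC : ∀ g : G, Commute g a → ∀ y ∈ S, g * y * g⁻¹ ∈ S := by
      rintro g hg y ⟨⟨hyD, hya⟩, hylt⟩
      have hga : g * a * g⁻¹ = a := by rw [hg.eq, mul_inv_cancel_right]
      refine ⟨⟨hT.conj g y hyD, ?_⟩, ?_⟩
      · intro hh
        apply hya
        have := (Commute.conj_iff g (a := a) (b := y))
        rw [hga] at this
        exact this.mp hh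
      · have : (EE D a (g * y * g⁻¹)).ncard = (EE D a y).ncard :=
          (hT.EE_ncard_of_OP ⟨g, hga, rfl⟩).symm
        rw [this]; exact hylt
    have hb₀D := hb₀A.1
    have hb₀a : ¬ Commute b₀ a := fun hh => hb₀A.2 hh.symm
    apply h.no_invariant ha hSD haS hSne hC hb₀D hb₀a
    rintro y ⟨⟨hyD, hya⟩, hylt⟩
    by_contra hnot
    rw [hT.inv hb₀D] at hnot
    have hno : ¬ OP a b₀ a y := by
      intro hop
      have := hT.EE_ncard_of_OP hop
      omega
    obtain ⟨hby, hau⟩ := hT.fact2 ha hb₀D hyD hb₀A.2 hya hno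
    have huA : b₀ * y * b₀ ∈ Ap D a := ⟨hT.cj hb₀D hyD, hau⟩
    have hueq : (EE D a (b₀ * y * b₀)).ncard = (EE D a b₀).ncard := by
      have h1 := hmax _ huA
      have h2 : ¬ (EE D a (b₀ * y * b₀)).ncard < (EE D a b₀).ncard := fun hh => hnot ⟨huA, hh⟩
      have h1' : (EE D a (b₀ * y * b₀)).ncard ≤ (EE D a b₀).ncard := h1
      omega
    have hsub : EE D a b₀ ⊆ EE D a y := by
      by_contra hns
      rw [Set.not_subset] at hns
      obtain ⟨e, ⟨heD, hea, heb⟩, hey⟩ := hns
      have hey' : ¬ Commute e y := fun hh => hey ⟨heD, hea, hh⟩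
      have hop := hT.alpha ha hb₀D hyD heD hb₀A.2 hya hno hea heb hey'
      have := hT.EE_ncard_of_OP hop
      omega
    have := Set.ncard_le_ncard hsub (Set.toFinite _)
    omega
  rw [key b hb, key c hc]

/-- **(Q)**: members not commuting with `a` in different `C(a)`-orbits have the same common
commuting partners with `a`. -/
theorem Ctx.Q (h : Ctx D) {a b c : G} (ha : a ∈ D) (hb : b ∈ D) (hc : c ∈ D)
    (hab : ¬ Commute a b) (hac : ¬ Commute a c) (hno : ¬ OP a b a c) :
    EE D a b = EE D a c := by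
  have hcard := h.mu_const ha (b := b) (c := c) ⟨hb, hab⟩ ⟨hc, hac⟩
  rcases h.tt.comp ha hb hc hab hac hno with hs | hs
  · exact Set.eq_of_subset_of_ncard_le hs (le_of_eq hcard.symm) (Set.toFinite _)
  · exact (Set.eq_of_subset_of_ncard_le hs (le_of_eq hcard) (Set.toFinite _)).symm

/-- **Transitivity on the non-commuting members.** -/
theorem Ctx.A_trans (h : Ctx D)
    (hW : ∀ a ∈ D, ∀ b ∈ D, Dp D a = Dp D b → a = b) {a b c : G} (ha : a ∈ D) (hb : b ∈ D)
    (hc : c ∈ D) (hab : ¬ Commute a b) (hac : ¬ Commute a c) : OP a b a c := by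
  by_contra hno
  have hT := h.tt
  have hQ := h.Q ha hb hc hab hac hno
  obtain ⟨hbc, -⟩ := hT.fact2 ha hb hc hab hac hno
  -- step (i)
  have hF : ∃ y ∈ D, y ≠ a ∧ Commute a y ∧ ¬ Commute y b := by
    by_contra hcon
    push Not at hcon
    have hsub : Dp D a ⊆ Dp D b := by
      rintro y ⟨hy, hya, hay⟩
      refine ⟨hy, ?_, (hcon y hy hya hay).symm⟩
      intro he
      rw [he] at hay
      exact hab hay
    have := hW a ha b hb (h.Dp_eq_of_subset ha hb hsub)
    rw [this] at hab
    exact hab (Commute.refl b)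
  -- properties of members of `F`
  have hFc : ∀ y ∈ D, Commute a y → ¬ Commute y b → ¬ Commute y c := by
    intro y hy hay hyb hyc
    have : y ∈ EE D a c := ⟨hy, hay.symm, hyc⟩
    rw [← hQ] at this
    exact hyb this.2.2
  have hFno : ∀ y ∈ D, Commute a y → ¬ Commute y b → ¬ OP y b y c := by
    intro y hy hay hyb hop
    have hyc := hFc y hy hay hyb
    have k1 : OP b a b y := hT.OP_fact1 hb ha hy (fun hh => hab hh.symm) (fun hh => hyb hh.symm) hay
    have k2 : OP c a c y := hT.OP_fact1 hc ha hy (fun hh => hac hh.symm) (fun hh => hyc hh.symm) hay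
    exact hno ((k1.swap.trans hop).trans k2.swap.symm)
  -- step (ii)
  have hii : ∀ z ∈ D, Commute z a → Commute z b → ∀ y ∈ D, Commute a y → ¬ Commute y b →
      Commute z y := by
    intro z hz hza hzb y hy hay hyb
    have hyc := hFc y hy hay hyb
    have hzc : Commute z c := by
      have : z ∈ EE D a b := ⟨hz, hza, hzb⟩
      rw [hQ] at this
      exact this.2.2
    have hby : ¬ Commute b y := fun hh => hyb hh.symm
    have hcy : ¬ Commute c y := fun hh => hyc hh.symm
    by_cases hop1 : OP b c b y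
    · have hop2 : ¬ OP c b c y := by
        intro hop2
        have f1 : OP b a b y := hT.OP_fact1 hb ha hy (fun hh => hab hh.symm) hby hay
        have f2 : OP c a c y := hT.OP_fact1 hc ha hy (fun hh => hac hh.symm) hcy hay
        have A : OP c b a b := (hop1.trans f1.symm).swap
        have B : OP b c a c := (hop2.trans f2.symm).swap
        have fl : OP c b b c := hT.OP_flip hc hb (fun hh => hbc hh.symm)
        exact hno ((A.symm.trans fl).trans B)
      have hq := h.Q hc hb hy (fun hh => hbc hh.symm) hcy hop2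
      have : z ∈ EE D c b := ⟨hz, hzc, hzb⟩
      rw [hq] at this
      exact this.2.2
    · have hq := h.Q hb hc hy hbc hby hop1
      have : z ∈ EE D b c := ⟨hz, hzb, hzc⟩
      rw [hq] at this
      exact this.2.2
  -- step (iii)
  have hiii : ∀ y ∈ D, Commute a y → ¬ Commute y b → ∀ z ∈ D, Commute a z → ¬ Commute z b →
      Commute y z := by
    intro y hy hay hyb z hz haz hzb
    by_contra hyz
    have hyc := hFc y hy hay hyb
    have k1 : OP y z y b := by
      by_contra hk
      have hq := h.Q hy hz hb hyz hyb hk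
      have : a ∈ EE D y z := ⟨ha, hay, haz⟩
      rw [hq] at this
      exact hab this.2.2
    have k2 : OP y z y c := by
      by_contra hk
      have hq := h.Q hy hz hc hyz hyc hk
      have : a ∈ EE D y z := ⟨ha, hay, haz⟩
      rw [hq] at this
      exact hac this.2.2
    exact hFno y hy hay hyb (k1.symm.trans k2)
  -- step (iv)
  obtain ⟨y, hy, hya, hay, hyb⟩ := hF
  apply hya
  symm
  apply h.perp_subset ha hy
  rintro w ⟨hw, haw⟩
  refine ⟨hw, ?_⟩
  by_cases hwb : Commute w b
  · exact (hii w hw haw.symm hwb y hy hay hyb).symm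
  · exact hiii y hy hay hyb w hw haw hwb

end Cfsg.Agent.Lib.Helper1.FR3
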