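import Mathlib
import Cfsg.Agent.Lib.Helper1.FR5

/-!
Helper1: Fischer's rank three theorem, part 6: the centraliser of a member `a` of the class is
transitive on the other members commuting with `a`.
-/

set_option autoImplicit false
set_option linter.unusedSectionVars false
set_option linter.unusedVariables false

open Subgroup
open scoped commutatorElement

namespace Cfsg.Agent.Lib.Helper1.FR3

universe u

variable {G : Type u} [Group G] {D : Set G}

/-! ### word identities for the diagram `D₄` -/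

theorem T3.d4_comm (h : T3 D) {a x b c : G} (ha : a ∈ D) (hx : x ∈ D) (hb : b ∈ D) (hc : c ∈ D)
    (hab : Commute a b) (hac : Commute a c) (hbc : Commute b c) (hax : ¬ Commute a x)
    (hbx : ¬ Commute b x) (hcx : ¬ Commute c x) :
    Commute (x * (b * c) * x * a * (x * (b * c) * x)) a := by
  have haa := h.sq ha
  have hxx := h.sq hx
  have hbb := h.sq hb
  have hcc := h.sq hc
  have huD : x * a * x ∈ D := h.cj hx ha
  -- `u = x a x` does not commute with `b`, `c`
  have key : ∀ t ∈ D, Commute a t → ¬ Commute t x → ¬ Commute t (x * a * x) := by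
    intro t ht hat htx hh
    have h1 := hh.symm
    rw [commute_cj_iff hxx, h.braid hx ht (fun k => htx k.symm)] at h1
    have h2 := h1.symm
    rw [commute_cj_iff (h.sq ht)] at h2
    have e : t * a * t = a := by
      calc t * a * t = a * t * t := by rw [hat.eq]
        _ = a := by rw [mul_assoc, h.sq ht, mul_one]
    rw [e] at h2
    exact hax h2.symm
  have hbu := key b hb hab hbx
  have hcu := key c hc hac hcx
  have hs := h.string_comm hb huD hc hbc hbu hcu
  -- conjugate by `x`
  have h1 : Commute (x * (b * c) * x) (a * (x * (b * c) * x) * a) := by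
    rw [commute_cj_iff hxx]
    have e : x * (a * (x * (b * c) * x) * a) * x = (x * a * x) * (b * c) * (x * a * x) := by group
    rw [e]
    exact hs
  show x * (b * c) * x * a * (x * (b * c) * x) * a = a * (x * (b * c) * x * a * (x * (b * c) * x))
  calc x * (b * c) * x * a * (x * (b * c) * x) * a
      = (x * (b * c) * x) * (a * (x * (b * c) * x) * a) := by group
    _ = (a * (x * (b * c) * x) * a) * (x * (b * c) * x) := h1.eq
    _ = a * (x * (b * c) * x * a * (x * (b * c) * x)) := by group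

theorem T3.d4_recover (h : T3 D) {a x b c : G} (ha : a ∈ D) (hx : x ∈ D) (hb : b ∈ D)
    (hc : c ∈ D) (hab : Commute a b) (hac : Commute a c) (hbc : Commute b c)
    (hax : ¬ Commute a x) (hbx : ¬ Commute b x) :
    (x * (a * c) * x) * (x * (b * c) * x * a * (x * (b * c) * x)) * (x * (a * c) * x) = b := by
  have haa := h.sq ha
  have hxx := h.sq hx
  have hbb := h.sq hb
  have hcc := h.sq hc
  have e1 : (a * c) * (b * c) = a * b := by
    calc (a * c) * (b * c) = a * (c * b) * c := by group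
      _ = a * (b * c) * c := by rw [hbc.eq]
      _ = a * b := by rw [mul_assoc, mul_assoc, hcc, mul_one]
  have e2 : (b * c) * (a * c) = b * a := by
    calc (b * c) * (a * c) = b * (c * a) * c := by group
      _ = b * (a * c) * c := by rw [hac.eq]
      _ = b * a := by rw [mul_assoc, mul_assoc, hcc, mul_one]
  have e3 : x * a * x = a * x * a := (h.braid ha hx hax).symm
  have e4 : a * b * a = b := by
    calc a * b * a = b * a * a := by rw [hab.eq]
      _ = b := by rw [mul_assoc, haa, mul_one]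
  have e5 : b * x * b = x * b * x := h.braid hb hx hbx
  calc (x * (a * c) * x) * (x * (b * c) * x * a * (x * (b * c) * x)) * (x * (a * c) * x)
      = x * (a * c) * (x * x) * (b * c) * (x * a * x) * (b * c) * (x * x) * (a * c) * x := by group
    _ = x * ((a * c) * (b * c)) * (x * a * x) * ((b * c) * (a * c)) * x := by
        rw [hxx]; group
    _ = x * (a * b) * (a * x * a) * (b * a) * x := by rw [e1, e2, e3]
    _ = x * (a * b * a) * x * (a * b * a) * x := by group
    _ = x * (b * x * b) * x := by rw [e4]; group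
    _ = x * (x * b * x) * x := by rw [e5]
    _ = (x * x) * b * (x * x) := by group
    _ = b := by rw [hxx, one_mul, mul_one]

/-! ### transitivity on the commuting members -/

theorem OP.commute_right {a y y' : G} (hop : OP a y a y') (hay : Commute a y) : Commute a y' := by
  obtain ⟨g, hga, rfl⟩ := hop
  have := (Commute.conj_iff g).mpr hay
  rwa [hga] at this

theorem OP.ne_right {a y y' : G} (hop : OP a y a y') (hya : y ≠ a) : y' ≠ a := by
  obtain ⟨g, hga, rfl⟩ := hop
  intro he
  apply hya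
  calc y = g⁻¹ * (g * y * g⁻¹) * g := by group
    _ = g⁻¹ * (g * a * g⁻¹) * g := by rw [he, hga]
    _ = a := by group

/-- non-commuting members of the centraliser of `a` are conjugate in it -/
theorem T3.orbcomm (h : T3 D) {a y y' : G} (hy : y ∈ D) (hy' : y' ∈ D) (hay : Commute a y)
    (hay' : Commute a y') (hnc : ¬ Commute y y') : OP a y a y' := by
  have hi : (y * y' * y)⁻¹ = y * y' * y := h.inv (h.cj hy hy')
  refine ⟨y * y' * y, ?_, ?_⟩
  · have hc : Commute (y * y' * y) a := ((hay.symm.mul_left hay'.symm).mul_left hay.symm)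
    rw [hc.eq, mul_inv_cancel_right]
  · rw [hi]; exact h.third_swap hy hy' hnc

variable [Finite G]

theorem Ctx.noTwin (h : Ctx D) (hW : ∀ a ∈ D, ∀ b ∈ D, Dp D a = Dp D b → a = b) : NoTwin D := by
  intro u hu v hv huv
  by_contra hcon
  push Not at hcon
  apply huv
  by_cases hc : Commute u v
  · apply h.perp_subset hu hv
    rintro w ⟨hw, huw⟩
    refine ⟨hw, ?_⟩
    by_cases h1 : w = u
    · rw [h1]; exact hc.symm
    · by_cases h2 : w = v
      · rw [h2]
      · exact ((hcon w hw h1 h2).mp huw.symm).symm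
  · apply hW u hu v hv
    apply h.Dp_eq_of_subset hu hv
    rintro w ⟨hw, hwu, huw⟩
    have hwv : w ≠ v := by
      intro he
      rw [he] at huw
      exact hc huw
    exact ⟨hw, hwv, ((hcon w hw hwu hwv).mp huw.symm).symm⟩

/-- for every orbit on the commuting members there is a configuration `(x, b₁, d)` -/
theorem Ctx.exists_triple (h : Ctx D) (hW : ∀ a ∈ D, ∀ b ∈ D, Dp D a = Dp D b → a = b)
    {a β : G} (ha : a ∈ D) (hβ : β ∈ D) (hβa : β ≠ a) (haβ : Commute a β) :
    ∃ x ∈ D, ¬ Commute a x ∧ ∃ b₁ ∈ D, OP a β a b₁ ∧ ¬ Commute b₁ x ∧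
      ∃ d ∈ D, Commute d a ∧ Commute d x ∧ ¬ Commute d b₁ := by
  by_contra hcon
  push Not at hcon
  have hT := h.tt
  have hH : ∀ x ∈ D, ¬ Commute a x → ∀ b₁ ∈ D, OP a β a b₁ → ¬ Commute b₁ x →
      ∀ d ∈ D, Commute d a → Commute d x → Commute d b₁ := hcon
  set Λ : Set G := {y | y ∈ D ∧ OP a β a y ∧ ∀ x ∈ D, ¬ Commute a x → (Commute x y ↔ Commute x β)}
    with hΛ
  -- two members of the orbit which do not commute see the same non-commuting members
  have hsame : ∀ y ∈ D, OP a β a y → ∀ w ∈ D, OP a β a w → ¬ Commute w y →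
      ∀ x ∈ D, ¬ Commute a x → (Commute x w ↔ Commute x y) := by
    intro y hy hyo w hw hwo hwy x hx hax
    have hay := hyo.commute_right haβ
    have haw := hwo.commute_right haβ
    constructor
    · intro hxw
      by_contra hxy
      exact hwy (hH x hx hax y hy hyo (fun hh => hxy hh.symm) w hw haw.symm hxw.symm)
    · intro hxy
      by_contra hxw
      exact hwy (hH x hx hax w hw hwo (fun hh => hxw hh.symm) y hy hay.symm hxy.symm).symm
  have hMod : IsMod D Λ := by
    refine ⟨fun y hy => hy.1, ?_⟩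
    rintro w hw hwΛ y₁ ⟨hy₁, hy₁o, hy₁x⟩ y₂ ⟨hy₂, hy₂o, hy₂x⟩
    by_cases hwa : Commute a w
    · have hall : ∀ y ∈ D, OP a β a y → (∀ x ∈ D, ¬ Commute a x → (Commute x y ↔ Commute x β)) →
          Commute w y := by
        intro y hy hyo hyx
        by_contra hwy
        have hay := hyo.commute_right haβ
        have hwo : OP a β a w := hyo.trans (hT.orbcomm hw hy hwa hay hwy).symm
        apply hwΛ
        refine ⟨hw, hwo, ?_⟩
        intro x hx hax
        rw [hsame y hy hyo w hw hwo hwy x hx hax, hyx x hx hax]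
      exact ⟨fun _ => hall y₂ hy₂ hy₂o hy₂x, fun _ => hall y₁ hy₁ hy₁o hy₁x⟩
    · rw [hy₁x w hw hwa, hy₂x w hw hwa]
  have hβΛ : β ∈ Λ := ⟨hβ, OP.refl a β, fun x _ _ => Iff.rfl⟩
  -- a second member
  have hd₀ : ∃ d₀ ∈ D, Commute a d₀ ∧ ¬ Commute β d₀ := by
    by_contra hno
    push Not at hno
    apply hβa
    symm
    apply h.perp_subset ha hβ
    rintro w ⟨hw, haw⟩
    exact ⟨hw, hno w hw haw⟩
  obtain ⟨d₀, hd₀, had₀, hβd₀⟩ := hd₀
  have hd₀o : OP a β a d₀ := hT.orbcomm hβ hd₀ haβ had₀ hβd₀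
  have hd₀Λ : d₀ ∈ Λ := by
    refine ⟨hd₀, hd₀o, ?_⟩
    intro x hx hax
    exact hsame β hβ (OP.refl a β) d₀ hd₀ hd₀o (fun hh => hβd₀ hh.symm) x hx hax
  have hne : β ≠ d₀ := by
    intro he
    rw [← he] at hβd₀
    exact hβd₀ (Commute.refl β)
  have hall := h.mod_trivial (h.noTwin hW) hMod hβΛ hd₀Λ hne
  have haΛ := hall ha
  exact haΛ.2.1.ne_right hβa rfl

/-- **Transitivity on the commuting members.** -/
theorem Ctx.D_trans (h : Ctx D) (hW : ∀ a ∈ D, ∀ b ∈ D, Dp D a = Dp D b → a = b)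
    {a b b' : G} (ha : a ∈ D) (hb : b ∈ D) (hb' : b' ∈ D) (hba : b ≠ a) (hb'a : b' ≠ a)
    (hab : Commute a b) (hab' : Commute a b') : OP a b a b' := by
  by_contra hno
  have hT := h.tt
  obtain ⟨x, hx, hax, b₁, hb₁, hb₁o, hb₁x, d, hd, hda, hdx, hdb₁⟩ :=
    h.exists_triple hW ha hb hba hab
  obtain ⟨x', hx', hax', c₁', hc₁', hc₁'o, hc₁'x, d', hd', hd'a, hd'x, hd'c₁⟩ :=
    h.exists_triple hW ha hb' hb'a hab'
  obtain ⟨g, hga, hgx⟩ := h.A_trans hW ha hx' hx hax' hax
  -- transport the second configuration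
  set c₁ : G := g * c₁' * g⁻¹ with hc₁def
  set d'' : G := g * d' * g⁻¹ with hd''def
  have hc₁ : c₁ ∈ D := hT.conj g _ hc₁'
  have hd'' : d'' ∈ D := hT.conj g _ hd'
  have hc₁o : OP a b' a c₁ := hc₁'o.trans ⟨g, hga, rfl⟩
  have hc₁x : ¬ Commute c₁ x := by
    intro hh
    rw [← hgx] at hh
    exact hc₁'x ((Commute.conj_iff g).mp hh)
  have hd''a : Commute d'' a := by
    have := (Commute.conj_iff g).mpr hd'a
    rwa [hga] at this
  have hd''x : Commute d'' x := by
    have := (Commute.conj_iff g).mpr hd'x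
    rwa [hgx] at this
  have hd''c₁ : ¬ Commute d'' c₁ := fun hh => hd'c₁ ((Commute.conj_iff g).mp hh)
  have hab₁ : Commute a b₁ := hb₁o.commute_right hab
  have hac₁ : Commute a c₁ := hc₁o.commute_right hab'
  have hno₁ : ¬ OP a b₁ a c₁ := fun hh => hno ((hb₁o.trans hh).trans hc₁o.symm)
  have hbc : Commute b₁ c₁ := by
    by_contra hh
    exact hno₁ (hT.orbcomm hb₁ hc₁ hab₁ hac₁ hh)
  have hdo : OP a d a b₁ := hT.orbcomm hd hb₁ hda.symm hab₁ hdb₁
  have hd''o : OP a d'' a c₁ := hT.orbcomm hd'' hc₁ hd''a.symm hac₁ hd''c₁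
  have hdc₁ : Commute d c₁ := by
    by_contra hh
    exact hno₁ (hdo.symm.trans (hT.orbcomm hd hc₁ hda.symm hac₁ hh))
  have hd''b₁ : Commute d'' b₁ := by
    by_contra hh
    exact hno₁ ((hT.orbcomm hd'' hb₁ hd''a.symm hab₁ hh).symm.trans hd''o)
  -- the fourth member of the frame
  set g₀ : G := x * (b₁ * c₁) * x with hg₀
  set a' : G := g₀ * a * g₀ with ha'
  have hxx := hT.sq hx
  have heps : (b₁ * c₁) * (b₁ * c₁) = 1 := by
    calc (b₁ * c₁) * (b₁ * c₁) = b₁ * (c₁ * b₁) * c₁ := by group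
      _ = b₁ * (b₁ * c₁) * c₁ := by rw [hbc.eq]
      _ = (b₁ * b₁) * (c₁ * c₁) := by group
      _ = 1 := by rw [hT.sq hb₁, hT.sq hc₁, one_mul]
  have hg₀g₀ : g₀ * g₀ = 1 := by
    rw [hg₀]
    calc x * (b₁ * c₁) * x * (x * (b₁ * c₁) * x) = x * (b₁ * c₁) * (x * x) * (b₁ * c₁) * x := by group
      _ = x * ((b₁ * c₁) * (b₁ * c₁)) * x := by rw [hxx]; group
      _ = 1 := by rw [heps, mul_one, hxx]
  have hg₀i : g₀⁻¹ = g₀ := inv_eq_of_mul_eq_one_left hg₀g₀
  have ha'D : a' ∈ D := by
    have := hT.conj g₀ a ha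
    rwa [hg₀i] at this
  have ha'a : Commute a' a :=
    hT.d4_comm ha hx hb₁ hc₁ hab₁ hac₁ hbc hax hb₁x hc₁x
  have hrec1 : (x * (a * c₁) * x) * a' * (x * (a * c₁) * x) = b₁ :=
    hT.d4_recover ha hx hb₁ hc₁ hab₁ hac₁ hbc hax hb₁x
  have hrec2 : (x * (a * b₁) * x) * a' * (x * (a * b₁) * x) = c₁ := by
    have := hT.d4_recover ha hx hc₁ hb₁ hac₁ hab₁ hbc.symm hax hc₁x
    rw [← hbc.eq] at this
    exact this
  have hda' : ¬ Commute d a' := by
    intro hh
    apply hdb₁
    rw [← hrec1]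
    have hη : Commute d (x * (a * c₁) * x) :=
      (hdx.mul_right (hda.mul_right hdc₁)).mul_right hdx
    exact (hη.mul_right hh).mul_right hη
  have hd''a' : ¬ Commute d'' a' := by
    intro hh
    apply hd''c₁
    rw [← hrec2]
    have hη : Commute d'' (x * (a * b₁) * x) :=
      (hd''x.mul_right (hd''a.mul_right hd''b₁)).mul_right hd''x
    exact (hη.mul_right hh).mul_right hη
  have k1 : OP a d a a' := hT.orbcomm hd ha'D hda.symm ha'a.symm hda'
  have k2 : OP a d'' a a' := hT.orbcomm hd'' ha'D hd''a.symm ha'a.symm hd''a'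
  exact hno₁ ((hdo.symm.trans k1).trans (hd''o.symm.trans k2).symm)

end Cfsg.Agent.Lib.Helper1.FR3
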