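import Mathlib
import Cfsg.Agent.Lib.Helper1.FR6
import Cfsg.Agent.Lib.Helper12.ThetaClass

/-!
Helper1: Fischer's rank three theorem, part 7: no non-commuting twins (from helper12's theorem
on `θ`-classes) and the assembled rank three statement.
-/

set_option autoImplicit false
set_option linter.unusedSectionVars false
set_option linter.unusedVariables false

open Subgroup
open scoped commutatorElement

namespace Cfsg.Agent.Lib.Helper1.FR3

universe u

variable {G : Type u} [Group G] {D : Set G} [Finite G]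

/-- **No non-commuting twins.** -/
theorem Ctx.noW (h : Ctx D) : ∀ a ∈ D, ∀ b ∈ D, Dp D a = Dp D b → a = b := by
  intro a ha b hb hab
  haveI : Fact (Nat.Prime 3) := ⟨Nat.prime_three⟩
  have hT := h.tt
  have hTT : Cfsg.Agent.Lib.Helper12.Theta.TT D := ⟨hT.ord, hT.h23, hT.conj⟩
  have hθ : Cfsg.Agent.Lib.Helper12.Theta.Theta D a b := hab
  have hmem : a * b ∈ Cfsg.pCore 3 G :=
    Cfsg.Agent.Lib.Helper12.Theta.mul_mem_pCore_of_theta hTT ha hb hθ
  have hRn : (Cfsg.pCore 3 G).Normal := Cfsg.Agent.Lib.Helper1.pCore_normal 3 G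
  have hRp : IsPGroup 3 ↥(Cfsg.pCore 3 G) := Cfsg.Agent.Lib.Helper12.pCore_isPGroup' 3
  rcases h.normal_dich _ hRn with hle | hle
  · exfalso
    haveI := h.simple
    have hp : IsPGroup 3 ↥(commutator G) := hRp.to_le hle
    obtain ⟨x, y, hxy⟩ := h.nonab
    haveI : Nontrivial ↥(commutator G) := ⟨⟨x * y, y * x, hxy⟩⟩
    have hcn : Nontrivial ↥(center ↥(commutator G)) := hp.center_nontrivial
    have hcN : (center ↥(commutator G)).Normal := inferInstance
    rcases hcN.eq_bot_or_eq_top with hb' | ht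
    · rw [hb'] at hcn
      exact not_nontrivial _ hcn
    · apply hxy
      have hx : x ∈ center ↥(commutator G) := by rw [ht]; exact mem_top x
      rw [mem_center_iff] at hx
      exact (hx y).symm
  · have hz := hle hmem
    rw [mem_center_iff] at hz
    have hc : Commute a b := by
      show a * b = b * a
      have h1 := hz a
      calc a * b = (a * a) * (a * b) := by rw [hT.sq ha, one_mul]
        _ = a * (a * (a * b)) := by group
        _ = a * (a * b * a) := by rw [h1]
        _ = (a * a) * b * a := by group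
        _ = b * a := by rw [hT.sq ha, one_mul]
    by_contra hne
    have h1 : b ∈ Dp D a := ⟨hb, fun he => hne he.symm, hc⟩
    rw [hab] at h1
    exact h1.2.1 rfl

/-- **Fischer's rank three theorem.** -/
theorem Ctx.rank_three (h : Ctx D) {a : G} (ha : a ∈ D) :
    (∃ b ∈ D, b ≠ a ∧ Commute a b) ∧ (∃ c ∈ D, ¬ Commute a c) ∧
    (∀ b ∈ D, ∀ b' ∈ D, b ≠ a → b' ≠ a → Commute a b → Commute a b' →
      ∃ g : G, Commute g a ∧ g * b * g⁻¹ = b') ∧
    (∀ c ∈ D, ∀ c' ∈ D, ¬ Commute a c → ¬ Commute a c' →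
      ∃ g : G, Commute g a ∧ g * c * g⁻¹ = c') := by
  have hW := h.noW
  have hconv : ∀ y y' : G, OP a y a y' → ∃ g : G, Commute g a ∧ g * y * g⁻¹ = y' := by
    rintro y y' ⟨g, hga, hgy⟩
    refine ⟨g, ?_, hgy⟩
    show g * a = a * g
    calc g * a = (g * a * g⁻¹) * g := by group
      _ = a * g := by rw [hga]
  obtain ⟨c, hc, hca⟩ := h.exists_nc ha
  refine ⟨?_, ⟨c, hc, fun hh => hca hh.symm⟩, ?_, ?_⟩
  · by_contra hcon
    push Not at hcon
    have h1 : Dp D a = ∅ := by
      ext y
      simp only [Set.mem_empty_iff_false, iff_false]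
      rintro ⟨hy, hya, hay⟩
      exact hcon y hy hya hay
    have h2 : (Dp D c).ncard = 0 := by
      rw [h.Dp_ncard hc ha, h1, Set.ncard_empty]
    have h3 : Dp D c = ∅ := (Set.ncard_eq_zero (Set.toFinite _)).mp h2
    have := hW a ha c hc (by rw [h1, h3])
    rw [this] at hca
    exact hca (Commute.refl c)
  · intro b hb b' hb' hba hb'a hab hab'
    exact hconv b b' (h.D_trans hW ha hb hb' hba hb'a hab hab')
  · intro c₁ hc₁ c₂ hc₂ hac₁ hac₂
    exact hconv c₁ c₂ (h.A_trans hW ha hc₁ hc₂ hac₁ hac₂)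

end Cfsg.Agent.Lib.Helper1.FR3
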