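import Mathlib
import Cfsg.Agent.Lib.Helper1.FR7
import Cfsg.Agent.S5352
import Cfsg.Agent.Lib.Helper12.FischerFitting

/-!
Helper1: Fischer theory, part 8: a generating class of `3`-transpositions in a group without
solvable normal subgroups and with perfect commutator subgroup has simple non-abelian commutator
subgroup (using helper12's S5352).
-/

set_option autoImplicit false
set_option linter.unusedSectionVars false
set_option linter.unusedVariables false

open Subgroup
open scoped commutatorElement

namespace Cfsg.Agent.Lib.Helper1.FR3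

universe u

variable {G : Type u} [Group G] {D : Set G} [Finite G]

/-- a perfect commutator subgroup lies in every normal subgroup with solvable quotient -/
theorem commutator_le_of_solvable_quotient (hperf : ⁅commutator G, commutator G⁆ = commutator G)
    (L : Subgroup G) [L.Normal] (hs : Group.IsSolvable (G ⧸ L)) : commutator G ≤ L := by
  obtain ⟨n, hn⟩ := hs.solvable
  have hle : ∀ m : ℕ, commutator G ≤ derivedSeries G m := by
    intro m
    induction m with
    | zero => exact le_top
    | succ m ih =>
      rw [derivedSeries_succ]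
      calc commutator G = ⁅commutator G, commutator G⁆ := hperf.symm
        _ ≤ ⁅derivedSeries G m, derivedSeries G m⁆ := Subgroup.commutator_mono ih ih
  have h1 : (commutator G).map (QuotientGroup.mk' L) ≤ ⊥ := by
    rw [← hn, ← map_derivedSeries_eq (QuotientGroup.mk'_surjective L) n]
    exact Subgroup.map_mono (hle n)
  intro x hx
  have h2 : QuotientGroup.mk' L x ∈ (⊥ : Subgroup (G ⧸ L)) := h1 (Subgroup.mem_map_of_mem _ hx)
  rw [Subgroup.mem_bot, QuotientGroup.mk'_apply, QuotientGroup.eq_one_iff] at h2
  exact h2

theorem ctx_of_radical_free (hD : Cfsg.IsThreeTranspositionClass D)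
    (hsol : ∀ N : Subgroup G, N.Normal → Group.IsSolvable ↥N → N = ⊥)
    (hperf : ⁅commutator G, commutator G⁆ = commutator G) : Ctx D := by
  classical
  have hD' := hD
  obtain ⟨⟨hord, h23⟩, ⟨d, hd, hDd⟩, hgen⟩ := hD
  have hmem : ∀ y : G, y ∈ D ↔ ∃ c : G, c * d * c⁻¹ = y := by
    intro y
    rw [hDd]
    show IsConj d y ↔ _
    rw [isConj_iff]
  have hconj : ∀ g : G, ∀ e ∈ D, g * e * g⁻¹ ∈ D := by
    intro g e he
    obtain ⟨c, rfl⟩ := (hmem e).mp he
    exact (hmem _).mpr ⟨g * c, by group⟩
  -- `G` is not solvable
  have hGns : ¬ Group.IsSolvable G := by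
    intro hs
    have h1 : Group.IsSolvable ↥(⊤ : Subgroup G) :=
      Group.isSolvable_of_isSolvable_injective (f := (⊤ : Subgroup G).subtype) (Subgroup.subtype_injective _)
    have h2 := hsol ⊤ inferInstance h1
    have h3 : d ∈ (⊥ : Subgroup G) := by rw [← h2]; exact mem_top d
    rw [Subgroup.mem_bot] at h3
    have := hord d hd
    rw [h3, orderOf_one] at this
    omega
  -- cores are trivial
  have hcore : ∀ p : ℕ, p.Prime → Cfsg.pCore p G = ⊥ := by
    intro p hp
    haveI : Fact p.Prime := ⟨hp⟩
    apply hsol _ (Cfsg.Agent.Lib.Helper1.pCore_normal p G)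
    have hpg : IsPGroup p ↥(Cfsg.pCore p G) := Cfsg.Agent.Lib.Helper12.pCore_isPGroup' p
    have hnil : Group.IsNilpotent ↥(Cfsg.pCore p G) := hpg.isNilpotent
    have hsv : Group.IsSolvable ↥(Cfsg.pCore p G) := inferInstance
    exact hsv
  -- two members
  have hD2 : ∃ a ∈ D, ∃ b ∈ D, a ≠ b := by
    by_contra hcon
    push Not at hcon
    apply hGns
    have hcomm : ∀ y1 ∈ D, ∀ y2 ∈ D, y1 * y2 = y2 * y1 := by
      intro y1 h1 y2 h2
      rw [hcon y1 h1 y2 h2]
    have h1 : Group.IsSolvable ↥(closure D) :=
      Cfsg.Agent.Lib.Helper12.FF.isSolvable_closure_of_commute hcomm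
    rw [hgen] at h1
    exact Group.isSolvable_of_surjective (f := (⊤ : Subgroup G).subtype)
      (fun x => ⟨⟨x, mem_top x⟩, rfl⟩)
  have h2 : Cfsg.pCore 2 G ≤ center G := by rw [hcore 2 Nat.prime_two]; exact bot_le
  have h3 : Cfsg.pCore 3 G ≤ center G := by rw [hcore 3 Nat.prime_three]; exact bot_le
  obtain ⟨L, hLn, ⟨hLperf, hLsimp⟩, -, hLw⟩ := Cfsg.Agent.S5352.result hD' hD2 h2 h3
  haveI := hLn
  -- the centre of `L` is trivial
  have hZL : center ↥L = ⊥ := by
    have hn : ((center ↥L).map L.subtype).Normal := ConjAct.normal_of_characteristic_of_normal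
    have hs : Group.IsSolvable ↥((center ↥L).map L.subtype) := by
      have hc : ∀ y1 ∈ (((center ↥L).map L.subtype : Subgroup G) : Set G),
          ∀ y2 ∈ (((center ↥L).map L.subtype : Subgroup G) : Set G), y1 * y2 = y2 * y1 := by
        rintro _ ⟨z1, hz1, rfl⟩ _ ⟨z2, hz2, rfl⟩
        rw [SetLike.mem_coe, mem_center_iff] at hz1
        have := hz1 z2
        have h' := congrArg Subtype.val this
        simpa using h'.symm
      have := Cfsg.Agent.Lib.Helper12.FF.isSolvable_closure_of_commute hc
      rwa [Subgroup.closure_eq] at this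
    have h0 := hsol _ hn hs
    rw [Subgroup.map_eq_bot_iff_of_injective _ (Subgroup.subtype_injective L)] at h0
    exact h0
  -- `L` is simple
  have hLs : IsSimpleGroup ↥L := by
    haveI := hLsimp
    have e1 : (↥L ⧸ center ↥L) ≃* ↥L :=
      (QuotientGroup.quotientMulEquivOfEq hZL).trans QuotientGroup.quotientBot
    exact e1.symm.isSimpleGroup
  -- `L ≤ G'`
  have hLG : L ≤ commutator G := by
    have h1 : ⁅L, L⁆ = L := Subgroup.isPerfect_iff.mp hLperf
    rw [← h1, _root_.commutator_def]
    exact Subgroup.commutator_mono le_top le_top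
  -- `G' ≤ L`
  have hGL : commutator G ≤ L := by
    rcases hLw with htop | hw
    · rw [htop]; exact le_top
    · by_cases hDL : ∃ a ∈ D, a ∈ L
      · obtain ⟨a, ha, haL⟩ := hDL
        have hsub : D ⊆ L := by
          intro e he
          obtain ⟨c, rfl⟩ := (hmem e).mp he
          obtain ⟨c', rfl⟩ := (hmem a).mp ha
          have := hLn.conj_mem _ haL (c * c'⁻¹)
          have e1 : c * c'⁻¹ * (c' * d * c'⁻¹) * (c * c'⁻¹)⁻¹ = c * d * c⁻¹ := by group
          rwa [e1] at this
        have : (⊤ : Subgroup G) ≤ L := by rw [← hgen, closure_le]; exact hsub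
        exact le_trans le_top this
      · push Not at hDL
        apply commutator_le_of_solvable_quotient hperf L
        -- width one in the quotient
        set π : G →* G ⧸ L := QuotientGroup.mk' L with hπ
        have hπs : Function.Surjective π := QuotientGroup.mk'_surjective L
        set Dq : Set (G ⧸ L) := π '' D with hDq
        have hne1 : ∀ a ∈ D, π a ≠ 1 := by
          intro a ha h1
          rw [hπ, QuotientGroup.mk'_apply, QuotientGroup.eq_one_iff] at h1
          exact hDL a ha h1
        have hordq : ∀ e ∈ Dq, orderOf e = 2 := by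
          rintro _ ⟨a, ha, rfl⟩
          have hsq : a ^ 2 = 1 := by
            have := pow_orderOf_eq_one a
            rwa [hord a ha] at this
          haveI : Fact (Nat.Prime 2) := ⟨Nat.prime_two⟩
          apply orderOf_eq_prime
          · rw [← map_pow, hsq, map_one]
          · exact hne1 a ha
        have h23q : ∀ a ∈ Dq, ∀ b ∈ Dq, (a * b) ^ 2 = 1 ∨ (a * b) ^ 3 = 1 := by
          rintro _ ⟨a, ha, rfl⟩ _ ⟨b, hb, rfl⟩
          rcases h23 a ha b hb with h | h
          · left; rw [← map_mul, ← map_pow, h, map_one]
          · right; rw [← map_mul, ← map_pow, h, map_one]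
        have hconjq : ∀ g : G ⧸ L, ∀ e ∈ Dq, g * e * g⁻¹ ∈ Dq := by
          rintro g _ ⟨a, ha, rfl⟩
          obtain ⟨g', rfl⟩ := hπs g
          exact ⟨g' * a * g'⁻¹, hconj g' a ha, by simp⟩
        have hwq : ∀ a ∈ Dq, ∀ b ∈ Dq, Commute a b → a = b := by
          rintro _ ⟨a, ha, rfl⟩ _ ⟨b, hb, rfl⟩ hc
          have h1 : π (a * b * a⁻¹ * b⁻¹) = 1 := by
            simp only [map_mul, map_inv]
            rw [hc.eq]; group
          rw [hπ, QuotientGroup.mk'_apply, QuotientGroup.eq_one_iff] at h1
          have h2 := hw a ha b hb h1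
          rw [hπ, QuotientGroup.mk'_apply, QuotientGroup.mk'_apply, QuotientGroup.eq]
          exact h2
        have hdq : π d ∈ Dq := ⟨d, hd, rfl⟩
        obtain ⟨P, hPd, hDP⟩ := Cfsg.Agent.Lib.Helper12.exists_sylow_three_of_width_one
          hordq h23q hconjq hwq hdq
        haveI : Fact (Nat.Prime 3) := ⟨Nat.prime_three⟩
        have hsolv := Cfsg.Agent.Lib.Helper12.FF.isSolvable_sup_zpowers P.2 hPd
        have htop : (P : Subgroup (G ⧸ L)) ⊔ zpowers (π d) = ⊤ := by
          rw [eq_top_iff]
          have hcl : closure Dq = ⊤ := by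
            rw [hDq, ← MonoidHom.map_closure, hgen, ← MonoidHom.range_eq_map,
              MonoidHom.range_eq_top.mpr hπs]
          rw [← hcl, closure_le]
          intro e he
          obtain ⟨x, hx, rfl⟩ := hDP e he
          exact mul_mem (mem_sup_left hx) (mem_sup_right (mem_zpowers _))
        rw [htop] at hsolv
        exact Group.isSolvable_of_surjective (f := (⊤ : Subgroup (G ⧸ L)).subtype)
          (fun x => ⟨⟨x, mem_top x⟩, rfl⟩)
  have hEq : commutator G = L := le_antisymm hGL hLG
  have hsimple : IsSimpleGroup ↥(commutator G) := by rw [hEq]; exact hLs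
  have hnonab : ∃ x y : commutator G, x * y ≠ y * x := by
    by_contra hcon
    push Not at hcon
    apply hGns
    -- G' abelian and G/G' abelian
    have h1 : Group.IsSolvable ↥(commutator G) := by
      have : ∀ a b : ↥(commutator G), a * b = b * a := hcon
      exact Group.isSolvable_of_comm this
    have h2 : Group.IsSolvable (G ⧸ commutator G) := by
      have : ∀ a b : G ⧸ commutator G, a * b = b * a := by
        intro a b
        induction a using QuotientGroup.induction_on with
        | H a =>
          induction b using QuotientGroup.induction_on with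
          | H b =>
            rw [← QuotientGroup.mk_mul, ← QuotientGroup.mk_mul, QuotientGroup.eq]
            have hmem : ⁅b⁻¹, a⁻¹⁆ ∈ commutator G := by
              rw [_root_.commutator_def]
              exact Subgroup.commutator_mem_commutator (mem_top _) (mem_top _)
            have e : (a * b)⁻¹ * (b * a) = ⁅b⁻¹, a⁻¹⁆ := by
              rw [commutatorElement_def]; group
            rw [e]; exact hmem
      exact Group.isSolvable_of_comm this
    exact Group.isSolvable_of_ker_le_range (commutator G).subtype (QuotientGroup.mk' (commutator G))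
      (by rw [QuotientGroup.ker_mk', Subgroup.range_subtype])
  exact Ctx.of_class hD' hsimple hnonab

end Cfsg.Agent.Lib.Helper1.FR3
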