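import Mathlib
import Cfsg.Agent.Lib.Helper1.FR8

/-!
Helper1: Fischer theory, part 9: in a class `D` of `3`-transpositions generating a group with
simple non-abelian commutator subgroup, for `a ∈ D` the set `Dp D a` of members of `D` commuting
with `a` (other than `a`) is a single orbit of the subgroup it generates.
-/

set_option autoImplicit false
set_option linter.unusedSectionVars false
set_option linter.unusedVariables false

open Subgroup
open scoped commutatorElement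

namespace Cfsg.Agent.Lib.Helper1.FR3

universe u

variable {G : Type u} [Group G] {D : Set G}

/-- the orbit of `b` under the subgroup generated by `Dp D a` -/
def Lam (D : Set G) (a b : G) : Set G := {y | ∃ h ∈ closure (Dp D a), y = h * b * h⁻¹}

theorem Lam_self (a b : G) : b ∈ Lam D a b := ⟨1, one_mem _, by simp⟩

theorem Lam_conj_mem {a b y g : G} (hy : y ∈ Lam D a b) (hg : g ∈ closure (Dp D a)) :
    g * y * g⁻¹ ∈ Lam D a b := by
  obtain ⟨h, hh, rfl⟩ := hy
  exact ⟨g * h, mul_mem hg hh, by group⟩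

theorem closure_Dp_commute {a g : G} (hg : g ∈ closure (Dp D a)) : Commute a g := by
  induction hg using Subgroup.closure_induction with
  | mem x hx => exact hx.2.2
  | one => exact Commute.one_right a
  | mul x y _ _ hx hy => exact hx.mul_right hy
  | inv x _ hx => exact hx.inv_right

theorem T3.Lam_subset_Dp (h : T3 D) {a b : G} (hb : b ∈ Dp D a) : Lam D a b ⊆ Dp D a := by
  rintro y ⟨g, hg, rfl⟩
  have hc := closure_Dp_commute hg
  refine ⟨h.conj g b hb.1, ?_, ?_⟩
  · intro h1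
    apply hb.2.1
    have : b = g⁻¹ * (g * b * g⁻¹) * g := by group
    rw [this, h1]
    have e := hc.eq
    calc g⁻¹ * a * g = g⁻¹ * (a * g) := by group
      _ = g⁻¹ * (g * a) := by rw [e]
      _ = a := by group
  · have e := hc.eq
    have e2 := hb.2.2.eq
    show a * (g * b * g⁻¹) = g * b * g⁻¹ * a
    calc a * (g * b * g⁻¹) = (a * g) * b * g⁻¹ := by group
      _ = g * (a * b) * g⁻¹ := by rw [e]; group
      _ = g * (b * a) * g⁻¹ := by rw [e2]
      _ = g * b * (g⁻¹ * (g * a) * g⁻¹) := by group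
      _ = g * b * (g⁻¹ * (a * g) * g⁻¹) := by rw [e]
      _ = g * b * g⁻¹ * a := by group

/-- two non-commuting members of `Dp D a` lie in the same orbit -/
theorem T3.Lam_of_nc (h : T3 D) {a b y c : G} (hb : b ∈ Dp D a) (hy : y ∈ Lam D a b)
    (hc : c ∈ Dp D a) (hnc : ¬ Commute y c) : c ∈ Lam D a b := by
  have hyD := h.Lam_subset_Dp hb hy
  have hbr := h.braid hyD.1 hc.1 hnc
  have hg : y * c ∈ closure (Dp D a) := mul_mem (subset_closure hyD) (subset_closure hc)
  have := Lam_conj_mem hy hg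
  have e : y * c * y * (y * c)⁻¹ = c := by
    have hyy := h.sq hyD.1
    have hcc := h.sq hc.1
    calc y * c * y * (y * c)⁻¹ = (y * c * y) * c⁻¹ * y⁻¹ := by group
      _ = (c * y * c) * c⁻¹ * y⁻¹ := by rw [hbr]
      _ = c := by group
  rwa [e] at this

/-- a set closed under conjugation by the members of `T` and their inverses is closed under
conjugation by `closure T` -/
theorem conj_closure_invariant {S T : Set G} (hinv : ∀ e ∈ T, ∀ y ∈ S, e * y * e⁻¹ ∈ S)
    (hinv' : ∀ e ∈ T, ∀ y ∈ S, e⁻¹ * y * e ∈ S) {g : G} (hg : g ∈ closure T) :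
    (∀ y ∈ S, g * y * g⁻¹ ∈ S) ∧ (∀ y ∈ S, g⁻¹ * y * g ∈ S) := by
  induction hg using Subgroup.closure_induction with
  | mem x hx => exact ⟨hinv x hx, hinv' x hx⟩
  | one => exact ⟨fun y hy => by simpa using hy, fun y hy => by simpa using hy⟩
  | mul x y _ _ hx hy =>
    refine ⟨fun z hz => ?_, fun z hz => ?_⟩
    · have := hx.1 _ (hy.1 z hz)
      have e : x * y * z * (x * y)⁻¹ = x * (y * z * y⁻¹) * x⁻¹ := by group
      rwa [e]
    · have := hy.2 _ (hx.2 z hz)
      have e : (x * y)⁻¹ * z * (x * y) = y⁻¹ * (x⁻¹ * z * x) * y := by group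
      rwa [e]
  | inv x _ hx =>
    refine ⟨fun z hz => ?_, fun z hz => ?_⟩
    · have := hx.2 z hz
      rwa [inv_inv]
    · have := hx.1 z hz
      rwa [inv_inv]

/-- a member of `Dp D a` outside the orbit `Lam D a b` commutes with the orbit, and its own orbit
of `b` contains `Lam D a b` -/
theorem T3.Lam_subset_of_not_mem (h : T3 D) {a b c : G} (hb : b ∈ Dp D a) (hc : c ∈ Dp D a)
    (hcn : c ∉ Lam D a b) : Lam D a b ⊆ Dp D c ∧ Lam D a b ⊆ Lam D c b := by
  have h1 : Lam D a b ⊆ Dp D c := by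
    intro y hy
    have hyD := h.Lam_subset_Dp hb hy
    refine ⟨hyD.1, ?_, ?_⟩
    · rintro rfl
      exact hcn hy
    · by_contra hnc
      apply hcn
      exact h.Lam_of_nc hb hy hc (fun hh => hnc hh.symm)
  refine ⟨h1, ?_⟩
  have hstep : ∀ e ∈ Dp D a, ∀ y ∈ Lam D a b ∩ Lam D c b, e * y * e⁻¹ ∈ Lam D a b ∩ Lam D c b := by
    intro e he y hy
    by_cases hcm : Commute e y
    · have e1 : e * y * e⁻¹ = y := by
        rw [hcm.eq]; group
      rw [e1]; exact hy
    · have heL : e ∈ Lam D a b := h.Lam_of_nc hb hy.1 he (fun hh => hcm hh.symm)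
      have heC : e ∈ closure (Dp D c) := subset_closure (h1 heL)
      exact ⟨Lam_conj_mem hy.1 (subset_closure he), Lam_conj_mem hy.2 heC⟩
  have hstep' : ∀ e ∈ Dp D a, ∀ y ∈ Lam D a b ∩ Lam D c b, e⁻¹ * y * e ∈ Lam D a b ∩ Lam D c b := by
    intro e he y hy
    have := hstep e he y hy
    have hi := h.inv he.1
    rw [hi] at this ⊢
    exact this
  have hbS : b ∈ Lam D a b ∩ Lam D c b := ⟨Lam_self a b, Lam_self c b⟩
  rintro y ⟨g, hg, rfl⟩
  exact ((conj_closure_invariant hstep hstep' hg).1 b hbS).2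

theorem T3.closure_Dp_conj (h : T3 D) (g a : G) {x : G} (hx : x ∈ closure (Dp D a)) :
    g * x * g⁻¹ ∈ closure (Dp D (g * a * g⁻¹)) := by
  induction hx using Subgroup.closure_induction with
  | mem x hx =>
    apply Subgroup.subset_closure
    rw [h.Dp_conj g a]
    exact ⟨x, hx, rfl⟩
  | one => simp
  | mul x y _ _ hx hy =>
    have := mul_mem hx hy
    have e : g * x * g⁻¹ * (g * y * g⁻¹) = g * (x * y) * g⁻¹ := by group
    rwa [e] at this
  | inv x _ hx =>
    have := inv_mem hx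
    have e : (g * x * g⁻¹)⁻¹ = g * x⁻¹ * g⁻¹ := by group
    rwa [e] at this

theorem T3.Lam_conj_subset (h : T3 D) (g a b : G) :
    (fun y => g * y * g⁻¹) '' Lam D a b ⊆ Lam D (g * a * g⁻¹) (g * b * g⁻¹) := by
  rintro _ ⟨_, ⟨x, hx, rfl⟩, rfl⟩
  exact ⟨g * x * g⁻¹, h.closure_Dp_conj g a hx, by group⟩

theorem T3.Lam_ncard_le [Finite G] (h : T3 D) (g a b : G) :
    (Lam D a b).ncard ≤ (Lam D (g * a * g⁻¹) (g * b * g⁻¹)).ncard := by
  rw [← Set.ncard_image_of_injective (Lam D a b) (conj_injective g)]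
  exact Set.ncard_le_ncard (h.Lam_conj_subset g a b) (Set.toFinite _)

theorem T3.Lam_ncard_of_OP [Finite G] (h : T3 D) {a b a' b' : G} (hop : OP a b a' b') :
    (Lam D a b).ncard = (Lam D a' b').ncard := by
  obtain ⟨g, rfl, rfl⟩ := hop
  apply le_antisymm (h.Lam_ncard_le g a b)
  have := h.Lam_ncard_le g⁻¹ (g * a * g⁻¹) (g * b * g⁻¹)
  have e1 : g⁻¹ * (g * a * g⁻¹) * g⁻¹⁻¹ = a := by group
  have e2 : g⁻¹ * (g * b * g⁻¹) * g⁻¹⁻¹ = b := by group
  rwa [e1, e2] at this

variable [Finite G]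

/-- all commuting pairs of distinct members of `D` are conjugate -/
theorem Ctx.OP_commuting (h : Ctx D) {a b a' b' : G} (ha : a ∈ D) (hb : b ∈ Dp D a)
    (ha' : a' ∈ D) (hb' : b' ∈ Dp D a') : OP a b a' b' := by
  obtain ⟨g1, hg1⟩ := h.trans a ha a' ha'
  have hb1 : g1 * b * g1⁻¹ ∈ Dp D a' := by
    rw [← hg1, h.tt.Dp_conj g1 a]
    exact ⟨b, hb, rfl⟩
  have h2 : OP a' (g1 * b * g1⁻¹) a' b' :=
    h.D_trans h.noW ha' hb1.1 hb'.1 hb1.2.1 hb'.2.1 hb1.2.2 hb'.2.2
  exact OP.trans ⟨g1, hg1, rfl⟩ h2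

theorem Ctx.Lam_eq (h : Ctx D) {u b w : G} (hu : u ∈ D) (hb : b ∈ Dp D u) (hw : w ∈ Dp D u)
    (hwn : w ∉ Lam D u b) : b ∈ Dp D w ∧ Lam D w b = Lam D u b := by
  obtain ⟨h1, h2⟩ := h.tt.Lam_subset_of_not_mem hb hw hwn
  have hbw : b ∈ Dp D w := h1 (Lam_self u b)
  refine ⟨hbw, ?_⟩
  have hn := h.tt.Lam_ncard_of_OP (D := D) (h.OP_commuting hu hb hw.1 hbw)
  exact (Set.eq_of_subset_of_ncard_le h2 (le_of_eq hn.symm) (Set.toFinite _)).symm

/-- `Dp D a` is a single orbit of the subgroup it generates -/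
theorem Ctx.Dp_subset_Lam (h : Ctx D) {a b : G} (ha : a ∈ D) (hb : b ∈ Dp D a) :
    Dp D a ⊆ Lam D a b := by
  intro c hc
  by_contra hcn
  set Z : Set G := {y | y ∈ D ∧ b ∈ Dp D y ∧ Lam D y b = Lam D a b} with hZ
  have hmod : IsMod D Z := by
    refine ⟨fun y hy => hy.1, ?_⟩
    intro w hwD hwZ u hu v hv
    by_cases hwL : w ∈ Lam D a b
    · have c1 : ∀ z ∈ Z, Commute w z := by
        intro z hz
        have : w ∈ Lam D z b := by rw [hz.2.2]; exact hwL
        exact ((h.tt.Lam_subset_Dp hz.2.1 this).2.2).symm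
      exact ⟨fun _ => c1 v hv, fun _ => c1 u hu⟩
    · have c2 : ∀ z ∈ Z, ¬ Commute w z := by
        intro z hz hcm
        apply hwZ
        have hwz : w ∈ Dp D z := by
          refine ⟨hwD, ?_, hcm.symm⟩
          rintro rfl
          exact hwZ hz
        have hwn : w ∉ Lam D z b := by rw [hz.2.2]; exact hwL
        obtain ⟨k1, k2⟩ := h.Lam_eq hz.1 hz.2.1 hwz hwn
        exact ⟨hwD, k1, by rw [k2, hz.2.2]⟩
      exact ⟨fun hh => absurd hh (c2 u hu), fun hh => absurd hh (c2 v hv)⟩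
  have haZ : a ∈ Z := ⟨ha, hb, rfl⟩
  have hcZ : c ∈ Z := by
    obtain ⟨k1, k2⟩ := h.Lam_eq ha hb hc hcn
    exact ⟨hc.1, k1, k2⟩
  have hsub := h.mod_trivial (h.noTwin h.noW) hmod haZ hcZ (fun hh => hc.2.1 hh.symm)
  have hbZ : b ∈ Z := hsub hb.1
  exact hbZ.2.1.2.1 rfl

end Cfsg.Agent.Lib.Helper1.FR3
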