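import Mathlib
import Cfsg.Agent.Lib.Helper1.FR9

/-!
Helper1: Fischer theory, part 10: commuting subsets of maximum size of a class of
`3`-transpositions: the normalizer contains a Sylow `2`-subgroup and is doubly transitive.
-/

set_option autoImplicit false
set_option linter.unusedSectionVars false
set_option linter.unusedVariables false

open Subgroup
open scoped commutatorElement Pointwise

namespace Cfsg.Agent.Lib.Helper1.FR3

universe u

variable {G : Type u} [Group G] {D : Set G}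

/-- members of `D` in a `2`-subgroup commute -/
theorem T3.commute_of_mem_two_group (h : T3 D) {S : Subgroup G} (hS : IsPGroup 2 S) {d e : G}
    (hd : d ∈ D) (he : e ∈ D) (hdS : d ∈ S) (heS : e ∈ S) : Commute d e := by
  by_contra hnc
  have h3 := h.cube hd he hnc
  obtain ⟨k, hk⟩ := hS ⟨d * e, mul_mem hdS heS⟩
  have hk' : (d * e) ^ 2 ^ k = 1 := by
    have := congrArg Subtype.val hk
    simpa using this
  have d1 : orderOf (d * e) ∣ 3 := orderOf_dvd_of_pow_eq_one h3
  have d2 : orderOf (d * e) ∣ 2 ^ k := orderOf_dvd_of_pow_eq_one hk'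
  have hcop : Nat.Coprime 3 (2 ^ k) := Nat.Coprime.pow_right k (by norm_num)
  have d3 : orderOf (d * e) ∣ 1 := by
    have := Nat.dvd_gcd d1 d2
    rwa [hcop] at this
  have h1 : d * e = 1 := by
    rw [← orderOf_eq_one_iff]
    exact Nat.dvd_one.mp d3
  apply hnc
  have : d = e := by
    calc d = d * e * e⁻¹ := by group
      _ = e := by rw [h1, one_mul, h.inv he]
  rw [this]

/-- a commuting subset of `D` of maximum cardinality inside a `2`-subgroup is the intersection of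
the subgroup with `D` -/
theorem T3.max_comm_eq [Finite G] (h : T3 D) {E : Set G} (hE : E ⊆ D)
    (hmax : ∀ E' : Set G, E' ⊆ D → (∀ a ∈ E', ∀ b ∈ E', Commute a b) → E'.ncard ≤ E.ncard)
    {S : Subgroup G} (hS : IsPGroup 2 S) (hES : E ⊆ S) : E = {y | y ∈ D ∧ y ∈ S} := by
  apply Set.eq_of_subset_of_ncard_le
  · intro y hy
    exact ⟨hE hy, hES hy⟩
  · apply hmax
    · intro y hy
      exact hy.1
    · intro a ha b hb
      exact h.commute_of_mem_two_group hS ha.1 hb.1 ha.2 hb.2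
  · exact Set.toFinite _

theorem T3.closure_comm (h : T3 D) {E : Set G} (hE : E ⊆ D)
    (hc : ∀ a ∈ E, ∀ b ∈ E, Commute a b) :
    ∀ x ∈ closure E, ∀ y ∈ closure E, Commute x y := by
  have s1 : ∀ x ∈ closure E, ∀ e ∈ E, Commute x e := by
    intro x hx e he
    induction hx using Subgroup.closure_induction with
    | mem x hx => exact hc x hx e he
    | one => exact Commute.one_left e
    | mul x y _ _ hx hy => exact hx.mul_left hy
    | inv x _ hx => exact hx.inv_left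
  intro x hx y hy
  induction hy using Subgroup.closure_induction with
  | mem y hy => exact s1 x hx y hy
  | one => exact Commute.one_right x
  | mul y z _ _ hy hz => exact hy.mul_right hz
  | inv y _ hy => exact hy.inv_right

theorem T3.closure_sq (h : T3 D) {E : Set G} (hE : E ⊆ D)
    (hc : ∀ a ∈ E, ∀ b ∈ E, Commute a b) : ∀ x ∈ closure E, x * x = 1 := by
  have hcm := h.closure_comm hE hc
  intro x hx
  induction hx using Subgroup.closure_induction with
  | mem x hx => exact h.sq (hE hx)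
  | one => simp
  | mul x y hx' hy' hx hy =>
    have e := (hcm x hx' y hy').eq
    calc x * y * (x * y) = x * (y * x) * y := by group
      _ = x * (x * y) * y := by rw [e]
      _ = (x * x) * (y * y) := by group
      _ = 1 := by rw [hx, hy, one_mul]
  | inv x _ hx =>
    calc x⁻¹ * x⁻¹ = (x * x)⁻¹ := by group
      _ = 1 := by rw [hx, inv_one]

theorem T3.closure_isPGroup (h : T3 D) {E : Set G} (hE : E ⊆ D)
    (hc : ∀ a ∈ E, ∀ b ∈ E, Commute a b) : IsPGroup 2 ↥(closure E) := by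
  rintro ⟨g, hg⟩
  refine ⟨1, ?_⟩
  apply Subtype.ext
  have := h.closure_sq hE hc g hg
  simp only [pow_one, SubmonoidClass.mk_pow, OneMemClass.coe_one]
  rw [pow_two]
  exact this

/-- the normalizer of a commuting subset of maximum size contains a Sylow `2`-subgroup -/
theorem T3.sylow_le_normalizer [Finite G] (h : T3 D) {E : Set G} (hE : E ⊆ D)
    (hc : ∀ a ∈ E, ∀ b ∈ E, Commute a b)
    (hmax : ∀ E' : Set G, E' ⊆ D → (∀ a ∈ E', ∀ b ∈ E', Commute a b) → E'.ncard ≤ E.ncard) :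
    ∃ P : Sylow 2 G, (P : Subgroup G) ≤ Subgroup.normalizer E := by
  haveI : Fact (Nat.Prime 2) := ⟨Nat.prime_two⟩
  obtain ⟨P, hP⟩ := (h.closure_isPGroup hE hc).exists_le_sylow
  refine ⟨P, ?_⟩
  have hES : E ⊆ (P : Subgroup G) := fun y hy => hP (Subgroup.subset_closure hy)
  have hEq := h.max_comm_eq hE hmax P.2 hES
  intro g hg
  rw [Subgroup.mem_set_normalizer_iff]
  intro n
  rw [hEq]
  constructor
  · rintro ⟨h1, h2⟩
    exact ⟨h.conj g n h1, mul_mem (mul_mem hg h2) (inv_mem hg)⟩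
  · rintro ⟨h1, h2⟩
    refine ⟨?_, ?_⟩
    · have := h.conj g⁻¹ _ h1
      have e : g⁻¹ * (g * n * g⁻¹) * g⁻¹⁻¹ = n := by group
      rwa [e] at this
    · have := mul_mem (mul_mem (inv_mem hg) h2) hg
      have e : g⁻¹ * (g * n * g⁻¹) * g = n := by group
      rwa [e] at this

/-- two commuting subsets of maximum size inside a subgroup `C` are conjugate in `C` -/
theorem T3.conj_in_subgroup [Finite G] (h : T3 D) {E E' : Set G} (hE : E ⊆ D) (hE' : E' ⊆ D)
    (hc : ∀ a ∈ E, ∀ b ∈ E, Commute a b) (hc' : ∀ a ∈ E', ∀ b ∈ E', Commute a b)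
    (hmax : ∀ E'' : Set G, E'' ⊆ D → (∀ a ∈ E'', ∀ b ∈ E'', Commute a b) → E''.ncard ≤ E.ncard)
    (hcard : E'.ncard = E.ncard) (C : Subgroup G) (hEC : E ⊆ C) (hEC' : E' ⊆ C) :
    ∃ k ∈ C, (fun y => k * y * k⁻¹) '' E = E' := by
  haveI : Fact (Nat.Prime 2) := ⟨Nat.prime_two⟩
  have hA : IsPGroup 2 ↥((closure E).subgroupOf C) := (h.closure_isPGroup hE hc).comap_subtype
  have hA' : IsPGroup 2 ↥((closure E').subgroupOf C) :=
    (h.closure_isPGroup hE' hc').comap_subtype
  obtain ⟨Q, hQ⟩ := hA.exists_le_sylow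
  obtain ⟨Q', hQ'⟩ := hA'.exists_le_sylow
  obtain ⟨k, hk⟩ := MulAction.exists_smul_eq ↥C Q Q'
  refine ⟨k.1, k.2, ?_⟩
  set P' : Subgroup G := (Q' : Subgroup ↥C).map C.subtype with hP'
  have hP'2 : IsPGroup 2 ↥P' := Q'.2.map C.subtype
  have h1 : E' ⊆ (P' : Subgroup G) := by
    intro x hx
    refine ⟨⟨x, hEC' hx⟩, ?_, rfl⟩
    apply hQ'
    rw [Subgroup.mem_subgroupOf]
    exact Subgroup.subset_closure hx
  have h2 : (fun y => k.1 * y * k.1⁻¹) '' E ⊆ (P' : Subgroup G) := by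
    rintro _ ⟨x, hx, rfl⟩
    have hxQ : (⟨x, hEC hx⟩ : ↥C) ∈ (Q : Subgroup ↥C) := by
      apply hQ
      rw [Subgroup.mem_subgroupOf]
      exact Subgroup.subset_closure hx
    have h3 : MulAut.conj k • (⟨x, hEC hx⟩ : ↥C) ∈ MulAut.conj k • (Q : Subgroup ↥C) :=
      Subgroup.smul_mem_pointwise_smul _ _ _ hxQ
    rw [← Sylow.coe_subgroup_smul, hk] at h3
    refine ⟨_, h3, ?_⟩
    simp [MulAut.smul_def, MulAut.conj_apply]
  have hsub2 : (fun y => k.1 * y * k.1⁻¹) '' E ⊆ D := by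
    rintro _ ⟨x, hx, rfl⟩
    exact h.conj _ _ (hE hx)
  have hc2 : ∀ a ∈ (fun y => k.1 * y * k.1⁻¹) '' E, ∀ b ∈ (fun y => k.1 * y * k.1⁻¹) '' E,
      Commute a b := by
    rintro _ ⟨x, hx, rfl⟩ _ ⟨y, hy, rfl⟩
    exact (Commute.conj_iff k.1).mpr (hc x hx y hy)
  have hcard2 : ((fun y => k.1 * y * k.1⁻¹) '' E).ncard = E.ncard :=
    Set.ncard_image_of_injective E (conj_injective k.1)
  have e1 := h.max_comm_eq hE' (fun E'' a b => by rw [hcard]; exact hmax E'' a b) hP'2 h1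
  have e2 := h.max_comm_eq hsub2 (fun E'' a b => by rw [hcard2]; exact hmax E'' a b) hP'2 h2
  rw [e1, e2]

variable [Finite G]

/-- the normalizer of a commuting subset of maximum size is doubly transitive on it -/
theorem Ctx.normalizer_two_trans (h : Ctx D) {E : Set G} (hE : E ⊆ D)
    (hc : ∀ a ∈ E, ∀ b ∈ E, Commute a b)
    (hmax : ∀ E' : Set G, E' ⊆ D → (∀ a ∈ E', ∀ b ∈ E', Commute a b) → E'.ncard ≤ E.ncard)
    {a b c d : G} (ha : a ∈ E) (hb : b ∈ E) (hc' : c ∈ E) (hd : d ∈ E) (hab : a ≠ b)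
    (hcd : c ≠ d) : ∃ g ∈ Subgroup.normalizer E, g * a * g⁻¹ = c ∧ g * b * g⁻¹ = d := by
  have hbD : b ∈ Dp D a := ⟨hE hb, fun hh => hab hh.symm, hc a ha b hb⟩
  have hdD : d ∈ Dp D c := ⟨hE hd, fun hh => hcd hh.symm, hc c hc' d hd⟩
  obtain ⟨g, hga, hgb⟩ := h.OP_commuting (hE ha) hbD (hE hc') hdD
  set E' : Set G := (fun y => g * y * g⁻¹) '' E with hE'
  have hE'D : E' ⊆ D := by
    rintro _ ⟨x, hx, rfl⟩
    exact h.tt.conj _ _ (hE hx)
  have hcE' : ∀ a ∈ E', ∀ b ∈ E', Commute a b := by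
    rintro _ ⟨x, hx, rfl⟩ _ ⟨y, hy, rfl⟩
    exact (Commute.conj_iff g).mpr (hc x hx y hy)
  have hcard : E'.ncard = E.ncard := Set.ncard_image_of_injective E (conj_injective g)
  set C : Subgroup G := Subgroup.centralizer ({c, d} : Set G) with hC
  have hEC : E ⊆ C := by
    intro x hx
    rw [SetLike.mem_coe, hC, Subgroup.mem_centralizer_iff]
    intro y hy
    rcases hy with rfl | rfl
    · exact (hc _ hc' x hx).eq
    · exact (hc _ hd x hx).eq
  have hEC' : E' ⊆ C := by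
    rintro _ ⟨x, hx, rfl⟩
    rw [SetLike.mem_coe, hC, Subgroup.mem_centralizer_iff]
    intro y hy
    rcases hy with rfl | rfl
    · rw [← hga]
      exact ((Commute.conj_iff g).mpr (hc a ha x hx)).eq
    · rw [← hgb]
      exact ((Commute.conj_iff g).mpr (hc b hb x hx)).eq
  obtain ⟨k, hkC, hk⟩ := h.tt.conj_in_subgroup hE hE'D hc hcE' hmax hcard C hEC hEC'
  have hkc : k * c = c * k := by
    rw [hC, Subgroup.mem_centralizer_iff] at hkC
    exact (hkC c (by simp)).symm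
  have hkd : k * d = d * k := by
    rw [hC, Subgroup.mem_centralizer_iff] at hkC
    exact (hkC d (by simp)).symm
  refine ⟨k⁻¹ * g, ?_, ?_, ?_⟩
  · rw [Subgroup.mem_set_normalizer_iff]
    intro n
    constructor
    · intro hn
      have h1 : g * n * g⁻¹ ∈ E' := ⟨n, hn, rfl⟩
      rw [← hk] at h1
      obtain ⟨x, hx, hx'⟩ := h1
      have e : k⁻¹ * g * n * (k⁻¹ * g)⁻¹ = x := by
        have : k⁻¹ * g * n * (k⁻¹ * g)⁻¹ = k⁻¹ * (g * n * g⁻¹) * k := by group
        rw [this, ← hx']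
        group
      rw [e]; exact hx
    · intro hn
      have h1 : k * (k⁻¹ * g * n * (k⁻¹ * g)⁻¹) * k⁻¹ ∈ (fun y => k * y * k⁻¹) '' E :=
        ⟨_, hn, rfl⟩
      rw [hk] at h1
      obtain ⟨n', hn', hn''⟩ := h1
      have e : k * (k⁻¹ * g * n * (k⁻¹ * g)⁻¹) * k⁻¹ = g * n * g⁻¹ := by group
      rw [e] at hn''
      have := conj_injective g hn''
      rw [← this]; exact hn'
  · have : k⁻¹ * g * a * (k⁻¹ * g)⁻¹ = k⁻¹ * (g * a * g⁻¹) * k := by group
    rw [this, hga]
    calc k⁻¹ * c * k = k⁻¹ * (c * k) := by group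
      _ = k⁻¹ * (k * c) := by rw [hkc]
      _ = c := by group
  · have : k⁻¹ * g * b * (k⁻¹ * g)⁻¹ = k⁻¹ * (g * b * g⁻¹) * k := by group
    rw [this, hgb]
    calc k⁻¹ * d * k = k⁻¹ * (d * k) := by group
      _ = k⁻¹ * (k * d) := by rw [hkd]
      _ = d := by group

end Cfsg.Agent.Lib.Helper1.FR3
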