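import Mathlib
import Cfsg.Agent.Lib.Helper1.FR9
import Cfsg.Agent.Lib.Helper1.Fitting
import Cfsg.Agent.Lib.Helper12.Cores
import Cfsg.Prelude.Def_CaseTheorems

/-!
Helper1: Fischer's `S₅` theorem, part 1.  Twins in the commuting graph on `D_a`, and their
existence when the odd core of `⟨D_a⟩` is not central.
-/

set_option autoImplicit false
set_option linter.unusedSectionVars false
set_option linter.unusedVariables false

open Subgroup

namespace Cfsg.Agent.Lib.Helper1.FR3

universe u

variable {G : Type u} [Group G] {D : Set G}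

/-- `e` and `f` are non-commuting twins in the commuting graph on `D_a` -/
def Tw (D : Set G) (a e f : G) : Prop :=
  e ∈ Dp D a ∧ f ∈ Dp D a ∧ ¬ Commute e f ∧
    ∀ y ∈ Dp D a, y ≠ e → y ≠ f → (Commute y e ↔ Commute y f)

theorem Tw.symm {a e f : G} (h : Tw D a e f) : Tw D a f e :=
  ⟨h.2.1, h.1, fun hc => h.2.2.1 hc.symm, fun y hy h1 h2 => (h.2.2.2 y hy h2 h1).symm⟩

theorem Tw.ne {a e f : G} (h : Tw D a e f) : e ≠ f := by
  rintro rfl
  exact h.2.2.1 (Commute.refl _)

theorem T3.Tw_conj (h : T3 D) (g : G) {a e f : G} (ht : Tw D a e f) :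
    Tw D (g * a * g⁻¹) (g * e * g⁻¹) (g * f * g⁻¹) := by
  obtain ⟨he, hf, hnc, htw⟩ := ht
  have hDp := h.Dp_conj g a
  refine ⟨by rw [hDp]; exact ⟨e, he, rfl⟩, by rw [hDp]; exact ⟨f, hf, rfl⟩, ?_, ?_⟩
  · intro hc
    exact hnc ((Commute.conj_iff g).mp hc)
  · intro y hy hye hyf
    rw [hDp] at hy
    obtain ⟨y₀, hy₀, rfl⟩ := hy
    have h1 : y₀ ≠ e := fun hh => hye (by rw [hh])
    have h2 : y₀ ≠ f := fun hh => hyf (by rw [hh])
    have := htw y₀ hy₀ h1 h2
    constructor
    · intro hc
      exact (Commute.conj_iff g).mpr (this.mp ((Commute.conj_iff g).mp hc))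
    · intro hc
      exact (Commute.conj_iff g).mpr (this.mpr ((Commute.conj_iff g).mp hc))

/-- conjugating by an element commuting with `a` -/
theorem T3.Tw_conj_of_commute (h : T3 D) {g a e f : G} (hg : Commute g a) (ht : Tw D a e f) :
    Tw D a (g * e * g⁻¹) (g * f * g⁻¹) := by
  have := h.Tw_conj g ht
  have hga : g * a * g⁻¹ = a := by rw [hg.eq, mul_inv_cancel_right]
  rwa [hga] at this

/-- the third member of the line through two twins is a twin -/
theorem T3.Tw_third (h : T3 D) {a e f : G} (ht : Tw D a e f) : Tw D a e (e * f * e) := by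
  have heD : e ∈ D := ht.1.1
  have hea : Commute e a := ht.1.2.2.symm
  have := h.Tw_conj_of_commute hea ht
  have hinv : e⁻¹ = e := h.inv heD
  rw [hinv] at this
  have hee : e * e * e = e := by rw [h.sq heD, one_mul]
  rwa [hee] at this

theorem T3.Tw_third' (h : T3 D) {a e f : G} (ht : Tw D a e f) : Tw D a f (e * f * e) := by
  have h1 := h.Tw_third ht.symm
  have hb : f * e * f = e * f * e := by
    have := h.braid ht.1.1 ht.2.1.1 ht.2.2.1
    exact this.symm
  rwa [hb] at h1

/-- transitivity of the twin relation -/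
theorem Tw.trans {a e f y : G} (h1 : Tw D a e f) (h2 : Tw D a f y) (hey : ¬ Commute e y) :
    Tw D a e y := by
  refine ⟨h1.1, h2.2.1, hey, ?_⟩
  intro z hz hze hzy
  by_cases hzf : z = f
  · subst hzf
    constructor
    · intro hc; exact absurd hc.symm h1.2.2.1
    · intro hc; exact absurd hc h2.2.2.1
  · exact (h1.2.2.2 z hz hze hzf).trans (h2.2.2.2 z hz hzf hzy)

section oddcore

variable [Finite G]

/-- if the odd core of `⟨D_x⟩` is not central, there are twins at `x` -/
theorem T3.exists_Tw_of_oddCore (h : T3 D) {x : G}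
    (hO : ¬ Cfsg.oddCore ↥(closure (Dp D x)) ≤ center ↥(closure (Dp D x))) :
    ∃ e f : G, Tw D x e f := by
  classical
  set H : Subgroup G := closure (Dp D x) with hH
  set O : Subgroup H := Cfsg.oddCore H with hOdef
  have hOn : O.Normal := pPrimeCore_normal 2 H
  have hOcop : (Nat.card O).Coprime 2 := Cfsg.Agent.Lib.Helper12.pPrimeCore_coprime 2
  rw [SetLike.not_le_iff_exists] at hO
  obtain ⟨q, hqO, hqZ⟩ := hO
  -- some generator does not commute with `q`
  have hex : ∃ e ∈ Dp D x, (q : G) * e ≠ e * (q : G) := by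
    by_contra hcon
    push Not at hcon
    apply hqZ
    rw [Subgroup.mem_center_iff]
    intro g
    have hle : H ≤ centralizer {(q : G)} := by
      apply (closure_le _).mpr
      intro e he
      rw [SetLike.mem_coe, mem_centralizer_iff]
      intro z hz
      rw [Set.mem_singleton_iff] at hz
      rw [hz]
      exact hcon e he
    have := hle g.2
    rw [mem_centralizer_iff] at this
    have h2 := this (q : G) rfl
    apply Subtype.ext
    show (g : G) * (q : G) = (q : G) * (g : G)
    exact h2.symm
  obtain ⟨e, he, hqe⟩ := hex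
  have hqx : Commute (q : G) x := (closure_Dp_commute (D := D) q.2).symm
  have heH : e ∈ H := subset_closure he
  -- the key: elements of `D_x` commuting with a member commute with its `O`-conjugates
  have key : ∀ r : H, r ∈ O → ∀ e ∈ Dp D x, ∀ y ∈ Dp D x, y ≠ e → Commute y e →
      Commute y ((r : G) * e * (r : G)⁻¹) := by
    intro r hr e he y hy hye hc
    by_contra hnc
    have hrx : Commute (r : G) x := (closure_Dp_commute (D := D) r.2).symm
    have hf : (r : G) * e * (r : G)⁻¹ ∈ Dp D x := by
      have := h.Dp_conj (r : G) x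
      have hrx' : (r : G) * x * (r : G)⁻¹ = x := by rw [hrx.eq, mul_inv_cancel_right]
      rw [hrx'] at this
      rw [this]
      exact ⟨e, he, rfl⟩
    set f : G := (r : G) * e * (r : G)⁻¹ with hfdef
    have hbr := h.braid hy.1 hf.1 hnc
    have heH : e ∈ H := subset_closure he
    have hyH : y ∈ H := subset_closure hy
    obtain ⟨e', he'⟩ : ∃ e' : H, (e' : G) = e := ⟨⟨e, heH⟩, rfl⟩
    obtain ⟨y', hy'⟩ : ∃ y' : H, (y' : G) = y := ⟨⟨y, hyH⟩, rfl⟩
    obtain ⟨f', hf'⟩ : ∃ f' : H, f' = r * e' * r⁻¹ := ⟨_, rfl⟩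
    have hf'v : (f' : G) = f := by rw [hf', hfdef, ← he']; rfl
    have hbr' : y' * f' * y' = f' * y' * f' := by
      apply Subtype.ext
      show (y' : G) * (f' : G) * (y' : G) = (f' : G) * (y' : G) * (f' : G)
      rw [hy', hf'v]; exact hbr
    obtain ⟨φ, hφ⟩ : ∃ φ : H →* H ⧸ O, φ = QuotientGroup.mk' O := ⟨_, rfl⟩
    have hφr : φ r = 1 := by
      rw [hφ, QuotientGroup.mk'_apply, QuotientGroup.eq_one_iff]; exact hr
    have hφf : φ f' = φ e' := by
      rw [hf', map_mul, map_mul, map_inv, hφr, one_mul, inv_one, mul_one]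
    have hee : e' * e' = 1 := by
      apply Subtype.ext
      show (e' : G) * (e' : G) = 1
      rw [he']; exact h.sq he.1
    have hyy : y' * y' = 1 := by
      apply Subtype.ext
      show (y' : G) * (y' : G) = 1
      rw [hy']; exact h.sq hy.1
    have hye' : y' * e' = e' * y' := by
      apply Subtype.ext
      show (y' : G) * (e' : G) = (e' : G) * (y' : G)
      rw [hy', he']; exact hc.eq
    have h1 := congrArg φ hbr'
    rw [map_mul, map_mul, map_mul, map_mul, hφf] at h1
    have h2 : φ y' * φ e' * φ y' = φ e' := by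
      rw [← map_mul, ← map_mul, hye', mul_assoc, hyy, mul_one]
    rw [h2] at h1
    have h3 : φ (y' * e') = 1 := by
      rw [map_mul]
      have : φ e' * (φ y' * φ e') = φ e' * 1 := by rw [mul_one, ← mul_assoc]; exact h1.symm
      exact mul_left_cancel this
    rw [hφ, QuotientGroup.mk'_apply, QuotientGroup.eq_one_iff] at h3
    -- `y * e` is an involution in `O`
    have h4 : (y' * e') ^ 2 = 1 := by
      rw [pow_two]
      calc y' * e' * (y' * e') = y' * (e' * y') * e' := by group
        _ = y' * (y' * e') * e' := by rw [hye']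
        _ = (y' * y') * (e' * e') := by group
        _ = 1 := by rw [hyy, hee, one_mul]
    have h5 : y' * e' ≠ 1 := by
      intro h6
      apply hye
      have h7 : y' = e'⁻¹ := eq_inv_of_mul_eq_one_left h6
      have h8 : e'⁻¹ = e' := inv_eq_of_mul_eq_one_left hee
      rw [h8] at h7
      rw [← hy', ← he', h7]
    have h6 : orderOf (y' * e') = 2 := orderOf_eq_prime h4 h5
    have h7 : orderOf (⟨y' * e', h3⟩ : O) = 2 := by
      rw [← h6]
      exact (Subgroup.orderOf_mk (y' * e') h3)
    have h8 : 2 ∣ Nat.card O := by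
      rw [← h7]; exact orderOf_dvd_natCard _
    have := Nat.Coprime.eq_one_of_dvd hOcop.symm h8
    omega
  set f : G := (q : G) * e * (q : G)⁻¹ with hfdef
  have hf : f ∈ Dp D x := by
    have := h.Dp_conj (q : G) x
    have hqx' : (q : G) * x * (q : G)⁻¹ = x := by rw [hqx.eq, mul_inv_cancel_right]
    rw [hqx'] at this
    rw [this]
    exact ⟨e, he, rfl⟩
  have hfe : f ≠ e := by
    intro hh
    apply hqe
    calc (q : G) * e = ((q : G) * e * (q : G)⁻¹) * (q : G) := by group
      _ = e * (q : G) := by rw [← hfdef, hh]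
  have hback : (q⁻¹ : H) ∈ O := O.inv_mem hqO
  have hef : e = ((q⁻¹ : H) : G) * f * ((q⁻¹ : H) : G)⁻¹ := by
    rw [hfdef]; simp only [Subgroup.coe_inv]; group
  refine ⟨e, f, he, hf, ?_, ?_⟩
  · -- `e`, `f` do not commute
    intro hc
    have := key q hqO e he f hf hfe
    -- use key differently: if `e f` commute then `f` commutes with `e`, and ...
    have hfe' : Commute f e := hc.symm
    -- then `f * e` is an involution in `O`; redo the argument via `key` with `y = f`
    have h1 := key q⁻¹ hback f hf e he (Ne.symm hfe) hc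
    rw [← hef] at h1
    -- h1 : Commute e e, useless; direct argument
    let e' : H := ⟨e, heH⟩
    let f' : H := q * e' * q⁻¹
    have hmem : e' * f' ∈ O := by
      have h2 : e' * q * e'⁻¹ ∈ O := hOn.conj_mem q hqO e'
      have hee : e' * e' = 1 := Subtype.ext (h.sq he.1)
      have h8 : e'⁻¹ = e' := inv_eq_of_mul_eq_one_left hee
      have : e' * f' = (e' * q * e'⁻¹) * q⁻¹ := by
        show e' * (q * e' * q⁻¹) = (e' * q * e'⁻¹) * q⁻¹
        rw [h8]; group
      rw [this]
      exact O.mul_mem h2 hback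
    have hff : f * f = 1 := h.sq hf.1
    have hee : e * e = 1 := h.sq he.1
    have h4 : (e' * f') ^ 2 = 1 := by
      apply Subtype.ext
      show (e * f) ^ 2 = 1
      rw [pow_two]
      calc e * f * (e * f) = e * (f * e) * f := by group
        _ = e * (e * f) * f := by rw [hfe'.eq]
        _ = (e * e) * (f * f) := by group
        _ = 1 := by rw [hee, hff, one_mul]
    have h5 : e' * f' ≠ 1 := by
      intro h6
      apply hfe
      have h7 : (e * f : G) = 1 := congrArg Subtype.val h6
      have : f = e⁻¹ := eq_inv_of_mul_eq_one_right h7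
      rw [this, h.inv he.1]
    have h6 : orderOf (e' * f') = 2 := orderOf_eq_prime h4 h5
    have h7 : orderOf (⟨e' * f', hmem⟩ : O) = 2 := by
      rw [← h6]
      exact (Subgroup.orderOf_mk (e' * f') hmem)
    have h8 : 2 ∣ Nat.card O := by
      rw [← h7]; exact orderOf_dvd_natCard _
    have := Nat.Coprime.eq_one_of_dvd hOcop.symm h8
    omega
  · intro y hy hye hyf
    constructor
    · intro hc
      exact key q hqO e he y hy hye hc
    · intro hc
      have := key q⁻¹ hback f hf y hy hyf hc
      rwa [← hef] at this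

end oddcore

end Cfsg.Agent.Lib.Helper1.FR3
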