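import Mathlib
import Cfsg.Agent.Lib.Helper1.FR9
import Cfsg.Agent.S2530

/-!
Helper1: Fischer's `S₅` theorem, part 2.  A string of four `3`-transpositions of type `A₄`
gives an injective homomorphism from the symmetric group of degree `5`.
-/

set_option autoImplicit false
set_option linter.unusedSectionVars false
set_option linter.unusedVariables false

open Subgroup Equiv

namespace Cfsg.Agent.Lib.Helper1.FR3

universe u

variable {G : Type u} [Group G] {D : Set G}

/-- a string `p - z - w - q` of type `A₄` -/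
structure Path4 (D : Set G) (p z w q : G) : Prop where
  hp : p ∈ D
  hz : z ∈ D
  hw : w ∈ D
  hq : q ∈ D
  pz : ¬ Commute p z
  zw : ¬ Commute z w
  wq : ¬ Commute w q
  pw : Commute p w
  pq : Commute p q
  zq : Commute z q

theorem mul_pow_two_of_commute {x y : G} (hx : x * x = 1) (hy : y * y = 1) (hc : Commute x y) :
    (x * y) ^ 2 = 1 := by
  rw [pow_two]
  calc x * y * (x * y) = x * (y * x) * y := by group
    _ = x * (x * y) * y := by rw [hc.eq]
    _ = (x * x) * (y * y) := by group
    _ = 1 := by rw [hx, hy, one_mul]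

theorem T3.cube' (h : T3 D) {x y : G} (hx : x ∈ D) (hy : y ∈ D) (hnc : ¬ Commute x y) :
    (y * x) ^ 3 = 1 := h.cube hy hx (fun hc => hnc hc.symm)

/-- the homomorphism defined by a string of type `A₄` -/
theorem T3.exists_hom (h : T3 D) {p z w q : G} (hc : Path4 D p z w q) :
    ∃ φ : Perm (Fin 5) →* G, φ (swap 0 1) = p ∧ φ (swap 1 2) = z ∧ φ (swap 2 3) = w ∧
      φ (swap 3 4) = q := by
  obtain ⟨cs, hcs⟩ := Cfsg.Agent.S2530.result 4
  let t : Fin 4 → G := ![p, z, w, q]
  have hpp := h.sq hc.hp
  have hzz := h.sq hc.hz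
  have hww := h.sq hc.hw
  have hqq := h.sq hc.hq
  have hl : (CoxeterMatrix.A 4).IsLiftable t := by
    intro i j
    rw [Cfsg.Agent.S2530.A_apply]
    fin_cases i <;> fin_cases j <;> simp only [t] <;> norm_num
    · exact hpp
    · exact h.cube hc.hp hc.hz hc.pz
    · exact mul_pow_two_of_commute hpp hww hc.pw
    · exact mul_pow_two_of_commute hpp hqq hc.pq
    · exact h.cube' hc.hp hc.hz hc.pz
    · exact hzz
    · exact h.cube hc.hz hc.hw hc.zw
    · exact mul_pow_two_of_commute hzz hqq hc.zq
    · exact mul_pow_two_of_commute hww hpp hc.pw.symm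
    · exact h.cube' hc.hz hc.hw hc.zw
    · exact hww
    · exact h.cube hc.hw hc.hq hc.wq
    · exact mul_pow_two_of_commute hqq hpp hc.pq.symm
    · exact mul_pow_two_of_commute hqq hzz hc.zq.symm
    · exact h.cube' hc.hw hc.hq hc.wq
    · exact hqq
  refine ⟨cs.lift ⟨t, hl⟩, ?_, ?_, ?_, ?_⟩
  · have := cs.lift_apply_simple hl 0
    rw [hcs] at this
    exact this
  · have := cs.lift_apply_simple hl 1
    rw [hcs] at this
    exact this
  · have := cs.lift_apply_simple hl 2
    rw [hcs] at this
    exact this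
  · have := cs.lift_apply_simple hl 3
    rw [hcs] at this
    exact this

/-- a homomorphism from the symmetric group of degree `5` is injective if two adjacent
transpositions have different images -/
theorem injective_of_ne (φ : Perm (Fin 5) →* G)
    (hne : φ (swap 0 1) ≠ φ (swap 1 2)) : Function.Injective φ := by
  rw [← MonoidHom.ker_eq_bot_iff]
  by_contra hk
  have hnt : Nontrivial φ.ker := (Subgroup.nontrivial_iff_ne_bot _).mpr hk
  have hle := Equiv.Perm.alternatingGroup_le_of_normal (α := Fin 5) (by simp) hnt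
  have hmem : (swap (0 : Fin 5) 1 * swap 1 2) ∈ alternatingGroup (Fin 5) := by
    rw [Equiv.Perm.mem_alternatingGroup]
    decide
  have := hle hmem
  rw [MonoidHom.mem_ker, map_mul] at this
  apply hne
  have h2 : (swap (1 : Fin 5) 2) * swap 1 2 = 1 := by decide
  have h3 : φ (swap 1 2) * φ (swap 1 2) = 1 := by rw [← map_mul, h2, map_one]
  calc φ (swap 0 1) = φ (swap 0 1) * (φ (swap 1 2) * φ (swap 1 2)) := by rw [h3, mul_one]
    _ = (φ (swap 0 1) * φ (swap 1 2)) * φ (swap 1 2) := by group
    _ = φ (swap 1 2) := by rw [this, one_mul]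

end Cfsg.Agent.Lib.Helper1.FR3
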