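import Mathlib
import Cfsg.Agent.Lib.Helper1.FS1
import Cfsg.Agent.Lib.Helper1.FS2

/-!
Helper1: Fischer's `S₅` theorem, part 3.  From twins at `a` to: no two different members of `D_a`
commute.
-/

set_option autoImplicit false
set_option linter.unusedSectionVars false
set_option linter.unusedVariables false

open Subgroup Equiv

namespace Cfsg.Agent.Lib.Helper1.FR3

universe u

variable {G : Type u} [Group G] {D : Set G}

/-- symmetry of the `S₅` configuration: twins at `p` give twins at `q` -/
theorem T3.P3 (h : T3 D) {p z w q : G} (hc : Path4 D p z w q) (ht : Tw D p q w) : Tw D q p z := by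
  obtain ⟨φ, h0, h1, h2, h3⟩ := h.exists_hom hc
  set σ : Perm (Fin 5) := swap 0 3 * swap 1 4 with hσ
  have e1 : σ * swap 0 1 * σ⁻¹ = swap 3 4 := by rw [hσ]; decide
  have e2 : σ * swap 3 4 * σ⁻¹ = swap 0 1 := by rw [hσ]; decide
  have e3 : σ * swap 2 3 * σ⁻¹ = swap 1 2 * swap 0 1 * swap 1 2 := by rw [hσ]; decide
  have f1 : φ σ * p * (φ σ)⁻¹ = q := by
    rw [← h0, ← h3, ← map_inv, ← map_mul, ← map_mul, e1]
  have f2 : φ σ * q * (φ σ)⁻¹ = p := by
    rw [← h0, ← h3, ← map_inv, ← map_mul, ← map_mul, e2]
  have f3 : φ σ * w * (φ σ)⁻¹ = z * p * z := by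
    rw [← h0, ← h1, ← h2, ← map_inv, ← map_mul, ← map_mul, e3, map_mul, map_mul]
  have t1 := h.Tw_conj (φ σ) ht
  rw [f1, f2, f3] at t1
  have t2 := h.Tw_conj_of_commute hc.pq t1
  have hpi : p⁻¹ = p := h.inv hc.hp
  have hpp : p * p = 1 := h.sq hc.hp
  have hbr : p * z * p = z * p * z := h.braid hc.hp hc.hz hc.pz
  rw [hpi] at t2
  have g1 : p * p * p = p := by rw [hpp, one_mul]
  have g2 : p * (z * p * z) * p = z := by
    rw [← hbr]
    calc p * (p * z * p) * p = (p * p) * z * (p * p) := by group
      _ = z := by rw [hpp, one_mul, mul_one]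
  rwa [g1, g2] at t2

section main

variable [Finite G]

/-- from twins at `a` to an `S₅` configuration with twins at `a` -/
theorem Ctx.exists_config (h : Ctx D) {a e f : G} (ha : a ∈ D) (ht : Tw D a e f) :
    ∃ e' f' b : G, Tw D a e' f' ∧ Path4 D a b f' e' := by
  classical
  have hT := h.tt
  set g : G := e * f * e with hg
  have t1 : Tw D a e g := hT.Tw_third ht
  have t2 : Tw D a f g := hT.Tw_third' ht
  set M : Set G := {e, f, g} with hM
  have hMD : M ⊆ D := by
    intro y hy
    rcases hy with rfl | rfl | rfl
    · exact ht.1.1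
    · exact ht.2.1.1
    · exact t1.2.1.1
  have hnm : ¬ IsMod D M := by
    intro hmod
    have hsub := h.mod_trivial (h.noTwin h.noW) hmod (u := e) (v := f) (by simp [hM]) (by simp [hM])
      ht.ne
    have haM := hsub ha
    rcases haM with rfl | rfl | hh
    · exact ht.1.2.1 rfl
    · exact ht.2.1.2.1 rfl
    · exact t1.2.1.2.1 hh.symm
  have hex : ∃ y ∈ D, y ∉ M ∧ ∃ u ∈ M, ∃ v ∈ M, Commute y u ∧ ¬ Commute y v := by
    by_contra hcon
    apply hnm
    refine ⟨hMD, ?_⟩
    intro y hy hyM u hu v hv
    constructor
    · intro hc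
      by_contra hnc
      exact hcon ⟨y, hy, hyM, u, hu, v, hv, hc, hnc⟩
    · intro hc
      by_contra hnc
      exact hcon ⟨y, hy, hyM, v, hv, u, hu, hc, hnc⟩
  obtain ⟨y, hyD, hyM, u, hu, v, hv, hcu, hncv⟩ := hex
  -- all ordered pairs of different members of `M` are twins
  have hpair : ∀ u ∈ M, ∀ v ∈ M, u ≠ v → Tw D a u v := by
    intro u hu v hv huv
    rcases hu with rfl | rfl | rfl <;> rcases hv with rfl | rfl | rfl
    · exact absurd rfl huv
    · exact ht
    · exact t1
    · exact ht.symm
    · exact absurd rfl huv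
    · exact t2
    · exact t1.symm
    · exact t2.symm
    · exact absurd rfl huv
  have huv : u ≠ v := by
    rintro rfl
    exact hncv hcu
  have htw := hpair u hu v hv huv
  have hyu : y ≠ u := fun hh => hyM (hh ▸ hu)
  have hyv : y ≠ v := fun hh => hyM (hh ▸ hv)
  have hya : y ≠ a := by
    rintro rfl
    exact hncv htw.2.1.2.2
  have hnya : ¬ Commute a y := by
    intro hc
    have hyDp : y ∈ Dp D a := ⟨hyD, hya, hc⟩
    exact hncv ((htw.2.2.2 y hyDp hyu hyv).mp hcu)
  refine ⟨u, v, y, htw, ?_⟩
  exact
    { hp := ha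
      hz := hyD
      hw := htw.2.1.1
      hq := htw.1.1
      pz := hnya
      zw := hncv
      wq := fun hc => htw.2.2.1 hc.symm
      pw := htw.2.1.2.2
      pq := htw.1.2.2
      zq := hcu }

/-- every member of `D_a` not commuting with `e` is a twin of `e` -/
theorem T3.claim6 (h : T3 D) {a b e f : G} (hcfg : Path4 D a b f e) (ht : Tw D a e f)
    {y : G} (hy : y ∈ Dp D a) (hye : y ≠ e) (hnc : ¬ Commute y e) : Tw D a e y := by
  by_contra hnt
  have hea : Tw D e a b := h.P3 hcfg ht
  have hee := h.sq hcfg.hq
  have hff := h.sq hcfg.hw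
  have hbb := h.sq hcfg.hz
  have hyf : y ≠ f := by
    rintro rfl
    exact hnt ht
  -- `y` commutes with `b`
  have hyb : Commute y b := by
    by_contra hnyb
    apply hnt
    have hp : Path4 D e y b a :=
      { hp := hcfg.hq
        hz := hy.1
        hw := hcfg.hz
        hq := hcfg.hp
        pz := fun hc => hnc hc.symm
        zw := hnyb
        wq := fun hc => hcfg.pz hc.symm
        pw := hcfg.zq.symm
        pq := hcfg.pq.symm
        zq := hy.2.2.symm }
    exact h.P3 hp hea
  -- the third member of the line
  set g : G := e * f * e with hg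
  have hef : ¬ Commute e f := ht.2.2.1
  have hbr : e * f * e = f * e * f := h.braid hcfg.hq hcfg.hw hef
  have hgD : g ∈ D := h.cj hcfg.hq hcfg.hw
  have hgi : g⁻¹ = g := h.inv hgD
  have hga : Commute g a := by
    have h1 : Commute e a := hcfg.pq.symm
    have h2 : Commute f a := hcfg.pw.symm
    exact (h1.mul_left h2).mul_left h1
  have hgeg : g * e * g⁻¹ = f := by
    rw [hgi, hg]
    calc e * f * e * e * (e * f * e) = e * f * (e * e) * (e * f * e) := by group
      _ = (e * f * e) * f * e := by rw [hee]; group
      _ = (f * e * f) * f * e := by rw [hbr]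
      _ = f * e * (f * f) * e := by group
      _ = f := by rw [hff, mul_one, mul_assoc, hee, mul_one]
  have hgag : g * a * g⁻¹ = a := by rw [hga.eq, mul_inv_cancel_right]
  have t3 : Tw D f a (g * b * g⁻¹) := by
    have := h.Tw_conj g hea
    rwa [hgeg, hgag] at this
  have tg : Tw D a e g := h.Tw_third ht
  have hyg : y ≠ g := by
    rintro rfl
    exact hnt tg
  have hncf : ¬ Commute y f := fun hc => hnc ((ht.2.2.2 y hy hye hyf).mpr hc)
  -- `y` commutes with `g b g`
  have hyb' : Commute y (g * b * g⁻¹) := by
    by_contra hnyb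
    apply hnt
    have hp : Path4 D f y (g * b * g⁻¹) a :=
      { hp := hcfg.hw
        hz := hy.1
        hw := h.conj g b hcfg.hz
        hq := hcfg.hp
        pz := fun hc => hncf hc.symm
        zw := hnyb
        wq := by
          intro hc
          rw [← hgag] at hc
          exact hcfg.pz ((Commute.conj_iff g).mp hc).symm
        pw := by
          rw [← hgeg]
          exact (Commute.conj_iff g).mpr hcfg.zq.symm
        pq := hcfg.pw.symm
        zq := hy.2.2.symm }
    have t4 : Tw D a f y := h.P3 hp t3
    exact ht.trans t4 (fun hc => hnc hc.symm)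
  -- hence with `g`
  have hnbg : ¬ Commute b g := by
    intro hc
    apply hcfg.zw
    have h1 : Commute b e := hcfg.zq
    have h2 : f = e * g * e := by
      rw [hg]
      calc f = (e * e) * f * (e * e) := by rw [hee, one_mul, mul_one]
        _ = e * (e * f * e) * e := by group
    rw [h2]
    exact (h1.mul_right hc).mul_right h1
  have hbr2 : b * g * b = g * b * g := h.braid hcfg.hz hgD hnbg
  have hgeq : g = b * (g * b * g⁻¹) * b := by
    rw [hgi, ← hbr2]
    calc g = (b * b) * g * (b * b) := by rw [hbb, one_mul, mul_one]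
      _ = b * (b * g * b) * b := by group
  have hyg' : Commute y g := by
    rw [hgeq]
    exact (hyb.mul_right hyb').mul_right hyb
  exact hnc ((tg.2.2.2 y hy hye hyg).mpr hyg')

/-- in an `S₅` configuration with twins, no two different members of `D_a` commute -/
theorem Ctx.width_one_local (h : Ctx D) {a b e f : G} (hcfg : Path4 D a b f e)
    (ht : Tw D a e f) : ∀ u ∈ Dp D a, ∀ v ∈ Dp D a, Commute u v → u = v := by
  have hT := h.tt
  have ha := hcfg.hp
  have heDp : e ∈ Dp D a := ht.1
  set M : Set G := {y | y ∈ Dp D a ∧ (y = e ∨ ¬ Commute y e)} with hM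
  have hMtw : ∀ y ∈ M, y ≠ e → Tw D a e y := by
    intro y hy hye
    rcases hy.2 with h1 | h1
    · exact absurd h1 hye
    · exact hT.claim6 hcfg ht hy.1 hye h1
  have hMnc : ∀ y ∈ M, ∀ y' ∈ M, y ≠ y' → ¬ Commute y y' := by
    intro y hy y' hy' hne hc
    by_cases h1 : y = e
    · subst h1
      rcases hy'.2 with h2 | h2
      · exact hne h2.symm
      · exact h2 hc.symm
    · by_cases h2 : y' = e
      · subst h2
        rcases hy.2 with h3 | h3
        · exact h1 h3
        · exact h3 hc
      · have t := hMtw y' hy' h2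
        have := (t.2.2.2 y hy.1 h1 hne).mpr hc
        rcases hy.2 with h3 | h3
        · exact h1 h3
        · exact h3 this
  have hout : ∀ y ∈ Dp D a, y ∉ M → ∀ m ∈ M, Commute y m := by
    intro y hy hyM m hm
    have hye : y ≠ e := fun hh => hyM ⟨hy, Or.inl hh⟩
    have hce : Commute y e := by
      by_contra hnc
      exact hyM ⟨hy, Or.inr hnc⟩
    by_cases hme : m = e
    · rw [hme]; exact hce
    · have t := hMtw m hm hme
      have hym : y ≠ m := fun hh => hyM (hh ▸ hm)
      exact (t.2.2.2 y hy hye hym).mp hce
  -- `M` is invariant under conjugation by members of `D_a`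
  have hinv : ∀ u ∈ Dp D a, ∀ m ∈ M, u * m * u⁻¹ ∈ M := by
    intro u hu m hm
    by_cases huM : u ∈ M
    · by_cases hum : u = m
      · subst hum
        have : u * u * u⁻¹ = u := by group
        rw [this]; exact hm
      · have hncum := hMnc u huM m hm hum
        have hui : u⁻¹ = u := hT.inv hu.1
        rw [hui]
        have hmem : u * m * u ∈ Dp D a := by
          have := hT.Dp_conj u a
          have hua : u * a * u⁻¹ = a := by rw [hu.2.2.symm.eq, mul_inv_cancel_right]
          rw [hua] at this
          rw [this]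
          exact ⟨m, hm.1, by rw [hui]⟩
        refine ⟨hmem, ?_⟩
        by_cases hue : u = e
        · subst hue
          have hme : m ≠ u := fun hh => hum hh.symm
          have t := hT.Tw_third (hMtw m hm hme)
          right
          intro hc
          exact t.2.2.1 hc.symm
        · by_cases hme : m = e
          · subst hme
            have t := hT.Tw_third (hMtw u huM hue)
            have hbr := hT.braid hu.1 hm.1.1 hncum
            right
            intro hc
            rw [hbr] at hc
            exact t.2.2.1 hc.symm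
          · -- both different from `e`
            have tu := hMtw u huM hue
            have tm := hMtw m hm hme
            have tum : Tw D a u m := tu.symm.trans tm hncum
            have t3 := hT.Tw_third tum
            by_cases h3 : u * m * u = e
            · left; exact h3
            · right
              intro hc
              have hne_u : e ≠ u := fun hh => hue hh.symm
              have := (t3.2.2.2 e heDp hne_u (fun hh => h3 hh.symm)).mpr hc.symm
              exact tu.2.2.1 this
    · have hc := hout u hu huM m hm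
      have : u * m * u⁻¹ = m := by rw [hc.eq, mul_inv_cancel_right]
      rw [this]; exact hm
  have hinv' : ∀ u ∈ Dp D a, ∀ m ∈ M, u⁻¹ * m * u ∈ M := by
    intro u hu m hm
    have := hinv u hu m hm
    have hui : u⁻¹ = u := hT.inv hu.1
    rw [hui] at this ⊢
    exact this
  have heM : e ∈ M := ⟨heDp, Or.inl rfl⟩
  have hall : Dp D a ⊆ M := by
    intro c hc
    obtain ⟨g, hg, rfl⟩ := h.Dp_subset_Lam ha heDp hc
    exact (conj_closure_invariant hinv hinv' hg).1 e heM
  intro u hu v hv hc
  by_contra hne
  exact hMnc u (hall hu) v (hall hv) hne hc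

/-- if there are twins somewhere, no two different members of any `D_a` commute -/
theorem Ctx.width_one (h : Ctx D) {x e f : G} (hx : x ∈ D) (ht : Tw D x e f) :
    ∀ a ∈ D, ∀ u ∈ Dp D a, ∀ v ∈ Dp D a, Commute u v → u = v := by
  obtain ⟨e', f', b, ht', hcfg⟩ := h.exists_config hx ht
  have hloc := h.width_one_local hcfg ht'
  intro a ha u hu v hv hc
  obtain ⟨g, rfl⟩ := h.trans x hx a ha
  rw [h.tt.Dp_conj g x] at hu hv
  obtain ⟨u₀, hu₀, rfl⟩ := hu
  obtain ⟨v₀, hv₀, rfl⟩ := hv
  have := hloc u₀ hu₀ v₀ hv₀ ((Commute.conj_iff g).mp hc)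
  rw [this]

end main

end Cfsg.Agent.Lib.Helper1.FR3
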