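import Mathlib
import Cfsg.Agent.Lib.Helper1.FR9
import Cfsg.Agent.Lib.Helper12.WidthOne

/-!
Helper1: Fischer's `S₅` theorem, part 4.  A set of pairwise non-commuting `3`-transpositions closed
under its own conjugations has `3 ^ n` members.
-/

set_option autoImplicit false
set_option linter.unusedSectionVars false
set_option linter.unusedVariables false

open Subgroup

namespace Cfsg.Agent.Lib.Helper1.FR3

universe u

variable {G : Type u} [Group G]

theorem ncard_eq_three_pow [Finite G] {S : Set G} (hne : S.Nonempty)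
    (hord : ∀ s ∈ S, orderOf s = 2)
    (h23 : ∀ s ∈ S, ∀ t ∈ S, (s * t) ^ 2 = 1 ∨ (s * t) ^ 3 = 1)
    (hcl : ∀ s ∈ S, ∀ t ∈ S, s * t * s⁻¹ ∈ S)
    (hw : ∀ s ∈ S, ∀ t ∈ S, Commute s t → s = t) : ∃ n : ℕ, S.ncard = 3 ^ n := by
  classical
  have : Fact (Nat.Prime 3) := ⟨Nat.prime_three⟩
  have hsq : ∀ s ∈ S, s * s = 1 := by
    intro s hs
    have := pow_orderOf_eq_one s
    rwa [hord s hs, pow_two] at this
  have hinv : ∀ s ∈ S, s⁻¹ = s := fun s hs => inv_eq_of_mul_eq_one_left (hsq s hs)
  set H : Subgroup G := closure S with hH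
  set S' : Set H := {h | (h : G) ∈ S} with hS'
  have hcl' : ∀ s ∈ S, ∀ t ∈ S, s⁻¹ * t * s ∈ S := by
    intro s hs t ht
    have := hcl s hs t ht
    rw [hinv s hs] at this ⊢
    exact this
  have hconj' : ∀ g : H, ∀ e ∈ S', g * e * g⁻¹ ∈ S' := by
    intro g e he
    exact (conj_closure_invariant hcl hcl' g.2).1 (e : G) he
  obtain ⟨d, hd⟩ := hne
  have hdH : d ∈ H := subset_closure hd
  obtain ⟨d', hd'⟩ : ∃ d' : H, (d' : G) = d := ⟨⟨d, hdH⟩, rfl⟩
  have hd'S : d' ∈ S' := by show (d' : G) ∈ S; rw [hd']; exact hd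
  have hord' : ∀ e ∈ S', orderOf e = 2 := by
    intro e he
    rw [← hord (e : G) he]
    exact (Subgroup.orderOf_coe e).symm
  have h23' : ∀ a ∈ S', ∀ b ∈ S', (a * b) ^ 2 = 1 ∨ (a * b) ^ 3 = 1 := by
    intro a ha b hb
    rcases h23 (a : G) ha (b : G) hb with h | h
    · left; exact Subtype.ext h
    · right; exact Subtype.ext h
  have hw' : ∀ a ∈ S', ∀ b ∈ S', Commute a b → a = b := by
    intro a ha b hb hc
    apply Subtype.ext
    apply hw (a : G) ha (b : G) hb
    exact congrArg Subtype.val hc.eq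
  obtain ⟨P, hdN, hP⟩ := Cfsg.Agent.Lib.Helper12.exists_sylow_three_of_width_one hord' h23' hconj'
    hw' hd'S
  have hdd : d' * d' = 1 := by
    apply Subtype.ext
    show (d' : G) * (d' : G) = 1
    rw [hd']; exact hsq d hd
  letI act : MulAction (P : Subgroup H) H :=
    MulAction.compHom H ((MulAut.conj : H →* MulAut H).comp (P : Subgroup H).subtype)
  have hact : ∀ (y : (P : Subgroup H)) (h : H), y • h = (y : H) * h * (y : H)⁻¹ := fun y h => rfl
  have horb : MulAction.orbit (P : Subgroup H) d' = S' := by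
    ext e
    constructor
    · rintro ⟨y, rfl⟩
      show y • d' ∈ S'
      rw [hact]
      exact hconj' _ _ hd'S
    · intro he
      obtain ⟨x, hxP, rfl⟩ := hP e he
      -- `d'` inverts `x`
      have hee : x * d' * (x * d') = 1 := by
        apply Subtype.ext
        exact hsq _ he
      have hinvx : d' * x * d' = x⁻¹ := by
        have : x * (d' * x * d') = 1 := by
          calc x * (d' * x * d') = x * d' * (x * d') := by group
            _ = 1 := hee
        exact eq_inv_of_mul_eq_one_right this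
      -- a square root of `x`
      obtain ⟨j, hj⟩ := (IsPGroup.iff_orderOf.mp P.2) ⟨x, hxP⟩
      have hox : orderOf x = 3 ^ j := by
        rw [← hj]; exact (Subgroup.orderOf_mk x hxP).symm
      have hodd : Odd (orderOf x) := by
        rw [hox]; exact Odd.pow (by decide)
      obtain ⟨m, hm⟩ := hodd
      set y : H := x ^ (m + 1) with hy
      have hyP : y ∈ (P : Subgroup H) := (P : Subgroup H).pow_mem hxP _
      have hy2 : y * y = x := by
        rw [hy, ← pow_add]
        have : m + 1 + (m + 1) = orderOf x + 1 := by omega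
        rw [this, pow_succ, pow_orderOf_eq_one, one_mul]
      have hinvy : d' * y * d' = y⁻¹ := by
        have hdi : d'⁻¹ = d' := inv_eq_of_mul_eq_one_left hdd
        have h1 : d' * y * d' = (d' * x * d'⁻¹) ^ (m + 1) := by
          rw [conj_pow, hdi]
        rw [h1, hdi, hinvx, inv_pow]
      refine ⟨⟨y, hyP⟩, ?_⟩
      show (⟨y, hyP⟩ : (P : Subgroup H)) • d' = x * d'
      rw [hact]
      show y * d' * y⁻¹ = x * d'
      rw [← hinvy, ← hy2]
      calc y * d' * (d' * y * d') = y * (d' * d') * y * d' := by group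
        _ = y * y * d' := by rw [hdd, mul_one]
  obtain ⟨n, hn⟩ := IsPGroup.card_orbit P.2 d'
  refine ⟨n, ?_⟩
  rw [← hn]
  have himg : S = Subtype.val '' S' := by
    ext s
    constructor
    · intro hs
      exact ⟨⟨s, subset_closure hs⟩, hs, rfl⟩
    · rintro ⟨s', hs', rfl⟩
      exact hs'
  rw [himg, Set.ncard_image_of_injective _ Subtype.val_injective, ← horb]
  rfl

end Cfsg.Agent.Lib.Helper1.FR3
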