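import Mathlib
import Cfsg.Agent.Lib.Helper1.FR9

/-!
Helper1: Fischer's `S₅` theorem, part 5.  The adjacency matrix of the commuting graph on a class of
`3`-transpositions in which no two members of any `D_a` commute; counting consequences.
-/

set_option autoImplicit false
set_option linter.unusedSectionVars false
set_option linter.unusedVariables false

open Subgroup

namespace Cfsg.Agent.Lib.Helper1.FR3

universe u

variable {G : Type u} [Group G] {D : Set G}

section adj

variable [Fintype D] (R : Type*) [CommRing R]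

open Classical in
/-- the adjacency matrix of the commuting graph on `D` -/
noncomputable def adjM (D : Set G) [Fintype D] (R : Type*) [CommRing R] : Matrix D D R :=
  Matrix.of fun x y => if (x : G) ≠ (y : G) ∧ Commute (x : G) (y : G) then 1 else 0

/-- the all-ones matrix -/
def onesM (D : Set G) (R : Type*) [CommRing R] : Matrix D D R := Matrix.of fun _ _ => 1

open Classical in
theorem sum_indicator (T : Set G) (hT : T ⊆ D) :
    ∑ z : D, (if (z : G) ∈ T then (1 : R) else 0) = (T.ncard : R) := by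
  rw [Finset.sum_boole]
  congr 1
  rw [← Fintype.card_subtype, ← Nat.card_eq_fintype_card, ← Nat.card_coe_set_eq]
  apply Nat.card_congr
  exact
    { toFun := fun z => ⟨(z.1 : G), z.2⟩
      invFun := fun t => ⟨⟨t.1, hT t.2⟩, t.2⟩
      left_inv := fun z => rfl
      right_inv := fun t => rfl }

open Classical in
theorem adjM_mul_apply (x y : D) :
    (adjM D R * adjM D R) x y =
      (({z : G | z ∈ Dp D (x : G) ∧ z ∈ Dp D (y : G)} : Set G).ncard : R) := by
  rw [Matrix.mul_apply]
  rw [← sum_indicator R {z : G | z ∈ Dp D (x : G) ∧ z ∈ Dp D (y : G)} (fun z hz => hz.1.1)]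
  apply Finset.sum_congr rfl
  intro z _
  simp only [adjM, Matrix.of_apply]
  by_cases h1 : (x : G) ≠ (z : G) ∧ Commute (x : G) (z : G)
  · by_cases h2 : (z : G) ≠ (y : G) ∧ Commute (z : G) (y : G)
    · rw [if_pos h1, if_pos h2, mul_one, if_pos]
      exact ⟨⟨z.2, fun hh => h1.1 hh.symm, h1.2⟩, ⟨z.2, h2.1, h2.2.symm⟩⟩
    · rw [if_pos h1, if_neg h2, mul_zero, if_neg]
      rintro ⟨-, hz2⟩
      exact h2 ⟨hz2.2.1, hz2.2.2.symm⟩
  · rw [if_neg h1, zero_mul, if_neg]
    rintro ⟨hz1, -⟩
    exact h1 ⟨fun hh => hz1.2.1 hh.symm, hz1.2.2⟩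

open Classical in
theorem adjM_mul_ones_apply (x y : D) :
    (adjM D R * onesM D R) x y = ((Dp D (x : G)).ncard : R) := by
  rw [Matrix.mul_apply]
  rw [← sum_indicator R (Dp D (x : G)) (fun z hz => hz.1)]
  apply Finset.sum_congr rfl
  intro z _
  simp only [adjM, onesM, Matrix.of_apply, mul_one]
  by_cases h1 : (x : G) ≠ (z : G) ∧ Commute (x : G) (z : G)
  · rw [if_pos h1, if_pos]
    exact ⟨z.2, fun hh => h1.1 hh.symm, h1.2⟩
  · rw [if_neg h1, if_neg]
    rintro hz1
    exact h1 ⟨fun hh => hz1.2.1 hh.symm, hz1.2.2⟩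

theorem ones_mul_ones : onesM D R * onesM D R = (Fintype.card D : R) • onesM D R := by
  ext x y
  rw [Matrix.mul_apply]
  simp [onesM]

open Classical in
theorem adjM_diag (x : D) : adjM D R x x = 0 := by
  simp [adjM]

open Classical in
theorem trace_adjM [DecidableEq D] : Matrix.trace (adjM D R) = 0 := by
  rw [Matrix.trace]
  apply Finset.sum_eq_zero
  intro x _
  rw [Matrix.diag_apply]
  exact adjM_diag R x

theorem trace_onesM [DecidableEq D] : Matrix.trace (onesM D R) = (Fintype.card D : R) := by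
  simp [Matrix.trace, onesM]

end adj

section count

variable [Finite G] [Fintype D] [DecidableEq D] (R : Type*) [CommRing R]

open Classical in
/-- the square of the adjacency matrix -/
theorem adjM_sq (hT : T3 D) {k μ : ℕ} (hk : ∀ a ∈ D, (Dp D a).ncard = k)
    (hμ : ∀ a ∈ D, ∀ b ∈ D, ¬ Commute a b → (EE D a b).ncard = μ)
    (hw : ∀ a ∈ D, ∀ u ∈ Dp D a, ∀ v ∈ Dp D a, Commute u v → u = v) :
    adjM D R * adjM D R =
      (k : R) • (1 : Matrix D D R) + (μ : R) • (onesM D R - 1 - adjM D R) := by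
  ext x y
  rw [adjM_mul_apply]
  simp only [Matrix.add_apply, Matrix.smul_apply, Matrix.sub_apply, smul_eq_mul, onesM,
    Matrix.of_apply]
  by_cases hxy : x = y
  · subst hxy
    rw [Matrix.one_apply_eq, adjM_diag]
    have : {z : G | z ∈ Dp D (x : G) ∧ z ∈ Dp D (x : G)} = Dp D (x : G) := by
      ext z; simp
    rw [this, hk _ x.2]
    ring
  · rw [Matrix.one_apply_ne hxy]
    have hxy' : (x : G) ≠ (y : G) := fun hh => hxy (Subtype.ext hh)
    by_cases hc : Commute (x : G) (y : G)
    · have : adjM D R x y = 1 := by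
        simp only [adjM, Matrix.of_apply]
        rw [if_pos ⟨hxy', hc⟩]
      rw [this]
      have hempty : {z : G | z ∈ Dp D (x : G) ∧ z ∈ Dp D (y : G)} = ∅ := by
        ext z
        simp only [Set.mem_setOf_eq, Set.mem_empty_iff_false, iff_false]
        rintro ⟨hz1, hz2⟩
        have hyDp : (y : G) ∈ Dp D (x : G) := ⟨y.2, fun hh => hxy' hh.symm, hc⟩
        have := hw _ x.2 _ hz1 _ hyDp hz2.2.2.symm
        exact hz2.2.1 this
      rw [hempty, Set.ncard_empty]
      simp
    · have : adjM D R x y = 0 := by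
        simp only [adjM, Matrix.of_apply]
        rw [if_neg]
        rintro ⟨-, h2⟩
        exact hc h2
      rw [this]
      have hEE : {z : G | z ∈ Dp D (x : G) ∧ z ∈ Dp D (y : G)} = EE D (x : G) (y : G) := by
        ext z
        constructor
        · rintro ⟨hz1, hz2⟩
          exact ⟨hz1.1, hz1.2.2.symm, hz2.2.2.symm⟩
        · rintro ⟨hz, h1, h2⟩
          refine ⟨⟨hz, ?_, h1.symm⟩, ⟨hz, ?_, h2.symm⟩⟩
          · rintro rfl
            exact hc h2
          · rintro rfl
            exact hc h1.symm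
      rw [hEE, hμ _ x.2 _ y.2 hc]
      ring

open Classical in
theorem adjM_mul_ones {k : ℕ} (hk : ∀ a ∈ D, (Dp D a).ncard = k) :
    adjM D R * onesM D R = (k : R) • onesM D R := by
  ext x y
  rw [adjM_mul_ones_apply, hk _ x.2]
  simp [onesM]

/-- the number of members of the class -/
theorem card_formula (hT : T3 D) (hne : D.Nonempty) {k μ : ℕ} (hk : ∀ a ∈ D, (Dp D a).ncard = k)
    (hμ : ∀ a ∈ D, ∀ b ∈ D, ¬ Commute a b → (EE D a b).ncard = μ)
    (hw : ∀ a ∈ D, ∀ u ∈ Dp D a, ∀ v ∈ Dp D a, Commute u v → u = v) :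
    (k : R) * k = k + μ * ((Fintype.card D : R) - 1 - k) := by
  have h1 := adjM_sq R hT hk hμ hw
  have h2 := adjM_mul_ones R hk
  have h3 : adjM D R * adjM D R * onesM D R = ((k : R) * k) • onesM D R := by
    rw [Matrix.mul_assoc, h2, Matrix.mul_smul, h2, smul_smul]
  rw [h1] at h3
  rw [Matrix.add_mul, Matrix.smul_mul, Matrix.one_mul, Matrix.smul_mul, Matrix.sub_mul,
    Matrix.sub_mul, Matrix.one_mul, h2, ones_mul_ones] at h3
  obtain ⟨a, ha⟩ := hne
  have h4 := congrFun (congrFun h3 ⟨a, ha⟩) ⟨a, ha⟩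
  simp only [Matrix.add_apply, Matrix.smul_apply, Matrix.sub_apply, smul_eq_mul, onesM,
    Matrix.of_apply, mul_one] at h4
  rw [← h4]

end count

end Cfsg.Agent.Lib.Helper1.FR3
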