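import Mathlib
import Cfsg.Agent.Lib.Helper1.FS5

/-!
Helper1: Fischer's `S₅` theorem, part 6.  Arithmetic of the commuting graph: `μ = 1` and `k = 3`.
-/

set_option autoImplicit false
set_option linter.unusedSectionVars false
set_option linter.unusedVariables false

open Subgroup

namespace Cfsg.Agent.Lib.Helper1.FR3

universe u

variable {G : Type u} [Group G] {D : Set G}

/-- a member commuting with the product of two non-commuting members commutes with both -/
theorem T3.commute_mul_iff (h : T3 D) {a b d : G} (ha : a ∈ D) (hb : b ∈ D) (hd : d ∈ D)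
    (hab : ¬ Commute a b) : Commute (a * b) d ↔ Commute a d ∧ Commute b d := by
  constructor
  · intro hc
    have haa := h.sq ha
    have hbb := h.sq hb
    have hdd := h.sq hd
    by_cases had : Commute a d
    · refine ⟨had, ?_⟩
      have : b = a * (a * b) := by rw [← mul_assoc, haa, one_mul]
      rw [this]
      exact had.mul_left hc
    · exfalso
      have hbd : ¬ Commute b d := by
        intro hbd
        apply had
        have : a = (a * b) * b := by rw [mul_assoc, hbb, mul_one]
        rw [this]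
        exact hc.mul_left hbd
      have h1 := h.cube ha hd had
      have h2 := h.cube hb hd hbd
      -- `(a d)^2 = d a` and `(b d)^2 = d b`
      have e1 : a * d * (a * d) = d * a := by
        have : a * d * (a * d) * (a * d) = 1 := by
          rw [← h1]; simp [pow_succ]
        calc a * d * (a * d) = (a * d * (a * d) * (a * d)) * (d * d)⁻¹ * d * (a * a)⁻¹ * a := by
              group
          _ = d * a := by rw [this, hdd, haa]; group
      have e2 : b * d * (b * d) = d * b := by
        have : b * d * (b * d) * (b * d) = 1 := by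
          rw [← h2]; simp [pow_succ]
        calc b * d * (b * d) = (b * d * (b * d) * (b * d)) * (d * d)⁻¹ * d * (b * b)⁻¹ * b := by
              group
          _ = d * b := by rw [this, hdd, hbb]; group
      -- `a d a d = b d b d`
      have hc' : a * b * d = d * (a * b) := hc.eq
      have e3 : a * d * (a * d) = b * d * (b * d) := by
        have k1 : d * a * d * (d * b * d) = a * b := by
          calc d * a * d * (d * b * d) = d * a * (d * d) * b * d := by group
            _ = d * (a * b * d) := by rw [hdd]; group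
            _ = d * (d * (a * b)) := by rw [hc']
            _ = (d * d) * (a * b) := by group
            _ = a * b := by rw [hdd, one_mul]
        have k2 : d * a * d = a * b * (d * b * d)⁻¹ := by
          rw [← k1]; group
        have k3 : (d * b * d)⁻¹ = d * b * d := by
          rw [mul_inv_rev, mul_inv_rev, h.inv hd, h.inv hb]; group
        calc a * d * (a * d) = a * (d * a * d) := by group
          _ = a * (a * b * (d * b * d)) := by rw [k2, k3]
          _ = (a * a) * b * (d * b * d) := by group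
          _ = b * d * (b * d) := by rw [haa, one_mul]; group
      have : d * a = d * b := by rw [← e1, ← e2, e3]
      have hab' : a = b := mul_left_cancel this
      apply hab
      rw [hab']
  · rintro ⟨h1, h2⟩
    exact h1.mul_left h2

theorem exists_prime_three_mod_four : ∀ n : ℕ, n % 4 = 3 →
    ∃ p : ℕ, p.Prime ∧ p ∣ n ∧ p % 4 = 3 := by
  intro n
  induction n using Nat.strong_induction_on with
  | _ n ih =>
    intro hn
    have hn1 : n ≠ 1 := by omega
    have hp := Nat.minFac_prime hn1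
    have hdvd := Nat.minFac_dvd n
    by_cases h3 : n.minFac % 4 = 3
    · exact ⟨n.minFac, hp, hdvd, h3⟩
    · obtain ⟨c, hc⟩ := hdvd
      have hodd : n.minFac % 2 = 1 := by
        by_contra h2
        have : 2 ∣ n.minFac := by omega
        have h2n : 2 ∣ n := dvd_trans this (Nat.minFac_dvd n)
        omega
      have h1 : n.minFac % 4 = 1 := by omega
      have hc3 : c % 4 = 3 := by
        have : n % 4 = (n.minFac % 4) * (c % 4) % 4 := by
          conv_lhs => rw [hc]
          exact Nat.mul_mod _ _ _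
        rw [h1, hn] at this
        omega
      have hclt : c < n := by
        have h2 : 2 ≤ n.minFac := hp.two_le
        have hcpos : 0 < c := by omega
        nlinarith
      obtain ⟨p, hpp, hpd, hp3⟩ := ih c hclt hc3
      exact ⟨p, hpp, dvd_trans hpd (Dvd.intro_left _ hc.symm), hp3⟩

section count

variable [Finite G]

/-- the number of members is congruent to `μ` modulo `3` -/
theorem T3.card_modEq_three (h : T3 D) [Fintype D] {a b : G} (ha : a ∈ D) (hb : b ∈ D)
    (hab : ¬ Commute a b) : Fintype.card D ≡ (EE D a b).ncard [MOD 3] := by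
  classical
  have : Fact (Nat.Prime 3) := ⟨Nat.prime_three⟩
  set z : G := a * b with hz
  have hz3 : z ^ 3 = 1 := h.cube ha hb hab
  let f : Function.End D := fun d => ⟨z * d * z⁻¹, h.conj z d d.2⟩
  have hf : f ^ 3 ^ 1 = 1 := by
    rw [pow_one]
    funext d
    apply Subtype.ext
    show z * (z * (z * (d : G) * z⁻¹) * z⁻¹) * z⁻¹ = (d : G)
    have hz3' : z * z * z = 1 := by
      rw [← hz3]; simp [pow_succ]
    have hzi : z⁻¹ * z⁻¹ * z⁻¹ = 1 := by
      have : z⁻¹ * z⁻¹ * z⁻¹ = (z * z * z)⁻¹ := by group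
      rw [this, hz3', inv_one]
    calc z * (z * (z * (d : G) * z⁻¹) * z⁻¹) * z⁻¹
        = (z * z * z) * (d : G) * (z⁻¹ * z⁻¹ * z⁻¹) := by simp only [mul_assoc]
      _ = (d : G) := by rw [hz3', hzi, one_mul, mul_one]
  have h1 := Equiv.Perm.card_fixedPoints_modEq (p := 3) (n := 1) hf
  have h2 : Fintype.card (Function.fixedPoints f) = (EE D a b).ncard := by
    rw [← Nat.card_eq_fintype_card, ← Nat.card_coe_set_eq]
    apply Nat.card_congr
    have hiff : ∀ d : D, f d = d ↔ (d : G) ∈ EE D a b := by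
      intro d
      constructor
      · intro hfd
        have h3 : z * (d : G) * z⁻¹ = (d : G) := congrArg Subtype.val hfd
        have hc : Commute z (d : G) := by
          show z * (d : G) = (d : G) * z
          calc z * (d : G) = (z * (d : G) * z⁻¹) * z := by group
            _ = (d : G) * z := by rw [h3]
        obtain ⟨c1, c2⟩ := (h.commute_mul_iff ha hb d.2 hab).mp hc
        exact ⟨d.2, c1.symm, c2.symm⟩
      · rintro ⟨-, c1, c2⟩
        apply Subtype.ext
        show z * (d : G) * z⁻¹ = (d : G)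
        have hc : Commute z (d : G) := (c1.symm.mul_left c2.symm)
        rw [hc.eq, mul_inv_cancel_right]
    exact
      { toFun := fun d => ⟨(d.1 : G), (hiff d.1).mp d.2⟩
        invFun := fun e => ⟨⟨e.1, e.2.1⟩, (hiff ⟨e.1, e.2.1⟩).mpr e.2⟩
        left_inv := fun d => rfl
        right_inv := fun e => rfl }
  rw [h2] at h1
  exact h1

/-- `μ = 1` -/
theorem mu_eq_one (hT : T3 D) {k μ s t : ℕ} {a b : G} (ha : a ∈ D) (hb : b ∈ D)
    (hab : ¬ Commute a b) (hk : ∀ a ∈ D, (Dp D a).ncard = k)
    (hμ : ∀ a ∈ D, ∀ b ∈ D, ¬ Commute a b → (EE D a b).ncard = μ)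
    (hw : ∀ a ∈ D, ∀ u ∈ Dp D a, ∀ v ∈ Dp D a, Commute u v → u = v)
    (hks : k = 3 ^ t) (hμs : μ = 3 ^ s) (hlt : s < t) : μ = 1 := by
  classical
  haveI : Fintype D := Fintype.ofFinite D
  by_contra hne
  have hs : 1 ≤ s := by
    by_contra h0
    have : s = 0 := by omega
    rw [this, pow_zero] at hμs
    exact hne hμs
  have h1 := card_formula ℤ hT ⟨a, ha⟩ hk hμ hw
  have h2 := hT.card_modEq_three ha hb hab
  rw [hμ a ha b hb hab] at h2
  obtain ⟨r, hr⟩ : ∃ r, t = s + r := ⟨t - s, by omega⟩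
  have hr1 : 1 ≤ r := by omega
  set v := Fintype.card D with hv
  -- cancel `3 ^ s`
  have h3 : ((3 : ℤ) ^ s) * ((3 : ℤ) ^ s * (3 ^ r) ^ 2) =
      (3 : ℤ) ^ s * (3 ^ r + ((v : ℤ) - 1 - 3 ^ s * 3 ^ r)) := by
    have e1 : (k : ℤ) = 3 ^ s * 3 ^ r := by
      rw [hks, hr, pow_add]; push_cast; ring
    have e2 : (μ : ℤ) = 3 ^ s := by rw [hμs]; push_cast; ring
    rw [e1, e2] at h1
    linarith [h1]
  have h4 : (3 : ℤ) ^ s * (3 ^ r) ^ 2 = 3 ^ r + ((v : ℤ) - 1 - 3 ^ s * 3 ^ r) :=
    mul_left_cancel₀ (pow_ne_zero _ (by norm_num)) h3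
  -- reduce modulo `3`
  have h5 : ((v : ℤ) : ZMod 3) = 1 := by
    have hA : (((3 : ℤ) ^ s : ℤ) : ZMod 3) = 0 := by
      push_cast
      have : ((3 : ZMod 3)) = 0 := by decide
      rw [this, zero_pow (by omega)]
    have hB : (((3 : ℤ) ^ r : ℤ) : ZMod 3) = 0 := by
      push_cast
      have : ((3 : ZMod 3)) = 0 := by decide
      rw [this, zero_pow (by omega)]
    have h6 : (v : ℤ) = 3 ^ s * (3 ^ r) ^ 2 - 3 ^ r + 1 + 3 ^ s * 3 ^ r := by linarith [h4]
    rw [h6]
    push_cast at hA hB ⊢
    rw [hA, hB]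
    ring
  have h7 : ((v : ℤ) : ZMod 3) = 0 := by
    have : ((v : ℕ) : ZMod 3) = ((μ : ℕ) : ZMod 3) := (ZMod.natCast_eq_natCast_iff _ _ _).mpr h2
    rw [Int.cast_natCast, this, hμs]
    push_cast
    have : ((3 : ZMod 3)) = 0 := by decide
    rw [this, zero_pow (by omega)]
  rw [h5] at h7
  exact absurd h7 (by decide)

/-- `k = 3`: the trace argument -/
theorem false_of_three_pow (hT : T3 D) {k t : ℕ} {a : G} (ha : a ∈ D)
    (hk : ∀ a ∈ D, (Dp D a).ncard = k)
    (hμ : ∀ a ∈ D, ∀ b ∈ D, ¬ Commute a b → (EE D a b).ncard = 1)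
    (hw : ∀ a ∈ D, ∀ u ∈ Dp D a, ∀ v ∈ Dp D a, Commute u v → u = v)
    (hks : k = 3 ^ t) (ht : 2 ≤ t) : False := by
  classical
  haveI : Fintype D := Fintype.ofFinite D
  obtain ⟨t', rfl⟩ : ∃ t', t = t' + 2 := ⟨t - 2, by omega⟩
  -- the prime
  have hN : (4 * 3 ^ (t' + 1) - 1) % 4 = 3 := by
    have : 1 ≤ 3 ^ (t' + 1) := Nat.one_le_pow _ _ (by norm_num)
    omega
  obtain ⟨p, hp, hpd, hp3⟩ := exists_prime_three_mod_four _ hN
  haveI : Fact p.Prime := ⟨hp⟩
  have hp2 : p ≠ 2 := by rintro rfl; omega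
  have hp5 : p ≠ 5 := by rintro rfl; omega
  have hp3' : p ≠ 3 := by
    rintro rfl
    have h1 : 3 ∣ 4 * 3 ^ (t' + 1) := by
      rw [pow_succ]; exact ⟨4 * 3 ^ t', by ring⟩
    have h2 : 1 ≤ 4 * 3 ^ (t' + 1) := by
      have : 1 ≤ 3 ^ (t' + 1) := Nat.one_le_pow _ _ (by norm_num)
      omega
    have h3 : 3 ∣ 4 * 3 ^ (t' + 1) - (4 * 3 ^ (t' + 1) - 1) := Nat.dvd_sub h1 hpd
    have h4 : 4 * 3 ^ (t' + 1) - (4 * 3 ^ (t' + 1) - 1) = 1 := by omega
    rw [h4] at h3
    exact absurd h3 (by norm_num)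
  -- `4 k = 3` in `ZMod p`
  have h4k : (4 : ZMod p) * (k : ZMod p) = 3 := by
    have h1 : ((4 * 3 ^ (t' + 1) - 1 : ℕ) : ZMod p) = 0 := (ZMod.natCast_eq_zero_iff _ _).mpr hpd
    have h2 : 1 ≤ 4 * 3 ^ (t' + 1) := by
      have : 1 ≤ 3 ^ (t' + 1) := Nat.one_le_pow _ _ (by norm_num)
      omega
    rw [Nat.cast_sub h2] at h1
    push_cast at h1
    rw [hks]
    push_cast
    have : (3 : ZMod p) ^ (t' + 2) = 3 * 3 ^ (t' + 1) := by rw [pow_succ]; ring
    rw [this]
    linear_combination 3 * h1
  set A := adjM D (ZMod p) with hA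
  set J := onesM D (ZMod p) with hJ
  set v : ZMod p := (Fintype.card D : ZMod p) with hv
  have hsq := adjM_sq (ZMod p) hT hk hμ hw
  have hAJ := adjM_mul_ones (ZMod p) hk
  have hJJ : J * J = v • J := ones_mul_ones (ZMod p)
  have hcard := card_formula (ZMod p) hT ⟨a, ha⟩ hk hμ hw
  rw [← hA, ← hJ] at hsq hAJ
  simp only [Nat.cast_one, one_smul, one_mul] at hsq hcard
  rw [← hv] at hcard
  have hvk : v = (k : ZMod p) * k + 1 := by linear_combination -hcard
  -- `B = 2 A + 1`
  set B : Matrix D D (ZMod p) := (2 : ZMod p) • A + 1 with hB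
  have hBB : B * B = (4 : ZMod p) • J := by
    have e1 : B * B = (4 : ZMod p) • (A * A) + (4 : ZMod p) • A + 1 := by
      rw [hB]
      simp only [Matrix.add_mul, Matrix.mul_add, Matrix.smul_mul, Matrix.mul_smul,
        Matrix.one_mul, Matrix.mul_one]
      module
    rw [e1, hsq]
    have e2 : (4 : ZMod p) • ((k : ZMod p) • (1 : Matrix D D (ZMod p)) + (J - 1 - A)) +
        (4 : ZMod p) • A + 1 = (4 : ZMod p) • J +
        ((4 : ZMod p) * k - 3) • (1 : Matrix D D (ZMod p)) := by
      ext x y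
      simp only [Matrix.add_apply, Matrix.smul_apply, Matrix.sub_apply, smul_eq_mul]
      ring
    rw [e2, h4k, sub_self, zero_smul, add_zero]
  have hBJ : B * J = ((2 : ZMod p) * k + 1) • J := by
    rw [hB, Matrix.add_mul, Matrix.smul_mul, hAJ, Matrix.one_mul, smul_smul, add_smul, one_smul]
  have hJpow : ∀ n : ℕ, ((4 : ZMod p) • J) ^ (n + 1) = ((4 : ZMod p) ^ (n + 1) * v ^ n) • J := by
    intro n
    induction n with
    | zero => simp
    | succ n ih =>
      rw [pow_succ, ih, Matrix.smul_mul, Matrix.mul_smul, hJJ, smul_smul, smul_smul]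
      congr 1
      ring
  obtain ⟨m, hm⟩ : ∃ m, p = 2 * (m + 1) + 1 := by
    have : 3 ≤ p := by
      have := hp.two_le
      omega
    exact ⟨(p - 3) / 2, by omega⟩
  have hBp : B ^ p = ((4 : ZMod p) ^ (m + 1) * v ^ m * ((2 : ZMod p) * k + 1)) • J := by
    have hBp0 : B ^ p = B ^ (2 * (m + 1) + 1) := congrArg (fun n => B ^ n) hm
    rw [hBp0, pow_succ, pow_mul, pow_two, hBB, hJpow, Matrix.smul_mul]
    have : J * B = B * J := by
      rw [hB, Matrix.mul_add, Matrix.add_mul, Matrix.mul_smul, Matrix.smul_mul, Matrix.mul_one,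
        Matrix.one_mul, hAJ]
      congr 1
      -- `J * A = k J` by symmetry
      ext x y
      have hsymm : ∀ x y : D, A x y = A y x := by
        intro x y
        simp only [hA, adjM, Matrix.of_apply]
        by_cases h1 : (x : G) ≠ (y : G) ∧ Commute (x : G) (y : G)
        · rw [if_pos h1, if_pos ⟨fun hh => h1.1 hh.symm, h1.2.symm⟩]
        · rw [if_neg h1, if_neg]
          rintro ⟨h2, h3⟩
          exact h1 ⟨fun hh => h2 hh.symm, h3.symm⟩
      have e1 : (J * A) x y = (A * J) y x := by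
        rw [Matrix.mul_apply, Matrix.mul_apply]
        apply Finset.sum_congr rfl
        intro z _
        simp only [hJ, onesM, Matrix.of_apply, one_mul, mul_one]
        exact hsymm z y
      rw [Matrix.smul_apply, e1, hAJ]
      simp [hJ, onesM]
    rw [this, hBJ, smul_smul]
  have htr := ZMod.trace_pow_card B
  have htrB : Matrix.trace B = v := by
    rw [hB, Matrix.trace_add, Matrix.trace_smul, trace_adjM, smul_zero, zero_add, Matrix.trace_one]
  rw [hBp, Matrix.trace_smul, trace_onesM, htrB, ZMod.pow_card, smul_eq_mul] at htr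
  rw [← hv] at htr
  -- `4 v = u ^ 2` with `u = 5 / 2`
  have h2ne : (2 : ZMod p) ≠ 0 := by
    intro h0
    have : ((2 : ℕ) : ZMod p) = 0 := by exact_mod_cast h0
    rw [ZMod.natCast_eq_zero_iff] at this
    have := (Nat.prime_dvd_prime_iff_eq hp Nat.prime_two).mp this
    exact hp2 this
  have h5ne : (5 : ZMod p) ≠ 0 := by
    intro h0
    have : ((5 : ℕ) : ZMod p) = 0 := by exact_mod_cast h0
    rw [ZMod.natCast_eq_zero_iff] at this
    have := (Nat.prime_dvd_prime_iff_eq hp (by norm_num)).mp this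
    exact hp5 this
  set u : ZMod p := 5 * (2 : ZMod p)⁻¹ with hu
  have hune : u ≠ 0 := mul_ne_zero h5ne (inv_ne_zero h2ne)
  have h16v : (16 : ZMod p) * v = 25 := by
    rw [hvk]
    linear_combination (4 * (k : ZMod p) + 3) * h4k
  have h4v : (4 : ZMod p) * v = u ^ 2 := by
    rw [hu, mul_pow, inv_pow]
    have h4ne : (2 : ZMod p) ^ 2 ≠ 0 := pow_ne_zero _ h2ne
    field_simp
    linear_combination h16v
  have hpow : ((4 : ZMod p) * v) ^ (m + 1) = 1 := by
    rw [h4v, ← pow_mul]
    have : 2 * (m + 1) = p - 1 := by omega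
    rw [this]
    exact ZMod.pow_card_sub_one_eq_one hune
  have hfin : (2 : ZMod p) * k + 1 = v := by
    have e1 : (4 : ZMod p) ^ (m + 1) * v ^ m * ((2 : ZMod p) * k + 1) * v =
        ((4 : ZMod p) * v) ^ (m + 1) * ((2 : ZMod p) * k + 1) := by
      rw [mul_pow, pow_succ v m]; ring
    rw [e1, hpow, one_mul] at htr
    exact htr
  have h15 : (15 : ZMod p) = 0 := by
    linear_combination 16 * hfin - 8 * h4k + h16v
  have : ((15 : ℕ) : ZMod p) = 0 := by exact_mod_cast h15
  rw [ZMod.natCast_eq_zero_iff] at this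
  have h35 : p ∣ 3 * 5 := this
  rcases (Nat.Prime.dvd_mul hp).mp h35 with h | h
  · exact hp3' ((Nat.prime_dvd_prime_iff_eq hp Nat.prime_three).mp h)
  · exact hp5 ((Nat.prime_dvd_prime_iff_eq hp (by norm_num)).mp h)

end count

end Cfsg.Agent.Lib.Helper1.FR3
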