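import Mathlib
import Cfsg.Agent.Lib.Helper1.FS3
import Cfsg.Agent.Lib.Helper1.FS4
import Cfsg.Agent.Lib.Helper1.FS6

/-!
Helper1: Fischer's `S₅` theorem, part 7: the final assembly.
-/

set_option autoImplicit false
set_option linter.unusedSectionVars false
set_option linter.unusedVariables false

open Subgroup Equiv Equiv.Perm

namespace Cfsg.Agent.Lib.Helper1.FR3

universe u

variable {G : Type u} [Group G] {D : Set G}

/-- general conjugation of the set of common commuting partners -/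
theorem T3.EE_conj' (h : T3 D) (g a y : G) :
    EE D (g * a * g⁻¹) (g * y * g⁻¹) = (fun z => g * z * g⁻¹) '' EE D a y := by
  ext z
  constructor
  · rintro ⟨hz, hza, hzy⟩
    refine ⟨g⁻¹ * z * g, ⟨?_, ?_, ?_⟩, by group⟩
    · have := h.conj g⁻¹ z hz
      rwa [inv_inv] at this
    · have := (Commute.conj_iff g⁻¹).mpr hza
      have e1 : g⁻¹ * (g * a * g⁻¹) * g⁻¹⁻¹ = a := by group
      rw [e1, inv_inv] at this
      exact this
    · have := (Commute.conj_iff g⁻¹).mpr hzy
      have e1 : g⁻¹ * (g * y * g⁻¹) * g⁻¹⁻¹ = y := by group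
      rw [e1, inv_inv] at this
      exact this
  · rintro ⟨w, ⟨hw, hwa, hwy⟩, rfl⟩
    exact ⟨h.conj g w hw, (Commute.conj_iff g).mpr hwa, (Commute.conj_iff g).mpr hwy⟩

section fin

variable [Finite G]

/-- `μ` is the same for all non-commuting pairs -/
theorem Ctx.mu_const' (h : Ctx D) {x b a c : G} (hx : x ∈ D) (hb : b ∈ D) (hxb : ¬ Commute x b)
    (ha : a ∈ D) (hc : c ∈ D) (hac : ¬ Commute a c) :
    (EE D a c).ncard = (EE D x b).ncard := by
  obtain ⟨g, rfl⟩ := h.trans x hx a ha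
  have hc' : c = g * (g⁻¹ * c * g) * g⁻¹ := by group
  have hcD : g⁻¹ * c * g ∈ D := by
    have := h.tt.conj g⁻¹ c hc
    rwa [inv_inv] at this
  have hnc : ¬ Commute x (g⁻¹ * c * g) := by
    intro hcm
    apply hac
    have := (Commute.conj_iff g).mpr hcm
    rwa [← hc'] at this
  rw [hc', h.tt.EE_conj', Set.ncard_image_of_injective _ (conj_injective g)]
  exact h.mu_const hx ⟨hcD, hnc⟩ ⟨hb, hxb⟩

theorem T3.Dp_conj_mem (h : T3 D) {x s t : G} (hs : s ∈ Dp D x) (ht : t ∈ Dp D x) :
    s * t * s⁻¹ ∈ Dp D x := by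
  have hsx : s * x * s⁻¹ = x := by
    have : Commute s x := hs.2.2.symm
    rw [this.eq, mul_inv_cancel_right]
  have := h.Dp_conj s x
  rw [hsx] at this
  rw [this]
  exact ⟨t, ht, rfl⟩

/-- Fischer: if `O(⟨D_x⟩)` is not central then `G ≅ S₅` -/
theorem Ctx.fischer_S5 (h : Ctx D) {x : G} (hx : x ∈ D)
    (hO : ¬ Cfsg.oddCore ↥(closure (Dp D x)) ≤ center ↥(closure (Dp D x))) :
    Nonempty (G ≃* Equiv.Perm (Fin 5)) := by
  classical
  have hT := h.tt
  obtain ⟨e0, f0, ht0⟩ := hT.exists_Tw_of_oddCore hO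
  have hw := h.width_one hx ht0
  obtain ⟨e, f, b, ht, hcfg⟩ := h.exists_config hx ht0
  have hbD : b ∈ D := hcfg.hz
  have heD : e ∈ D := hcfg.hq
  have hfD : f ∈ D := hcfg.hw
  have hxb : ¬ Commute x b := hcfg.pz
  have hbf : ¬ Commute b f := hcfg.zw
  have hfe : ¬ Commute f e := hcfg.wq
  have hxf : Commute x f := hcfg.pw
  have hxe : Commute x e := hcfg.pq
  have hbe : Commute b e := hcfg.zq
  have heDp : e ∈ Dp D x := ht.1
  have hfDp : f ∈ Dp D x := ht.2.1
  -- the parameters
  obtain ⟨k, hk0⟩ : ∃ k, (Dp D x).ncard = k := ⟨_, rfl⟩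
  have hk : ∀ a ∈ D, (Dp D a).ncard = k := fun a ha => (h.Dp_ncard ha hx).trans hk0
  obtain ⟨μ, hμ0⟩ : ∃ μ, (EE D x b).ncard = μ := ⟨_, rfl⟩
  have hμ : ∀ a ∈ D, ∀ c ∈ D, ¬ Commute a c → (EE D a c).ncard = μ :=
    fun a ha c hc hac => (h.mu_const' hx hbD hxb ha hc hac).trans hμ0
  -- `k` is a power of `3`
  obtain ⟨t, hkt⟩ : ∃ t, (Dp D x).ncard = 3 ^ t := by
    apply ncard_eq_three_pow ⟨e, heDp⟩
    · intro s hs; exact hT.ord s hs.1
    · intro s hs u hu; exact hT.h23 s hs.1 u hu.1
    · intro s hs u hu; exact hT.Dp_conj_mem hs hu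
    · intro s hs u hu hc; exact hw x hx s hs u hu hc
  -- `μ` is a power of `3`
  have hEEsub : EE D x b ⊆ Dp D x := by
    rintro s ⟨hsD, hsx, hsb⟩
    refine ⟨hsD, ?_, hsx.symm⟩
    rintro rfl
    exact hxb hsb
  have heEE : e ∈ EE D x b := ⟨heD, hxe.symm, hbe.symm⟩
  obtain ⟨s, hμs⟩ : ∃ s, (EE D x b).ncard = 3 ^ s := by
    apply ncard_eq_three_pow ⟨e, heEE⟩
    · intro s hs; exact hT.ord s hs.1
    · intro s hs u hu; exact hT.h23 s hs.1 u hu.1
    · intro s hs u hu
      refine ⟨hT.conj s u hu.1, ?_, ?_⟩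
      · have h1 : Commute (s * u) x := hs.2.1.mul_left hu.2.1
        have h2 : Commute s⁻¹ x := hs.2.1.inv_left
        exact h1.mul_left h2
      · have h1 : Commute (s * u) b := hs.2.2.mul_left hu.2.2
        have h2 : Commute s⁻¹ b := hs.2.2.inv_left
        exact h1.mul_left h2
    · intro s hs u hu hc; exact hw x hx s (hEEsub hs) u (hEEsub hu) hc
  have hst : s < t := by
    have hssub : EE D x b ⊂ Dp D x := by
      refine ⟨hEEsub, fun hh => ?_⟩
      have := hh hfDp
      exact hbf this.2.2.symm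
    have := Set.ncard_lt_ncard hssub (Set.toFinite _)
    rw [hμs, hkt] at this
    exact (Nat.pow_lt_pow_iff_right (by norm_num)).mp this
  have hks : k = 3 ^ t := hk0.symm.trans hkt
  have hμs' : μ = 3 ^ s := hμ0.symm.trans hμs
  have hμ1 : μ = 1 := mu_eq_one hT hx hbD hxb hk hμ hw hks hμs' hst
  subst hμ1
  -- `k = 3`
  have ht1 : t = 1 := by
    by_contra hne
    have ht2 : t = 0 ∨ 2 ≤ t := by omega
    rcases ht2 with h0 | h2
    · rw [h0, pow_zero] at hkt
      rw [Set.ncard_eq_one] at hkt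
      obtain ⟨y, hy⟩ := hkt
      have h1 : e = y := by rw [hy] at heDp; exact heDp
      have h2 : f = y := by rw [hy] at hfDp; exact hfDp
      exact ht.ne (h1.trans h2.symm)
    · exact false_of_three_pow hT hx hk hμ hw hks h2
  rw [ht1, pow_one] at hkt
  -- `D_x = {e, f, e f e}`
  have hefe : e * f * e ∈ Dp D x := (hT.Tw_third ht).2.1
  have hDpx : Dp D x = {e, f, e * f * e} := by
    symm
    apply Set.eq_of_subset_of_ncard_le
    · intro y hy
      rcases hy with rfl | rfl | rfl
      · exact heDp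
      · exact hfDp
      · exact hefe
    · rw [hkt]
      apply le_of_eq
      symm
      rw [Set.ncard_eq_three]
      refine ⟨e, f, e * f * e, ht.ne, ?_, ?_, rfl⟩
      · intro he
        -- `e = e f e` gives `f = 1 ...`
        have hee := hT.sq heD
        have : f = e := by
          calc f = e * (e * f * e) * e := by
                rw [show e * (e * f * e) * e = (e * e) * f * (e * e) by group, hee, one_mul,
                  mul_one]
            _ = e * e * e := by rw [← he]
            _ = e := by rw [hee, one_mul]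
        exact ht.ne this.symm
      · intro he
        have hee := hT.sq heD
        apply hfe
        show f * e = e * f
        calc f * e = (e * f * e) * e := by rw [← he]
          _ = e * f * (e * e) := by group
          _ = e * f := by rw [hee, mul_one]
    · exact Set.toFinite _
  -- the homomorphism
  obtain ⟨φ, h01, h12, h23, h34⟩ := hT.exists_hom hcfg
  have hinj : Function.Injective φ := by
    apply injective_of_ne
    rw [h01, h12]
    rintro rfl
    exact hxb (Commute.refl _)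
  have hDpR : ∀ y ∈ Dp D x, y ∈ φ.range := by
    intro y hy
    rw [hDpx] at hy
    rcases hy with rfl | rfl | rfl
    · exact ⟨_, h34⟩
    · exact ⟨_, h23⟩
    · exact ⟨swap 3 4 * swap 2 3 * swap 3 4, by rw [map_mul, map_mul, h34, h23]⟩
  have hconjR : ∀ σ : Perm (Fin 5), ∀ y ∈ Dp D (φ σ * x * (φ σ)⁻¹), y ∈ φ.range := by
    intro σ y hy
    rw [hT.Dp_conj] at hy
    obtain ⟨w, hw', rfl⟩ := hy
    exact mul_mem (mul_mem ⟨σ, rfl⟩ (hDpR w hw')) (inv_mem ⟨σ, rfl⟩)
  have hDpuR : ∀ u ∈ Dp D x, ∀ y ∈ Dp D u, y ∈ φ.range := by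
    intro u hu
    rw [hDpx] at hu
    rcases hu with rfl | rfl | rfl
    · -- `u = e = φ (3 4)`
      have e1 : (swap 0 3 * swap 1 4 : Perm (Fin 5)) * swap 0 1 * (swap 0 3 * swap 1 4)⁻¹ =
          swap 3 4 := by decide
      have : φ (swap 0 3 * swap 1 4) * x * (φ (swap 0 3 * swap 1 4))⁻¹ = u := by
        rw [← h01, ← map_inv, ← map_mul, ← map_mul, e1, h34]
      rw [← this]
      exact hconjR _
    · have e1 : (swap 0 2 * swap 1 3 : Perm (Fin 5)) * swap 0 1 * (swap 0 2 * swap 1 3)⁻¹ =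
          swap 2 3 := by decide
      have : φ (swap 0 2 * swap 1 3) * x * (φ (swap 0 2 * swap 1 3))⁻¹ = u := by
        rw [← h01, ← map_inv, ← map_mul, ← map_mul, e1, h23]
      rw [← this]
      exact hconjR _
    · have e1 : (swap 0 2 * swap 1 4 : Perm (Fin 5)) * swap 0 1 * (swap 0 2 * swap 1 4)⁻¹ =
          swap 3 4 * swap 2 3 * swap 3 4 := by decide
      have : φ (swap 0 2 * swap 1 4) * x * (φ (swap 0 2 * swap 1 4))⁻¹ = e * f * e := by
        rw [← h01, ← map_inv, ← map_mul, ← map_mul, e1, map_mul, map_mul, h34, h23]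
      rw [← this]
      exact hconjR _
  have hDR : D ⊆ φ.range := by
    intro d hd
    by_cases hdx : d = x
    · rw [hdx]; exact ⟨_, h01⟩
    by_cases hc : Commute x d
    · exact hDpR d ⟨hd, hdx, hc⟩
    · have h1 := hμ x hx d hd hc
      rw [Set.ncard_eq_one] at h1
      obtain ⟨u, hu⟩ := h1
      have huE : u ∈ EE D x d := by rw [hu]; exact Set.mem_singleton _
      obtain ⟨huD, hux, hud⟩ := huE
      have hune : u ≠ x := by
        rintro rfl
        exact hc hud
      have huDp : u ∈ Dp D x := ⟨huD, hune, hux.symm⟩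
      have hdu : d ≠ u := by
        rintro rfl
        exact hc hux.symm
      exact hDpuR u huDp d ⟨hd, hdu, hud⟩
  have hsurj : Function.Surjective φ := by
    rw [← MonoidHom.range_eq_top]
    apply top_le_iff.mp
    rw [← h.gen]
    exact (closure_le _).mpr hDR
  exact ⟨(MulEquiv.ofBijective φ ⟨hinj, hsurj⟩).symm⟩

end fin

end Cfsg.Agent.Lib.Helper1.FR3
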