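import Mathlib
import Cfsg.Prelude.Def_Transfer
import Cfsg.Agent.Lib.Helper1.Commutator
import Cfsg.Agent.Lib.Helper8.PResidual

set_option autoImplicit false
open Pointwise
open scoped commutatorElement

namespace Cfsg.Agent.Lib.Helper1

open Subgroup

/-- generators of the focal subgroup of an abelian Sylow subgroup lie in `[P, N_G(P)]`
(Burnside's fusion lemma) -/
theorem focalSubgroup_le_commutator_normalizer_of_abelian {G : Type*} [Group G] [Finite G]
    {p : ℕ} [Fact p.Prime] (P : Sylow p G) [IsMulCommutative P] :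
    (P : Subgroup G).focalSubgroup ≤ ⁅(P : Subgroup G), normalizer ((P : Subgroup G) : Set G)⁆ := by
  rw [Subgroup.focalSubgroup_def, Subgroup.closure_le]
  rintro g ⟨hgP, x, hxP, u, rfl⟩
  -- `u x⁻¹ u⁻¹ ∈ P`
  have h1 : u * x⁻¹ * u⁻¹ ∈ (P : Subgroup G) := by
    have e : u * x⁻¹ * u⁻¹ = x⁻¹ * ⁅x, u⁆ := by simp only [commutatorElement_def]; group
    rw [e]; exact Subgroup.mul_mem _ (Subgroup.inv_mem _ hxP) hgP
  have h2 : (u⁻¹)⁻¹ * x⁻¹ * u⁻¹ ∈ P := by rw [inv_inv]; exact h1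
  obtain ⟨n, hn, hnx⟩ := P.conj_eq_normalizer_conj_of_mem x⁻¹ u⁻¹ (Subgroup.inv_mem _ hxP) h2
  rw [inv_inv] at hnx
  have e : ⁅x, u⁆ = ⁅x, n⁻¹⁆ := by
    simp only [commutatorElement_def, inv_inv]
    calc x * u * x⁻¹ * u⁻¹ = x * (u * x⁻¹ * u⁻¹) := by group
      _ = x * (n⁻¹ * x⁻¹ * n) := by rw [hnx]
      _ = x * n⁻¹ * x⁻¹ * n := by group
  rw [SetLike.mem_coe, e]
  exact Subgroup.commutator_mem_commutator hxP (Subgroup.inv_mem _ hn)

/-- For an abelian Sylow `p`-subgroup, `G' ∩ P = [P, N_G(P)]`. -/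
theorem commutator_inf_sylow_eq_of_abelian {G : Type*} [Group G] [Finite G]
    {p : ℕ} [Fact p.Prime] (P : Sylow p G) [IsMulCommutative P] :
    commutator G ⊓ (P : Subgroup G) = ⁅(P : Subgroup G), normalizer ((P : Subgroup G) : Set G)⁆ := by
  apply le_antisymm
  · rw [Subgroup.commutator_inf_eq_focalSubgroup]
    exact focalSubgroup_le_commutator_normalizer_of_abelian P
  · apply le_inf
    · rw [commutator_def]
      exact Subgroup.commutator_mono le_top le_top
    · exact commutator_le_of_le_normalizer le_rfl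

/-- `O^p(G)` lies in the kernel of any homomorphism to a `p`-group -/
theorem pResidual_le_ker {G H : Type*} [Group G] [Group H] {p : ℕ} [Fact p.Prime]
    (hH : IsPGroup p H) (f : G →* H) : Cfsg.pResidual p G ≤ f.ker := by
  unfold Cfsg.pResidual
  rw [Subgroup.closure_le]
  intro g hg
  have hg' : Nat.Coprime (orderOf g) p := hg
  rw [SetLike.mem_coe, MonoidHom.mem_ker]
  obtain ⟨k, hk⟩ := hH (f g)
  have h1 : orderOf (f g) ∣ p ^ k := orderOf_dvd_of_pow_eq_one hk
  have h2 : orderOf (f g) ∣ orderOf g := orderOf_map_dvd f g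
  have h3 : orderOf (f g) ∣ 1 := by
    have := Nat.dvd_gcd h2 h1
    rwa [Nat.Coprime.pow_right k hg'] at this
  exact orderOf_eq_one_iff.mp (Nat.dvd_one.mp h3)

end Cfsg.Agent.Lib.Helper1
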