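import Cfsg.Agent.Lib.Helper17.FrCDefs
import Cfsg.Agent.Lib.Helper1.FrCTools
import Cfsg.Agent.Lib.Helper15.FrCS

/-!
helper1, CORE13 (S5679/S5696) block ST: `exists_nonframe`, `exists_nonB`.
-/

set_option autoImplicit false
set_option linter.unusedSectionVars false
set_option linter.unusedVariables false

namespace Cfsg.Agent.Lib.Helper1.FrCLeaf

open Module QuadraticMap Matrix Cfsg.Agent.Lib.Helper25.CD Cfsg.Agent.Lib.Helper25.Spin
  Cfsg.Agent.Lib.Helper5.NSMax Cfsg.Agent.Lib.Helper5.PairMax Cfsg.Agent.Lib.Helper17.OC2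
  Cfsg.Agent.Lib.Helper29.FrStd Cfsg.Agent.Lib.Helper11.Mono Cfsg.Agent.Lib.Helper17.FrC
open Cfsg.Agent.Lib.Helper15.FrCLeaf (rt_e rt_conj rt_perm)

variable {κ : Type} [Fintype κ] [DecidableEq κ] {F : Type*} [Field F] [Fintype F]
  {c : F} {M : Subgroup ↥(Cfsg.isometryGroup F ⇑(stdQ κ F c))}

/-- ST1 -/
theorem exists_nonframe (h : Ctx c M)
    (hg : ∃ g ∈ M, ¬ IsMono (((g : GL κ F)) : Matrix κ κ F)) :
    ∃ (g : ↥(Cfsg.isometryGroup F ⇑(stdQ κ F c))) (i : κ), g ∈ M ∧
      ¬ ∃ j, toOG (stdQ κ F c) g (e i) = e j ∨ toOG (stdQ κ F c) g (e i) = -e j := by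
  obtain ⟨g, hgM, hnm⟩ := hg
  unfold IsMono at hnm
  push Not at hnm
  obtain ⟨j, hj⟩ := hnm
  refine ⟨g, j, hgM, ?_⟩
  rintro ⟨i, hi | hi⟩
  · apply hj i
    intro k hk
    rw [← toOG_e_apply, hi]
    exact e_apply_ne hk
  · apply hj i
    intro k hk
    rw [← toOG_e_apply, hi, Pi.neg_apply, e_apply_ne hk, neg_zero]

/-- ST2 -/
theorem exists_nonB (h : Ctx c M) (h5 : 5 ≤ Fintype.card F)
    (hg : ∃ g ∈ M, ¬ IsMono (((g : GL κ F)) : Matrix κ κ F)) : ∃ a, Rt c M a ∧ ¬ IsB a := by
  obtain ⟨g, i, hgM, hnf⟩ := exists_nonframe h hg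
  set a : κ → F := toOG (stdQ κ F c) g (e i) with ha
  have hRa : Rt c M a := rt_conj h hgM (rt_e h i)
  by_cases hB : IsB a
  · rcases hB with hfr | ⟨j, k, hjk, hj, hk, hrest⟩
    · exact absurd hfr hnf
    · -- spare coordinates
      have hκ := h.card
      obtain ⟨l, hl⟩ := exists_notMem ({j, k} : Finset κ) (by
        have := Finset.card_le_two (a := j) (b := k)
        omega)
      obtain ⟨m, hm⟩ := exists_notMem ({j, k, l} : Finset κ) (by
        have := Finset.card_le_three (a := j) (b := k) (c := l)
        omega)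
      obtain ⟨m', hm'⟩ := exists_notMem ({j, k, l, m} : Finset κ) (by
        have := Finset.card_le_four (a := j) (b := k) (c := l) (d := m)
        omega)
      simp only [Finset.mem_insert, Finset.mem_singleton, not_or] at hl hm hm'
      obtain ⟨hlj, hlk⟩ := hl
      obtain ⟨hmj, hmk, hml⟩ := hm
      obtain ⟨hm'j, hm'k, hm'l, hm'm⟩ := hm'
      set σ : Equiv.Perm κ := Equiv.swap k l * Equiv.swap m m' with hσ
      have hsign : Equiv.Perm.sign σ = 1 := by
        rw [hσ, Equiv.Perm.sign_mul, Equiv.Perm.sign_swap (Ne.symm hlk),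
          Equiv.Perm.sign_swap (Ne.symm hm'm)]
        rfl
      have hσj : σ j = j := by
        rw [hσ, Equiv.Perm.mul_apply, Equiv.swap_apply_of_ne_of_ne (Ne.symm hmj) (Ne.symm hm'j),
          Equiv.swap_apply_of_ne_of_ne hjk (Ne.symm hlj)]
      have hσk : σ k = l := by
        rw [hσ, Equiv.Perm.mul_apply, Equiv.swap_apply_of_ne_of_ne (Ne.symm hmk) (Ne.symm hm'k),
          Equiv.swap_apply_left]
      have hRb : Rt c M (a ∘ σ) := rt_perm h σ hsign hRa
      have hal : a l = 0 := hrest l hlj hlk
      have hab : (a ∘ σ) ⬝ᵥ a = a j ^ 2 := by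
        unfold dotProduct
        rw [Finset.sum_eq_add_of_mem j k (Finset.mem_univ _) (Finset.mem_univ _) hjk]
        · simp only [Function.comp_apply]
          rw [hσj, hσk, hal]
          ring
        · intro x _ hx
          rw [hrest x hx.1 hx.2, mul_zero]
      -- the root `g⁻¹ b`
      have hRr : Rt c M (toOG (stdQ κ F c) g⁻¹ (a ∘ σ)) := rt_conj h (M.inv_mem hgM) hRb
      refine ⟨_, hRr, ?_⟩
      have hri : toOG (stdQ κ F c) g⁻¹ (a ∘ σ) i = a j ^ 2 := by
        have e1 := dot_toOG h.hc h.h2 g (toOG (stdQ κ F c) g⁻¹ (a ∘ σ)) (e i)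
        rw [dot_e_right] at e1
        rw [← e1, ← ha]
        have e2 : toOG (stdQ κ F c) g (toOG (stdQ κ F c) g⁻¹ (a ∘ σ)) = a ∘ σ := by
          rw [← LinearEquiv.mul_apply, ← map_mul, mul_inv_cancel, map_one]
          rfl
        rw [e2, hab]
      -- `1/4` is not the square of a coordinate of a vector of type `B`
      have h2 := h.h2
      have h3 : (3 : F) ≠ 0 := by
        intro h3
        have hchar := h.prime
        have : ((3 : ℕ) : F) = 0 := by exact_mod_cast h3
        obtain ⟨p, hp⟩ := CharP.exists F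
        have hdvd : p ∣ 3 := (CharP.cast_eq_zero_iff F p 3).1 this
        have hcard : (Fintype.card F : F) = 0 := Nat.cast_card_eq_zero F
        have hdvd2 : p ∣ Fintype.card F := (CharP.cast_eq_zero_iff F p _).1 hcard
        have hp' : p.Prime := by
          have := CharP.char_is_prime_or_zero F p
          rcases this with h' | h'
          · exact h'
          · exfalso
            rw [h'] at hdvd
            omega
        have hp3 : p = 3 := (Nat.prime_dvd_prime_iff_eq hp' Nat.prime_three).1 hdvd
        have hpc : p = Fintype.card F := (Nat.prime_dvd_prime_iff_eq hp' hchar).1 hdvd2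
        omega
      have hq : (4 : F) * (a j ^ 2) ^ 2 = 1 := by
        have : (4 : F) * (a j ^ 2) ^ 2 = (2 * a j ^ 2) ^ 2 := by ring
        rw [this, hj, one_pow]
      intro hB'
      rcases hB' with ⟨i', hi' | hi'⟩ | ⟨j', k', hjk', hj', hk', hrest'⟩
      · -- `± e_{i'}`: coordinates squared are 0 or 1
        have := congrFun hi' i
        rw [hri] at this
        by_cases hii : i = i'
        · rw [hii, e_apply_same] at this
          rw [this] at hq
          apply h3
          linear_combination hq
        · rw [e_apply_ne hii] at this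
          rw [this] at hq
          simp at hq
      · have := congrFun hi' i
        rw [hri, Pi.neg_apply] at this
        by_cases hii : i = i'
        · rw [hii, e_apply_same] at this
          rw [this] at hq
          apply h3
          linear_combination hq
        · rw [e_apply_ne hii, neg_zero] at this
          rw [this] at hq
          simp at hq
      · by_cases hij' : i = j'
        · rw [← hij', hri] at hj'
          -- 2 * (a j^2)^2 = 1 and 4 * (a j ^2)^2 = 1
          apply one_ne_zero (α := F)
          linear_combination hq - 2 * hj'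
        · by_cases hik' : i = k'
          · rw [← hik', hri] at hk'
            apply one_ne_zero (α := F)
            linear_combination hq - 2 * hk'
          · have := hrest' i hij' hik'
            rw [hri] at this
            rw [this] at hq
            simp at hq
  · exact ⟨a, hRa, hB⟩

end Cfsg.Agent.Lib.Helper1.FrCLeaf
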