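import Mathlib
import Cfsg.Agent.Lib.Helper1.Basic

/-!
Counting in groups with a TI, self-normalizing subgroup (Frobenius complement style).
-/

namespace Cfsg.Agent.Lib.Helper1

open Subgroup
open scoped Pointwise

variable {G : Type*} [Group G]

/-- `H` meets its conjugates by elements outside `H` trivially. -/
def IsTISelf (H : Subgroup G) : Prop := ∀ g : G, g ∉ H → H ⊓ (MulAut.conj g • H) = ⊥

/-- The nonidentity elements lying in some conjugate of `H`. -/
def conjUnion (H : Subgroup G) : Set G := {x | x ≠ 1 ∧ ∃ g : G, x ∈ MulAut.conj g • H}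

theorem IsTISelf.mem_of_mem_inf {H : Subgroup G} (hH : IsTISelf H) {g x : G} (hx : x ∈ H)
    (hx' : g⁻¹ * x * g ∈ H) (hx1 : x ≠ 1) : g ∈ H := by
  by_contra hg
  have h := hH g hg
  have : x ∈ H ⊓ (MulAut.conj g • H) := ⟨hx, (mem_conj_smul_iff H g x).mpr hx'⟩
  rw [h, Subgroup.mem_bot] at this
  exact hx1 this

theorem card_subtype_ne_one (H : Type*) [Group H] [Finite H] :
    Nat.card {x : H // x ≠ 1} = Nat.card H - 1 := by
  classical
  have h := Nat.card_congr (Equiv.optionSubtypeNe (1 : H))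
  rw [Finite.card_option] at h
  omega

theorem card_conjUnion [Finite G] {H : Subgroup G} (hH : IsTISelf H) :
    Nat.card (conjUnion H) = H.index * (Nat.card H - 1) := by
  classical
  have hφ : ∀ (c : G ⧸ H) (x : {x : H // x ≠ 1}),
      (c.out * (x.1 : G) * c.out⁻¹) ∈ conjUnion H := by
    intro c x
    refine ⟨?_, c.out, ?_⟩
    · intro h
      apply x.2
      have : ((x.1 : H) : G) = 1 := by
        have h2 : (x.1 : G) = c.out⁻¹ * (c.out * (x.1 : G) * c.out⁻¹) * c.out := by group
        rw [h2, h]; group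
      exact Subtype.ext this
    · rw [mem_conj_smul_iff]
      have : c.out⁻¹ * (c.out * (x.1 : G) * c.out⁻¹) * c.out = (x.1 : G) := by group
      rw [this]; exact x.1.2
  let φ : (G ⧸ H) × {x : H // x ≠ 1} → conjUnion H := fun cx => ⟨_, hφ cx.1 cx.2⟩
  have hinj : Function.Injective φ := by
    rintro ⟨c, x⟩ ⟨d, y⟩ h
    have h' : c.out * (x.1 : G) * c.out⁻¹ = d.out * (y.1 : G) * d.out⁻¹ := congrArg Subtype.val h
    have hg : c.out⁻¹ * d.out ∈ H := by
      apply hH.mem_of_mem_inf (x := (x.1 : G)) x.1.2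
      · have : (c.out⁻¹ * d.out)⁻¹ * (x.1 : G) * (c.out⁻¹ * d.out) = (y.1 : G) := by
          have : (x.1 : G) = c.out⁻¹ * (d.out * (y.1 : G) * d.out⁻¹) * c.out := by
            rw [← h']; group
          rw [this]; group
        rw [this]; exact y.1.2
      · intro h1
        exact x.2 (Subtype.ext h1)
    have hcd : c = d := by
      rw [← QuotientGroup.out_eq' c, ← QuotientGroup.out_eq' d]
      exact QuotientGroup.eq.mpr hg
    subst hcd
    have hxy : (x.1 : G) = (y.1 : G) := by
      have := mul_left_cancel (mul_right_cancel h')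
      exact this
    have : x = y := Subtype.ext (Subtype.ext hxy)
    rw [this]
  have hsurj : Function.Surjective φ := by
    rintro ⟨u, hu1, g, hg⟩
    rw [mem_conj_smul_iff] at hg
    obtain ⟨h, hh⟩ := QuotientGroup.mk_out_eq_mul H g
    set c : G ⧸ H := QuotientGroup.mk g with hc
    have hxH : c.out⁻¹ * u * c.out ∈ H := by
      rw [hh]
      have : (g * (h : G))⁻¹ * u * (g * (h : G)) = (h : G)⁻¹ * (g⁻¹ * u * g) * (h : G) := by group
      rw [this]
      exact H.mul_mem (H.mul_mem (H.inv_mem h.2) hg) h.2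
    have hx1 : (⟨c.out⁻¹ * u * c.out, hxH⟩ : H) ≠ 1 := by
      intro h1
      have h2 : c.out⁻¹ * u * c.out = 1 := congrArg Subtype.val h1
      apply hu1
      have : u = c.out * (c.out⁻¹ * u * c.out) * c.out⁻¹ := by group
      rw [this, h2]; group
    refine ⟨(c, ⟨⟨c.out⁻¹ * u * c.out, hxH⟩, hx1⟩), ?_⟩
    apply Subtype.ext
    show c.out * (c.out⁻¹ * u * c.out) * c.out⁻¹ = u
    group
  rw [← Nat.card_congr (Equiv.ofBijective φ ⟨hinj, hsurj⟩), Nat.card_prod, card_subtype_ne_one]
  rfl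

theorem card_conjUnion_add_index [Finite G] {H : Subgroup G} (hH : IsTISelf H) :
    Nat.card (conjUnion H) + H.index = Nat.card G := by
  rw [card_conjUnion hH, ← H.index_mul_card]
  have : 1 ≤ Nat.card H := Nat.card_pos
  obtain ⟨m, hm⟩ : ∃ m, Nat.card H = m + 1 := ⟨Nat.card H - 1, by omega⟩
  rw [hm]; simp; ring

theorem card_le_two_mul_card_conjUnion [Finite G] {H : Subgroup G} (hH : IsTISelf H)
    (hne : H ≠ ⊥) : Nat.card G ≤ 2 * Nat.card (conjUnion H) := by
  rw [card_conjUnion hH, ← H.index_mul_card]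
  have h2 : 2 ≤ Nat.card H := by
    have h1 : 1 ≤ Nat.card H := Nat.card_pos
    have : Nat.card H ≠ 1 := fun h => hne (Subgroup.card_eq_one.mp h)
    omega
  obtain ⟨m, hm⟩ : ∃ m, Nat.card H = m + 2 := ⟨Nat.card H - 2, by omega⟩
  rw [hm]
  have : m + 2 - 1 = m + 1 := by omega
  rw [this]
  nlinarith [Nat.zero_le (H.index * m)]

/-- Two nontrivial TI self-normalizing subgroups have conjugates meeting nontrivially. -/
theorem exists_conj_inf_ne_bot [Finite G] {H K : Subgroup G} (hH : IsTISelf H) (hK : IsTISelf K)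
    (hHne : H ≠ ⊥) (hKne : K ≠ ⊥) : ∃ g : G, H ⊓ MulAut.conj g • K ≠ ⊥ := by
  classical
  by_contra hcon
  push Not at hcon
  -- the two unions are disjoint subsets of `G \ {1}`
  have hdisj : Disjoint (conjUnion H) (conjUnion K) := by
    rw [Set.disjoint_left]
    rintro x ⟨hx1, a, ha⟩ ⟨-, b, hb⟩
    rw [mem_conj_smul_iff] at ha hb
    have hmem : a⁻¹ * x * a ∈ H ⊓ MulAut.conj (a⁻¹ * b) • K := by
      refine Subgroup.mem_inf.mpr ⟨ha, ?_⟩
      rw [mem_conj_smul_iff]
      have : (a⁻¹ * b)⁻¹ * (a⁻¹ * x * a) * (a⁻¹ * b) = b⁻¹ * x * b := by group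
      rw [this]; exact hb
    rw [hcon, Subgroup.mem_bot] at hmem
    apply hx1
    have : x = a * (a⁻¹ * x * a) * a⁻¹ := by group
    rw [this, hmem]; group
  have hsub : conjUnion H ∪ conjUnion K ⊆ ({1} : Set G)ᶜ := by
    rintro x (hx | hx)
    · exact hx.1
    · exact hx.1
  have h1 := Set.ncard_le_ncard hsub (Set.toFinite _)
  rw [Set.ncard_union_eq hdisj (Set.toFinite _) (Set.toFinite _)] at h1
  have h2 : ({1} : Set G)ᶜ.ncard = Nat.card G - 1 := by
    rw [Set.ncard_compl, Set.ncard_singleton]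
  rw [h2] at h1
  have h3 := card_le_two_mul_card_conjUnion hH hHne
  have h4 := card_le_two_mul_card_conjUnion hK hKne
  rw [← Nat.card_coe_set_eq, ← Nat.card_coe_set_eq] at h1
  have : 0 < Nat.card G := Nat.card_pos
  omega

end Cfsg.Agent.Lib.Helper1
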