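/-
S4840 (solvable Gagola characters), spine (T): a solvable group `X` acting on a commutative group `V` of
exponent `p` with `p'`-elements fixed-point-free, `|X| = (|V| - 1) p ^ a` and `O_p(X) = 1` has
`p ∤ |[X,X]|` (helper1; leaves by helper9, helper13, helper16, helper19, helper20, helper22).
-/
import Mathlib
import Cfsg.Prelude.Def_Solvable
import Cfsg.Prelude.Def_Transfer
import Cfsg.Prelude.Def_CaseTheorems
import Cfsg.Agent.Lib.Helper1.Fitting
import Cfsg.Agent.S0044
import Cfsg.Agent.Lib.Helper27.MetaSSAut
import Cfsg.Agent.Lib.Helper23.Q8Aut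
import Cfsg.Agent.Lib.Helper9.GagT0
import Cfsg.Agent.Lib.Helper19.GagT1
import Cfsg.Agent.Lib.Helper19.GagT4
import Cfsg.Agent.Lib.Helper13.GagT3
import Cfsg.Agent.Lib.Helper22.GagT5
import Cfsg.Agent.Lib.Helper16.GagT6

set_option autoImplicit false

universe u v

namespace Cfsg.Agent.Lib.Helper1.Gag

open Cfsg

open Cfsg.Agent.Lib.Helper1 in
/-- (T) the abstract theorem. -/
theorem commutator_coprime {X : Type u} [Group X] [Finite X] [Group.IsSolvable X] {V : Type v} [CommGroup V]
    [Finite V] (p : ℕ) [Fact p.Prime] (φ : X →* MulAut V) (hexp : ∀ v : V, v ^ p = 1)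
    (hfpf : ∀ x : X, x ≠ 1 → (orderOf x).Coprime p → ∀ v : V, φ x v = v → v = 1)
    (a : ℕ) (hcard : Nat.card X = (Nat.card V - 1) * p ^ a) (hcore : Cfsg.pCore p X = ⊥) :
    (Nat.card (commutator X)).Coprime p := by
  classical
  have hp : p.Prime := Fact.out
  have hVnt : Nontrivial V := by
    by_contra h
    rw [not_nontrivial_iff_subsingleton] at h
    have h1 : Nat.card V = 1 := Nat.card_eq_one_iff_unique.mpr ⟨h, ⟨1⟩⟩
    rw [h1] at hcard
    simp at hcard
    exact Nat.card_pos.ne' hcard
  set F : Subgroup X := ⨆ r : Nat.Primes, Cfsg.pCore (r : ℕ) X with hF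
  have hFfit : Cfsg.fittingSubgroup X = F := fittingSubgroup_eq_iSup_pCore X
  have hCF : Subgroup.centralizer (F : Set X) ≤ F := by
    rw [← hFfit]; exact Cfsg.Agent.S0044.result
  have hFp : (Nat.card F).Coprime p := Cfsg.Agent.Lib.Helper13.Gag.card_iSup_pCore_coprime p hcore
  have hle : ∀ r : Nat.Primes, Cfsg.pCore (r : ℕ) X ≤ F := fun r =>
    le_iSup (fun r : Nat.Primes => Cfsg.pCore (r : ℕ) X) r
  have hstr : ∀ (r : ℕ) [Fact r.Prime], r ≠ p → IsCyclic (Cfsg.pCore r X) ∨
      (r = 2 ∧ ∃ n : ℕ, 1 ≤ n ∧ Nonempty (Cfsg.pCore r X ≃* QuaternionGroup (2 ^ n))) :=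
    fun r _ hrp => Cfsg.Agent.Lib.Helper9.Gag.cyclic_or_quat_of_fpf p φ hexp hfpf r hrp _ (pCore_isPGroup r X)
  have hbot : ∀ S : Subgroup X, S ≤ Subgroup.centralizer (((⊥ : Subgroup X) : Subgroup X) : Set X) := by
    intro S d _
    rw [Subgroup.mem_centralizer_iff]
    intro h hh
    rw [SetLike.mem_coe, Subgroup.mem_bot] at hh
    rw [hh, one_mul, mul_one]
  have hD_odd : ∀ r : Nat.Primes, (r : ℕ) ≠ 2 →
      commutator X ≤ Subgroup.centralizer ((Cfsg.pCore (r : ℕ) X : Subgroup X) : Set X) := by
    intro r hr2
    haveI : Fact (r : ℕ).Prime := ⟨r.2⟩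
    by_cases hrp : (r : ℕ) = p
    · rw [hrp, hcore]
      exact hbot _
    · rcases hstr (r : ℕ) hrp with h | ⟨h2, -⟩
      · haveI := h
        exact Cfsg.Agent.Lib.Helper19.Gag.commutator_le_centralizer_of_isCyclic _
      · exact absurd h2 hr2
  have hkey : ∀ y : X, (∀ r : Nat.Primes,
      y ∈ Subgroup.centralizer ((Cfsg.pCore (r : ℕ) X : Subgroup X) : Set X)) → y ∈ F := by
    intro y hy
    apply hCF
    have h1 : F ≤ Subgroup.centralizer ({y} : Set X) := by
      apply iSup_le
      intro r h hh
      rw [Subgroup.mem_centralizer_iff]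
      intro z hz
      rw [Set.mem_singleton_iff] at hz
      subst hz
      exact ((Subgroup.mem_centralizer_iff.mp (hy r)) h hh).symm
    rw [Subgroup.mem_centralizer_iff]
    intro h hh
    have := Subgroup.mem_centralizer_iff.mp (h1 hh) y rfl
    exact this.symm
  have hfin : ∀ D : Subgroup X, D ≤ F → (Nat.card D).Coprime p := fun D hD =>
    Nat.Coprime.coprime_dvd_left (Subgroup.card_dvd_of_le hD) hFp
  by_cases hp2 : p = 2
  · apply hfin
    intro d hd
    apply hkey
    intro r
    by_cases hr2 : (r : ℕ) = 2
    · rw [hr2, ← hp2, hcore]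
      exact hbot _ hd
    · exact hD_odd r hr2 hd
  · haveI : Fact (2 : ℕ).Prime := ⟨Nat.prime_two⟩
    rcases hstr 2 (Ne.symm hp2) with hcyc | ⟨-, n, hn, ⟨e⟩⟩
    · haveI := hcyc
      have h2 := Cfsg.Agent.Lib.Helper19.Gag.commutator_le_centralizer_of_isCyclic (Cfsg.pCore 2 X)
      apply hfin
      intro d hd
      apply hkey
      intro r
      by_cases hr2 : (r : ℕ) = 2
      · rw [hr2]
        exact h2 hd
      · exact hD_odd r hr2 hd
    · set R : Subgroup X := Cfsg.pCore 2 X with hR
      -- elements of `[X,X]` centralizing `R` lie in `F`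
      have hD0 : ∀ y : X, (∀ r : Nat.Primes, (r : ℕ) ≠ 2 →
          y ∈ Subgroup.centralizer ((Cfsg.pCore (r : ℕ) X : Subgroup X) : Set X)) →
          y ∈ Subgroup.centralizer (R : Set X) → y ∈ F := by
        intro y hy hyR
        apply hkey
        intro r
        by_cases hr2 : (r : ℕ) = 2
        · rw [hr2]
          exact hyR
        · exact hy r hr2
      have hrel := Cfsg.Agent.Lib.Helper19.Gag.relIndex_centralizer_dvd_card_mulAut R (commutator X)
      have hcardD : Nat.card ((Subgroup.centralizer (R : Set X)).subgroupOf (commutator X)) *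
          (Subgroup.centralizer (R : Set X)).relIndex (commutator X) = Nat.card (commutator X) :=
        Subgroup.card_mul_index _
      have hD0cop : (Nat.card ((Subgroup.centralizer (R : Set X)).subgroupOf
          (commutator X))).Coprime p := by
        have h1 : ((Subgroup.centralizer (R : Set X)).subgroupOf (commutator X)).map
            (commutator X).subtype ≤ F := by
          rintro _ ⟨d, hd, rfl⟩
          exact hD0 d (fun r hr2 => hD_odd r hr2 d.2) (Subgroup.mem_subgroupOf.mp hd)
        have h2 := hfin _ h1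
        rwa [Subgroup.card_map_of_injective (Subgroup.subtype_injective _)] at h2
      rw [← hcardD]
      apply Nat.Coprime.mul_left hD0cop
      by_cases hn2 : 2 ≤ n
      · have hAut : IsPGroup 2 (MulAut R) :=
          (Cfsg.Agent.Lib.Helper27.MetaSS.isPGroup_mulAut_quaternion hn2).of_equiv
            (MulAut.congr e).symm
        obtain ⟨k, hk⟩ := IsPGroup.iff_card.mp hAut
        rw [hk] at hrel
        obtain ⟨j, -, hj⟩ := (Nat.dvd_prime_pow Nat.prime_two).mp hrel
        rw [hj]
        apply Nat.Coprime.pow_left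
        exact (Nat.coprime_primes Nat.prime_two hp).mpr (Ne.symm hp2)
      · have hn1 : n = 1 := by omega
        subst hn1
        have e' : R ≃* QuaternionGroup 2 := e
        have hAut : Nat.card (MulAut R) = 24 := by
          rw [Nat.card_congr (MulAut.congr e').toEquiv]
          exact Cfsg.Agent.Lib.Helper23.Q8Aut.card_mulAut
        rw [hAut] at hrel
        by_cases hp3 : p = 3
        · subst hp3
          by_cases hidx : (Subgroup.centralizer (R : Set X)).index = 24
          · exact (Cfsg.Agent.Lib.Helper22.Gag.false_of_quat_index_24 φ hexp hfpf a hcard R e' hidx).elim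
          · -- `[X,X] ≤ F`
            have hDF : commutator X ≤ F := by
              intro d hd
              obtain ⟨g, hg, hdg⟩ := Cfsg.Agent.Lib.Helper16.Gag.exists_inner_of_index_ne R e' hidx d hd
              have h1 : d * g⁻¹ ∈ F := by
                apply hD0 _ _ hdg
                intro r hr2
                haveI : Fact (r : ℕ).Prime := ⟨r.2⟩
                apply Subgroup.mul_mem _ (hD_odd r hr2 hd)
                apply Subgroup.inv_mem
                rw [Subgroup.mem_centralizer_iff]
                intro h hh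
                exact (pCore_commute hr2 h g hh hg).eq
              have h2 : g ∈ F := hle ⟨2, Nat.prime_two⟩ hg
              have := F.mul_mem h1 h2
              simpa using this
            have h3 := hfin _ hDF
            rw [← hcardD] at h3
            exact Nat.Coprime.coprime_mul_left h3
        · have h24 : (24 : ℕ).Coprime p := by
            have h2 : (2 : ℕ).Coprime p := (Nat.coprime_primes Nat.prime_two hp).mpr (Ne.symm hp2)
            have h3 : (3 : ℕ).Coprime p := (Nat.coprime_primes Nat.prime_three hp).mpr (Ne.symm hp3)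
            have : (24 : ℕ) = 2 ^ 3 * 3 := by norm_num
            rw [this]
            exact Nat.Coprime.mul_left (Nat.Coprime.pow_left 3 h2) h3
          exact Nat.Coprime.coprime_dvd_left hrel h24

end Cfsg.Agent.Lib.Helper1.Gag
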