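/-
S4840 (solvable Gagola characters), the group-theoretic core (GA) (helper1; leaves by helper13, helper16,
helper19).
-/
import Mathlib
import Cfsg.Prelude.Def_Solvable
import Cfsg.Prelude.Def_Transfer
import Cfsg.Prelude.Def_CaseTheorems
import Cfsg.Agent.Lib.Helper1.GagT
import Cfsg.Agent.Lib.Helper22.BSOddRed
import Cfsg.Agent.Lib.Helper16.GagL
import Cfsg.Agent.Lib.Helper19.GagGA12
import Cfsg.Agent.Lib.Helper13.GagGA4

set_option autoImplicit false

universe u v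

namespace Cfsg.Agent.Lib.Helper1.Gag

open Cfsg

section G

variable {G : Type u} [Group G] [Finite G] (p : ℕ) [Fact p.Prime] (N : Subgroup G) [N.Normal]

/-- (GA) the group-theoretic core of S4840. -/
theorem group_main [Group.IsSolvable G] (hN1 : N ≠ ⊥) (hNel : Cfsg.IsElementaryAbelian p N)
    (hmin : ∀ K : Subgroup G, K.Normal → K ≠ ⊥ → N ≤ K)
    (hcent : ∀ x ∈ N, x ≠ 1 → ∃ P : Sylow p G, Subgroup.centralizer ({x} : Set G) = P)
    (htr : ∀ x ∈ N, ∀ y ∈ N, x ≠ 1 → y ≠ 1 → ∃ g : G, g * x * g⁻¹ = y) :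
    (∀ q : ℕ, q.Prime → (Cfsg.pCore q G ≠ ⊥ ↔ q = p)) ∧
      Cfsg.HasNormalPComplement p (G ⧸ Cfsg.pCore p G) ∧
      ∀ Q : Sylow p (G ⧸ Cfsg.pCore p G), IsMulCommutative (Q : Subgroup (G ⧸ Cfsg.pCore p G)) := by
  classical
  obtain ⟨hcomm, hexpN⟩ := hNel
  have hNp : IsPGroup p N := by
    intro x
    refine ⟨1, ?_⟩
    apply Subtype.ext
    rw [pow_one]
    simpa using hexpN x x.2
  refine ⟨fun q hq => Cfsg.Agent.Lib.Helper19.Gag.pCore_ne_bot_iff p N hN1 hNp hmin q hq, ?_⟩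
  obtain ⟨a, ha⟩ := Cfsg.Agent.Lib.Helper13.Gag.card_quotient_pCore p N hN1 hcent htr
  obtain ⟨φ, -, hφ⟩ := Cfsg.Agent.Lib.Helper13.Gag.exists_action p N hN1 hcent
  letI : CommGroup N := { (inferInstance : Group N) with mul_comm := fun x y => hcomm.is_comm.comm x y }
  have hcore : Cfsg.pCore p (G ⧸ Cfsg.pCore p G) = ⊥ :=
    Cfsg.Agent.Lib.Helper22.BSOdd.pCore_quotient_pCore p
  have hexpV : ∀ v : N, v ^ p = 1 := by
    intro v
    apply Subtype.ext
    simpa using hexpN v v.2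
  have hT := commutator_coprime (X := G ⧸ Cfsg.pCore p G) (V := N) p φ hexpV hφ a ha hcore
  exact Cfsg.Agent.Lib.Helper16.Gag.npc_of_commutator_coprime p hT

end G

end Cfsg.Agent.Lib.Helper1.Gag
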