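import Mathlib
import Cfsg.Agent.Lib.Helper27.KL18
import Cfsg.Agent.Lib.Helper27.FMCentric
import Cfsg.Agent.Lib.Helper27.ModelNormal
import Cfsg.Agent.Lib.Helper27.Involves

/-!
helper1: `H`-free fusion systems for an arbitrary group `H` (generic versions of helper27's results for `Qd(p)`):
reduction to radical subgroups and inheritance by normalizer systems of fully normalized subgroups.
-/

set_option autoImplicit false
set_option linter.unusedSectionVars false
set_option linter.unusedVariables false

namespace Cfsg.Agent.Lib.Helper1.GlaubF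

universe u v
open Cfsg
open Cfsg.FusionSystem Cfsg.Agent.Lib.Helper26 Cfsg.Agent.Lib.Helper27.FM Cfsg.Agent.Lib.Helper27.ModelRad

theorem sectionFree_of_radical (H : Type v) [Group H] {Ω : Type u} [Group Ω] {S : Subgroup Ω} [Finite S] (p : ℕ) [Fact p.Prime] (hS : IsPGroup p S) (F : Cfsg.FusionSystem S) (hF : F.IsSaturated p) (h : ∀ Q : Subgroup Ω, F.IsFullyNormalized Q → F.IsCentric Q → F.IsRadical p Q → ∀ N : Cfsg.FusionSystem (Cfsg.FusionSystem.normalizerIn S Q), F.IsNormalizerSystem Q N → ∀ (L : Type u) [Group L] (ι : ↥(Cfsg.FusionSystem.normalizerIn S Q) →* L), N.IsModel p L ι → ¬ Cfsg.Involves H L) : F.IsSectionFree p H := by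
  have key : ∀ d : ℕ, ∀ Q : Subgroup Ω, Nat.card S - Nat.card Q = d → F.IsFullyNormalized Q → F.IsCentric Q →
      ∀ N : Cfsg.FusionSystem (Cfsg.FusionSystem.normalizerIn S Q), F.IsNormalizerSystem Q N →
      ∀ (L : Type u) [Group L] (ι : ↥(Cfsg.FusionSystem.normalizerIn S Q) →* L), N.IsModel p L ι →
        ¬ Cfsg.Involves H L := by
    intro d
    induction d using Nat.strong_induction_on with
    | _ d ih =>
      intro Q hd hQfn hQc N hN L _ ι hM hinv
      by_cases hrad : F.IsRadical p Q
      · exact h Q hQfn hQc hrad N hN L ι hM hinv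
      · have hQS : Q ≤ S := hQfn.1
        have hTS : normalizerIn S Q ≤ S := normalizerIn_le S Q
        haveI : Finite ↥(normalizerIn S Q) := finite_of_le hTS
        have hpT : IsPGroup p ↥(normalizerIn S Q) := hS.to_le hTS
        have hRrad := isRadical_pullSub_pCore p hpT N ι hM
        have hM0 := hM
        obtain ⟨hfin, hreal, ⟨Tsyl, hTsyl⟩, hcent⟩ := hM
        haveI := hfin
        have hOT : pCore p L ≤ ι.range := hTsyl ▸ Cfsg.Agent.Lib.Helper16.pCore_le_sylow Tsyl
        haveI hOn : (pCore p L).Normal := Cfsg.Agent.Lib.Helper24.pCore_normal' p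
        have hRn : N.IsNormal (pullSub ι (pCore p L)) := isNormal_pullSub_of_realized N ι hreal (pCore p L) hOT
        have hQn : N.IsNormal Q := isNormal_of_isNormalizerSystem F hQS N hN
        have hιQ : ((Q.subgroupOf (normalizerIn S Q)).map ι).Normal :=
          Cfsg.Agent.Lib.Helper26.ModelThm.map_normal_of_isNormal hM0 hQn
        have hQR : Q ≤ pullSub ι (pCore p L) := by
          intro x hx
          have hxT : x ∈ normalizerIn S Q := le_normalizerIn hQS hx
          refine (mem_pullSub ι (pCore p L) ⟨x, hxT⟩).mpr ?_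
          exact Cfsg.Agent.Lib.Helper16.le_pCore hιQ ((hpT.to_subgroup _).map ι) ⟨⟨x, hxT⟩, hx, rfl⟩
        have hne : pullSub ι (pCore p L) ≠ Q := by
          intro e
          apply hrad
          refine ⟨hQS, ?_⟩
          rw [← autGroup_eq_of_isNormalizerSystem F hQS N hN]
          have h2 := hRrad.2
          rw [e] at h2
          exact h2
        have hRT : pullSub ι (pCore p L) ≤ normalizerIn S Q := pullSub_le ι _
        have hRS : pullSub ι (pCore p L) ≤ S := hRT.trans hTS
        have hRc : F.IsCentric (pullSub ι (pCore p L)) := centric_of_le F hQc hQR hRS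
        have hN' := normalizerSystem_isNormalizerSystem N (pullSub ι (pCore p L)) hRT
        have hsatN : N.IsSaturated p := normalizerSystem_saturated hS F hF hQfn N hN
        have hsatN' := normalizerSystem_saturated hpT N hsatN (isFullyNormalized_of_isNormal N hRn) _ hN'
        have hM' := isModel_normalizer_of_isNormal N hRn _ hN' p ι hM0
        obtain ⟨Us, hUsfn, hUsc, hconj, Ns, hNs, Ls, instLs, ιs, hMs, f, hf⟩ :=
          exists_model_embedding hS F hF hQR hRT hRc N hN _ hN' hsatN' _ hM'
        have hcardUs : Nat.card ↥Us = Nat.card ↥(pullSub ι (pCore p L)) := by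
          obtain ⟨θ, hθ, hi⟩ := (isConj_iff_isFM F).mp hconj
          exact hθ.card_image hi
        have hlt : Nat.card ↥Q < Nat.card ↥(pullSub ι (pCore p L)) := by
          by_contra hle
          push_neg at hle
          haveI : Finite ↥(pullSub ι (pCore p L)) := finite_of_le hRS
          exact hne (Subgroup.eq_of_le_of_card_ge hQR hle).symm
        have hUsle : Nat.card ↥Us ≤ Nat.card ↥S := Subgroup.card_le_of_le hUsfn.1
        have hdlt : Nat.card ↥S - Nat.card ↥Us < d := by omega
        exact ih _ hdlt Us rfl hUsfn hUsc Ns hNs Ls ιs hMs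
          (Cfsg.Agent.Lib.Helper27.involves_of_injective f hf hinv)
  intro Q hQfn hQc N hN L _ ι hM
  exact key _ Q rfl hQfn hQc N hN L ι hM


theorem sectionFree_normalizer (H : Type v) [Group H] {Ω : Type u} [Group Ω] {S : Subgroup Ω} [Finite S] (p : ℕ) [Fact p.Prime] (hS : IsPGroup p S) (F : Cfsg.FusionSystem S) (hF : F.IsSaturated p) (hfree : F.IsSectionFree p H) (Q : Subgroup Ω) (hQ : F.IsFullyNormalized Q) (N : Cfsg.FusionSystem (Cfsg.FusionSystem.normalizerIn S Q)) (hN : F.IsNormalizerSystem Q N) : N.IsSectionFree p H := by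
  have hQS : Q ≤ S := hQ.1
  have hTS : normalizerIn S Q ≤ S := normalizerIn_le S Q
  haveI : Finite ↥(normalizerIn S Q) := finite_of_le hTS
  have hpT : IsPGroup p ↥(normalizerIn S Q) := hS.to_le hTS
  have hsatN : N.IsSaturated p := normalizerSystem_saturated hS F hF hQ N hN
  have hQn : N.IsNormal Q := isNormal_of_isNormalizerSystem F hQS N hN
  apply sectionFree_of_radical H p hpT N hsatN
  intro U hUfn hUc hUr N' hN' L _ ι hM hinv
  have hQU : Q ≤ U := le_of_isNormal_of_centric_radical hpT N hQn hUc hUr
  have hUcF : F.IsCentric U := isCentric_of_isCentric_normalizer hS F hF hQ N hN hQU hUc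
  have hsatN' : N'.IsSaturated p := normalizerSystem_saturated hpT N hsatN hUfn N' hN'
  obtain ⟨Us, hUsfn, hUsc, hconj, Ns, hNs, Ls, instLs, ιs, hMs, f, hf⟩ :=
    exists_model_embedding hS F hF hQU hUc.1 hUcF N hN N' hN' hsatN' ι hM
  exact hfree Us hUsfn hUsc Ns hNs Ls ιs hMs (Cfsg.Agent.Lib.Helper27.involves_of_injective f hf hinv)


end Cfsg.Agent.Lib.Helper1.GlaubF
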