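import Mathlib
import Cfsg.Agent.Lib.Helper1.GlaubF1

/-!
helper1: the reduction theorem of helper27 (`KL16.rt_main`, after Díaz–Glesser–Mazza–Park) with an `H`-freeness
hypothesis threaded through the induction.
-/

set_option autoImplicit false
set_option linter.unusedSectionVars false
set_option linter.unusedVariables false

namespace Cfsg.Agent.Lib.Helper1.GlaubF

open Cfsg Cfsg.FusionSystem Cfsg.Agent.Lib.Helper26 Cfsg.Agent.Lib.Helper27.FM
  Cfsg.Agent.Lib.Helper27.ModelRad Cfsg.Agent.Lib.Helper27.KL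

universe u v

variable {Ω : Type u} [Group Ω] {p : ℕ} [Fact p.Prime] {W : ∀ (Q : Type u) [Group Q], Subgroup Q}
  {H : Type v} [Group H]

/-- The data of the reduction: admissible base groups and the constrained case. -/
structure RTData2 (p : ℕ) (H : Type v) [Group H] (W : ∀ (Q : Type u) [Group Q], Subgroup Q) (X : Subgroup Ω) where
  Adm : Subgroup Ω → Prop
  le : ∀ {T : Subgroup Ω}, Adm T → X ≤ T
  central : ∀ {T : Subgroup Ω}, Adm T → ∀ t ∈ T, ∀ q ∈ X, t * q * t⁻¹ = q
  sub : ∀ {T T' : Subgroup Ω}, Adm T → T' ≤ T → (∀ z ∈ T, (∀ t ∈ T, t * z * t⁻¹ = z) → z ∈ T') → Adm T'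
  model : ∀ (T : Subgroup Ω) [Finite T], IsPGroup p T → ∀ E : FusionSystem T, E.IsSaturated p →
    E.IsSectionFree p H → E.IsCentric E.core → Adm T → FixW W E X → CenAll E X

/-- The induction hypothesis. -/
def IHrt2 (p : ℕ) (H : Type v) [Group H] (W : ∀ (Q : Type u) [Group Q], Subgroup Q) {X : Subgroup Ω}
    (D : RTData2 p H W X) (n m : ℕ) : Prop :=
  ∀ (T : Subgroup Ω) [Finite T], IsPGroup p T → ∀ E : FusionSystem T, E.IsSaturated p →
    E.IsSectionFree p H → D.Adm T →
    FixW W E X → (Nat.card T < n ∨ (Nat.card T = n ∧ GT.mu E < m)) → CenAll E X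

variable {S : Subgroup Ω} {X : Subgroup Ω}

theorem ih_sub_rt2 {D : RTData2 p H W X} {n m : ℕ} (IH : IHrt2 p H W D n m) [Finite S] (hS : IsPGroup p S)
    (F : FusionSystem S) (hF : F.IsSaturated p) (hn : Nat.card S = n) (hm : GT.mu F = m) {T : Subgroup Ω}
    (hTS : T ≤ S) (E : FusionSystem T) (hE : E.IsSaturated p) (hEfree : E.IsSectionFree p H)
    (hAdm : D.Adm T) (hfix : FixW W E X)
    (hle : ∀ P, E.Hom P ⊆ F.Hom P) (hne : ¬ ∀ P, F.Hom P ⊆ E.Hom P) : CenAll E X := by
  haveI : Finite ↥T := finite_of_le hTS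
  have hpT : IsPGroup p T := hS.to_le hTS
  rcases (Subgroup.card_le_of_le hTS).lt_or_eq with h | h
  · exact IH T hpT E hE hEfree hAdm hfix (Or.inl (hn ▸ h))
  · have hTS' : T = S := Subgroup.eq_of_le_of_card_ge hTS h.ge
    subst hTS'
    exact IH T hpT E hE hEfree hAdm hfix (Or.inr ⟨hn, hm ▸ GT.mu_lt hS E F hF hle hne⟩)

/-- The inductive step of the reduction theorem. -/
theorem rt_step2 (hW : PosChar p W)
    (hWZ : ∀ (Q : Type u) [Group Q] [Finite Q], IsPGroup p Q → Subgroup.center Q ≤ W Q)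
    (D : RTData2 p H W X) {n m : ℕ} (IH : IHrt2 p H W D n m) [Finite S] (hS : IsPGroup p S)
    (F : FusionSystem S) (hF : F.IsSaturated p) (hfree : F.IsSectionFree p H) (hAdm : D.Adm S)
    (hfix : FixW W F X) (hn : Nat.card S = n) (hm : GT.mu F = m) :
    CenAll F X := by
  have hXS : X ≤ S := D.le hAdm
  have hXc : ∀ s ∈ S, ∀ q ∈ X, s * q * s⁻¹ = q := D.central hAdm
  haveI : Finite ↥X := finite_of_le hXS
  have hQ : F.IsNormal F.core := core_isNormal F
  have hQS : F.core ≤ S := hQ.1
  have hsc := stronglyClosed_of_isNormal F hQ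
  by_cases hQc : F.IsCentric F.core
  · exact D.model S hS F hF hfree hQc hAdm hfix
  haveI : Finite ↥F.core := finite_of_le hQS
  have hSN : S ≤ Subgroup.normalizer (F.core : Set Ω) := le_normalizer_of_stronglyClosed F hsc
  have hQn : ∀ s ∈ S, ∀ q ∈ F.core, s * q * s⁻¹ ∈ F.core := fun s hs q hq =>
    (Subgroup.mem_normalizer_iff.mp (hSN hs) q).mp hq
  have hScent : S ≤ Subgroup.centralizer (X : Set Ω) := by
    intro s hs
    rw [Subgroup.mem_centralizer_iff]
    intro y hy
    have := hXc s hs y hy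
    calc y * s = s * y * s⁻¹ * s := by rw [this]
      _ = s * y := by group
  -- systems of normalizers of non-normal subgroups
  have hsub : ∀ (U : Subgroup Ω) (hU : U ≤ S), F.IsFullyNormalized U → X ≤ U → ¬ F.IsNormal U →
      FixW W (normalizerSystem F U hU) X → CenAll (normalizerSystem F U hU) X := by
    intro U hU hUfn hXU hUn hfixU
    have hE := normalizerSystem_isNormalizerSystem F U hU
    refine ih_sub_rt2 IH hS F hF hn hm (normalizerIn_le S U) _ (normalizerSystem_saturated hS F hF hUfn _ hE)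
      (sectionFree_normalizer H p hS F hF hfree U hUfn _ hE)
      (D.sub hAdm (normalizerIn_le S U) ?_) hfixU (fun P φ hφ => hφ.1)
      (fun hall => hUn (isNormal_of_forall_normalizerHom F hU hall))
    intro z hzS hzc
    refine ⟨hzS, ?_⟩
    haveI : Finite ↥U := finite_of_le hU
    apply mem_normalizer_of_conj_mem_finite
    intro u hu
    have h1 := hzc u (hU hu)
    have e : z * u * z⁻¹ = u := by
      calc z * u * z⁻¹ = (u * z * u⁻¹) * u * z⁻¹ := by rw [h1]
        _ = u := by group
    rw [e]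
    exact hu
  -- normal subgroups containing `X`
  have hnorm : ∀ U : Subgroup Ω, F.IsNormal U → X ≤ U → CenAll F X := by
    intro U hUn hXU
    have hXQ : X ≤ F.core := hXU.trans (le_sSup hUn)
    have hRS : F.core ⊔ centralizerIn S F.core ≤ S := sup_le hQS (centralizerIn_le S F.core)
    have hRn : ∀ s ∈ S, ∀ r ∈ F.core ⊔ centralizerIn S F.core,
        s * r * s⁻¹ ∈ F.core ⊔ centralizerIn S F.core := fun s hs =>
      conj_mem_sup_of_forall (hQn s hs) (fun c hc => conj_mem_centralizerIn hQn hs hc)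
    haveI : Finite ↥(F.core ⊔ centralizerIn S F.core) := finite_of_le hRS
    have hNR : normalizerIn S (F.core ⊔ centralizerIn S F.core) = S :=
      le_antisymm (normalizerIn_le S _) (fun s hs => ⟨hs, mem_normalizer_of_conj_mem_finite (hRn s hs)⟩)
    have hRfn : F.IsFullyNormalized (F.core ⊔ centralizerIn S F.core) :=
      GT.isFullyNormalized_of_normalizerIn_eq F hRS hNR
    have hE₀ := normalizerSystem_isNormalizerSystem F _ hRS
    have hne₀ : ¬ ∀ P, F.Hom P ⊆ (normalizerSystem F _ hRS).Hom P := by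
      intro hall
      have hRnorm : F.IsNormal (F.core ⊔ centralizerIn S F.core) :=
        isNormal_of_forall_normalizerHom F hRS hall
      have h1 : F.core ⊔ centralizerIn S F.core ≤ F.core := le_sSup hRnorm
      exact hQc (Cfsg.Agent.Lib.Helper27.KL.isCentric_of_isNormal_of_centralizerIn_le F hQ (le_sup_right.trans h1))
    have hfix₀ : FixW W (normalizerSystem F _ hRS) X := by
      intro R θ hθ hWR hθW q hq
      rw [WS_congr W hNR] at hWR hθW
      exact hfix R θ (hθ.of_normalizer hE₀) hWR hθW q hq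
    have hAdm₀ : D.Adm (normalizerIn S (F.core ⊔ centralizerIn S F.core)) :=
      D.sub hAdm (normalizerIn_le S _) (fun z hzS _ => hNR.symm ▸ hzS)
    have hCen₀ : CenAll (normalizerSystem F _ hRS) X :=
      ih_sub_rt2 IH hS F hF hn hm (normalizerIn_le S _) _ (normalizerSystem_saturated hS F hF hRfn _ hE₀)
        (sectionFree_normalizer H p hS F hF hfree _ hRfn _ hE₀)
        hAdm₀ hfix₀ (fun P φ hφ => hφ.1) hne₀
    apply (cmPM F X hXS hXc).forall_of_gen hS hF hQ hQn
    · rintro R θ ⟨θ', h1, h2, s, hs, h3⟩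
      exact ⟨θ', h1.mono (sup_le_sup_left hXQ R), h2, fun q hq => by rw [h3 q (hXQ hq), hXc s hs q hq]⟩
    · intro R θ hθ
      obtain ⟨θ', hθ', hext, hfix'⟩ := hCen₀ R θ hθ
      exact ⟨θ', hθ'.of_normalizer hE₀, hext, hfix'⟩
  -- Alperin with induction
  apply (cmPM F X hXS hXc).forall_of_step hS hF
  intro P hPS hPfn hPess IH' a ha hi
  have hXP : X ≤ P := by
    rcases hPess with rfl | ⟨hess, -⟩
    · exact hXS
    · exact le_of_essential_of_le_centralizer F hess hXS hScent
  apply CM.of_fix hXP ha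
  intro q hq
  rcases hPess with rfl | ⟨hess, hne⟩
  · have himg := hW.isImage_of_isFM hS ha hi
    exact hfix P a ha (WS_le W P) (fun u hu => himg.mem hu) q hq
  · have hleS : Nat.card (normalizerIn S P) ≤ Nat.card S := Subgroup.card_le_of_le (normalizerIn_le S P)
    exact cen_climb hW hWZ hS F hF hXS hXc hfix hsub hnorm (Nat.card P) IH'
      (Nat.card S - Nat.card (normalizerIn S P)) P hPfn hXP rfl (card_lt_card_normalizerIn hS hPS hne)
      P a le_rfl (le_normalizerIn hPS) ha (fun u hu => hi.mem hu) q hq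

/-- **The reduction theorem**, for `H`-free systems. -/
theorem rt_main2 (hW : PosChar p W)
    (hWZ : ∀ (Q : Type u) [Group Q] [Finite Q], IsPGroup p Q → Subgroup.center Q ≤ W Q)
    (D : RTData2 p H W X) :
    ∀ (n m : ℕ) (T : Subgroup Ω) [Finite T], IsPGroup p T → ∀ E : FusionSystem T, E.IsSaturated p →
      E.IsSectionFree p H → D.Adm T → FixW W E X → Nat.card T = n → GT.mu E = m → CenAll E X := by
  intro n
  induction n using Nat.strong_induction_on with
  | _ n ihn =>
    intro m
    induction m using Nat.strong_induction_on with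
    | _ m ihm =>
      intro T _ hT E hE hEfree hAdm hfix hn hm
      apply rt_step2 hW hWZ D (n := n) (m := m) ?_ hT E hE hEfree hAdm hfix hn hm
      intro T' _ hT' E' hE' hE'free hAdm' hfix' hlt
      rcases hlt with h | ⟨h1, h2⟩
      · exact ihn _ h _ T' hT' E' hE' hE'free hAdm' hfix' rfl rfl
      · exact ihm _ h2 T' hT' E' hE' hE'free hAdm' hfix' h1 rfl

end Cfsg.Agent.Lib.Helper1.GlaubF
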