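import Mathlib
import Cfsg.Agent.Lib.Helper1.GlaubF2

/-!
helper1: control of weak closure of elements in `H`-free saturated fusion systems by a positive characteristic
`p`-functor satisfying the local centre condition in `H`-free finite groups (adaptation of helper27's `KL18`).
-/

set_option autoImplicit false
set_option linter.unusedSectionVars false
set_option linter.unusedVariables false

namespace Cfsg.Agent.Lib.Helper1.GlaubF

open Cfsg Cfsg.FusionSystem Cfsg.Agent.Lib.Helper26 Cfsg.Agent.Lib.Helper27.FM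
  Cfsg.Agent.Lib.Helper26.ModelThm Cfsg.Agent.Lib.Helper27.ModelRad Cfsg.Agent.Lib.Helper27.KL

universe u v

variable {Ω : Type u} [Group Ω] {S : Subgroup Ω} {p : ℕ} [Fact p.Prime]
  {W : ∀ (Q : Type u) [Group Q], Subgroup Q} {H : Type v} [Group H]

/-- The local condition for control of weak closure of elements, in `H`-free groups. -/
def WeakClosureProp2 (p : ℕ) (H : Type v) [Group H] (W : ∀ (Q : Type u) [Group Q], Subgroup Q) : Prop :=
  ∀ (G : Type u) [Group G] [Finite G], ¬ Cfsg.Involves H G → ∀ (P : Sylow p G),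
    Cfsg.pCore p G ⊓ Subgroup.center G = Cfsg.pCore p G ⊓
      (Subgroup.center ↥(Subgroup.normalizer
        (((W ↥(P : Subgroup G)).map (P : Subgroup G).subtype : Subgroup G) : Set G))).map
        (Subgroup.normalizer (((W ↥(P : Subgroup G)).map (P : Subgroup G).subtype : Subgroup G) : Set G)).subtype

/-- The reduction data for control of weak closure of elements. -/
def centerData2 (hW : PosChar p W)
    (hWZ : ∀ (Q : Type u) [Group Q] [Finite Q], IsPGroup p Q → Subgroup.center Q ≤ W Q)
    (hC : WeakClosureProp2 p H W) (X : Subgroup Ω) : RTData2 p H W X where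
  Adm T := X ≤ T ∧ ∀ t ∈ T, ∀ q ∈ X, t * q * t⁻¹ = q
  le := fun h => h.1
  central := fun h => h.2
  sub := fun {T T'} h hle hz =>
    ⟨fun q hq => hz q (h.1 hq) (fun t ht => h.2 t ht q hq), fun t ht q hq => h.2 t (hle ht) q hq⟩
  model := by
    intro T _ hT E hE hEfree hQc hAdm hfix
    obtain ⟨hXT, hXc⟩ := hAdm
    have hQ : E.IsNormal E.core := core_isNormal E
    have hs : Setup p E E.core := ⟨hT, hE, hQ, hQc⟩
    haveI : Finite ↥E.core := finite_of_le hQ.1
    haveI : Finite (Mdl hs) := finite_Mdl hs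
    have hM := isModel hs
    have hfn : E.IsFullyNormalized E.core := isFullyNormalized_of_isNormal E hQ
    have hN' := normalizerSystem_isNormalizerSystem E E.core hQ.1
    have hM' := isModel_normalizer_of_isNormal E hQ _ hN' p (mIota hs) hM
    have hninv : ¬ Cfsg.Involves H (Mdl hs) := hEfree E.core hfn hQc _ hN' (Mdl hs) _ hM'
    obtain ⟨-, hreal, ⟨TL, hTL⟩, -⟩ := hM
    have hXW : X ≤ WS W T := fun q hq =>
      mem_WS_of_central hWZ hT (hXT hq) (fun t ht => hXc t ht q hq)
    have h1 := image_mem_center_normalizer hW hT hreal (TL : Subgroup (Mdl hs)) hTL hXW hfix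
    have h2 := image_mem_pCore hs hXT hXc
    apply cenAll_of_central_image hreal hXT
    intro q hq
    have h3 : ext1 (mIota hs) q ∈ Cfsg.pCore p (Mdl hs) ⊓
        (Subgroup.center ↥(Subgroup.normalizer
          (((W ↥(TL : Subgroup (Mdl hs))).map (TL : Subgroup (Mdl hs)).subtype : Subgroup (Mdl hs)) :
            Set (Mdl hs)))).map
          (Subgroup.normalizer (((W ↥(TL : Subgroup (Mdl hs))).map (TL : Subgroup (Mdl hs)).subtype :
            Subgroup (Mdl hs)) : Set (Mdl hs))).subtype := ⟨h2 q hq, h1 q hq⟩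
    rw [← hC (Mdl hs) hninv TL] at h3
    exact h3.2

/-- If the maps normalizing `W(S)` fix `X ≤ Z(S)` pointwise then `X` is central in `F`. -/
theorem isCentral_of_fixW2 (hW : PosChar p W)
    (hWZ : ∀ (Q : Type u) [Group Q] [Finite Q], IsPGroup p Q → Subgroup.center Q ≤ W Q)
    (hC : WeakClosureProp2 p H W) [Finite S] (hS : IsPGroup p S) (F : FusionSystem S) (hF : F.IsSaturated p)
    (hfree : F.IsSectionFree p H)
    {X : Subgroup Ω} (hXS : X ≤ S) (hXc : ∀ s ∈ S, ∀ q ∈ X, s * q * s⁻¹ = q) (hfix : FixW W F X) :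
    F.IsCentral X := by
  rw [isCentral_iff_forall_cm]
  exact ⟨hXS, rt_main2 hW hWZ (centerData2 hW hWZ hC X) _ _ S hS F hF hfree ⟨hXS, hXc⟩ hfix rfl rfl⟩

/-- **Control of weak closure of elements** in `H`-free systems: `Z(N_F(W(S))) = Z(F)`. -/
theorem center_normalizer_eq2 (hW : PosChar p W)
    (hWZ : ∀ (Q : Type u) [Group Q] [Finite Q], IsPGroup p Q → Subgroup.center Q ≤ W Q)
    (hC : WeakClosureProp2 p H W) [Finite S] (hS : IsPGroup p S) (F : FusionSystem S) (hF : F.IsSaturated p)
    (hfree : F.IsSectionFree p H)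
    (N : FusionSystem (normalizerIn S (WS W S))) (hN : F.IsNormalizerSystem (WS W S) N) :
    N.center = F.center := by
  have hWS : WS W S ≤ S := WS_le W S
  have hA : normalizerIn S (WS W S) = S := by
    apply le_antisymm (normalizerIn_le S _)
    intro s hs
    haveI : Finite ↥(WS W S) := finite_of_le hWS
    exact ⟨hs, mem_normalizer_of_conj_mem_finite (fun u hu => hW.conj_mem hS (Subgroup.le_normalizer hs) hu)⟩
  haveI : Finite ↥(normalizerIn S (WS W S)) := finite_of_le (normalizerIn_le S _)
  apply le_antisymm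
  · have hX := center_isCentral N
    obtain ⟨hXS, hXc, hfix⟩ := fixW_of_isCentral_normalizer hW hWZ hS F N hN hX
    exact le_sSup (isCentral_of_fixW2 hW hWZ hC hS F hF hfree hXS hXc hfix)
  · have hZ := center_isCentral F
    have hZA : F.center ≤ normalizerIn S (WS W S) := hA.symm ▸ hZ.1
    exact le_sSup (isCentral_normalizer_of_isCentral F hWS N hN hZ hZA)

end Cfsg.Agent.Lib.Helper1.GlaubF
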