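import Mathlib
import Cfsg.Agent.S0200

/-!
helper1: Glauberman's local theorem, part 6: an involution acting as a transvection (commutator of
order two) on a faithful abelian module and lying in no normal 2-subgroup inverts an element of order 3.
-/

set_option autoImplicit false
set_option linter.unusedSectionVars false
set_option linter.unusedVariables false

namespace Cfsg.Agent.Lib.Helper1.GlaubL

open Subgroup

section Transv

variable {M : Type*} [CommGroup M]

theorem mem_zpowers_of_mul_self {d z : M} (hd : d * d = 1) (hz : z ∈ zpowers d) : z = 1 ∨ z = d := by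
  obtain ⟨k, rfl⟩ := mem_zpowers_iff.mp hz
  rcases Int.emod_two_eq_zero_or_one k with h | h
  · left
    have : k = 2 * (k / 2) := by omega
    rw [this, zpow_mul, zpow_two, hd, one_zpow]
  · right
    have : k = 2 * (k / 2) + 1 := by omega
    rw [this, zpow_add, zpow_mul, zpow_two, hd, one_zpow, one_mul, zpow_one]

theorem mem_four_iff {d d' e : M} (hd : d * d = 1) (hd' : d' * d' = 1) :
    e ∈ zpowers d ⊔ zpowers d' ↔ e = 1 ∨ e = d ∨ e = d' ∨ e = d * d' := by
  constructor
  · intro h
    obtain ⟨y, hy, z, hz, rfl⟩ := Subgroup.mem_sup.mp h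
    rcases mem_zpowers_of_mul_self hd hy with rfl | rfl <;>
      rcases mem_zpowers_of_mul_self hd' hz with rfl | rfl <;> simp
  · have h1 : d ∈ zpowers d ⊔ zpowers d' := (le_sup_left : zpowers d ≤ _) (mem_zpowers d)
    have h2 : d' ∈ zpowers d ⊔ zpowers d' := (le_sup_right : zpowers d' ≤ _) (mem_zpowers d')
    rintro (rfl | rfl | rfl | rfl)
    · exact one_mem _
    · exact h1
    · exact h2
    · exact mul_mem h1 h2

theorem mul_self_of_mem_four {d d' e : M} (hd : d * d = 1) (hd' : d' * d' = 1)
    (he : e ∈ zpowers d ⊔ zpowers d') : e * e = 1 := by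
  rcases (mem_four_iff hd hd').mp he with rfl | rfl | rfl | rfl
  · simp
  · exact hd
  · exact hd'
  · calc d * d' * (d * d') = (d * d) * (d' * d') := by
          rw [mul_mul_mul_comm]
      _ = 1 := by rw [hd, hd', one_mul]

theorem exists_order_three_inverted {H : Type*} [Group H] [Finite H]
    (φ : H →* MulAut M) (hφ : Function.Injective φ) (t : H) (ht : orderOf t = 2)
    (d : M) (hd : ∀ m : M, φ t m / m = 1 ∨ φ t m / m = d)
    (hO : ∀ N : Subgroup H, N.Normal → IsPGroup 2 N → t ∉ N) :
    ∃ h : H, orderOf h = 3 ∧ t * h * t⁻¹ = h⁻¹ := by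
  have htt : t * t = 1 := by rw [← pow_two, ← ht]; exact pow_orderOf_eq_one t
  have htinv : t⁻¹ = t := inv_eq_of_mul_eq_one_left htt
  have htne : t ≠ 1 := by
    intro h; rw [h, orderOf_one] at ht; omega
  -- `d` is an involution
  have hτne : φ t ≠ 1 := fun h => htne (hφ (by rw [h, map_one]))
  obtain ⟨m₀, hm₀⟩ : ∃ m₀, φ t m₀ ≠ m₀ := by
    by_contra hcon
    push_neg at hcon
    apply hτne
    ext m
    rw [hcon m, MulAut.one_apply]
  have hdm₀ : φ t m₀ / m₀ = d := by
    rcases hd m₀ with h | h
    · exact absurd (div_eq_one.mp h) hm₀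
    · exact h
  have hdne : d ≠ 1 := by
    intro h
    rw [h, div_eq_one] at hdm₀
    exact hm₀ hdm₀
  have hdd : d * d = 1 := by
    have h1 : φ t (m₀ * m₀) / (m₀ * m₀) = d * d := by
      rw [map_mul, mul_div_mul_comm, hdm₀]
    rcases hd (m₀ * m₀) with h | h
    · rw [← h1, h]
    · rw [h1] at h
      exfalso
      apply hdne
      calc d = d * d * d⁻¹ := by group
        _ = 1 := by rw [h, mul_inv_cancel]
  -- an inverted element of odd order
  obtain ⟨h, hne, hodd, hinv⟩ := Cfsg.Agent.S0200.result t ht hO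
  set η : MulAut M := φ h with hη
  set d' : M := η d with hd'def
  have hd'd' : d' * d' = 1 := by rw [hd'def, ← map_mul, hdd, map_one]
  set E : Subgroup M := zpowers d ⊔ zpowers d' with hE
  have hdE : d ∈ E := (mem_four_iff hdd hd'd').mpr (Or.inr (Or.inl rfl))
  have hd'E : d' ∈ E := (mem_four_iff hdd hd'd').mpr (Or.inr (Or.inr (Or.inl rfl)))
  -- the set of automorphisms acting trivially modulo `E`
  have hPmul : ∀ α β : MulAut M, (∀ m, α m / m ∈ E) → (∀ m, β m / m ∈ E) →
      ∀ m, (α * β) m / m ∈ E := by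
    intro α β hα hβ m
    have : (α * β) m / m = (α (β m) / β m) * (β m / m) := by
      rw [MulAut.mul_apply, div_mul_div_cancel]
    rw [this]
    exact E.mul_mem (hα _) (hβ _)
  have hPpow : ∀ α : MulAut M, (∀ m, α m / m ∈ E) → ∀ k : ℕ, ∀ m, (α ^ k) m / m ∈ E := by
    intro α hα k
    induction k with
    | zero => intro m; simp
    | succ k ih =>
      rw [pow_succ]
      exact hPmul _ _ ih hα
  have hPτ : ∀ m, φ t m / m ∈ E := by
    intro m
    rcases hd m with h | h
    · rw [h]; exact E.one_mem
    · rw [h]; exact hdE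
  have hPσ : ∀ m, (η * φ t * η⁻¹) m / m ∈ E := by
    intro m
    have h1 : (η * φ t * η⁻¹) m / m = η (φ t (η⁻¹ m) / η⁻¹ m) := by
      rw [map_div, MulAut.mul_apply, MulAut.mul_apply, MulAut.apply_inv_self]
    rw [h1]
    rcases hd (η⁻¹ m) with h | h
    · rw [h, map_one]; exact E.one_mem
    · rw [h]; exact hd'E
  have hhh : h * h = (h * t * h⁻¹) * t := by
    have h1 : t * h⁻¹ * t = h := by
      have h2 : t * h⁻¹ * t⁻¹ = (t * h * t⁻¹)⁻¹ := by group
      rw [hinv, inv_inv, htinv] at h2
      exact h2
    calc h * h = h * (t * h⁻¹ * t) := by rw [h1]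
      _ = (h * t * h⁻¹) * t := by group
  have hηη : η * η = (η * φ t * η⁻¹) * φ t := by
    rw [hη, ← map_mul, hhh, map_mul, map_mul, map_mul, map_inv]
  have hPηη : ∀ m, (η * η) m / m ∈ E := by
    rw [hηη]; exact hPmul _ _ hPσ hPτ
  obtain ⟨j, hj⟩ := hodd
  have hηn : η ^ (orderOf h) = 1 := by rw [hη, ← map_pow, pow_orderOf_eq_one, map_one]
  have hηpow : (η * η) ^ (j + 1) = η := by
    rw [← pow_two, ← pow_mul]
    have : 2 * (j + 1) = orderOf h + 1 := by omega
    rw [this, pow_succ, hηn, one_mul]
  have hPη : ∀ m, η m / m ∈ E := by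
    have := hPpow _ hPηη (j + 1)
    rwa [hηpow] at this
  have hηE : ∀ e ∈ E, η e ∈ E := by
    intro e he
    have : η e = (η e / e) * e := by rw [div_mul_cancel]
    rw [this]
    exact E.mul_mem (hPη e) he
  have hηinj : Function.Injective η := η.injective
  -- `η ^ 3` fixes `d`
  have hη3d : η (η (η d)) = d := by
    have h1 : η d' ∈ E := hηE d' hd'E
    rcases (mem_four_iff hdd hd'd').mp h1 with h | h | h | h
    · exfalso
      have h2 : d' = 1 := hηinj (by rw [h, map_one])
      have h3 : d = 1 := hηinj (by rw [← hd'def, h2, map_one])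
      exact hdne h3
    · -- `η (η d) = d`
      have h2 : ∀ k : ℕ, ((η * η) ^ k) d = d := by
        intro k
        induction k with
        | zero => simp
        | succ k ih =>
          rw [pow_succ, MulAut.mul_apply, MulAut.mul_apply]
          rw [show η (η d) = d from h, ih]
      have h3 := h2 (j + 1)
      rw [hηpow] at h3
      rw [h3, h3, h3]
    · have h2 : d' = d := hηinj h
      have h3 : η d = d := by rw [← hd'def, h2]
      rw [h3, h3, h3]
    · show η (η d') = d
      rw [h, map_mul, h, ← hd'def]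
      calc d' * (d * d') = d * (d' * d') := by
            rw [mul_left_comm]
        _ = d := by rw [hd'd', mul_one]
  set μ : MulAut M := η * η * η with hμ
  have hμapply : ∀ m, μ m = η (η (η m)) := fun m => by
    rw [hμ, MulAut.mul_apply, MulAut.mul_apply]
  have hμd : μ d = d := by rw [hμapply]; exact hη3d
  have hμd' : μ d' = d' := by
    rw [hμapply, hd'def]
    rw [hη3d]
  have hμE : ∀ e ∈ E, μ e = e := by
    intro e he
    rcases (mem_four_iff hdd hd'd').mp he with rfl | rfl | rfl | rfl
    · exact map_one _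
    · exact hμd
    · exact hμd'
    · rw [map_mul, hμd, hμd']
  have hPμ : ∀ m, μ m / m ∈ E := hPmul _ _ (hPmul _ _ hPη hPη) hPη
  have hμn : μ ^ (orderOf h) = 1 := by
    have : μ = η ^ 3 := by rw [hμ, pow_succ, pow_two]
    rw [this, ← pow_mul, mul_comm, pow_mul, hηn, one_pow]
  have hμ1 : μ = 1 := by
    ext m
    rw [MulAut.one_apply]
    have hc := hPμ m
    set cc : M := μ m / m with hcc
    have hcfix : μ cc = cc := hμE cc hc
    have hpow : ∀ k : ℕ, (μ ^ k) m = cc ^ k * m := by
      intro k
      induction k with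
      | zero => simp
      | succ k ih =>
        rw [pow_succ', MulAut.mul_apply, ih, map_mul, map_pow, hcfix]
        have : μ m = cc * m := by rw [hcc, div_mul_cancel]
        rw [this, pow_succ, mul_assoc]
    have h1 := hpow (orderOf h)
    rw [hμn, MulAut.one_apply] at h1
    have h2 : cc ^ (orderOf h) = 1 := by
      have : cc ^ (orderOf h) * m = 1 * m := by rw [one_mul]; exact h1.symm
      exact mul_right_cancel this
    have h3 : cc * cc = 1 := mul_self_of_mem_four hdd hd'd' hc
    have h4 : cc = 1 := by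
      rw [hj, pow_succ, pow_mul, pow_two, h3, one_pow, one_mul] at h2
      exact h2
    rw [hcc, div_eq_one] at h4
    exact h4
  have hh3 : h ^ 3 = 1 := by
    apply hφ
    rw [map_one, map_pow, ← hη, pow_succ, pow_two]
    exact hμ1
  have hord : orderOf h = 3 := by
    have h1 : orderOf h ∣ 3 := orderOf_dvd_of_pow_eq_one hh3
    rcases (Nat.dvd_prime Nat.prime_three).mp h1 with h2 | h2
    · exact absurd (orderOf_eq_one_iff.mp h2) hne
    · exact h2
  exact ⟨h, hord, hinv⟩

end Transv

end Cfsg.Agent.Lib.Helper1.GlaubL
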