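import Mathlib
import Cfsg.Agent.Lib.Helper1.GlaubL1
import Cfsg.Agent.Lib.Helper17.Timmesfeld

/-!
helper1: Glauberman's local theorem, part 3: abelian subgroups of maximal order acting on an abelian
normal subgroup: they maximize the Timmesfeld measure, the Thompson/Timmesfeld quadratic replacement,
and the offender inequality.
-/

set_option autoImplicit false
set_option linter.unusedSectionVars false
set_option linter.unusedVariables false

namespace Cfsg.Agent.Lib.Helper1.GlaubL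

open Subgroup Cfsg.Agent.Lib.Helper27 Cfsg.Agent.Lib.Helper17
open scoped commutatorElement

section Quad

variable {G : Type*} [Group G]

theorem le_centralizer_of_abSub {A : Subgroup G} (hA : AbSub A) : A ≤ centralizer (A : Set G) := by
  intro a ha
  rw [mem_centralizer_iff]
  intro b hb
  exact hA b hb a ha

theorem abSub_of_le {A B : Subgroup G} (hA : AbSub A) (h : B ≤ A) : AbSub B :=
  fun a ha b hb => hA a (h ha) b (h hb)

/-- `X · C_V(X)` is abelian -/
theorem abSub_sup_cent {V X : Subgroup G} (hV : AbSub V) (hX : AbSub X) :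
    AbSub (X ⊔ (V ⊓ centralizer (X : Set G))) := by
  apply abSub_sup hX
  · intro a ha b hb; exact hV a ha.1 b hb.1
  · intro a ha c hc
    exact (mem_centralizer_iff.mp hc.2) a ha

/-- elements acting trivially on `V/W` -/
def stabSub (V W : Subgroup G) (hWV : W ≤ V) : Subgroup G where
  carrier := {g | ∀ v ∈ V, g * v * g⁻¹ * v⁻¹ ∈ W ∧ g⁻¹ * v * g * v⁻¹ ∈ W}
  one_mem' := by
    intro v hv
    simp
  inv_mem' := by
    intro g hg v hv
    obtain ⟨h1, h2⟩ := hg v hv
    rw [inv_inv]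
    exact ⟨h2, h1⟩
  mul_mem' := by
    intro g h hg hh v hv
    obtain ⟨g1, g2⟩ := hg v hv
    obtain ⟨h1, h2⟩ := hh v hv
    constructor
    · have e : g * h * v * (g * h)⁻¹ * v⁻¹ =
          (g * (h * v * h⁻¹ * v⁻¹) * g⁻¹ * (h * v * h⁻¹ * v⁻¹)⁻¹) * (h * v * h⁻¹ * v⁻¹) *
            (g * v * g⁻¹ * v⁻¹) := by group
      rw [e]
      exact W.mul_mem (W.mul_mem (hg _ (hWV h1)).1 h1) g1
    · have e : (g * h)⁻¹ * v * (g * h) * v⁻¹ =
          (h⁻¹ * (g⁻¹ * v * g * v⁻¹) * h * (g⁻¹ * v * g * v⁻¹)⁻¹) * (g⁻¹ * v * g * v⁻¹) *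
            (h⁻¹ * v * h * v⁻¹) := by group
      rw [e]
      exact W.mul_mem (W.mul_mem (hh _ (hWV g2)).2 g2) h2

theorem mem_stabSub {V W : Subgroup G} {hWV : W ≤ V} {g : G} :
    g ∈ stabSub V W hWV ↔ ∀ v ∈ V, g * v * g⁻¹ * v⁻¹ ∈ W ∧ g⁻¹ * v * g * v⁻¹ ∈ W := Iff.rfl

variable [Finite G]

/-- abelian subgroups of maximal order maximize the Timmesfeld measure among their subgroups -/
theorem tm_best {P V A : Subgroup G} (hVP : V ≤ P) (hV : AbSub V) (hA : A ∈ maxIn AbSub P) :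
    ∀ X : Subgroup G, X ≤ A → tm V X ≤ tm V A := by
  intro X hXA
  obtain ⟨hAP, hAab, hmax⟩ := hA
  have hXab : AbSub X := abSub_of_le hAab hXA
  have h1 : AbSub (X ⊔ (V ⊓ centralizer (X : Set G))) := abSub_sup_cent hV hXab
  have h2 : X ⊔ (V ⊓ centralizer (X : Set G)) ≤ P := sup_le (hXA.trans hAP) (inf_le_left.trans hVP)
  have h3 : Nat.card ↥(X ⊔ (V ⊓ centralizer (X : Set G))) ≤ Nat.card A := hmax _ h2 h1
  have h4 := card_mul_card_le_card_sup_mul_card_inf X (V ⊓ centralizer (X : Set G))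
  have h5 : Nat.card ↥(X ⊓ (V ⊓ centralizer (X : Set G))) ≤ Nat.card ↥(A ⊓ V) :=
    card_le_of_le (inf_le_inf hXA inf_le_left)
  have h6 : Nat.card ↥(A ⊓ V) ≤ Nat.card ↥(V ⊓ centralizer (A : Set G)) :=
    card_le_of_le (fun a ha => ⟨ha.2, le_centralizer_of_abSub hAab ha.1⟩)
  unfold tm
  calc Nat.card X * Nat.card ↥(V ⊓ centralizer (X : Set G))
      ≤ Nat.card ↥(X ⊔ (V ⊓ centralizer (X : Set G))) *
        Nat.card ↥(X ⊓ (V ⊓ centralizer (X : Set G))) := h4
    _ ≤ Nat.card A * Nat.card ↥(A ⊓ V) := Nat.mul_le_mul h3 h5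
    _ ≤ Nat.card A * Nat.card ↥(V ⊓ centralizer (A : Set G)) := Nat.mul_le_mul_left _ h6

/-- `C_V(A) ≤ A` for an abelian subgroup of maximal order -/
theorem cent_le_of_maxIn {P V A : Subgroup G} (hVP : V ≤ P) (hV : AbSub V) (hA : A ∈ maxIn AbSub P) :
    V ⊓ centralizer (A : Set G) ≤ A := by
  obtain ⟨hAP, hAab, hmax⟩ := hA
  have h1 : AbSub (A ⊔ (V ⊓ centralizer (A : Set G))) := abSub_sup_cent hV hAab
  have h2 : A ⊔ (V ⊓ centralizer (A : Set G)) ≤ P := sup_le hAP (inf_le_left.trans hVP)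
  have h3 := hmax _ h2 h1
  have h4 : A = A ⊔ (V ⊓ centralizer (A : Set G)) := Subgroup.eq_of_le_of_card_ge le_sup_left h3
  exact le_sup_right.trans (le_of_eq h4.symm)

/-- the offender inequality `|C_A(V)| |V| ≤ |A| |A ∩ V|` -/
theorem offender_ineq {P V A : Subgroup G} (hVP : V ≤ P) (hV : AbSub V) (hA : A ∈ maxIn AbSub P) :
    Nat.card ↥(A ⊓ centralizer (V : Set G)) * Nat.card V ≤ Nat.card A * Nat.card ↥(A ⊓ V) := by
  obtain ⟨hAP, hAab, hmax⟩ := hA
  have hXab : AbSub (A ⊓ centralizer (V : Set G)) := abSub_of_le hAab inf_le_left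
  have h1 : AbSub ((A ⊓ centralizer (V : Set G)) ⊔ V) :=
    abSub_sup hXab hV (fun a ha c hc => ((mem_centralizer_iff.mp ha.2) c hc).symm)
  have h2 : (A ⊓ centralizer (V : Set G)) ⊔ V ≤ P := sup_le (inf_le_left.trans hAP) hVP
  have h3 := hmax _ h2 h1
  have h4 := card_mul_card_le_card_sup_mul_card_inf (A ⊓ centralizer (V : Set G)) V
  have h5 : Nat.card ↥((A ⊓ centralizer (V : Set G)) ⊓ V) ≤ Nat.card ↥(A ⊓ V) :=
    card_le_of_le (inf_le_inf_right _ inf_le_left)
  exact h4.trans (Nat.mul_le_mul h3 h5)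

/-- the quadratic replacement -/
theorem quad_replacement {p : ℕ} [Fact p.Prime] {P V A : Subgroup G} (hP : IsPGroup p P)
    [hVn : V.Normal] (hVP : V ≤ P) (hV : AbSub V) (hA : A ∈ maxIn AbSub P) :
    ∃ A₁ : Subgroup G, A₁ ∈ maxIn AbSub P ∧ A₁ ≤ centralizer ((⁅V, A⁆ : Subgroup G) : Set G) ∧
      (∀ g ∈ A₁, ∀ v ∈ V, g * v * g⁻¹ * v⁻¹ ∈ ⁅V, A⁆) ∧
      (A₁ ≤ centralizer (V : Set G) → A ≤ centralizer (V : Set G)) := by
  have hbest := tm_best hVP hV hA
  obtain ⟨hAP, hAab, hmax⟩ := hA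
  have hact : AbAct V A := by
    refine ⟨hV, fun a _ => ?_, ?_⟩
    · rw [normalizer_eq_top]; exact mem_top a
    · have : ⁅A, A⁆ = ⊥ := (commutator_eq_bot_iff_le_centralizer).mpr (le_centralizer_of_abSub hAab)
      rw [this]; exact bot_le
  obtain ⟨ht1, ht2⟩ := timmesfeld_replacement hact hbest V le_rfl
  have hWV : ⁅V, A⁆ ≤ V := commutator_le_left V A
  have hAsab : AbSub (A ⊓ centralizer ((⁅V, A⁆ : Subgroup G) : Set G)) := abSub_of_le hAab inf_le_left
  have hpA : IsPGroup p A := hP.to_le hAP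
  have hpW : IsPGroup p (⁅V, A⁆ : Subgroup G) := hP.to_le (hWV.trans hVP)
  refine ⟨(A ⊓ centralizer ((⁅V, A⁆ : Subgroup G) : Set G)) ⊔
    (V ⊓ centralizer ((A ⊓ centralizer ((⁅V, A⁆ : Subgroup G) : Set G) : Subgroup G) : Set G)),
    ⟨?_, ?_, ?_⟩, ?_, ?_, ?_⟩
  · exact sup_le (inf_le_left.trans hAP) (inf_le_left.trans hVP)
  · exact abSub_sup_cent hV hAsab
  · intro B' hB'P hB'
    have h1 := hmax B' hB'P hB'
    have h4 := card_mul_card_le_card_sup_mul_card_inf
      (A ⊓ centralizer ((⁅V, A⁆ : Subgroup G) : Set G))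
      (V ⊓ centralizer ((A ⊓ centralizer ((⁅V, A⁆ : Subgroup G) : Set G) : Subgroup G) : Set G))
    have h5 : Nat.card ↥((A ⊓ centralizer ((⁅V, A⁆ : Subgroup G) : Set G)) ⊓
        (V ⊓ centralizer ((A ⊓ centralizer ((⁅V, A⁆ : Subgroup G) : Set G) : Subgroup G) : Set G)))
        ≤ Nat.card ↥(A ⊓ V) :=
      card_le_of_le (inf_le_inf inf_le_left inf_le_left)
    have h6 : Nat.card ↥(A ⊓ V) ≤ Nat.card ↥(V ⊓ centralizer (A : Set G)) :=
      card_le_of_le (fun a ha => ⟨ha.2, le_centralizer_of_abSub hAab ha.1⟩)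
    unfold tm at ht1
    have hpos : 0 < Nat.card ↥(A ⊓ V) := Nat.card_pos
    have h8 : Nat.card A * Nat.card ↥(A ⊓ V) ≤
        Nat.card ↥((A ⊓ centralizer ((⁅V, A⁆ : Subgroup G) : Set G)) ⊔
          (V ⊓ centralizer ((A ⊓ centralizer ((⁅V, A⁆ : Subgroup G) : Set G) : Subgroup G) : Set G)))
          * Nat.card ↥(A ⊓ V) := by
      calc Nat.card A * Nat.card ↥(A ⊓ V)
          ≤ Nat.card A * Nat.card ↥(V ⊓ centralizer (A : Set G)) := Nat.mul_le_mul_left _ h6
        _ = _ := ht1.symm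
        _ ≤ _ := h4
        _ ≤ _ := Nat.mul_le_mul_left _ h5
    exact h1.trans (Nat.le_of_mul_le_mul_right h8 hpos)
  · apply sup_le inf_le_right
    intro z hz
    rw [mem_centralizer_iff]
    intro w hw
    exact hV w (hWV hw) z hz.1
  · intro g hg v hv
    have hle : (A ⊓ centralizer ((⁅V, A⁆ : Subgroup G) : Set G)) ⊔
        (V ⊓ centralizer ((A ⊓ centralizer ((⁅V, A⁆ : Subgroup G) : Set G) : Subgroup G) : Set G))
        ≤ stabSub V ⁅V, A⁆ hWV := by
      apply sup_le
      · intro a ha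
        rw [mem_stabSub]
        intro v hv
        have hc : ⁅A, V⁆ = ⁅V, A⁆ := commutator_comm A V
        constructor
        · have : a * v * a⁻¹ * v⁻¹ = ⁅a, v⁆ := by rw [commutatorElement_def]
          rw [this, ← hc]
          exact commutator_mem_commutator ha.1 hv
        · have : a⁻¹ * v * a * v⁻¹ = ⁅a⁻¹, v⁆ := by rw [commutatorElement_def, inv_inv]
          rw [this, ← hc]
          exact commutator_mem_commutator (A.inv_mem ha.1) hv
      · intro z hz
        rw [mem_stabSub]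
        intro v hv
        have e1 : z * v = v * z := hV z hz.1 v hv
        constructor
        · have : z * v * z⁻¹ * v⁻¹ = 1 := by rw [e1]; group
          rw [this]; exact one_mem _
        · have : z⁻¹ * v * z * v⁻¹ = 1 := by
            calc z⁻¹ * v * z * v⁻¹ = z⁻¹ * (v * z) * v⁻¹ := by group
              _ = 1 := by rw [← e1]; group
          rw [this]; exact one_mem _
    exact ((mem_stabSub.mp (hle hg)) v hv).1
  · intro hcen
    have hAs : A ⊓ centralizer ((⁅V, A⁆ : Subgroup G) : Set G) ≤ centralizer (V : Set G) :=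
      le_sup_left.trans hcen
    have hZs : V ⊓ centralizer ((A ⊓ centralizer ((⁅V, A⁆ : Subgroup G) : Set G) : Subgroup G) : Set G)
        = V := by
      apply le_antisymm inf_le_left
      intro v hv
      refine ⟨hv, ?_⟩
      show v ∈ centralizer ((A ⊓ centralizer ((⁅V, A⁆ : Subgroup G) : Set G) : Subgroup G) : Set G)
      rw [mem_centralizer_iff]
      intro a ha
      exact ((mem_centralizer_iff.mp (hAs ha)) v hv).symm
    rw [hZs] at ht2
    -- `V = [V,A] C_V(A)`
    let K : Subgroup G :=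
      { carrier := {v | v ∈ V ∧ ∀ a ∈ A, ⁅v, a⁆ ∈ ⁅(⁅V, A⁆ : Subgroup G), A⁆}
        one_mem' := ⟨V.one_mem, fun a _ => by rw [commutatorElement_one_left]; exact one_mem _⟩
        mul_mem' := by
          rintro x y ⟨hx, hx'⟩ ⟨hy, hy'⟩
          refine ⟨V.mul_mem hx hy, fun a ha => ?_⟩
          rw [hact.comm_mul ha hx hy]
          exact mul_mem (hx' a ha) (hy' a ha)
        inv_mem' := by
          rintro x ⟨hx, hx'⟩
          refine ⟨V.inv_mem hx, fun a ha => ?_⟩
          have h1 := hact.comm_mul ha hx (V.inv_mem hx)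
          rw [mul_inv_cancel, commutatorElement_one_left] at h1
          have h2 : ⁅x⁻¹, a⁆ = (⁅x, a⁆)⁻¹ := eq_inv_of_mul_eq_one_right h1.symm
          rw [h2]
          exact inv_mem (hx' a ha) }
    have hK : V ≤ K := by
      rw [ht2]
      apply sup_le
      · intro w hw
        exact ⟨hWV hw, fun a ha => commutator_mem_commutator hw ha⟩
      · intro c hc
        refine ⟨hc.1, fun a ha => ?_⟩
        have e : a * c = c * a := (mem_centralizer_iff.mp hc.2) a ha
        have : ⁅c, a⁆ = 1 := by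
          rw [commutatorElement_def]
          calc c * a * c⁻¹ * a⁻¹ = (c * a) * c⁻¹ * a⁻¹ := by group
            _ = 1 := by rw [← e]; group
        rw [this]; exact one_mem _
    have hle : (⁅V, A⁆ : Subgroup G) ≤ ⁅(⁅V, A⁆ : Subgroup G), A⁆ := by
      rw [commutator_le]
      intro v hv a ha
      exact (hK hv).2 a ha
    have hnorm : A ≤ normalizer ((⁅V, A⁆ : Subgroup G) : Set G) := by
      intro a ha
      apply mem_normalizer_of_cj_eq
      unfold cj
      rw [map_commutator]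
      have e1 : V.map (MulAut.conj a).toMonoidHom = V := cj_of_normal (g := a) (H := V)
      have e2 : A.map (MulAut.conj a).toMonoidHom = A :=
        cj_eq_of_mem_normalizer (le_normalizer ha)
      rw [e1, e2]
    have hbot := eq_bot_of_le_commutator (p := p) ⁅V, A⁆ A hpW hpA hnorm hle
    have h3 : V ≤ centralizer (A : Set G) := commutator_eq_bot_iff_le_centralizer.mp hbot
    exact le_centralizer_iff.mp h3

end Quad

end Cfsg.Agent.Lib.Helper1.GlaubL
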