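import Mathlib
import Cfsg.Agent.Lib.Helper1.GlaubL3
import Cfsg.Agent.Lib.Helper16.PCore

/-!
helper1: Glauberman's local theorem, part 4: if `J(P)` is not normal then some element of `P` outside
`O_p(G)` acts quadratically on `Z(O_p(G))` (Thompson replacement).
-/

set_option autoImplicit false
set_option linter.unusedSectionVars false
set_option linter.unusedVariables false

namespace Cfsg.Agent.Lib.Helper1.GlaubL

open Subgroup Cfsg.Agent.Lib.Helper27 Cfsg.Agent.Lib.Helper17
open scoped commutatorElement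

section QuadJ

variable {G : Type*} [Group G]

theorem map_center_subtype (T : Subgroup G) :
    (center ↥T).map T.subtype = T ⊓ centralizer (T : Set G) := by
  ext x
  constructor
  · rintro ⟨c, hc, rfl⟩
    refine ⟨c.2, ?_⟩
    show (c : G) ∈ centralizer (T : Set G)
    rw [mem_centralizer_iff]
    intro t ht
    have := (mem_center_iff.mp hc) ⟨t, ht⟩
    exact congrArg Subtype.val this
  · rintro ⟨hxT, hxc⟩
    refine ⟨⟨x, hxT⟩, ?_, rfl⟩
    show (⟨x, hxT⟩ : ↥T) ∈ center ↥T
    rw [mem_center_iff]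
    intro t
    apply Subtype.ext
    exact (mem_centralizer_iff.mp hxc) t t.2

theorem abSub_inf_centralizer (T : Subgroup G) : AbSub (T ⊓ centralizer (T : Set G)) := by
  intro a ha b hb
  exact ((mem_centralizer_iff.mp hb.2) a ha.1)

/-- `J` of a normal subgroup is normal -/
theorem jSub_normal_of_normal (T : Subgroup G) [hT : T.Normal] : (jSub AbSub T).Normal := by
  constructor
  intro n hn g
  have h1 := jSub_map (goodClass_abSub (G := G)) (MulAut.conj g) T
  have h2 : T.map (MulAut.conj g).toMonoidHom = T := cj_of_normal (g := g) (H := T)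
  rw [h2] at h1
  rw [h1]
  exact ⟨n, hn, by simp [MulAut.conj_apply]⟩

variable [Finite G] {p : ℕ} [Fact p.Prime]

theorem exists_quadratic_elt (P : Sylow p G) (hJ : ¬ (jSub AbSub (P : Subgroup G)).Normal) :
    ∃ g : G, g ∈ (P : Subgroup G) ∧ g ∉ Cfsg.pCore p G ∧
      ⁅⁅(center ↥(Cfsg.pCore p G)).map (Cfsg.pCore p G).subtype, zpowers g⁆, zpowers g⁆ = ⊥ := by
  rw [map_center_subtype]
  haveI hTn : (Cfsg.pCore p G).Normal := Cfsg.pCore_normal p G
  have hTP : Cfsg.pCore p G ≤ P := Cfsg.Agent.Lib.Helper16.pCore_le_sylow P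
  have hBn : (Cfsg.pCore p G ⊓ centralizer (Cfsg.pCore p G : Set G)).Normal := inferInstance
  have hBab := abSub_inf_centralizer (Cfsg.pCore p G)
  have hBP : Cfsg.pCore p G ⊓ centralizer (Cfsg.pCore p G : Set G) ≤ P := inf_le_left.trans hTP
  have hTC : Cfsg.pCore p G ≤
      centralizer ((Cfsg.pCore p G ⊓ centralizer (Cfsg.pCore p G : Set G) : Subgroup G) : Set G) := by
    intro t ht
    rw [mem_centralizer_iff]
    intro b hb
    exact ((mem_centralizer_iff.mp hb.2) t ht).symm
  -- some member of `𝒜(P)` is not in `O_p(G)`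
  have hex : ∃ A ∈ maxIn AbSub (P : Subgroup G), ¬ A ≤ Cfsg.pCore p G := by
    by_contra hcon
    push_neg at hcon
    have h1 := maxIn_eq_of_forall_le (goodClass_abSub (G := G)) hcon hTP
    apply hJ
    have h2 : jSub AbSub (P : Subgroup G) = jSub AbSub (Cfsg.pCore p G) := by
      unfold jSub; rw [h1]
    rw [h2]
    exact jSub_normal_of_normal _
  obtain ⟨A, hA, hAT⟩ := hex
  obtain ⟨A₁, hA₁, hA₁c, hA₁s, himp⟩ := quad_replacement P.2 hBP hBab hA
  by_cases hAC : A ≤
      centralizer ((Cfsg.pCore p G ⊓ centralizer (Cfsg.pCore p G : Set G) : Subgroup G) : Set G)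
  · obtain ⟨g, hgA, hgT⟩ := Set.not_subset.mp hAT
    refine ⟨g, hA.1 hgA, hgT, ?_⟩
    have h1 : ⁅Cfsg.pCore p G ⊓ centralizer (Cfsg.pCore p G : Set G), zpowers g⁆ = ⊥ := by
      rw [commutator_eq_bot_iff_le_centralizer]
      apply le_centralizer_iff.mp
      exact (zpowers_le.mpr hgA).trans hAC
    rw [h1, commutator_bot_left]
  · have hA₁C : ¬ A₁ ≤ centralizer
        ((Cfsg.pCore p G ⊓ centralizer (Cfsg.pCore p G : Set G) : Subgroup G) : Set G) :=
      fun h => hAC (himp h)
    have hA₁T : ¬ A₁ ≤ Cfsg.pCore p G := fun h => hA₁C (h.trans hTC)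
    obtain ⟨g, hgA, hgT⟩ := Set.not_subset.mp hA₁T
    refine ⟨g, hA₁.1 hgA, hgT, ?_⟩
    have hz : zpowers g ≤ A₁ := zpowers_le.mpr hgA
    have h1 : ⁅Cfsg.pCore p G ⊓ centralizer (Cfsg.pCore p G : Set G), zpowers g⁆ ≤
        ⁅Cfsg.pCore p G ⊓ centralizer (Cfsg.pCore p G : Set G), A⁆ := by
      rw [commutator_le]
      intro b hb y hy
      have h2 := hA₁s y (hz hy) b hb
      have e : ⁅b, y⁆ = (y * b * y⁻¹ * b⁻¹)⁻¹ := by rw [commutatorElement_def]; group
      rw [e]
      exact inv_mem h2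
    have h3 : ⁅⁅Cfsg.pCore p G ⊓ centralizer (Cfsg.pCore p G : Set G), A⁆, zpowers g⁆ = ⊥ := by
      rw [commutator_eq_bot_iff_le_centralizer]
      apply le_centralizer_iff.mp
      exact hz.trans hA₁c
    rw [eq_bot_iff, ← h3]
    exact commutator_mono h1 le_rfl

end QuadJ

end Cfsg.Agent.Lib.Helper1.GlaubL
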