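import Mathlib
import Cfsg.Agent.Lib.Helper1.GlaubL4
import Cfsg.Agent.Lib.Helper27.ZJ2

/-!
helper1: Glauberman's local theorem, part 2: the minimal counterexample context; the map `ξ` on Sylow
subgroups, the normal closure `V` of `x`, the family `𝔉` and the consequence of the pairs argument.
-/

set_option autoImplicit false
set_option linter.unusedSectionVars false
set_option linter.unusedVariables false

namespace Cfsg.Agent.Lib.Helper1.GlaubL

open Subgroup Cfsg.Agent.Lib.Helper27 Cfsg.Agent.Lib.Helper17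
open scoped commutatorElement

section Basics

variable {G : Type*} [Group G]

theorem cj_jSub (g : G) (P : Subgroup G) : cj g (jSub AbSub P) = jSub AbSub (cj g P) := by
  unfold cj
  exact (jSub_map (goodClass_abSub (G := G)) (MulAut.conj g) P).symm

theorem normalizer_le_normalizer_jSub (P : Subgroup G) :
    normalizer (P : Set G) ≤ normalizer (jSub AbSub P : Set G) := by
  intro g hg
  apply mem_normalizer_of_cj_eq
  rw [cj_jSub, cj_eq_of_mem_normalizer hg]

theorem abSub_cj {A : Subgroup G} (hA : AbSub A) (g : G) : AbSub (cj g A) :=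
  (goodClass_abSub (G := G)).aut (MulAut.conj g) A hA

theorem conj_comm_iff {g a y : G} : (g * a * g⁻¹) * (g * y * g⁻¹) = (g * y * g⁻¹) * (g * a * g⁻¹) ↔
    a * y = y * a := by
  constructor
  · intro h
    have h1 : g * (a * y) * g⁻¹ = g * (y * a) * g⁻¹ := by
      calc g * (a * y) * g⁻¹ = (g * a * g⁻¹) * (g * y * g⁻¹) := by group
        _ = (g * y * g⁻¹) * (g * a * g⁻¹) := h
        _ = g * (y * a) * g⁻¹ := by group
    exact mul_left_cancel (mul_right_cancel h1)
  · intro h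
    calc (g * a * g⁻¹) * (g * y * g⁻¹) = g * (a * y) * g⁻¹ := by group
      _ = g * (y * a) * g⁻¹ := by rw [h]
      _ = (g * y * g⁻¹) * (g * a * g⁻¹) := by group

end Basics

/-- the context of a minimal counterexample -/
structure LCtx (p : ℕ) [Fact p.Prime] (G : Type*) [Group G] [Finite G] where
  S : Sylow p G
  x : G
  hxT : x ∈ Cfsg.pCore p G
  hxN : ∀ g ∈ normalizer (jSub AbSub (S : Subgroup G) : Set G), g * x = x * g
  hsub : ∀ K : Subgroup G, K ≠ ⊤ → ∀ R : Subgroup G, IsSylIn p R K → ∀ y ∈ Cfsg.pCore p G,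
    Cfsg.pCore p G ≤ K → (∀ n ∈ K, n ∈ normalizer (jSub AbSub R : Set G) → n * y = y * n) →
    ∀ k ∈ K, k * y = y * k
  hnc : ¬ ∀ g : G, g * x = x * g

namespace LCtx

variable {p : ℕ} [Fact p.Prime] {G : Type*} [Group G] [Finite G] (c : LCtx p G)

theorem T_normal : (Cfsg.pCore p G).Normal := Cfsg.pCore_normal p G

theorem T_le (P : Sylow p G) : Cfsg.pCore p G ≤ P := Cfsg.Agent.Lib.Helper16.pCore_le_sylow P

theorem T_isPGroup : IsPGroup p (Cfsg.pCore p G) := Cfsg.Agent.Lib.Helper16.pCore_isPGroup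

/-- `x` commutes with `N_G(S)` -/
theorem comm_of_mem_normalizer {g : G} (hg : g ∈ normalizer ((c.S : Subgroup G) : Set G)) :
    g * c.x = c.x * g :=
  c.hxN g (normalizer_le_normalizer_jSub _ hg)

theorem comm_of_mem_S {s : G} (hs : s ∈ (c.S : Subgroup G)) : s * c.x = c.x * s :=
  c.comm_of_mem_normalizer (le_normalizer hs)

/-- the conjugate of `x` attached to a Sylow subgroup -/
noncomputable def xi (P : Sylow p G) : G :=
  (Classical.choose (MulAction.exists_smul_eq G c.S P)) * c.x *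
    (Classical.choose (MulAction.exists_smul_eq G c.S P))⁻¹

theorem xi_smul_S (g : G) : c.xi (g • c.S) = g * c.x * g⁻¹ := by
  unfold xi
  have h := Classical.choose_spec (MulAction.exists_smul_eq G c.S (g • c.S))
  set g₀ := Classical.choose (MulAction.exists_smul_eq G c.S (g • c.S)) with hg₀
  have h1 : (g⁻¹ * g₀) • c.S = c.S := by
    rw [mul_smul, h, inv_smul_smul]
  have h2 := c.comm_of_mem_normalizer (Sylow.smul_eq_iff_mem_normalizer.mp h1)
  calc g₀ * c.x * g₀⁻¹ = g * ((g⁻¹ * g₀) * c.x) * g₀⁻¹ := by group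
    _ = g * (c.x * (g⁻¹ * g₀)) * g₀⁻¹ := by rw [h2]
    _ = g * c.x * g⁻¹ := by group

theorem xi_S : c.xi c.S = c.x := by
  have := c.xi_smul_S 1
  rw [one_smul] at this
  rw [this]; group

theorem xi_smul (g : G) (P : Sylow p G) : c.xi (g • P) = g * c.xi P * g⁻¹ := by
  obtain ⟨g₁, rfl⟩ := MulAction.exists_smul_eq G c.S P
  rw [← mul_smul, xi_smul_S, xi_smul_S]
  group

theorem xi_mem_T (P : Sylow p G) : c.xi P ∈ Cfsg.pCore p G := by
  obtain ⟨g₁, rfl⟩ := MulAction.exists_smul_eq G c.S P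
  rw [xi_smul_S]
  exact (T_normal (p := p) (G := G)).conj_mem _ c.hxT _

/-- `ξ P` commutes with `N_G(J(P))` -/
theorem xi_comm (P : Sylow p G) {n : G}
    (hn : n ∈ normalizer (jSub AbSub (P : Subgroup G) : Set G)) : n * c.xi P = c.xi P * n := by
  obtain ⟨g, rfl⟩ := MulAction.exists_smul_eq G c.S P
  rw [xi_smul_S]
  have h1 : g⁻¹ * n * g ∈ normalizer (jSub AbSub (c.S : Subgroup G) : Set G) := by
    have e : ((g • c.S : Sylow p G) : Subgroup G) = cj g (c.S : Subgroup G) := coe_smul_sylow g c.S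
    rw [e, ← cj_jSub] at hn
    apply mem_normalizer_of_cj_eq
    have h2 := cj_eq_of_mem_normalizer hn
    rw [← cj_mul] at h2
    have h3 : cj (g⁻¹ * n * g) (jSub AbSub (c.S : Subgroup G)) =
        cj g⁻¹ (cj (n * g) (jSub AbSub (c.S : Subgroup G))) := by
      rw [← cj_mul]; congr 1; group
    rw [h3, h2, cj_inv_cj]
  have h4 := c.hxN _ h1
  calc n * (g * c.x * g⁻¹) = g * ((g⁻¹ * n * g) * c.x) * g⁻¹ := by group
    _ = g * (c.x * (g⁻¹ * n * g)) * g⁻¹ := by rw [h4]
    _ = g * c.x * g⁻¹ * n := by group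

theorem xi_comm_of_mem (P : Sylow p G) {s : G} (hs : s ∈ (P : Subgroup G)) :
    s * c.xi P = c.xi P * s :=
  c.xi_comm P (normalizer_le_normalizer_jSub _ (le_normalizer hs))

/-- a Sylow subgroup of `G` contained in `K` is a Sylow subgroup of `K` -/
theorem isSylIn_of_le (P : Sylow p G) {K : Subgroup G} (h : (P : Subgroup G) ≤ K) :
    IsSylIn p (P : Subgroup G) K :=
  ⟨h, P.2, fun Q _ hQ hPQ => (P.is_maximal' hQ hPQ)⟩

/-- proper overgroups of `P` centralize `ξ P` -/
theorem ha (P : Sylow p G) (K : Subgroup G) (hPK : (P : Subgroup G) ≤ K) (hK : K ≠ ⊤) :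
    ∀ k ∈ K, k * c.xi P = c.xi P * k :=
  c.hsub K hK P (isSylIn_of_le P hPK) (c.xi P) (c.xi_mem_T P) ((T_le P).trans hPK)
    (fun n _ hn => c.xi_comm P hn)

/-! ### the normal closure of `x` -/

/-- the normal closure of `x` -/
def V : Subgroup G := normalClosure {c.x}

instance V_normal : c.V.Normal := normalClosure_normal

theorem x_mem_V : c.x ∈ c.V := subset_normalClosure (Set.mem_singleton _)

theorem conj_mem_V (g : G) : g * c.x * g⁻¹ ∈ c.V := c.V_normal.conj_mem _ c.x_mem_V g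

theorem xi_mem_V (P : Sylow p G) : c.xi P ∈ c.V := by
  obtain ⟨g₁, rfl⟩ := MulAction.exists_smul_eq G c.S P
  rw [xi_smul_S]
  exact c.conj_mem_V _

theorem V_le_ZT : c.V ≤ Cfsg.pCore p G ⊓ centralizer (Cfsg.pCore p G : Set G) := by
  haveI := T_normal (p := p) (G := G)
  apply normalClosure_le_normal
  intro y hy
  rw [Set.mem_singleton_iff] at hy
  subst hy
  refine ⟨c.hxT, ?_⟩
  show c.x ∈ centralizer (Cfsg.pCore p G : Set G)
  rw [mem_centralizer_iff]
  intro t ht
  exact c.comm_of_mem_S (T_le c.S ht)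

theorem V_abSub : AbSub c.V := abSub_of_le (abSub_inf_centralizer _) c.V_le_ZT

theorem V_le_T : c.V ≤ Cfsg.pCore p G := c.V_le_ZT.trans inf_le_left

theorem V_le (P : Sylow p G) : c.V ≤ P := c.V_le_T.trans (T_le P)

theorem V_isPGroup : IsPGroup p c.V := (T_isPGroup (p := p) (G := G)).to_le c.V_le_T

/-- the centralizer of `V` -/
def C : Subgroup G := centralizer (c.V : Set G)

instance C_normal : c.C.Normal := by unfold C; infer_instance

theorem T_le_C : Cfsg.pCore p G ≤ c.C := by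
  intro t ht
  show t ∈ centralizer (c.V : Set G)
  rw [mem_centralizer_iff]
  intro v hv
  exact ((mem_centralizer_iff.mp (c.V_le_ZT hv).2) t ht).symm

theorem comm_x_of_mem_C {g : G} (hg : g ∈ c.C) : g * c.x = c.x * g :=
  ((mem_centralizer_iff.mp hg) c.x c.x_mem_V).symm

/-! ### the family -/

/-- the maximal order of an abelian `p`-subgroup -/
noncomputable def d : ℕ :=
  Nat.card ((maxIn_nonempty (goodClass_abSub (G := G)) (c.S : Subgroup G)).some)

theorem card_eq_d {A : Subgroup G} (hA : A ∈ maxIn AbSub (c.S : Subgroup G)) : Nat.card A = c.d := by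
  have h0 := (maxIn_nonempty (goodClass_abSub (G := G)) (c.S : Subgroup G)).some_mem
  unfold d
  exact le_antisymm (h0.2.2 A hA.1 hA.2.1) (hA.2.2 _ h0.1 h0.2.1)

theorem card_le_d {B : Subgroup G} (hB : IsPGroup p B) (hab : AbSub B) : Nat.card B ≤ c.d := by
  have h0 := (maxIn_nonempty (goodClass_abSub (G := G)) (c.S : Subgroup G)).some_mem
  obtain ⟨Q, hQ⟩ := hB.exists_le_sylow
  obtain ⟨g, rfl⟩ := MulAction.exists_smul_eq G c.S Q
  have e : ((g • c.S : Sylow p G) : Subgroup G) = cj g (c.S : Subgroup G) := coe_smul_sylow g c.S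
  rw [e] at hQ
  have h1 : cj g⁻¹ B ≤ (c.S : Subgroup G) := by
    rw [cj_le_iff, inv_inv]; exact hQ
  have h2 := h0.2.2 _ h1 (abSub_cj hab g⁻¹)
  rw [card_cj] at h2
  exact h2

theorem mem_maxIn_of_card {R A : Subgroup G} (hR : IsPGroup p R) (hAR : A ≤ R) (hA : AbSub A)
    (hcard : Nat.card A = c.d) : A ∈ maxIn AbSub R :=
  ⟨hAR, hA, fun B' hB'R hB' => by rw [hcard]; exact c.card_le_d (hR.to_le hB'R) hB'⟩

/-- the family of abelian `p`-subgroups of maximal order that do not centralize `V` -/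
def Fam (A : Subgroup G) : Prop := AbSub A ∧ IsPGroup p A ∧ Nat.card A = c.d ∧ ¬ A ≤ c.C

theorem Fam_cj (g : G) (A : Subgroup G) (hA : c.Fam A) : c.Fam (cj g A) := by
  obtain ⟨h1, h2, h3, h4⟩ := hA
  refine ⟨abSub_cj h1 g, isPGroup_cj h2 g, by rw [card_cj]; exact h3, ?_⟩
  intro h
  apply h4
  rw [cj_le_iff] at h
  rwa [cj_of_normal] at h

theorem Fam_of_maxIn {A : Subgroup G} (hA : A ∈ maxIn AbSub (c.S : Subgroup G)) (hAC : ¬ A ≤ c.C) :
    c.Fam A :=
  ⟨hA.2.1, c.S.2.to_le hA.1, c.card_eq_d hA, hAC⟩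

theorem hd (R : Subgroup G) (hR : IsPGroup p R) (hex : ∃ A, A ≤ R ∧ c.Fam A) :
    wF c.Fam R ≤ jSub AbSub R ∧ jSub AbSub R ≤ R := by
  refine ⟨?_, jSub_le R⟩
  apply sSup_le
  rintro A ⟨hAR, hA⟩
  exact le_jSub (c.mem_maxIn_of_card hR hAR hA.1 hA.2.2.1)

theorem hb (D : Subgroup G) (hD : IsPGroup p D) (hex : ∃ A, A ≤ D ∧ c.Fam A) :
    normalizer (wF c.Fam D : Set G) ≠ ⊤ := by
  intro h
  obtain ⟨A, hAD, hA⟩ := hex
  have hn : (wF c.Fam D).Normal := normalizer_eq_top_iff.mp h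
  have h1 : wF c.Fam D ≤ Cfsg.pCore p G :=
    Cfsg.Agent.Lib.Helper16.le_pCore hn (hD.to_le (wF_le D))
  exact hA.2.2.2 ((le_wF hAD hA).trans (h1.trans c.T_le_C))

theorem hc (K : Subgroup G) (hK : K ≠ ⊤) (hTK : Cfsg.pCore p G ≤ K) (R : Subgroup G)
    (hR : IsSylIn p R K) (P : Sylow p G) (hRP : R ≤ P) (hex : ∃ A, A ≤ R ∧ c.Fam A)
    (hn : ∀ n ∈ K, n ∈ normalizer (jSub AbSub R : Set G) → n * c.xi P = c.xi P * n) :
    ∀ k ∈ K, k * c.xi P = c.xi P * k :=
  c.hsub K hK R hR (c.xi P) (c.xi_mem_T P) hTK hn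

/-- Sylow subgroups sharing a member of the family have the same `ξ` -/
theorem xi_eq_of_common (P Q : Sylow p G) (h : ∃ A, A ≤ (P : Subgroup G) ⊓ Q ∧ c.Fam A) :
    c.xi P = c.xi Q :=
  pairs c.xi c.xi_smul c.Fam c.Fam_cj (jSub AbSub) (Cfsg.pCore p G) (fun P => T_le P)
    c.ha c.hb c.hc c.hd P Q h

/-- a conjugate of `x` centralized by a member of the family inside `S` is `x` -/
theorem eq_x_of_comm {A : Subgroup G} (hA : c.Fam A) (hAS : A ≤ c.S) (g : G)
    (hcomm : ∀ a ∈ A, a * (g * c.x * g⁻¹) = (g * c.x * g⁻¹) * a) : g * c.x * g⁻¹ = c.x := by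
  have hω : c.xi (g • c.S) = g * c.x * g⁻¹ := c.xi_smul_S g
  set Q : Sylow p G := g • c.S with hQ
  set ω := g * c.x * g⁻¹ with hωdef
  set K : Subgroup G := centralizer ({ω} : Set G) with hK
  have hmemK : ∀ k : G, k ∈ K ↔ k * ω = ω * k := by
    intro k
    rw [hK, mem_centralizer_iff]
    constructor
    · intro h; exact (h ω (Set.mem_singleton _)).symm
    · intro h y hy
      rw [Set.mem_singleton_iff] at hy
      rw [hy]; exact h.symm
  have hQK : (Q : Subgroup G) ≤ K := by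
    intro s hs
    rw [hmemK, ← hω]
    exact c.xi_comm_of_mem Q hs
  have hAK : A ≤ K := fun a ha => (hmemK a).mpr (hcomm a ha)
  obtain ⟨R', hR'⟩ := exists_isSylIn_ge hA.2.1 hAK
  obtain ⟨k, hkK, hk⟩ := exists_conj_sylowIn K (Q.subtype hQK) R'
  have e1 : ((Q.subtype hQK : Sylow p ↥K) : Subgroup ↥K).map K.subtype = (Q : Subgroup G) := by
    rw [Sylow.coe_subtype, subgroupOf_map_subtype]
    exact inf_eq_left.mpr hQK
  rw [e1] at hk
  have e2 : ((k • Q : Sylow p G) : Subgroup G) = cj k (Q : Subgroup G) := coe_smul_sylow k Q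
  have h1 : A ≤ ((k • Q : Sylow p G) : Subgroup G) ⊓ c.S := by
    refine le_inf ?_ hAS
    rw [e2, ← hk]; exact hR'
  have h2 := c.xi_eq_of_common (k • Q) c.S ⟨A, h1, hA⟩
  rw [c.xi_smul, hω, c.xi_S] at h2
  rw [← h2]
  have h3 : k * ω = ω * k := (hmemK k).mp hkK
  calc ω = ω * k * k⁻¹ := by group
    _ = k * ω * k⁻¹ := by rw [h3]

/-- some abelian subgroup of maximal order of `S` does not centralize `V` -/
theorem exists_mem_not_le_C : ∃ A ∈ maxIn AbSub (c.S : Subgroup G), ¬ A ≤ c.C := by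
  by_contra hcon
  push_neg at hcon
  have hle : ∀ A ∈ maxIn AbSub (c.S : Subgroup G), A ≤ (c.S : Subgroup G) ⊓ c.C :=
    fun A hA => le_inf hA.1 (hcon A hA)
  have h1 := maxIn_eq_of_forall_le (goodClass_abSub (G := G)) hle inf_le_left
  have h2 : jSub AbSub ((c.S : Subgroup G) ⊓ c.C) = jSub AbSub (c.S : Subgroup G) := by
    unfold jSub; rw [h1]
  have h3 := frattini_inf c.S c.C
  apply c.hnc
  intro g
  have hg : g ∈ normalizer (((c.S : Subgroup G) ⊓ c.C : Subgroup G) : Set G) ⊔ c.C := by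
    rw [h3]; exact mem_top g
  have hle2 : normalizer (((c.S : Subgroup G) ⊓ c.C : Subgroup G) : Set G) ⊔ c.C ≤
      centralizer ({c.x} : Set G) := by
    apply sup_le
    · intro n hn
      have h4 := normalizer_le_normalizer_jSub _ hn
      rw [h2] at h4
      rw [mem_centralizer_iff]
      intro y hy
      rw [Set.mem_singleton_iff] at hy
      rw [hy]; exact (c.hxN n h4).symm
    · intro n hn
      rw [mem_centralizer_iff]
      intro y hy
      rw [Set.mem_singleton_iff] at hy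
      rw [hy]; exact (c.comm_x_of_mem_C hn).symm
  have := (mem_centralizer_iff.mp (hle2 hg)) c.x (Set.mem_singleton _)
  exact this.symm

/-- a quadratically acting member of the family inside `S` -/
theorem exists_quadratic : ∃ A : Subgroup G, c.Fam A ∧ A ∈ maxIn AbSub (c.S : Subgroup G) ∧
    ∀ a ∈ A, ∀ b ∈ A, ∀ v ∈ c.V, b * (a * v * a⁻¹ * v⁻¹) = (a * v * a⁻¹ * v⁻¹) * b := by
  obtain ⟨A, hA, hAC⟩ := c.exists_mem_not_le_C
  obtain ⟨A₁, hA₁, hA₁c, hA₁s, himp⟩ := quad_replacement c.S.2 (c.V_le c.S) c.V_abSub hA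
  refine ⟨A₁, c.Fam_of_maxIn hA₁ (fun h => hAC (himp h)), hA₁, ?_⟩
  intro a ha b hb v hv
  have h1 := hA₁s a ha v hv
  have h2 := hA₁c hb
  exact ((mem_centralizer_iff.mp h2) _ h1).symm

end LCtx

end Cfsg.Agent.Lib.Helper1.GlaubL
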