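import Mathlib

/-!
helper1: Glauberman's local theorem, part 5: products over invariant sets in a finite abelian group
on which a group acts quadratically.
-/

set_option autoImplicit false
set_option linter.unusedSectionVars false
set_option linter.unusedVariables false

namespace Cfsg.Agent.Lib.Helper1.GlaubL

open Subgroup

section Prod

variable {M : Type*} [CommGroup M]

/-- the product of all elements of a finite abelian group squares to one -/
theorem prod_univ_sq (D : Type*) [CommGroup D] [Fintype D] : (∏ d : D, d) ^ 2 = 1 := by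
  have h1 : ∏ d : D, d⁻¹ = ∏ d : D, d := Equiv.prod_comp (Equiv.inv D) (fun d => d)
  rw [Finset.prod_inv_distrib] at h1
  rw [pow_two]
  nth_rewrite 1 [← h1]
  exact inv_mul_cancel _

/-- the product of all elements of a finite abelian group of odd order is one -/
theorem prod_univ_eq_one_of_odd (D : Type*) [CommGroup D] [Fintype D] (h : Odd (Fintype.card D)) :
    ∏ d : D, d = 1 := by
  have h1 := prod_univ_sq D
  have h2 : (∏ d : D, d) ^ Fintype.card D = 1 := pow_card_eq_one
  have h3 : orderOf (∏ d : D, d) ∣ 2 := orderOf_dvd_of_pow_eq_one h1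
  have h4 : orderOf (∏ d : D, d) ∣ Fintype.card D := orderOf_dvd_of_pow_eq_one h2
  have h5 : orderOf (∏ d : D, d) ∣ Nat.gcd 2 (Fintype.card D) := Nat.dvd_gcd h3 h4
  have h6 : Nat.gcd 2 (Fintype.card D) = 1 := Nat.coprime_two_left.mpr h
  rw [h6, Nat.dvd_one] at h5
  exact orderOf_eq_one_iff.mp h5

/-- the product of all elements of a finite abelian group of order divisible by 4 is a square -/
theorem prod_univ_is_sq (D : Type*) [CommGroup D] [Fintype D] (h4 : 4 ∣ Fintype.card D) :
    ∃ y : D, ∏ d : D, d = y ^ 2 := by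
  classical
  haveI : Fact (Nat.Prime 2) := ⟨Nat.prime_two⟩
  obtain ⟨e, he⟩ := exists_prime_orderOf_dvd_card 2 (dvd_trans (by norm_num) h4)
  have he2 : e * e = 1 := by rw [← pow_two, ← he]; exact pow_orderOf_eq_one e
  have hene : e ≠ 1 := by
    intro h; rw [h, orderOf_one] at he; omega
  have hmemE : ∀ z : D, z ∈ zpowers e → z = 1 ∨ z = e := by
    intro z hz
    obtain ⟨k, rfl⟩ := mem_zpowers_iff.mp hz
    have h1 := zpow_mod_orderOf e k
    rw [he] at h1
    rcases Int.emod_two_eq_zero_or_one k with h | h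
    · left; rw [← h1]; simp [h]
    · right; rw [← h1]; simp [h]
  have h1 := Finset.prod_fiberwise (Finset.univ : Finset D)
    (fun d => (QuotientGroup.mk d : D ⧸ zpowers e)) (fun d => d)
  have h2 : ∀ q : D ⧸ zpowers e,
      ∏ d ∈ Finset.univ.filter (fun d => (QuotientGroup.mk d : D ⧸ zpowers e) = q), d =
        q.out ^ 2 * e := by
    intro q
    have hset : Finset.univ.filter (fun d => (QuotientGroup.mk d : D ⧸ zpowers e) = q) =
        {q.out, q.out * e} := by
      ext d
      simp only [Finset.mem_filter, Finset.mem_univ, true_and, Finset.mem_insert,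
        Finset.mem_singleton]
      constructor
      · intro h
        have h' : (QuotientGroup.mk q.out : D ⧸ zpowers e) = QuotientGroup.mk d := by
          rw [h, QuotientGroup.out_eq']
        rw [QuotientGroup.eq] at h'
        rcases hmemE _ h' with h'' | h''
        · left
          have : d = q.out * (q.out⁻¹ * d) := by group
          rw [this, h'', mul_one]
        · right
          have : d = q.out * (q.out⁻¹ * d) := by group
          rw [this, h'']
      · rintro (rfl | rfl)
        · exact QuotientGroup.out_eq' q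
        · have : (QuotientGroup.mk (q.out * e) : D ⧸ zpowers e) = QuotientGroup.mk q.out := by
            rw [eq_comm, QuotientGroup.eq]
            have : q.out⁻¹ * (q.out * e) = e := by group
            rw [this]; exact mem_zpowers e
          rw [this, QuotientGroup.out_eq']
    rw [hset, Finset.prod_pair]
    · rw [pow_two, mul_assoc]
    · intro h
      apply hene
      have : q.out * 1 = q.out * e := by rw [mul_one]; exact h
      exact (mul_left_cancel this).symm
  rw [← h1]
  rw [Finset.prod_congr rfl (fun q _ => h2 q), Finset.prod_mul_distrib, Finset.prod_pow,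
    Finset.prod_const, Finset.card_univ]
  have hcard : 2 ∣ Fintype.card (D ⧸ zpowers e) := by
    have h3 := Subgroup.card_eq_card_quotient_mul_card_subgroup (zpowers e)
    rw [Nat.card_zpowers, he, Nat.card_eq_fintype_card, Nat.card_eq_fintype_card] at h3
    rw [h3] at h4
    omega
  obtain ⟨k, hk⟩ := hcard
  refine ⟨∏ q : D ⧸ zpowers e, q.out, ?_⟩
  rw [hk, pow_mul, pow_two e, he2, one_pow, mul_one]

end Prod

section Frat

variable {M : Type*} [CommGroup M] [Finite M] {p : ℕ} [Fact p.Prime]

/-- a subgroup that together with the `p`-th powers generates a finite abelian `p`-group is the whole group -/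
theorem eq_top_of_sup_pow_eq_top (hM : IsPGroup p M) (H : Subgroup M)
    (h : H ⊔ (powMonoidHom p : M →* M).range = ⊤) : H = ⊤ := by
  have key : ∀ k : ℕ, ∀ m : M, ∃ h ∈ H, ∃ w : M, m = h * w ^ (p ^ k) := by
    intro k
    induction k with
    | zero => intro m; exact ⟨1, H.one_mem, m, by simp⟩
    | succ k ih =>
      intro m
      obtain ⟨h₁, hh₁, w, rfl⟩ := ih m
      have hw : w ∈ H ⊔ (powMonoidHom p : M →* M).range := by rw [h]; exact mem_top w
      obtain ⟨h₂, hh₂, z, ⟨u, rfl⟩, rfl⟩ := Subgroup.mem_sup.mp hw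
      refine ⟨h₁ * h₂ ^ (p ^ k), H.mul_mem hh₁ (H.pow_mem hh₂ _), u, ?_⟩
      rw [powMonoidHom_apply, mul_pow, ← pow_mul, pow_succ, mul_assoc]
      congr 2
      rw [mul_comm]
  obtain ⟨n, hn⟩ := IsPGroup.iff_card.mp hM
  rw [eq_top_iff]
  intro m _
  obtain ⟨h₁, hh₁, w, rfl⟩ := key n m
  rw [← hn, pow_card_eq_one', mul_one]
  exact hh₁

end Frat

section Orbits

variable {M : Type*} [CommGroup M] {A : Type*} [Group A]

/-- products over invariant finite sets: it suffices to control the products over orbits -/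
theorem prod_mem_of_orbits [DecidableEq M] [Fintype A] (φ : A →* MulAut M) (N : Subgroup M) :
    ∀ (n : ℕ) (Ω : Finset M), Ω.card = n → (∀ a : A, ∀ m ∈ Ω, φ a m ∈ Ω) →
      (∀ m ∈ Ω, ∏ m' ∈ Finset.univ.image (fun a => φ a m), m' ∈ N) → ∏ m ∈ Ω, m ∈ N := by
  intro n
  induction n using Nat.strong_induction_on with
  | _ n ih =>
  intro Ω hn hinv horb
  by_cases hΩ : Ω = ∅
  · rw [hΩ, Finset.prod_empty]; exact N.one_mem
  obtain ⟨m, hm⟩ := Finset.nonempty_iff_ne_empty.mpr hΩ
  set O := Finset.univ.image (fun a => φ a m) with hO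
  have hOΩ : O ⊆ Ω := by
    intro m' hm'
    obtain ⟨a, -, rfl⟩ := Finset.mem_image.mp hm'
    exact hinv a m hm
  have hmO : m ∈ O := Finset.mem_image.mpr ⟨1, Finset.mem_univ _, by simp⟩
  have hcard : (Ω \ O).card < n := by
    rw [← hn]
    apply Finset.card_lt_card
    refine ⟨Finset.sdiff_subset, fun h => ?_⟩
    have := h hm
    rw [Finset.mem_sdiff] at this
    exact this.2 hmO
  have hinv' : ∀ a : A, ∀ m' ∈ Ω \ O, φ a m' ∈ Ω \ O := by
    intro a m' hm'
    rw [Finset.mem_sdiff] at hm' ⊢
    refine ⟨hinv a m' hm'.1, fun h => hm'.2 ?_⟩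
    obtain ⟨b, -, hb⟩ := Finset.mem_image.mp h
    refine Finset.mem_image.mpr ⟨a⁻¹ * b, Finset.mem_univ _, ?_⟩
    show φ (a⁻¹ * b) m = m'
    rw [map_mul, MulAut.mul_apply, hb, map_inv, MulAut.inv_apply_self]
  have h1 := ih _ hcard (Ω \ O) rfl hinv' (fun m' hm' => horb m' (Finset.mem_sdiff.mp hm').1)
  rw [← Finset.prod_sdiff hOΩ]
  exact N.mul_mem h1 (horb m hm)

variable (φ : A →* MulAut M) (hq : ∀ (a b : A) (m : M), φ b (φ a m / m) = φ a m / m)

/-- the derivation-like homomorphism attached to a point -/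
def delta (hq : ∀ (a b : A) (m : M), φ b (φ a m / m) = φ a m / m) (m : M) : A →* M where
  toFun a := φ a m / m
  map_one' := by simp
  map_mul' := by
    intro a b
    have h1 : φ (a * b) m = φ a (φ b m / m) * φ a m := by
      rw [← map_mul, div_mul_cancel, map_mul, MulAut.mul_apply]
    rw [h1, hq b a m]
    rw [mul_div_assoc, mul_comm]

theorem delta_apply (m : M) (a : A) : delta φ hq m a = φ a m / m := rfl

/-- the product over an orbit -/
theorem orbit_prod_eq [DecidableEq M] [Fintype A] (m : M) [Fintype (delta φ hq m).range] :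
    ∏ m' ∈ Finset.univ.image (fun a => φ a m), m' =
      (∏ d : (delta φ hq m).range, (d : M)) * m ^ Fintype.card (delta φ hq m).range := by
  have hset : Finset.univ.image (fun a => φ a m) =
      (Finset.univ : Finset (delta φ hq m).range).image
        (fun d : (delta φ hq m).range => (d : M) * m) := by
    ext m'
    simp only [Finset.mem_image, Finset.mem_univ, true_and]
    constructor
    · rintro ⟨a, rfl⟩
      refine ⟨⟨delta φ hq m a, a, rfl⟩, ?_⟩
      show φ a m / m * m = φ a m
      exact div_mul_cancel _ _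
    · rintro ⟨⟨d, a, rfl⟩, rfl⟩
      refine ⟨a, ?_⟩
      show φ a m = φ a m / m * m
      exact (div_mul_cancel _ _).symm
  rw [hset, Finset.prod_image]
  · rw [Finset.prod_mul_distrib, Finset.prod_const, Finset.card_univ]
  · intro d₁ _ d₂ _ h
    exact Subtype.ext (mul_right_cancel h)

theorem coe_prod_univ (D : Subgroup M) [Fintype D] :
    ∏ d : D, (d : M) = ((∏ d : D, d : D) : M) := by
  rw [← Subgroup.coe_subtype, map_prod]

include hq in
/-- orbit products are `p`-th powers, `p` odd -/
theorem orbit_prod_mem_of_odd [Finite M] [DecidableEq M] [Fintype A] {p : ℕ} [hp : Fact p.Prime]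
    (hp2 : p ≠ 2) (hA : ∃ k, Nat.card A = p ^ k) (m : M) (hm : ∃ a, φ a m ≠ m) :
    ∏ m' ∈ Finset.univ.image (fun a => φ a m), m' ∈ (powMonoidHom p : M →* M).range := by
  haveI : Fintype (delta φ hq m).range := Fintype.ofFinite _
  rw [orbit_prod_eq φ hq m]
  obtain ⟨k, hk⟩ := hA
  have h1 : Nat.card (delta φ hq m).range ∣ p ^ k := by
    rw [← hk]; exact Subgroup.card_range_dvd _
  obtain ⟨j, -, hj⟩ := (Nat.dvd_prime_pow hp.1).mp h1
  rw [Nat.card_eq_fintype_card] at hj
  have hj0 : j ≠ 0 := by
    intro h0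
    rw [h0, pow_zero] at hj
    obtain ⟨a, ha⟩ := hm
    have h2 : (⟨delta φ hq m a, a, rfl⟩ : (delta φ hq m).range) = 1 :=
      Subsingleton.elim (h := Fintype.card_le_one_iff_subsingleton.mp hj.le) _ _
    have h3 : delta φ hq m a = 1 := congrArg Subtype.val h2
    rw [delta_apply, div_eq_one] at h3
    exact ha h3
  have hodd : Odd (Fintype.card (delta φ hq m).range) := by
    rw [hj]; exact (hp.1.odd_of_ne_two hp2).pow
  rw [coe_prod_univ, prod_univ_eq_one_of_odd _ hodd, Subgroup.coe_one, one_mul, hj]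
  obtain ⟨i, rfl⟩ := Nat.exists_eq_succ_of_ne_zero hj0
  refine ⟨m ^ (p ^ i), ?_⟩
  rw [powMonoidHom_apply, ← pow_mul, pow_succ]

/-- orbit products are squares when the orbit length is divisible by 4 -/
theorem orbit_prod_mem_of_four [Finite M] [DecidableEq M] [Fintype A] (m : M)
    (h4 : 4 ∣ Nat.card (delta φ hq m).range) :
    ∏ m' ∈ Finset.univ.image (fun a => φ a m), m' ∈ (powMonoidHom 2 : M →* M).range := by
  haveI : Fintype (delta φ hq m).range := Fintype.ofFinite _
  rw [orbit_prod_eq φ hq m]
  rw [Nat.card_eq_fintype_card] at h4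
  obtain ⟨y, hy⟩ := prod_univ_is_sq _ h4
  rw [coe_prod_univ, hy]
  obtain ⟨i, hi⟩ := h4
  refine ⟨(y : M) * m ^ (2 * i), ?_⟩
  rw [powMonoidHom_apply, mul_pow, ← pow_mul, hi, Subgroup.coe_pow]
  congr 2
  ring

end Orbits

end Cfsg.Agent.Lib.Helper1.GlaubL
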