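import Mathlib
import Cfsg.Agent.Lib.Helper1.GlaubL2
import Cfsg.Agent.Lib.Helper1.GlaubL5

/-!
helper1: Glauberman's local theorem, part 7: the orbit product argument in the minimal counterexample.
-/

set_option autoImplicit false
set_option linter.unusedSectionVars false
set_option linter.unusedVariables false

namespace Cfsg.Agent.Lib.Helper1.GlaubL

open Subgroup Cfsg.Agent.Lib.Helper27 Cfsg.Agent.Lib.Helper17

namespace LCtx

variable {p : ℕ} [hp : Fact p.Prime] {G : Type*} [Group G] [Finite G] (c : LCtx p G)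

/-- `V` is commutative -/
noncomputable instance instCommV : CommGroup ↥c.V :=
  { (inferInstance : Group ↥c.V) with
    mul_comm := fun a b => Subtype.ext (c.V_abSub a a.2 b b.2) }

/-- the conjugation action of a subgroup on `V` -/
noncomputable def act (A : Subgroup G) : ↥A →* MulAut ↥c.V :=
  (MulAut.conjNormal (H := c.V)).comp A.subtype

theorem act_apply (A : Subgroup G) (a : ↥A) (m : ↥c.V) :
    ((c.act A a m : ↥c.V) : G) = a * m * (a : G)⁻¹ := MulAut.conjNormal_apply _ _

theorem coe_act_div (A : Subgroup G) (a : ↥A) (m : ↥c.V) :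
    ((c.act A a m / m : ↥c.V) : G) = a * m * (a : G)⁻¹ * (m : G)⁻¹ := by
  rw [Subgroup.coe_div, act_apply, div_eq_mul_inv]

theorem act_quadratic (A : Subgroup G)
    (hquad : ∀ a ∈ A, ∀ b ∈ A, ∀ v ∈ c.V, b * (a * v * a⁻¹ * v⁻¹) = (a * v * a⁻¹ * v⁻¹) * b)
    (a b : ↥A) (m : ↥c.V) : c.act A b (c.act A a m / m) = c.act A a m / m := by
  apply Subtype.ext
  rw [act_apply, coe_act_div]
  have h := hquad a a.2 b b.2 m m.2
  calc (b : G) * ((a : G) * m * (a : G)⁻¹ * (m : G)⁻¹) * (b : G)⁻¹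
      = ((a : G) * m * (a : G)⁻¹ * (m : G)⁻¹) * b * (b : G)⁻¹ := by rw [h]
    _ = (a : G) * m * (a : G)⁻¹ * (m : G)⁻¹ := by group

theorem act_eq_iff (A : Subgroup G) (a : ↥A) (m : ↥c.V) :
    c.act A a m = m ↔ (a : G) * m = m * a := by
  constructor
  · intro h
    have h1 := congrArg Subtype.val h
    rw [act_apply] at h1
    calc (a : G) * m = (a : G) * m * (a : G)⁻¹ * a := by group
      _ = m * a := by rw [h1]
  · intro h
    apply Subtype.ext
    rw [act_apply, h]; group

theorem card_range_delta (A : Subgroup G)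
    (hq : ∀ (a b : ↥A) (m : ↥c.V), c.act A b (c.act A a m / m) = c.act A a m / m) (m : ↥c.V) :
    Nat.card (delta (c.act A) hq m).range * Nat.card ↥(A ⊓ centralizer ({(m : G)} : Set G)) =
      Nat.card A := by
  have h1 := Subgroup.card_mul_index (delta (c.act A) hq m).ker
  rw [Subgroup.index_ker] at h1
  have e : (delta (c.act A) hq m).ker.map A.subtype = A ⊓ centralizer ({(m : G)} : Set G) := by
    ext y
    constructor
    · rintro ⟨a, ha, rfl⟩
      refine ⟨a.2, ?_⟩
      show (a : G) ∈ centralizer ({(m : G)} : Set G)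
      rw [mem_centralizer_iff]
      intro z hz
      rw [Set.mem_singleton_iff] at hz
      rw [hz]
      have ha' : a ∈ (delta (c.act A) hq m).ker := ha
      rw [MonoidHom.mem_ker, delta_apply, div_eq_one, act_eq_iff] at ha'
      exact ha'.symm
    · rintro ⟨hyA, hyc⟩
      refine ⟨⟨y, hyA⟩, ?_, rfl⟩
      show (⟨y, hyA⟩ : ↥A) ∈ (delta (c.act A) hq m).ker
      rw [MonoidHom.mem_ker, delta_apply, div_eq_one, act_eq_iff]
      have hyc' : y ∈ centralizer ({(m : G)} : Set G) := hyc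
      exact ((mem_centralizer_iff.mp hyc') _ (Set.mem_singleton _)).symm
  have h2 : Nat.card (delta (c.act A) hq m).ker = Nat.card ↥(A ⊓ centralizer ({(m : G)} : Set G)) := by
    rw [← e]
    exact Nat.card_congr (Subgroup.equivMapOfInjective _ _ A.subtype_injective).toEquiv
  rw [← h1, h2, mul_comm]

/-- point stabilizers in a quadratic member of the family do not have index `p`, unless `C_A(V)` does -/
theorem card_stab_ne {A : Subgroup G} (hA : c.Fam A) (hAS : A ≤ c.S) (g : G)
    (hne : g * c.x * g⁻¹ ≠ c.x) (hcase : Nat.card A ≠ p * Nat.card ↥(A ⊓ c.C)) :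
    Nat.card A ≠ p * Nat.card ↥(A ⊓ centralizer ({g * c.x * g⁻¹} : Set G)) := by
  intro heq
  set ω := g * c.x * g⁻¹ with hω
  have hωV : ω ∈ c.V := c.conj_mem_V g
  have hmemc : ∀ y : G, y ∈ centralizer ({ω} : Set G) ↔ y * ω = ω * y := by
    intro y
    rw [mem_centralizer_iff]
    constructor
    · intro h; exact (h ω (Set.mem_singleton _)).symm
    · intro h z hz
      rw [Set.mem_singleton_iff] at hz
      rw [hz]; exact h.symm
  have hωA : ω ∉ A := by
    intro h
    exact hne (c.eq_x_of_comm hA hAS g (fun a ha => hA.1 a ha ω h))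
  have hB₀ab : AbSub (A ⊓ centralizer ({ω} : Set G)) := abSub_of_le hA.1 inf_le_left
  have hBab : AbSub ((A ⊓ centralizer ({ω} : Set G)) ⊔ zpowers ω) := by
    apply abSub_sup hB₀ab (abSub_zpowers ω)
    intro a ha z hz
    obtain ⟨k, rfl⟩ := mem_zpowers_iff.mp hz
    have h1 : Commute a ω := (hmemc a).mp ha.2
    exact (h1.zpow_right k).eq
  have hBS : (A ⊓ centralizer ({ω} : Set G)) ⊔ zpowers ω ≤ c.S :=
    sup_le (inf_le_left.trans hAS) (zpowers_le.mpr (c.V_le c.S hωV))
  have hBp : IsPGroup p ↥((A ⊓ centralizer ({ω} : Set G)) ⊔ zpowers ω : Subgroup G) :=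
    c.S.2.to_le hBS
  have hωB : ω ∈ (A ⊓ centralizer ({ω} : Set G)) ⊔ zpowers ω :=
    (le_sup_right : zpowers ω ≤ _) (mem_zpowers ω)
  have hlt : Nat.card ↥(A ⊓ centralizer ({ω} : Set G)) <
      Nat.card ↥((A ⊓ centralizer ({ω} : Set G)) ⊔ zpowers ω : Subgroup G) := by
    apply card_lt_of_lt'
    refine lt_of_le_of_ne le_sup_left (fun h => hωA ?_)
    have : ω ∈ A ⊓ centralizer ({ω} : Set G) := by rw [h]; exact hωB
    exact this.1
  have hdvd : Nat.card ↥(A ⊓ centralizer ({ω} : Set G)) ∣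
      Nat.card ↥((A ⊓ centralizer ({ω} : Set G)) ⊔ zpowers ω : Subgroup G) :=
    Subgroup.card_dvd_of_le le_sup_left
  obtain ⟨b, hb⟩ := IsPGroup.iff_card.mp hBp
  obtain ⟨a, -, ha⟩ := (Nat.dvd_prime_pow hp.1).mp (hb ▸ hdvd)
  have hab : a < b := by
    rw [ha, hb] at hlt
    exact (Nat.pow_lt_pow_iff_right hp.1.one_lt).mp hlt
  have hge : Nat.card A ≤ Nat.card ↥((A ⊓ centralizer ({ω} : Set G)) ⊔ zpowers ω : Subgroup G) := by
    rw [heq, ha, hb, ← pow_succ']
    exact Nat.pow_le_pow_right hp.1.pos hab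
  have hcardB : Nat.card ↥((A ⊓ centralizer ({ω} : Set G)) ⊔ zpowers ω : Subgroup G) = c.d := by
    apply le_antisymm (c.card_le_d hBp hBab)
    rw [← hA.2.2.1]; exact hge
  have hBC : ¬ (A ⊓ centralizer ({ω} : Set G)) ⊔ zpowers ω ≤ c.C := by
    intro h
    apply hcase
    have h1 : A ⊓ centralizer ({ω} : Set G) = A ⊓ c.C := by
      apply le_antisymm
      · exact le_inf inf_le_left (le_sup_left.trans h)
      · refine le_inf inf_le_left ?_
        intro y hy
        rw [hmemc]
        exact ((mem_centralizer_iff.mp hy.2) ω hωV).symm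
    rw [← h1]; exact heq
  have hFamB : c.Fam ((A ⊓ centralizer ({ω} : Set G)) ⊔ zpowers ω) := ⟨hBab, hBp, hcardB, hBC⟩
  exact hne (c.eq_x_of_comm hFamB hBS g (fun y hy => hBab y hy ω hωB))

/-- the orbit product argument: all conjugates of `x` are powers of `x` -/
theorem conj_mem_zpowers_of_case {A : Subgroup G} (hA : c.Fam A) (hAS : A ≤ c.S)
    (hquad : ∀ a ∈ A, ∀ b ∈ A, ∀ v ∈ c.V, b * (a * v * a⁻¹ * v⁻¹) = (a * v * a⁻¹ * v⁻¹) * b)
    (hcase : p ≠ 2 ∨ Nat.card A ≠ 2 * Nat.card ↥(A ⊓ c.C)) :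
    ∀ g : G, g * c.x * g⁻¹ ∈ zpowers c.x := by
  classical
  haveI : Fintype G := Fintype.ofFinite G
  haveI : Fintype ↥A := Fintype.ofFinite _
  have hq := c.act_quadratic A hquad
  set xt : ↥c.V := ⟨c.x, c.x_mem_V⟩ with hxt
  set Ω : Finset ↥c.V :=
    Finset.univ.image (fun g : G => (⟨g * c.x * g⁻¹, c.conj_mem_V g⟩ : ↥c.V)) with hΩ
  have hxtΩ : xt ∈ Ω :=
    Finset.mem_image.mpr ⟨1, Finset.mem_univ _, Subtype.ext (by
      show (1 : G) * c.x * (1 : G)⁻¹ = c.x
      group)⟩
  have hΩG : ∀ (g : G) (m : ↥c.V), m ∈ Ω → MulAut.conjNormal g m ∈ Ω := by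
    intro g m hm
    obtain ⟨g₁, -, rfl⟩ := Finset.mem_image.mp hm
    refine Finset.mem_image.mpr ⟨g * g₁, Finset.mem_univ _, Subtype.ext ?_⟩
    rw [MulAut.conjNormal_apply]
    show g * g₁ * c.x * (g * g₁)⁻¹ = g * (g₁ * c.x * g₁⁻¹) * g⁻¹
    group
  have hfix : ∀ a : ↥A, c.act A a xt = xt := fun a =>
    (c.act_eq_iff A a xt).mpr (c.comm_of_mem_S (hAS a.2))
  have hΩ'inv : ∀ a : ↥A, ∀ m ∈ Ω.erase xt, c.act A a m ∈ Ω.erase xt := by
    intro a m hm
    rw [Finset.mem_erase] at hm ⊢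
    refine ⟨fun h => hm.1 ?_, hΩG a m hm.2⟩
    exact (c.act A a).injective (h.trans (hfix a).symm)
  have hnofix : ∀ m ∈ Ω.erase xt, ∃ a : ↥A, c.act A a m ≠ m := by
    intro m hm
    rw [Finset.mem_erase] at hm
    obtain ⟨g₁, -, hg₁⟩ := Finset.mem_image.mp hm.2
    by_contra hcon
    push_neg at hcon
    apply hm.1
    have h1 := c.eq_x_of_comm hA hAS g₁ (fun a ha => by
      have := (c.act_eq_iff A ⟨a, ha⟩ m).mp (hcon ⟨a, ha⟩)
      rw [← hg₁] at this
      exact this)
    rw [← hg₁]; exact Subtype.ext h1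
  have hAcard : ∃ k, Nat.card ↥A = p ^ k := IsPGroup.iff_card.mp hA.2.1
  have horb : ∀ m ∈ Ω.erase xt, ∏ m' ∈ Finset.univ.image (fun a => c.act A a m), m' ∈
      (powMonoidHom p : ↥c.V →* ↥c.V).range := by
    intro m hm
    by_cases hp2 : p = 2
    · subst hp2
      have hcase' : Nat.card A ≠ 2 * Nat.card ↥(A ⊓ c.C) := by
        rcases hcase with h | h
        · exact absurd rfl h
        · exact h
      apply orbit_prod_mem_of_four (c.act A) hq m
      have h1 := c.card_range_delta A hq m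
      obtain ⟨g₁, -, hg₁⟩ := Finset.mem_image.mp (Finset.mem_erase.mp hm).2
      have hne : g₁ * c.x * g₁⁻¹ ≠ c.x := fun h =>
        (Finset.mem_erase.mp hm).1 (by rw [← hg₁]; exact Subtype.ext h)
      have h2 := c.card_stab_ne hA hAS g₁ hne hcase'
      have hm' : (m : G) = g₁ * c.x * g₁⁻¹ := by rw [← hg₁]
      rw [hm'] at h1
      obtain ⟨k, hk⟩ := hAcard
      have h3 : Nat.card (delta (c.act A) hq m).range ∣ 2 ^ k := by
        rw [← hk]; exact Subgroup.card_range_dvd _
      obtain ⟨j, -, hj⟩ := (Nat.dvd_prime_pow Nat.prime_two).mp h3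
      have hj0 : j ≠ 0 := by
        intro h0
        rw [h0, pow_zero] at hj
        obtain ⟨a, ha⟩ := hnofix m hm
        haveI : Subsingleton (delta (c.act A) hq m).range :=
          (Nat.card_eq_one_iff_unique.mp hj).1
        have h4 : (⟨delta (c.act A) hq m a, a, rfl⟩ : (delta (c.act A) hq m).range) = 1 :=
          Subsingleton.elim _ _
        have h5 : delta (c.act A) hq m a = 1 := congrArg Subtype.val h4
        rw [delta_apply, div_eq_one] at h5
        exact ha h5
      have hj1 : j ≠ 1 := by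
        intro h1'
        rw [h1', pow_one] at hj
        rw [hj] at h1
        exact h2 h1.symm
      obtain ⟨i, rfl⟩ : ∃ i, j = i + 2 := ⟨j - 2, by omega⟩
      rw [hj, pow_add]
      exact Dvd.intro_left _ rfl
    · exact orbit_prod_mem_of_odd (c.act A) hq hp2 hAcard m (hnofix m hm)
  have hprod : ∏ m ∈ Ω.erase xt, m ∈ (powMonoidHom p : ↥c.V →* ↥c.V).range :=
    prod_mem_of_orbits (c.act A) _ _ (Ω.erase xt) rfl hΩ'inv horb
  have hz₀ : ∀ g : G, MulAut.conjNormal g (∏ m ∈ Ω, m) = ∏ m ∈ Ω, m := by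
    intro g
    rw [map_prod]
    apply Finset.prod_bij (fun m _ => MulAut.conjNormal g m)
    · intro m hm; exact hΩG g m hm
    · intro a _ b _ h; exact (MulAut.conjNormal g : MulAut ↥c.V).injective h
    · intro b hb
      refine ⟨MulAut.conjNormal g⁻¹ b, hΩG g⁻¹ b hb, ?_⟩
      rw [map_inv, MulAut.apply_inv_self]
    · intro m _; rfl
  have hsplit : xt * ∏ m ∈ Ω.erase xt, m = ∏ m ∈ Ω, m :=
    Finset.mul_prod_erase Ω (fun m => m) hxtΩ
  have hNinv : ∀ (g : G) (n : ↥c.V), n ∈ (powMonoidHom p : ↥c.V →* ↥c.V).range →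
      MulAut.conjNormal g n ∈ (powMonoidHom p : ↥c.V →* ↥c.V).range := by
    rintro g _ ⟨y, rfl⟩
    exact ⟨MulAut.conjNormal g y, by simp [powMonoidHom_apply, map_pow]⟩
  have hcoset : ∀ g : G, MulAut.conjNormal g xt / xt ∈ (powMonoidHom p : ↥c.V →* ↥c.V).range := by
    intro g
    have h1 := hz₀ g
    rw [← hsplit, map_mul] at h1
    have h2 : MulAut.conjNormal g xt / xt =
        (∏ m ∈ Ω.erase xt, m) / MulAut.conjNormal g (∏ m ∈ Ω.erase xt, m) := by
      rw [div_eq_div_iff_mul_eq_mul, h1, mul_comm]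
    rw [h2]
    exact Subgroup.div_mem _ hprod (hNinv g _ hprod)
  have hsup : zpowers xt ⊔ (powMonoidHom p : ↥c.V →* ↥c.V).range = ⊤ := by
    have hWn : ((zpowers xt ⊔ (powMonoidHom p : ↥c.V →* ↥c.V).range).map c.V.subtype).Normal := by
      constructor
      rintro _ ⟨w, hw, rfl⟩ g
      refine ⟨MulAut.conjNormal g w, ?_, MulAut.conjNormal_apply g w⟩
      have hle : (zpowers xt ⊔ (powMonoidHom p : ↥c.V →* ↥c.V).range).map
          (MulAut.conjNormal g : ↥c.V ≃* ↥c.V).toMonoidHom ≤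
          zpowers xt ⊔ (powMonoidHom p : ↥c.V →* ↥c.V).range := by
        rw [Subgroup.map_sup]
        apply sup_le
        · rw [MonoidHom.map_zpowers, zpowers_le]
          have h3 : MulAut.conjNormal g xt = (MulAut.conjNormal g xt / xt) * xt := by
            rw [div_mul_cancel]
          show MulAut.conjNormal g xt ∈ _
          rw [h3]
          exact mul_mem ((le_sup_right : (powMonoidHom p : ↥c.V →* ↥c.V).range ≤ _) (hcoset g))
            ((le_sup_left : zpowers xt ≤ _) (mem_zpowers xt))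
        · rintro _ ⟨n, hn, rfl⟩
          exact (le_sup_right : (powMonoidHom p : ↥c.V →* ↥c.V).range ≤ _) (hNinv g n hn)
      exact hle ⟨w, hw, rfl⟩
    have hVW : c.V ≤ (zpowers xt ⊔ (powMonoidHom p : ↥c.V →* ↥c.V).range).map c.V.subtype := by
      show normalClosure {c.x} ≤ _
      apply normalClosure_le_normal
      intro y hy
      rw [Set.mem_singleton_iff] at hy
      subst hy
      exact ⟨xt, (le_sup_left : zpowers xt ≤ _) (mem_zpowers xt), rfl⟩
    rw [eq_top_iff]
    intro m _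
    obtain ⟨w, hw, hwm⟩ := hVW m.2
    have : w = m := Subtype.ext hwm
    rw [← this]; exact hw
  have htop := eq_top_of_sup_pow_eq_top (p := p) c.V_isPGroup (zpowers xt) hsup
  intro g
  have h1 : (⟨g * c.x * g⁻¹, c.conj_mem_V g⟩ : ↥c.V) ∈ zpowers xt := by rw [htop]; exact mem_top _
  obtain ⟨k, hk⟩ := mem_zpowers_iff.mp h1
  refine mem_zpowers_iff.mpr ⟨k, ?_⟩
  have := congrArg Subtype.val hk
  simpa using this

/-- if all conjugates of `x` are powers of `x` then `x` is central -/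
theorem false_of_conj_mem_zpowers (h : ∀ g : G, g * c.x * g⁻¹ ∈ zpowers c.x) : False := by
  haveI hn : (zpowers c.x).Normal := by
    constructor
    intro n hn g
    obtain ⟨k, rfl⟩ := mem_zpowers_iff.mp hn
    rw [← conj_zpow]
    exact Subgroup.zpow_mem _ (h g) k
  have hK : (centralizer ((zpowers c.x : Subgroup G) : Set G)).Normal := inferInstance
  have hmemK : ∀ y : G, y ∈ centralizer ((zpowers c.x : Subgroup G) : Set G) → y * c.x = c.x * y :=
    fun y hy => ((mem_centralizer_iff.mp hy) c.x (mem_zpowers c.x)).symm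
  have hSK : (c.S : Subgroup G) ≤ centralizer ((zpowers c.x : Subgroup G) : Set G) := by
    intro s hs
    rw [mem_centralizer_iff]
    intro z hz
    obtain ⟨k, rfl⟩ := mem_zpowers_iff.mp hz
    have h1 : Commute s c.x := c.comm_of_mem_S hs
    exact ((h1.zpow_right k).eq).symm
  have h3 := frattini_inf c.S (centralizer ((zpowers c.x : Subgroup G) : Set G))
  rw [inf_eq_left.mpr hSK] at h3
  apply c.hnc
  intro g
  have hg : g ∈ normalizer ((c.S : Subgroup G) : Set G) ⊔
      centralizer ((zpowers c.x : Subgroup G) : Set G) := by rw [h3]; exact mem_top g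
  have hle : normalizer ((c.S : Subgroup G) : Set G) ⊔
      centralizer ((zpowers c.x : Subgroup G) : Set G) ≤ centralizer ({c.x} : Set G) := by
    apply sup_le
    · intro n hn
      rw [mem_centralizer_iff]
      intro y hy
      rw [Set.mem_singleton_iff] at hy
      rw [hy]; exact (c.comm_of_mem_normalizer hn).symm
    · intro n hn
      rw [mem_centralizer_iff]
      intro y hy
      rw [Set.mem_singleton_iff] at hy
      rw [hy]; exact (hmemK n hn).symm
  exact ((mem_centralizer_iff.mp (hle hg)) c.x (Set.mem_singleton _)).symm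

end LCtx

end Cfsg.Agent.Lib.Helper1.GlaubL
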