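import Mathlib
import Cfsg.Agent.Lib.Helper1.GlaubL7
import Cfsg.Agent.Lib.Helper1.GlaubL6
import Cfsg.Agent.Lib.Helper16.S4Involved
import Cfsg.Agent.Lib.Helper3.Dihedral

/-!
helper1: Glauberman's local theorem, part 8: the transvection case for `p = 2` gives `S₄`.
-/

set_option autoImplicit false
set_option linter.unusedSectionVars false
set_option linter.unusedVariables false

namespace Cfsg.Agent.Lib.Helper1.GlaubL

open Subgroup Cfsg.Agent.Lib.Helper27 Cfsg.Agent.Lib.Helper17

namespace LCtx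

universe u

variable {G : Type u} [Group G] [Finite G]

theorem ker_conjNormal {p : ℕ} [Fact p.Prime] (c : LCtx p G) :
    (MulAut.conjNormal (H := c.V)).ker = c.C := by
  ext g
  rw [MonoidHom.mem_ker]
  constructor
  · intro h
    show g ∈ centralizer (c.V : Set G)
    rw [mem_centralizer_iff]
    intro v hv
    have h1 : MulAut.conjNormal g (⟨v, hv⟩ : ↥c.V) = ⟨v, hv⟩ := by rw [h, MulAut.one_apply]
    have h2 := congrArg Subtype.val h1
    rw [MulAut.conjNormal_apply] at h2
    calc v * g = (g * v * g⁻¹) * g := by rw [h2]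
      _ = g * v := by group
  · intro h
    ext m
    rw [MulAut.one_apply, MulAut.conjNormal_apply]
    have h1 := (mem_centralizer_iff.mp h) m m.2
    rw [← h1]; group

variable (c : LCtx 2 G)

/-- no normal `2`-subgroup of `G / C_G(V)` contains the image of an element of `S` outside `C_G(V)` -/
theorem not_mem_normal_two {t : G} (htS : t ∈ (c.S : Subgroup G)) (htC : t ∉ c.C)
    (N : Subgroup (G ⧸ (MulAut.conjNormal (H := c.V)).ker)) (hN : N.Normal) (hN2 : IsPGroup 2 N) :
    (QuotientGroup.mk t : G ⧸ (MulAut.conjNormal (H := c.V)).ker) ∉ N := by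
  intro htN
  have hsurj : Function.Surjective (QuotientGroup.mk' (MulAut.conjNormal (H := c.V)).ker) :=
    QuotientGroup.mk'_surjective _
  have h1 : N ≤ (c.S.mapSurjective hsurj : Sylow 2 (G ⧸ (MulAut.conjNormal (H := c.V)).ker)) :=
    hN2.le_sylow_of_normal _
  have hO : N.comap (QuotientGroup.mk' (MulAut.conjNormal (H := c.V)).ker) ≤
      (c.S : Subgroup G) ⊔ c.C := by
    have h2 := Subgroup.comap_mono (f := QuotientGroup.mk' (MulAut.conjNormal (H := c.V)).ker) h1
    rw [Sylow.coe_mapSurjective, Subgroup.comap_map_eq, QuotientGroup.ker_mk'] at h2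
    exact h2.trans (sup_le_sup_left (le_of_eq c.ker_conjNormal) _)
  haveI hOn : (N.comap (QuotientGroup.mk' (MulAut.conjNormal (H := c.V)).ker)).Normal :=
    Subgroup.Normal.comap hN _
  have htO : t ∈ N.comap (QuotientGroup.mk' (MulAut.conjNormal (H := c.V)).ker) := htN
  have h3 := frattini_inf c.S (N.comap (QuotientGroup.mk' (MulAut.conjNormal (H := c.V)).ker))
  by_cases hK : normalizer ((((c.S : Subgroup G) ⊓
      N.comap (QuotientGroup.mk' (MulAut.conjNormal (H := c.V)).ker) : Subgroup G)) : Set G) = ⊤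
  · have hn : ((c.S : Subgroup G) ⊓
        N.comap (QuotientGroup.mk' (MulAut.conjNormal (H := c.V)).ker)).Normal :=
      normalizer_eq_top_iff.mp hK
    have h4 : (c.S : Subgroup G) ⊓ N.comap (QuotientGroup.mk' (MulAut.conjNormal (H := c.V)).ker)
        ≤ Cfsg.pCore 2 G :=
      Cfsg.Agent.Lib.Helper16.le_pCore hn (c.S.2.to_le inf_le_left)
    exact htC (c.T_le_C (h4 ⟨htS, htO⟩))
  · have hSK : (c.S : Subgroup G) ≤ normalizer ((((c.S : Subgroup G) ⊓
        N.comap (QuotientGroup.mk' (MulAut.conjNormal (H := c.V)).ker) : Subgroup G)) : Set G) := by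
      intro s hs
      apply mem_normalizer_of_cj_eq
      rw [cj_inf, cj_eq_of_mem_normalizer (le_normalizer hs), cj_of_normal]
    have h5 := c.ha c.S _ hSK hK
    rw [c.xi_S] at h5
    apply c.hnc
    intro g
    have hg : g ∈ normalizer ((((c.S : Subgroup G) ⊓
        N.comap (QuotientGroup.mk' (MulAut.conjNormal (H := c.V)).ker) : Subgroup G)) : Set G) ⊔
        N.comap (QuotientGroup.mk' (MulAut.conjNormal (H := c.V)).ker) := by
      rw [h3]; exact mem_top g
    have hle : normalizer ((((c.S : Subgroup G) ⊓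
        N.comap (QuotientGroup.mk' (MulAut.conjNormal (H := c.V)).ker) : Subgroup G)) : Set G) ⊔
        N.comap (QuotientGroup.mk' (MulAut.conjNormal (H := c.V)).ker) ≤
        centralizer ({c.x} : Set G) := by
      apply sup_le
      · intro n hn
        rw [mem_centralizer_iff]
        intro y hy
        rw [Set.mem_singleton_iff] at hy
        rw [hy]; exact (h5 n hn).symm
      · refine hO.trans (sup_le ?_ ?_)
        · intro n hn
          rw [mem_centralizer_iff]
          intro y hy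
          rw [Set.mem_singleton_iff] at hy
          rw [hy]; exact (c.comm_of_mem_S hn).symm
        · intro n hn
          rw [mem_centralizer_iff]
          intro y hy
          rw [Set.mem_singleton_iff] at hy
          rw [hy]; exact (c.comm_x_of_mem_C hn).symm
    exact ((mem_centralizer_iff.mp (hle hg)) c.x (Set.mem_singleton _)).symm

/-- the transvection case: `S₄` is involved -/
theorem involves_of_index_two {A : Subgroup G} (hA : c.Fam A)
    (hAmax : A ∈ maxIn AbSub (c.S : Subgroup G))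
    (hidx : Nat.card A = 2 * Nat.card ↥(A ⊓ c.C)) : Cfsg.Involves (Equiv.Perm (Fin 4)) G := by
  classical
  haveI : Fact (Nat.Prime 2) := ⟨Nat.prime_two⟩
  have hAS : A ≤ c.S := hAmax.1
  obtain ⟨t, htA, htC⟩ := Set.not_subset.mp hA.2.2.2
  have htC' : t ∉ c.C := htC
  have htS : t ∈ (c.S : Subgroup G) := hAS htA
  -- `t * t ∈ C`
  have httC : t * t ∈ c.C := by
    have h1 := Subgroup.card_mul_index ((A ⊓ c.C).subgroupOf A)
    have h2 : Nat.card ((A ⊓ c.C).subgroupOf A) = Nat.card ↥(A ⊓ c.C) :=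
      Nat.card_congr (Subgroup.subgroupOfEquivOfLe inf_le_left).toEquiv
    rw [h2, hidx] at h1
    have hpos : 0 < Nat.card ↥(A ⊓ c.C) := Nat.card_pos
    have h3 : ((A ⊓ c.C).subgroupOf A).index = 2 := by
      have : Nat.card ↥(A ⊓ c.C) * ((A ⊓ c.C).subgroupOf A).index = Nat.card ↥(A ⊓ c.C) * 2 := by
        rw [h1, mul_comm]
      exact Nat.eq_of_mul_eq_mul_left hpos this
    have h4 := Subgroup.mul_self_mem_of_index_two h3 (⟨t, htA⟩ : ↥A)
    rw [Subgroup.mem_subgroupOf] at h4
    exact h4.2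
  set φ₀ : G →* MulAut ↥c.V := MulAut.conjNormal (H := c.V) with hφ₀
  have hker : φ₀.ker = c.C := c.ker_conjNormal
  set tb : G ⧸ φ₀.ker := QuotientGroup.mk t with htb
  have htb1 : tb ≠ 1 := by
    intro h
    rw [htb, QuotientGroup.eq_one_iff, hker] at h
    exact htC' h
  have htb2 : tb ^ 2 = 1 := by
    rw [htb, ← QuotientGroup.mk_pow, QuotientGroup.eq_one_iff, hker, pow_two]
    exact httC
  have htbo : orderOf tb = 2 := orderOf_eq_prime htb2 htb1
  have hφinj : Function.Injective (QuotientGroup.kerLift φ₀) := QuotientGroup.kerLift_injective φ₀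
  -- the commutator map of `t` on `V` has image of order at most 2
  set κ : ↥c.V →* ↥c.V := (φ₀ t : ↥c.V ≃* ↥c.V).toMonoidHom / MonoidHom.id ↥c.V with hκ
  have hκapp : ∀ m : ↥c.V, κ m = φ₀ t m / m := fun m => rfl
  have hrange : Nat.card κ.range ≤ 2 := by
    have h1 := Subgroup.card_mul_index κ.ker
    rw [Subgroup.index_ker] at h1
    have h2 : Nat.card ↥(A ⊓ c.V) ≤ Nat.card κ.ker := by
      have hle : A ⊓ c.V ≤ κ.ker.map c.V.subtype := by
        intro y hy
        refine ⟨⟨y, hy.2⟩, ?_, rfl⟩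
        show (⟨y, hy.2⟩ : ↥c.V) ∈ κ.ker
        rw [MonoidHom.mem_ker, hκapp, div_eq_one]
        apply Subtype.ext
        rw [MulAut.conjNormal_apply]
        show t * y * t⁻¹ = y
        rw [hA.1 t htA y hy.1]; group
      have h3 := Subgroup.card_le_of_le hle
      have h4 : Nat.card (κ.ker.map c.V.subtype) = Nat.card κ.ker :=
        (Nat.card_congr (Subgroup.equivMapOfInjective _ _ c.V.subtype_injective).toEquiv).symm
      rw [h4] at h3
      exact h3
    have h5 := offender_ineq (c.V_le c.S) c.V_abSub hAmax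
    have h5' : Nat.card ↥(A ⊓ c.C) * Nat.card ↥c.V ≤ Nat.card A * Nat.card ↥(A ⊓ c.V) := h5
    rw [hidx] at h5'
    have hpos : 0 < Nat.card ↥(A ⊓ c.C) := Nat.card_pos
    have h6 : Nat.card ↥c.V ≤ 2 * Nat.card ↥(A ⊓ c.V) := by
      have : Nat.card ↥(A ⊓ c.C) * Nat.card ↥c.V ≤
          Nat.card ↥(A ⊓ c.C) * (2 * Nat.card ↥(A ⊓ c.V)) := by
        calc Nat.card ↥(A ⊓ c.C) * Nat.card ↥c.V
            ≤ 2 * Nat.card ↥(A ⊓ c.C) * Nat.card ↥(A ⊓ c.V) := h5'
          _ = Nat.card ↥(A ⊓ c.C) * (2 * Nat.card ↥(A ⊓ c.V)) := by ring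
      exact Nat.le_of_mul_le_mul_left this hpos
    have hkpos : 0 < Nat.card κ.ker := Nat.card_pos
    have h7 : Nat.card κ.ker * Nat.card κ.range ≤ Nat.card κ.ker * 2 := by
      rw [h1]
      calc Nat.card ↥c.V ≤ 2 * Nat.card ↥(A ⊓ c.V) := h6
        _ ≤ 2 * Nat.card κ.ker := Nat.mul_le_mul_left _ h2
        _ = Nat.card κ.ker * 2 := by ring
    exact Nat.le_of_mul_le_mul_left h7 hkpos
  have hd : ∃ d : ↥c.V, ∀ m : ↥c.V,
      (QuotientGroup.kerLift φ₀) tb m / m = 1 ∨ (QuotientGroup.kerLift φ₀) tb m / m = d := by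
    have hkl : ∀ m : ↥c.V, (QuotientGroup.kerLift φ₀) tb m / m = κ m := fun m => rfl
    by_cases hex : ∃ m₀ : ↥c.V, κ m₀ ≠ 1
    · obtain ⟨m₀, hm₀⟩ := hex
      refine ⟨κ m₀, fun m => ?_⟩
      rw [hkl]
      by_contra hcon
      push_neg at hcon
      haveI : Fintype κ.range := Fintype.ofFinite _
      have h3 : ({(1 : κ.range), ⟨κ m₀, m₀, rfl⟩, ⟨κ m, m, rfl⟩} : Finset κ.range).card = 3 := by
        rw [Finset.card_eq_three]
        refine ⟨1, ⟨κ m₀, m₀, rfl⟩, ⟨κ m, m, rfl⟩, ?_, ?_, ?_, rfl⟩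
        · intro h; exact hm₀ (congrArg Subtype.val h).symm
        · intro h; exact hcon.1 (congrArg Subtype.val h).symm
        · intro h; exact hcon.2 (congrArg Subtype.val h).symm
      have h4 := Finset.card_le_univ ({(1 : κ.range), ⟨κ m₀, m₀, rfl⟩, ⟨κ m, m, rfl⟩} : Finset κ.range)
      rw [h3, ← Nat.card_eq_fintype_card] at h4
      omega
    · push_neg at hex
      exact ⟨1, fun m => Or.inl (by rw [hkl]; exact hex m)⟩
  obtain ⟨d, hd⟩ := hd
  obtain ⟨hb, hbo, hinv⟩ := exists_order_three_inverted (QuotientGroup.kerLift φ₀) hφinj tb htbo d hd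
    (fun N hN hN2 => c.not_mem_normal_two htS htC' N hN hN2)
  -- the dihedral group of order 6 inside the quotient
  have hb3 : hb ^ 3 = 1 := by rw [← hbo]; exact pow_orderOf_eq_one hb
  have htt : tb * tb = 1 := by rw [← pow_two]; exact htb2
  have htinv : tb⁻¹ = tb := inv_eq_of_mul_eq_one_left htt
  have hinv' : tb * hb * tb = hb⁻¹ := by rw [← hinv, htinv]
  have htz : tb ∉ zpowers hb := by
    intro h
    obtain ⟨k, hk⟩ := mem_zpowers_iff.mp h
    have hcomm : tb * hb = hb * tb := by
      rw [← hk, ← zpow_add_one, ← zpow_one_add, add_comm]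
    have h1 : hb = hb⁻¹ := by
      calc hb = hb * tb * tb⁻¹ := by group
        _ = tb * hb * tb⁻¹ := by rw [hcomm]
        _ = hb⁻¹ := hinv
    have h2 : hb ^ 2 = 1 := by
      rw [pow_two]
      nth_rewrite 2 [h1]
      exact mul_inv_cancel hb
    have h3 : orderOf hb ∣ 2 := orderOf_dvd_of_pow_eq_one h2
    rw [hbo] at h3
    omega
  set L := Cfsg.Agent.Lib.Helper3.dihLift hb tb hb3 htt hinv' with hL
  have hLinj : Function.Injective L :=
    Cfsg.Agent.Lib.Helper3.dihLift_injective hb tb hb3 htt hinv' hbo htz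
  set q := QuotientGroup.mk' φ₀.ker with hq
  set π : ↥(L.range.comap q) →* DihedralGroup 3 :=
    (MonoidHom.ofInjective hLinj).symm.toMonoidHom.comp (q.subgroupComap L.range) with hπ
  have hπs : Function.Surjective π := by
    intro z
    obtain ⟨y, hy⟩ := MonoidHom.subgroupComap_surjective_of_surjective q L.range
      (QuotientGroup.mk'_surjective _) (MonoidHom.ofInjective hLinj z)
    exact ⟨y, by rw [hπ, MonoidHom.comp_apply, hy]; simp⟩
  obtain ⟨x', y', hx', hy', hxy, hπy⟩ :=
    Cfsg.Agent.Lib.Helper16.exists_inverting_of_surjective π hπs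
  have hV2 : IsPGroup 2 ↥c.V := c.V_isPGroup
  have hnorm : normalizer (c.V : Set G) = ⊤ := normalizer_eq_top c.V
  refine Cfsg.Agent.Lib.Helper16.involves_perm4_of_inverting c.V hV2
    ((x' : ↥(L.range.comap q)) : G) ((y' : ↥(L.range.comap q)) : G)
    (by rw [hnorm]; exact mem_top _) (by rw [hnorm]; exact mem_top _) ?_ ?_ ?_ ?_
  · obtain ⟨k, hk⟩ := hx'
    exact ⟨k, by rw [Subgroup.orderOf_coe, hk]⟩
  · obtain ⟨k, hk⟩ := hy'
    exact ⟨k, by rw [Subgroup.orderOf_coe, hk]⟩
  · have := congrArg (fun z : ↥(L.range.comap q) => (z : G)) hxy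
    simpa using this
  · intro hC
    apply hπy
    have h1 : q (y' : G) = 1 := by
      show (QuotientGroup.mk (y' : G) : G ⧸ φ₀.ker) = 1
      rw [QuotientGroup.eq_one_iff]
      exact hker.ge hC
    have h2 : (q.subgroupComap L.range) y' = 1 := Subtype.ext h1
    rw [hπ, MonoidHom.comp_apply, h2, map_one]

end LCtx

end Cfsg.Agent.Lib.Helper1.GlaubL
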