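import Mathlib
import Cfsg.Agent.Lib.Helper1.GlaubL8
import Cfsg.Agent.Lib.Helper27.Involves

/-!
helper1: Glauberman's local theorem: if `p` is odd or `S₄` is not involved in `G`, then every element of
`O_p(G)` centralized by `N_G(J(S))` is central in `G`.
-/

set_option autoImplicit false
set_option linter.unusedSectionVars false
set_option linter.unusedVariables false

namespace Cfsg.Agent.Lib.Helper1.GlaubL

open Subgroup Cfsg.Agent.Lib.Helper27 Cfsg.Agent.Lib.Helper17

universe u

theorem thmL_aux {p : ℕ} [hp : Fact p.Prime] (n : ℕ) : ∀ (G : Type u) [Group G] [Finite G],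
    Nat.card G = n → (p ≠ 2 ∨ ¬ Cfsg.Involves (Equiv.Perm (Fin 4)) G) →
    ∀ (S : Sylow p G) (x : G), x ∈ Cfsg.pCore p G →
    (∀ g ∈ normalizer (jSub AbSub (S : Subgroup G) : Set G), g * x = x * g) →
    ∀ g : G, g * x = x * g := by
  induction n using Nat.strong_induction_on with
  | _ n ih =>
  intro G _ _ hn hyp S x hxT hxN
  by_contra hnc
  have hsub : ∀ K : Subgroup G, K ≠ ⊤ → ∀ R : Subgroup G, IsSylIn p R K → ∀ y ∈ Cfsg.pCore p G,
      Cfsg.pCore p G ≤ K → (∀ n ∈ K, n ∈ normalizer (jSub AbSub R : Set G) → n * y = y * n) →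
      ∀ k ∈ K, k * y = y * k := by
    intro K hK R hR y hyT hTK hcomm
    have hcard : Nat.card ↥K < n := by
      rw [← hn]
      rcases (Subgroup.card_le_card_group K).lt_or_eq with h | h
      · exact h
      · exact absurd (Subgroup.eq_top_of_card_eq K h) hK
    have hypK : p ≠ 2 ∨ ¬ Cfsg.Involves (Equiv.Perm (Fin 4)) ↥K := by
      rcases hyp with h | h
      · exact Or.inl h
      · exact Or.inr (fun h' => h (involves_of_injective K.subtype K.subtype_injective h'))
    obtain ⟨R', hRR'⟩ := exists_isSylIn_ge hR.2.1 hR.1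
    have hR'eq : (R' : Subgroup ↥K).map K.subtype = R :=
      hR.2.2 _ (map_subtype_le _) (R'.2.map _) hRR'
    have hJ : jSub AbSub R = (jSub AbSub (R' : Subgroup ↥K)).map K.subtype := by
      rw [← hR'eq]
      have hinj : ∀ z ∈ (R' : Subgroup ↥K), K.subtype z = 1 → z = 1 := by
        intro z _ hz
        exact Subtype.ext hz
      exact jSub_map_of_injOn AbSub AbSub K.subtype (R' : Subgroup ↥K) hinj
        (fun A hA => abSub_map_iff_of_injOn K.subtype (R' : Subgroup ↥K) hinj A hA)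
    have hy' : (⟨y, hTK hyT⟩ : ↥K) ∈ Cfsg.pCore p ↥K := by
      haveI := Cfsg.pCore_normal p G
      have h1 : ((Cfsg.pCore p G).subgroupOf K).Normal := inferInstance
      have h2 : IsPGroup p ((Cfsg.pCore p G).subgroupOf K) :=
        (Cfsg.Agent.Lib.Helper16.pCore_isPGroup (G := G) (p := p)).comap_subtype
      exact Cfsg.Agent.Lib.Helper16.le_pCore h1 h2 (Subgroup.mem_subgroupOf.mpr hyT)
    have hcond : ∀ g' ∈ normalizer (jSub AbSub (R' : Subgroup ↥K) : Set ↥K),
        g' * (⟨y, hTK hyT⟩ : ↥K) = ⟨y, hTK hyT⟩ * g' := by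
      intro g' hg'
      apply Subtype.ext
      apply hcomm g' g'.2
      rw [hJ, mem_normalizer_iff]
      intro z
      constructor
      · rintro ⟨z', hz', rfl⟩
        refine ⟨g' * z' * g'⁻¹, (mem_normalizer_iff.mp hg' z').mp hz', ?_⟩
        simp
      · rintro ⟨w, hw, hwz⟩
        have h1 : g'⁻¹ * w * g' ∈ jSub AbSub (R' : Subgroup ↥K) := by
          rw [mem_normalizer_iff.mp hg' (g'⁻¹ * w * g')]
          have : g' * (g'⁻¹ * w * g') * g'⁻¹ = w := by group
          rw [this]; exact hw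
        refine ⟨g'⁻¹ * w * g', h1, ?_⟩
        have h2 : (w : G) = (g' : G) * z * (g' : G)⁻¹ := hwz
        simp only [Subgroup.coe_subtype, Subgroup.coe_mul, Subgroup.coe_inv, h2]
        group
    have key := ih _ hcard ↥K rfl hypK R' ⟨y, hTK hyT⟩ hy' hcond
    intro k hk
    exact congrArg Subtype.val (key ⟨k, hk⟩)
  let c : LCtx p G := ⟨S, x, hxT, hxN, hsub, hnc⟩
  obtain ⟨A, hA, hAmax, hquad⟩ := c.exists_quadratic
  by_cases hcase : p ≠ 2 ∨ Nat.card A ≠ 2 * Nat.card ↥(A ⊓ c.C)
  · exact c.false_of_conj_mem_zpowers (c.conj_mem_zpowers_of_case hA hAmax.1 hquad hcase)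
  · push_neg at hcase
    obtain ⟨hp2, hidx⟩ := hcase
    subst hp2
    rcases hyp with h | h
    · exact h rfl
    · exact h (c.involves_of_index_two hA hAmax hidx)

/-- **Glauberman's local theorem.** -/
theorem thmL {p : ℕ} [Fact p.Prime] {G : Type u} [Group G] [Finite G]
    (hyp : p ≠ 2 ∨ ¬ Cfsg.Involves (Equiv.Perm (Fin 4)) G) (S : Sylow p G) (x : G)
    (hxT : x ∈ Cfsg.pCore p G)
    (hxN : ∀ g ∈ normalizer (jSub AbSub (S : Subgroup G) : Set G), g * x = x * g) :
    ∀ g : G, g * x = x * g :=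
  thmL_aux (Nat.card G) G rfl hyp S x hxT hxN

end Cfsg.Agent.Lib.Helper1.GlaubL
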