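import Mathlib
import Cfsg.Agent.Lib.Helper1.GlaubF3
import Cfsg.Agent.Lib.Helper1.GlaubL9
import Cfsg.Agent.Lib.Helper27.KL20
import Cfsg.Agent.Lib.Helper27.ZJ5

/-!
helper1: the Thompson subgroup functor `J` (abelian version) is a positive characteristic `p`-functor containing
the centre, has the quadratic property, and satisfies the local centre condition for `p` odd and in `S₄`-free groups.
-/

set_option autoImplicit false
set_option linter.unusedSectionVars false
set_option linter.unusedVariables false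

namespace Cfsg.Agent.Lib.Helper1.GlaubF

open Cfsg Subgroup Cfsg.Agent.Lib.Helper27 Cfsg.Agent.Lib.Helper27.KL Cfsg.Agent.Lib.Helper1.GlaubL

universe u

/-- the Thompson subgroup functor -/
def JA (Q : Type u) [Group Q] : Subgroup Q := Cfsg.thompsonSubgroupA Q

theorem center_le_JA (Q : Type u) [Group Q] [Finite Q] : Subgroup.center Q ≤ JA Q := by
  intro x hx
  have hxc : ∀ y : Q, y * x = x * y := fun y => (Subgroup.mem_center_iff.mp hx y)
  obtain ⟨A, hA⟩ := maxIn_nonempty (goodClass_abSub (G := Q)) ⊤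
  have hA' : A ∈ Cfsg.maxAbelianSubgroups Q :=
    ⟨(abSub_iff A).mp hA.2.1, fun B hB => hA.2.2 B le_top ((abSub_iff B).mpr hB)⟩
  have h1 : AbSub (A ⊔ Subgroup.zpowers x) :=
    goodClass_abSub.join A x hA.2.1 (abSub_zpowers x) (fun a _ => hxc a)
  have h3 := hA.2.2 _ le_top h1
  have h4 : A = A ⊔ Subgroup.zpowers x := Subgroup.eq_of_le_of_card_ge le_sup_left h3
  have hxA : x ∈ A := by
    rw [h4]; exact Subgroup.mem_sup_right (Subgroup.mem_zpowers x)
  exact le_sSup hA' hxA

theorem posChar_JA (p : ℕ) [Fact p.Prime] : PosChar p JA.{u} := by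
  refine ⟨?_, ?_⟩
  · intro Q _ _ hQ hnt hbot
    have := hQ.center_nontrivial
    have hc : Subgroup.center Q ≠ ⊥ := by
      rw [← Subgroup.nontrivial_iff_ne_bot]; exact this
    apply hc
    rw [eq_bot_iff, ← hbot]
    exact center_le_JA Q
  · intro Q R _ _ _ _ φ
    exact thompsonSubgroupA_map_equiv φ

theorem map_JA_eq {G : Type u} [Group G] (P : Subgroup G) :
    (JA ↥P).map P.subtype = jSub AbSub P := thompsonSubgroupAOf_eq P

theorem quadProp_JA (p : ℕ) [Fact p.Prime] : QuadProp p JA.{u} := by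
  intro G _ _ P hJ
  rw [map_JA_eq] at hJ
  exact exists_quadratic_elt P hJ

theorem weakClosure_aux {p : ℕ} [Fact p.Prime] {G : Type u} [Group G] [Finite G]
    (hyp : p ≠ 2 ∨ ¬ Cfsg.Involves (Equiv.Perm (Fin 4)) G) (P : Sylow p G) :
    Cfsg.pCore p G ⊓ Subgroup.center G = Cfsg.pCore p G ⊓
      (Subgroup.center ↥(Subgroup.normalizer
        (((JA ↥(P : Subgroup G)).map (P : Subgroup G).subtype : Subgroup G) : Set G))).map
        (Subgroup.normalizer (((JA ↥(P : Subgroup G)).map (P : Subgroup G).subtype : Subgroup G) : Set G)).subtype := by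
  ext x
  constructor
  · rintro ⟨hxT, hxZ⟩
    have hxZ' : x ∈ Subgroup.center G := hxZ
    refine ⟨hxT, ⟨⟨x, Subgroup.center_le_normalizer _ hxZ'⟩, ?_, rfl⟩⟩
    apply SetLike.mem_coe.mpr
    rw [Subgroup.mem_center_iff]
    intro g
    apply Subtype.ext
    exact Subgroup.mem_center_iff.mp hxZ' g
  · rintro ⟨hxT, ⟨c, hc, rfl⟩⟩
    have hc : c ∈ Subgroup.center _ := hc
    refine ⟨hxT, ?_⟩
    show ((c : G)) ∈ Subgroup.center G
    rw [Subgroup.mem_center_iff]
    have hcomm : ∀ g ∈ normalizer (jSub AbSub (P : Subgroup G) : Set G), g * (c : G) = (c : G) * g := by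
      intro g hg
      rw [← map_JA_eq] at hg
      have := Subgroup.mem_center_iff.mp hc ⟨g, hg⟩
      exact congrArg Subtype.val this
    exact thmL hyp P (c : G) hxT hcomm

theorem weakClosureProp_JA {p : ℕ} [Fact p.Prime] (hp : p ≠ 2) : WeakClosureProp p JA.{u} :=
  fun G _ _ P => weakClosure_aux (Or.inl hp) P

theorem weakClosureProp2_JA (p : ℕ) [Fact p.Prime] :
    WeakClosureProp2 p (Equiv.Perm (Fin 4)) JA.{u} :=
  fun G _ _ hG P => weakClosure_aux (Or.inr hG) P

/-- **Glauberman's theorem for fusion systems.** -/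
theorem glauberman_fusion {Ω : Type u} [Group Ω] {S : Subgroup Ω} [Finite S] (p : ℕ) [Fact p.Prime]
    (hS : IsPGroup p S) (F : Cfsg.FusionSystem S) (hF : F.IsSaturated p)
    (N : Cfsg.FusionSystem (Cfsg.FusionSystem.normalizerIn S (WS JA S)))
    (hN : F.IsNormalizerSystem (WS JA S) N) :
    agemoCenter p S ⊓ N.center ≤ F.center ∧
      (p ≠ 2 ∨ F.IsSectionFree p (Equiv.Perm (Fin 4)) → N.center = F.center) := by
  have hW : PosChar p JA.{u} := posChar_JA p
  have hWZ : ∀ (Q : Type u) [Group Q] [Finite Q], IsPGroup p Q → Subgroup.center Q ≤ JA Q :=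
    fun Q _ _ _ => center_le_JA Q
  refine ⟨agemoCenter_inf_center_le hW hWZ (quadProp_JA p) hS F hF N hN, ?_⟩
  rintro (hp | hfree)
  · exact center_normalizer_eq hW hWZ (weakClosureProp_JA hp) hS F hF N hN
  · exact center_normalizer_eq2 hW hWZ (weakClosureProp2_JA p) hS F hF hfree N hN

end Cfsg.Agent.Lib.Helper1.GlaubF
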