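import Mathlib
import Cfsg.Agent.Lib.Helper1.GlaubF4
import Cfsg.Agent.Lib.Helper27.GroupModel
import Cfsg.Agent.Lib.Helper26.ModelH
import Cfsg.Agent.Lib.Helper27.SectionLift

/-!
helper1: Glauberman's theorem on weakly closed elements for finite groups, via the fusion system of the group.
-/

set_option autoImplicit false
set_option linter.unusedSectionVars false
set_option linter.unusedVariables false

namespace Cfsg.Agent.Lib.Helper1.GlaubG

open Cfsg Subgroup Cfsg.FusionSystem Cfsg.Agent.Lib.Helper26 Cfsg.Agent.Lib.Helper27.FM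
  Cfsg.Agent.Lib.Helper27.KL Cfsg.Agent.Lib.Helper26.ModelThm Cfsg.Agent.Lib.Helper1.GlaubF

universe u v

variable {G : Type u} [Group G] [Finite G] {p : ℕ} [Fact p.Prime]

/-- the fusion system of an `H`-free group is `H`-free -/
theorem groupFS_sectionFree (H : Type v) [Group H] (S : Sylow p G) (hfree : ¬ Cfsg.Involves H G) :
    (groupFusionSystem (S : Subgroup G)).IsSectionFree p H := by
  intro Q hfn hc N hN L _ ι hM hinv
  apply hfree
  have hpT : IsPGroup p ↥(normalizerIn (S : Subgroup G) Q) := S.2.to_le inf_le_left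
  haveI : Finite ↥(normalizerIn (S : Subgroup G) Q) := inferInstance
  haveI := Cfsg.Agent.Lib.Helper24.pPrimeCore_normal' (G := ↥(Subgroup.normalizer (Q : Set G))) p
  have hM₀ := groupFS_normalizer_model S hfn hc N hN
    (Subgroup.inclusion (inf_le_right : normalizerIn (S : Subgroup G) Q ≤ Subgroup.normalizer (Q : Set G)))
    (fun x => rfl)
  obtain ⟨φ, -⟩ := model_unique hpT ι _ hM hM₀
  have h1 : Cfsg.Involves H (↥(Subgroup.normalizer (Q : Set G)) ⧸
      pPrimeCore p ↥(Subgroup.normalizer (Q : Set G))) :=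
    Cfsg.Agent.Lib.Helper27.involves_of_injective φ.toMonoidHom φ.injective hinv
  have h2 : Cfsg.Involves H ↥(Subgroup.normalizer (Q : Set G)) :=
    Cfsg.Agent.Lib.Helper27.SectionLift.involves_of_surjective (QuotientGroup.mk' _)
      (QuotientGroup.mk'_surjective _) h1
  exact Cfsg.Agent.Lib.Helper27.involves_of_injective (Subgroup.normalizer (Q : Set G)).subtype
    (Subgroup.subtype_injective _) h2

/-- an element of `S` centralized by `N_G(J)` lies in the centre of the normalizer system of `J` -/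
theorem mem_center_normalizerSystem (S : Sylow p G) {J : Subgroup G} (hJS : J ≤ S) (x : G)
    (hxS : x ∈ (S : Subgroup G)) (hxJ : x ∈ normalizer (J : Set G))
    (hxN : ∀ g ∈ normalizer (J : Set G), g * x = x * g) :
    x ∈ (normalizerSystem (groupFusionSystem (S : Subgroup G)) J hJS).center := by
  haveI : Finite ↥(S : Subgroup G) := inferInstance
  haveI : Finite ↥J := inferInstance
  have hN := normalizerSystem_isNormalizerSystem (groupFusionSystem (S : Subgroup G)) J hJS
  have hXA : zpowers x ≤ normalizerIn (S : Subgroup G) J := zpowers_le.mpr ⟨hxS, hxJ⟩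
  have hX : (normalizerSystem (groupFusionSystem (S : Subgroup G)) J hJS).IsCentral (zpowers x) := by
    rw [isCentral_iff_forall_cm]
    refine ⟨hXA, fun R θ hθ => ?_⟩
    obtain ⟨hRA, hθA, θ₁, hθ₁, hext, hθ₁J⟩ :=
      (isFM_normalizer_iff (groupFusionSystem (S : Subgroup G)) hJS _ hN).mp hθ
    obtain ⟨hRJS, hθ₁S, g, hg⟩ := (isFM_groupFS_iff (S : Subgroup G)).mp hθ₁
    have hgN : g ∈ normalizer (J : Set G) := by
      apply mem_normalizer_of_conj_mem_finite
      intro q hq
      rw [← hg q ((le_sup_right : J ≤ R ⊔ J) hq)]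
      exact hθ₁J q hq
    have hgx : Commute g x := hxN g hgN
    have hgX : ∀ q ∈ zpowers x, g * q * g⁻¹ = q := by
      intro q hq
      obtain ⟨k, rfl⟩ := mem_zpowers_iff.mp hq
      have h1 := (hgx.zpow_right k).eq
      rw [h1]; group
    have hle : R ⊔ zpowers x ≤
        (normalizerIn (S : Subgroup G) J).comap (MulAut.conj g).toMonoidHom := by
      apply sup_le
      · intro r hr
        show g * r * g⁻¹ ∈ normalizerIn (S : Subgroup G) J
        rw [← hg r ((le_sup_left : R ≤ R ⊔ J) hr), hext r hr]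
        exact hθA r hr
      · intro q hq
        show g * q * g⁻¹ ∈ normalizerIn (S : Subgroup G) J
        rw [hgX q hq]
        exact hXA hq
    refine ⟨fun y => g * y * g⁻¹, ?_, fun r hr => ?_, hgX⟩
    · rw [isFM_normalizer_iff (groupFusionSystem (S : Subgroup G)) hJS _ hN]
      refine ⟨sup_le hRA hXA, fun y hy => hle hy, fun y => g * y * g⁻¹, ?_, fun _ _ => rfl,
        fun q hq => (mem_normalizer_iff.mp hgN q).mp hq⟩
      rw [isFM_groupFS_iff]
      have hle2 : (R ⊔ zpowers x) ⊔ J ≤ (S : Subgroup G).comap (MulAut.conj g).toMonoidHom := by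
        apply sup_le (hle.trans (comap_mono (normalizerIn_le (S : Subgroup G) J)))
        intro q hq
        show g * q * g⁻¹ ∈ (S : Subgroup G)
        exact hJS ((mem_normalizer_iff.mp hgN q).mp hq)
      exact ⟨sup_le (sup_le (hRA.trans (normalizerIn_le _ J)) (zpowers_le.mpr hxS)) hJS,
        fun y hy => hle2 hy, g, fun _ _ => rfl⟩
    · show g * r * g⁻¹ = θ r
      rw [← hext r hr, hg r ((le_sup_left : R ≤ R ⊔ J) hr)]
  exact (le_sSup hX : zpowers x ≤ _) (mem_zpowers x)

/-- elements of the centre of the fusion system of `G` are weakly closed in `S` -/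
theorem weakly_closed_of_mem_center (S : Sylow p G) (x : G)
    (hx : x ∈ (groupFusionSystem (S : Subgroup G)).center) :
    ∀ g : G, g * x * g⁻¹ ∈ (S : Subgroup G) → g * x * g⁻¹ = x := by
  haveI : Finite ↥(S : Subgroup G) := inferInstance
  intro g hg
  have hZ := center_isCentral (groupFusionSystem (S : Subgroup G))
  obtain ⟨hZS, hcm⟩ := (isCentral_iff_forall_cm _).mp hZ
  have hxS : x ∈ (S : Subgroup G) := hZS hx
  have hθ : IsFM (groupFusionSystem (S : Subgroup G)) (zpowers x) (fun y => g * y * g⁻¹) := by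
    rw [isFM_groupFS_iff]
    refine ⟨zpowers_le.mpr hxS, fun y hy => ?_, g, fun _ _ => rfl⟩
    obtain ⟨k, rfl⟩ := mem_zpowers_iff.mp hy
    show g * x ^ k * g⁻¹ ∈ (S : Subgroup G)
    rw [← conj_zpow]
    exact Subgroup.zpow_mem _ hg k
  exact (hcm _ _ hθ).apply_eq hx (mem_zpowers x)

/-- **Glauberman**: elements of `S ∩ Z(N_G(J(S)))` are weakly closed in `S`, when `p` is odd, or they are
`p`-th powers of elements of `Z(S)`, or `S₄` is not involved in `G`. -/
theorem glauberman_weakly_closed (S : Sylow p G) (x : G) (hxS : x ∈ (S : Subgroup G))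
    (hxJ : x ∈ normalizer ((Cfsg.thompsonSubgroupAOf (S : Subgroup G)) : Set G))
    (hxN : ∀ g ∈ normalizer ((Cfsg.thompsonSubgroupAOf (S : Subgroup G)) : Set G), g * x = x * g)
    (h : p ≠ 2 ∨ (∃ z ∈ (S : Subgroup G) ⊓ Subgroup.centralizer ((S : Subgroup G) : Set G), z ^ p = x) ∨
      ¬ Cfsg.Involves (Equiv.Perm (Fin 4)) G) :
    ∀ g : G, g * x * g⁻¹ ∈ (S : Subgroup G) → g * x * g⁻¹ = x := by
  haveI : Finite ↥(S : Subgroup G) := inferInstance
  have hJS : Cfsg.thompsonSubgroupAOf (S : Subgroup G) ≤ S := Subgroup.map_subtype_le _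
  have hN := normalizerSystem_isNormalizerSystem (groupFusionSystem (S : Subgroup G)) _ hJS
  have hF := groupFS_saturated S
  have hxc := mem_center_normalizerSystem S hJS x hxS hxJ hxN
  obtain ⟨h1, h2⟩ := glauberman_fusion p S.2 (groupFusionSystem (S : Subgroup G)) hF
    (normalizerSystem (groupFusionSystem (S : Subgroup G)) _ hJS) hN
  apply weakly_closed_of_mem_center S x
  rcases h with hp | ⟨z, hz, rfl⟩ | hfree
  · rw [← h2 (Or.inl hp)]; exact hxc
  · apply h1
    refine ⟨?_, hxc⟩
    exact Subgroup.subset_closure ⟨z, hz, rfl⟩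
  · rw [← h2 (Or.inr (groupFS_sectionFree _ S hfree))]; exact hxc

end Cfsg.Agent.Lib.Helper1.GlaubG
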