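import Cfsg.Agent.Lib.Helper1.HH5

/-!
# Hall--Higman Theorem B: basic definitions and lemmas
-/

set_option autoImplicit false

namespace Cfsg.Agent.Lib.Helper1.HB

open scoped BigOperators
open Module

/-- the conclusion of Theorem B for a `q`-group `Q`. -/
def Concl (p q n r : ℕ) {G : Type*} [Group G] (Q : Subgroup G) : Prop :=
  r = p ^ n ∨ (¬ IsMulCommutative Q ∧ ∃ n₀ m : ℕ, 1 ≤ n₀ ∧ n₀ ≤ n ∧ 1 ≤ m ∧
    p ^ n₀ - 1 = q ^ m ∧ p ^ (n - n₀) * (p ^ n₀ - 1) ≤ r)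

theorem Concl.mono {p q n r r' : ℕ} {G : Type*} [Group G] {Q : Subgroup G} (h1 : r' ≤ r)
    (h2 : r ≤ p ^ n) (h : Concl p q n r' Q) : Concl p q n r Q := by
  rcases h with h | ⟨hc, n₀, m, a, b, c, d, e⟩
  · left
    omega
  · right
    exact ⟨hc, n₀, m, a, b, c, d, le_trans e h1⟩

theorem Concl.of_le {p q n r : ℕ} {G : Type*} [Group G] {Q₀ Q : Subgroup G} (hle : Q₀ ≤ Q)
    (h : Concl p q n r Q₀) : Concl p q n r Q := by
  rcases h with h | ⟨hc, rest⟩
  · left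
    exact h
  · right
    refine ⟨?_, rest⟩
    intro hcomm
    apply hc
    constructor
    constructor
    rintro ⟨a, ha⟩ ⟨b, hb⟩
    apply Subtype.ext
    have := mul_comm' (⟨a, hle ha⟩ : Q) ⟨b, hle hb⟩
    have h2 : a * b = b * a := congrArg Subtype.val this
    exact h2

theorem Concl.step {p q n k r r₁ : ℕ} {G : Type*} [Group G] {Q : Subgroup G} (hk : k ≤ n)
    (h : Concl p q (n - k) r₁ Q) (h1 : p ^ k * r₁ ≤ r) (h2 : r ≤ p ^ n) : Concl p q n r Q := by
  rcases h with h | ⟨hc, n₀, m, a, b, c, d, e⟩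
  · left
    rw [h, ← pow_add, Nat.add_sub_cancel' hk] at h1
    omega
  · right
    refine ⟨hc, n₀, m, a, by omega, c, d, ?_⟩
    have e1 : n - n₀ = k + (n - k - n₀) := by omega
    rw [e1, pow_add, mul_assoc]
    exact le_trans (Nat.mul_le_mul_left _ e) h1

section Nil

variable {K : Type*} [Field K] {W : Type*} [AddCommGroup W] [Module K W]

/-- `r` is the nilpotency index of `N` on the subspace `U`. -/
def NilIdx (N : Module.End K W) (U : Submodule K W) (r : ℕ) : Prop :=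
  (∀ u ∈ U, (N ^ r) u = 0) ∧ ∀ j < r, ∃ u ∈ U, (N ^ j) u ≠ 0

theorem NilIdx.le_of_le {N : Module.End K W} {U' U : Submodule K W} {r' r : ℕ} (hle : U' ≤ U)
    (h' : NilIdx N U' r') (h : NilIdx N U r) : r' ≤ r := by
  by_contra hcon
  rw [not_le] at hcon
  obtain ⟨u, hu, hne⟩ := h'.2 r hcon
  exact hne (h.1 u (hle hu))

theorem NilIdx.le_of_zero {N : Module.End K W} {U : Submodule K W} {r k : ℕ}
    (h : NilIdx N U r) (hk : ∀ u ∈ U, (N ^ k) u = 0) : r ≤ k := by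
  by_contra hcon
  rw [not_le] at hcon
  obtain ⟨u, hu, hne⟩ := h.2 k hcon
  exact hne (hk u hu)

theorem exists_nilIdx (N : Module.End K W) (U : Submodule K W) (k : ℕ)
    (hk : ∀ u ∈ U, (N ^ k) u = 0) : ∃ r, r ≤ k ∧ NilIdx N U r := by
  classical
  have hex : ∃ r, ∀ u ∈ U, (N ^ r) u = 0 := ⟨k, hk⟩
  refine ⟨Nat.find hex, Nat.find_min' hex hk, Nat.find_spec hex, ?_⟩
  intro j hj
  have := Nat.find_min hex hj
  push Not at this
  exact this

theorem nilIdx_top_iff {N : Module.End K W} {r : ℕ} :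
    NilIdx N ⊤ r ↔ (N ^ r = 0 ∧ ∀ j < r, N ^ j ≠ 0) := by
  constructor
  · rintro ⟨h1, h2⟩
    refine ⟨LinearMap.ext fun u => h1 u Submodule.mem_top, ?_⟩
    intro j hj h0
    obtain ⟨u, -, hu⟩ := h2 j hj
    apply hu
    rw [h0]
    rfl
  · rintro ⟨h1, h2⟩
    refine ⟨fun u _ => by rw [h1]; rfl, ?_⟩
    intro j hj
    by_contra hcon
    push Not at hcon
    apply h2 j hj
    apply LinearMap.ext
    intro u
    exact hcon u Submodule.mem_top

end Nil

section Poly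

variable {K : Type*} [Field K] (p : ℕ) [Fact p.Prime] [CharP K p]

theorem poly_identity (k : ℕ) :
    ((Polynomial.X : Polynomial K) - 1) ^ (p ^ k - 1)
      = ∑ i ∈ Finset.range (p ^ k), (Polynomial.X : Polynomial K) ^ i := by
  have hp : 0 < p ^ k := pow_pos (Fact.out : p.Prime).pos k
  have h1 : ((Polynomial.X : Polynomial K) - 1) * ((Polynomial.X : Polynomial K) - 1) ^ (p ^ k - 1)
      = (Polynomial.X : Polynomial K) ^ p ^ k - 1 := by
    rw [← pow_succ', Nat.sub_add_cancel hp, sub_pow_char_pow, one_pow]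
  have h2 := mul_geom_sum (Polynomial.X : Polynomial K) (p ^ k)
  have h3 : ((Polynomial.X : Polynomial K) - 1) ≠ 0 := by
    have := Polynomial.X_sub_C_ne_zero (1 : K)
    rwa [Polynomial.C_1] at this
  exact mul_left_cancel₀ h3 (h1.trans h2.symm)

theorem sub_one_pow_eq_sum {E : Type*} [Ring E] [Algebra K E] (y : E) (k : ℕ) :
    (y - 1) ^ (p ^ k - 1) = ∑ i ∈ Finset.range (p ^ k), y ^ i := by
  have := congrArg (Polynomial.aeval y) (poly_identity (K := K) p k)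
  simpa using this

end Poly

section Cyclic

variable {G : Type*} [Group G]

/-- in a cyclic `p`-group generated by `x` with `x ^ p ^ (n+1) = 1`, every nontrivial element
has `x ^ p ^ n` among its powers. -/
theorem exists_pow_eq (p : ℕ) [Fact p.Prime] (x : G) (n : ℕ) (hx : x ^ p ^ (n + 1) = 1) (h : G)
    (hh : h ∈ Subgroup.zpowers x) (h1 : h ≠ 1) : ∃ j : ℕ, h ^ j = x ^ p ^ n := by
  have hp : p.Prime := Fact.out
  -- write `h = x ^ i` with `i` natural
  obtain ⟨i, rfl⟩ : ∃ i : ℕ, x ^ i = h := by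
    obtain ⟨z, rfl⟩ := Subgroup.mem_zpowers_iff.mp hh
    refine ⟨(z % (p ^ (n + 1) : ℕ)).toNat, ?_⟩
    have hpos : (0 : ℤ) < (p ^ (n + 1) : ℕ) := by
      exact_mod_cast pow_pos hp.pos (n + 1)
    have h2 : 0 ≤ z % (p ^ (n + 1) : ℕ) := Int.emod_nonneg _ (ne_of_gt hpos)
    have h3 : z = (p ^ (n + 1) : ℕ) * (z / (p ^ (n + 1) : ℕ)) + ((z % (p ^ (n + 1) : ℕ)).toNat : ℤ) := by
      rw [Int.toNat_of_nonneg h2]
      exact (Int.mul_ediv_add_emod z _).symm
    conv_rhs => rw [h3]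
    rw [zpow_add, zpow_mul, zpow_natCast, zpow_natCast, hx, one_zpow, one_mul]
  have hnd : ¬ p ^ (n + 1) ∣ i := by
    rintro ⟨c, rfl⟩
    apply h1
    rw [pow_mul, hx, one_pow]
  have hg : Nat.gcd i (p ^ (n + 1)) < p ^ (n + 1) := by
    apply lt_of_le_of_ne (Nat.le_of_dvd (pow_pos hp.pos _) (Nat.gcd_dvd_right _ _))
    intro heq
    apply hnd
    rw [← heq]
    exact Nat.gcd_dvd_left _ _
  obtain ⟨b, hb, hb2⟩ := (Nat.dvd_prime_pow hp).mp (Nat.gcd_dvd_right i (p ^ (n + 1)))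
  rw [hb2] at hg
  have hbn : b ≤ n := by
    have := (Nat.pow_lt_pow_iff_right hp.one_lt).mp hg
    omega
  obtain ⟨m, -, hm⟩ := Nat.exists_mul_mod_eq_gcd (k := p ^ (n + 1)) (n := i) (by rw [hb2]; exact hg)
  rw [hb2] at hm
  refine ⟨m * p ^ (n - b), ?_⟩
  rw [← pow_mul, ← mul_assoc]
  have h4 : i * m = p ^ (n + 1) * (i * m / p ^ (n + 1)) + p ^ b := by
    rw [← hm]
    exact (Nat.div_add_mod _ _).symm
  rw [h4, add_mul, pow_add, mul_assoc, pow_mul, hx, one_pow, one_mul, ← pow_add,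
    Nat.add_sub_cancel' hbn]

end Cyclic

end Cfsg.Agent.Lib.Helper1.HB
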