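import Cfsg.Agent.Lib.Helper1.HB9

/-!
# Hall--Higman Theorem B
-/

set_option autoImplicit false

namespace Cfsg.Agent.Lib.Helper1.HB

open scoped BigOperators TensorProduct
open Module Cfsg.Agent.Lib.Helper1.HH Cfsg.Agent.Lib.Helper1

section BaseChange

variable {F : Type*} [Field F] (K : Type*) [Field K] [Algebra F K] {V : Type*} [AddCommGroup V]
  [Module F V]

theorem baseChangeHom_injective : Function.Injective (Module.End.baseChangeHom F K V) := by
  rw [injective_iff_map_eq_zero]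
  intro f hf
  apply LinearMap.ext
  intro v
  have h1 : (Module.End.baseChangeHom F K V f) ((1 : K) ⊗ₜ[F] v) = 0 := by
    rw [hf]
    rfl
  have h2 : (TensorProduct.mk F K V 1) (f v) = (TensorProduct.mk F K V 1) 0 := by
    rw [map_zero]
    exact h1
  exact Module.FaithfullyFlat.tensorProduct_mk_injective (A := F) (B := K) V h2

end BaseChange

section Main

set_option maxHeartbeats 1600000 in
/-- **Theorem B of Hall and Higman.** -/
theorem hall_higman_B {F : Type*} [Field F] {p : ℕ} [Fact p.Prime] [CharP F p] {V : Type*}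
    [AddCommGroup V] [Module F V] [FiniteDimensional F V] [Nontrivial V]
    (H : Subgroup (V ≃ₗ[F] V)) [Finite H] (hsol : Cfsg.IsPSolvable p H)
    (hOp : Cfsg.pCore p H = ⊥) (x : V ≃ₗ[F] V) (hx : x ∈ H) (n : ℕ) (hn : orderOf x = p ^ n)
    (r : ℕ) (hr : minpoly F (x : Module.End F V) = (Polynomial.X - 1) ^ r) :
    r = p ^ n ∨ ∃ n₀ q m : ℕ, 1 ≤ n₀ ∧ n₀ ≤ n ∧ q.Prime ∧ 1 ≤ m ∧ p ^ n₀ - 1 = q ^ m ∧
      (∀ Q : Sylow q H, ¬ IsMulCommutative Q) ∧ p ^ (n - n₀) * (p ^ n₀ - 1) ≤ r := by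
  classical
  have hp : p.Prime := Fact.out
  set N : Module.End F V := (x : Module.End F V) - 1 with hN
  have hs : N ^ r = 0 := by
    have h1 := minpoly.aeval F (x : Module.End F V)
    rw [hr] at h1
    simpa using h1
  have hmin : ∀ j < r, N ^ j ≠ 0 := by
    intro j hj h0
    have h1 : Polynomial.aeval (x : Module.End F V) ((Polynomial.X - 1 : Polynomial F) ^ j) = 0 := by
      simpa using h0
    have h2 := minpoly.dvd F (x : Module.End F V) h1
    rw [hr] at h2
    have hX1 : (Polynomial.X - 1 : Polynomial F) ≠ 0 := by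
      have := Polynomial.X_sub_C_ne_zero (1 : F)
      rwa [Polynomial.C_1] at this
    have hX1u : ¬ IsUnit (Polynomial.X - 1 : Polynomial F) := by
      have := Polynomial.not_isUnit_X_sub_C (1 : F)
      rwa [Polynomial.C_1] at this
    have := (pow_dvd_pow_iff hX1 hX1u).mp h2
    omega
  rcases Nat.eq_zero_or_pos n with hn0 | hnpos
  · left
    rw [hn0, pow_zero] at hn ⊢
    have hx1 : x = 1 := orderOf_eq_one_iff.mp hn
    have hN0 : N = 0 := by
      rw [hN, hx1]
      exact sub_self _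
    by_contra hne
    rcases Nat.lt_or_gt_of_ne hne with h | h
    · have h0 : r = 0 := by omega
      rw [h0, pow_zero] at hs
      exact one_ne_zero hs
    · exact hmin 1 h (by rw [pow_one]; exact hN0)
  obtain ⟨n', rfl⟩ : ∃ n', n = n' + 1 := ⟨n - 1, by omega⟩
  set x' : H := ⟨x, hx⟩ with hx'
  have hx'pow : x' ^ p ^ (n' + 1) = 1 := by
    apply Subtype.ext
    show x ^ p ^ (n' + 1) = 1
    rw [← hn, pow_orderOf_eq_one]
  have hx'1 : x' ^ p ^ n' ≠ 1 := by
    intro h
    have h1 : x ^ p ^ n' = 1 := congrArg Subtype.val h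
    have h2 : orderOf x ∣ p ^ n' := orderOf_dvd_of_pow_eq_one h1
    rw [hn] at h2
    have h3 := Nat.le_of_dvd (pow_pos hp.pos _) h2
    have h4 : p ^ n' < p ^ (n' + 1) := Nat.pow_lt_pow_right hp.one_lt (by omega)
    omega
  obtain ⟨q, hq, Q, hqp, hQ, hxQ, f, hf, hfne⟩ :=
    exists_invariant_qsubgroup p hsol hOp x' n' hx'pow hx'1
  haveI : Fact q.Prime := ⟨hq⟩
  -- base change to the algebraic closure
  let K := AlgebraicClosure F
  let ρ : Representation K H (K ⊗[F] V) :=
    ((MonoidHomClass.toMonoidHom (Module.End.baseChangeHom F K V)).comp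
      LinearEquiv.automorphismGroup.toLinearMapMonoidHom).comp H.subtype
  have hρ : ∀ g : H, ρ g = Module.End.baseChangeHom F K V ((g : V ≃ₗ[F] V) : Module.End F V) :=
    fun g => rfl
  have hinj := baseChangeHom_injective (F := F) K (V := V)
  have hpow : ∀ j : ℕ, (ρ x' - 1) ^ j = Module.End.baseChangeHom F K V (N ^ j) := by
    intro j
    rw [hρ, map_pow, hN, map_sub, map_one]
  have hact : ∃ f ∈ Q, ∃ u ∈ (⊤ : Submodule K (K ⊗[F] V)),
      ρ (f * x' ^ p ^ n' * f⁻¹ * (x' ^ p ^ n')⁻¹) u ≠ u := by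
    refine ⟨f, hf, ?_⟩
    by_contra hall
    push Not at hall
    apply hfne
    have h1 : ρ (f * x' ^ p ^ n' * f⁻¹ * (x' ^ p ^ n')⁻¹) = 1 :=
      LinearMap.ext (fun u => hall u Submodule.mem_top)
    rw [hρ] at h1
    have h2 : (((f * x' ^ p ^ n' * f⁻¹ * (x' ^ p ^ n')⁻¹ : H) : V ≃ₗ[F] V) : Module.End F V) = 1 :=
      hinj (by rw [h1, map_one])
    apply Subtype.ext
    apply LinearEquiv.toLinearMap_injective
    exact h2
  have hnil : NilIdx (ρ x' - 1) ⊤ r := by
    rw [nilIdx_top_iff]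
    refine ⟨by rw [hpow, hs, map_zero], ?_⟩
    intro j hj h0
    rw [hpow] at h0
    exact hmin j hj (hinj (by rw [h0, map_zero]))
  have hres := core (K := K) (p := p) (q := q) hqp.symm _ H (K ⊗[F] V) ρ ⊤ Q x' n' r hQ hxQ hx'pow
    (fun _ _ _ _ => Submodule.mem_top) (fun _ _ => Submodule.mem_top) hact rfl hnil
  rcases hres with h | ⟨hQnc, n₀, m, h1, h2, h3, h4, h5⟩
  · left
    exact h
  · right
    refine ⟨n₀, q, m, h1, h2, hq, h3, h4, ?_, h5⟩
    intro S hScomm
    obtain ⟨S₀, hQS₀⟩ := hQ.exists_le_sylow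
    obtain ⟨g, hg⟩ := MulAction.exists_smul_eq H S S₀
    have hS₀comm : ∀ a b : ↥(S₀ : Subgroup H), a * b = b * a := by
      subst hg
      intro a b
      let e := Sylow.equivSMul S g
      have h6 := mul_comm' (e.symm a) (e.symm b)
      have h7 := congrArg e h6
      simpa using h7
    apply hQnc
    constructor
    constructor
    rintro ⟨a, ha⟩ ⟨b, hb⟩
    apply Subtype.ext
    have h8 := hS₀comm ⟨a, hQS₀ ha⟩ ⟨b, hQS₀ hb⟩
    have h9 : a * b = b * a := congrArg Subtype.val h8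
    exact h9

end Main

end Cfsg.Agent.Lib.Helper1.HB
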