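import Cfsg.Agent.Lib.Helper1.HB1

/-!
# Hall--Higman Theorem B: the critical configuration
-/

set_option autoImplicit false

namespace Cfsg.Agent.Lib.Helper1.HB

open scoped BigOperators
open Module Cfsg.Agent.Lib.Helper1.HH Cfsg.Agent.Lib.Helper1

/-- the arithmetic at the end, with the dimension `E` of the commutant of `Q`. -/
theorem hb_arith (P s c d E : ℕ) (h1 : 2 ≤ s) (h2 : s ≤ P) (h3 : s ≤ c) (h4 : d ^ 2 ≤ s * c)
    (hE : 1 ≤ E) (h5 : P + d ^ 2 = P * c + E) : P ≤ s + 1 ∧ (s + 1 = P → d = s ∧ E = 1) := by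
  obtain ⟨t, rfl⟩ := Nat.exists_eq_add_of_le h2
  have h6 : t * c + E ≤ s + t := by nlinarith
  constructor
  · by_contra hcon
    rw [not_le] at hcon
    have ht : 2 ≤ t := by omega
    nlinarith [Nat.mul_le_mul_left t h3, Nat.mul_le_mul ht h1]
  · intro h7
    have ht : t = 1 := by omega
    subst ht
    have hc : c = s := by omega
    subst hc
    have hE1 : E = 1 := by omega
    subst hE1
    have h8 : d ^ 2 = c ^ 2 := by nlinarith
    exact ⟨(Nat.pow_left_injective (n := 2) (by norm_num)) h8, rfl⟩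

section Maschke

variable {K : Type*} [Field K] {V : Type*} [AddCommGroup V] [Module K V]
variable {G : Type*} [Group G]

/-- if the commutant of `Q` consists of scalars only, `Q` acts irreducibly (Maschke). -/
theorem irrOn_of_finrank_commutant_eq_one (ρ : Representation K G V) (Q : Subgroup G) [Finite Q]
    (hchar : (Nat.card Q : K) ≠ 0) (h1 : finrank K (commutant ρ (Q : Set G)) = 1) :
    IrrOn ρ (Q : Set G) := by
  classical
  haveI : Fintype Q := Fintype.ofFinite Q
  intro U' hU'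
  by_contra hcon
  push Not at hcon
  obtain ⟨hbot, htop⟩ := hcon
  -- a projection onto `U'`
  obtain ⟨f, hf⟩ := LinearMap.exists_leftInverse_of_injective U'.subtype
    (LinearMap.ker_eq_bot.mpr U'.subtype_injective)
  set π : Module.End K V := U'.subtype ∘ₗ f with hπ
  have hπ1 : ∀ u ∈ U', π u = u := by
    intro u hu
    have := LinearMap.congr_fun hf ⟨u, hu⟩
    simp only [LinearMap.coe_comp, Function.comp_apply, Submodule.coe_subtype,
      LinearMap.id_coe, id_eq] at this
    rw [hπ]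
    simp only [LinearMap.coe_comp, Function.comp_apply, Submodule.coe_subtype]
    rw [this]
  have hπ2 : ∀ v, π v ∈ U' := by
    intro v
    rw [hπ]
    simp only [LinearMap.coe_comp, Function.comp_apply, Submodule.coe_subtype]
    exact (f v).2
  have hinv : ∀ g ∈ Q, ∀ u ∈ U', ρ g u ∈ U' := fun g hg u hu => hU' g hg ⟨u, hu, rfl⟩
  set T : Module.End K V := ∑ g : Q, ρ (g : G) * π * ρ ((g : G)⁻¹) with hT
  have hTmem : T ∈ commutant ρ (Q : Set G) := by
    intro h hh
    rw [hT, Finset.mul_sum, Finset.sum_mul]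
    -- reindex by left multiplication
    refine (Fintype.sum_equiv (Equiv.mulLeft (⟨h, hh⟩ : Q)) _ _ ?_)
    intro g
    simp only [Equiv.coe_mulLeft, Subgroup.coe_mul]
    rw [mul_inv_rev, map_mul, map_mul]
    have e1 : ρ ((g : G)⁻¹) * ρ h⁻¹ * ρ h = ρ ((g : G)⁻¹) := by
      rw [mul_assoc, ← map_mul, inv_mul_cancel, map_one, mul_one]
    calc ρ h * (ρ (g : G) * π * ρ ((g : G)⁻¹))
        = ρ h * ρ (g : G) * π * (ρ ((g : G)⁻¹) * ρ h⁻¹ * ρ h) := by rw [e1]; simp only [mul_assoc]
      _ = ρ h * ρ (g : G) * π * (ρ ((g : G)⁻¹) * ρ h⁻¹) * ρ h := by simp only [mul_assoc]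
  have hT1 : ∀ u ∈ U', T u = (Nat.card Q : K) • u := by
    intro u hu
    rw [hT, LinearMap.sum_apply]
    have : ∀ g : Q, (ρ (g : G) * π * ρ ((g : G)⁻¹)) u = u := by
      intro g
      show ρ (g : G) (π (ρ ((g : G)⁻¹) u)) = u
      rw [hπ1 _ (hinv _ (Subgroup.inv_mem _ g.2) u hu)]
      have := LinearMap.congr_fun (show ρ (g : G) * ρ ((g : G)⁻¹) = 1 by
        rw [← map_mul, mul_inv_cancel, map_one]) u
      exact this
    rw [Finset.sum_congr rfl (fun g _ => this g), Finset.sum_const, Finset.card_univ,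
      Nat.card_eq_fintype_card, Nat.cast_smul_eq_nsmul]
  have hT2 : ∀ v, T v ∈ U' := by
    intro v
    rw [hT, LinearMap.sum_apply]
    apply Submodule.sum_mem
    intro g _
    show ρ (g : G) (π (ρ ((g : G)⁻¹) v)) ∈ U'
    exact hinv _ g.2 _ (hπ2 _)
  -- `T` is a scalar
  have hone : (⟨1, one_mem_commutant ρ _⟩ : commutant ρ (Q : Set G)) ≠ 0 := by
    intro h0
    have h2 := congrArg Subtype.val h0
    simp only [ZeroMemClass.coe_zero] at h2
    -- `1 = 0` in `End V` forces `V` trivial, so `U' = ⊤`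
    apply htop
    rw [eq_top_iff]
    intro v _
    have : v = 0 := by
      have := LinearMap.congr_fun h2 v
      simpa using this
    rw [this]
    exact U'.zero_mem
  obtain ⟨μ, hμ⟩ := (finrank_eq_one_iff_of_nonzero' _ hone).mp h1 ⟨T, hTmem⟩
  have hμ' : μ • (1 : Module.End K V) = T := congrArg Subtype.val hμ
  -- a nonzero vector of `U'`
  obtain ⟨u, hu, hu0⟩ := (Submodule.ne_bot_iff _).mp hbot
  have h3 : μ • u = (Nat.card Q : K) • u := by
    rw [← hT1 u hu, ← hμ']
    rfl
  have h4 : μ = (Nat.card Q : K) := by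
    have : (μ - (Nat.card Q : K)) • u = 0 := by rw [sub_smul, h3, sub_self]
    rcases smul_eq_zero.mp this with h | h
    · exact sub_eq_zero.mp h
    · exact absurd h hu0
  apply htop
  rw [eq_top_iff]
  intro v _
  have h5 : μ • v ∈ U' := by
    have := hT2 v
    rw [← hμ'] at this
    exact this
  have h6 : v = μ⁻¹ • (μ • v) := by
    rw [smul_smul, inv_mul_cancel₀ (by rw [h4]; exact hchar), one_smul]
  rw [h6]
  exact U'.smul_mem _ h5

end Maschke


section Leaf

universe u

/-- **the critical configuration**: `G = Q⟨x⟩` irreducible, `⟨x⟩` acting fixed-point-freely on `Q`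
modulo scalars. -/
theorem leaf {G : Type*} [Group G] [Finite G] (p q : ℕ) [Fact p.Prime] [Fact q.Prime] (hpq : p ≠ q)
    (Q : Subgroup G) [Q.Normal] (hQ : IsPGroup q Q) (x : G) (n : ℕ) (hx : x ^ p ^ (n + 1) = 1)
    (hgen : Q ⊔ Subgroup.zpowers x = ⊤)
    {K : Type*} [Field K] [IsAlgClosed K] [CharP K p] {V : Type u} [AddCommGroup V] [Module K V]
    [FiniteDimensional K V] [Nontrivial V] (ρ : Representation K G V) (hirr : IrrOn ρ Set.univ)
    (hx1 : x ^ p ^ n ∉ scalarSubgroup ρ)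
    (hfpf : ∀ h ∈ Subgroup.zpowers x, h ∉ scalarSubgroup ρ → ∀ f ∈ Q,
      f⁻¹ * (h * f * h⁻¹) ∈ scalarSubgroup ρ → f ∈ scalarSubgroup ρ)
    (s : ℕ) (hs : (ρ x - 1) ^ s = 0) (hmin : ∀ k < s, (ρ x - 1) ^ k ≠ 0) :
    p ^ (n + 1) - 1 ≤ s ∧ s ≤ p ^ (n + 1) ∧ (s = p ^ (n + 1) - 1 → ∃ b : ℕ, p ^ (n + 1) - 1 = q ^ b) := by
  classical
  have hp : p.Prime := Fact.out
  have hq : q.Prime := Fact.out
  set P := p ^ (n + 1) with hP
  -- the order of `x`
  have hord : orderOf x = P := by
    have h1 : orderOf x ∣ p ^ (n + 1) := orderOf_dvd_of_pow_eq_one hx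
    obtain ⟨a, ha, ha2⟩ := (Nat.dvd_prime_pow hp).mp h1
    by_cases han : a = n + 1
    · rw [ha2, han]
    · exfalso
      apply hx1
      have h2 : x ^ p ^ n = 1 := by
        apply orderOf_dvd_iff_pow_eq_one.mp
        rw [ha2]
        exact pow_dvd_pow p (by omega)
      rw [h2]
      exact Subgroup.one_mem _
  have hcardx : Nat.card (Subgroup.zpowers x) = P := by rw [Nat.card_zpowers, hord]
  -- `⟨x⟩` meets the scalars trivially
  have hxZ : ∀ h ∈ Subgroup.zpowers x, h ∈ scalarSubgroup ρ → h = 1 := by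
    intro h hh hz
    by_contra h1
    obtain ⟨j, hj⟩ := exists_pow_eq p x n hx h hh h1
    apply hx1
    rw [← hj]
    exact Subgroup.pow_mem _ hz j
  have hZs : ∀ z ∈ scalarSubgroup ρ, ∃ μ : K, ρ z = μ • (1 : Module.End K V) := fun z hz => hz
  have hchar : (Nat.card ↥Q : K) ≠ 0 := by
    obtain ⟨a, ha⟩ := IsPGroup.exists_card_eq hQ
    rw [ha]
    intro h0
    rw [CharP.cast_eq_zero_iff K p] at h0
    have := (Nat.prime_dvd_prime_iff_eq hp hq).mp (hp.dvd_of_dvd_pow h0)
    exact hpq this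
  set N : Module.End K V := ρ x - 1 with hN
  set d := finrank K V with hd
  set c := finrank K (comm N) with hc
  set E := finrank K (commutant ρ (Q : Set G)) with hE
  have hform := conj_dim_formula ρ (scalarSubgroup ρ) Q (Subgroup.zpowers x) hZs
    hQ.isNilpotent hchar hfpf
  have hc2 : finrank K (commutant ρ ((Q ⊔ Subgroup.zpowers x : Subgroup G) : Set G)) = 1 := by
    rw [hgen, Subgroup.coe_top]
    exact finrank_commutant_eq_one ρ _ hirr
  have hc3 : finrank K (commutant ρ ((Subgroup.zpowers x : Subgroup G) : Set G)) = c := by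
    rw [commutant_zpowers]
  have hcard : Nat.card ↥((Subgroup.zpowers x).map (QuotientGroup.mk' (scalarSubgroup ρ))) = P := by
    rw [← hcardx]
    symm
    apply Nat.card_eq_of_bijective ((QuotientGroup.mk' (scalarSubgroup ρ)).subgroupMap
      (Subgroup.zpowers x))
    refine ⟨?_, MonoidHom.subgroupMap_surjective _ _⟩
    rw [injective_iff_map_eq_one]
    rintro ⟨a, ha⟩ h1
    have h2 := congrArg Subtype.val h1
    have h3 : (QuotientGroup.mk' (scalarSubgroup ρ)) a = 1 := h2
    rw [QuotientGroup.mk'_apply, QuotientGroup.eq_one_iff] at h3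
    exact Subtype.ext (hxZ a ha h3)
  rw [hc2, hc3, hcard, mul_one] at hform
  have hE1 : 1 ≤ E := by
    rw [hE, Nat.succ_le_iff, Module.finrank_pos_iff_exists_ne_zero]
    refine ⟨⟨1, one_mem_commutant ρ _⟩, ?_⟩
    intro h0
    have := congrArg Subtype.val h0
    exact one_ne_zero this
  have hs0 : s ≠ 0 := by
    intro h0
    rw [h0, pow_zero] at hs
    exact one_ne_zero hs
  have hsP : s ≤ P := by
    by_contra hcon
    rw [not_le] at hcon
    apply hmin P hcon
    rw [hP]
    apply sub_one_pow_eq_zero p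
    rw [← map_pow, hx, map_one]
  have hsc : s ≤ c := le_finrank_comm N s hs hmin
  have hdsc : d ^ 2 ≤ s * c := sq_finrank_le s V N hs
  have hs1 : s ≠ 1 := by
    intro h1
    rw [h1, pow_one] at hs
    apply hx1
    refine ⟨1, ?_⟩
    rw [map_pow, sub_eq_zero.mp hs, one_pow, one_smul]
  have hs2 : 2 ≤ s := by omega
  obtain ⟨hA1, hA2⟩ := hb_arith P s c d E hs2 hsP hsc hdsc hE1 hform
  refine ⟨by omega, hsP, ?_⟩
  intro hsP1
  have hPpos : 1 ≤ P := by omega
  obtain ⟨hds, hEone⟩ := hA2 (by omega)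
  have hirrQ : IrrOn ρ (Q : Set G) := irrOn_of_finrank_commutant_eq_one ρ Q hchar hEone
  set ρQ : Representation K ↥Q V := ρ.comp Q.subtype with hρQ
  have hirrQ' : IrrOn ρQ Set.univ := by
    intro W hW
    exact hirrQ W (fun g hg => hW ⟨g, hg⟩ (Set.mem_univ _))
  obtain ⟨b, hb⟩ := finrank_eq_prime_pow (k := K) q (Nat.card ↥Q) ↥Q hQ rfl V ρQ hirrQ'
  refine ⟨b, ?_⟩
  rw [← hb, ← hd, hds, hsP1]

end Leaf

end Cfsg.Agent.Lib.Helper1.HB
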