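import Cfsg.Agent.Lib.Helper1.HB2

/-!
# Hall--Higman Theorem B: invariant subspaces, independence of common eigenvectors, averaging
-/

set_option autoImplicit false

namespace Cfsg.Agent.Lib.Helper1.HB

open scoped BigOperators
open Module Cfsg.Agent.Lib.Helper1.HH Cfsg.Agent.Lib.Helper1

section Stab

variable {K : Type*} [Field K] {W : Type*} [AddCommGroup W] [Module K W]
variable {G : Type*} [Group G] [Finite G]

/-- the elements of a finite group mapping `U` into itself. -/
def stabSub (ρ : Representation K G W) (U : Submodule K W) : Subgroup G where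
  carrier := {g | ∀ u ∈ U, ρ g u ∈ U}
  mul_mem' := fun {a b} ha hb u hu => by
    rw [map_mul]
    exact ha _ (hb u hu)
  one_mem' := fun u hu => by
    rw [map_one]
    exact hu
  inv_mem' := fun {a} ha => by
    have hpow : ∀ k : ℕ, ∀ u ∈ U, ρ (a ^ k) u ∈ U := by
      intro k
      induction k with
      | zero => intro u hu; rw [pow_zero, map_one]; exact hu
      | succ k ih =>
        intro u hu
        rw [pow_succ, map_mul]
        exact ih _ (ha u hu)
    have hinv : a⁻¹ = a ^ (orderOf a - 1) := by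
      have hpos : 0 < orderOf a := orderOf_pos a
      apply inv_eq_of_mul_eq_one_right
      rw [← pow_succ', Nat.sub_add_cancel hpos, pow_orderOf_eq_one]
    intro u hu
    show ρ a⁻¹ u ∈ U
    rw [hinv]
    exact hpow _ u hu

theorem mem_stabSub {ρ : Representation K G W} {U : Submodule K W} {g : G} :
    g ∈ stabSub ρ U ↔ ∀ u ∈ U, ρ g u ∈ U := Iff.rfl

theorem stabSub_eq_top (ρ : Representation K G W) (U : Submodule K W) (Q : Subgroup G) (x : G)
    (hgen : Q ⊔ Subgroup.zpowers x = ⊤) (hQ : ∀ f ∈ Q, ∀ u ∈ U, ρ f u ∈ U)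
    (hx : ∀ u ∈ U, ρ x u ∈ U) : ∀ g : G, ∀ u ∈ U, ρ g u ∈ U := by
  have h1 : Q ⊔ Subgroup.zpowers x ≤ stabSub ρ U := by
    apply sup_le
    · exact fun f hf => hQ f hf
    · rw [Subgroup.zpowers_le]
      exact hx
  intro g
  have : g ∈ stabSub ρ U := h1 (by rw [hgen]; exact Subgroup.mem_top g)
  exact this

end Stab

section Indep

variable {K : Type*} [Field K] {W : Type*} [AddCommGroup W] [Module K W]

/-- common eigenvectors for pairwise distinct eigenvalue functions are independent. -/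
theorem eq_zero_of_sum_eq_zero {ι : Type*} [DecidableEq ι] {A : Type*} (T : A → Module.End K W)
    (lam : ι → A → K) (s : Finset ι) :
    (∀ i ∈ s, ∀ j ∈ s, i ≠ j → ∃ a, lam i a ≠ lam j a) →
    ∀ v : ι → W, (∀ i ∈ s, ∀ a, T a (v i) = lam i a • v i) → ∑ i ∈ s, v i = 0 →
      ∀ i ∈ s, v i = 0 := by
  induction s using Finset.induction_on with
  | empty => intro _ v _ _ i hi; exact absurd hi (Finset.notMem_empty i)
  | insert i₀ s hi₀ ih =>
    intro hdist v hv hsum
    have hdist' : ∀ i ∈ s, ∀ j ∈ s, i ≠ j → ∃ a, lam i a ≠ lam j a := fun i hi j hj hij =>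
      hdist i (Finset.mem_insert_of_mem hi) j (Finset.mem_insert_of_mem hj) hij
    rw [Finset.sum_insert hi₀] at hsum
    -- apply `T a - lam i₀ a`
    have key : ∀ a, ∀ i ∈ s, (lam i a - lam i₀ a) • v i = 0 := by
      intro a
      apply ih hdist' (fun i => (lam i a - lam i₀ a) • v i)
      · intro i hi b
        rw [map_smul, hv i (Finset.mem_insert_of_mem hi) b, smul_comm]
      · have h1 : T a (v i₀ + ∑ i ∈ s, v i) = 0 := by rw [hsum, map_zero]
        rw [map_add, map_sum, hv i₀ (Finset.mem_insert_self _ _) a] at h1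
        have h2 : lam i₀ a • (v i₀ + ∑ i ∈ s, v i) = 0 := by rw [hsum, smul_zero]
        rw [smul_add, Finset.smul_sum] at h2
        have h3 : ∑ i ∈ s, T a (v i) - ∑ i ∈ s, lam i₀ a • v i = 0 := by
          have := congrArg₂ (· - ·) h1 h2
          simp only [sub_zero] at this
          rw [← this]
          abel
        rw [← Finset.sum_sub_distrib] at h3
        rw [← h3]
        apply Finset.sum_congr rfl
        intro i hi
        rw [hv i (Finset.mem_insert_of_mem hi) a, sub_smul]
    have hzero : ∀ i ∈ s, v i = 0 := by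
      intro i hi
      obtain ⟨a, ha⟩ := hdist i (Finset.mem_insert_of_mem hi) i₀ (Finset.mem_insert_self _ _)
        (fun h => hi₀ (h ▸ hi))
      rcases smul_eq_zero.mp (key a i hi) with h | h
      · exact absurd (sub_eq_zero.mp h) ha
      · exact h
    intro i hi
    rcases Finset.mem_insert.mp hi with rfl | hi
    · rw [Finset.sum_eq_zero hzero, add_zero] at hsum
      exact hsum
    · exact hzero i hi

end Indep

section Avg

variable {K : Type*} [Field K] {W : Type*} [AddCommGroup W] [Module K W]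
variable {G : Type*} [Group G]

/-- the averaging operator of a finite subgroup. -/
noncomputable def avg (ρ : Representation K G W) (R : Subgroup G) [Fintype R] : Module.End K W :=
  (Nat.card R : K)⁻¹ • ∑ g : R, ρ (g : G)

theorem mul_avg (ρ : Representation K G W) (R : Subgroup G) [Fintype R] (h : G) (hh : h ∈ R) :
    ρ h * avg ρ R = avg ρ R := by
  unfold avg
  rw [mul_smul_comm, Finset.mul_sum]
  congr 1
  refine (Fintype.sum_equiv (Equiv.mulLeft (⟨h, hh⟩ : R)) _ _ ?_)
  intro g
  simp only [Equiv.coe_mulLeft, Subgroup.coe_mul, map_mul]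

theorem avg_apply_of_fixed (ρ : Representation K G W) (R : Subgroup G) [Fintype R]
    (hchar : (Nat.card R : K) ≠ 0) (u : W) (hu : ∀ g ∈ R, ρ g u = u) : avg ρ R u = u := by
  unfold avg
  rw [LinearMap.smul_apply, LinearMap.sum_apply,
    Finset.sum_congr rfl (fun (g : R) _ => hu (g : G) g.2), Finset.sum_const, Finset.card_univ,
    ← Nat.card_eq_fintype_card, ← Nat.cast_smul_eq_nsmul K, smul_smul, inv_mul_cancel₀ hchar, one_smul]

theorem avg_mul_avg (ρ : Representation K G W) (R : Subgroup G) [Fintype R]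
    (hchar : (Nat.card R : K) ≠ 0) : avg ρ R * avg ρ R = avg ρ R := by
  have h1 : avg ρ R * avg ρ R = ((Nat.card R : K)⁻¹ • ∑ g : R, ρ (g : G)) * avg ρ R := rfl
  rw [h1, smul_mul_assoc, Finset.sum_mul,
    Finset.sum_congr rfl (fun (g : R) _ => mul_avg ρ R (g : G) g.2), Finset.sum_const,
    Finset.card_univ, ← Nat.card_eq_fintype_card, ← Nat.cast_smul_eq_nsmul K, smul_smul,
    inv_mul_cancel₀ hchar, one_smul]

theorem avg_comm (ρ : Representation K G W) (R : Subgroup G) [R.Normal] [Fintype R] (h : G) :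
    ρ h * avg ρ R = avg ρ R * ρ h := by
  unfold avg
  rw [mul_smul_comm, smul_mul_assoc, Finset.mul_sum, Finset.sum_mul]
  congr 1
  refine (Fintype.sum_equiv (MulAut.conjNormal h : R ≃* R).toEquiv _ _ ?_)
  intro g
  show ρ h * ρ (g : G) = ρ ((MulAut.conjNormal h g : R) : G) * ρ h
  rw [MulAut.conjNormal_apply, map_mul, map_mul, mul_assoc, mul_assoc, ← map_mul ρ h⁻¹ h,
    inv_mul_cancel, map_one, mul_one]

end Avg


section Irr

variable {K : Type*} [Field K] {W : Type*} [AddCommGroup W] [Module K W]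
variable {G : Type*} [Group G] [Finite G]

/-- if a set `S` of elements of a normal `p'`-subgroup `Q` acts trivially on every proper invariant
subspace but not on the whole space, the representation is irreducible. -/
theorem irr_of_fixed (ρ : Representation K G W) (Q : Subgroup G) [Q.Normal]
    (hcharR : ∀ R : Subgroup G, R ≤ Q → (Nat.card R : K) ≠ 0) (S : Set G) (hSQ : S ⊆ Q)
    (hfix : ∀ U' : Submodule K W, (∀ g : G, ∀ u ∈ U', ρ g u ∈ U') → U' ≠ ⊤ →
      ∀ c ∈ S, ∀ u ∈ U', ρ c u = u)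
    (hact : ∃ c ∈ S, ρ c ≠ 1) : IrrOn ρ Set.univ := by
  classical
  intro U' hU'
  by_contra hcon
  push Not at hcon
  obtain ⟨hbot, htop⟩ := hcon
  have hinv : ∀ g : G, ∀ u ∈ U', ρ g u ∈ U' := fun g u hu => hU' g (Set.mem_univ g) ⟨u, hu, rfl⟩
  have e2 : ∀ g : G, ρ g⁻¹ * ρ g = 1 := fun g => by rw [← map_mul, inv_mul_cancel, map_one]
  have e3 : ∀ g : G, ρ g * ρ g⁻¹ = 1 := fun g => by rw [← map_mul, mul_inv_cancel, map_one]
  let R : Subgroup G :=
    { carrier := {g | g ∈ Q ∧ ∀ U'' : Submodule K W, (∀ g' : G, ∀ u ∈ U'', ρ g' u ∈ U'') →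
        U'' ≠ ⊤ → ∀ u ∈ U'', ρ g u = u}
      mul_mem' := by
        rintro a b ⟨ha, ha2⟩ ⟨hb, hb2⟩
        refine ⟨Q.mul_mem ha hb, ?_⟩
        intro U'' h1 h2 u hu
        rw [map_mul]
        show ρ a (ρ b u) = u
        rw [hb2 U'' h1 h2 u hu, ha2 U'' h1 h2 u hu]
      one_mem' := by
        refine ⟨Q.one_mem, ?_⟩
        intro U'' _ _ u _
        rw [map_one]
        rfl
      inv_mem' := by
        rintro a ⟨ha, ha2⟩
        refine ⟨Q.inv_mem ha, ?_⟩
        intro U'' h1 h2 u hu
        have h3 : ρ a⁻¹ (ρ a u) = u := LinearMap.congr_fun (e2 a) u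
        rw [ha2 U'' h1 h2 u hu] at h3
        exact h3 }
  have hRmem : ∀ g, g ∈ R ↔ (g ∈ Q ∧ ∀ U'' : Submodule K W, (∀ g' : G, ∀ u ∈ U'', ρ g' u ∈ U'') →
        U'' ≠ ⊤ → ∀ u ∈ U'', ρ g u = u) := fun g => Iff.rfl
  haveI hRn : R.Normal := by
    constructor
    intro a ha g
    rw [hRmem] at ha ⊢
    obtain ⟨ha, ha2⟩ := ha
    refine ⟨Subgroup.Normal.conj_mem inferInstance a ha g, ?_⟩
    intro U'' h1 h2 u hu
    rw [map_mul, map_mul]
    show ρ g (ρ a (ρ g⁻¹ u)) = u
    rw [ha2 U'' h1 h2 _ (h1 g⁻¹ u hu)]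
    exact LinearMap.congr_fun (e3 g) u
  haveI : Fintype R := Fintype.ofFinite R
  have hcR : (Nat.card R : K) ≠ 0 := hcharR R (fun g hg => hg.1)
  have hSR : ∀ c ∈ S, c ∈ R := fun c hc => ⟨hSQ hc, fun U'' h1 h2 u hu => hfix U'' h1 h2 c hc u hu⟩
  set e := avg ρ R with he
  have he1 : ∀ u ∈ U', e u = u := by
    intro u hu
    apply avg_apply_of_fixed ρ R hcR
    intro g hg
    exact hg.2 U' hinv htop u hu
  have hkinv : ∀ g : G, ∀ u ∈ LinearMap.ker e, ρ g u ∈ LinearMap.ker e := by
    intro g u hu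
    rw [LinearMap.mem_ker] at hu ⊢
    have := LinearMap.congr_fun (avg_comm ρ R g) u
    have h2 : e (ρ g u) = ρ g (e u) := this.symm
    rw [h2, hu, map_zero]
  have hktop : LinearMap.ker e ≠ ⊤ := by
    intro h
    obtain ⟨u, hu, hu0⟩ := (Submodule.ne_bot_iff _).mp hbot
    apply hu0
    have : u ∈ LinearMap.ker e := by rw [h]; exact Submodule.mem_top
    rw [LinearMap.mem_ker, he1 u hu] at this
    exact this
  have hkbot : ∀ u ∈ LinearMap.ker e, u = 0 := by
    intro u hu
    have h1 : e u = u := by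
      apply avg_apply_of_fixed ρ R hcR
      intro g hg
      exact hg.2 _ hkinv hktop u hu
    rw [LinearMap.mem_ker] at hu
    rw [← h1, hu]
  have hid : ∀ u, e u = u := by
    intro u
    have h1 : e (e u - u) = 0 := by
      rw [map_sub]
      have := LinearMap.congr_fun (avg_mul_avg ρ R hcR) u
      have h2 : e (e u) = e u := this
      rw [h2, sub_self]
    have := hkbot _ (LinearMap.mem_ker.mpr h1)
    exact sub_eq_zero.mp this
  obtain ⟨c, hc, hc1⟩ := hact
  apply hc1
  apply LinearMap.ext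
  intro u
  have h1 := LinearMap.congr_fun (mul_avg ρ R c (hSR c hc)) u
  have h2 : ρ c (e u) = e u := h1
  rw [hid u] at h2
  exact h2

end Irr

end Cfsg.Agent.Lib.Helper1.HB
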