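import Cfsg.Agent.Lib.Helper1.HB3

/-!
# Hall--Higman Theorem B: the inductive statement and the Clifford step
-/

set_option autoImplicit false

namespace Cfsg.Agent.Lib.Helper1.HB

open scoped BigOperators
open Module Cfsg.Agent.Lib.Helper1.HH Cfsg.Agent.Lib.Helper1

universe u v

section Defs

variable (K : Type*) [Field K] (p q : ℕ)

/-- the inductive statement, relative to an invariant subspace `U` and an `x`-invariant
`q`-subgroup `Q`. -/
def CoreProp (m : ℕ) : Prop :=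
  ∀ (G : Type u) [Group G] [Finite G] (W : Type v) [AddCommGroup W] [Module K W]
    [FiniteDimensional K W] (ρ : Representation K G W) (U : Submodule K W) (Q : Subgroup G)
    (x : G) (n r : ℕ),
    IsPGroup q Q → x ∈ Subgroup.normalizer (Q : Set G) → x ^ p ^ (n + 1) = 1 →
    (∀ f ∈ Q, ∀ u ∈ U, ρ f u ∈ U) → (∀ u ∈ U, ρ x u ∈ U) →
    (∃ f ∈ Q, ∃ u ∈ U, ρ (f * x ^ p ^ n * f⁻¹ * (x ^ p ^ n)⁻¹) u ≠ u) →
    finrank K U + Nat.card Q = m → NilIdx (ρ x - 1) U r → Concl p q (n + 1) r Q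

end Defs

section Eig

variable {K : Type*} [Field K] {W : Type*} [AddCommGroup W] [Module K W]
variable {G : Type*} [Group G]

/-- the common eigenspace of the operators `ρ a`, `a ∈ A`, for the eigenvalue function `μ`. -/
def eigSub (ρ : Representation K G W) (A : Subgroup G) (μ : G → K) : Submodule K W where
  carrier := {w | ∀ a ∈ A, ρ a w = μ a • w}
  add_mem' := fun {u v} hu hv a ha => by rw [map_add, hu a ha, hv a ha, smul_add]
  zero_mem' := fun a _ => by rw [map_zero, smul_zero]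
  smul_mem' := fun c u hu a ha => by rw [map_smul, hu a ha, smul_comm]

theorem mem_eigSub {ρ : Representation K G W} {A : Subgroup G} {μ : G → K} {w : W} :
    w ∈ eigSub ρ A μ ↔ ∀ a ∈ A, ρ a w = μ a • w := Iff.rfl

/-- the conjugate eigenvalue function. -/
def conjFun (μ : G → K) (g : G) : G → K := fun a => μ (g⁻¹ * a * g)

theorem map_eigSub (ρ : Representation K G W) (A : Subgroup G) [A.Normal] (μ : G → K) (g : G) :
    (eigSub ρ A μ).map (ρ g) = eigSub ρ A (conjFun μ g) := by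
  ext w
  constructor
  · rintro ⟨u, hu, rfl⟩
    intro a ha
    have ha' : g⁻¹ * a * g ∈ A := by
      have := Subgroup.Normal.conj_mem (inferInstance : A.Normal) a ha g⁻¹
      rwa [inv_inv] at this
    have h1 : ρ a * ρ g = ρ g * ρ (g⁻¹ * a * g) := by
      rw [← map_mul, ← map_mul]
      congr 1
      group
    have h2 : ρ a (ρ g u) = ρ g (ρ (g⁻¹ * a * g) u) := LinearMap.congr_fun h1 u
    rw [h2, hu _ ha', map_smul]
    rfl
  · intro hw
    refine ⟨ρ g⁻¹ w, ?_, ?_⟩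
    · intro a ha
      have ha' : g * a * g⁻¹ ∈ A := Subgroup.Normal.conj_mem (inferInstance : A.Normal) a ha g
      have h1 : ρ a * ρ g⁻¹ = ρ g⁻¹ * ρ (g * a * g⁻¹) := by
        rw [← map_mul, ← map_mul]
        congr 1
        group
      have h2 : ρ a (ρ g⁻¹ w) = ρ g⁻¹ (ρ (g * a * g⁻¹) w) := LinearMap.congr_fun h1 w
      rw [mem_eigSub] at hw
      rw [h2, hw _ ha', map_smul]
      congr 1
      show μ (g⁻¹ * (g * a * g⁻¹) * g) = μ a
      congr 1
      group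
    · have h1 : ρ g * ρ g⁻¹ = 1 := by rw [← map_mul, mul_inv_cancel, map_one]
      exact LinearMap.congr_fun h1 w

theorem eigSub_inv (ρ : Representation K G W) (A : Subgroup G) (μ : G → K) (f : G)
    (hf : ∀ a ∈ A, ρ a * ρ f = ρ f * ρ a) : ∀ w ∈ eigSub ρ A μ, ρ f w ∈ eigSub ρ A μ := by
  intro w hw a ha
  have h2 : ρ a (ρ f w) = ρ f (ρ a w) := LinearMap.congr_fun (hf a ha) w
  rw [h2, hw a ha, map_smul]

theorem comm_conj (g f x₁ : G) (hg : g * x₁ = x₁ * g) :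
    f * x₁ * f⁻¹ * x₁⁻¹ * g = g * ((g⁻¹ * f * g) * x₁ * (g⁻¹ * f * g)⁻¹ * x₁⁻¹) := by
  have hg' : x₁⁻¹ * g = g * x₁⁻¹ := by
    have : x₁⁻¹ * (g * x₁) * x₁⁻¹ = x₁⁻¹ * (x₁ * g) * x₁⁻¹ := by rw [hg]
    calc x₁⁻¹ * g = x₁⁻¹ * (g * x₁) * x₁⁻¹ := by group
      _ = x₁⁻¹ * (x₁ * g) * x₁⁻¹ := this
      _ = g * x₁⁻¹ := by group
  calc f * x₁ * f⁻¹ * x₁⁻¹ * g = f * x₁ * f⁻¹ * (x₁⁻¹ * g) := by group
    _ = f * x₁ * f⁻¹ * (g * x₁⁻¹) := by rw [hg']
    _ = f * (x₁ * g) * (g⁻¹ * f⁻¹ * g) * x₁⁻¹ := by group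
    _ = f * (g * x₁) * (g⁻¹ * f⁻¹ * g) * x₁⁻¹ := by rw [hg]
    _ = g * ((g⁻¹ * f * g) * x₁ * (g⁻¹ * f * g)⁻¹ * x₁⁻¹) := by group

end Eig

end Cfsg.Agent.Lib.Helper1.HB
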