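import Cfsg.Agent.Lib.Helper1.HB4

/-!
# Hall--Higman Theorem B: abelian normal subgroups act by scalars (Clifford step)
-/

set_option autoImplicit false

namespace Cfsg.Agent.Lib.Helper1.HB

open scoped BigOperators
open Module Cfsg.Agent.Lib.Helper1.HH Cfsg.Agent.Lib.Helper1

universe u v

section StepC

variable {K : Type*} [Field K] [IsAlgClosed K] {p q : ℕ} [Fact p.Prime] [Fact q.Prime] [CharP K p]

set_option maxHeartbeats 1600000 in
theorem stepC (m : ℕ) (IH : ∀ m' < m, CoreProp.{u, v} K p q m')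
    (G : Type u) [Group G] [Finite G] (W : Type v) [AddCommGroup W] [Module K W]
    [FiniteDimensional K W] (ρ : Representation K G W) (Q : Subgroup G) [Q.Normal] (x : G)
    (n r : ℕ) (hQ : IsPGroup q Q) (hgen : Q ⊔ Subgroup.zpowers x = ⊤)
    (hx : x ^ p ^ (n + 1) = 1)
    (hact : ∃ f ∈ Q, ρ (f * x ^ p ^ n * f⁻¹ * (x ^ p ^ n)⁻¹) ≠ 1)
    (hm : finrank K W + Nat.card Q = m) (hs : (ρ x - 1) ^ r = 0)
    (hmin : ∀ j < r, (ρ x - 1) ^ j ≠ 0) (hnc : ¬ Concl p q (n + 1) r Q)
    (hirr : IrrOn ρ Set.univ) (A : Subgroup G) [A.Normal] (hAQ : A ≤ Q)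
    (hcomm : ∀ a ∈ A, ∀ f ∈ Q, ρ a * ρ f = ρ f * ρ a) :
    ∀ a ∈ A, a ∈ scalarSubgroup ρ := by
  classical
  have hp : p.Prime := Fact.out
  haveI : Nontrivial W := by
    obtain ⟨f, _, hf⟩ := hact
    by_contra hW
    rw [not_nontrivial_iff_subsingleton] at hW
    apply hf
    apply LinearMap.ext
    intro u
    exact Subsingleton.elim _ _
  haveI : CharP (Module.End K W) p :=
    charP_of_injective_algebraMap (algebraMap K (Module.End K W)).injective p
  have e2 : ∀ g : G, ρ g⁻¹ * ρ g = 1 := fun g => by rw [← map_mul, inv_mul_cancel, map_one]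
  have e3 : ∀ g : G, ρ g * ρ g⁻¹ = 1 := fun g => by rw [← map_mul, mul_inv_cancel, map_one]
  have hrP : r ≤ p ^ (n + 1) := by
    by_contra hcon
    rw [not_le] at hcon
    apply hmin _ hcon
    apply sub_one_pow_eq_zero p
    rw [← map_pow, hx, map_one]
  -- a minimal nonzero `A`-invariant subspace
  let 𝒮 : Set (Submodule K W) := {U | U ≠ ⊥ ∧ ∀ a ∈ A, ∀ u ∈ U, ρ a u ∈ U}
  have h𝒮 : 𝒮.Nonempty := ⟨⊤, top_ne_bot, fun _ _ _ _ => Submodule.mem_top⟩
  obtain ⟨W₀, ⟨hW₀ne, hW₀inv⟩, hW₀min⟩ := wellFounded_lt.has_min 𝒮 h𝒮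
  have hscal : ∀ a, a ∈ A → ∃ μ : K, ∀ w ∈ W₀, ρ a w = μ • w := by
    intro a ha
    haveI : Nontrivial W₀ := Submodule.nontrivial_iff_ne_bot.mpr hW₀ne
    set Ta : Module.End K W₀ := (ρ a).restrict (hW₀inv a ha) with hTa
    obtain ⟨μ, hμ⟩ := Module.End.exists_eigenvalue Ta
    obtain ⟨w₀, hw₀⟩ := hμ.exists_hasEigenvector
    refine ⟨μ, ?_⟩
    let E : Submodule K W := W₀ ⊓ Module.End.eigenspace (ρ a) μ
    have hE : E ∈ 𝒮 := by
      constructor
      · rw [Submodule.ne_bot_iff]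
        refine ⟨(w₀ : W), ⟨w₀.2, ?_⟩, ?_⟩
        · rw [SetLike.mem_coe, Module.End.mem_eigenspace_iff]
          have h1 := Module.End.mem_eigenspace_iff.mp hw₀.1
          have h2 := congrArg Subtype.val h1
          rw [hTa, LinearMap.restrict_coe_apply] at h2
          exact h2
        · intro h0
          exact hw₀.2 (Subtype.ext h0)
      · intro b hb u hu
        refine ⟨hW₀inv b hb u hu.1, ?_⟩
        rw [SetLike.mem_coe, Module.End.mem_eigenspace_iff]
        have h1 := Module.End.mem_eigenspace_iff.mp hu.2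
        have h2 : ρ a (ρ b u) = ρ b (ρ a u) := LinearMap.congr_fun (hcomm a ha b (hAQ hb)) u
        rw [h2, h1, map_smul]
    have hEle : E ≤ W₀ := inf_le_left
    have hEeq : E = W₀ := by
      by_contra hne
      exact hW₀min E hE (lt_of_le_of_ne hEle hne)
    intro w hw
    have hwE : w ∈ E := by rw [hEeq]; exact hw
    exact Module.End.mem_eigenspace_iff.mp hwE.2
  choose! lam hlam using hscal
  set U₀ := eigSub ρ A lam with hU₀
  have hW₀U₀ : W₀ ≤ U₀ := fun w hw a ha => hlam a ha w hw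
  have hU₀ne : U₀ ≠ ⊥ := fun h => hW₀ne (le_bot_iff.mp (h ▸ hW₀U₀))
  have hQinv : ∀ μ : G → K, ∀ f ∈ Q, ∀ w ∈ eigSub ρ A μ, ρ f w ∈ eigSub ρ A μ :=
    fun μ f hf => eigSub_inv ρ A μ f (fun a ha => hcomm a ha f hf)
  have hmapone : U₀.map (ρ 1) = U₀ := by
    rw [map_one]
    exact Submodule.map_id U₀
  -- the stabilizer of `U₀` in `⟨x⟩`
  have hJ : ∃ j, 0 < j ∧ U₀.map (ρ (x ^ j)) = U₀ :=
    ⟨p ^ (n + 1), pow_pos hp.pos _, by rw [hx]; exact hmapone⟩
  set t := Nat.find hJ with ht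
  have ht1 : 0 < t ∧ U₀.map (ρ (x ^ t)) = U₀ := Nat.find_spec hJ
  have htmin : ∀ j, 0 < j → j < t → U₀.map (ρ (x ^ j)) ≠ U₀ :=
    fun j hj hjt h => Nat.find_min hJ hjt ⟨hj, h⟩
  have hmul : ∀ a : ℕ, U₀.map (ρ (x ^ (t * a))) = U₀ := by
    intro a
    induction a with
    | zero => rw [mul_zero, pow_zero]; exact hmapone
    | succ a ih =>
      rw [Nat.mul_succ, pow_add, map_mul, Module.End.mul_eq_comp, Submodule.map_comp, ht1.2, ih]
  have htdvd : t ∣ p ^ (n + 1) := by
    have hb : p ^ (n + 1) % t < t := Nat.mod_lt _ ht1.1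
    have hdecomp : p ^ (n + 1) = p ^ (n + 1) % t + t * (p ^ (n + 1) / t) := (Nat.mod_add_div _ _).symm
    have h1 : U₀.map (ρ (x ^ (p ^ (n + 1) % t))) = U₀ := by
      have h2 : U₀.map (ρ (x ^ (p ^ (n + 1)))) = U₀ := by rw [hx]; exact hmapone
      rw [hdecomp, pow_add, map_mul, Module.End.mul_eq_comp, Submodule.map_comp, hmul] at h2
      exact h2
    by_contra hnd
    have hb0 : 0 < p ^ (n + 1) % t :=
      Nat.pos_of_ne_zero (fun h0 => hnd (Nat.dvd_of_mod_eq_zero h0))
    exact htmin _ hb0 hb h1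
  obtain ⟨k, hk, htk⟩ := (Nat.dvd_prime_pow hp).mp htdvd
  -- translates of `U₀`
  have htrans : ∀ j : ℕ, U₀.map (ρ (x ^ j)) = eigSub ρ A (conjFun lam (x ^ j)) :=
    fun j => map_eigSub ρ A lam (x ^ j)
  by_cases ht1' : t = 1
  · -- `U₀` is invariant: `A` acts by scalars
    have hxinv : ∀ u ∈ U₀, ρ x u ∈ U₀ := by
      intro u hu
      have h1 := ht1.2
      rw [ht1', pow_one] at h1
      rw [← h1]
      exact ⟨u, hu, rfl⟩
    have hall := stabSub_eq_top ρ U₀ Q x hgen (hQinv lam) hxinv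
    have h2 := hirr U₀ (fun g _ => by rintro _ ⟨u, hu, rfl⟩; exact hall g u hu)
    rcases h2 with h | h
    · exact absurd h hU₀ne
    · intro a ha
      refine ⟨lam a, ?_⟩
      apply LinearMap.ext
      intro w
      have hw : w ∈ U₀ := by rw [h]; exact Submodule.mem_top
      rw [hw a ha]
      rfl
  exfalso
  apply hnc
  have ht2 : 2 ≤ t := by omega
  -- distinct eigenvalue functions
  have hinj : ∀ i : ℕ, Function.Injective (ρ (x ^ i)) := by
    intro i
    apply Function.LeftInverse.injective (g := ρ (x ^ i)⁻¹)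
    intro w
    exact LinearMap.congr_fun (e2 (x ^ i)) w
  have hdist0 : ∀ i j : ℕ, i < j → j < t →
      ∃ a : A, conjFun lam (x ^ i) (a : G) ≠ conjFun lam (x ^ j) (a : G) := by
    intro i j hij hjt
    by_contra hall
    push Not at hall
    have h1 : eigSub ρ A (conjFun lam (x ^ i)) = eigSub ρ A (conjFun lam (x ^ j)) := by
      ext w
      constructor
      · intro hw a ha
        rw [← hall ⟨a, ha⟩]
        exact hw a ha
      · intro hw a ha
        rw [hall ⟨a, ha⟩]
        exact hw a ha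
    rw [← htrans, ← htrans] at h1
    have h2 : x ^ j = x ^ i * x ^ (j - i) := by rw [← pow_add, Nat.add_sub_cancel' hij.le]
    rw [h2, map_mul, Module.End.mul_eq_comp, Submodule.map_comp] at h1
    have h3 := Submodule.map_injective_of_injective (hinj i) h1
    exact htmin (j - i) (by omega) (by omega) h3.symm
  have hdist : ∀ i ∈ Finset.range t, ∀ j ∈ Finset.range t, i ≠ j →
      ∃ a : A, conjFun lam (x ^ i) (a : G) ≠ conjFun lam (x ^ j) (a : G) := by
    intro i hi j hj hij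
    rw [Finset.mem_range] at hi hj
    rcases lt_or_gt_of_ne hij with h | h
    · exact hdist0 i j h hj
    · obtain ⟨a, ha⟩ := hdist0 j i h hi
      exact ⟨a, fun h' => ha h'.symm⟩
  -- the nilpotency index of `x ^ t` on `U₀`
  set N₁ : Module.End K W := ρ (x ^ t) - 1 with hN₁
  have hN₁nil : N₁ ^ p ^ (n + 1 - k) = 0 := by
    apply sub_one_pow_eq_zero p
    rw [← map_pow, ← pow_mul, htk, ← pow_add, Nat.add_sub_cancel' hk, hx, map_one]
  obtain ⟨r₁, hr₁le, hr₁⟩ := exists_nilIdx N₁ U₀ _ (fun u _ => by rw [hN₁nil]; rfl)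
  have hr₁pos : 0 < r₁ := by
    by_contra h0
    have h0' : r₁ = 0 := by omega
    obtain ⟨u, hu, hu0⟩ := (Submodule.ne_bot_iff _).mp hU₀ne
    have h1 := hr₁.1 u hu
    rw [h0', pow_zero] at h1
    exact hu0 h1
  have hxtinv : ∀ u ∈ U₀, ρ (x ^ t) u ∈ U₀ := by
    intro u hu
    have h1 := ht1.2
    rw [← h1]
    exact ⟨u, hu, rfl⟩
  have hN₁inv : ∀ j : ℕ, ∀ u ∈ U₀, (N₁ ^ j) u ∈ U₀ := by
    intro j
    induction j with
    | zero => intro u hu; rw [pow_zero]; exact hu
    | succ j ih =>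
      intro u hu
      rw [pow_succ]
      show (N₁ ^ j) (N₁ u) ∈ U₀
      apply ih
      rw [hN₁]
      show ρ (x ^ t) u - u ∈ U₀
      exact U₀.sub_mem (hxtinv u hu) hu
  -- the key inequality
  have hkey : t * r₁ ≤ r := by
    by_contra hcon
    rw [not_le] at hcon
    have hzero : (ρ x - 1) ^ (t * r₁ - 1) = 0 := by
      have h1 : r ≤ t * r₁ - 1 := by omega
      obtain ⟨c, hc⟩ := Nat.exists_eq_add_of_le h1
      rw [hc, pow_add, hs, zero_mul]
    obtain ⟨u, hu, hune⟩ := hr₁.2 (r₁ - 1) (by omega)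
    have hwU : (N₁ ^ (r₁ - 1)) u ∈ U₀ := hN₁inv _ u hu
    have hNt : (ρ x - 1) ^ t = N₁ := by
      rw [htk, sub_pow_char_pow_of_commute p k (Commute.one_right _), one_pow, ← map_pow, ← htk]
    have hsum : (ρ x - 1) ^ (t - 1) = ∑ i ∈ Finset.range t, (ρ x) ^ i := by
      rw [htk]
      exact sub_one_pow_eq_sum (K := K) p (ρ x) k
    have hdecomp : (ρ x - 1) ^ (t * r₁ - 1) = (∑ i ∈ Finset.range t, (ρ x) ^ i) * N₁ ^ (r₁ - 1) := by
      obtain ⟨s₁, rfl⟩ : ∃ s₁, r₁ = s₁ + 1 := ⟨r₁ - 1, by omega⟩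
      have h1 : t * (s₁ + 1) - 1 = (t - 1) + t * s₁ := by
        rw [Nat.mul_succ]
        omega
      rw [h1, pow_add, pow_mul, hNt, hsum, Nat.add_sub_cancel]
    have h0 := LinearMap.congr_fun hzero u
    rw [hdecomp] at h0
    have h1 : ∑ i ∈ Finset.range t, ((ρ x) ^ i) ((N₁ ^ (r₁ - 1)) u) = 0 := by
      have h2 : ((∑ i ∈ Finset.range t, (ρ x) ^ i) * N₁ ^ (r₁ - 1)) u
          = ∑ i ∈ Finset.range t, ((ρ x) ^ i) ((N₁ ^ (r₁ - 1)) u) := by
        show (∑ i ∈ Finset.range t, (ρ x) ^ i) ((N₁ ^ (r₁ - 1)) u) = _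
        rw [LinearMap.sum_apply]
      rw [← h2]
      exact h0
    have h3 := eq_zero_of_sum_eq_zero (ι := ℕ) (A := A) (fun a => ρ (a : G))
      (fun i a => conjFun lam (x ^ i) (a : G)) (Finset.range t) hdist
      (fun i => ((ρ x) ^ i) ((N₁ ^ (r₁ - 1)) u)) (by
        intro i _ a
        have h4 : ((ρ x) ^ i) ((N₁ ^ (r₁ - 1)) u) ∈ eigSub ρ A (conjFun lam (x ^ i)) := by
          rw [← htrans, map_pow]
          exact ⟨_, hwU, rfl⟩
        exact h4 a a.2) h1 0 (Finset.mem_range.mpr ht1.1)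
    rw [pow_zero] at h3
    exact hune h3
  have hktop : U₀ ≠ ⊤ := by
    intro h
    have h1 : U₀.map (ρ (x ^ 1)) = U₀ := by
      rw [h, Submodule.map_top, LinearMap.range_eq_top]
      apply Function.RightInverse.surjective (g := ρ (x ^ 1)⁻¹)
      intro w
      exact LinearMap.congr_fun (e3 (x ^ 1)) w
    exact htmin 1 one_pos (by omega) h1
  by_cases hkn : k = n + 1
  · -- `x ^ t = 1`
    have hxt : x ^ t = 1 := by rw [htk, hkn, hx]
    have h1 : r₁ ≤ 1 := by
      apply hr₁.le_of_zero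
      intro u _
      rw [pow_one, hN₁, hxt, map_one, sub_self]
      rfl
    have h2 : r₁ = 1 := by omega
    left
    rw [h2, mul_one, htk, hkn] at hkey
    omega
  · have hkn' : k ≤ n := by omega
    have hlt : finrank K U₀ + Nat.card Q < m := by
      rw [← hm]
      exact Nat.add_lt_add_right (Submodule.finrank_lt hktop) _
    have hpow1 : (x ^ t) ^ p ^ (n - k + 1) = 1 := by
      rw [← pow_mul, htk, ← pow_add]
      have : k + (n - k + 1) = n + 1 := by omega
      rw [this, hx]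
    have hpow2 : (x ^ t) ^ p ^ (n - k) = x ^ p ^ n := by
      rw [← pow_mul, htk, ← pow_add, Nat.add_sub_cancel' hkn']
    have hnontriv : ∃ f ∈ Q, ∃ u ∈ U₀,
        ρ (f * (x ^ t) ^ p ^ (n - k) * f⁻¹ * ((x ^ t) ^ p ^ (n - k))⁻¹) u ≠ u := by
      by_contra hall
      push Not at hall
      rw [hpow2] at hall
      -- the sum of the translates is everything
      set S : Submodule K W := ⨆ i : ℕ, U₀.map (ρ (x ^ i)) with hS
      have hSQ : ∀ f ∈ Q, ∀ u ∈ S, ρ f u ∈ S := by
        intro f hf u hu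
        have h1 : S.map (ρ f) ≤ S := by
          rw [hS, Submodule.map_iSup]
          apply iSup_mono
          intro i
          rw [htrans]
          rintro _ ⟨w, hw, rfl⟩
          exact hQinv _ f hf w hw
        exact h1 ⟨u, hu, rfl⟩
      have hSx : ∀ u ∈ S, ρ x u ∈ S := by
        intro u hu
        have h1 : S.map (ρ x) ≤ S := by
          rw [hS, Submodule.map_iSup]
          apply iSup_le
          intro i
          have h2 : (U₀.map (ρ (x ^ i))).map (ρ x) = U₀.map (ρ (x ^ (i + 1))) := by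
            rw [← Submodule.map_comp, ← Module.End.mul_eq_comp, ← map_mul, ← pow_succ']
          rw [h2]
          exact le_iSup (fun i : ℕ => U₀.map (ρ (x ^ i))) (i + 1)
        exact h1 ⟨u, hu, rfl⟩
      have hall' := stabSub_eq_top ρ S Q x hgen hSQ hSx
      have hStop : S = ⊤ := by
        rcases hirr S (fun g _ => by rintro _ ⟨u, hu, rfl⟩; exact hall' g u hu) with h | h
        · exfalso
          apply hU₀ne
          rw [eq_bot_iff, ← h]
          have := le_iSup (fun i : ℕ => U₀.map (ρ (x ^ i))) 0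
          simp only [pow_zero] at this
          rw [hmapone] at this
          exact this
        · exact h
      obtain ⟨f, hf, hfne⟩ := hact
      apply hfne
      set x₁ := x ^ p ^ n with hx₁
      -- the fixed space of the commutator contains every translate
      have hfix : S ≤ LinearMap.ker (ρ (f * x₁ * f⁻¹ * x₁⁻¹) - 1) := by
        rw [hS]
        apply iSup_le
        intro i
        rintro _ ⟨u, hu, rfl⟩
        rw [LinearMap.mem_ker, LinearMap.sub_apply, sub_eq_zero]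
        have hcommx : x ^ i * x₁ = x₁ * x ^ i := by
          rw [hx₁, ← pow_add, ← pow_add, add_comm]
        have h1 := comm_conj (x ^ i) f x₁ hcommx
        have h2 : ρ (f * x₁ * f⁻¹ * x₁⁻¹) (ρ (x ^ i) u)
            = ρ (x ^ i) (ρ (((x ^ i)⁻¹ * f * x ^ i) * x₁ * ((x ^ i)⁻¹ * f * x ^ i)⁻¹ * x₁⁻¹) u) := by
          have := congrArg (fun g => ρ g u) h1
          simp only [map_mul] at this
          simp only [map_mul]
          exact this
        rw [h2]
        have hfQ : (x ^ i)⁻¹ * f * x ^ i ∈ Q := by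
          have := Subgroup.Normal.conj_mem (inferInstance : Q.Normal) f hf (x ^ i)⁻¹
          rwa [inv_inv] at this
        rw [hall _ hfQ u hu]
        rfl
      rw [hStop] at hfix
      apply LinearMap.ext
      intro w
      have := hfix (Submodule.mem_top : w ∈ ⊤)
      rw [LinearMap.mem_ker, LinearMap.sub_apply, sub_eq_zero] at this
      exact this
    have hnorm : x ^ t ∈ Subgroup.normalizer (Q : Set G) := by
      rw [Subgroup.normalizer_eq_top]
      exact Subgroup.mem_top _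
    have hres := IH _ hlt G W ρ U₀ Q (x ^ t) (n - k) r₁ hQ hnorm hpow1 (hQinv lam) hxtinv
      hnontriv rfl hr₁
    have hres' : Concl p q (n + 1 - k) r₁ Q := by
      have : n + 1 - k = n - k + 1 := by omega
      rw [this]
      exact hres
    exact Concl.step (by omega) hres' (by rw [← htk]; exact hkey) hrP

end StepC

end Cfsg.Agent.Lib.Helper1.HB
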