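import Cfsg.Agent.Lib.Helper1.HB5
import Cfsg.Agent.Lib.Helper1.PGroup

/-!
# Hall--Higman Theorem B: the node of the induction when `G = Q⟨x⟩` acts on the whole space
-/

set_option autoImplicit false

namespace Cfsg.Agent.Lib.Helper1.HB

open scoped BigOperators
open Module Cfsg.Agent.Lib.Helper1.HH Cfsg.Agent.Lib.Helper1

universe u v

section Core

variable {G : Type*} [Group G] [Finite G]

/-- a proper `x`-invariant subgroup of a `q`-group `Q` lies in a proper `x`-invariant subgroup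
normalized by `Q`. -/
theorem exists_core (q : ℕ) [Fact q.Prime] (Q : Subgroup G) (hQ : IsPGroup q Q) (C : Subgroup G)
    (hCQ : C ≤ Q) (hne : C ≠ Q) (x : G) (hxQ : x ∈ Subgroup.normalizer (Q : Set G))
    (hxC : x ∈ Subgroup.normalizer (C : Set G)) :
    ∃ D : Subgroup G, C ≤ D ∧ D ≤ Q ∧ D ≠ Q ∧ Q ≤ Subgroup.normalizer (D : Set G) ∧
      x ∈ Subgroup.normalizer (D : Set G) := by
  classical
  have hC'ne : C.subgroupOf Q ≠ ⊤ := by
    intro h
    rw [Subgroup.subgroupOf_eq_top] at h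
    exact hne (le_antisymm hCQ h)
  obtain ⟨M', hM'co, hC'M'⟩ := (eq_top_or_exists_le_coatom (C.subgroupOf Q)).resolve_left hC'ne
  haveI hM'n : M'.Normal := IsPGroup.coatom_normal hQ M' hM'co
  set M : Subgroup G := M'.map Q.subtype with hM
  have hMQ : M ≤ Q := Subgroup.map_subtype_le M'
  have hMmem : ∀ g (hg : g ∈ Q), g ∈ M ↔ (⟨g, hg⟩ : Q) ∈ M' := by
    intro g hg
    constructor
    · rintro ⟨g', hg', hgg'⟩
      have : g' = ⟨g, hg⟩ := Subtype.ext hgg'
      rw [← this]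
      exact hg'
    · intro h
      exact ⟨⟨g, hg⟩, h, rfl⟩
  have hMne : M ≠ Q := by
    intro h
    apply hM'co.1
    rw [eq_top_iff]
    rintro ⟨g, hg⟩ _
    rw [← hMmem g hg, h]
    exact hg
  have hCM : C ≤ M := by
    intro g hg
    rw [hMmem g (hCQ hg)]
    apply hC'M'
    rw [Subgroup.mem_subgroupOf]
    exact hg
  have hQM : ∀ f ∈ Q, ∀ g ∈ M, f * g * f⁻¹ ∈ M := by
    intro f hf g hg
    have hgQ := hMQ hg
    rw [hMmem _ (Q.mul_mem (Q.mul_mem hf hgQ) (Q.inv_mem hf))]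
    have := hM'n.conj_mem ⟨g, hgQ⟩ ((hMmem g hgQ).mp hg) ⟨f, hf⟩
    exact this
  -- powers of `x` normalize `Q` and `C`
  have hzQ : ∀ i : ℤ, x ^ i ∈ Subgroup.normalizer (Q : Set G) := fun i => Subgroup.zpow_mem _ hxQ i
  have hzC : ∀ i : ℤ, x ^ i ∈ Subgroup.normalizer (C : Set G) := fun i => Subgroup.zpow_mem _ hxC i
  let D : Subgroup G :=
    { carrier := {g | ∀ i : ℤ, x ^ i * g * (x ^ i)⁻¹ ∈ M}
      mul_mem' := by
        intro a b ha hb i
        have : x ^ i * (a * b) * (x ^ i)⁻¹ = (x ^ i * a * (x ^ i)⁻¹) * (x ^ i * b * (x ^ i)⁻¹) := by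
          group
        rw [this]
        exact M.mul_mem (ha i) (hb i)
      one_mem' := by
        intro i
        have : x ^ i * 1 * (x ^ i)⁻¹ = 1 := by group
        rw [this]
        exact M.one_mem
      inv_mem' := by
        intro a ha i
        have : x ^ i * a⁻¹ * (x ^ i)⁻¹ = (x ^ i * a * (x ^ i)⁻¹)⁻¹ := by group
        rw [this]
        exact M.inv_mem (ha i) }
  have hDmem : ∀ g, g ∈ D ↔ ∀ i : ℤ, x ^ i * g * (x ^ i)⁻¹ ∈ M := fun g => Iff.rfl
  have hDM : D ≤ M := by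
    intro g hg
    have := hg 0
    simpa using this
  refine ⟨D, ?_, hDM.trans hMQ, ?_, ?_, ?_⟩
  · intro g hg i
    apply hCM
    exact (Subgroup.mem_normalizer_iff.mp (hzC i) g).mp hg
  · intro h
    apply hMne
    apply le_antisymm hMQ
    rw [← h]
    exact hDM
  · intro f hf
    rw [Subgroup.mem_normalizer_iff]
    have key : ∀ f ∈ Q, ∀ g ∈ D, f * g * f⁻¹ ∈ D := by
      intro f hf g hg i
      have hfi : x ^ i * f * (x ^ i)⁻¹ ∈ Q := (Subgroup.mem_normalizer_iff.mp (hzQ i) f).mp hf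
      have : x ^ i * (f * g * f⁻¹) * (x ^ i)⁻¹
          = (x ^ i * f * (x ^ i)⁻¹) * (x ^ i * g * (x ^ i)⁻¹) * (x ^ i * f * (x ^ i)⁻¹)⁻¹ := by
        group
      rw [this]
      exact hQM _ hfi _ (hg i)
    intro g
    constructor
    · exact key f hf g
    · intro h
      have := key f⁻¹ (Q.inv_mem hf) _ h
      have e : f⁻¹ * (f * g * f⁻¹) * f⁻¹⁻¹ = g := by group
      rwa [e] at this
  · rw [Subgroup.mem_normalizer_iff]
    intro g
    constructor
    · intro hg i
      have := hg (i + 1)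
      have e : x ^ (i + 1) * g * (x ^ (i + 1))⁻¹ = x ^ i * (x * g * x⁻¹) * (x ^ i)⁻¹ := by
        rw [zpow_add, zpow_one]
        group
      rwa [e] at this
    · intro hg i
      have := hg (i - 1)
      have e : x ^ (i - 1) * (x * g * x⁻¹) * (x ^ (i - 1))⁻¹ = x ^ i * g * (x ^ i)⁻¹ := by
        rw [zpow_sub, zpow_one]
        group
      rwa [e] at this

end Core

end Cfsg.Agent.Lib.Helper1.HB
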