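import Cfsg.Agent.Lib.Helper1.HB6

/-!
# Hall--Higman Theorem B: the node of the induction when `G = Q⟨x⟩` acts on the whole space
-/

set_option autoImplicit false

namespace Cfsg.Agent.Lib.Helper1.HB

open scoped BigOperators
open Module Cfsg.Agent.Lib.Helper1.HH Cfsg.Agent.Lib.Helper1

universe u v

section Node

variable {K : Type*} [Field K] [IsAlgClosed K] {p q : ℕ} [Fact p.Prime] [Fact q.Prime] [CharP K p]

omit [IsAlgClosed K] in
theorem cast_card_ne_zero (hpq : p ≠ q) {G : Type*} [Group G] [Finite G] (Q : Subgroup G)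
    (hQ : IsPGroup q Q) (R : Subgroup G) (hRQ : R ≤ Q) : (Nat.card R : K) ≠ 0 := by
  have hp : p.Prime := Fact.out
  have hq : q.Prime := Fact.out
  obtain ⟨a, ha⟩ := IsPGroup.exists_card_eq (hQ.to_le hRQ)
  rw [ha]
  intro h0
  rw [CharP.cast_eq_zero_iff K p] at h0
  have := (Nat.prime_dvd_prime_iff_eq hp hq).mp (hp.dvd_of_dvd_pow h0)
  exact hpq this

set_option maxHeartbeats 1600000 in
theorem node_full (hpq : p ≠ q) (m : ℕ) (IH : ∀ m' < m, CoreProp.{u, v} K p q m')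
    (G : Type u) [Group G] [Finite G] (W : Type v) [AddCommGroup W] [Module K W]
    [FiniteDimensional K W] (ρ : Representation K G W) (Q : Subgroup G) [Q.Normal] (x : G)
    (n r : ℕ) (hQ : IsPGroup q Q) (hgen : Q ⊔ Subgroup.zpowers x = ⊤)
    (hx : x ^ p ^ (n + 1) = 1)
    (hact : ∃ f ∈ Q, ρ (f * x ^ p ^ n * f⁻¹ * (x ^ p ^ n)⁻¹) ≠ 1)
    (hm : finrank K W + Nat.card Q = m) (hs : (ρ x - 1) ^ r = 0)
    (hmin : ∀ j < r, (ρ x - 1) ^ j ≠ 0) : Concl p q (n + 1) r Q := by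
  classical
  by_contra hnc
  have hp : p.Prime := Fact.out
  have hq : q.Prime := Fact.out
  haveI : Nontrivial W := by
    obtain ⟨f, _, hf⟩ := hact
    by_contra hW
    rw [not_nontrivial_iff_subsingleton] at hW
    apply hf
    apply LinearMap.ext
    intro u
    exact Subsingleton.elim _ _
  have e2 : ∀ g : G, ρ g⁻¹ * ρ g = 1 := fun g => by rw [← map_mul, inv_mul_cancel, map_one]
  have e3 : ∀ g : G, ρ g * ρ g⁻¹ = 1 := fun g => by rw [← map_mul, mul_inv_cancel, map_one]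
  have hrP : r ≤ p ^ (n + 1) := by
    by_contra hcon
    rw [not_le] at hcon
    apply hmin _ hcon
    apply sub_one_pow_eq_zero p
    rw [← map_pow, hx, map_one]
  set x₁ := x ^ p ^ n with hx₁
  have hxnorm : ∀ H : Subgroup G, H.Normal → x ∈ Subgroup.normalizer (H : Set G) := by
    intro H hH
    rw [Subgroup.normalizer_eq_top_iff.mpr hH]
    exact Subgroup.mem_top x
  have hcommx : x * x₁ = x₁ * x := by
    rw [hx₁, ← pow_succ', ← pow_succ]
  have hx₁p : x₁ ^ p = 1 := by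
    rw [hx₁, ← pow_mul, ← pow_succ, hx]
  -- the commutators lie in `Q`
  have hcQ : ∀ f ∈ Q, f * x₁ * f⁻¹ * x₁⁻¹ ∈ Q := by
    intro f hf
    have h1 : f * x₁ * f⁻¹ * x₁⁻¹ = f * (x₁ * f⁻¹ * x₁⁻¹) := by group
    rw [h1]
    exact Q.mul_mem hf (Subgroup.Normal.conj_mem inferInstance _ (Q.inv_mem hf) _)
  -- (1) irreducibility
  have hirr : IrrOn ρ Set.univ := by
    apply irr_of_fixed ρ Q (cast_card_ne_zero hpq Q hQ) {c | ∃ f ∈ Q, c = f * x₁ * f⁻¹ * x₁⁻¹}
    · rintro c ⟨f, hf, rfl⟩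
      exact hcQ f hf
    · intro U' hU' hU'top c hc u hu
      obtain ⟨f, hf, rfl⟩ := hc
      by_contra hne
      apply hnc
      obtain ⟨r', hr'le, hr'⟩ := exists_nilIdx (ρ x - 1) U' r (fun u _ => by rw [hs]; rfl)
      have hlt : finrank K U' + Nat.card Q < m := by
        rw [← hm]
        exact Nat.add_lt_add_right (Submodule.finrank_lt hU'top) _
      have hres := IH _ hlt G W ρ U' Q x n r' hQ (hxnorm Q inferInstance) hx
        (fun f _ u hu => hU' f u hu) (fun u hu => hU' x u hu) ⟨f, hf, u, hu, hne⟩ rfl hr'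
      exact Concl.mono hr'le hrP hres
    · obtain ⟨f, hf, hfne⟩ := hact
      exact ⟨_, ⟨f, hf, rfl⟩, hfne⟩
  -- (2) minimality of `Q`
  have hM : ∀ Q₀ : Subgroup G, Q₀ ≤ Q → Q₀ ≠ Q → x ∈ Subgroup.normalizer (Q₀ : Set G) →
      ∀ f ∈ Q₀, ρ (f * x₁ * f⁻¹ * x₁⁻¹) = 1 := by
    intro Q₀ hle hne hxQ₀ f hf
    by_contra hne1
    apply hnc
    have hex : ∃ u, ρ (f * x₁ * f⁻¹ * x₁⁻¹) u ≠ u := by
      by_contra hall
      push Not at hall
      exact hne1 (LinearMap.ext hall)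
    obtain ⟨u, hu⟩ := hex
    have hlt : finrank K (⊤ : Submodule K W) + Nat.card Q₀ < m := by
      rw [← hm, finrank_top]
      apply Nat.add_lt_add_left
      by_contra hcon
      rw [not_lt] at hcon
      exact hne (Subgroup.eq_of_le_of_card_ge hle hcon)
    have hres := IH _ hlt G W ρ ⊤ Q₀ x n r (hQ.to_le hle) hxQ₀ hx
      (fun _ _ _ _ => Submodule.mem_top) (fun _ _ => Submodule.mem_top)
      ⟨f, hf, u, Submodule.mem_top, hu⟩ rfl (nilIdx_top_iff.mpr ⟨hs, hmin⟩)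
    exact Concl.of_le hle hres
  -- (3) abelian normal subgroups act by scalars
  have hD : ∀ A : Subgroup G, A.Normal → A ≤ Q → (∀ a ∈ A, ∀ f ∈ Q, ρ a * ρ f = ρ f * ρ a) →
      ∀ a ∈ A, a ∈ scalarSubgroup ρ := by
    intro A hA hAQ hcomm
    haveI := hA
    exact stepC m IH G W ρ Q x n r hQ hgen hx hact hm hs hmin hnc hirr A hAQ hcomm
  -- scalars commute with `x₁`
  have hscal_comm : ∀ f, f ∈ scalarSubgroup ρ → ρ (f * x₁ * f⁻¹ * x₁⁻¹) = 1 := by
    intro f hf
    obtain ⟨μ, hμ⟩ := hf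
    have hc : ∀ T : Module.End K W, ρ f * T = T * ρ f := by
      intro T
      rw [hμ, smul_mul_assoc, one_mul, mul_smul_comm, mul_one]
    rw [map_mul, map_mul, map_mul, hc (ρ x₁), mul_assoc (ρ x₁), e3 f, mul_one, e3 x₁]
  obtain ⟨f₀, hf₀, hf₀ne⟩ := hact
  set X := ρ x₁ with hX
  have hinvc : ∀ a : G, ∀ T : Module.End K W, ρ a * T = T * ρ a → ρ a⁻¹ * T = T * ρ a⁻¹ := by
    intro a T ha2
    calc ρ a⁻¹ * T = ρ a⁻¹ * T * (ρ a * ρ a⁻¹) := by rw [e3, mul_one]
      _ = ρ a⁻¹ * (T * ρ a) * ρ a⁻¹ := by simp only [mul_assoc]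
      _ = ρ a⁻¹ * (ρ a * T) * ρ a⁻¹ := by rw [ha2]
      _ = (ρ a⁻¹ * ρ a) * T * ρ a⁻¹ := by simp only [mul_assoc]
      _ = T * ρ a⁻¹ := by rw [e2, one_mul]
  have hcomm_iff : ∀ g : G, ρ (g * x₁ * g⁻¹ * x₁⁻¹) = 1 ↔ ρ g * X = X * ρ g := by
    intro g
    rw [map_mul, map_mul, map_mul]
    constructor
    · intro h
      calc ρ g * X = ρ g * X * (ρ g⁻¹ * ρ g) := by rw [e2, mul_one]
        _ = ρ g * X * ρ g⁻¹ * (ρ x₁⁻¹ * X) * ρ g := by rw [hX, e2 x₁, mul_one]; simp only [mul_assoc]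
        _ = (ρ g * ρ x₁ * ρ g⁻¹ * ρ x₁⁻¹) * X * ρ g := by rw [hX]; simp only [mul_assoc]
        _ = X * ρ g := by rw [h, one_mul]
    · intro h
      rw [← hX, h, mul_assoc X, e3 g, mul_one, hX, e3 x₁]
  -- `Q` is not commutative
  have hQnc : ¬ IsMulCommutative Q := by
    intro hcomm
    have h1 := hD Q inferInstance le_rfl (by
      intro a ha f hf
      rw [← map_mul, ← map_mul]
      congr 1
      have := mul_comm' (⟨a, ha⟩ : Q) ⟨f, hf⟩
      exact congrArg Subtype.val this)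
    exact hf₀ne (hscal_comm f₀ (h1 f₀ hf₀))
  have hx₁Z : x₁ ∉ scalarSubgroup ρ := by
    rintro ⟨μ, hμ⟩
    apply hf₀ne
    rw [hcomm_iff, hX, hμ, mul_smul_comm, mul_one, smul_mul_assoc, one_mul]
  -- the centralizer of `X` in `Q`
  let C : Subgroup G :=
    { carrier := {g | g ∈ Q ∧ ρ g * X = X * ρ g}
      mul_mem' := by
        rintro a b ⟨ha, ha2⟩ ⟨hb, hb2⟩
        refine ⟨Q.mul_mem ha hb, ?_⟩
        rw [map_mul, mul_assoc, hb2, ← mul_assoc, ha2, mul_assoc]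
      one_mem' := ⟨Q.one_mem, by rw [map_one, one_mul, mul_one]⟩
      inv_mem' := by
        rintro a ⟨ha, ha2⟩
        exact ⟨Q.inv_mem ha, hinvc a X ha2⟩ }
  have hCQ : C ≤ Q := fun g hg => hg.1
  have hCne : C ≠ Q := by
    intro h
    apply hf₀ne
    rw [hcomm_iff]
    have : f₀ ∈ C := by rw [h]; exact hf₀
    exact this.2
  have hxX : ρ x * X = X * ρ x := by rw [hX, ← map_mul, ← map_mul, hcommx]
  have hCconj : ∀ y : G, ρ y * X = X * ρ y → ∀ g ∈ C, y * g * y⁻¹ ∈ C := by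
    intro y hy g hg
    refine ⟨Subgroup.Normal.conj_mem inferInstance g hg.1 y, ?_⟩
    have hy' := hinvc y X hy
    rw [map_mul, map_mul]
    calc ρ y * ρ g * ρ y⁻¹ * X = ρ y * ρ g * (ρ y⁻¹ * X) := by simp only [mul_assoc]
      _ = ρ y * (ρ g * X) * ρ y⁻¹ := by rw [hy']; simp only [mul_assoc]
      _ = (ρ y * X) * ρ g * ρ y⁻¹ := by rw [hg.2]; simp only [mul_assoc]
      _ = X * (ρ y * ρ g * ρ y⁻¹) := by rw [hy]; simp only [mul_assoc]
  have hxC : x ∈ Subgroup.normalizer (C : Set G) := by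
    rw [Subgroup.mem_normalizer_iff]
    intro g
    constructor
    · exact hCconj x hxX g
    · intro h
      have := hCconj x⁻¹ (hinvc x X hxX) _ h
      have e : x⁻¹ * (x * g * x⁻¹) * x⁻¹⁻¹ = g := by group
      rwa [e] at this
  obtain ⟨D, hCD, hDQ, hDne, hQD, hxD⟩ := exists_core q Q hQ C hCQ hCne x (hxnorm Q inferInstance) hxC
  have hDn : D.Normal := by
    rw [← Subgroup.normalizer_eq_top_iff, eq_top_iff, ← hgen]
    apply sup_le hQD
    rw [Subgroup.zpowers_le]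
    exact hxD
  have hDX : ∀ d ∈ D, ρ d * X = X * ρ d :=
    fun d hd => (hcomm_iff d).mp (hM D hDQ hDne hxD d hd)
  -- the centralizer of `ρ D` in `Q`
  let S : Subgroup G :=
    { carrier := {g | g ∈ Q ∧ ∀ d ∈ D, ρ g * ρ d = ρ d * ρ g}
      mul_mem' := by
        rintro a b ⟨ha, ha2⟩ ⟨hb, hb2⟩
        refine ⟨Q.mul_mem ha hb, ?_⟩
        intro d hd
        rw [map_mul, mul_assoc, hb2 d hd, ← mul_assoc, ha2 d hd, mul_assoc]
      one_mem' := ⟨Q.one_mem, fun d _ => by rw [map_one, one_mul, mul_one]⟩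
      inv_mem' := by
        rintro a ⟨ha, ha2⟩
        exact ⟨Q.inv_mem ha, fun d hd => hinvc a (ρ d) (ha2 d hd)⟩ }
  have hSconj : ∀ y : G, ∀ g ∈ S, y * g * y⁻¹ ∈ S := by
    intro y g hg
    refine ⟨Subgroup.Normal.conj_mem inferInstance g hg.1 y, ?_⟩
    intro d hd
    have hd' : y⁻¹ * d * y ∈ D := by
      have := hDn.conj_mem d hd y⁻¹
      rwa [inv_inv] at this
    have h1 := hg.2 _ hd'
    calc ρ (y * g * y⁻¹) * ρ d = ρ y * (ρ g * ρ (y⁻¹ * d * y)) * ρ y⁻¹ := by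
          simp only [← map_mul]
          congr 1
          group
      _ = ρ y * (ρ (y⁻¹ * d * y) * ρ g) * ρ y⁻¹ := by rw [h1]
      _ = ρ d * ρ (y * g * y⁻¹) := by
          simp only [← map_mul]
          congr 1
          group
  have hxS : x ∈ Subgroup.normalizer (S : Set G) := by
    rw [Subgroup.mem_normalizer_iff]
    intro g
    constructor
    · exact hSconj x g
    · intro h
      have := hSconj x⁻¹ _ h
      have e : x⁻¹ * (x * g * x⁻¹) * x⁻¹⁻¹ = g := by group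
      rwa [e] at this
  have hXp : X ^ p = 1 := by rw [hX, ← map_pow, hx₁p, map_one]
  have hSQ : S = Q := by
    by_contra hSne
    have hS1 := hM S (fun g hg => hg.1) hSne hxS
    apply hf₀ne
    have hcS : ∀ f' ∈ Q, f' * x₁ * f'⁻¹ * x₁⁻¹ ∈ S := by
      intro f' hf'
      refine ⟨hcQ f' hf', ?_⟩
      intro d hd
      have hd1 := hDX d hd
      have hd2 : ρ x₁⁻¹ * ρ d = ρ d * ρ x₁⁻¹ := by
        have h := hinvc x₁ (ρ d) (by rw [← hX]; exact hd1.symm)
        exact h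
      have hd' : f'⁻¹ * d * f' ∈ D := by
        have := hDn.conj_mem d hd f'⁻¹
        rwa [inv_inv] at this
      have hd3 := hDX _ hd'
      have h6 : ρ (f' * x₁ * f'⁻¹) * ρ d = ρ d * ρ (f' * x₁ * f'⁻¹) := by
        calc ρ (f' * x₁ * f'⁻¹) * ρ d = ρ f' * (X * ρ (f'⁻¹ * d * f')) * ρ f'⁻¹ := by
              rw [hX]
              simp only [← map_mul]
              congr 1
              group
          _ = ρ f' * (ρ (f'⁻¹ * d * f') * X) * ρ f'⁻¹ := by rw [hd3]
          _ = ρ d * ρ (f' * x₁ * f'⁻¹) := by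
              rw [hX]
              simp only [← map_mul]
              congr 1
              group
      rw [map_mul (ρ) (f' * x₁ * f'⁻¹) x₁⁻¹, mul_assoc, hd2, ← mul_assoc, h6, mul_assoc]
    have hall : ∀ f' ∈ Q, ρ (f' * x₁ * f'⁻¹ * x₁⁻¹) = 1 := by
      intro f' hf'
      set c := f' * x₁ * f'⁻¹ * x₁⁻¹ with hc
      have hcX : ρ c * X = X * ρ c := (hcomm_iff c).mp (hS1 c (hcS f' hf'))
      have h7 : ρ (f' * x₁ * f'⁻¹) = ρ c * X := by
        rw [hX, ← map_mul]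
        congr 1
        rw [hc]
        group
      have h8 : (ρ (f' * x₁ * f'⁻¹)) ^ p = 1 := by
        rw [← map_pow, conj_pow, hx₁p, mul_one, mul_inv_cancel, map_one]
      rw [h7, (show Commute (ρ c) X from hcX).mul_pow, hXp, mul_one, ← map_pow] at h8
      have hcop : p.Coprime (orderOf c) := by
        obtain ⟨a, ha⟩ := hQ ⟨c, hcQ f' hf'⟩
        have h9 : c ^ q ^ a = 1 := by
          have := congrArg Subtype.val ha
          simpa using this
        have h10 : orderOf c ∣ q ^ a := orderOf_dvd_of_pow_eq_one h9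
        exact Nat.Coprime.coprime_dvd_right h10
          (Nat.Coprime.pow_right a ((Nat.coprime_primes hp hq).mpr hpq))
      obtain ⟨m', hm'⟩ := exists_pow_eq_self_of_coprime hcop
      rw [← hm', map_pow, h8, one_pow]
    exact hall f₀ hf₀
  have hcommD : ∀ d ∈ D, ∀ g ∈ Q, ρ d * ρ g = ρ g * ρ d := by
    intro d hd g hg
    have hgS : g ∈ S := by rw [hSQ]; exact hg
    exact (hgS.2 d hd).symm
  have hDZ := hD D hDn hDQ hcommD
  have hCZ : ∀ g ∈ Q, ρ g * X = X * ρ g → g ∈ scalarSubgroup ρ :=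
    fun g hg hc => hDZ g (hCD ⟨hg, hc⟩)
  -- the fixed-point-free condition
  have hfpf : ∀ h ∈ Subgroup.zpowers x, h ∉ scalarSubgroup ρ → ∀ f ∈ Q,
      f⁻¹ * (h * f * h⁻¹) ∈ scalarSubgroup ρ → f ∈ scalarSubgroup ρ := by
    intro h hh hhZ f hf hz
    have hh1 : h ≠ 1 := fun h1 => hhZ (by rw [h1]; exact Subgroup.one_mem _)
    obtain ⟨j, hj⟩ := exists_pow_eq p x n hx h hh hh1
    obtain ⟨μ, hμ⟩ := hz
    have h1 : ρ (f⁻¹ * h * f) = μ • ρ h := by
      have : f⁻¹ * h * f = (f⁻¹ * (h * f * h⁻¹)) * h := by group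
      rw [this, map_mul, hμ, smul_mul_assoc, one_mul]
    have hhP : h ^ p ^ (n + 1) = 1 := by
      obtain ⟨i, rfl⟩ := Subgroup.mem_zpowers_iff.mp hh
      rw [← zpow_natCast, ← zpow_mul, mul_comm, zpow_mul, zpow_natCast, hx, one_zpow]
    have h2 : μ ^ p ^ (n + 1) = 1 := by
      have h3 : (ρ (f⁻¹ * h * f)) ^ p ^ (n + 1) = 1 := by
        rw [← map_pow]
        have : (f⁻¹ * h * f) ^ p ^ (n + 1) = 1 := by
          have e := conj_pow (i := p ^ (n + 1)) (a := f⁻¹) (b := h)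
          rw [inv_inv] at e
          rw [e, hhP, mul_one, inv_mul_cancel]
        rw [this, map_one]
      rw [h1, smul_pow, ← map_pow, hhP, map_one, smul_one_eq_one_iff] at h3
      exact h3
    have h4 : μ = 1 := scalar_eq_one_of_pow p μ (n + 1) h2
    rw [h4, one_smul] at h1
    have h5 : ρ h * ρ f = ρ f * ρ h := by
      have : ρ f * ρ (f⁻¹ * h * f) = ρ h * ρ f := by
        rw [← map_mul, ← map_mul]
        congr 1
        group
      rw [← this, h1]
    have h6 : ρ f * X = X * ρ f := by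
      rw [hX, hx₁, ← hj, map_pow]
      exact (Commute.pow_right (show Commute (ρ f) (ρ h) from h5.symm) j)
    exact hCZ f hf h6
  obtain ⟨hA1, hA2, hA3⟩ := leaf p q hpq Q hQ x n hx hgen ρ hirr hx₁Z hfpf r hs hmin
  apply hnc
  have hPpos : 2 ≤ p ^ (n + 1) := by
    calc 2 ≤ p := hp.two_le
      _ = p ^ 1 := (pow_one p).symm
      _ ≤ p ^ (n + 1) := Nat.pow_le_pow_right hp.pos (by omega)
  by_cases hrP' : r = p ^ (n + 1)
  · left
    exact hrP'
  · right
    have hr : r = p ^ (n + 1) - 1 := by omega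
    obtain ⟨b, hb⟩ := hA3 hr
    refine ⟨hQnc, n + 1, b, by omega, le_rfl, ?_, hb, ?_⟩
    · by_contra hb0
      have hb0' : b = 0 := by omega
      rw [hb0', pow_zero] at hb
      have hr1 : r = 1 := by omega
      rw [hr1, pow_one] at hs
      apply hf₀ne
      rw [hcomm_iff, hX, hx₁, map_pow, sub_eq_zero.mp hs, one_pow, mul_one, one_mul]
    · rw [Nat.sub_self, pow_zero, one_mul]
      omega

end Node

end Cfsg.Agent.Lib.Helper1.HB
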