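import Cfsg.Agent.Lib.Helper1.HB7

/-!
# Hall--Higman Theorem B: the induction
-/

set_option autoImplicit false

namespace Cfsg.Agent.Lib.Helper1.HB

open scoped BigOperators
open Module Cfsg.Agent.Lib.Helper1.HH Cfsg.Agent.Lib.Helper1

universe u v

section Induction

variable {K : Type*} [Field K] [IsAlgClosed K] {p q : ℕ} [Fact p.Prime] [Fact q.Prime] [CharP K p]

set_option maxHeartbeats 1600000 in
/-- **Theorem B of Hall and Higman**, inductive form. -/
theorem core (hpq : p ≠ q) : ∀ m : ℕ, CoreProp.{u, v} K p q m := by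
  intro m
  induction m using Nat.strong_induction_on with
  | _ m IH =>
  intro G _ _ W _ _ _ ρ U Q x n r hQ hxQ hx hQU hxU hact hm hr
  classical
  -- the group generated by `Q` and `x`
  set G₁ : Subgroup G := Q ⊔ Subgroup.zpowers x with hG₁
  have hQG₁ : Q ≤ G₁ := le_sup_left
  have hxG₁ : x ∈ G₁ := (le_sup_right : Subgroup.zpowers x ≤ G₁) (Subgroup.mem_zpowers x)
  have hG₁N : G₁ ≤ Subgroup.normalizer (Q : Set G) := by
    apply sup_le Subgroup.le_normalizer
    rw [Subgroup.zpowers_le]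
    exact hxQ
  have hG₁stab : G₁ ≤ stabSub ρ U := by
    apply sup_le
    · exact fun f hf => hQU f hf
    · rw [Subgroup.zpowers_le]
      exact hxU
  set Q₁ : Subgroup G₁ := Q.subgroupOf G₁ with hQ₁
  haveI hQ₁n : Q₁.Normal := Subgroup.normal_subgroupOf_of_le_normalizer hG₁N
  set x' : G₁ := ⟨x, hxG₁⟩ with hx'
  set ρ₀ : Representation K G₁ W := ρ.comp G₁.subtype with hρ₀
  have hinv : ∀ g : G₁, U ≤ U.comap (ρ₀ g) := by
    intro g u hu
    exact hG₁stab g.2 u hu
  set ρ₁ : Representation K G₁ U := Representation.subrepresentation ρ₀ U hinv with hρ₁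
  have hρ₁apply : ∀ (g : G₁) (u : U), ((ρ₁ g u : U) : W) = ρ (g : G) (u : W) := fun g u => rfl
  have hQ₁p : IsPGroup q Q₁ := hQ.comap_subtype
  have hzp : Subgroup.zpowers x' = (Subgroup.zpowers x).subgroupOf G₁ := by
    ext g
    rw [Subgroup.mem_subgroupOf, Subgroup.mem_zpowers_iff, Subgroup.mem_zpowers_iff]
    constructor
    · rintro ⟨k, rfl⟩
      exact ⟨k, by simp [hx']⟩
    · rintro ⟨k, hk⟩
      refine ⟨k, Subtype.ext ?_⟩
      simp [hx', hk]
  have hgen₁ : Q₁ ⊔ Subgroup.zpowers x' = ⊤ := by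
    rw [hzp, hQ₁, ← Subgroup.subgroupOf_sup hQG₁ le_sup_right, ← hG₁, Subgroup.subgroupOf_self]
  have hx'pow : x' ^ p ^ (n + 1) = 1 := by
    apply Subtype.ext
    simp [hx', hx]
  obtain ⟨f, hf, u, hu, hfu⟩ := hact
  have hact₁ : ∃ f' ∈ Q₁, ρ₁ (f' * x' ^ p ^ n * f'⁻¹ * (x' ^ p ^ n)⁻¹) ≠ 1 := by
    refine ⟨⟨f, hQG₁ hf⟩, Subgroup.mem_subgroupOf.mpr hf, ?_⟩
    intro h1
    apply hfu
    have h2 := LinearMap.congr_fun h1 ⟨u, hu⟩
    have h3 := congrArg Subtype.val h2
    rw [hρ₁apply] at h3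
    simpa [hx'] using h3
  have hcard : Nat.card Q₁ = Nat.card Q :=
    Nat.card_congr (Subgroup.subgroupOfEquivOfLe hQG₁).toEquiv
  have hm₁ : finrank K U + Nat.card Q₁ = m := by rw [hcard]; exact hm
  -- powers of the restricted operator
  have hpowres : ∀ (j : ℕ) (u : U), ((((ρ₁ x' - 1) ^ j) u : U) : W) = ((ρ x - 1) ^ j) (u : W) := by
    intro j
    induction j with
    | zero => intro u; rfl
    | succ j ih =>
      intro u
      rw [pow_succ, pow_succ]
      show ((((ρ₁ x' - 1) ^ j) ((ρ₁ x' - 1) u) : U) : W) = ((ρ x - 1) ^ j) ((ρ x - 1) (u : W))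
      rw [ih]
      rfl
  have hs₁ : (ρ₁ x' - 1) ^ r = 0 := by
    apply LinearMap.ext
    intro u
    apply Subtype.ext
    rw [hpowres]
    exact hr.1 u u.2
  have hmin₁ : ∀ j < r, (ρ₁ x' - 1) ^ j ≠ 0 := by
    intro j hj h0
    obtain ⟨u, hu, hne⟩ := hr.2 j hj
    apply hne
    have := hpowres j ⟨u, hu⟩
    rw [h0] at this
    exact this.symm
  have hres := node_full hpq m IH G₁ U ρ₁ Q₁ x' n r hQ₁p hgen₁ hx'pow hact₁ hm₁ hs₁ hmin₁
  -- transfer the conclusion
  rcases hres with h | ⟨hc, rest⟩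
  · left
    exact h
  · right
    refine ⟨?_, rest⟩
    intro hcomm
    apply hc
    constructor
    constructor
    rintro ⟨a, ha⟩ ⟨b, hb⟩
    apply Subtype.ext
    apply Subtype.ext
    have := mul_comm' (⟨(a : G), Subgroup.mem_subgroupOf.mp ha⟩ : Q) ⟨(b : G), Subgroup.mem_subgroupOf.mp hb⟩
    have h2 : (a : G) * (b : G) = (b : G) * (a : G) := congrArg Subtype.val this
    exact h2

end Induction

end Cfsg.Agent.Lib.Helper1.HB
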