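import Cfsg.Agent.Lib.Helper1.HB8
import Cfsg.Agent.Lib.Helper8.DualHH

/-!
# Hall--Higman Theorem B: an invariant `q`-subgroup on which `x ^ p ^ n` acts nontrivially
-/

set_option autoImplicit false

namespace Cfsg.Agent.Lib.Helper1.HB

open scoped BigOperators Pointwise
open Module Cfsg.Agent.Lib.Helper1.HH Cfsg.Agent.Lib.Helper1

section Select

variable {Γ : Type*} [Group Γ] [Finite Γ]

set_option maxHeartbeats 800000 in
theorem exists_invariant_qsubgroup (p : ℕ) [Fact p.Prime] (hsol : Cfsg.IsPSolvable p Γ)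
    (hOp : Cfsg.pCore p Γ = ⊥) (x : Γ) (n : ℕ) (hx : x ^ p ^ (n + 1) = 1)
    (hx1 : x ^ p ^ n ≠ 1) :
    ∃ (q : ℕ) (_ : q.Prime) (Q : Subgroup Γ), q ≠ p ∧ IsPGroup q Q ∧
      x ∈ Subgroup.normalizer (Q : Set Γ) ∧
      ∃ f ∈ Q, f * x ^ p ^ n * f⁻¹ * (x ^ p ^ n)⁻¹ ≠ 1 := by
  classical
  have hp : p.Prime := Fact.out
  set N₀ : Subgroup Γ := Cfsg.pPrimeCore p Γ with hN₀
  haveI hN₀n : N₀.Normal := Cfsg.Agent.Lib.Helper24.pPrimeCore_normal' p
  have hcop : (Nat.card N₀).Coprime p := Cfsg.Agent.Lib.Helper12.pPrimeCore_coprime p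
  set x₁ := x ^ p ^ n with hx₁
  have hx₁p : x₁ ^ p = 1 := by rw [hx₁, ← pow_mul, ← pow_succ, hx]
  have hx₁N : x₁ ∉ N₀ := by
    intro hmem
    have h1 : orderOf x₁ ∣ p := orderOf_dvd_of_pow_eq_one hx₁p
    have h2 : orderOf x₁ ∣ Nat.card N₀ := by
      have := orderOf_dvd_natCard (⟨x₁, hmem⟩ : N₀)
      rwa [Subgroup.orderOf_mk] at this
    have h3 : orderOf x₁ ∣ 1 := by
      have := Nat.dvd_gcd h2 h1
      rwa [hcop.gcd_eq_one] at this
    exact hx1 (orderOf_eq_one_iff.mp (Nat.dvd_one.mp h3))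
  have hx₁C : x₁ ∉ Subgroup.centralizer (N₀ : Set Γ) := fun h =>
    hx₁N (Cfsg.Agent.Lib.Helper8.DualHH.centralizer_pPrimeCore_le p hsol hOp h)
  -- the centralizer of `x₁` in `N₀`
  set C : Subgroup N₀ := (Subgroup.centralizer ({x₁} : Set Γ)).subgroupOf N₀ with hC
  have hCmem : ∀ g : N₀, g ∈ C ↔ x₁ * (g : Γ) = (g : Γ) * x₁ := by
    intro g
    rw [hC, Subgroup.mem_subgroupOf, Subgroup.mem_centralizer_iff]
    constructor
    · intro h
      exact h x₁ (Set.mem_singleton _)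
    · intro h y hy
      rw [Set.mem_singleton_iff] at hy
      rw [hy]
      exact h
  have hCtop : C ≠ ⊤ := by
    intro h
    apply hx₁C
    rw [Subgroup.mem_centralizer_iff]
    intro g hg
    have : (⟨g, hg⟩ : N₀) ∈ C := by rw [h]; exact Subgroup.mem_top _
    exact ((hCmem _).mp this).symm
  have hCdvd : Nat.card C ∣ Nat.card N₀ := Subgroup.card_subgroup_dvd_card C
  have hCcard : Nat.card C ≠ Nat.card N₀ := fun h => hCtop (Subgroup.card_eq_iff_eq_top C |>.mp h)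
  have hN₀pos : Nat.card N₀ ≠ 0 := Nat.card_pos.ne'
  have hCpos : Nat.card C ≠ 0 := Nat.card_pos.ne'
  -- a prime `q` whose full power does not divide `|C|`
  obtain ⟨q, hq, hqC⟩ : ∃ q : ℕ, q.Prime ∧ ¬ q ^ (Nat.card N₀).factorization q ∣ Nat.card C := by
    by_contra hall
    push Not at hall
    apply hCcard
    apply Nat.dvd_antisymm hCdvd
    rw [← Nat.factorization_le_iff_dvd hN₀pos hCpos]
    intro q
    by_cases hq : q.Prime
    · exact (hq.pow_dvd_iff_le_factorization hCpos).mp (hall q hq)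
    · rw [Nat.factorization_eq_zero_of_not_prime _ hq]
      exact Nat.zero_le _
  have hqN₀ : q ∣ Nat.card N₀ := by
    by_contra hnd
    apply hqC
    rw [Nat.factorization_eq_zero_of_not_dvd hnd, pow_zero]
    exact one_dvd _
  have hqp : q ≠ p := by
    rintro rfl
    exact (Nat.Prime.coprime_iff_not_dvd hq).mp hcop.symm hqN₀
  haveI : Fact q.Prime := ⟨hq⟩
  -- the automorphism induced by `x`
  set φ : MulAut N₀ := MulAut.conjNormal x with hφ
  have hφpow : φ ^ p ^ (n + 1) = 1 := by rw [hφ, ← map_pow, hx, map_one]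
  set A : Subgroup (MulAut N₀) := Subgroup.zpowers φ with hA
  have hAp : IsPGroup p A := by
    rintro ⟨ψ, hψ⟩
    refine ⟨n + 1, ?_⟩
    obtain ⟨k, rfl⟩ := Subgroup.mem_zpowers_iff.mp hψ
    apply Subtype.ext
    show (φ ^ k) ^ p ^ (n + 1) = 1
    rw [← zpow_natCast, ← zpow_mul, mul_comm, zpow_mul, zpow_natCast, hφpow, one_zpow]
  have hndvd : ¬ p ∣ Nat.card (Sylow q N₀) := by
    intro hdvd
    obtain ⟨P⟩ : Nonempty (Sylow q N₀) := inferInstance
    have h1 : Nat.card (Sylow q N₀) ∣ Nat.card N₀ :=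
      (Sylow.card_dvd_index P).trans (Subgroup.index_dvd_card _)
    exact (Nat.Prime.coprime_iff_not_dvd hp).mp hcop.symm (hdvd.trans h1)
  obtain ⟨S, hS⟩ := hAp.nonempty_fixed_point_of_prime_not_dvd_card (Sylow q N₀) hndvd
  rw [MulAction.mem_fixedPoints] at hS
  have hkey : ∀ k : ℤ, ∀ s : N₀, s ∈ (S : Subgroup N₀) → (MulAut.conjNormal (x ^ k) : MulAut N₀) s ∈ (S : Subgroup N₀) := by
    intro k s hs
    have hk : φ ^ k ∈ A := Subgroup.zpow_mem _ (Subgroup.mem_zpowers φ) k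
    have h1 : (φ ^ k) • S = S := hS ⟨φ ^ k, hk⟩
    have h2 : ((φ ^ k) • S : Sylow q N₀).toSubgroup = (S : Subgroup N₀) := by rw [h1]
    rw [Sylow.pointwise_smul_def] at h2
    have h3 : (φ ^ k) • s ∈ (φ ^ k) • (S : Subgroup N₀) :=
      Subgroup.smul_mem_pointwise_smul s _ _ hs
    rw [h2] at h3
    have h4 : (φ ^ k) • s = (MulAut.conjNormal (x ^ k) : MulAut N₀) s := by
      show (φ ^ k) s = _
      rw [hφ, ← map_zpow]
    rw [← h4]
    exact h3
  set Q : Subgroup Γ := (S : Subgroup N₀).map N₀.subtype with hQ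
  have hQmem : ∀ g (hg : g ∈ N₀), g ∈ Q ↔ (⟨g, hg⟩ : N₀) ∈ (S : Subgroup N₀) := by
    intro g hg
    constructor
    · rintro ⟨g', hg', hgg'⟩
      have : g' = ⟨g, hg⟩ := Subtype.ext hgg'
      rw [← this]
      exact hg'
    · intro h
      exact ⟨⟨g, hg⟩, h, rfl⟩
  have hQN₀ : Q ≤ N₀ := Subgroup.map_subtype_le _
  have hconj : ∀ k : ℤ, ∀ g ∈ Q, x ^ k * g * (x ^ k)⁻¹ ∈ Q := by
    intro k g hg
    have hgN := hQN₀ hg
    have h1 := hkey k ⟨g, hgN⟩ ((hQmem g hgN).mp hg)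
    have h2 : ((MulAut.conjNormal (x ^ k) : MulAut N₀) ⟨g, hgN⟩ : Γ) = x ^ k * g * (x ^ k)⁻¹ :=
      MulAut.conjNormal_apply _ _
    rw [← h2]
    exact ⟨_, h1, rfl⟩
  refine ⟨q, hq, Q, hqp, S.isPGroup'.map _, ?_, ?_⟩
  · rw [Subgroup.mem_normalizer_iff]
    intro g
    constructor
    · intro hg
      have := hconj 1 g hg
      rwa [zpow_one] at this
    · intro hg
      have := hconj (-1) _ hg
      rw [zpow_neg, zpow_one] at this
      have e : x⁻¹ * (x * g * x⁻¹) * x⁻¹⁻¹ = g := by group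
      rwa [e] at this
  · -- `S` is not contained in `C`
    have hScard : Nat.card (S : Subgroup N₀) = q ^ (Nat.card N₀).factorization q :=
      Sylow.card_eq_multiplicity S
    have hSC : ¬ (S : Subgroup N₀) ≤ C := by
      intro hle
      apply hqC
      rw [← hScard]
      exact Subgroup.card_dvd_of_le hle
    obtain ⟨s, hs, hsC⟩ := SetLike.not_le_iff_exists.mp hSC
    refine ⟨(s : Γ), ⟨s, hs, rfl⟩, ?_⟩
    intro h1
    apply hsC
    rw [hCmem]
    have h2 : (s : Γ) * x₁ = x₁ * (s : Γ) := by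
      have : (s : Γ) * x₁ * (s : Γ)⁻¹ * x₁⁻¹ * x₁ * (s : Γ) = 1 * x₁ * (s : Γ) := by rw [h1]
      rw [one_mul] at this
      rw [← this]
      group
    exact h2.symm

end Select

end Cfsg.Agent.Lib.Helper1.HB
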