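import Cfsg.Agent.Lib.Helper17.FreeMod9

/-!
# Commutants of representations, Schur's lemma over an algebraically closed field, and the
dimension identity for the conjugation action on `End V` of a Frobenius-type section
-/

set_option autoImplicit false

namespace Cfsg.Agent.Lib.Helper1.HH

open scoped BigOperators
open Module Cfsg.Agent.Lib.Helper17 Cfsg.Agent.Lib.Helper17.FreeMod

section Commutant

variable {k V : Type*} [Field k] [AddCommGroup V] [Module k V]
variable {G : Type*} [Group G]

/-- the commutant of the operators `ρ g`, `g ∈ S`. -/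
def commutant (ρ : Representation k G V) (S : Set G) : Submodule k (Module.End k V) where
  carrier := {T | ∀ g ∈ S, ρ g * T = T * ρ g}
  add_mem' := fun {a b} ha hb g hg => by rw [mul_add, add_mul, ha g hg, hb g hg]
  zero_mem' := fun g _ => by rw [mul_zero, zero_mul]
  smul_mem' := fun c T hT g hg => by rw [mul_smul_comm, smul_mul_assoc, hT g hg]

theorem mem_commutant {ρ : Representation k G V} {S : Set G} {T : Module.End k V} :
    T ∈ commutant ρ S ↔ ∀ g ∈ S, ρ g * T = T * ρ g := Iff.rfl

theorem one_mem_commutant (ρ : Representation k G V) (S : Set G) : (1 : Module.End k V) ∈ commutant ρ S :=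
  fun g _ => by rw [mul_one, one_mul]

theorem commutant_anti (ρ : Representation k G V) {S T : Set G} (h : S ⊆ T) :
    commutant ρ T ≤ commutant ρ S := fun _ hA g hg => hA g (h hg)

/-- irreducibility under the operators `ρ g`, `g ∈ S`. -/
def IrrOn (ρ : Representation k G V) (S : Set G) : Prop :=
  ∀ W : Submodule k V, (∀ g ∈ S, W.map (ρ g) ≤ W) → W = ⊥ ∨ W = ⊤

/-- **Schur's lemma** over an algebraically closed field. -/
theorem schur [IsAlgClosed k] [FiniteDimensional k V] [Nontrivial V] (ρ : Representation k G V)
    (S : Set G) (hirr : IrrOn ρ S) {T : Module.End k V} (hT : T ∈ commutant ρ S) :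
    ∃ μ : k, T = μ • (1 : Module.End k V) := by
  obtain ⟨μ, hμ⟩ := Module.End.exists_eigenvalue T
  refine ⟨μ, ?_⟩
  have hE : Module.End.eigenspace T μ ≠ ⊥ := hμ
  have hinv : ∀ g ∈ S, (Module.End.eigenspace T μ).map (ρ g) ≤ Module.End.eigenspace T μ := by
    rintro g hg _ ⟨v, hv, rfl⟩
    rw [SetLike.mem_coe] at hv
    rw [Module.End.mem_eigenspace_iff] at hv ⊢
    have h1 : T (ρ g v) = ρ g (T v) := by
      have := LinearMap.congr_fun (hT g hg) v
      exact this.symm
    rw [h1, hv, map_smul]
  rcases hirr _ hinv with h | h
  · exact absurd h hE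
  · apply LinearMap.ext
    intro v
    have hv : v ∈ Module.End.eigenspace T μ := by rw [h]; exact Submodule.mem_top
    rw [Module.End.mem_eigenspace_iff] at hv
    rw [hv]
    rfl

theorem commutant_eq_span_one [IsAlgClosed k] [FiniteDimensional k V] [Nontrivial V]
    (ρ : Representation k G V) (S : Set G) (hirr : IrrOn ρ S) :
    commutant ρ S = Submodule.span k {(1 : Module.End k V)} := by
  apply le_antisymm
  · intro T hT
    obtain ⟨μ, rfl⟩ := schur ρ S hirr hT
    exact Submodule.smul_mem _ _ (Submodule.mem_span_singleton_self _)
  · rw [Submodule.span_le]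
    intro T hT
    rw [Set.mem_singleton_iff] at hT
    rw [hT]
    exact one_mem_commutant ρ S

theorem finrank_commutant_eq_one [IsAlgClosed k] [FiniteDimensional k V] [Nontrivial V]
    (ρ : Representation k G V) (S : Set G) (hirr : IrrOn ρ S) :
    finrank k (commutant ρ S) = 1 := by
  rw [commutant_eq_span_one ρ S hirr]
  exact finrank_span_singleton one_ne_zero

/-- scalars commute with everything: the commutant of anything contains the line of scalars, and
if the commutant of a subset is the scalars so is that of any larger set. -/
theorem commutant_eq_span_one_of_subset [IsAlgClosed k] [FiniteDimensional k V] [Nontrivial V]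
    (ρ : Representation k G V) {S T : Set G} (h : S ⊆ T) (hirr : IrrOn ρ S) :
    commutant ρ T = Submodule.span k {(1 : Module.End k V)} := by
  apply le_antisymm
  · rw [← commutant_eq_span_one ρ S hirr]
    exact commutant_anti ρ h
  · rw [Submodule.span_le]
    intro A hA
    rw [Set.mem_singleton_iff] at hA
    rw [hA]
    exact one_mem_commutant ρ T

end Commutant

end Cfsg.Agent.Lib.Helper1.HH
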