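import Cfsg.Agent.Lib.Helper1.HH1

/-!
# The dimension identity for the conjugation action on `End V` of a Frobenius-type section
-/

set_option autoImplicit false

namespace Cfsg.Agent.Lib.Helper1.HH

open scoped BigOperators
open Module Cfsg.Agent.Lib.Helper17 Cfsg.Agent.Lib.Helper17.FreeMod

section Formula

universe u

variable {k : Type*} [Field k] {G : Type*} [Group G] [Finite G]
variable {V : Type u} [AddCommGroup V] [Module k V] [FiniteDimensional k V]

omit [Finite G] [FiniteDimensional k V] in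
theorem conj_eq_self_iff (ρ : Representation k G V) (g : G) (T : Module.End k V) :
    ρ g * T * ρ g⁻¹ = T ↔ ρ g * T = T * ρ g := by
  have e1 : ρ g⁻¹ * ρ g = 1 := by rw [← map_mul, inv_mul_cancel, map_one]
  have e2 : ρ g * ρ g⁻¹ = 1 := by rw [← map_mul, mul_inv_cancel, map_one]
  constructor
  · intro h
    calc ρ g * T = ρ g * T * (ρ g⁻¹ * ρ g) := by rw [e1, mul_one]
      _ = (ρ g * T * ρ g⁻¹) * ρ g := by simp only [mul_assoc]
      _ = T * ρ g := by rw [h]
  · intro h
    rw [h, mul_assoc, e2, mul_one]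

/-- **dimension identity**: `Z` central acting by scalars, `Q` normal nilpotent of order prime to
the characteristic, `H` acting fixed-point-freely on `Q` modulo `Z`. -/
theorem conj_dim_formula (ρ : Representation k G V) (Z Q H : Subgroup G) [Z.Normal] [Q.Normal]
    (hZs : ∀ z ∈ Z, ∃ μ : k, ρ z = μ • (1 : Module.End k V))
    (hnil : Group.IsNilpotent ↥Q) (hchar : (Nat.card ↥Q : k) ≠ 0)
    (hfpf : ∀ h ∈ H, h ∉ Z → ∀ f ∈ Q, f⁻¹ * (h * f * h⁻¹) ∈ Z → f ∈ Z) :
    Nat.card ↥(H.map (QuotientGroup.mk' Z))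
        * finrank k (commutant ρ ((Q ⊔ H : Subgroup G) : Set G)) + finrank k V ^ 2
      = Nat.card ↥(H.map (QuotientGroup.mk' Z)) * finrank k (commutant ρ (H : Set G))
        + finrank k (commutant ρ (Q : Set G)) := by
  classical
  set ρW : Representation k G (Module.End k V) := Representation.linHom ρ ρ with hρW
  have hρW_apply : ∀ (g : G) (T : Module.End k V), ρW g T = ρ g * T * ρ g⁻¹ := by
    intro g T
    rw [hρW, Representation.linHom_apply]
    rfl
  have hZ1 : ∀ z ∈ Z, ρW z = 1 := by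
    intro z hz
    obtain ⟨μ, hμ⟩ := hZs z hz
    apply LinearMap.ext
    intro T
    rw [hρW_apply]
    have e2 : ρ z * ρ z⁻¹ = 1 := by rw [← map_mul, mul_inv_cancel, map_one]
    have h1 : ρ z * T = T * ρ z := by
      rw [hμ, smul_mul_assoc, one_mul, mul_smul_comm, mul_one]
    rw [h1, mul_assoc, e2, mul_one]
    rfl
  let ρA : Representation k (G ⧸ Z) (Module.End k V) :=
    QuotientGroup.lift Z (ρW : G →* Module.End k (Module.End k V)) (fun z hz => hZ1 z hz)
  have hρA : ∀ g : G, ρA (QuotientGroup.mk g) = ρW g := fun g => rfl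
  set π : G →* G ⧸ Z := QuotientGroup.mk' Z with hπ
  have hπs : Function.Surjective π := QuotientGroup.mk'_surjective Z
  have hFn : (Q.map π).Normal := Subgroup.Normal.map inferInstance π hπs
  have hnil' : Group.IsNilpotent ↥(Q.map π) := by
    haveI := hnil
    exact Group.nilpotent_of_surjective (π.subgroupMap Q) (π.subgroupMap_surjective Q)
  have hchar' : (Nat.card ↥(Q.map π) : k) ≠ 0 := by
    intro h
    apply hchar
    obtain ⟨m, hm⟩ := Subgroup.card_dvd_of_surjective (π.subgroupMap Q) (π.subgroupMap_surjective Q)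
    rw [hm, Nat.cast_mul, h, zero_mul]
  have hfpf' : ∀ h ∈ H.map π, h ≠ 1 → ∀ f ∈ Q.map π, h * f * h⁻¹ = f → f = 1 := by
    rintro _ ⟨h₀, hh₀, rfl⟩ h1 _ ⟨f₀, hf₀, rfl⟩ hc
    have hh₀Z : h₀ ∉ Z := by
      intro hz
      apply h1
      exact (QuotientGroup.eq_one_iff h₀).mpr hz
    have h2 : (QuotientGroup.mk f₀ : G ⧸ Z) = QuotientGroup.mk (h₀ * f₀ * h₀⁻¹) := by
      have : π (h₀ * f₀ * h₀⁻¹) = π f₀ := by rw [map_mul, map_mul, map_inv]; exact hc
      exact this.symm
    have h3 := QuotientGroup.eq.mp h2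
    have h4 := hfpf h₀ hh₀ hh₀Z f₀ hf₀ h3
    exact (QuotientGroup.eq_one_iff f₀).mpr h4
  have key := frobenius_dim_formula ρA (Q.map π) (H.map π) hnil' hchar' hfpf'
  have hfix : ∀ S : Subgroup G, fixOn ρA (S.map π) = commutant ρ (S : Set G) := by
    intro S
    ext T
    rw [mem_fixOn, mem_commutant]
    constructor
    · intro h g hg
      have h1 := h (π g) ⟨g, hg, rfl⟩
      have h2 : ρW g T = T := h1
      rw [hρW_apply] at h2
      exact (conj_eq_self_iff ρ g T).mp h2
    · rintro h _ ⟨g, hg, rfl⟩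
      show ρW g T = T
      rw [hρW_apply]
      exact (conj_eq_self_iff ρ g T).mpr (h g hg)
  have hsup : Q.map π ⊔ H.map π = (Q ⊔ H).map π := (Subgroup.map_sup Q H π).symm
  rw [hsup, hfix, hfix, hfix, Module.finrank_linearMap, ← sq] at key
  exact key

end Formula

end Cfsg.Agent.Lib.Helper1.HH
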