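import Cfsg.Agent.Lib.Helper1.HH1

/-!
# Irreducible representations of `q`-groups over an algebraically closed field have `q`-power
dimension
-/

set_option autoImplicit false

namespace Cfsg.Agent.Lib.Helper1.HH

open scoped BigOperators
open Module Cfsg.Agent.Lib.Helper17 Cfsg.Agent.Lib.Helper17.FreeMod

section Sup

variable {k V : Type*} [Field k] [AddCommGroup V] [Module k V] [FiniteDimensional k V]

theorem finrank_finset_sup_le {ι : Type*} (s : Finset ι) (N : ι → Submodule k V) :
    finrank k ↥(s.sup N) ≤ ∑ i ∈ s, finrank k (N i) := by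
  classical
  induction s using Finset.induction_on with
  | empty => simp
  | insert a s ha ih =>
    rw [Finset.sup_insert, Finset.sum_insert ha]
    exact le_trans (Submodule.finrank_add_le_finrank_add_finrank _ _) (Nat.add_le_add_left ih _)

theorem finrank_iSup_le {ι : Type*} [Fintype ι] (N : ι → Submodule k V) :
    finrank k ↥(⨆ i, N i) ≤ ∑ i, finrank k (N i) := by
  rw [← Finset.sup_univ_eq_iSup]
  exact finrank_finset_sup_le _ N

end Sup

section Scalar

variable {k V : Type*} [Field k] [AddCommGroup V] [Module k V]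
variable {G : Type*} [Group G]

/-- the elements acting as scalars. -/
def scalarSubgroup (ρ : Representation k G V) : Subgroup G where
  carrier := {g | ∃ μ : k, ρ g = μ • (1 : Module.End k V)}
  mul_mem' := by
    rintro a b ⟨μ, hμ⟩ ⟨ν, hν⟩
    exact ⟨μ * ν, by rw [map_mul, hμ, hν, smul_mul_smul_comm, mul_one]⟩
  one_mem' := ⟨1, by rw [map_one, one_smul]⟩
  inv_mem' := by
    rintro a ⟨μ, hμ⟩
    by_cases h0 : μ = 0
    · refine ⟨0, ?_⟩
      have e1 : ρ a⁻¹ * ρ a = 1 := by rw [← map_mul, inv_mul_cancel, map_one]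
      rw [hμ, h0, zero_smul, mul_zero] at e1
      rw [zero_smul]
      have : ∀ T : Module.End k V, T = 0 := fun T => by
        calc T = T * 1 := (mul_one T).symm
          _ = 0 := by rw [← e1, mul_zero]
      exact this _
    · refine ⟨μ⁻¹, ?_⟩
      have e1 : ρ a⁻¹ * ρ a = 1 := by rw [← map_mul, inv_mul_cancel, map_one]
      rw [hμ, mul_smul_comm, mul_one] at e1
      calc ρ a⁻¹ = μ⁻¹ • (μ • ρ a⁻¹) := by rw [smul_smul, inv_mul_cancel₀ h0, one_smul]
        _ = μ⁻¹ • 1 := by rw [e1]

theorem mem_scalarSubgroup {ρ : Representation k G V} {g : G} :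
    g ∈ scalarSubgroup ρ ↔ ∃ μ : k, ρ g = μ • (1 : Module.End k V) := Iff.rfl

instance scalarSubgroup_normal (ρ : Representation k G V) : (scalarSubgroup ρ).Normal := by
  constructor
  rintro n ⟨μ, hμ⟩ g
  refine ⟨μ, ?_⟩
  rw [map_mul, map_mul, hμ, mul_smul_comm, mul_one, smul_mul_assoc, ← map_mul, mul_inv_cancel,
    map_one]

end Scalar

section Main

universe u v

variable {k : Type*} [Field k] [IsAlgClosed k]

/-- a commutative family acts by scalars on each irreducible module. -/
theorem scalar_of_comm_of_irr {V : Type*} [AddCommGroup V] [Module k V] [FiniteDimensional k V]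
    [Nontrivial V] {G : Type*} [Group G] (ρ : Representation k G V) (hirr : IrrOn ρ Set.univ)
    (g : G) (hg : ∀ h, ρ h * ρ g = ρ g * ρ h) : g ∈ scalarSubgroup ρ :=
  schur ρ Set.univ hirr (fun h _ => hg h)

omit [IsAlgClosed k] in
theorem finrank_eq_one_of_all_scalar {V : Type*} [AddCommGroup V] [Module k V]
    [FiniteDimensional k V] [Nontrivial V] {G : Type*} [Group G] (ρ : Representation k G V)
    (hirr : IrrOn ρ Set.univ) (hs : ∀ g, g ∈ scalarSubgroup ρ) : finrank k V = 1 := by
  obtain ⟨v, hv⟩ := exists_ne (0 : V)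
  have h1 := hirr (Submodule.span k {v}) (by
    rintro g - _ ⟨w, hw, rfl⟩
    obtain ⟨μ, hμ⟩ := hs g
    rw [hμ]
    show μ • w ∈ _
    exact Submodule.smul_mem _ _ hw)
  rcases h1 with h | h
  · exfalso
    apply hv
    have : v ∈ Submodule.span k {v} := Submodule.mem_span_singleton_self v
    rw [h] at this
    exact (Submodule.mem_bot k).mp this
  · have h2 := finrank_span_singleton (K := k) hv
    rw [h, finrank_top] at h2
    exact h2

/-- **irreducible representations of `q`-groups have `q`-power dimension**. -/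
theorem finrank_eq_prime_pow (q : ℕ) [Fact q.Prime] :
    ∀ (n : ℕ) (Q : Type u) [Group Q] [Finite Q], IsPGroup q Q → Nat.card Q = n →
      ∀ (V : Type v) [AddCommGroup V] [Module k V] [FiniteDimensional k V] [Nontrivial V]
        (ρ : Representation k Q V), IrrOn ρ Set.univ → ∃ b : ℕ, finrank k V = q ^ b := by
  intro n
  induction n using Nat.strong_induction_on with
  | _ n IH =>
  intro Q _ _ hQ hn V _ _ _ _ ρ hirr
  classical
  set C := scalarSubgroup ρ with hC
  by_cases hCtop : C = ⊤
  · refine ⟨0, ?_⟩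
    rw [pow_zero]
    exact finrank_eq_one_of_all_scalar ρ hirr (fun g => by rw [← hC, hCtop]; exact Subgroup.mem_top g)
  -- a noncentral element modulo scalars
  have hnt : Nontrivial (Q ⧸ C) := by
    have h1 : C.index ≠ 1 := fun h => hCtop (Subgroup.index_eq_one.mp h)
    have h0 : C.index ≠ 0 := Subgroup.index_ne_zero_of_finite
    have h2 : 1 < Nat.card (Q ⧸ C) := by
      have : Nat.card (Q ⧸ C) = C.index := rfl
      omega
    exact Finite.one_lt_card_iff_nontrivial.mp h2
  have hQC : IsPGroup q (Q ⧸ C) := hQ.to_quotient C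
  have hcn : Nontrivial (Subgroup.center (Q ⧸ C)) := hQC.center_nontrivial
  obtain ⟨⟨zc, hzc⟩, hzc1⟩ := exists_ne (1 : Subgroup.center (Q ⧸ C))
  obtain ⟨g₀, rfl⟩ := QuotientGroup.mk_surjective zc
  have hg₀C : g₀ ∉ C := fun h => hzc1 (Subtype.ext ((QuotientGroup.eq_one_iff g₀).mpr h))
  have hcomm₀ : ∀ g : Q ⧸ C, Commute g (QuotientGroup.mk g₀ : Q ⧸ C) :=
    fun g => Subgroup.mem_center_iff.mp hzc g
  have hzn : (Subgroup.zpowers (QuotientGroup.mk g₀ : Q ⧸ C)).Normal := by
    constructor
    rintro _ ⟨j, rfl⟩ g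
    refine ⟨j, ?_⟩
    have h1 : g * (QuotientGroup.mk g₀ : Q ⧸ C) ^ j = (QuotientGroup.mk g₀ : Q ⧸ C) ^ j * g :=
      ((hcomm₀ g).zpow_right j).eq
    show (QuotientGroup.mk g₀ : Q ⧸ C) ^ j = g * (QuotientGroup.mk g₀ : Q ⧸ C) ^ j * g⁻¹
    rw [h1, mul_inv_cancel_right]
  set A : Subgroup Q :=
    (Subgroup.zpowers (QuotientGroup.mk g₀ : Q ⧸ C)).comap (QuotientGroup.mk' C) with hA
  have hAn : A.Normal := Subgroup.Normal.comap hzn _
  have hg₀A : g₀ ∈ A := Subgroup.mem_zpowers (QuotientGroup.mk g₀ : Q ⧸ C)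
  -- structure of ρ on A
  have hAstr : ∀ a ∈ A, ∃ (j : ℤ) (μ : k), ρ a = μ • ρ (g₀ ^ j) := by
    intro a ha
    obtain ⟨j, hj⟩ := Subgroup.mem_zpowers_iff.mp ha
    have h1 : (QuotientGroup.mk (g₀ ^ j) : Q ⧸ C) = QuotientGroup.mk a := by
      rw [QuotientGroup.mk_zpow]
      exact hj
    have h2 := QuotientGroup.eq.mp h1
    obtain ⟨μ, hμ⟩ := h2
    refine ⟨j, μ, ?_⟩
    have h3 : a = g₀ ^ j * ((g₀ ^ j)⁻¹ * a) := by group
    rw [h3, map_mul, hμ, mul_smul_comm, mul_one]
  have hAcomm : ∀ a ∈ A, ∀ b ∈ A, ρ a * ρ b = ρ b * ρ a := by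
    intro a ha b hb
    obtain ⟨i, μ, h1⟩ := hAstr a ha
    obtain ⟨j, ν, h2⟩ := hAstr b hb
    rw [h1, h2, smul_mul_smul_comm, smul_mul_smul_comm, ← map_mul, ← map_mul, ← zpow_add,
      ← zpow_add, add_comm i j, mul_comm μ ν]
  set ρZ : Representation k ↥A V := ρ.comp A.subtype with hρZ
  have hρZ_apply : ∀ z : ↥A, ρZ z = ρ z.1 := fun _ => rfl
  let φ : Q →* MulAut ↥A := MulAut.conjNormal
  have hCompat : Compat ρZ ρ φ := by
    constructor
    · intro h z
      rw [hρZ_apply, hρZ_apply, ← map_mul, ← map_mul]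
      congr 1
      show h * z.1 = ((MulAut.conjNormal h : MulAut ↥A) z : Q) * h
      rw [MulAut.conjNormal_apply]
      group
    · intro z z'
      exact hAcomm z.1 z.2 z'.1 z'.2
  have htop : (⊤ : Submodule k V) ≠ ⊥ := top_ne_bot
  obtain ⟨U, -, hU⟩ := exists_simp ρZ htop (fun z v _ => Submodule.mem_top)
  set c := comp ρZ U with hc
  have hUc : U ≤ c := le_comp ρZ U
  have hcne : c ≠ ⊥ := fun h => hU.ne_bot (le_bot_iff.mp (h ▸ hUc))
  -- A acts by scalars on c
  have hscal : ∀ z : ↥A, ∃ μ : k, ∀ v ∈ c, ρ z.1 v = μ • v := by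
    intro z
    have hUz : ∀ u ∈ U, ρ z.1 u ∈ U := fun u hu => hU.inv z u hu
    haveI : Nontrivial ↥U := Submodule.nontrivial_iff_ne_bot.mpr hU.ne_bot
    obtain ⟨μ, hμ⟩ := Module.End.exists_eigenvalue ((ρ z.1).restrict hUz)
    refine ⟨μ, ?_⟩
    obtain ⟨u, hu⟩ := hμ.exists_hasEigenvector
    have hu1 : ρ z.1 u.1 = μ • u.1 := by
      have := hu.apply_eq_smul
      exact congrArg Subtype.val this
    have hu0 : u.1 ≠ 0 := fun h => hu.2 (Subtype.ext h)
    -- the μ-eigenvectors in U form an invariant subspace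
    let E : Submodule k V := U ⊓ Module.End.eigenspace (ρ z.1) μ
    have hEinv : ZInv ρZ E := by
      intro z' v hv
      refine ⟨hU.inv z' v hv.1, ?_⟩
      have hv2 : ρ z.1 v = μ • v := Module.End.mem_eigenspace_iff.mp hv.2
      rw [SetLike.mem_coe, Module.End.mem_eigenspace_iff]
      have h1 := LinearMap.congr_fun (hAcomm z.1 z.2 z'.1 z'.2) v
      have h2 : ρ z.1 (ρ z'.1 v) = ρ z'.1 (ρ z.1 v) := h1
      rw [hρZ_apply, h2, hv2, map_smul]
    have hEU : E = U := by
      rcases hU.min E inf_le_left hEinv with h | h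
      · exfalso
        apply hu0
        have : u.1 ∈ E := ⟨u.2, Module.End.mem_eigenspace_iff.mpr hu1⟩
        rw [h] at this
        exact (Submodule.mem_bot k).mp this
      · exact h
    -- the operator ρ z - μ kills U hence c
    have hmem : ρZ z - μ • (1 : Module.End k V) ∈ opAlg ρZ := by
      apply Subalgebra.sub_mem _ (rho_mem ρZ z)
      exact Subalgebra.smul_mem _ (Subalgebra.one_mem _) μ
    have hkill : Kills (ρZ z - μ • (1 : Module.End k V)) U := by
      intro w hw
      have : w ∈ E := by rw [hEU]; exact hw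
      have h2 : ρ z.1 w = μ • w := Module.End.mem_eigenspace_iff.mp this.2
      show ρ z.1 w - μ • w = 0
      rw [h2, sub_self]
    intro v hv
    have := hv _ hmem hkill
    have h3 : ρ z.1 v - μ • v = 0 := this
    exact sub_eq_zero.mp h3
  -- the orbit sum is everything
  set M : Submodule k V := ⨆ h, c.map (ρ h) with hM
  have hcM : c ≤ M := by
    refine le_trans ?_ (le_iSup (fun h => c.map (ρ h)) 1)
    rw [map_one]
    intro v hv
    exact ⟨v, hv, rfl⟩
  have hMinv : ∀ g ∈ (Set.univ : Set Q), M.map (ρ g) ≤ M := by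
    intro g _
    rw [hM, Submodule.map_iSup]
    apply iSup_le
    intro h
    rw [map_map_rep]
    exact le_iSup (fun h => c.map (ρ h)) (g * h)
  have hMtop : M = ⊤ := by
    rcases hirr M hMinv with h | h
    · exact absurd (le_bot_iff.mp (h ▸ hcM)) hcne
    · exact h
  have hfr := finrank_orbit hCompat hU
  rw [← hc, ← hM, hMtop, finrank_top] at hfr
  set S := stabC ρ c with hS
  have hStop : S ≠ ⊤ := by
    intro h
    apply hg₀C
    have hcinv : ∀ g ∈ (Set.univ : Set Q), c.map (ρ g) ≤ c := by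
      intro g _
      have : g ∈ S := by rw [h]; exact Subgroup.mem_top g
      exact le_of_eq (mem_stabC.mp this)
    have hctop : c = ⊤ := by
      rcases hirr c hcinv with h' | h'
      · exact absurd h' hcne
      · exact h'
    obtain ⟨μ, hμ⟩ := hscal ⟨g₀, hg₀A⟩
    refine ⟨μ, ?_⟩
    apply LinearMap.ext
    intro v
    have := hμ v (by rw [hctop]; exact Submodule.mem_top)
    rw [this]
    rfl
  have hScard : Nat.card ↥S < n := by
    rw [← hn]
    have h1 : Nat.card ↥S ≤ Nat.card Q := Subgroup.card_le_card_group S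
    rcases h1.lt_or_eq with h | h
    · exact h
    · exact absurd ((Subgroup.card_eq_iff_eq_top S).mp h) hStop
  -- the representation of S on c
  set ρS₀ : Representation k ↥S V := ρ.comp S.subtype with hρS₀
  have hcS : ∀ s : ↥S, c ≤ c.comap (ρS₀ s) := by
    intro s v hv
    have h1 : c.map (ρ s.1) = c := mem_stabC.mp s.2
    show ρ s.1 v ∈ c
    rw [← h1]
    exact ⟨v, hv, rfl⟩
  set ρS : Representation k ↥S ↥c := ρS₀.subrepresentation c hcS with hρS
  have hρS_apply : ∀ (s : ↥S) (v : ↥c), ((ρS s v : ↥c) : V) = ρ s.1 v.1 := fun _ _ => rfl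
  haveI : Nontrivial ↥c := Submodule.nontrivial_iff_ne_bot.mpr hcne
  have hindex_pos : 0 < S.index := Nat.pos_of_ne_zero Subgroup.index_ne_zero_of_finite
  have hirrS : IrrOn ρS Set.univ := by
    intro W' hW'
    by_cases hW0 : W' = ⊥
    · exact Or.inl hW0
    right
    set c' : Submodule k V := W'.map c.subtype with hc'
    have hc'c : c' ≤ c := by
      rintro _ ⟨w, _, rfl⟩
      exact w.2
    have hc'ne : c' ≠ ⊥ := by
      intro h
      apply hW0
      rw [eq_bot_iff]
      intro w hw
      have : (w : V) ∈ c' := ⟨w, hw, rfl⟩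
      rw [h] at this
      exact (Submodule.mem_bot k).mpr (Subtype.ext ((Submodule.mem_bot k).mp this))
    have hc'S : ∀ s ∈ S, c'.map (ρ s) = c' := by
      intro s hs
      have hle : ∀ t ∈ S, c'.map (ρ t) ≤ c' := by
        rintro t ht _ ⟨_, ⟨w, hw, rfl⟩, rfl⟩
        exact ⟨ρS ⟨t, ht⟩ w, hW' ⟨t, ht⟩ (Set.mem_univ _) ⟨w, hw, rfl⟩, rfl⟩
      apply le_antisymm (hle s hs)
      have h1 := Submodule.map_mono (f := ρ s) (hle s⁻¹ (S.inv_mem hs))
      rwa [map_map_inv] at h1
    cases nonempty_fintype (Q ⧸ S)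
    set M' : Submodule k V := ⨆ h, c'.map (ρ h) with hM'
    have hsup : M' = ⨆ q : Q ⧸ S, c'.map (ρ q.out) := by
      apply le_antisymm
      · apply iSup_le
        intro h
        obtain ⟨h₁, hh₁⟩ := QuotientGroup.mk_out_eq_mul S h
        have : c'.map (ρ h) = c'.map (ρ (QuotientGroup.mk h : Q ⧸ S).out) := by
          rw [hh₁, ← map_map_rep]
          congr 1
          exact (hc'S h₁.1 h₁.2).symm
        rw [this]
        exact le_iSup (fun q : Q ⧸ S => c'.map (ρ q.out)) _
      · apply iSup_le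
        intro q
        exact le_iSup (fun h => c'.map (ρ h)) q.out
    have hM'inv : ∀ g ∈ (Set.univ : Set Q), M'.map (ρ g) ≤ M' := by
      intro g _
      rw [hM', Submodule.map_iSup]
      apply iSup_le
      intro h
      rw [map_map_rep]
      exact le_iSup (fun h => c'.map (ρ h)) (g * h)
    have hc'M' : c' ≤ M' := by
      refine le_trans ?_ (le_iSup (fun h => c'.map (ρ h)) 1)
      rw [map_one]
      intro v hv
      exact ⟨v, hv, rfl⟩
    have hM'top : M' = ⊤ := by
      rcases hirr M' hM'inv with h | h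
      · exact absurd (le_bot_iff.mp (h ▸ hc'M')) hc'ne
      · exact h
    have hbound : finrank k V ≤ S.index * finrank k c' := by
      have h1 := finrank_iSup_le (fun q : Q ⧸ S => c'.map (ρ q.out))
      rw [← hsup, hM'top, finrank_top] at h1
      simp only [finrank_map_rep] at h1
      rw [Finset.sum_const, Finset.card_univ, smul_eq_mul] at h1
      have : Fintype.card (Q ⧸ S) = S.index := by
        rw [Subgroup.index, Nat.card_eq_fintype_card]
      rwa [this] at h1
    have hle : finrank k c ≤ finrank k c' := by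
      rw [hfr] at hbound
      exact Nat.le_of_mul_le_mul_left hbound hindex_pos
    have hcc' : c' = c := Submodule.eq_of_le_of_finrank_le hc'c hle
    apply Submodule.map_injective_of_injective c.injective_subtype
    rw [← hc', hcc', Submodule.map_subtype_top]
  obtain ⟨b', hb'⟩ := IH _ hScard ↥S (hQ.to_subgroup S) rfl ↥c ρS hirrS
  obtain ⟨a', ha'⟩ := hQ.index S
  refine ⟨a' + b', ?_⟩
  rw [hfr, ha', hb', pow_add]

end Main

end Cfsg.Agent.Lib.Helper1.HH
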