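import Mathlib

/-!
# The commutant of a nilpotent operator: dimension bounds
-/

set_option autoImplicit false

namespace Cfsg.Agent.Lib.Helper1.HH

open scoped BigOperators
open Module

section Comm

variable {k : Type*} [Field k]

/-- the commutant of a single operator. -/
def comm {V : Type*} [AddCommGroup V] [Module k V] (N : Module.End k V) :
    Submodule k (Module.End k V) where
  carrier := {T | N * T = T * N}
  add_mem' := fun {a b} ha hb => by
    show N * (a + b) = (a + b) * N
    rw [mul_add, add_mul, ha, hb]
  zero_mem' := by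
    show N * 0 = 0 * N
    rw [mul_zero, zero_mul]
  smul_mem' := fun c T hT => by
    show N * (c • T) = (c • T) * N
    rw [mul_smul_comm, smul_mul_assoc, hT]

theorem mem_comm {V : Type*} [AddCommGroup V] [Module k V] {N T : Module.End k V} :
    T ∈ comm N ↔ N * T = T * N := Iff.rfl

theorem pow_mem_comm {V : Type*} [AddCommGroup V] [Module k V] (N : Module.End k V) (i : ℕ) :
    N ^ i ∈ comm N := by
  show N * N ^ i = N ^ i * N
  rw [← pow_succ', ← pow_succ]

/-- the nilpotency index is at most the dimension of the commutant. -/
theorem le_finrank_comm {V : Type*} [AddCommGroup V] [Module k V] [FiniteDimensional k V]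
    (N : Module.End k V) (s : ℕ) (hs : N ^ s = 0) (hmin : ∀ j < s, N ^ j ≠ 0) :
    s ≤ finrank k (comm N) := by
  classical
  let f : Fin s → ↥(comm N) := fun i => ⟨N ^ (i : ℕ), pow_mem_comm N i⟩
  have hli : LinearIndependent k f := by
    rw [Fintype.linearIndependent_iff]
    intro g hg
    have hg' : ∑ i : Fin s, g i • N ^ (i : ℕ) = 0 := by
      have := congrArg Subtype.val hg
      simpa [f] using this
    -- strong induction on the index
    have key : ∀ m : ℕ, ∀ i : Fin s, (i : ℕ) = m → g i = 0 := by
      intro m
      induction m using Nat.strong_induction_on with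
      | _ m ih =>
      intro i hi
      have hspos : 0 < s := lt_of_le_of_lt (Nat.zero_le _) i.2
      have h1 : (∑ j : Fin s, g j • N ^ (j : ℕ)) * N ^ (s - 1 - m) = 0 := by
        rw [hg', zero_mul]
      rw [Finset.sum_mul] at h1
      rw [Finset.sum_eq_single i] at h1
      · rw [smul_mul_assoc, ← pow_add] at h1
        have he : (i : ℕ) + (s - 1 - m) = s - 1 := by
          have := i.2
          omega
        rw [he] at h1
        rcases smul_eq_zero.mp h1 with h | h
        · exact h
        · exact absurd h (hmin (s - 1) (by omega))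
      · intro j _ hji
        rcases Nat.lt_or_ge (j : ℕ) m with hlt | hge
        · rw [ih (j : ℕ) hlt j rfl, zero_smul, zero_mul]
        · have hne : (j : ℕ) ≠ m := fun h => hji (Fin.ext (h.trans hi.symm))
          have hgt : m < (j : ℕ) := lt_of_le_of_ne hge (Ne.symm hne)
          rw [smul_mul_assoc, ← pow_add]
          have : s ≤ (j : ℕ) + (s - 1 - m) := by
            have := i.2
            omega
          obtain ⟨t, ht⟩ := Nat.exists_eq_add_of_le this
          rw [ht, pow_add, hs, zero_mul, smul_zero]
      · intro h
        exact absurd (Finset.mem_univ i) h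
    intro i
    exact key (i : ℕ) i rfl
  have := hli.fintype_card_le_finrank
  simpa using this

end Comm

section Square

universe u

variable {k : Type*} [Field k]

/-- **the square of the dimension is at most the nilpotency index times the dimension of the
commutant.** -/
theorem sq_finrank_le (s : ℕ) :
    ∀ (V : Type u) [AddCommGroup V] [Module k V] [FiniteDimensional k V] (N : Module.End k V),
      N ^ s = 0 → finrank k V ^ 2 ≤ s * finrank k (comm N) := by
  induction s with
  | zero =>
    intro V _ _ _ N hN
    have hss : Subsingleton V := by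
      constructor
      intro a b
      have h1 : ∀ v : V, v = 0 := fun v => by
        have := LinearMap.congr_fun hN v
        simpa using this
      rw [h1 a, h1 b]
    rw [Module.finrank_zero_of_subsingleton]
    simp
  | succ s ih =>
    intro V _ _ _ N hN
    classical
    set R : Submodule k V := LinearMap.range N with hR
    set K : Submodule k V := LinearMap.ker N with hK
    have hNR : ∀ v ∈ R, N v ∈ R := fun v _ => LinearMap.mem_range_self N v
    set N' : Module.End k ↥R := N.restrict hNR with hN'
    have hN's : N' ^ s = 0 := by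
      rw [hN', Module.End.pow_restrict s hNR]
      apply LinearMap.ext
      rintro ⟨_, ⟨v, rfl⟩⟩
      apply Subtype.ext
      show (N ^ s) (N v) = 0
      have : (N ^ s) (N v) = (N ^ (s + 1)) v := by rw [pow_succ]; rfl
      rw [this, hN]
      rfl
    have IH := ih ↥R N' hN's
    set ι : ↥R →ₗ[k] V := R.subtype with hι
    -- the restriction map
    let Res : ↥(comm N) →ₗ[k] (↥R →ₗ[k] V) :=
      { toFun := fun T => T.1 ∘ₗ ι
        map_add' := fun a b => by ext v; simp
        map_smul' := fun c a => by ext v; simp }
    let J : ↥(comm N') →ₗ[k] (↥R →ₗ[k] V) :=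
      { toFun := fun T => ι ∘ₗ T.1
        map_add' := fun a b => by ext v; simp
        map_smul' := fun c a => by ext v; simp }
    have hJinj : Function.Injective J := by
      intro a b hab
      apply Subtype.ext
      apply LinearMap.ext
      intro v
      apply Subtype.ext
      exact LinearMap.congr_fun hab v
    -- every operator commuting with N' extends
    have hext : LinearMap.range J ≤ LinearMap.range Res := by
      rintro _ ⟨T', rfl⟩
      obtain ⟨π, hπ⟩ := LinearMap.exists_leftInverse_of_injective ι R.ker_subtype
      have hπι : ∀ w : ↥R, π (w : V) = w := fun w => LinearMap.congr_fun hπ w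
      obtain ⟨σ₀, hσ₀⟩ := LinearMap.exists_rightInverse_of_surjective (LinearMap.rangeRestrict N)
        (LinearMap.range_rangeRestrict N)
      have hσ₀' : ∀ w : ↥R, N (σ₀ w) = w := fun w => by
        have := LinearMap.congr_fun hσ₀ w
        exact congrArg Subtype.val this
      have hT' : ∀ w : ↥R, ((T'.1 (N' w) : ↥R) : V) = N (T'.1 w : V) := by
        intro w
        have h1 : N' * T'.1 = T'.1 * N' := T'.2
        have h2 := LinearMap.congr_fun h1 w
        have h3 := congrArg Subtype.val h2
        exact h3.symm
      -- the extension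
      let P : V →ₗ[k] ↥R := LinearMap.rangeRestrict N
      let T : Module.End k V :=
        ι ∘ₗ T'.1 ∘ₗ π + σ₀ ∘ₗ T'.1 ∘ₗ P ∘ₗ (LinearMap.id - ι ∘ₗ π)
      have hTι : ∀ w : ↥R, T (w : V) = (T'.1 w : V) := by
        intro w
        show ((T'.1 (π (w : V)) : ↥R) : V) + σ₀ (T'.1 (P ((w : V) - ((π (w : V) : ↥R) : V)))) = _
        rw [hπι, sub_self, map_zero, map_zero, map_zero, add_zero]
      have hNT : ∀ v : V, N (T v) = (T'.1 (P v) : V) := by
        intro v
        show N (((T'.1 (π v) : ↥R) : V) + σ₀ (T'.1 (P (v - ((π v : ↥R) : V))))) = _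
        rw [map_add, hσ₀']
        have h1 : N ((T'.1 (π v) : ↥R) : V) = ((T'.1 (N' (π v)) : ↥R) : V) := (hT' (π v)).symm
        rw [h1]
        have h2 : N' (π v) + P (v - ((π v : ↥R) : V)) = P v := by
          apply Subtype.ext
          show N ((π v : ↥R) : V) + N (v - ((π v : ↥R) : V)) = N v
          rw [← map_add]
          congr 1
          abel
        rw [← Submodule.coe_add, ← map_add, h2]
      have hTcomm : T ∈ comm N := by
        show N * T = T * N
        apply LinearMap.ext
        intro v
        show N (T v) = T (N v)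
        rw [hNT]
        have : N v = ((P v : ↥R) : V) := rfl
        rw [this, hTι]
      refine ⟨⟨T, hTcomm⟩, ?_⟩
      apply LinearMap.ext
      intro w
      show T (w : V) = (T'.1 w : V)
      exact hTι w
    -- the kernel of the restriction map contains Hom (V / R, K)
    let Φ : ((V ⧸ R) →ₗ[k] ↥K) →ₗ[k] ↥(comm N) :=
      { toFun := fun f => ⟨K.subtype ∘ₗ f ∘ₗ R.mkQ, by
          show N * (K.subtype ∘ₗ f ∘ₗ R.mkQ) = (K.subtype ∘ₗ f ∘ₗ R.mkQ) * N
          apply LinearMap.ext
          intro v
          show N ((f (R.mkQ v) : ↥K) : V) = ((f (R.mkQ (N v)) : ↥K) : V)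
          have h1 : N ((f (R.mkQ v) : ↥K) : V) = 0 := (f (R.mkQ v)).2
          have h2 : R.mkQ (N v) = 0 := by
            rw [Submodule.mkQ_apply, Submodule.Quotient.mk_eq_zero]
            exact LinearMap.mem_range_self N v
          rw [h1, h2, map_zero]
          rfl⟩
        map_add' := fun a b => by apply Subtype.ext; ext v; simp
        map_smul' := fun c a => by apply Subtype.ext; ext v; simp }
    have hΦinj : Function.Injective Φ := by
      intro a b hab
      apply LinearMap.ext
      intro x
      obtain ⟨v, rfl⟩ := Submodule.mkQ_surjective R x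
      apply Subtype.ext
      have h1 := congrArg Subtype.val hab
      exact LinearMap.congr_fun h1 v
    have hΦker : LinearMap.range Φ ≤ LinearMap.ker Res := by
      rintro _ ⟨f, rfl⟩
      rw [LinearMap.mem_ker]
      apply LinearMap.ext
      rintro ⟨_, ⟨v, rfl⟩⟩
      show ((f (R.mkQ (N v)) : ↥K) : V) = 0
      have h2 : R.mkQ (N v) = 0 := by
        rw [Submodule.mkQ_apply, Submodule.Quotient.mk_eq_zero]
        exact LinearMap.mem_range_self N v
      rw [h2, map_zero]
      rfl
    -- dimension count
    have h1 := LinearMap.finrank_range_add_finrank_ker Res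
    have h2 : finrank k ↥(comm N') ≤ finrank k ↥(LinearMap.range Res) := by
      rw [← LinearMap.finrank_range_of_inj hJinj]
      exact Submodule.finrank_mono hext
    have h3 : finrank k ((V ⧸ R) →ₗ[k] ↥K) ≤ finrank k ↥(LinearMap.ker Res) := by
      rw [← LinearMap.finrank_range_of_inj hΦinj]
      exact Submodule.finrank_mono hΦker
    have h4 : finrank k ((V ⧸ R) →ₗ[k] ↥K) = finrank k (V ⧸ R) * finrank k ↥K :=
      Module.finrank_linearMap k k (V ⧸ R) ↥K
    have h5 : finrank k ↥R + finrank k ↥K = finrank k V := LinearMap.finrank_range_add_finrank_ker N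
    have h6 : finrank k (V ⧸ R) + finrank k ↥R = finrank k V := Submodule.finrank_quotient_add_finrank R
    have h7 : finrank k (V ⧸ R) = finrank k ↥K := by omega
    rw [h7] at h4
    set d' := finrank k ↥R
    set δ := finrank k ↥K
    set c := finrank k ↥(comm N)
    set c' := finrank k ↥(comm N')
    have hc : c' + δ * δ ≤ c := by
      rw [h4] at h3
      omega
    rw [← h5]
    -- (d' + δ)² ≤ (s+1)(c' + δ²)
    have key : (d' + δ) ^ 2 ≤ (s + 1) * (c' + δ * δ) := by
      rcases Nat.eq_zero_or_pos s with hs0 | hspos
      · subst hs0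
        have : d' = 0 := by
          have : d' ^ 2 ≤ 0 := by simpa using IH
          exact pow_eq_zero_iff (by norm_num) |>.mp (Nat.le_zero.mp this)
        rw [this]
        nlinarith
      · have h8 : (d' : ℤ) ^ 2 ≤ s * c' := by exact_mod_cast IH
        have h9 : (0 : ℤ) ≤ ((d' : ℤ) - s * δ) ^ 2 := sq_nonneg _
        have h10 : (s : ℤ) * ((d' : ℤ) + δ) ^ 2 ≤ s * ((s + 1) * (c' + δ * δ)) := by
          have hs1 : (1 : ℤ) ≤ s := by exact_mod_cast hspos
          nlinarith
        have h11 : ((d' : ℤ) + δ) ^ 2 ≤ (s + 1) * (c' + δ * δ) := by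
          have hs1 : (0 : ℤ) < s := by exact_mod_cast hspos
          exact le_of_mul_le_mul_left h10 hs1
        exact_mod_cast h11
    calc (d' + δ) ^ 2 ≤ (s + 1) * (c' + δ * δ) := key
      _ ≤ (s + 1) * c := Nat.mul_le_mul_left _ hc

end Square

end Cfsg.Agent.Lib.Helper1.HH
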