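import Cfsg.Agent.Lib.Helper1.HH2
import Cfsg.Agent.Lib.Helper1.HH3
import Cfsg.Agent.Lib.Helper1.HH4
import Cfsg.Agent.Lib.Helper1.FM4

/-!
# Pieces for the critical case of the Hall--Higman theorem in characteristic `p`
-/

set_option autoImplicit false

namespace Cfsg.Agent.Lib.Helper1.HH

open scoped BigOperators
open Module

section Pieces

variable {K : Type*} [Field K] {V : Type*} [AddCommGroup V] [Module K V]

/-- in characteristic `p` an operator of `p`-power order is unipotent. -/
theorem sub_one_pow_eq_zero (p : ℕ) [Fact p.Prime] [CharP K p] [Nontrivial V]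
    (A : Module.End K V) (n : ℕ) (hA : A ^ p ^ n = 1) : (A - 1) ^ p ^ n = 0 := by
  haveI : CharP (Module.End K V) p :=
    charP_of_injective_algebraMap (algebraMap K (Module.End K V)).injective p
  rw [sub_pow_char_pow_of_commute p n (Commute.one_right A), hA, one_pow, sub_self]

/-- a scalar of `p`-power order in characteristic `p` is `1`. -/
theorem scalar_eq_one_of_pow (p : ℕ) [Fact p.Prime] [CharP K p] (μ : K) (n : ℕ)
    (h : μ ^ p ^ n = 1) : μ = 1 := by
  have h1 : (μ - 1) ^ p ^ n = 0 := by
    rw [sub_pow_char_pow, h, one_pow, sub_self]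
  have h2 : μ - 1 = 0 := pow_eq_zero_iff (pow_ne_zero _ (Fact.out : p.Prime).ne_zero) |>.mp h1
  exact sub_eq_zero.mp h2

theorem smul_one_eq_one_iff [Nontrivial V] (μ : K) :
    μ • (1 : Module.End K V) = 1 ↔ μ = 1 := by
  constructor
  · intro h
    obtain ⟨v, hv⟩ := exists_ne (0 : V)
    have h1 := LinearMap.congr_fun h v
    have h2 : μ • v = v := h1
    have h3 : (μ - 1) • v = 0 := by rw [sub_smul, one_smul, h2, sub_self]
    rcases smul_eq_zero.mp h3 with h4 | h4
    · exact sub_eq_zero.mp h4
    · exact absurd h4 hv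
  · intro h
    rw [h, one_smul]

variable {G : Type*} [Group G]

/-- a scalar-acting element of `p`-power order in a faithful representation in characteristic `p`
is trivial. -/
theorem eq_one_of_scalar_of_pow (p : ℕ) [Fact p.Prime] [CharP K p] [Nontrivial V]
    (ρ : Representation K G V) (hfaith : Function.Injective ρ) (z : G) (μ : K)
    (hμ : ρ z = μ • (1 : Module.End K V)) (n : ℕ) (hz : z ^ p ^ n = 1) : z = 1 := by
  have h1 : (ρ z) ^ p ^ n = 1 := by rw [← map_pow, hz, map_one]
  rw [hμ, smul_pow, one_pow, smul_one_eq_one_iff] at h1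
  have h2 := scalar_eq_one_of_pow p μ n h1
  apply hfaith
  rw [hμ, h2, one_smul, map_one]

/-- the commutant of a cyclic group is the commutant of `ρ x - 1`. -/
theorem commutant_zpowers [Finite G] (ρ : Representation K G V) (x : G) :
    commutant ρ ((Subgroup.zpowers x : Subgroup G) : Set G) = comm (ρ x - 1) := by
  ext T
  rw [mem_commutant, mem_comm]
  constructor
  · intro h
    have h1 := h x (Subgroup.mem_zpowers x)
    rw [sub_mul, mul_sub, h1, one_mul, mul_one]
  · intro h g hg
    have h1 : ρ x * T = T * ρ x := by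
      rw [sub_mul, mul_sub, one_mul, mul_one] at h
      exact sub_left_injective h
    have hg' : g ∈ Subgroup.zpowers x := hg
    rw [← mem_powers_iff_mem_zpowers] at hg'
    obtain ⟨n, rfl⟩ := hg'
    rw [map_pow]
    exact (Commute.pow_left (show Commute (ρ x) T from h1) n)

end Pieces

/-- the arithmetic at the end. -/
theorem hh_arith (P s c d : ℕ) (h1 : 2 ≤ s) (h2 : s ≤ P) (h3 : s ≤ c) (h4 : d ^ 2 ≤ s * c)
    (h5 : P + d ^ 2 = P * c + 1) : P ≤ s + 1 ∧ (s + 1 = P → d = s) := by
  obtain ⟨t, rfl⟩ := Nat.exists_eq_add_of_le h2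
  have h6 : t * c + 1 ≤ s + t := by nlinarith
  constructor
  · by_contra hcon
    rw [not_le] at hcon
    have ht : 2 ≤ t := by omega
    nlinarith [Nat.mul_le_mul_left t h3, Nat.mul_le_mul ht h1]
  · intro h7
    have ht : t = 1 := by omega
    subst ht
    have hc : c = s := by omega
    subst hc
    have h8 : d ^ 2 = c ^ 2 := by nlinarith
    exact (Nat.pow_left_injective (n := 2) (by norm_num)) h8

end Cfsg.Agent.Lib.Helper1.HH
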