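import Mathlib

/-!
# A nilpotent endomorphism with a full Jordan block has a one-block quotient (helper1)

For a nilpotent endomorphism `n` of a finite-dimensional space with `n ^ p = 0` and `n ^ (p - 1) v ≠ 0`
there is an invariant subspace `R` avoiding `s = n ^ (p - 1) v` with `V ⧸ R` of dimension `p` and such that
`n w ∈ R` forces `w ∈ R + K s`.
-/

set_option autoImplicit false

namespace Cfsg.Agent.Lib.Helper1.HW

open Module

section LA

variable {K V : Type*} [Field K] [AddCommGroup V] [Module K V] [FiniteDimensional K V]

theorem exists_block_quotient (n : Module.End K V) (p : ℕ) (hp : 1 ≤ p) (hn : n ^ p = 0) (v : V)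
    (hv : (n ^ (p - 1)) v ≠ 0) :
    ∃ R : Submodule K V, (∀ w ∈ R, n w ∈ R) ∧ (n ^ (p - 1)) v ∉ R ∧
      (∀ w, n w ∈ R → ∃ k : K, w - k • (n ^ (p - 1)) v ∈ R) ∧ Module.finrank K (V ⧸ R) = p := by
  classical
  set s : V := (n ^ (p - 1)) v with hs
  obtain ⟨lam, hlam⟩ := Module.Projective.exists_dual_eq_one K hv
  -- the map `w ↦ (lam (n ^ i w))_i`
  let Lam : V →ₗ[K] (Fin p → K) := LinearMap.pi (fun i : Fin p => lam.comp (n ^ (i : ℕ)))
  have hLam : ∀ w (i : Fin p), Lam w i = lam ((n ^ (i : ℕ)) w) := fun w i => rfl
  have hmemR : ∀ w, w ∈ LinearMap.ker Lam ↔ ∀ i < p, lam ((n ^ i) w) = 0 := by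
    intro w
    rw [LinearMap.mem_ker]
    constructor
    · intro h i hi
      have := congrFun h ⟨i, hi⟩
      rwa [hLam] at this
    · intro h
      funext i
      rw [hLam]
      exact h i i.2
  have hpa : ∀ (a b : ℕ) (w : V), (n ^ a) ((n ^ b) w) = (n ^ (a + b)) w := by
    intro a b w
    rw [pow_add (M := Module.End K V) n a b]
    rfl
  have hnpow : ∀ j, p ≤ j → ∀ w, (n ^ j) w = 0 := by
    intro j hj w
    obtain ⟨d, rfl⟩ := Nat.exists_eq_add_of_le hj
    rw [pow_add, hn, zero_mul]
    rfl
  have hinv : ∀ w ∈ LinearMap.ker Lam, n w ∈ LinearMap.ker Lam := by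
    intro w hw
    rw [hmemR] at hw ⊢
    intro i hi
    have h1 : (n ^ i) (n w) = (n ^ (i + 1)) w := by
      rw [pow_succ]
      rfl
    rw [h1]
    by_cases h2 : i + 1 < p
    · exact hw (i + 1) h2
    · rw [hnpow (i + 1) (by omega), map_zero]
  have hsnot : s ∉ LinearMap.ker Lam := by
    intro h
    rw [hmemR] at h
    have := h 0 (by omega)
    rw [pow_zero] at this
    have h2 : lam s = 0 := this
    rw [hlam] at h2
    exact one_ne_zero h2
  have hns : ∀ i, 1 ≤ i → (n ^ i) s = 0 := by
    intro i hi
    rw [hs]
    rw [hpa]
    exact hnpow _ (by omega) v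
  refine ⟨LinearMap.ker Lam, hinv, hsnot, ?_, ?_⟩
  · intro w hw
    refine ⟨lam w, ?_⟩
    rw [hmemR] at hw ⊢
    intro i hi
    rw [map_sub, map_smul, map_sub, map_smul]
    rcases Nat.eq_zero_or_pos i with h0 | hpos
    · subst h0
      rw [pow_zero]
      show lam w - lam w • lam s = 0
      rw [hlam, smul_eq_mul, mul_one, sub_self]
    · rw [hns i hpos, map_zero, smul_zero, sub_zero]
      obtain ⟨i', rfl⟩ : ∃ i', i = i' + 1 := ⟨i - 1, by omega⟩
      have h1 : (n ^ (i' + 1)) w = (n ^ i') (n w) := by
        rw [pow_succ]
        rfl
      rw [h1]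
      exact hw i' (by omega)
  · -- dimension count
    apply le_antisymm
    · have h1 : Module.finrank K (V ⧸ LinearMap.ker Lam) = Module.finrank K (LinearMap.range Lam) :=
        LinearEquiv.finrank_eq Lam.quotKerEquivRange
      rw [h1]
      have h2 := Submodule.finrank_le (LinearMap.range Lam)
      rw [Module.finrank_fin_fun] at h2
      exact h2
    · -- chain of preimages
      set R := LinearMap.ker Lam with hR
      have hRinv : ∀ j, ∀ w ∈ R, (n ^ j) w ∈ R := by
        intro j
        induction j with
        | zero => intro w hw; rwa [pow_zero]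
        | succ j ih =>
          intro w hw
          have h1 : (n ^ (j + 1)) w = n ((n ^ j) w) := by
            rw [pow_succ']
            rfl
          rw [h1]
          exact hinv _ (ih w hw)
      have hchain : ∀ j ≤ p, Module.finrank K R + j ≤ Module.finrank K (R.comap (n ^ j)) := by
        intro j
        induction j with
        | zero =>
          intro _
          rw [pow_zero, add_zero]
          apply Submodule.finrank_mono
          intro w hw
          exact hw
        | succ j ih =>
          intro hj
          have h1 := ih (by omega)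
          have hlt : R.comap (n ^ j) < R.comap (n ^ (j + 1)) := by
            refine lt_of_le_of_ne ?_ ?_
            · intro w hw
              rw [Submodule.mem_comap] at hw ⊢
              have h2 : (n ^ (j + 1)) w = n ((n ^ j) w) := by
                rw [pow_succ']
                rfl
              rw [h2]
              exact hinv _ hw
            · intro heq
              have h2 : (n ^ (p - 1 - j)) v ∈ R.comap (n ^ (j + 1)) := by
                rw [Submodule.mem_comap]
                rw [hpa, hnpow _ (by omega)]
                exact R.zero_mem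
              rw [← heq, Submodule.mem_comap] at h2
              have h3 : (n ^ j) ((n ^ (p - 1 - j)) v) = s := by
                rw [hs]
                rw [hpa]
                congr 2
                omega
              rw [h3] at h2
              exact hsnot h2
          have h3 := Submodule.finrank_lt_finrank_of_lt hlt
          omega
      have h1 := hchain p le_rfl
      have h2 : R.comap (n ^ p) = ⊤ := by
        rw [hn]
        ext w
        simp
      rw [h2, finrank_top] at h1
      have h3 := Submodule.finrank_quotient_add_finrank R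
      omega

end LA

end Cfsg.Agent.Lib.Helper1.HW
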