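import Mathlib
import Cfsg.Agent.Lib.Helper1.HW1
import Cfsg.Agent.Lib.Helper1.HB1

/-!
# One-block quotients of elementary abelian groups with an automorphism of order `p` (helper1)
-/

set_option autoImplicit false

namespace Cfsg.Agent.Lib.Helper1.HW

open Module

/-- the product `a * α a * ⋯ * α ^ (k - 1) a` -/
def cprod {N : Type*} [Group N] (α : MulAut N) (a : N) : ℕ → N
  | 0 => 1
  | k + 1 => cprod α a k * (α ^ k) a

section CProd

variable {N : Type*} [Group N] (hcomm : ∀ x y : N, x * y = y * x)
include hcomm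

theorem cprod_mul (α : MulAut N) (x y : N) (k : ℕ) :
    cprod α (x * y) k = cprod α x k * cprod α y k := by
  induction k with
  | zero => simp [cprod]
  | succ k ih =>
    rw [cprod, cprod, cprod, ih, map_mul]
    calc cprod α x k * cprod α y k * ((α ^ k) x * (α ^ k) y)
        = cprod α x k * (cprod α y k * (α ^ k) x) * (α ^ k) y := by group
      _ = cprod α x k * ((α ^ k) x * cprod α y k) * (α ^ k) y := by rw [hcomm (cprod α y k)]
      _ = cprod α x k * (α ^ k) x * (cprod α y k * (α ^ k) y) := by group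

omit hcomm in
theorem cprod_one (α : MulAut N) (k : ℕ) : cprod α (1 : N) k = 1 := by
  induction k with
  | zero => rfl
  | succ k ih => rw [cprod, ih, map_one, mul_one]

theorem cprod_pow (α : MulAut N) (x : N) (j k : ℕ) :
    cprod α (x ^ j) k = (cprod α x k) ^ j := by
  induction j with
  | zero => rw [pow_zero, pow_zero, cprod_one]
  | succ j ih => rw [pow_succ, pow_succ, cprod_mul hcomm, ih]

theorem cprod_inv (α : MulAut N) (x : N) (k : ℕ) :
    cprod α x⁻¹ k = (cprod α x k)⁻¹ := by
  have h := cprod_mul hcomm α x x⁻¹ k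
  rw [mul_inv_cancel, cprod_one] at h
  exact (inv_eq_of_mul_eq_one_right h.symm).symm

end CProd

section Block

variable {N : Type*} [Group N] [Finite N]

set_option maxHeartbeats 800000 in
theorem exists_block_subgroup (hcomm : ∀ x y : N, x * y = y * x) (p : ℕ) [hp : Fact p.Prime]
    (hexp : ∀ x : N, x ^ p = 1) (α : MulAut N) (hα : α ^ p = 1) (a : N) (ha : cprod α a p ≠ 1) :
    ∃ R : Subgroup N, (∀ x ∈ R, α x ∈ R) ∧ cprod α a p ∉ R ∧
      (∀ x, α x / x ∈ R → ∃ k : ℕ, x / (cprod α a p) ^ k ∈ R) ∧
      Nat.card N = p ^ p * Nat.card R ∧ α (cprod α a p) = cprod α a p := by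
  classical
  letI cg : CommGroup N := { (inferInstance : Group N) with mul_comm := hcomm }
  have hV : ∀ x : Additive N, p • x = 0 := by
    intro x
    show Additive.ofMul (x.toMul ^ p) = 0
    rw [hexp]
    rfl
  haveI mz : Module (ZMod p) (Additive N) := AddCommGroup.zmodModule hV
  haveI mf : Module.Finite (ZMod p) (Additive N) := Module.Finite.of_finite
  let φ : Module.End (ZMod p) (Additive N) :=
    AddMonoidHom.toZModLinearMap p (MonoidHom.toAdditive α.toMonoidHom)
  have hφ : ∀ x : N, φ (Additive.ofMul x) = Additive.ofMul (α x) := fun x => rfl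
  have hφpow : ∀ (k : ℕ) (x : N), (φ ^ k) (Additive.ofMul x) = Additive.ofMul ((α ^ k) x) := by
    intro k
    induction k with
    | zero => intro x; simp
    | succ k ih =>
      intro x
      rw [pow_succ, pow_succ]
      show (φ ^ k) (φ (Additive.ofMul x)) = Additive.ofMul ((α ^ k) (α x))
      rw [hφ, ih]
  have hφp : φ ^ p = 1 := by
    apply LinearMap.ext
    intro v
    obtain ⟨x, rfl⟩ := Additive.ofMul.surjective v
    rw [hφpow, hα]
    rfl
  set n : Module.End (ZMod p) (Additive N) := φ - 1 with hn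
  have hnp : n ^ p = 0 := by
    have h0 : ((Polynomial.X : Polynomial (ZMod p)) - 1) ^ p = Polynomial.X ^ p - 1 ^ p :=
      sub_pow_char (Polynomial.X : Polynomial (ZMod p)) 1
    have h1 := congrArg (Polynomial.aeval φ) h0
    simp only [map_sub, map_pow, Polynomial.aeval_X, map_one, one_pow] at h1
    rw [hn, h1, hφp, sub_self]
  have hsum : n ^ (p - 1) = ∑ i ∈ Finset.range p, φ ^ i := by
    have h1 := HB.sub_one_pow_eq_sum (K := ZMod p) p φ 1
    rw [pow_one] at h1
    exact h1
  have hcprod : ∀ (k : ℕ) (x : N),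
      (∑ i ∈ Finset.range k, φ ^ i) (Additive.ofMul x) = Additive.ofMul (cprod α x k) := by
    intro k x
    induction k with
    | zero =>
      rw [Finset.sum_range_zero]
      rfl
    | succ k ih =>
      rw [Finset.sum_range_succ, LinearMap.add_apply, ih, hφpow]
      rfl
  have hs : (n ^ (p - 1)) (Additive.ofMul a) = Additive.ofMul (cprod α a p) := by
    rw [hsum, hcprod]
  have hv : (n ^ (p - 1)) (Additive.ofMul a) ≠ 0 := by
    rw [hs]
    intro h
    exact ha (Additive.ofMul.injective h)
  obtain ⟨Rb, hinv, hsnot, hsoc, hfin⟩ :=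
    exists_block_quotient n p hp.out.one_lt.le hnp (Additive.ofMul a) hv
  rw [hs] at hsnot hsoc
  let R : Subgroup N :=
    { carrier := {x | Additive.ofMul x ∈ Rb}
      one_mem' := Rb.zero_mem
      mul_mem' := fun {x y} hx hy => Rb.add_mem hx hy
      inv_mem' := fun {x} hx => Rb.neg_mem hx }
  have hmemR : ∀ x : N, x ∈ R ↔ Additive.ofMul x ∈ Rb := fun x => Iff.rfl
  refine ⟨R, ?_, ?_, ?_, ?_, ?_⟩
  · intro x hx
    rw [hmemR] at hx ⊢
    have h1 : Additive.ofMul (α x) = n (Additive.ofMul x) + Additive.ofMul x := by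
      rw [hn, LinearMap.sub_apply, hφ]
      simp
    rw [h1]
    exact Rb.add_mem (hinv _ hx) hx
  · exact hsnot
  · intro x hx
    rw [hmemR] at hx
    have h1 : Additive.ofMul (α x / x) = n (Additive.ofMul x) := by
      rw [hn, LinearMap.sub_apply, hφ]
      rfl
    rw [h1] at hx
    obtain ⟨k, hk⟩ := hsoc _ hx
    refine ⟨k.val, ?_⟩
    rw [hmemR]
    have h2 : Additive.ofMul (x / cprod α a p ^ k.val)
        = Additive.ofMul x - k • Additive.ofMul (cprod α a p) := by
      have h3 : (k.val : ZMod p) • Additive.ofMul (cprod α a p)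
          = k.val • Additive.ofMul (cprod α a p) := Nat.cast_smul_eq_nsmul _ _ _
      haveI : NeZero p := ⟨hp.out.ne_zero⟩
      rw [ZMod.natCast_zmod_val] at h3
      rw [h3]
      rfl
    rw [h2]
    exact hk
  · have h1 := Submodule.card_eq_card_quotient_mul_card Rb
    have h2 : Nat.card (Additive N ⧸ Rb) = p ^ p := by
      rw [Module.natCard_eq_pow_finrank (K := ZMod p), hfin, Nat.card_zmod]
    have h3 : Nat.card ↥Rb = Nat.card ↥R :=
      Nat.card_congr (Equiv.subtypeEquiv Additive.toMul (fun v => Iff.rfl))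
    have h4 : Nat.card (Additive N) = Nat.card N := Nat.card_congr Additive.toMul
    rw [← h4, h1, h2, h3, mul_comm]
  · have h1 : n (Additive.ofMul (cprod α a p)) = 0 := by
      rw [← hs]
      show (n * n ^ (p - 1)) (Additive.ofMul a) = 0
      rw [← pow_succ', Nat.sub_add_cancel hp.out.one_lt.le, hnp]
      rfl
    have h2 : Additive.ofMul (α (cprod α a p)) = Additive.ofMul (cprod α a p) := by
      rw [← hφ]
      have : φ = n + 1 := by rw [hn]; abel
      rw [this, LinearMap.add_apply, h1, zero_add]
      rfl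
    exact Additive.ofMul.injective h2

end Block

end Cfsg.Agent.Lib.Helper1.HW
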