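import Mathlib
import Cfsg.Agent.Lib.Helper1.HW2
import Cfsg.Agent.Lib.Helper20.ExpPLenB
import Cfsg.Agent.Lib.Helper12.Cores

/-!
# Wreath-product sections `C_p ≀ C_p` (helper1)

`WrCond p W` is the list of conditions characterising `C_p ≀ C_p`.  A finite group `T = A⟨t⟩` with `A` a normal
elementary abelian `p`-subgroup, `t ^ p ∈ A` and `a * a^t * ⋯ ≠ 1` for some `a ∈ A` has a quotient satisfying them.
-/

set_option autoImplicit false
set_option linter.style.haveILetI false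

namespace Cfsg.Agent.Lib.Helper1.HW

open Cfsg.Agent.Lib.Helper20.ExpPLen

/-- the conditions characterising the wreath product `C_p ≀ C_p` -/
def WrCond (p : ℕ) (W : Type*) [Group W] : Prop :=
  ∃ (B : Subgroup W) (t : W), B.Normal ∧ IsMulCommutative B ∧ (∀ b ∈ B, b ^ p = 1) ∧
    Nat.card B = p ^ p ∧ orderOf t = p ∧ t ∉ B ∧ Nat.card W = p ^ (p + 1) ∧
    Nat.card ↥(B ⊓ Subgroup.centralizer ({t} : Set W)) = p

theorem WrCond.of_mulEquiv {p : ℕ} {W W' : Type*} [Group W] [Group W'] (e : W ≃* W')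
    (h : WrCond p W) : WrCond p W' := by
  obtain ⟨B, t, hBn, hBc, hBp, hBcard, ht, htB, hW, hC⟩ := h
  have hmem : ∀ w : W, e w ∈ B.map e.toMonoidHom ↔ w ∈ B := by
    intro w
    constructor
    · rintro ⟨b, hb, hbw⟩
      have : b = w := e.injective hbw
      rwa [← this]
    · intro hw
      exact ⟨w, hw, rfl⟩
  refine ⟨B.map e.toMonoidHom, e t, hBn.map e.toMonoidHom e.surjective, ?_, ?_, ?_, ?_, ?_, ?_, ?_⟩
  · refine ⟨⟨fun x y => ?_⟩⟩
    obtain ⟨x, b, hb, rfl⟩ := x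
    obtain ⟨y, c, hc, rfl⟩ := y
    apply Subtype.ext
    show e.toMonoidHom b * e.toMonoidHom c = e.toMonoidHom c * e.toMonoidHom b
    rw [← map_mul, ← map_mul]
    congr 1
    have := hBc.is_comm.comm (⟨b, hb⟩ : ↥B) ⟨c, hc⟩
    exact congrArg Subtype.val this
  · rintro _ ⟨b, hb, rfl⟩
    show (e b) ^ p = 1
    rw [← map_pow, hBp b hb, map_one]
  · rw [Subgroup.card_map_of_injective e.injective]
    exact hBcard
  · rw [← ht]
    exact MulEquiv.orderOf_eq e t
  · rw [hmem]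
    exact htB
  · rw [← hW]
    exact (Nat.card_congr e.toEquiv).symm
  · rw [← hC]
    symm
    apply Nat.card_congr
    refine Equiv.subtypeEquiv e.toEquiv ?_
    intro w
    show w ∈ B ⊓ Subgroup.centralizer ({t} : Set W) ↔
      e w ∈ B.map e.toMonoidHom ⊓ Subgroup.centralizer ({e t} : Set W')
    rw [Subgroup.mem_inf, Subgroup.mem_inf, hmem, Subgroup.mem_centralizer_singleton_iff,
      Subgroup.mem_centralizer_singleton_iff, ← map_mul, ← map_mul]
    constructor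
    · rintro ⟨h1, h2⟩
      exact ⟨h1, by rw [h2]⟩
    · rintro ⟨h1, h2⟩
      exact ⟨h1, e.injective h2⟩

section Wr

variable {T : Type*} [Group T] [Finite T] {p : ℕ} [hp : Fact p.Prime]

set_option maxHeartbeats 1600000 in
theorem exists_wreath_quotient (A : Subgroup T) [hA : A.Normal]
    (hAc : ∀ a ∈ A, ∀ b ∈ A, a * b = b * a) (hAp : ∀ a ∈ A, a ^ p = 1) (t : T) (htp : t ^ p ∈ A)
    (hgen : ∀ g : T, ∃ b ∈ A, ∃ i : ℕ, g = b * t ^ i) (a : T) (ha : a ∈ A)
    (hN : conjProd a t p ≠ 1) :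
    ∃ (R : Subgroup T) (_ : R.Normal), WrCond p (T ⧸ R) := by
  classical
  have hpp : p.Prime := hp.out
  have hcomm' : ∀ x y : ↥A, x * y = y * x := fun x y => Subtype.ext (hAc x x.2 y y.2)
  set α : MulAut ↥A := MulAut.conjNormal t with hα
  have hαpow : ∀ k : ℕ, α ^ k = MulAut.conjNormal (t ^ k) := fun k => (map_pow _ _ _).symm
  have hαapply : ∀ (g : T) (b : ↥A), ((MulAut.conjNormal g b : ↥A) : T) = g * b * g⁻¹ :=
    fun g b => MulAut.conjNormal_apply g b
  have hcent : ∀ g ∈ A, (MulAut.conjNormal g : MulAut ↥A) = 1 := by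
    intro g hg
    ext b
    rw [hαapply, MulAut.one_apply, hAc g hg b b.2]
    group
  have hαp : α ^ p = 1 := by
    rw [hαpow]
    exact hcent _ htp
  have hcp : ∀ (b : ↥A) (k : ℕ), ((cprod α b k : ↥A) : T) = conjProd (b : T) t k := by
    intro b k
    induction k with
    | zero => rfl
    | succ k ih =>
      rw [cprod, conjProd, Subgroup.coe_mul, ih, hαpow, hαapply]
  have hne : cprod α ⟨a, ha⟩ p ≠ 1 := by
    intro h
    apply hN
    rw [← hcp ⟨a, ha⟩ p, h]
    rfl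
  obtain ⟨RA, hRinv, hsnot, hsoc, hcard, hsfix⟩ :=
    exists_block_subgroup hcomm' p (fun x => Subtype.ext (hAp x x.2)) α hαp ⟨a, ha⟩ hne
  set s : ↥A := cprod α ⟨a, ha⟩ p with hs
  set R : Subgroup T := RA.map A.subtype with hR
  have hmemR : ∀ g : T, g ∈ R ↔ ∃ h : g ∈ A, (⟨g, h⟩ : ↥A) ∈ RA := by
    intro g
    constructor
    · rintro ⟨b, hb, rfl⟩
      exact ⟨b.2, hb⟩
    · rintro ⟨h, hb⟩
      exact ⟨⟨g, h⟩, hb, rfl⟩
  have hRA : R ≤ A := fun g hg => ((hmemR g).mp hg).1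
  have hRt : ∀ (k : ℕ) (b : ↥A), b ∈ RA → (α ^ k) b ∈ RA := by
    intro k
    induction k with
    | zero =>
      intro b hb
      rwa [pow_zero]
    | succ k ih =>
      intro b hb
      rw [pow_succ']
      exact hRinv _ (ih b hb)
  have hRn : R.Normal := by
    constructor
    intro r hr g
    obtain ⟨hrA, hrR⟩ := (hmemR r).mp hr
    obtain ⟨b, hb, i, rfl⟩ := hgen g
    have h1 : t ^ i * r * (t ^ i)⁻¹ ∈ A := hA.conj_mem r hrA _
    have h2 : b * t ^ i * r * (b * t ^ i)⁻¹ = t ^ i * r * (t ^ i)⁻¹ := by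
      have := hAc b hb _ h1
      calc b * t ^ i * r * (b * t ^ i)⁻¹ = b * (t ^ i * r * (t ^ i)⁻¹) * b⁻¹ := by group
        _ = (t ^ i * r * (t ^ i)⁻¹) * b * b⁻¹ := by rw [this]
        _ = t ^ i * r * (t ^ i)⁻¹ := by group
    rw [h2, hmemR]
    refine ⟨h1, ?_⟩
    have h3 := hRt i ⟨r, hrA⟩ hrR
    rw [hαpow] at h3
    have h4 : (⟨t ^ i * r * (t ^ i)⁻¹, h1⟩ : ↥A) = MulAut.conjNormal (t ^ i) ⟨r, hrA⟩ :=
      Subtype.ext (hαapply (t ^ i) ⟨r, hrA⟩).symm
    rw [h4]
    exact h3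
  refine ⟨R, hRn, ?_⟩
  haveI := hRn
  set π : T →* T ⧸ R := QuotientGroup.mk' R with hπ
  have hπs : Function.Surjective π := QuotientGroup.mk'_surjective R
  have hπ1 : ∀ x : T, π x = 1 ↔ x ∈ R := fun x => QuotientGroup.eq_one_iff x
  have hπeq : ∀ x y : T, π x = π y ↔ x⁻¹ * y ∈ R := fun x y => QuotientGroup.eq
  -- `t ∉ A`
  have htA : t ∉ A := by
    intro ht
    have h1 : α = 1 := hcent t ht
    have h2 : ∀ k, cprod α (⟨a, ha⟩ : ↥A) k = ⟨a, ha⟩ ^ k := by
      intro k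
      induction k with
      | zero => rw [pow_zero]; rfl
      | succ k ih => rw [cprod, ih, h1, one_pow, MulAut.one_apply, pow_succ]
    apply hne
    rw [hs, h2]
    exact Subtype.ext (hAp a ha)
  -- the modified generator
  obtain ⟨k, hk⟩ := hsoc ⟨t ^ p, htp⟩ (by
    have h1 : α ⟨t ^ p, htp⟩ = ⟨t ^ p, htp⟩ := by
      apply Subtype.ext
      rw [hα, hαapply]
      show t * t ^ p * t⁻¹ = t ^ p
      rw [← pow_succ', pow_succ, mul_inv_cancel_right]
    rw [h1, div_self']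
    exact RA.one_mem)
  set b₁ : ↥A := (⟨a, ha⟩ : ↥A)⁻¹ ^ k with hb₁
  set t' : T := (b₁ : T) * t with ht'
  have ht'p : t' ^ p ∈ R := by
    rw [ht', mul_pow_eq_conjProd, ← hcp b₁ p, hmemR]
    refine ⟨A.mul_mem (cprod α b₁ p).2 htp, ?_⟩
    have h1 : cprod α b₁ p = s⁻¹ ^ k := by
      rw [hb₁, cprod_pow hcomm', cprod_inv hcomm']
    have h2 : (⟨((cprod α b₁ p : ↥A) : T) * t ^ p, A.mul_mem (cprod α b₁ p).2 htp⟩ : ↥A)
        = ⟨t ^ p, htp⟩ / s ^ k := by
      have h3 : (⟨((cprod α b₁ p : ↥A) : T) * t ^ p, A.mul_mem (cprod α b₁ p).2 htp⟩ : ↥A)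
          = cprod α b₁ p * ⟨t ^ p, htp⟩ := rfl
      rw [h3, h1, hcomm', inv_pow, div_eq_mul_inv]
    rw [h2]
    exact hk
  have ht'conj : ∀ x ∈ A, t' * x * t'⁻¹ = t * x * t⁻¹ := by
    intro x hx
    have h1 : t * x * t⁻¹ ∈ A := hA.conj_mem x hx t
    have h2 := hAc b₁ b₁.2 _ h1
    calc t' * x * t'⁻¹ = (b₁ : T) * (t * x * t⁻¹) * (b₁ : T)⁻¹ := by rw [ht']; group
      _ = (t * x * t⁻¹) * (b₁ : T) * (b₁ : T)⁻¹ := by rw [h2]
      _ = t * x * t⁻¹ := by group
  have ht'A : t' ∉ A := by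
    intro h
    apply htA
    have := A.mul_mem (A.inv_mem b₁.2) h
    rwa [ht', inv_mul_cancel_left] at this
  -- cardinalities
  have hcardR : Nat.card ↥R = Nat.card ↥RA := Subgroup.card_map_of_injective A.subtype_injective
  have hRApos : 0 < Nat.card ↥RA := Nat.card_pos
  have hcardB : Nat.card ↥(A.map π) = p ^ p := by
    have h1 := Cfsg.Agent.Lib.Helper12.card_comap_mk' R (A.map π)
    have h2 : (A.map π).comap π = A := by
      rw [Subgroup.comap_map_eq, hπ, QuotientGroup.ker_mk']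
      exact sup_eq_left.mpr hRA
    rw [← hπ, h2, hcard, hcardR, mul_comm] at h1
    exact (Nat.eq_of_mul_eq_mul_left hRApos h1).symm
  have hordt : orderOf ((QuotientGroup.mk' A) t) = p := by
    apply orderOf_eq_prime
    · rw [← map_pow]
      exact (QuotientGroup.eq_one_iff _).mpr htp
    · intro h
      exact htA ((QuotientGroup.eq_one_iff _).mp h)
  have hcardTA : Nat.card (T ⧸ A) = p := by
    rw [← hordt]
    symm
    apply orderOf_eq_card_of_forall_mem_zpowers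
    intro x
    obtain ⟨g, rfl⟩ := QuotientGroup.mk'_surjective A x
    obtain ⟨b, hb, i, rfl⟩ := hgen g
    have hb1 : (QuotientGroup.mk' A) b = 1 := (QuotientGroup.eq_one_iff b).mpr hb
    rw [map_mul, hb1, one_mul, map_pow]
    exact Subgroup.npow_mem_zpowers _ i
  have hcardW : Nat.card (T ⧸ R) = p ^ (p + 1) := by
    have h1 := Subgroup.card_eq_card_quotient_mul_card_subgroup R
    have h2 := Subgroup.card_eq_card_quotient_mul_card_subgroup A
    rw [hcardTA, hcard] at h2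
    rw [h2, hcardR] at h1
    have h3 : p ^ (p + 1) * Nat.card ↥RA = Nat.card (T ⧸ R) * Nat.card ↥RA := by
      rw [← h1, pow_succ]
      ring
    exact (Nat.eq_of_mul_eq_mul_right hRApos h3).symm
  -- the image of `s`
  have hsA : (s : T) ∈ A := s.2
  have hπs1 : π (s : T) ≠ 1 := by
    intro h
    rw [hπ1, hmemR] at h
    obtain ⟨_, h2⟩ := h
    exact hsnot h2
  have hπsp : π (s : T) ^ p = 1 := by
    rw [← map_pow, hAp _ hsA, map_one]
  have hords : orderOf (π (s : T)) = p := orderOf_eq_prime hπsp hπs1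
  have hsfix' : t * (s : T) * t⁻¹ = (s : T) := by
    have := congrArg Subtype.val hsfix
    rwa [hα, hαapply] at this
  refine ⟨A.map π, π t', hA.map π hπs, ?_, ?_, hcardB, ?_, ?_, hcardW, ?_⟩
  · refine ⟨⟨fun x y => ?_⟩⟩
    obtain ⟨x, b, hb, rfl⟩ := x
    obtain ⟨y, c, hc, rfl⟩ := y
    apply Subtype.ext
    show π b * π c = π c * π b
    rw [← map_mul, ← map_mul, hAc b hb c hc]
  · rintro _ ⟨b, hb, rfl⟩
    rw [← map_pow, hAp b hb, map_one]
  · apply orderOf_eq_prime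
    · rw [← map_pow]
      exact (hπ1 _).mpr ht'p
    · intro h
      exact ht'A (hRA ((hπ1 _).mp h))
  · rintro ⟨b, hb, hbt⟩
    apply ht'A
    have h1 : b⁻¹ * t' ∈ R := (hπeq b t').mp hbt
    have h2 := A.mul_mem hb (hRA h1)
    rwa [mul_inv_cancel_left] at h2
  · have hC : A.map π ⊓ Subgroup.centralizer ({π t'} : Set (T ⧸ R)) = Subgroup.zpowers (π (s : T)) := by
      apply le_antisymm
      · intro w hw0
        obtain ⟨⟨x, hx, rfl⟩, hw⟩ := Subgroup.mem_inf.mp hw0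
        rw [Subgroup.mem_centralizer_singleton_iff] at hw
        -- `t' x t'⁻¹ x⁻¹ ∈ R`
        have h1 : π (t' * x * t'⁻¹ * x⁻¹) = 1 := by
          rw [map_mul, map_mul, map_mul, map_inv, map_inv, ← hw]
          group
        rw [hπ1, ht'conj x hx, hmemR] at h1
        obtain ⟨h2, h3⟩ := h1
        have h4 : (⟨t * x * t⁻¹ * x⁻¹, h2⟩ : ↥A) = α ⟨x, hx⟩ / ⟨x, hx⟩ := by
          apply Subtype.ext
          rw [div_eq_mul_inv, Subgroup.coe_mul, hα, hαapply]
          rfl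
        rw [h4] at h3
        obtain ⟨j, hj⟩ := hsoc ⟨x, hx⟩ h3
        rw [Subgroup.mem_zpowers_iff]
        refine ⟨(j : ℤ), ?_⟩
        rw [zpow_natCast, ← map_pow]
        symm
        rw [hπeq]
        have h5 : x⁻¹ * (s : T) ^ j ∈ R := by
          have h6 : ((⟨x, hx⟩ / s ^ j : ↥A) : T) ∈ R := by
            rw [hmemR]
            exact ⟨(⟨x, hx⟩ / s ^ j : ↥A).2, hj⟩
          have h7 := R.inv_mem h6
          have h8 : (((⟨x, hx⟩ / s ^ j : ↥A) : T))⁻¹ = x⁻¹ * (s : T) ^ j := by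
            rw [div_eq_mul_inv, Subgroup.coe_mul, mul_inv_rev, Subgroup.coe_inv, inv_inv,
              Subgroup.coe_pow]
            exact hAc _ (A.pow_mem hsA j) _ (A.inv_mem hx)
          rwa [h8] at h7
        exact h5
      · rw [Subgroup.zpowers_le, Subgroup.mem_inf]
        refine ⟨⟨(s : T), hsA, rfl⟩, ?_⟩
        rw [Subgroup.mem_centralizer_singleton_iff]
        rw [← map_mul, ← map_mul]
        congr 1
        have h1 := ht'conj (s : T) hsA
        rw [hsfix'] at h1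
        calc (s : T) * t' = t' * (s : T) * t'⁻¹ * t' := by rw [h1]
          _ = t' * (s : T) := by group
    rw [hC, Nat.card_zpowers, hords]

end Wr

end Cfsg.Agent.Lib.Helper1.HW
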