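import Mathlib
import Cfsg.Agent.Lib.Helper1.HB10
import Cfsg.Agent.Lib.Helper24.PSolvable

/-!
# Hall–Higman Theorem B for faithful representations (helper1)
-/

set_option autoImplicit false
set_option linter.style.haveILetI false

namespace Cfsg.Agent.Lib.Helper1.HW

open Module

/-- in characteristic `p` the minimal polynomial of an endomorphism of `p`-power order is a power of `X - 1` -/
theorem exists_minpoly_eq {F : Type*} [Field F] {p : ℕ} [Fact p.Prime] [CharP F p] {V : Type*}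
    [AddCommGroup V] [Module F V] [FiniteDimensional F V] (f : Module.End F V) (n : ℕ)
    (hf : f ^ p ^ n = 1) : ∃ r ≤ p ^ n, minpoly F f = (Polynomial.X - 1) ^ r := by
  have h0 : ((Polynomial.X : Polynomial F) - 1) ^ p ^ n = Polynomial.X ^ p ^ n - 1 ^ p ^ n :=
    sub_pow_char_pow (Polynomial.X : Polynomial F) 1 n
  have h1 : Polynomial.aeval f (((Polynomial.X : Polynomial F) - 1) ^ p ^ n) = 0 := by
    rw [h0]
    simp [hf]
  have h2 := minpoly.dvd F f h1
  have hprime : Prime ((Polynomial.X : Polynomial F) - 1) := by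
    have := Polynomial.prime_X_sub_C (1 : F)
    rwa [Polynomial.C_1] at this
  obtain ⟨r, hr, hassoc⟩ := (dvd_prime_pow hprime _).mp h2
  refine ⟨r, hr, ?_⟩
  have hint : IsIntegral F f := Algebra.IsIntegral.isIntegral f
  have hmon1 : (minpoly F f).Monic := minpoly.monic hint
  have hmon2 : (((Polynomial.X : Polynomial F) - 1) ^ r).Monic := by
    have := (Polynomial.monic_X_sub_C (1 : F)).pow r
    rwa [Polynomial.C_1] at this
  exact Polynomial.eq_of_monic_of_associated hmon1 hmon2 hassoc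

/-- **Hall–Higman Theorem B** for a faithful representation of a `p`-soluble group with `O_p = 1`. -/
theorem hall_higman_B_rep {F : Type*} [Field F] {p : ℕ} [Fact p.Prime] [CharP F p] {V : Type*}
    [AddCommGroup V] [Module F V] [FiniteDimensional F V] [Nontrivial V] {Γ : Type*} [Group Γ]
    [Finite Γ] (ρ : Γ →* (V ≃ₗ[F] V)) (hρ : Function.Injective ρ) (hsol : Cfsg.IsPSolvable p Γ)
    (hOp : Cfsg.pCore p Γ = ⊥) (g : Γ) (n : ℕ) (hn : orderOf g = p ^ n) (r : ℕ)
    (hr : minpoly F ((ρ g : V ≃ₗ[F] V) : Module.End F V) = (Polynomial.X - 1) ^ r) :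
    r = p ^ n ∨ ∃ n₀ q m : ℕ, 1 ≤ n₀ ∧ n₀ ≤ n ∧ q.Prime ∧ 1 ≤ m ∧ p ^ n₀ - 1 = q ^ m ∧
      (∀ Q : Sylow q Γ, ¬ IsMulCommutative Q) ∧ p ^ (n - n₀) * (p ^ n₀ - 1) ≤ r := by
  classical
  haveI : Finite ρ.range := Finite.of_surjective ρ.rangeRestrict ρ.rangeRestrict_surjective
  have hsol' : Cfsg.IsPSolvable p ρ.range :=
    Cfsg.Agent.Lib.Helper24.isPSolvable_of_surjective p ρ.rangeRestrict ρ.rangeRestrict_surjective hsol
  have hinj : Function.Injective ρ.rangeRestrict := by
    intro a b hab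
    apply hρ
    exact congrArg Subtype.val hab
  have hOp' : Cfsg.pCore p ρ.range = ⊥ := by
    have hN : (Cfsg.pCore p ρ.range).comap ρ.rangeRestrict ≤ Cfsg.pCore p Γ := by
      apply le_pCore
      · haveI := pCore_normal p ρ.range
        infer_instance
      · exact (pCore_isPGroup p ρ.range).comap_of_injective ρ.rangeRestrict hinj
    rw [hOp] at hN
    rw [eq_bot_iff]
    intro h hh
    obtain ⟨a, rfl⟩ := ρ.rangeRestrict_surjective h
    have h1 : a ∈ (Cfsg.pCore p ρ.range).comap ρ.rangeRestrict := hh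
    have h2 := hN h1
    rw [Subgroup.mem_bot] at h2 ⊢
    rw [h2, map_one]
  have hord : orderOf (ρ g) = p ^ n := by
    rw [orderOf_injective ρ hρ g]
    exact hn
  rcases HB.hall_higman_B ρ.range hsol' hOp' (ρ g) ⟨g, rfl⟩ n hord r hr with h | h
  · left
    exact h
  · right
    obtain ⟨n₀, q, m, h1, h2, hq, h3, h4, h5, h6⟩ := h
    refine ⟨n₀, q, m, h1, h2, hq, h3, h4, ?_, h6⟩
    intro Q hQ
    haveI : Fact q.Prime := ⟨hq⟩
    apply h5 (Q.mapSurjective ρ.rangeRestrict_surjective)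
    refine ⟨⟨fun x y => ?_⟩⟩
    obtain ⟨x, hx⟩ := x
    obtain ⟨y, hy⟩ := y
    have hx' : x ∈ (Q : Subgroup Γ).map ρ.rangeRestrict := by
      rw [← Sylow.coe_mapSurjective ρ.rangeRestrict_surjective]
      exact hx
    have hy' : y ∈ (Q : Subgroup Γ).map ρ.rangeRestrict := by
      rw [← Sylow.coe_mapSurjective ρ.rangeRestrict_surjective]
      exact hy
    obtain ⟨a, ha, rfl⟩ := hx'
    obtain ⟨b, hb, rfl⟩ := hy'
    apply Subtype.ext
    show ρ.rangeRestrict a * ρ.rangeRestrict b = ρ.rangeRestrict b * ρ.rangeRestrict a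
    rw [← map_mul, ← map_mul]
    congr 1
    have := hQ.is_comm.comm (⟨a, ha⟩ : ↥(Q : Subgroup Γ)) ⟨b, hb⟩
    exact congrArg Subtype.val this

end Cfsg.Agent.Lib.Helper1.HW
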