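import Mathlib
import Cfsg.Agent.Lib.Helper1.HW2
import Cfsg.Agent.Lib.Helper1.HW4

/-!
# Consequence of Theorem B for a faithful action on an elementary abelian `p`-group (helper1)
-/

set_option autoImplicit false
set_option linter.style.haveILetI false

namespace Cfsg.Agent.Lib.Helper1.HW

open Module

set_option maxHeartbeats 1600000 in
/-- If the `p`-soluble group `Γ` with `O_p(Γ) = 1` acts faithfully on the elementary abelian `p`-group `Q` and
`g ∈ Γ` has order `p ^ n`, `n ≥ 1`, and the exceptional case of Theorem B is excluded, then the "norm"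
`a * g a * ⋯ * g ^ (p ^ n - 1) a` is nontrivial for some `a ∈ Q`. -/
theorem exists_cprod_ne_one {Γ Q : Type*} [Group Γ] [Finite Γ] [CommGroup Q] [Finite Q] {p : ℕ}
    [hp : Fact p.Prime] (hQ : ∀ a : Q, a ^ p = 1) (act : Γ →* MulAut Q)
    (hact : Function.Injective act) (hsol : Cfsg.IsPSolvable p Γ) (hOp : Cfsg.pCore p Γ = ⊥)
    (g : Γ) (n : ℕ) (hn1 : 1 ≤ n) (hn : orderOf g = p ^ n)
    (hne : ¬ ∃ n₀ q m : ℕ, 1 ≤ n₀ ∧ n₀ ≤ n ∧ q.Prime ∧ 1 ≤ m ∧ p ^ n₀ - 1 = q ^ m ∧
      ∀ Q' : Sylow q Γ, ¬ IsMulCommutative Q') :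
    ∃ a : Q, cprod (act g) a (p ^ n) ≠ 1 := by
  classical
  have hpp : p.Prime := hp.out
  have hV : ∀ x : Additive Q, p • x = 0 := by
    intro x
    show Additive.ofMul (x.toMul ^ p) = 0
    rw [hQ]
    rfl
  haveI mz : Module (ZMod p) (Additive Q) := AddCommGroup.zmodModule hV
  haveI mf : Module.Finite (ZMod p) (Additive Q) := Module.Finite.of_finite
  let toLin : MulAut Q →* (Additive Q ≃ₗ[ZMod p] Additive Q) :=
    { toFun := fun e => (MulEquiv.toAdditive e).toLinearEquiv
        (fun c v => ZMod.map_smul (MulEquiv.toAdditive e) c v)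
      map_one' := by
        apply LinearEquiv.ext
        intro v
        rfl
      map_mul' := fun e f => by
        apply LinearEquiv.ext
        intro v
        rfl }
  have htoLin : ∀ (e : MulAut Q) (x : Q), toLin e (Additive.ofMul x) = Additive.ofMul (e x) :=
    fun e x => rfl
  let ρ : Γ →* (Additive Q ≃ₗ[ZMod p] Additive Q) := toLin.comp act
  have hρapply : ∀ (a : Γ) (x : Q), ρ a (Additive.ofMul x) = Additive.ofMul (act a x) :=
    fun a x => rfl
  have hρ : Function.Injective ρ := by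
    intro a b hab
    apply hact
    ext x
    have h1 := hρapply a x
    rw [hab, hρapply] at h1
    exact (Additive.ofMul.injective h1).symm
  -- `V` is nontrivial
  haveI hnt : Nontrivial (Additive Q) := by
    by_contra hcon
    rw [not_nontrivial_iff_subsingleton] at hcon
    have h1 : ρ g = ρ 1 := by
      apply LinearEquiv.ext
      intro v
      exact Subsingleton.elim _ _
    have h2 : g = 1 := hρ h1
    rw [h2, orderOf_one] at hn
    have h3 : 1 < p ^ n := Nat.one_lt_pow (by omega) hpp.one_lt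
    omega
  set f : Module.End (ZMod p) (Additive Q) := ((ρ g : Additive Q ≃ₗ[ZMod p] Additive Q) : Module.End (ZMod p) (Additive Q))
    with hf
  have hfpow : ∀ k : ℕ, f ^ k = ((ρ (g ^ k) : Additive Q ≃ₗ[ZMod p] Additive Q) : Module.End (ZMod p) (Additive Q)) := by
    intro k
    rw [map_pow]
    exact (map_pow (LinearEquiv.automorphismGroup.toLinearMapMonoidHom
      (R := ZMod p) (M := Additive Q)) (ρ g) k).symm
  have hfapply : ∀ (k : ℕ) (x : Q), (f ^ k) (Additive.ofMul x) = Additive.ofMul ((act g ^ k) x) := by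
    intro k x
    rw [hfpow, ← map_pow]
    exact hρapply (g ^ k) x
  have hfp : f ^ p ^ n = 1 := by
    rw [hfpow, ← hn, pow_orderOf_eq_one, map_one]
    rfl
  obtain ⟨r, hr_le, hr⟩ := exists_minpoly_eq f n hfp
  have hr' : r = p ^ n := by
    rcases hall_higman_B_rep ρ hρ hsol hOp g n hn r hr with h | h
    · exact h
    · exfalso
      obtain ⟨n₀, q, m, h1, h2, hq, h3, h4, h5, h6⟩ := h
      exact hne ⟨n₀, q, m, h1, h2, hq, h3, h4, h5⟩
  have hpos : 0 < p ^ n := pow_pos hpp.pos n
  have hN : (f - 1) ^ (p ^ n - 1) ≠ 0 := by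
    intro h0
    have h1 : Polynomial.aeval f ((Polynomial.X - 1 : Polynomial (ZMod p)) ^ (p ^ n - 1)) = 0 := by
      simpa using h0
    have h2 := minpoly.dvd (ZMod p) f h1
    rw [hr, hr'] at h2
    have hX1 : (Polynomial.X - 1 : Polynomial (ZMod p)) ≠ 0 := by
      have := Polynomial.X_sub_C_ne_zero (1 : ZMod p)
      rwa [Polynomial.C_1] at this
    have hX1u : ¬ IsUnit (Polynomial.X - 1 : Polynomial (ZMod p)) := by
      have := Polynomial.not_isUnit_X_sub_C (1 : ZMod p)
      rwa [Polynomial.C_1] at this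
    have := (pow_dvd_pow_iff hX1 hX1u).mp h2
    omega
  have hex : ∃ v : Additive Q, ((f - 1) ^ (p ^ n - 1)) v ≠ 0 := by
    by_contra hcon
    push Not at hcon
    apply hN
    apply LinearMap.ext
    intro v
    rw [hcon v]
    rfl
  obtain ⟨v, hv⟩ := hex
  obtain ⟨a, rfl⟩ := Additive.ofMul.surjective v
  refine ⟨a, ?_⟩
  have hsum : (f - 1) ^ (p ^ n - 1) = ∑ i ∈ Finset.range (p ^ n), f ^ i :=
    HB.sub_one_pow_eq_sum (K := ZMod p) p f n
  have hcprod : ∀ (k : ℕ) (x : Q),
      (∑ i ∈ Finset.range k, f ^ i) (Additive.ofMul x) = Additive.ofMul (cprod (act g) x k) := by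
    intro k x
    induction k with
    | zero =>
      rw [Finset.sum_range_zero]
      rfl
    | succ k ih =>
      rw [Finset.sum_range_succ, LinearMap.add_apply, ih, hfapply]
      rfl
  rw [hsum, hcprod] at hv
  intro h
  apply hv
  rw [h]
  rfl

end Cfsg.Agent.Lib.Helper1.HW
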