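import Mathlib
import Cfsg.Agent.Lib.Helper1.HW5
import Cfsg.Agent.Lib.Helper20.ExpPLenC
import Cfsg.Agent.Lib.Helper12.HallHigman

/-!
# Theorem B in a `p`-soluble group with `O_{p'} = 1`, in terms of conjugation on `O_p` (helper1)
-/

set_option autoImplicit false
set_option linter.style.haveILetI false

namespace Cfsg.Agent.Lib.Helper1.HW

open Cfsg Cfsg.Agent.Lib.Helper20.ExpPLen

variable {X : Type*} [Group X] [Finite X]

/-- the action of `X / O_p(X)` on the Frattini quotient of `O_p(X)` is faithful when `O_{p'}(X) = 1` -/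
theorem fqAct_injective (p : ℕ) [hp : Fact p.Prime] [hn : (pCore p X).Normal]
    (hsol : IsPSolvable p X) (hO : pPrimeCore p X = ⊥) : Function.Injective (fqAct (X := X) p) := by
  have hR : IsPGroup p ↥(pCore p X) := Cfsg.Agent.Lib.Helper1.pCore_isPGroup p X
  rw [← MonoidHom.ker_eq_bot_iff]
  have hker : (fqAct (X := X) p).ker ≤ pCore p (X ⧸ pCore p X) := by
    apply Cfsg.Agent.Lib.Helper1.le_pCore
    · infer_instance
    · rintro ⟨gb, hgb⟩
      obtain ⟨g, rfl⟩ := QuotientGroup.mk_surjective gb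
      rw [MonoidHom.mem_ker] at hgb
      have htriv : ∀ v : ↥(pCore p X),
          v⁻¹ * (MulAut.conjNormal (H := pCore p X) g) v ∈ frattini ↥(pCore p X) := by
        intro v
        have h1 : fqAct p (QuotientGroup.mk g : X ⧸ pCore p X) (QuotientGroup.mk v) = QuotientGroup.mk v := by
          rw [hgb]
          rfl
        rw [fqAct_mk] at h1
        exact QuotientGroup.eq.mp h1.symm
      obtain ⟨k, hk⟩ := Cfsg.Agent.Lib.Helper26.exists_pow_eq_one_of_frattini hR _ htriv
      have hcent : g ^ p ^ k ∈ Subgroup.centralizer ((pCore p X : Subgroup X) : Set X) := by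
        rw [Subgroup.mem_centralizer_iff]
        intro r hr
        have h1 : (MulAut.conjNormal (H := pCore p X) (g ^ p ^ k)) ⟨r, hr⟩ = ⟨r, hr⟩ := by
          rw [map_pow, hk]
          rfl
        have h2 : g ^ p ^ k * r * (g ^ p ^ k)⁻¹ = r := congrArg Subtype.val h1
        calc r * g ^ p ^ k = (g ^ p ^ k * r * (g ^ p ^ k)⁻¹) * g ^ p ^ k := by rw [h2]
          _ = g ^ p ^ k * r := by group
      have hmem : g ^ p ^ k ∈ pCore p X :=
        Cfsg.Agent.Lib.Helper12.centralizer_pCore_le_pCore p hsol hO hcent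
      refine ⟨k, Subtype.ext ?_⟩
      show (QuotientGroup.mk g : X ⧸ pCore p X) ^ p ^ k = 1
      rw [← QuotientGroup.mk_pow]
      exact (QuotientGroup.eq_one_iff _).mpr hmem
  rw [pcore_quot_eq_bot p] at hker
  exact le_bot_iff.mp hker

set_option maxHeartbeats 800000 in
/-- **Theorem B inside a `p`-soluble group.** If `O_{p'}(X) = 1`, the image of `y` in `X / O_p(X)` has order
`p ^ n`, `n ≥ 1`, and the exceptional case is excluded, then for some `u ∈ O_p(X)` the product
`u * u^y * ⋯` of the `p ^ n` conjugates does not lie in the Frattini subgroup of `O_p(X)`. -/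
theorem exists_conjProd_notMem (p : ℕ) [hp : Fact p.Prime] [hn : (pCore p X).Normal]
    (hsol : IsPSolvable p X) (hO : pPrimeCore p X = ⊥) (y : X) (n : ℕ) (hn1 : 1 ≤ n)
    (hy : orderOf (QuotientGroup.mk y : X ⧸ pCore p X) = p ^ n)
    (hne : ¬ ∃ n₀ q m : ℕ, 1 ≤ n₀ ∧ n₀ ≤ n ∧ q.Prime ∧ 1 ≤ m ∧ p ^ n₀ - 1 = q ^ m ∧
      ∀ Q' : Sylow q (X ⧸ pCore p X), ¬ IsMulCommutative Q') :
    ∃ u : ↥(pCore p X),
      (⟨conjProd (u : X) y (p ^ n), conjProd_mem (pCore p X) (u : X) y u.2 (p ^ n)⟩ : ↥(pCore p X))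
        ∉ frattini ↥(pCore p X) := by
  have hR : IsPGroup p ↥(pCore p X) := Cfsg.Agent.Lib.Helper1.pCore_isPGroup p X
  letI := Cfsg.Agent.Lib.Helper26.fqCommGroup hR
  have hsol' : IsPSolvable p (X ⧸ pCore p X) :=
    Cfsg.Agent.Lib.Helper24.isPSolvable_of_surjective p _ (QuotientGroup.mk'_surjective _) hsol
  have hOp' : pCore p (X ⧸ pCore p X) = ⊥ := pcore_quot_eq_bot p
  obtain ⟨a, ha⟩ := exists_cprod_ne_one (Q := ↥(pCore p X) ⧸ frattini ↥(pCore p X))
    (Cfsg.Agent.Lib.Helper26.fq_pow hR) (fqAct p) (fqAct_injective p hsol hO) hsol' hOp'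
    (QuotientGroup.mk y : X ⧸ pCore p X) n hn1 hy hne
  obtain ⟨u, rfl⟩ := QuotientGroup.mk_surjective a
  refine ⟨u, ?_⟩
  have hpow : ∀ (k : ℕ) (v : ↥(pCore p X)),
      ((fqAct p (QuotientGroup.mk y : X ⧸ pCore p X)) ^ k) (QuotientGroup.mk v)
        = QuotientGroup.mk ((MulAut.conjNormal (H := pCore p X) (y ^ k)) v) := by
    intro k v
    rw [← map_pow, ← QuotientGroup.mk_pow, fqAct_mk]
  have hcp : ∀ k : ℕ, cprod (fqAct p (QuotientGroup.mk y : X ⧸ pCore p X)) (QuotientGroup.mk u) k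
      = QuotientGroup.mk (⟨conjProd (u : X) y k, conjProd_mem (pCore p X) (u : X) y u.2 k⟩ :
          ↥(pCore p X)) := by
    intro k
    induction k with
    | zero => rfl
    | succ k ih =>
      rw [cprod, ih, hpow]
      rfl
  rw [hcp] at ha
  intro hmem
  exact ha ((QuotientGroup.eq_one_iff _).mpr hmem)

end Cfsg.Agent.Lib.Helper1.HW
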