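import Mathlib
import Cfsg.Prelude.Def_LocalEven
import Cfsg.Agent.Lib.Helper1.HW3
import Cfsg.Agent.Lib.Helper27.Involves

/-!
# A section `C_p ≀ C_p` from a nontrivial norm on `O / M` (helper1)
-/

set_option autoImplicit false
set_option linter.style.haveILetI false

namespace Cfsg.Agent.Lib.Helper1.HW

open Cfsg.Agent.Lib.Helper20.ExpPLen

universe u v w

theorem map_conjProd {G H : Type*} [Group G] [Group H] (f : G →* H) (v y : G) (k : ℕ) :
    f (conjProd v y k) = conjProd (f v) (f y) k := by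
  induction k with
  | zero => simp [conjProd]
  | succ k ih => rw [conjProd, conjProd, map_mul, ih, map_mul, map_mul, map_inv, map_pow]

/-- Involvement pulls back along surjections. -/
theorem involves_pullback {H : Type u} [Group H] {A : Type v} [Group A] {B : Type w} [Group B]
    (f : A →* B) (hf : Function.Surjective f) (h : Cfsg.Involves H B) : Cfsg.Involves H A := by
  obtain ⟨K, R, hn, ⟨e⟩⟩ := h
  refine Cfsg.Agent.Lib.Helper27.involves_of_surjective_on_subgroup (K.comap f)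
    ((e.toMonoidHom.comp (QuotientGroup.mk' (R.subgroupOf K))).comp (f.subgroupComap K)) ?_
  intro x
  obtain ⟨y, hy⟩ := QuotientGroup.mk'_surjective (R.subgroupOf K) (e.symm x)
  obtain ⟨z, hz⟩ := MonoidHom.subgroupComap_surjective_of_surjective f K hf y
  refine ⟨z, ?_⟩
  simp only [MonoidHom.coe_comp, Function.comp_apply, hz, hy]
  simp

theorem involves_congr {H : Type u} [Group H] {H' : Type v} [Group H'] {G : Type w} [Group G]
    (e : H ≃* H') (h : Cfsg.Involves H G) : Cfsg.Involves H' G := by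
  obtain ⟨K, R, hn, ⟨f⟩⟩ := h
  exact ⟨K, R, hn, ⟨f.trans e⟩⟩

set_option maxHeartbeats 800000 in
theorem exists_wrSection {X : Type u} [Group X] [Finite X] {p : ℕ} [hp : Fact p.Prime]
    (O M S : Subgroup X) [hOn : O.Normal] [hMn : M.Normal] (hOS : O ≤ S)
    (hcomm : ∀ a ∈ O, ∀ b ∈ O, (a * b)⁻¹ * (b * a) ∈ M) (hpow : ∀ a ∈ O, a ^ p ∈ M)
    (y : X) (hyS : y ∈ S) (hyp : y ^ p ∈ O) (u : X) (hu : u ∈ O) (hN : conjProd u y p ∉ M) :
    ∃ (W : Type u) (_ : Group W) (_ : Finite W), WrCond p W ∧ Cfsg.Involves W ↥S := by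
  classical
  set T₀ : Subgroup X := O ⊔ Subgroup.zpowers y with hT₀
  have hOT : O ≤ T₀ := le_sup_left
  have hyT : y ∈ T₀ := (le_sup_right : Subgroup.zpowers y ≤ T₀) (Subgroup.mem_zpowers y)
  have hTS : T₀ ≤ S := sup_le hOS (by rw [Subgroup.zpowers_le]; exact hyS)
  set M' : Subgroup ↥T₀ := M.subgroupOf T₀ with hM'
  haveI hM'n : M'.Normal := Subgroup.normal_subgroupOf
  set π₀ : ↥T₀ →* ↥T₀ ⧸ M' := QuotientGroup.mk' M' with hπ₀
  have hπ₀s : Function.Surjective π₀ := QuotientGroup.mk'_surjective M'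
  have hπ₀eq : ∀ a b : ↥T₀, π₀ a = π₀ b ↔ (a : X)⁻¹ * (b : X) ∈ M := by
    intro a b
    rw [hπ₀, QuotientGroup.mk'_apply, QuotientGroup.mk'_apply, QuotientGroup.eq, hM',
      Subgroup.mem_subgroupOf]
    rfl
  have hπ₀1 : ∀ a : ↥T₀, π₀ a = 1 ↔ (a : X) ∈ M := by
    intro a
    rw [hπ₀, QuotientGroup.mk'_apply, QuotientGroup.eq_one_iff, hM', Subgroup.mem_subgroupOf]
  set O' : Subgroup ↥T₀ := O.subgroupOf T₀ with hO'
  haveI hO'n : O'.Normal := Subgroup.normal_subgroupOf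
  set A : Subgroup (↥T₀ ⧸ M') := O'.map π₀ with hA
  haveI hAn : A.Normal := Subgroup.Normal.map hO'n π₀ hπ₀s
  have hAc : ∀ a ∈ A, ∀ b ∈ A, a * b = b * a := by
    rintro _ ⟨a, ha, rfl⟩ _ ⟨b, hb, rfl⟩
    rw [← map_mul, ← map_mul, hπ₀eq]
    exact hcomm a ha b hb
  have hAp : ∀ a ∈ A, a ^ p = 1 := by
    rintro _ ⟨a, ha, rfl⟩
    rw [← map_pow, hπ₀1]
    exact hpow a ha
  set t : ↥T₀ ⧸ M' := π₀ ⟨y, hyT⟩ with ht
  have htp : t ^ p ∈ A := by
    rw [ht, ← map_pow]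
    exact ⟨_, hyp, rfl⟩
  have hgen : ∀ g : ↥T₀ ⧸ M', ∃ b ∈ A, ∃ i : ℕ, g = b * t ^ i := by
    intro g
    obtain ⟨g, rfl⟩ := hπ₀s g
    have hg : (g : X) ∈ ((O ⊔ Subgroup.zpowers y : Subgroup X) : Set X) := g.2
    rw [Subgroup.normal_mul] at hg
    obtain ⟨o, ho, z, hz, hoz⟩ := Set.mem_mul.mp hg
    have hz' : z ∈ Submonoid.powers y := mem_powers_iff_mem_zpowers.mpr hz
    obtain ⟨i, rfl⟩ := (Submonoid.mem_powers_iff z y).mp hz'
    refine ⟨π₀ ⟨o, hOT ho⟩, ⟨_, ho, rfl⟩, i, ?_⟩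
    rw [ht, ← map_pow, ← map_mul]
    congr 1
    apply Subtype.ext
    exact hoz.symm
  set a : ↥T₀ ⧸ M' := π₀ ⟨u, hOT hu⟩ with ha
  have haA : a ∈ A := ⟨_, hu, rfl⟩
  have hNa : conjProd a t p ≠ 1 := by
    rw [ha, ht, ← map_conjProd π₀, Ne, hπ₀1]
    have h1 := map_conjProd T₀.subtype ⟨u, hOT hu⟩ ⟨y, hyT⟩ p
    have h2 : ((conjProd (⟨u, hOT hu⟩ : ↥T₀) ⟨y, hyT⟩ p : ↥T₀) : X) = conjProd u y p := h1
    rw [h2]
    exact hN
  obtain ⟨R, hRn, hW⟩ := exists_wreath_quotient A hAc hAp t htp hgen a haA hNa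
  haveI := hRn
  refine ⟨(↥T₀ ⧸ M') ⧸ R, inferInstance, inferInstance, hW, ?_⟩
  refine Cfsg.Agent.Lib.Helper27.involves_of_surjective_of_injective
    ((QuotientGroup.mk' R).comp π₀) ?_ (Subgroup.inclusion hTS) (Subgroup.inclusion_injective hTS)
  exact (QuotientGroup.mk'_surjective R).comp hπ₀s

end Cfsg.Agent.Lib.Helper1.HW
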