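import Mathlib
import Cfsg.Prelude.Def_IsolatedElements
import Cfsg.Prelude.Def_CaseTheorems
import Cfsg.Agent.Lib.Helper16.OmegaCentral
import Cfsg.Agent.Lib.Helper1.Fitting

/-!
# Isolated elements of order `p` in groups of `p`-rank at most 2 (helper1)

Part A: generalities on isolated elements, and the key `p`-nilpotency statement
`frobCond_of_isolated`.
-/

set_option autoImplicit false

namespace Cfsg.Agent.Lib.Helper1.Iso2

open Subgroup
open scoped Pointwise

variable {G : Type*} [Group G]

theorem isIsolated_conj {x : G} (h : Cfsg.IsIsolated x) (t : G) :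
    Cfsg.IsIsolated (t * x * t⁻¹) := by
  intro g hc
  have key : Commute x ((t⁻¹ * g * t) * x * (t⁻¹ * g * t)⁻¹) := by
    have e1 : x * ((t⁻¹ * g * t) * x * (t⁻¹ * g * t)⁻¹) =
        t⁻¹ * ((t * x * t⁻¹) * (g * (t * x * t⁻¹) * g⁻¹)) * t := by group
    have e2 : ((t⁻¹ * g * t) * x * (t⁻¹ * g * t)⁻¹) * x =
        t⁻¹ * ((g * (t * x * t⁻¹) * g⁻¹) * (t * x * t⁻¹)) * t := by group
    show x * _ = _ * x
    rw [e1, e2, hc.eq]
  have h1 := h _ key
  have e3 : g * (t * x * t⁻¹) * g⁻¹ = t * ((t⁻¹ * g * t) * x * (t⁻¹ * g * t)⁻¹) * t⁻¹ := by group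
  rw [e3, h1]

/-- An isolated element is central in every `p`-subgroup containing it. -/
theorem commute_of_mem_pgroup [Finite G] {p : ℕ} [Fact p.Prime] {x : G} (h : Cfsg.IsIsolated x)
    {R : Subgroup G} (hR : IsPGroup p R) (hx : x ∈ R) : ∀ r ∈ R, r * x = x * r := by
  classical
  have : Group.IsNilpotent ↥R := hR.isNilpotent
  set C : Subgroup ↥R := (centralizer ({x} : Set G)).subgroupOf R with hC
  have hCtop : C = ⊤ := by
    by_contra hne
    have hlt : C < ⊤ := lt_top_iff_ne_top.mpr hne
    have hnc := Group.normalizerCondition_of_isNilpotent (G := ↥R) C hlt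
    obtain ⟨y, hyN, hyC⟩ := SetLike.exists_of_lt hnc
    apply hyC
    have hxC : (⟨x, hx⟩ : ↥R) ∈ C := by
      rw [hC, mem_subgroupOf, mem_centralizer_iff]
      intro z hz
      rw [Set.mem_singleton_iff] at hz
      subst hz
      rfl
    have h1 : y * ⟨x, hx⟩ * y⁻¹ ∈ C := (mem_normalizer_iff.mp hyN _).mp hxC
    rw [hC, mem_subgroupOf, mem_centralizer_iff] at h1
    have h2 := h1 x (Set.mem_singleton x)
    have h3 : Commute x ((y : G) * x * (y : G)⁻¹) := by
      show x * _ = _ * x
      simpa using h2
    have h4 := h (y : G) h3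
    rw [hC, mem_subgroupOf, mem_centralizer_iff]
    intro z hz
    rw [Set.mem_singleton_iff] at hz
    subst hz
    have : (y : G) * z = z * (y : G) := by
      have := congrArg (fun w => w * (y : G)) h4
      simpa [mul_assoc] using this
    exact this.symm
  intro r hr
  have : (⟨r, hr⟩ : ↥R) ∈ C := by rw [hCtop]; exact mem_top _
  rw [hC, mem_subgroupOf, mem_centralizer_iff] at this
  exact (this x (Set.mem_singleton x)).symm

/-- A conjugate of an isolated element lying in a `p`-subgroup containing it equals it. -/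
theorem conj_eq_of_mem_pgroup [Finite G] {p : ℕ} [Fact p.Prime] {x : G} (h : Cfsg.IsIsolated x)
    {R : Subgroup G} (hR : IsPGroup p R) (hx : x ∈ R) (g : G) (hg : g * x * g⁻¹ ∈ R) :
    g * x * g⁻¹ = x := by
  apply h g
  exact (commute_of_mem_pgroup h hR hx _ hg).symm

/-- In a cyclic group of prime order every nonidentity element is a generator. -/
theorem mem_zpowers_of_mem_zpowers_prime [Finite G] {p : ℕ} [hp : Fact p.Prime] {x a : G}
    (hx : orderOf x = p) (ha : a ∈ zpowers x) (ha1 : a ≠ 1) : x ∈ zpowers a := by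
  have hle : zpowers a ≤ zpowers x := zpowers_le.mpr ha
  have h2 : orderOf a ∣ p := hx ▸ orderOf_dvd_of_mem_zpowers ha
  have h3 : orderOf a = p := by
    rcases (Nat.dvd_prime hp.out).mp h2 with h | h
    · exact absurd (orderOf_eq_one_iff.mp h) ha1
    · exact h
  have heq : zpowers a = zpowers x := by
    apply Subgroup.eq_of_le_of_card_ge hle
    rw [Nat.card_zpowers, Nat.card_zpowers, h3, hx]
  rw [heq]
  exact mem_zpowers x

theorem isPGroup_zpowers_of_orderOf {p : ℕ} [Fact p.Prime] {x : G} (hx : orderOf x = p) :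
    IsPGroup p ↥(zpowers x) := by
  apply IsPGroup.of_card (n := 1)
  rw [Nat.card_zpowers, hx, pow_one]

/-- **Key statement.** In a group of `p`-rank at most 2 (`p` odd) with an isolated element `x` of
order `p` and a central element `z` of order `p` outside `⟨x⟩`, the Frobenius condition holds:
the group has a normal `p`-complement. -/
theorem frobCond_of_isolated [Finite G] {p : ℕ} [Fact p.Prime] (hp : p ≠ 2)
    (hrank : Cfsg.PRankLE p 2 G) {x : G} (hx : orderOf x = p) (hiso : Cfsg.IsIsolated x)
    {z : G} (hz : z ∈ center G) (hzo : orderOf z = p) (hzx : z ∉ zpowers x) :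
    Cfsg.Agent.Lib.Helper29.FrobCond p G := by
  classical
  have hpp : p.Prime := Fact.out
  obtain ⟨P, hP⟩ := (isPGroup_zpowers_of_orderOf (p := p) hx).exists_le_sylow
  have hxP : x ∈ P := hP (mem_zpowers x)
  have hzn : (zpowers z).Normal := by
    constructor
    intro n hn g
    have : g * n * g⁻¹ = n := by
      have hc : n ∈ center G := (zpowers_le.mpr hz) hn
      rw [mem_center_iff] at hc
      rw [hc g, mul_inv_cancel_right]
    rwa [this]
  have hzP : z ∈ P :=
    ((isPGroup_zpowers_of_orderOf (p := p) hzo).le_sylow_of_normal P) (mem_zpowers z)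
  have hcz : ∀ g : G, g * z = z * g := fun g => (mem_center_iff.mp hz g)
  -- `A = ⟨x⟩⟨z⟩`
  set A : Subgroup G := zpowers x ⊔ zpowers z with hA
  have hAP : A ≤ (P : Subgroup G) := sup_le hP (zpowers_le.mpr hzP)
  have hcardA : p ^ 2 ≤ Nat.card A := by
    have hlt : zpowers x < A := by
      refine lt_of_le_of_ne le_sup_left (fun he => hzx ?_)
      rw [he]
      exact (le_sup_right : zpowers z ≤ A) (mem_zpowers z)
    have h1 : Nat.card (zpowers x) < Nat.card A :=
      Cfsg.Agent.Lib.Helper29.card_lt_card_of_lt' hlt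
    rw [Nat.card_zpowers, hx] at h1
    obtain ⟨m, hm⟩ := IsPGroup.iff_card.mp (P.2.to_le hAP)
    rw [hm] at h1 ⊢
    have hm2 : 2 ≤ m := by
      by_contra hlt2
      have : m ≤ 1 := by omega
      have h3 : p ^ m ≤ p ^ 1 := Nat.pow_le_pow_right hpp.pos this
      rw [pow_one] at h3
      omega
    exact Nat.pow_le_pow_right hpp.pos hm2
  -- every element of order dividing `p` of `P` lies in `A`
  have hOmega : ∀ d ∈ (P : Subgroup G), d ^ p = 1 → d ∈ A := by
    intro d hdP hdp
    have hdx : d * x = x * d := commute_of_mem_pgroup hiso P.2 hxP d hdP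
    set S : Set G := {x, z, d} with hS
    have hcomm : ∀ a ∈ S, ∀ b ∈ S, a * b = b * a := by
      intro a ha b hb
      simp only [hS, Set.mem_insert_iff, Set.mem_singleton_iff] at ha hb
      rcases ha with rfl | rfl | rfl <;> rcases hb with rfl | rfl | rfl
      · rfl
      · exact hcz a
      · exact hdx.symm
      · exact (hcz b).symm
      · rfl
      · exact (hcz b).symm
      · exact hdx
      · exact hcz a
      · rfl
    set B : Subgroup G := closure S with hB
    have hBc : IsMulCommutative ↥B := Subgroup.isMulCommutative_closure hcomm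
    have hBcomm : ∀ a ∈ B, ∀ b ∈ B, a * b = b * a := by
      intro a ha b hb
      have := hBc.is_comm.comm ⟨a, ha⟩ ⟨b, hb⟩
      exact congrArg Subtype.val this
    have hBexp : ∀ b ∈ B, b ^ p = 1 := by
      intro b hb
      induction hb using closure_induction with
      | mem y hy =>
        simp only [hS, Set.mem_insert_iff, Set.mem_singleton_iff] at hy
        rcases hy with rfl | rfl | rfl
        · rw [← hx]; exact pow_orderOf_eq_one _
        · rw [← hzo]; exact pow_orderOf_eq_one _
        · exact hdp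
      | one => exact one_pow _
      | mul a b ha hb iha ihb =>
        have hc : Commute a b := hBcomm a ha b hb
        rw [hc.mul_pow, iha, ihb, one_mul]
      | inv a ha iha => rw [inv_pow, iha, inv_one]
    have hcardB : Nat.card B ≤ p ^ 2 := hrank B hBc hBexp
    have hAB : A ≤ B := by
      apply sup_le
      · exact zpowers_le.mpr (subset_closure (by simp [hS]))
      · exact zpowers_le.mpr (subset_closure (by simp [hS]))
    have hEq : A = B := Subgroup.eq_of_le_of_card_ge hAB (hcardB.trans hcardA)
    rw [hEq]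
    exact subset_closure (by simp [hS])
  apply Cfsg.Agent.Lib.Helper29.frobCond_of_sylow P
  intro Q hQP g hg hcop
  apply Cfsg.Agent.Lib.Helper16.centralizes_of_centralizes_omega hp (P.2.to_le hQP) hg hcop
  intro d hdQ hdp
  have hdA : d ∈ A := hOmega d (hQP hdQ) hdp
  have hmul : (d : G) ∈ ((zpowers x : Subgroup G) : Set G) * ((zpowers z : Subgroup G) : Set G) := by
    rw [← mul_normal]
    exact hdA
  obtain ⟨a, ha, b, hb, hab⟩ := Set.mem_mul.mp hmul
  have hbc : g * b = b * g := by
    have : b ∈ center G := (zpowers_le.mpr hz) hb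
    exact (mem_center_iff.mp this g)
  have hga : g * a = a * g := by
    by_cases ha1 : a = 1
    · rw [ha1, mul_one, one_mul]
    · have hxa : x ∈ zpowers a := mem_zpowers_of_mem_zpowers_prime hx ha ha1
      obtain ⟨k, hk⟩ := mem_zpowers_iff.mp hxa
      -- `g a g⁻¹ ∈ P`
      have h1 : g * d * g⁻¹ ∈ Q := (mem_normalizer_iff.mp hg d).mp hdQ
      have h2 : g * a * g⁻¹ = (g * d * g⁻¹) * b⁻¹ := by
        rw [← hab]
        have hb' : g * b * g⁻¹ = b := by rw [hbc, mul_inv_cancel_right]
        have : g * (a * b) * g⁻¹ = g * a * g⁻¹ * b := by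
          have : g * (a * b) * g⁻¹ = (g * a * g⁻¹) * (g * b * g⁻¹) := by group
          rw [this, hb']
        rw [this, mul_inv_cancel_right]
      have hbP : b ∈ (P : Subgroup G) := (zpowers_le.mpr hzP) hb
      have h3 : g * a * g⁻¹ ∈ (P : Subgroup G) := by
        rw [h2]
        exact mul_mem (hQP h1) (inv_mem hbP)
      have h4 : g * x * g⁻¹ ∈ (P : Subgroup G) := by
        rw [← hk]
        have : g * a ^ k * g⁻¹ = (g * a * g⁻¹) ^ k := by
          rw [conj_zpow]
        rw [this]
        exact zpow_mem h3 k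
      have h5 := conj_eq_of_mem_pgroup hiso P.2 hxP g h4
      have h6 : g * x = x * g := by
        have := congrArg (fun w => w * g) h5
        simpa [mul_assoc] using this
      obtain ⟨i, hi⟩ := mem_zpowers_iff.mp ha
      rw [← hi]
      exact ((Commute.zpow_right (show Commute g x from h6) i)).eq
  rw [← hab, ← mul_assoc, hga, mul_assoc, hbc, ← mul_assoc]

end Cfsg.Agent.Lib.Helper1.Iso2
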