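import Mathlib
import Cfsg.Agent.Lib.Helper1.Iso2A
import Cfsg.Agent.Lib.Helper9.FStar2

/-!
# Isolated elements of order `p` in groups of `p`-rank at most 2 (helper1), part B

Transport of `frobCond_of_isolated` to subgroups, and consequences for perfect subgroups.
-/

set_option autoImplicit false

namespace Cfsg.Agent.Lib.Helper1.Iso2

open Subgroup
open scoped Pointwise

variable {G : Type*} [Group G]

theorem pRankLE_subgroup {p k : ℕ} (h : Cfsg.PRankLE p k G) (H : Subgroup G) :
    Cfsg.PRankLE p k ↥H := by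
  intro A hA hexp
  have hc : IsMulCommutative ↥(A.map H.subtype) := by
    refine ⟨⟨fun a b => Subtype.ext ?_⟩⟩
    obtain ⟨a', ha', hae⟩ := a.2
    obtain ⟨b', hb', hbe⟩ := b.2
    have := hA.is_comm.comm ⟨a', ha'⟩ ⟨b', hb'⟩
    have h2 : a' * b' = b' * a' := congrArg Subtype.val this
    show (a : G) * (b : G) = (b : G) * (a : G)
    rw [← hae, ← hbe]
    exact congrArg (H.subtype) h2
  have he : ∀ a ∈ A.map H.subtype, a ^ p = 1 := by
    rintro _ ⟨a', ha', rfl⟩
    have := hexp a' ha'
    rw [← map_pow, this, map_one]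
  have h1 := h (A.map H.subtype) hc he
  rwa [Nat.card_congr (A.equivMapOfInjective H.subtype H.subtype_injective).symm.toEquiv] at h1

/-- `frobCond_of_isolated` inside a subgroup `H` of `G`. -/
theorem frobCond_subgroup [Finite G] {p : ℕ} [Fact p.Prime] (hp : p ≠ 2)
    (hrank : Cfsg.PRankLE p 2 G) (H : Subgroup G) {x : G} (hxH : x ∈ H) (hx : orderOf x = p)
    (hiso : Cfsg.IsIsolated x) {z : G} (hzH : z ∈ H) (hzc : ∀ h ∈ H, h * z = z * h)
    (hzo : orderOf z = p) (hzx : z ∉ zpowers x) :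
    Cfsg.Agent.Lib.Helper29.FrobCond p ↥H := by
  apply frobCond_of_isolated hp (pRankLE_subgroup hrank H) (x := ⟨x, hxH⟩) (z := ⟨z, hzH⟩)
  · rw [Subgroup.orderOf_mk, hx]
  · intro g hc
    apply Subtype.ext
    apply hiso (g : G)
    have := congrArg Subtype.val hc.eq
    exact this
  · rw [mem_center_iff]
    intro g
    exact Subtype.ext (hzc g g.2)
  · rw [Subgroup.orderOf_mk, hzo]
  · intro hmem
    apply hzx
    obtain ⟨k, hk⟩ := mem_zpowers_iff.mp hmem
    rw [mem_zpowers_iff]
    refine ⟨k, ?_⟩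
    have := congrArg Subtype.val hk
    simpa using this

/-- If `H` satisfies the Frobenius condition then perfect subgroups of `H` have order prime
to `p`. -/
theorem coprime_card_of_perfect_le [Finite G] {p : ℕ} [Fact p.Prime] {H K : Subgroup G}
    (hF : Cfsg.Agent.Lib.Helper29.FrobCond p ↥H) (hKH : K ≤ H) (hK : ⁅K, K⁆ = K) :
    (Nat.card ↥K).Coprime p := by
  have hpp : p.Prime := Fact.out
  obtain ⟨P⟩ : Nonempty (Sylow p ↥H) := inferInstance
  obtain ⟨N, hN, hc⟩ := hF.exists_normal_complement P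
  haveI := hN
  have hidx : N.index = Nat.card (P : Subgroup ↥H) := hc.symm.index_eq_card
  have hQp : IsPGroup p (↥H ⧸ N) := by
    obtain ⟨k, hk⟩ := IsPGroup.iff_card.mp P.2
    apply IsPGroup.of_card (n := k)
    rw [← Subgroup.index_eq_card, hidx, hk]
  haveI : Group.IsNilpotent (↥H ⧸ N) := hQp.isNilpotent
  haveI : Group.IsSolvable (↥H ⧸ N) := inferInstance
  obtain ⟨n, hn⟩ := Cfsg.Agent.Lib.Helper9.exists_derivedSeries_le_ker (QuotientGroup.mk' N)
  rw [QuotientGroup.ker_mk'] at hn
  have h1 : K ≤ N.map H.subtype :=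
    (Cfsg.Agent.Lib.Helper9.le_map_subtype_derivedSeries_of_perfect hK hKH n).trans
      (Subgroup.map_mono hn)
  have h2 : Nat.card ↥K ∣ Nat.card ↥(N.map H.subtype) := Subgroup.card_dvd_of_le h1
  rw [Nat.card_congr (N.equivMapOfInjective H.subtype H.subtype_injective).symm.toEquiv] at h2
  have h3 : (Nat.card ↥N).Coprime p := by
    rw [← hc.index_eq_card]
    exact ((Nat.Prime.coprime_iff_not_dvd hpp).mpr P.not_dvd_index).symm
  exact Nat.Coprime.coprime_dvd_left h2 h3

/-- If the whole group satisfies the Frobenius condition and has trivial `O_{p'}`, it is a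
`p`-group. -/
theorem isPGroup_of_frobCond_of_normal [Finite G] {p : ℕ} [Fact p.Prime] {H : Subgroup G}
    [hHn : H.Normal] (hF : Cfsg.Agent.Lib.Helper29.FrobCond p ↥H)
    (hcore : Cfsg.pPrimeCore p G = ⊥) : IsPGroup p ↥H := by
  have hpp : p.Prime := Fact.out
  obtain ⟨P⟩ : Nonempty (Sylow p ↥H) := inferInstance
  obtain ⟨N, hN, hc⟩ := hF.exists_normal_complement P
  haveI := hN
  -- `N` viewed in `G` is normal in `G`
  set N' : Subgroup G := N.map H.subtype with hN'
  have hmemN : ∀ h : ↥H, (orderOf h).Coprime p → h ∈ N := fun h hh =>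
    Cfsg.Agent.Lib.Helper29.mem_normal_complement_of_coprime P N hc h hh
  have hcardN : (Nat.card ↥N).Coprime p := by
    rw [← hc.index_eq_card]
    exact ((Nat.Prime.coprime_iff_not_dvd hpp).mpr P.not_dvd_index).symm
  have hN'n : N'.Normal := by
    constructor
    rintro _ ⟨n, hn, rfl⟩ g
    have hmem : g * (n : G) * g⁻¹ ∈ H := hHn.conj_mem _ n.2 g
    refine ⟨⟨_, hmem⟩, ?_, rfl⟩
    apply hmemN
    have ho : orderOf (⟨g * (n : G) * g⁻¹, hmem⟩ : ↥H) = orderOf n := by
      rw [Subgroup.orderOf_mk, ← Subgroup.orderOf_coe]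
      have := MulEquiv.orderOf_eq (MulAut.conj g) (n : G)
      simpa [MulAut.conj_apply] using this
    rw [ho]
    exact Nat.Coprime.coprime_dvd_left (Subgroup.orderOf_dvd_natCard N hn) hcardN
  have hN'c : (Nat.card ↥N').Coprime p := by
    rw [hN', Nat.card_congr (N.equivMapOfInjective H.subtype H.subtype_injective).symm.toEquiv]
    exact hcardN
  have hN'bot : N' = ⊥ := by
    have : N' ≤ Cfsg.pPrimeCore p G := le_sSup ⟨hN'n, hN'c⟩
    rw [hcore] at this
    exact le_bot_iff.mp this
  have hNbot : N = ⊥ := by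
    rw [eq_bot_iff]
    intro n hn
    have : (n : G) ∈ N' := ⟨n, hn, rfl⟩
    rw [hN'bot, mem_bot] at this
    rw [mem_bot]
    exact Subtype.ext this
  -- so `P = ⊤`
  have hPtop : (P : Subgroup ↥H) = ⊤ := by
    rw [hNbot] at hc
    exact (Subgroup.isComplement'_bot_left).mp hc
  have := P.2
  rw [hPtop] at this
  exact (IsPGroup.to_le (H := ⊤) this le_top).of_equiv (Subgroup.topEquiv)

end Cfsg.Agent.Lib.Helper1.Iso2
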