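import Mathlib
import Cfsg.Prelude.Def_Local
import Cfsg.Agent.Lib.Helper1.Iso2B
import Cfsg.Agent.Lib.Helper9.Quasisimple
import Cfsg.Agent.Lib.Helper9.Components
import Cfsg.Agent.Lib.Helper9.FStar
import Cfsg.Agent.Lib.Helper9.FStar2
import Cfsg.Agent.Lib.Helper9.PComponent

/-!
# Isolated elements of order `p` in groups of `p`-rank at most 2 (helper1), part C

Main theorem: `O_{p'}(G) = 1`, `p` odd, `p`-rank at most 2, `x` isolated of order `p`, not central
⇒ `F*(G)` is non-abelian simple.
-/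

set_option autoImplicit false

namespace Cfsg.Agent.Lib.Helper1.Iso2

open Subgroup
open scoped Pointwise

variable {G : Type*} [Group G] [Finite G] {p : ℕ} [Fact p.Prime]

/-- A non-central isolated `p`-element does not lie in `O_p(G)`. -/
theorem not_mem_pCore {x : G} (hiso : Cfsg.IsIsolated x) (hnc : x ∉ center G) :
    x ∉ Cfsg.pCore p G := by
  intro hxQ
  apply hnc
  rw [mem_center_iff]
  intro g
  haveI := Cfsg.Agent.Lib.Helper1.pCore_normal p G
  have h1 : g * x * g⁻¹ ∈ Cfsg.pCore p G := Normal.conj_mem inferInstance x hxQ g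
  have h2 := conj_eq_of_mem_pgroup hiso (Cfsg.Agent.Lib.Helper1.pCore_isPGroup p G) hxQ g h1
  have := congrArg (fun w => w * g) h2
  simpa [mul_assoc] using this

/-- Under the hypotheses, `O_p(G) = 1`. -/
theorem pCore_eq_bot (hp : p ≠ 2) (hcore : Cfsg.pPrimeCore p G = ⊥)
    (hrank : Cfsg.PRankLE p 2 G) {x : G} (hx : orderOf x = p) (hiso : Cfsg.IsIsolated x)
    (hnc : x ∉ center G) : Cfsg.pCore p G = ⊥ := by
  classical
  by_contra hQ
  set Q := Cfsg.pCore p G with hQdef
  haveI hQn : Q.Normal := Cfsg.Agent.Lib.Helper1.pCore_normal p G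
  have hQp : IsPGroup p ↥Q := Cfsg.Agent.Lib.Helper1.pCore_isPGroup p G
  haveI : Nontrivial ↥Q := (Subgroup.nontrivial_iff_ne_bot Q).mpr hQ
  haveI : Nontrivial ↥(center ↥Q) := hQp.center_nontrivial
  have hZp : IsPGroup p ↥(center ↥Q) := hQp.to_subgroup _
  have hdvd : p ∣ Nat.card ↥(center ↥Q) := by
    obtain ⟨n, hn0, hn⟩ := hZp.nontrivial_iff_card.mp inferInstance
    rw [hn]
    exact dvd_pow_self _ (ne_of_gt hn0)
  obtain ⟨z', hz'⟩ := exists_prime_orderOf_dvd_card' (G := ↥(center ↥Q)) p hdvd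
  set z : G := ((z' : ↥Q) : G) with hzdef
  have hzo : orderOf z = p := by
    rw [hzdef, Subgroup.orderOf_coe, Subgroup.orderOf_coe, hz']
  have hzQ : z ∈ Q := (z' : ↥Q).2
  have hzcQ : ∀ q ∈ Q, q * z = z * q := by
    intro q hq
    have h1 := z'.2
    rw [mem_center_iff] at h1
    have := h1 ⟨q, hq⟩
    exact congrArg Subtype.val this
  -- `H = C_G(Q)`
  set H : Subgroup G := centralizer (Q : Set G) with hH
  haveI hHn : H.Normal := by rw [hH]; infer_instance
  -- `x ∈ H`
  obtain ⟨P, hP⟩ := (isPGroup_zpowers_of_orderOf (p := p) hx).exists_le_sylow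
  have hxP : x ∈ P := hP (mem_zpowers x)
  have hxH : x ∈ H := by
    rw [hH, mem_centralizer_iff]
    intro q hq
    exact commute_of_mem_pgroup hiso P.2 hxP q (Cfsg.Agent.Lib.Helper1.pCore_le_sylow P hq)
  have hzH : z ∈ H := by
    rw [hH, mem_centralizer_iff]
    intro q hq
    exact hzcQ q hq
  have hzc : ∀ h ∈ H, h * z = z * h := by
    intro h hh
    rw [hH, mem_centralizer_iff] at hh
    exact (hh z hzQ).symm
  have hxQ : x ∉ Q := not_mem_pCore hiso hnc
  have hzx : z ∉ zpowers x := by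
    intro hmem
    have hz1 : z ≠ 1 := by
      intro h1
      rw [h1, orderOf_one] at hzo
      exact (Fact.out : p.Prime).one_lt.ne hzo
    have := mem_zpowers_of_mem_zpowers_prime hx hmem hz1
    exact hxQ ((zpowers_le.mpr hzQ) this)
  have hF := frobCond_subgroup hp hrank H hxH hx hiso hzH hzc hzo hzx
  have hHp : IsPGroup p ↥H := isPGroup_of_frobCond_of_normal hF hcore
  exact hxQ (Cfsg.Agent.Lib.Helper1.le_pCore hHn hHp hxH)

/-- A component has order divisible by `p` when `O_{p'}(G) = 1`. -/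
theorem dvd_card_component (hcore : Cfsg.pPrimeCore p G = ⊥) {K : Subgroup G}
    (hK : Cfsg.IsComponent K) : p ∣ Nat.card ↥K := by
  by_contra hnd
  have hpp : p.Prime := Fact.out
  have hc : (Nat.card ↥K).Coprime p := ((Nat.Prime.coprime_iff_not_dvd hpp).mpr hnd).symm
  have h1 := Cfsg.Agent.Lib.Helper9.subnormal_le_pPrimeCore p hK.1 hc
  rw [hcore] at h1
  have h2 : K = ⊥ := le_bot_iff.mp h1
  haveI := Cfsg.Agent.Lib.Helper9.IsQuasisimple_nontrivial hK.2
  exact (Subgroup.nontrivial_iff_ne_bot K).mp inferInstance h2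

omit [Finite G] in
theorem component_perfect {K : Subgroup G} (hK : Cfsg.IsComponent K) : ⁅K, K⁆ = K := by
  haveI := hK.2.1
  exact Subgroup.commutator_eq_self

/-- With `F(G) = 1`, components have trivial centre. -/
theorem center_component_eq_bot (hF : Cfsg.fittingSubgroup G = ⊥) {K : Subgroup G}
    (hK : Cfsg.IsComponent K) : center ↥K = ⊥ := by
  have hnil : Group.IsNilpotent ↥(center ↥K) := by
    have hc : IsMulCommutative ↥(center ↥K) := inferInstance
    let _i : CommGroup ↥(center ↥K) :=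
      { (inferInstance : Group ↥(center ↥K)) with mul_comm := fun a b => hc.1.1 a b }
    exact CommGroup.isNilpotent
  have h1 : center ↥K ≤ Cfsg.fittingSubgroup ↥K :=
    Cfsg.Agent.Lib.Helper1.le_fittingSubgroup inferInstance hnil
  have h2 := Cfsg.Agent.Lib.Helper9.fittingSubgroup_map_subtype_le_of_subnormal hK.1
  rw [hF] at h2
  rw [eq_bot_iff]
  intro c hc
  have h3 : (c : G) ∈ (Cfsg.fittingSubgroup ↥K).map K.subtype := ⟨c, h1 hc, rfl⟩
  have h4 := h2 h3
  rw [mem_bot] at h4 ⊢
  exact Subtype.ext h4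

/-- Auxiliary: a component cannot centralize an element `c` of order `p` commuting with an isolated
element `x'` of order `p` and lying outside `⟨x'⟩`. -/
theorem component_aux (hp : p ≠ 2) (hcore : Cfsg.pPrimeCore p G = ⊥)
    (hrank : Cfsg.PRankLE p 2 G) {x' c : G} (hx' : orderOf x' = p) (hiso' : Cfsg.IsIsolated x')
    (hco : orderOf c = p) (hcx : c * x' = x' * c) (hnot : c ∉ zpowers x') {K : Subgroup G}
    (hK : Cfsg.IsComponent K) (hKc : ∀ k ∈ K, k * c = c * k) : False := by
  set H : Subgroup G := centralizer ({c} : Set G) with hH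
  have hxH : x' ∈ H := by
    rw [hH, mem_centralizer_iff]
    intro y hy
    rw [Set.mem_singleton_iff] at hy
    subst hy
    exact hcx
  have hcH : c ∈ H := by
    rw [hH, mem_centralizer_iff]
    intro y hy
    rw [Set.mem_singleton_iff] at hy
    subst hy
    rfl
  have hcc : ∀ h ∈ H, h * c = c * h := by
    intro h hh
    rw [hH, mem_centralizer_iff] at hh
    exact (hh c (Set.mem_singleton c)).symm
  have hKH : K ≤ H := by
    intro k hk
    rw [hH, mem_centralizer_iff]
    intro y hy
    rw [Set.mem_singleton_iff] at hy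
    subst hy
    exact (hKc k hk).symm
  have hF := frobCond_subgroup hp hrank H hxH hx' hiso' hcH hcc hco hnot
  have h1 := coprime_card_of_perfect_le hF hKH (component_perfect hK)
  have h2 := dvd_card_component hcore hK
  have hpp : p.Prime := Fact.out
  exact (Nat.Prime.coprime_iff_not_dvd hpp).mp h1.symm h2

/-- There are no two distinct components. -/
theorem no_two_components (hp : p ≠ 2) (hcore : Cfsg.pPrimeCore p G = ⊥)
    (hrank : Cfsg.PRankLE p 2 G) {x : G} (hx : orderOf x = p) (hiso : Cfsg.IsIsolated x)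
    (hF : Cfsg.fittingSubgroup G = ⊥) {K₁ K₂ : Subgroup G} (h1 : Cfsg.IsComponent K₁)
    (h2 : Cfsg.IsComponent K₂) (hne : K₁ ≠ K₂) : False := by
  classical
  have hpp : p.Prime := Fact.out
  have hcomm : ∀ k₁ ∈ K₁, ∀ k₂ ∈ K₂, k₁ * k₂ = k₂ * k₁ := by
    intro k₁ hk₁ k₂ hk₂
    have h := Cfsg.Agent.Lib.Helper9.components_commute K₁ K₂ h1 h2 hne
    rw [Subgroup.commutator_eq_bot_iff_le_centralizer] at h
    have := h hk₁
    rw [mem_centralizer_iff] at this
    exact (this k₂ hk₂).symm
  obtain ⟨a, ha⟩ := exists_prime_orderOf_dvd_card' (G := ↥K₂) p (dvd_card_component hcore h2)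
  have hao : orderOf (a : G) = p := by rw [Subgroup.orderOf_coe, ha]
  obtain ⟨P, hP⟩ := (isPGroup_zpowers_of_orderOf (p := p) hao).exists_le_sylow
  obtain ⟨Px, hPx⟩ := (isPGroup_zpowers_of_orderOf (p := p) hx).exists_le_sylow
  obtain ⟨t, ht⟩ := MulAction.exists_smul_eq G Px P
  set x' : G := t * x * t⁻¹ with hx'def
  have hx'P : x' ∈ P := by
    rw [← ht, Cfsg.Agent.Lib.Helper29.mem_smul_sylow_iff]
    have : t⁻¹ * x' * t = x := by rw [hx'def]; group
    rw [this]
    exact hPx (mem_zpowers x)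
  have hiso' : Cfsg.IsIsolated x' := isIsolated_conj hiso t
  have hx' : orderOf x' = p := by
    have := MulEquiv.orderOf_eq (MulAut.conj t) x
    rw [MulAut.conj_apply] at this
    rw [hx'def, this, hx]
  have haP : (a : G) ∈ P := hP (mem_zpowers _)
  have hax : (a : G) * x' = x' * (a : G) := commute_of_mem_pgroup hiso' P.2 hx'P _ haP
  by_cases hmem : (a : G) ∈ zpowers x'
  · -- `x' ∈ K₂`
    have ha1 : (a : G) ≠ 1 := by
      intro h
      rw [h, orderOf_one] at hao
      exact hpp.one_lt.ne hao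
    have hx'a : x' ∈ zpowers (a : G) := mem_zpowers_of_mem_zpowers_prime hx' hmem ha1
    have hx'K : x' ∈ K₂ := (zpowers_le.mpr a.2) hx'a
    obtain ⟨b, hb⟩ := exists_prime_orderOf_dvd_card' (G := ↥K₁) p (dvd_card_component hcore h1)
    have hbo : orderOf (b : G) = p := by rw [Subgroup.orderOf_coe, hb]
    have hbx : (b : G) * x' = x' * (b : G) := hcomm _ b.2 _ hx'K
    have hnot : (b : G) ∉ zpowers x' := by
      intro hbm
      have hbK₂ : (b : G) ∈ K₂ := (zpowers_le.mpr hx'K) hbm
      have hbc : b ∈ center ↥K₁ := by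
        rw [mem_center_iff]
        intro k
        apply Subtype.ext
        exact hcomm _ k.2 _ hbK₂
      rw [center_component_eq_bot hF h1, mem_bot] at hbc
      rw [hbc, orderOf_one] at hb
      exact hpp.one_lt.ne hb
    exact component_aux hp hcore hrank hx' hiso' hbo hbx hnot h2
      (fun k hk => (hcomm _ b.2 _ hk).symm)
  · exact component_aux hp hcore hrank hx' hiso' hao hax hmem h1
      (fun k hk => hcomm _ hk _ a.2)

/-- **Main theorem (S3049).** -/
theorem fstar_simple (hp : p ≠ 2) (hcore : Cfsg.pPrimeCore p G = ⊥)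
    (hrank : Cfsg.PRankLE p 2 G) {x : G} (hx : orderOf x = p) (hiso : Cfsg.IsIsolated x)
    (hnc : x ∉ center G) :
    IsSimpleGroup ↥(Cfsg.generalizedFittingSubgroup G) ∧
      ¬ IsMulCommutative ↥(Cfsg.generalizedFittingSubgroup G) := by
  classical
  have hpp : p.Prime := Fact.out
  have hQ : Cfsg.pCore p G = ⊥ := pCore_eq_bot hp hcore hrank hx hiso hnc
  have hF : Cfsg.fittingSubgroup G = ⊥ := by
    rw [Cfsg.Agent.Lib.Helper9.fittingSubgroup_eq_pCore_of_pPrimeCore_eq_bot p hcore, hQ]
  have hFs : Cfsg.generalizedFittingSubgroup G = Cfsg.layer G := by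
    unfold Cfsg.generalizedFittingSubgroup
    rw [hF, sup_bot_eq]
  have hlayer : Cfsg.layer G ≠ ⊥ := by
    intro hl
    have h1 := Cfsg.Agent.Lib.Helper9.centralizer_generalizedFittingSubgroup_le (G := G)
    rw [hFs, hl] at h1
    have h2 : x ∈ centralizer (((⊥ : Subgroup G)) : Set G) := by
      rw [mem_centralizer_iff]
      intro y hy
      have : y = 1 := (mem_bot).mp hy
      rw [this, one_mul, mul_one]
    have h3 := h1 h2
    rw [mem_bot] at h3
    rw [h3, orderOf_one] at hx
    exact hpp.one_lt.ne hx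
  obtain ⟨K, hK⟩ : ∃ K : Subgroup G, Cfsg.IsComponent K := by
    by_contra hno
    exact hlayer (Cfsg.Agent.Lib.Helper9.layer_eq_bot_iff.mpr (fun K hK => hno ⟨K, hK⟩))
  have huniq : ∀ K' : Subgroup G, Cfsg.IsComponent K' → K' = K := by
    intro K' hK'
    by_contra hne
    exact no_two_components hp hcore hrank hx hiso hF hK' hK hne
  have hlK : Cfsg.layer G = K := by
    apply le_antisymm
    · apply sSup_le
      intro K' hK'
      rw [huniq K' hK']
    · exact le_sSup hK
  rw [hFs, hlK]
  have hcen : center ↥K = ⊥ := center_component_eq_bot hF hK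
  haveI hnt : Nontrivial ↥K := Cfsg.Agent.Lib.Helper9.IsQuasisimple_nontrivial hK.2
  constructor
  · haveI := hK.2.2
    let e : ↥K ⧸ center ↥K ≃* ↥K :=
      (QuotientGroup.quotientMulEquivOfEq hcen).trans QuotientGroup.quotientBot
    exact e.symm.isSimpleGroup
  · intro hc
    haveI := hK.2.1
    haveI := hc
    have := Group.IsPerfect.subsingleton_of_isMulCommutative (G := ↥K)
    exact not_subsingleton ↥K this

end Cfsg.Agent.Lib.Helper1.Iso2
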