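import Cfsg.Agent.Lib.Helper1.K4LIFT
import Cfsg.Agent.Lib.Helper4.K4UNIT
import Cfsg.Agent.Lib.Helper4.K4DIM
import Cfsg.Agent.Lib.Helper17.K4CENT
import Cfsg.Agent.Lib.Helper5.K4INEQ
import Cfsg.Agent.Lib.Helper22.K4RANK
import Cfsg.Agent.Lib.Helper23.BlkAlgB8
import Cfsg.Agent.Lib.Lead.ConvAlg
import Cfsg.Agent.Lib.Helper6.NilIdem
import Cfsg.Agent.Lib.Helper24.TraceIdem
import Cfsg.Agent.Lib.Helper24.BrauerPairs2

set_option autoImplicit false

namespace Cfsg.Agent.Lib.Helper1.K4B2

open Cfsg Cfsg.Agent.Lib.Helper6 Cfsg.Agent.Lib.Helper24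
open Cfsg.Agent.Lib.Helper27.SymAlg Cfsg.Agent.Lib.Helper27.BlkAlg
open Cfsg.Agent.Lib.Helper23.BlkAlgB8
open Cfsg.Agent.Lib.Helper18.BlkAlgB2 Cfsg.Agent.Lib.Helper18.BlkAlgB3
open Cfsg.Agent.Lib.Helper24.BlkAlgB5a

universe u

variable (M : Ideal AlgInt) [M.IsMaximal] {p : ℕ} [Fact p.Prime] {G : Type u} [Group G] [Fintype G]

local notation "𝔽" => ResField M
local notation "𝔸" => MonoidAlgebra (ResField M) G

/-- every element of `F[G]` is the reduction of a function with local-integer values -/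
theorem exists_lift (ε : 𝔸) : ∃ b : G → ℂ, (∀ g, MemLocalRing M (b g)) ∧ redFun M b = ε := by
  refine ⟨fun g => ((Function.surjInv (red_surjective M) (ε.coeff g) : localSubring M) : ℂ),
    fun g => (Function.surjInv (red_surjective M) (ε.coeff g)).2, ?_⟩
  apply MonoidAlgebra.ext
  apply Finsupp.ext
  intro g
  rw [coeff_redFun, redC_of_mem M (Function.surjInv (red_surjective M) (ε.coeff g)).2]
  exact Function.surjInv_eq (red_surjective M) (ε.coeff g)

theorem sum_blockCoeff_mul_irr [Fintype (IrrCharacter G)] (B : Set (IrrCharacter G))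
    (χ : IrrCharacter G) [Decidable (χ ∈ B)] :
    ∑ g, blockCoeff B g * (χ : G → ℂ) g = if χ ∈ B then (χ : G → ℂ) 1 else 0 := by
  classical
  have h := omegaFun_blockCoeff B χ
  obtain ⟨d, hdpos, hd⟩ := Cfsg.Agent.CharLib.IsIrrCharacter.apply_one_pos χ.2
  have hne : (χ : G → ℂ) 1 ≠ 0 := by rw [hd]; exact Nat.cast_ne_zero.mpr hdpos.ne'
  unfold omegaFun at h
  rw [div_eq_iff hne] at h
  rw [h]
  split_ifs <;> simp

theorem redFun_sub {a b : G → ℂ} (ha : ∀ g, MemLocalRing M (a g)) (hb : ∀ g, MemLocalRing M (b g)) :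
    redFun M (a - b) = redFun M a - redFun M b := by
  have hM' : M.IsPrime := inferInstance
  have h := redFun_add M (a := a - b) (b := b) (fun g => memLocalRing_sub (ha g) (hb g)) hb
  rw [sub_add_cancel] at h
  rw [h, add_sub_cancel_right]

theorem memLocalRing_classInd_one (g : G) : MemLocalRing M (classInd (1 : G) g) := by
  classical
  have hM' : M.IsPrime := inferInstance
  rw [classInd_one_eq]
  show MemLocalRing M (if g = 1 then 1 else 0)
  split_ifs
  · exact memLocalRing_one
  · exact memLocalRing_zero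

theorem redFun_classInd_one : redFun M (classInd (1 : G)) = 1 := by
  classical
  rw [classInd_one_eq]
  exact redFun_delta M

/-- **(B2)**: the size of a full set of matrix units of the block algebra divides the degrees of the
characters of the block. -/
theorem dvd_charDegree_of_isMatrixUnits [Fintype (IrrCharacter G)] (hM : IsPModular p M)
    {B : Set (IrrCharacter G)} (hB : IsPBlock M B) (he : IsIdempotentElem (ebar M B)) {n : ℕ}
    (hn : n ≠ 0) (u : Fin n → Fin n → he.Corner) (hu : IsMatrixUnits u) :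
    ∀ χ ∈ B, n ∣ charDegree (χ : G → ℂ) := by
  classical
  have hprime : M.IsPrime := isPrime_of_isPModular hM
  have hc := ebar_comm M B
  have := Cfsg.Agent.Lib.Helper19.BlkAlgB1.isAlgClosed_resField M
  let i₀ : Fin n := ⟨0, Nat.pos_of_ne_zero hn⟩
  -- the block idempotent
  set e : G → ℂ := blockCoeff B with hedef
  have heloc : ∀ g, MemLocalRing M (e g) := by
    obtain ⟨χ₀, rfl⟩ := hB
    exact fun g => memLocalRing_blockCoeff_blockOf χ₀ g
  have hecls : IsClassFunction G e := blockCoeff_isClassFunction B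
  have heidem : conv e e = e := conv_blockCoeff_self B
  have hered : redFun M e = ebar M B := rfl
  -- the idempotent `u₀₀` and its lift
  have hū : (u i₀ i₀).1 * (u i₀ i₀).1 = (u i₀ i₀).1 := by
    have := congrArg Subtype.val (hu.mul i₀ i₀ i₀ i₀)
    rw [if_pos rfl] at this
    exact this
  obtain ⟨a₀, ha₀, hida₀, hreda₀⟩ := Cfsg.Agent.Lib.Helper1.K4LIFT.exists_idem_lift M hM (u i₀ i₀).1 hū
  set a : G → ℂ := conv e a₀ with hadef
  have haloc : ∀ g, MemLocalRing M (a g) := fun g => memLocalRing_conv heloc ha₀ g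
  have hcomm : conv e a₀ = conv a₀ e := Cfsg.Agent.CharLib.conv_comm_of_isClassFunction hecls a₀
  have haidem : conv a a = a := by
    rw [hadef]
    calc conv (conv e a₀) (conv e a₀) = conv (conv e a₀) (conv a₀ e) := by rw [← hcomm]
      _ = conv e (conv (conv a₀ a₀) e) := by
          rw [Cfsg.Agent.CharLib.conv_assoc, ← Cfsg.Agent.CharLib.conv_assoc a₀ a₀ e]
      _ = conv e (conv a₀ e) := by rw [hida₀]
      _ = conv e (conv e a₀) := by rw [hcomm]
      _ = conv (conv e e) a₀ := by rw [Cfsg.Agent.CharLib.conv_assoc]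
      _ = conv e a₀ := by rw [heidem]
  have hared : redFun M a = (u i₀ i₀).1 := by
    rw [hadef, redFun_conv M heloc ha₀, hered, hreda₀, e_mul_val]
  -- lifts of the off-diagonal units
  choose x hxloc hxred using fun i : Fin n => exists_lift M (u i i₀).1
  choose y hyloc hyred using fun i : Fin n => exists_lift M (u i₀ i).1
  -- the complementary idempotent
  set z : G → ℂ := classInd (1 : G) - e with hzdef
  have hzloc : ∀ g, MemLocalRing M (z g) := fun g =>
    memLocalRing_sub (memLocalRing_classInd_one M g) (heloc g)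
  have hzidem : conv z z = z := by
    rw [hzdef, conv_sub_left, conv_sub_right, conv_sub_right, conv_classInd_one,
      conv_classInd_one, conv_classInd_one_right, heidem]
    abel
  have hzred : redFun M z = 1 - ebar M B := by
    rw [hzdef, redFun_sub M (memLocalRing_classInd_one M) heloc, redFun_classInd_one, hered]
  -- the element `s ≡ 1`
  set s : G → ℂ := ∑ i, conv (conv (x i) a) (y i) + z with hsdef
  have htermloc : ∀ i ∈ (Finset.univ : Finset (Fin n)), ∀ g,
      MemLocalRing M (conv (conv (x i) a) (y i) g) := fun i _ g =>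
    memLocalRing_conv (fun g' => memLocalRing_conv (hxloc i) haloc g') (hyloc i) g
  have hsumloc : ∀ g, MemLocalRing M ((∑ i, conv (conv (x i) a) (y i)) g) := by
    intro g
    rw [Finset.sum_apply]
    exact memLocalRing_sum M _ _ (fun i hi => htermloc i hi g)
  have hsloc : ∀ g, MemLocalRing M (s g) := fun g =>
    memLocalRing_add (hsumloc g) (hzloc g)
  have hsred : redFun M s = 1 := by
    rw [hsdef, redFun_add M hsumloc hzloc, redFun_finset_sum M _ _ htermloc, hzred]
    have hterm : ∀ i : Fin n, redFun M (conv (conv (x i) a) (y i)) = (u i i).1 := by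
      intro i
      rw [redFun_conv M (fun g' => memLocalRing_conv (hxloc i) haloc g') (hyloc i),
        redFun_conv M (hxloc i) haloc, hxred, hared, hyred]
      have h1 := congrArg Subtype.val (hu.mul i i₀ i₀ i₀)
      rw [if_pos rfl] at h1
      have h2 := congrArg Subtype.val (hu.mul i i₀ i₀ i)
      rw [if_pos rfl] at h2
      have h1' : (u i i₀).1 * (u i₀ i₀).1 = (u i i₀).1 := h1
      have h2' : (u i i₀).1 * (u i₀ i).1 = (u i i).1 := h2
      rw [h1', h2']
    rw [Finset.sum_congr rfl (fun i _ => hterm i)]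
    have hsum' : ∑ i, (u i i).1 = ebar M B := by
      have h := congrArg (cornerIncl (F := 𝔽) he) hu.sum
      rw [map_sum] at h
      exact h
    rw [hsum']
    abel
  obtain ⟨t, ht⟩ := Cfsg.Agent.Lib.Helper4.K4UNIT.exists_conv_inverse M hM s hsloc hsred
  -- the ranks
  have hzχ : ∀ χ ∈ B, ∑ g, z g * (χ : G → ℂ) g = 0 := by
    intro χ hχ
    have h1 := sum_blockCoeff_mul_irr B χ
    rw [if_pos hχ] at h1
    have h2 : ∑ g, classInd (1 : G) g * (χ : G → ℂ) g = (χ : G → ℂ) 1 := by
      rw [classInd_one_eq]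
      simp
    simp only [hzdef, Pi.sub_apply, sub_mul, Finset.sum_sub_distrib]
    rw [h2, h1, sub_self]
  have hr : ∀ χ : IrrCharacter G, χ ∈ B → ∃ r : ℕ, (r : ℂ) = ∑ g, a g * (χ : G → ℂ) g ∧
      charDegree (χ : G → ℂ) ≤ n * r := fun χ hχ =>
    Cfsg.Agent.Lib.Helper5.K4INEQ.charDegree_le_mul χ a z t x y haidem hzidem (hzχ χ hχ) ht
  have hout : ∀ χ : IrrCharacter G, χ ∉ B → ∑ g, a g * (χ : G → ℂ) g = 0 := by
    intro χ hχ
    rw [hadef, Cfsg.Agent.Lib.Helper17.K4CENT.sum_conv_mul_irr χ e a₀ hecls, omegaFun_blockCoeff B χ, if_neg hχ, zero_mul]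
  -- the dimension count
  have hrank := Cfsg.Agent.Lib.Helper22.K4RANK.rank_gmat_redFun M hM a haloc haidem
  rw [hared, ← finrank_range_mulLeft] at hrank
  have hdim := Cfsg.Agent.Lib.Helper4.K4DIM.mul_finrank_range_mulLeft (F := 𝔽) he u hu i₀
  rw [finrank_block M hM hB] at hdim
  choose! r hr1 hr2 using hr
  have hsumr : (blockDegSq B : ℂ) =
      ∑ χ : IrrCharacter G, if χ ∈ B then ((charDegree (χ : G → ℂ) * (n * r χ) : ℕ) : ℂ) else 0 := by
    rw [← hdim, Nat.cast_mul, hrank, Finset.mul_sum]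
    apply Finset.sum_congr rfl
    intro χ _
    by_cases hχ : χ ∈ B
    · rw [if_pos hχ, ← hr1 χ hχ, irr_apply_one χ]
      push_cast
      ring
    · rw [if_neg hχ, hout χ hχ, mul_zero, mul_zero]
  have hsumr' : blockDegSq B =
      ∑ χ : IrrCharacter G, if χ ∈ B then charDegree (χ : G → ℂ) * (n * r χ) else 0 := by
    have : ((∑ χ : IrrCharacter G,
        if χ ∈ B then charDegree (χ : G → ℂ) * (n * r χ) else 0 : ℕ) : ℂ) =
        ∑ χ : IrrCharacter G,
          if χ ∈ B then ((charDegree (χ : G → ℂ) * (n * r χ) : ℕ) : ℂ) else 0 := by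
      rw [Nat.cast_sum]
      apply Finset.sum_congr rfl
      intro χ _
      split_ifs <;> simp
    rw [← this] at hsumr
    exact_mod_cast hsumr
  -- termwise equality
  have hle : ∀ χ ∈ (Finset.univ : Finset (IrrCharacter G)),
      (if χ ∈ B then charDegree (χ : G → ℂ) ^ 2 else 0) ≤
        (if χ ∈ B then charDegree (χ : G → ℂ) * (n * r χ) else 0) := by
    intro χ _
    by_cases hχ : χ ∈ B
    · rw [if_pos hχ, if_pos hχ, pow_two]
      exact Nat.mul_le_mul_left _ (hr2 χ hχ)
    · rw [if_neg hχ, if_neg hχ]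
  have heq := (Finset.sum_eq_sum_iff_of_le hle).mp (by
    rw [← hsumr']
    rfl)
  intro χ hχ
  have h1 := heq χ (Finset.mem_univ χ)
  rw [if_pos hχ, if_pos hχ, pow_two] at h1
  have hpos : 0 < charDegree (χ : G → ℂ) := irr_charDegree_pos χ
  have h2 : charDegree (χ : G → ℂ) = n * r χ := Nat.eq_of_mul_eq_mul_left hpos h1
  exact ⟨r χ, h2⟩

end Cfsg.Agent.Lib.Helper1.K4B2
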