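/-
helper1: S4648 (Kuelshammer): the main dimension formula with divisibility.
A block `B` of `p`-regular rank one with at most four irreducible characters has
`∑_{χ ∈ B} χ(1)² = n² · k(B)` with `n ∣ χ(1)` for all `χ ∈ B`.
Parts A + B1 + assembly: helper27 (`BlkAlgL.blockDegSq_eq_sq_mul_card_of_rank_one`);
part B2: `K4B2.dvd_charDegree_of_isMatrixUnits`.
-/
import Cfsg.Agent.Lib.Helper1.K4B2
import Cfsg.Agent.Lib.Helper27.BlkAlgL4

set_option autoImplicit false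

namespace Cfsg.Agent.Lib.Helper1.K4Main

open Cfsg Cfsg.Agent.Lib.Helper6 Cfsg.Agent.Lib.Helper24
open Cfsg.Agent.Lib.Helper27.SymAlg Cfsg.Agent.Lib.Helper27.BlkAlg
open Cfsg.Agent.Lib.Helper27.BlkAlgMainK

universe u

variable (M : Ideal AlgInt) [M.IsMaximal] {p : ℕ} [Fact p.Prime] {G : Type u} [Group G] [Fintype G]
  [Fintype (IrrCharacter G)]

/-- **Theorem X** -/
theorem blockDegSq_eq_sq_mul_card (hM : IsPModular p M) {B : Set (IrrCharacter G)}
    (hB : IsPBlock M B) (hl : blockRank p B = 1) (hk : Nat.card B ≤ 4) :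
    ∃ n : ℕ, n ≠ 0 ∧ blockDegSq B = n ^ 2 * Nat.card B ∧
      ∀ χ ∈ B, n ∣ charDegree (χ : G → ℂ) := by
  obtain ⟨n, u, hn, hu, hdeg⟩ :=
    Cfsg.Agent.Lib.Helper27.BlkAlgL.blockDegSq_eq_sq_mul_card_of_rank_one M hM hB hl hk
  exact ⟨n, hn, hdeg, Cfsg.Agent.Lib.Helper1.K4B2.dvd_charDegree_of_isMatrixUnits M hM hB
    (ebar_isIdempotentElem M hM hB) hn u hu⟩

end Cfsg.Agent.Lib.Helper1.K4Main
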