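/-
helper1: S4648 (Kuelshammer 1984) - the endgame, with the nilpotency leaf (NIL) as a hypothesis.
-/
import Cfsg.Agent.Lib.Helper1.K4Main
import Cfsg.Agent.Lib.Helper23.HeightZeroG
import Cfsg.Agent.Lib.Helper6.DefectOrder

set_option autoImplicit false
open Cfsg


namespace Cfsg.Agent.Lib.Helper1.K4Final

open Cfsg.Agent.Lib.Helper27.BlkAlg Cfsg.Agent.Lib.Helper24

/-- arithmetic: `q t² = k ≤ 4`, `q = p^d ≥ 2` -/
theorem arith {p d t k : ℕ} (hp : p.Prime) (hq : 2 ≤ p ^ d) (ht0 : 0 < t) (h : p ^ d * t ^ 2 = k)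
    (hk : k ≤ 4) : p ^ d = k ∧ (p = 2 ∨ p = 3) := by
  have ht : t = 1 := by
    rcases Nat.lt_or_ge t 2 with h1 | h1
    · omega
    · exfalso
      have : 4 ≤ t ^ 2 := by nlinarith
      nlinarith
  subst ht
  rw [one_pow, mul_one] at h
  refine ⟨h, ?_⟩
  have hd : d ≠ 0 := by
    rintro rfl
    simp at hq
  have hpk : p ∣ k := by
    rw [← h]
    exact dvd_pow_self p hd
  have hk2 : 2 ≤ k := by omega
  have hp2 := hp.two_le
  have hple : p ≤ k := Nat.le_of_dvd (by omega) hpk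
  interval_cases k
  · left; omega
  · right
    interval_cases p
    · exact absurd hpk (by decide)
    · rfl
  · left
    interval_cases p
    · rfl
    · exact absurd hpk (by decide)
    · exact absurd hp (by decide)

/-- S4648 modulo the nilpotency leaf -/
theorem result_of {G : Type*} [Group G] [Finite G] (p : ℕ) [Fact p.Prime] (M : Ideal Cfsg.AlgInt)
    (hM : Cfsg.IsPModular p M) (B : Set (Cfsg.IrrCharacter G)) (hB : Cfsg.IsPBlock M B)
    (D : Subgroup G) (hD : Cfsg.IsDefectGroup p M B D) (hD1 : D ≠ ⊥)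
    (hl : Cfsg.blockRank p B = 1) (hk : Nat.card B ≤ 4)
    (hNIL : Nat.card D = Nat.card B → Nat.card D ≤ 4 → Cfsg.IsNilpotentBlock p M B) :
    Cfsg.IsNilpotentBlock p M B ∧ Nat.card D = Nat.card B ∧ (p = 2 ∨ p = 3) := by
  classical
  let _ : Fintype G := Fintype.ofFinite G
  let _ : Fintype (IrrCharacter G) := Fintype.ofFinite _
  have hp : p.Prime := Fact.out
  have : M.IsMaximal := hM.2.1
  obtain ⟨n, hn, hdeg, hdvd⟩ := Cfsg.Agent.Lib.Helper1.K4Main.blockDegSq_eq_sq_mul_card M hM hB hl hk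
  obtain ⟨φ, d, nn, h1, h2, h3⟩ := Cfsg.Agent.Lib.Helper23.rank_one_block hM hB hl
  have hreg : ¬ p ∣ orderOf (1 : G) := by
    rw [orderOf_one]
    exact hp.one_lt.ne' ∘ Nat.dvd_one.mp
  -- the integer `z = φ 1`
  set z : ℤ := ∑ ψ : IrrCharacter G, if ψ ∈ B then nn ψ * (charDegree (ψ : G → ℂ) : ℤ) else 0 with hz
  have hφz : φ 1 = (z : ℂ) := by
    rw [h1 1 hreg, hz]
    push_cast
    apply Finset.sum_congr rfl
    intro ψ _
    split_ifs
    · rw [irr_apply_one]
    · rfl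
  have hdegχ : ∀ χ ∈ B, (charDegree (χ : G → ℂ) : ℤ) = (d χ : ℤ) * z := by
    intro χ hχ
    have e1 := h2 χ hχ 1 hreg
    rw [irr_apply_one, hφz] at e1
    exact_mod_cast e1
  -- `n ∣ z`
  have hnz : (n : ℤ) ∣ z := by
    rw [hz]
    apply Finset.dvd_sum
    intro ψ _
    split_ifs with hψ
    · exact Dvd.dvd.mul_left (Int.natCast_dvd_natCast.mpr (hdvd ψ hψ)) _
    · exact dvd_zero _
  obtain ⟨χ₀, hχ₀⟩ : B.Nonempty := by
    obtain ⟨χ₁, rfl⟩ := hB
    have hprime : M.IsPrime := isPrime_of_isPModular hM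
    exact ⟨χ₁, Cfsg.Agent.Lib.Helper6.mem_blockOf_self χ₁⟩
  have hzpos : 0 < z := by
    by_contra hcon
    rw [not_lt] at hcon
    have h1' : (d χ₀ : ℤ) * z ≤ 0 := mul_nonpos_of_nonneg_of_nonpos (by positivity) hcon
    have h2' : (0 : ℤ) < charDegree (χ₀ : G → ℂ) := by exact_mod_cast irr_charDegree_pos χ₀
    rw [hdegχ χ₀ hχ₀] at h2'
    omega
  obtain ⟨t', ht'⟩ := hnz
  have ht'pos : 0 < t' := by
    by_contra hcon
    rw [not_lt] at hcon
    have : (n : ℤ) * t' ≤ 0 := mul_nonpos_of_nonneg_of_nonpos (by positivity) hcon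
    omega
  obtain ⟨t, rfl⟩ : ∃ t : ℕ, (t : ℤ) = t' := ⟨t'.toNat, Int.toNat_of_nonneg ht'pos.le⟩
  -- degrees
  have hdegN : ∀ χ ∈ B, charDegree (χ : G → ℂ) = d χ * (n * t) := by
    intro χ hχ
    have := hdegχ χ hχ
    rw [ht'] at this
    exact_mod_cast this
  -- the sum of squares
  have hsq : blockDegSq B = p ^ blockDefect p B * (n * t) ^ 2 := by
    rw [← h3]
    unfold blockDegSq
    rw [Finset.sum_mul]
    apply Finset.sum_congr rfl
    intro χ _
    split_ifs with hχ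
    · rw [hdegN χ hχ]; ring
    · simp
  have hcardD := Cfsg.Agent.Lib.Helper6.card_defectGroup_eq hM B hB D hD
  have hkey : p ^ blockDefect p B * t ^ 2 = Nat.card B := by
    have h5 : n ^ 2 * (p ^ blockDefect p B * t ^ 2) = n ^ 2 * Nat.card B := by
      rw [← hdeg, hsq]; ring
    exact Nat.eq_of_mul_eq_mul_left (pow_pos (Nat.pos_of_ne_zero hn) 2) h5
  have hD2 : 2 ≤ p ^ blockDefect p B := by
    rw [← hcardD]
    by_contra hcon
    have h1' : Nat.card D ≤ 1 := by omega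
    have : Subsingleton D := (Finite.card_le_one_iff_subsingleton).mp h1'
    exact hD1 (Subgroup.eq_bot_of_subsingleton D)
  obtain ⟨hq, hp23⟩ := arith hp hD2 (by exact_mod_cast ht'pos) hkey hk
  have hDB : Nat.card D = Nat.card B := by rw [hcardD, hq]
  refine ⟨?_, hDB, hp23⟩
  exact hNIL hDB (by rw [hDB]; exact hk)

end Cfsg.Agent.Lib.Helper1.K4Final
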