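import Mathlib
import Cfsg.Prelude.Def_BlockRank
import Cfsg.Prelude.Def_BrauerPairs
import Cfsg.Agent.Lib.Helper27.SymAlgDefs
import Cfsg.Agent.Lib.Helper27.BlkAlgDefs2
import Cfsg.Agent.Lib.Helper18.BlkAlgB2
import Cfsg.Agent.Lib.Helper18.BlkAlgB3
import Cfsg.Agent.Lib.Helper19.BlkAlgB1
import Cfsg.Agent.Lib.Helper24.BlkAlgB5a

set_option autoImplicit false

namespace Cfsg.Agent.Lib.Helper1.K4INTCL

open Cfsg Cfsg.Agent.Lib.Helper6 Cfsg.Agent.Lib.Helper24
open Cfsg.Agent.Lib.Helper27.SymAlg Cfsg.Agent.Lib.Helper27.BlkAlg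
open Polynomial

variable (M : Ideal AlgInt) [M.IsMaximal]

omit [M.IsMaximal] in
/-- common denominators -/
theorem exists_common_denominator [hp : M.IsPrime] (S : Finset ℂ) (hS : ∀ c ∈ S, MemLocalRing M c) :
    ∃ s : AlgInt, s ∉ M ∧ ∀ c ∈ S, ∃ a : AlgInt, (a : ℂ) = c * (s : ℂ) := by
  classical
  induction S using Finset.induction_on with
  | empty => exact ⟨1, hp.one_notMem, by simp⟩
  | insert c S hc ih =>
    obtain ⟨s, hs, hsS⟩ := ih (fun c' hc' => hS c' (Finset.mem_insert_of_mem hc'))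
    obtain ⟨a, b, hb, hab⟩ := hS c (Finset.mem_insert_self c S)
    have hb0 : (b : ℂ) ≠ 0 := coe_ne_zero_of_not_mem hb
    refine ⟨b * s, fun h => (hp.mem_or_mem h).elim hb hs, ?_⟩
    intro c' hc'
    rcases Finset.mem_insert.mp hc' with rfl | hc'
    · refine ⟨a * s, ?_⟩
      rw [← hab]
      push_cast
      field_simp
    · obtain ⟨a', ha'⟩ := hsS c' hc'
      refine ⟨a' * b, ?_⟩
      push_cast
      rw [ha']
      ring

/-- (INTCL) the local ring at `M` is integrally closed in `ℂ` -/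
theorem memLocalRing_of_isIntegral {z : ℂ} (hz : IsIntegral (localSubring M) z) :
    MemLocalRing M z := by
  classical
  have hp : M.IsPrime := inferInstance
  obtain ⟨f, hfm, hfz⟩ := hz
  set F : ℂ[X] := f.map (algebraMap (localSubring M) ℂ) with hF
  have hFm : F.Monic := hfm.map _
  have hFz : F.eval z = 0 := by
    rw [hF, Polynomial.eval_map]
    exact hfz
  have hFc : ∀ i, MemLocalRing M (F.coeff i) := by
    intro i
    rw [hF, Polynomial.coeff_map]
    exact (f.coeff i).2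
  obtain ⟨s, hs, hsS⟩ := exists_common_denominator M ((Finset.range (F.natDegree + 1)).image F.coeff)
    (fun c hc => by
      obtain ⟨i, _, rfl⟩ := Finset.mem_image.mp hc
      exact hFc i)
  have hs0 : (s : ℂ) ≠ 0 := coe_ne_zero_of_not_mem hs
  set Gp : ℂ[X] := scaleRoots F (s : ℂ) with hG
  have hGm : Gp.Monic := (monic_scaleRoots_iff _).mpr hFm
  have hGz : Gp.eval ((s : ℂ) * z) = 0 := by
    have := scaleRoots_eval₂_eq_zero (RingHom.id ℂ) (p := F) (r := z) (s := (s : ℂ))
      (by rw [Polynomial.eval₂_id]; exact hFz)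
    rw [Polynomial.eval₂_id] at this
    exact this
  have hGl : Gp ∈ Polynomial.lifts (algebraMap AlgInt ℂ) := by
    rw [Polynomial.lifts_iff_coeff_lifts]
    intro i
    rw [hG, coeff_scaleRoots]
    rcases lt_trichotomy i F.natDegree with hi | hi | hi
    · obtain ⟨a, ha⟩ := hsS (F.coeff i) (Finset.mem_image.mpr
        ⟨i, Finset.mem_range.mpr (by omega), rfl⟩)
      refine ⟨a * s ^ (F.natDegree - i - 1), ?_⟩
      have : F.natDegree - i = (F.natDegree - i - 1) + 1 := by omega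
      rw [this, pow_succ, map_mul, map_pow]
      show (a : ℂ) * (s : ℂ) ^ (F.natDegree - i - 1) = _
      rw [ha]
      ring
    · subst hi
      refine ⟨1, ?_⟩
      rw [hFm.coeff_natDegree, Nat.sub_self, pow_zero, mul_one, map_one]
    · refine ⟨0, ?_⟩
      rw [Polynomial.coeff_eq_zero_of_natDegree_lt hi, zero_mul, map_zero]
  obtain ⟨q, hq, -, hqm⟩ := Polynomial.lifts_and_degree_eq_and_monic hGl hGm
  have hint : IsIntegral AlgInt ((s : ℂ) * z) := by
    refine ⟨q, hqm, ?_⟩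
    rw [← Polynomial.eval_map, hq]
    exact hGz
  have hintZ : IsIntegral ℤ ((s : ℂ) * z) := isIntegral_trans _ hint
  refine ⟨⟨(s : ℂ) * z, hintZ⟩, s, hs, ?_⟩
  show (s : ℂ) * z / (s : ℂ) = z
  field_simp

end Cfsg.Agent.Lib.Helper1.K4INTCL
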