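import Mathlib
import Cfsg.Prelude.Def_BlockRank
import Cfsg.Prelude.Def_BrauerPairs
import Cfsg.Agent.Lib.Helper27.SymAlgDefs
import Cfsg.Agent.Lib.Helper27.BlkAlgDefs2
import Cfsg.Agent.Lib.Helper18.BlkAlgB2
import Cfsg.Agent.Lib.Helper18.BlkAlgB3
import Cfsg.Agent.Lib.Helper19.BlkAlgB1
import Cfsg.Agent.Lib.Helper24.BlkAlgB5a
import Cfsg.Agent.Lib.Helper1.K4INTCL

set_option autoImplicit false

namespace Cfsg.Agent.Lib.Helper1.K4LIFT

open Cfsg Cfsg.Agent.Lib.Helper6 Cfsg.Agent.Lib.Helper24
open Cfsg.Agent.Lib.Helper27.SymAlg Cfsg.Agent.Lib.Helper27.BlkAlg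
open Polynomial
open Cfsg.Agent.Lib.Helper18.BlkAlgB2

universe u

/-- evaluation of a polynomial at an idempotent -/
theorem aeval_idem {F : Type*} [CommRing F] {A : Type*} [Ring A] [Algebra F A] (ε : A)
    (hε : ε * ε = ε) (h : F[X]) :
    aeval ε h = h.eval 0 • (1 - ε) + h.eval 1 • ε := by
  induction h using Polynomial.induction_on' with
  | add p q hp hq =>
    rw [map_add, hp, hq, eval_add, eval_add]
    module
  | monomial n c =>
    rw [aeval_monomial, eval_monomial, eval_monomial, one_pow, mul_one]
    rcases n with _ | n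
    · rw [pow_zero, pow_zero, mul_one, mul_one, Algebra.algebraMap_eq_smul_one]
      module
    · have hpow : ε ^ (n + 1) = ε := by
        induction n with
        | zero => simp
        | succ k ih => rw [pow_succ, ih, hε]
      rw [hpow, zero_pow (Nat.succ_ne_zero n), mul_zero, zero_smul, zero_add, Algebra.smul_def]

section ring

variable (M : Ideal AlgInt) [M.IsMaximal]

/-- elements of the local ring with nonzero reduction are units -/
theorem isUnit_of_red_ne_zero (x : localSubring M) (hx : red M x ≠ 0) : IsUnit x := by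
  have hxI : ¬ MemLocalIdeal M (x : ℂ) := fun h => hx ((red_eq_zero_iff M x).mpr h)
  have hinv : MemLocalRing M ((x : ℂ)⁻¹) := memLocalRing_inv x.2 hxI
  have hx0 : (x : ℂ) ≠ 0 := by
    intro h0
    apply hxI
    rw [h0]
    exact memLocalIdeal_zero (M := M) (Ideal.IsPrime.one_notMem inferInstance)
  refine ⟨⟨x, ⟨(x : ℂ)⁻¹, hinv⟩, ?_, ?_⟩, rfl⟩
  · apply Subtype.ext
    simp [mul_inv_cancel₀ hx0]
  · apply Subtype.ext
    simp [inv_mul_cancel₀ hx0]

end ring

/-- coprimality of products of linear factors with unit root differences -/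
theorem isCoprime_prod_prod {R : Type*} [CommRing R] (R0 R1 : Multiset R)
    (h : ∀ a ∈ R0, ∀ b ∈ R1, IsUnit (a - b)) :
    IsCoprime (R0.map fun r => X - C r).prod (R1.map fun r => X - C r).prod := by
  induction R0 using Multiset.induction_on with
  | empty => simpa using isCoprime_one_left
  | cons a R0 ih =>
    rw [Multiset.map_cons, Multiset.prod_cons]
    refine IsCoprime.mul_left ?_ (ih fun a' ha' => h a' (Multiset.mem_cons_of_mem ha'))
    have ha : ∀ b ∈ R1, IsUnit (a - b) := h a (Multiset.mem_cons_self a R0)
    clear ih h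
    induction R1 using Multiset.induction_on with
    | empty => simpa using isCoprime_one_right
    | cons b R1 ih1 =>
      rw [Multiset.map_cons, Multiset.prod_cons]
      refine IsCoprime.mul_right ?_ (ih1 fun b' hb' => ha b' (Multiset.mem_cons_of_mem hb'))
      have hu : IsUnit (a - b) := ha b (Multiset.mem_cons_self b R1)
      exact Polynomial.isCoprime_X_sub_C_of_isUnit_sub hu

section main

variable (M : Ideal AlgInt) [M.IsMaximal]

/-- a monic polynomial over the local ring splits over the local ring -/
theorem splits_of_monic (P : (localSubring M)[X]) (hP : P.Monic) : P.Splits := by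
  have hinj : Function.Injective (algebraMap (localSubring M) ℂ) := Subtype.val_injective
  refine Splits.of_splits_map_of_injective hinj (IsAlgClosed.splits _) ?_
  intro z hz
  have hz0 : (P.map (algebraMap (localSubring M) ℂ)).eval z = 0 :=
    (Polynomial.mem_roots'.mp hz).2
  have hint : IsIntegral (localSubring M) z := ⟨P, hP, by rwa [Polynomial.eval_map] at hz0⟩
  exact ⟨⟨z, K4INTCL.memLocalRing_of_isIntegral M hint⟩, rfl⟩

/-- Cayley-Hamilton in a finite free algebra -/
theorem exists_monic_aeval_eq_zero {R : Type*} [CommRing R] [Nontrivial R] {A : Type*} [Ring A]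
    [Algebra R A] [Module.Free R A] [Module.Finite R A] (b : A) :
    ∃ P : R[X], P.Monic ∧ aeval b P = 0 := by
  refine ⟨(Algebra.lmul R A b).charpoly, LinearMap.charpoly_monic _, ?_⟩
  have h := LinearMap.aeval_self_charpoly (Algebra.lmul R A b)
  rw [Polynomial.aeval_algHom_apply] at h
  have h1 := LinearMap.congr_fun h 1
  simpa using h1

/-- ring homomorphisms compatible with the scalars commute with polynomial evaluation -/
theorem map_aeval_of_comm {R S : Type*} [CommRing R] [CommRing S] {A B : Type*} [Ring A] [Ring B]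
    [Algebra R A] [Algebra S B] (f : R →+* S) (φ : A →+* B)
    (h : ∀ c, φ (algebraMap R A c) = algebraMap S B (f c)) (b : A) (g : R[X]) :
    φ (aeval b g) = aeval (φ b) (g.map f) := by
  induction g using Polynomial.induction_on' with
  | add p q hp hq => rw [map_add, map_add, hp, hq, Polynomial.map_add, map_add]
  | monomial n c =>
    rw [aeval_monomial, map_mul, map_pow, h, Polynomial.map_monomial, aeval_monomial]

/-- (LIFT) idempotents of the group algebra over the residue field lift to idempotents with
local-integer coefficients -/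
theorem exists_idem_lift {p : ℕ} (hM : IsPModular p M) {G : Type u} [Group G] [Fintype G]
    (ε : MonoidAlgebra (ResField M) G) (hε : ε * ε = ε) :
    ∃ a : G → ℂ, (∀ g, MemLocalRing M (a g)) ∧ conv a a = a ∧ redFun M a = ε := by
  classical
  let φ : MonoidAlgebra (localSubring M) G →+* MonoidAlgebra (ResField M) G :=
    MonoidAlgebra.mapRingHom G (red M)
  have hφalg : ∀ c, φ (algebraMap (localSubring M) (MonoidAlgebra (localSubring M) G) c) =
      algebraMap (ResField M) (MonoidAlgebra (ResField M) G) (red M c) := by
    intro c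
    rw [MonoidAlgebra.coe_algebraMap, MonoidAlgebra.coe_algebraMap]
    simp [φ]
  -- a lift of `ε`
  let b : MonoidAlgebra (localSubring M) G :=
    ∑ g, MonoidAlgebra.single g (Function.surjInv (red_surjective M) (ε.coeff g))
  have hφb : φ b = ε := by
    apply MonoidAlgebra.ext
    apply Finsupp.ext
    intro x
    simp only [φ, b, map_sum, MonoidAlgebra.mapRingHom_single, Function.surjInv_eq,
      MonoidAlgebra.coeff_sum, Finsupp.coe_finsetSum, Finset.sum_apply,
      MonoidAlgebra.coeff_single, Finsupp.single_apply]
    simp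
  obtain ⟨P, hPm, hPb⟩ := exists_monic_aeval_eq_zero (R := localSubring M) b
  have hsplit := splits_of_monic M P hPm
  have hPeq := hsplit.eq_prod_roots_of_monic hPm
  set R1 := P.roots.filter (fun r => red M r = 1) with hR1
  set R0 := P.roots.filter (fun r => ¬ red M r = 1) with hR0
  have hR : R1 + R0 = P.roots := Multiset.filter_add_not _ _
  set f0 := (R0.map fun r => X - C r).prod with hf0
  set f1 := (R1.map fun r => X - C r).prod with hf1
  have hf : f0 * f1 = P := by
    conv_rhs => rw [hPeq, ← hR]
    rw [Multiset.map_add, Multiset.prod_add, mul_comm]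
  have hunit : ∀ a ∈ R0, ∀ c ∈ R1, IsUnit (a - c) := by
    intro a ha c hc
    apply isUnit_of_red_ne_zero
    rw [map_sub, (Multiset.mem_filter.mp hc).2]
    exact sub_ne_zero.mpr (Multiset.mem_filter.mp ha).2
  obtain ⟨U, W, hUW⟩ := isCoprime_prod_prod R0 R1 hunit
  change U * f0 + W * f1 = 1 at hUW
  set g := U * f0 with hg
  have hg1 : 1 - g = W * f1 := by rw [← hUW]; ring
  set a' : MonoidAlgebra (localSubring M) G := aeval b g with ha'
  have hidem : a' * a' = a' := by
    have h1 : g * (1 - g) = U * W * P := by
      rw [hg1, ← hf]; ring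
    have h2 : a' * (1 - a') = 0 := by
      have := congrArg (aeval b) h1
      rw [map_mul, map_sub, map_one, map_mul (aeval b) (U * W) P, hPb, mul_zero] at this
      exact this
    rw [mul_sub, mul_one, sub_eq_zero] at h2
    exact h2.symm
  -- the values of `f0` at `1` and of `f1` at `0` are units
  have hc0 : red M (f0.eval 1) ≠ 0 := by
    rw [hf0, Polynomial.eval_multiset_prod, map_multiset_prod, Multiset.map_map, Multiset.map_map]
    apply Multiset.prod_ne_zero
    intro h0
    obtain ⟨r, hr, hr0⟩ := Multiset.mem_map.mp h0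
    simp only [Function.comp_apply, eval_sub, eval_X, eval_C, map_sub, map_one] at hr0
    exact (Multiset.mem_filter.mp hr).2 (sub_eq_zero.mp hr0).symm
  have hc1 : red M (f1.eval 0) ≠ 0 := by
    rw [hf1, Polynomial.eval_multiset_prod, map_multiset_prod, Multiset.map_map, Multiset.map_map]
    apply Multiset.prod_ne_zero
    intro h0
    obtain ⟨r, hr, hr0⟩ := Multiset.mem_map.mp h0
    simp only [Function.comp_apply, eval_sub, eval_X, eval_C, zero_sub] at hr0
    rw [map_neg, neg_eq_zero, (Multiset.mem_filter.mp hr).2] at hr0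
    exact one_ne_zero hr0
  -- the reduction
  have hPε : aeval ε (P.map (red M)) = 0 := by
    rw [← hφb, ← map_aeval_of_comm (red M) φ hφalg b P, hPb, map_zero]
  have hev : ∀ (h : (localSubring M)[X]) (x : localSubring M),
      (h.map (red M)).eval (red M x) = red M (h.eval x) := fun h x => Polynomial.eval_map_apply _ _
  have hε1 : (1 - ε) * (1 - ε) = 1 - ε := by
    rw [mul_sub, mul_one, sub_mul, one_mul, hε]; abel
  have hε2 : (1 - ε) * ε = 0 := by rw [sub_mul, one_mul, hε, sub_self]
  have hε3 : ε * (1 - ε) = 0 := by rw [mul_sub, mul_one, hε, sub_self]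
  rw [aeval_idem ε hε] at hPε
  have hA0 : (P.map (red M)).eval 0 • (1 - ε) = 0 := by
    have := congrArg (fun t => (1 - ε) * t) hPε
    simp only [mul_add, mul_smul_comm, hε1, hε2, smul_zero, add_zero, mul_zero] at this
    exact this
  have hB0 : (P.map (red M)).eval 1 • ε = 0 := by
    have := congrArg (fun t => ε * t) hPε
    simp only [mul_add, mul_smul_comm, hε3, hε, smul_zero, zero_add, mul_zero] at this
    exact this
  have hA : (f0.map (red M)).eval 0 • (1 - ε) = 0 := by
    have h1 : (P.map (red M)).eval 0 = (f1.map (red M)).eval 0 * (f0.map (red M)).eval 0 := by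
      rw [← hf, Polynomial.map_mul, eval_mul, mul_comm]
    rw [h1, mul_smul] at hA0
    have h2 : (f1.map (red M)).eval 0 ≠ 0 := by
      have := hev f1 0
      rw [map_zero] at this
      rw [this]
      exact hc1
    exact (smul_eq_zero.mp hA0).resolve_left h2
  have hB : (f1.map (red M)).eval 1 • ε = 0 := by
    have h1 : (P.map (red M)).eval 1 = (f0.map (red M)).eval 1 * (f1.map (red M)).eval 1 := by
      rw [← hf, Polynomial.map_mul, eval_mul]
    rw [h1, mul_smul] at hB0
    have h2 : (f0.map (red M)).eval 1 ≠ 0 := by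
      have := hev f0 1
      rw [map_one] at this
      rw [this]
      exact hc0
    exact (smul_eq_zero.mp hB0).resolve_left h2
  have hred : φ a' = ε := by
    rw [ha', map_aeval_of_comm (red M) φ hφalg b g, hφb, aeval_idem ε hε]
    have e0 : (g.map (red M)).eval 0 • (1 - ε) = 0 := by
      rw [hg, Polynomial.map_mul, eval_mul, mul_smul, hA, smul_zero]
    have e1 : (g.map (red M)).eval 1 • ε = ε := by
      have h1 : g.map (red M) = 1 - (W * f1).map (red M) := by
        rw [← hg1, Polynomial.map_sub, Polynomial.map_one]; ring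
      rw [h1, eval_sub, eval_one, sub_smul, one_smul, Polynomial.map_mul, eval_mul, mul_smul, hB,
        smul_zero, sub_zero]
    rw [e0, e1, zero_add]
  -- back to functions
  refine ⟨fun x => ((a'.coeff x : localSubring M) : ℂ), fun x => (a'.coeff x).2, ?_, ?_⟩
  · funext x
    have h := congrArg (fun t : MonoidAlgebra (localSubring M) G => ((t.coeff x : localSubring M) : ℂ))
      hidem
    beta_reduce at h
    rw [MonoidAlgebra.coeff_mul_apply_left, Finsupp.sum_fintype _ _ (fun i => zero_mul _)] at h
    unfold conv
    rw [← h]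
    push_cast
    rfl
  · rw [← hred]
    apply MonoidAlgebra.ext
    apply Finsupp.ext
    intro x
    rw [coeff_redFun, redC_of_mem M (a'.coeff x).2]
    simp [φ]

end main

end Cfsg.Agent.Lib.Helper1.K4LIFT
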