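/-
helper1: permutations of prime order fixing a k-subset (S3573).
-/
import Mathlib

set_option autoImplicit false

namespace Cfsg.Agent.Lib.Helper1.KSubsets

open Equiv

theorem mem_iff_of_image_eq {α : Type*} [DecidableEq α] (σ : Perm α) (s : Finset α)
    (hs : s.image σ = s) (x : α) : σ x ∈ s ↔ x ∈ s := by
  constructor
  · intro h
    rw [← hs, Finset.mem_image] at h
    obtain ⟨y, hy, hxy⟩ := h
    rwa [← σ.injective hxy]
  · intro h
    rw [← hs]
    exact Finset.mem_image_of_mem _ h

/-- An invariant set of a permutation of prime-power order has as many elements as fixed points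
inside it, modulo the prime. -/
theorem card_invariant_modEq {α : Type*} [Fintype α] [DecidableEq α] {r : ℕ} [Fact r.Prime]
    (σ : Perm α) (hσ : σ ^ r = 1) (s : Finset α) (hs : s.image σ = s) :
    s.card ≡ (s.filter (fun x => σ x = x)).card [MOD r] := by
  have hmem := mem_iff_of_image_eq σ s hs
  let τ : Perm {x // x ∈ s} := σ.subtypePerm hmem
  have hτ : τ ^ r ^ 1 = 1 := by
    rw [pow_one]
    ext x
    have key : ∀ (k : ℕ) (y : {x // x ∈ s}), ((τ ^ k) y : α) = (σ ^ k) y.1 := by
      intro k
      induction k with
      | zero => intro y; rfl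
      | succ k ih =>
        intro y
        rw [pow_succ', pow_succ', Equiv.Perm.mul_apply, Equiv.Perm.mul_apply, ← ih y]
        rfl
    rw [key r x, hσ]
    rfl
  have h1 := Equiv.Perm.card_compl_support_modEq hτ
  rw [Fintype.card_coe] at h1
  have h2 : (τ.support)ᶜ.card = (s.filter (fun x => σ x = x)).card := by
    apply Finset.card_bij (fun (x : {x // x ∈ s}) _ => (x : α))
    · intro x hx
      rw [Finset.mem_compl, Equiv.Perm.notMem_support] at hx
      rw [Finset.mem_filter]
      refine ⟨x.2, ?_⟩
      have : ((τ x : {x // x ∈ s}) : α) = σ x.1 := rfl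
      rw [← this, hx]
    · intro x _ y _ h
      exact Subtype.ext h
    · intro y hy
      rw [Finset.mem_filter] at hy
      refine ⟨⟨y, hy.1⟩, ?_, rfl⟩
      rw [Finset.mem_compl, Equiv.Perm.notMem_support]
      exact Subtype.ext hy.2
  rw [h2] at h1
  exact h1.symm


/-- Invariant sets built from `a` cycles and `b` fixed points. -/
theorem exists_invariant {α : Type*} [Fintype α] [DecidableEq α] {r : ℕ}
    (σ : Perm α) (hσ : ∀ c ∈ σ.cycleType, c = r) {a b : ℕ}
    (ha : a ≤ Multiset.card σ.cycleType) (hb : b ≤ (σ.support)ᶜ.card) :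
    ∃ s : Finset α, s.card = a * r + b ∧ s.image σ = s := by
  have hcard : σ.cycleFactorsFinset.card = Multiset.card σ.cycleType := by
    rw [Equiv.Perm.cycleType_def, Multiset.card_map]
    rfl
  obtain ⟨T, hT, hTa⟩ := Finset.exists_subset_card_eq (hcard ▸ ha)
  obtain ⟨s2, hs2, hs2b⟩ := Finset.exists_subset_card_eq hb
  have hsupp : ∀ τ ∈ T, τ.support.card = r := by
    intro τ hτ
    apply hσ
    rw [Equiv.Perm.cycleType_def, Multiset.mem_map]
    exact ⟨τ, hT hτ, rfl⟩
  have hdisj : (T : Set (Perm α)).PairwiseDisjoint (fun τ => τ.support) := by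
    intro τ hτ τ' hτ' hne
    exact (Equiv.Perm.cycleFactorsFinset_pairwise_disjoint σ (hT hτ) (hT hτ') hne).disjoint_support
  have hs1card : (T.biUnion fun τ => τ.support).card = a * r := by
    rw [Finset.card_biUnion hdisj, Finset.sum_congr rfl hsupp, Finset.sum_const, hTa, smul_eq_mul]
  have hs1sub : (T.biUnion fun τ => τ.support) ⊆ σ.support := by
    intro x hx
    rw [Finset.mem_biUnion] at hx
    obtain ⟨τ, hτ, hxτ⟩ := hx
    exact Equiv.Perm.mem_cycleFactorsFinset_support_le (hT hτ) hxτ
  have hd : Disjoint (T.biUnion fun τ => τ.support) s2 := by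
    rw [Finset.disjoint_left]
    intro x hx1 hx2
    have := hs2 hx2
    rw [Finset.mem_compl] at this
    exact this (hs1sub hx1)
  refine ⟨(T.biUnion fun τ => τ.support) ∪ s2, ?_, ?_⟩
  · rw [Finset.card_union_of_disjoint hd, hs1card, hs2b]
  · apply Finset.eq_of_subset_of_card_le
    · intro y hy
      rw [Finset.mem_image] at hy
      obtain ⟨x, hx, rfl⟩ := hy
      rw [Finset.mem_union] at hx ⊢
      rcases hx with hx | hx
      · left
        rw [Finset.mem_biUnion] at hx ⊢
        obtain ⟨τ, hτ, hxτ⟩ := hx
        refine ⟨τ, hτ, ?_⟩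
        have h1 := (Equiv.Perm.mem_cycleFactorsFinset_iff.mp (hT hτ)).2 x hxτ
        rw [← h1]
        exact Equiv.Perm.apply_mem_support.mpr hxτ
      · right
        have := hs2 hx
        rw [Finset.mem_compl, Equiv.Perm.notMem_support] at this
        rw [this]
        exact hx
    · rw [Finset.card_image_of_injective _ σ.injective]



theorem prime_le_of_dvd_choose {n k r : ℕ} (hr : r.Prime) (hkn : k ≤ n) (hrd : r ∣ Nat.choose n k) :
    r ≤ n := by
  have h1 := Nat.choose_mul_factorial_mul_factorial hkn
  have h2 : r ∣ n.factorial := by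
    rw [← h1]
    exact Dvd.dvd.mul_right (Dvd.dvd.mul_right hrd _) _
  exact (hr.dvd_factorial).mp h2

/-- Lucas: if `r ∣ choose n k` and the last digit of `k` is at most that of `n`, then `r ≤ k`. -/
theorem le_of_dvd_choose_of_mod_le {n k r : ℕ} (hr : r.Prime) (hrd : r ∣ Nat.choose n k)
    (hmod : k % r ≤ n % r) : r ≤ k := by
  haveI := Fact.mk hr
  by_contra hlt
  push Not at hlt
  have h1 := Choose.choose_modEq_choose_mod_mul_choose_div_nat (n := n) (k := k) (p := r)
  rw [Nat.div_eq_of_lt hlt, Nat.choose_zero_right, mul_one] at h1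
  have h2 : r ∣ Nat.choose (n % r) (k % r) := by
    rw [← Nat.modEq_zero_iff_dvd]
    exact h1.symm.trans (Nat.modEq_zero_iff_dvd.mpr hrd)
  have h3 := prime_le_of_dvd_choose hr hmod h2
  have h4 := Nat.mod_lt n hr.pos
  omega

theorem main {n k r : ℕ} (hkn : k ≤ n) (hr : r.Prime) (hrn : r ≤ n) :
    (∀ σ : Perm (Fin n), orderOf σ = r → ∃ s : Finset (Fin n), s.card = k ∧ s.image σ = s) ↔
      k % r ≤ n % r := by
  haveI := Fact.mk hr
  constructor
  · intro h
    have hpos : 0 < n / r := Nat.div_pos hrn hr.pos
    obtain ⟨σ, hσ⟩ := (Equiv.Perm.exists_with_cycleType_iff (Fin n)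
      (m := Multiset.replicate (n / r) r)).mpr ⟨by
        rw [Multiset.sum_replicate, smul_eq_mul, Fintype.card_fin]
        exact Nat.div_mul_le_self n r, by
        intro a ha
        rw [Multiset.eq_of_mem_replicate ha]
        exact hr.two_le⟩
    have hpow : σ ^ r = 1 := by
      rw [Equiv.Perm.pow_prime_eq_one_iff, hσ]
      intro c hc
      exact Multiset.eq_of_mem_replicate hc
    have hne : σ ≠ 1 := by
      intro h1
      rw [h1, Equiv.Perm.cycleType_one] at hσ
      have := congrArg Multiset.card hσ
      rw [Multiset.card_replicate, Multiset.card_zero] at this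
      omega
    have hord : orderOf σ = r := orderOf_eq_prime hpow hne
    obtain ⟨s, hsk, hs⟩ := h σ hord
    have h1 := card_invariant_modEq σ hpow s hs
    have h2 : (s.filter (fun x => σ x = x)).card ≤ n % r := by
      have hsub : s.filter (fun x => σ x = x) ⊆ (σ.support)ᶜ := by
        intro x hx
        rw [Finset.mem_filter] at hx
        rw [Finset.mem_compl, Equiv.Perm.notMem_support]
        exact hx.2
      have hc := Finset.card_le_card hsub
      have hs' : σ.support.card = n / r * r := by
        rw [← Equiv.Perm.sum_cycleType, hσ, Multiset.sum_replicate, smul_eq_mul]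
      rw [Finset.card_compl, Fintype.card_fin, hs'] at hc
      have := Nat.div_add_mod' n r
      omega
    rw [hsk] at h1
    have h3 : k % r = (s.filter (fun x => σ x = x)).card := by
      have h4 := Nat.mod_lt n hr.pos
      have := h1
      unfold Nat.ModEq at this
      rw [this, Nat.mod_eq_of_lt (by omega)]
    omega
  · intro hmod σ hσ
    have hpow : σ ^ r = 1 := by rw [← hσ]; exact pow_orderOf_eq_one σ
    have hct : ∀ c ∈ σ.cycleType, c = r := Equiv.Perm.pow_prime_eq_one_iff.mp hpow
    have hsupp : σ.support.card = Multiset.card σ.cycleType * r := by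
      rw [← Equiv.Perm.sum_cycleType, Multiset.eq_replicate_card.mpr hct, Multiset.sum_replicate,
        Multiset.card_replicate, smul_eq_mul]
    have hle : σ.support.card ≤ n := by
      have := Finset.card_le_univ σ.support
      rwa [Fintype.card_fin] at this
    have hf : (σ.support)ᶜ.card = n - Multiset.card σ.cycleType * r := by
      rw [Finset.card_compl, Fintype.card_fin, hsupp]
    set c := Multiset.card σ.cycleType with hc
    rw [hsupp] at hle
    have key : ∃ a b : ℕ, a ≤ c ∧ b ≤ n - c * r ∧ a * r + b = k := by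
      by_cases hcase : k / r ≤ c
      · refine ⟨k / r, k % r, hcase, ?_, Nat.div_add_mod' k r⟩
        have h5 : (n - c * r) % r = n % r := by
          have : n = (n - c * r) + c * r := by omega
          conv_rhs => rw [this]
          rw [Nat.add_mul_mod_self_right]
        have h6 := Nat.mod_le (n - c * r) r
        omega
      · push Not at hcase
        have h7 : c * r ≤ k := by
          have : (c + 1) * r ≤ k / r * r := Nat.mul_le_mul_right r hcase
          have := Nat.div_mul_le_self k r
          nlinarith
        exact ⟨c, k - c * r, le_rfl, by omega, by omega⟩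
    obtain ⟨a, b, ha, hb, hab⟩ := key
    obtain ⟨s, hs1, hs2⟩ := exists_invariant σ hct ha (hf ▸ hb)
    exact ⟨s, hs1.trans hab, hs2⟩


end Cfsg.Agent.Lib.Helper1.KSubsets
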