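import Mathlib
import Cfsg.Agent.Lib.Helper1.L33LocE

set_option autoImplicit false

/-! Local analysis in a group of order `5616`: fixed-point-free involutions, and the subgroup
`U ∩ C(u)` of a Sylow `3`-subgroup (part F). -/

namespace Cfsg.Agent.Lib.Helper1.L33Loc

open Subgroup

variable {G : Type*} [Group G]

/-- an involution acting without nontrivial fixed points on a finite subgroup inverts it -/
theorem inverts_of_fixed_point_free [Finite G] (V : Subgroup G) (d : G) (hd2 : d * d = 1)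
    (hdV : ∀ v ∈ V, d * v * d⁻¹ ∈ V) (hfix : ∀ v ∈ V, d * v = v * d → v = 1) :
    ∀ v ∈ V, d * v * d⁻¹ = v⁻¹ := by
  have hdi : d⁻¹ = d := inv_eq_of_mul_eq_one_right hd2
  have hinj : Function.Injective (fun u : V => (⟨u.1⁻¹ * (d * u.1 * d⁻¹),
      V.mul_mem (V.inv_mem u.2) (hdV u.1 u.2)⟩ : V)) := by
    intro u v huv
    have h1 : u.1⁻¹ * (d * u.1 * d⁻¹) = v.1⁻¹ * (d * v.1 * d⁻¹) := congrArg Subtype.val huv
    have h2 : d * (v.1 * u.1⁻¹) = (v.1 * u.1⁻¹) * d := by
      have : v.1 * u.1⁻¹ = d * (v.1 * u.1⁻¹) * d⁻¹ := by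
        have e1 : d * (v.1 * u.1⁻¹) * d⁻¹ = (d * v.1 * d⁻¹) * (d * u.1 * d⁻¹)⁻¹ := by group
        rw [e1]
        have e2 : d * v.1 * d⁻¹ = v.1 * (u.1⁻¹ * (d * u.1 * d⁻¹)) := by rw [h1]; group
        rw [e2]; group
      calc d * (v.1 * u.1⁻¹) = d * (v.1 * u.1⁻¹) * d⁻¹ * d := by group
        _ = (v.1 * u.1⁻¹) * d := by rw [← this]
    have h3 := hfix _ (V.mul_mem v.2 (V.inv_mem u.2)) h2
    apply Subtype.ext
    have : v.1 = u.1 := by
      have := congrArg (fun t => t * u.1) h3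
      simpa using this
    exact this.symm
  have hsurj := Finite.surjective_of_injective hinj
  intro w hw
  obtain ⟨u, hu⟩ := hsurj ⟨w, hw⟩
  have hw' : w = u.1⁻¹ * (d * u.1 * d⁻¹) := (congrArg Subtype.val hu).symm
  rw [hw']
  have : d * (u.1⁻¹ * (d * u.1 * d⁻¹)) * d⁻¹ = (d * u.1 * d⁻¹)⁻¹ * ((d * d) * u.1 * (d * d)⁻¹) := by
    group
  rw [this, hd2]
  group

/-- a subgroup inverted by an element is abelian -/
theorem comm_of_inverted (V : Subgroup G) (d : G) (hinv : ∀ v ∈ V, d * v * d⁻¹ = v⁻¹) :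
    ∀ a ∈ V, ∀ b ∈ V, a * b = b * a := by
  intro a ha b hb
  have h1 := hinv (a * b) (V.mul_mem ha hb)
  have h2 : d * (a * b) * d⁻¹ = (d * a * d⁻¹) * (d * b * d⁻¹) := by group
  rw [h2, hinv a ha, hinv b hb] at h1
  have h3 : (a⁻¹ * b⁻¹)⁻¹ = ((a * b)⁻¹)⁻¹ := by rw [h1]
  simpa using h3.symm

/-- an involution normalizing a nonabelian finite subgroup has a nontrivial fixed point -/
theorem exists_fixed_of_involution [Finite G] (V : Subgroup G) (d : G) (hd2 : d * d = 1)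
    (hdV : ∀ v ∈ V, d * v * d⁻¹ ∈ V) (hnab : ∃ a ∈ V, ∃ b ∈ V, a * b ≠ b * a) :
    ∃ u ∈ V, u ≠ 1 ∧ d * u = u * d := by
  by_contra hcon
  obtain ⟨a, ha, b, hb, hab⟩ := hnab
  apply hab
  apply comm_of_inverted V d _ a ha b hb
  apply inverts_of_fixed_point_free V d hd2 hdV
  intro v hv hdv
  by_contra hv1
  exact hcon ⟨v, hv, hv1, hdv⟩

theorem pow_not_mem_zpowers (u z : G) (hu3 : u ^ 3 = 1) (huz : u ∉ zpowers z) (a : ℕ)
    (ha0 : a ≠ 0) (ha : a < 3) : u ^ a ∉ zpowers z := by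
  intro h
  apply huz
  interval_cases a
  · exact absurd rfl ha0
  · simpa using h
  · have : u = (u ^ 2) ^ 2 := by
      rw [← pow_mul]
      have : u ^ (2 * 2) = u ^ 3 * u := by rw [← pow_succ]
      rw [this, hu3, one_mul]
    rw [this]
    exact pow_mem h 2

/-- for `u ∈ U` outside `Z(U) = ⟨z⟩`: `U ∩ C(u)` has order `9` and consists of the
elements `u ^ a * z ^ b` -/
theorem inf_centralizer_data [Finite G] (U : Subgroup G) (hU27 : Nat.card U = 27)
    (hexp : ∀ u ∈ U, u ^ 3 = 1) (z : G) (hzU : z ∈ U) (hz3 : orderOf z = 3)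
    (hzc : ∀ u ∈ U, u * z = z * u)
    (hZ : ∀ x ∈ U, (∀ y ∈ U, x * y = y * x) → x ∈ zpowers z)
    (u : G) (huU : u ∈ U) (huz : u ∉ zpowers z) :
    Nat.card (U ⊓ centralizer ({u} : Set G) : Subgroup G) = 9 ∧
      ∀ e ∈ (U ⊓ centralizer ({u} : Set G) : Subgroup G),
        ∃ a b : ℕ, a < 3 ∧ b < 3 ∧ e = u ^ a * z ^ b := by
  have huzc : Commute u z := hzc u huU
  have hmem : ∀ a b : ℕ, u ^ a * z ^ b ∈ (U ⊓ centralizer ({u} : Set G) : Subgroup G) := by
    intro a b
    rw [Subgroup.mem_inf, mem_centralizer_singleton_iff]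
    refine ⟨U.mul_mem (U.pow_mem huU a) (U.pow_mem hzU b), ?_⟩
    have h1 : Commute (u ^ a * z ^ b) u :=
      Commute.mul_left ((Commute.refl u).pow_left a) ((huzc.symm).pow_left b)
    exact h1.eq
  have hinj : Function.Injective (fun p : Fin 3 × Fin 3 =>
      (⟨u ^ (p.1 : ℕ) * z ^ (p.2 : ℕ), hmem _ _⟩ :
        (U ⊓ centralizer ({u} : Set G) : Subgroup G))) := by
    have key : ∀ a a' b b' : ℕ, a < 3 → a' < 3 → a < a' → u ^ a * z ^ b = u ^ a' * z ^ b' →
        False := by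
      intro a a' b b' ha ha' hlt h
      apply pow_not_mem_zpowers u z (hexp u huU) huz (a' - a) (by omega) (by omega)
      have h1 : u ^ (a' - a) = z ^ b * (z ^ b')⁻¹ := by
        have : u ^ a' = u ^ a * u ^ (a' - a) := by rw [← pow_add]; congr 1; omega
        rw [this] at h
        have h2 : z ^ b = u ^ (a' - a) * z ^ b' := by
          apply mul_left_cancel (a := u ^ a)
          rw [h]; group
        rw [h2]; group
      rw [h1]
      exact mul_mem (pow_mem (mem_zpowers z) b) (inv_mem (pow_mem (mem_zpowers z) b'))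
    rintro ⟨a, b⟩ ⟨a', b'⟩ h
    have h0 : u ^ (a : ℕ) * z ^ (b : ℕ) = u ^ (a' : ℕ) * z ^ (b' : ℕ) := congrArg Subtype.val h
    have haa : (a : ℕ) = a' := by
      rcases lt_trichotomy (a : ℕ) (a' : ℕ) with h1 | h1 | h1
      · exact (key a a' b b' a.2 a'.2 h1 h0).elim
      · exact h1
      · exact (key a' a b' b a'.2 a.2 h1 h0.symm).elim
    have hbb : (b : ℕ) = b' := by
      rw [haa] at h0
      have h1 : z ^ (b : ℕ) = z ^ (b' : ℕ) := mul_left_cancel h0
      apply pow_injOn_Iio_orderOf (x := z)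
      · rw [hz3]; exact b.2
      · rw [hz3]; exact b'.2
      · exact h1
    exact Prod.ext (Fin.ext haa) (Fin.ext hbb)
  have h9 : 9 ≤ Nat.card (U ⊓ centralizer ({u} : Set G) : Subgroup G) := by
    have := Nat.card_le_card_of_injective _ hinj
    rwa [Nat.card_prod, Nat.card_fin] at this
  have hd : Nat.card (U ⊓ centralizer ({u} : Set G) : Subgroup G) ∣ 3 ^ 3 := by
    have := Subgroup.card_dvd_of_le (inf_le_left : U ⊓ centralizer ({u} : Set G) ≤ U)
    rw [hU27] at this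
    exact this
  have hne : Nat.card (U ⊓ centralizer ({u} : Set G) : Subgroup G) ≠ 27 := by
    intro h27
    have heq : (U ⊓ centralizer ({u} : Set G) : Subgroup G) = U :=
      Subgroup.eq_of_le_of_card_ge inf_le_left (by rw [h27, hU27])
    apply huz
    apply hZ u huU
    intro y hy
    rw [← heq, Subgroup.mem_inf, mem_centralizer_singleton_iff] at hy
    exact hy.2.symm
  have hcard : Nat.card (U ⊓ centralizer ({u} : Set G) : Subgroup G) = 9 := by
    obtain ⟨k, hk, hkE⟩ := (Nat.dvd_prime_pow (by norm_num)).mp hd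
    interval_cases k <;> omega
  refine ⟨hcard, ?_⟩
  intro e he
  have hbij := hinj.bijective_of_nat_card_le (by rw [hcard, Nat.card_prod, Nat.card_fin])
  obtain ⟨p, hp⟩ := hbij.2 ⟨e, he⟩
  exact ⟨p.1, p.2, p.1.2, p.2.2, (congrArg Subtype.val hp).symm⟩

end Cfsg.Agent.Lib.Helper1.L33Loc
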