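import Mathlib
import Cfsg.Agent.Lib.Helper1.L33LocF

set_option autoImplicit false

/-! Local analysis in a group of order `5616`: a Sylow `2`-subgroup of `N(U)` is not cyclic
(part G). -/

namespace Cfsg.Agent.Lib.Helper1.L33Loc

open Subgroup

variable {G : Type*} [Group G]

theorem exists_not_mem_zpowers [Finite G] (U : Subgroup G) (hU27 : Nat.card U = 27) (z : G)
    (hz3 : orderOf z = 3) : ∃ u ∈ U, u ∉ zpowers z := by
  by_contra hcon
  have hle : U ≤ zpowers z := by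
    intro u hu
    by_contra h
    exact hcon ⟨u, hu, h⟩
  have := Subgroup.card_dvd_of_le hle
  rw [hU27, Nat.card_zpowers, hz3] at this
  norm_num at this

/-- elements of `⟨z⟩` commute with the elements of `U` -/
theorem commute_of_mem_zpowers (U : Subgroup G) (z : G) (hzc : ∀ u ∈ U, u * z = z * u)
    (c : G) (hc : c ∈ zpowers z) (x : G) (hx : x ∈ U) : c * x = x * c := by
  obtain ⟨k, rfl⟩ := mem_zpowers_iff.mp hc
  have h : Commute x z := hzc x hx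
  exact ((h.zpow_right k).eq).symm

/-- if `d` inverts `z` and `u, d u d⁻¹` satisfy `d (d u d⁻¹) d⁻¹ = u⁻¹ c` with `c ∈ ⟨z⟩`, then
`u` and `d u d⁻¹` commute -/
theorem commute_conj_of_sq_inverts [Finite G] (U : Subgroup G) (hU27 : Nat.card U = 27) (z : G)
    (hzU : z ∈ U) (hz3 : orderOf z = 3) (hzc : ∀ u ∈ U, u * z = z * u)
    (d : G) (hdN : ∀ v ∈ U, d * v * d⁻¹ ∈ U) (hdz : d * z * d⁻¹ = z⁻¹)
    (u : G) (huU : u ∈ U) (c : G) (hc : c ∈ zpowers z)
    (hw : d * (d * u * d⁻¹) * d⁻¹ = u⁻¹ * c) :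
    u * (d * u * d⁻¹) = (d * u * d⁻¹) * u := by
  set v := d * u * d⁻¹ with hv
  have hvU : v ∈ U := hdN u huU
  obtain ⟨i, hi⟩ := comm_mod_central U hU27 z hzU hz3 hzc u huU v hvU
  have hzi : (z⁻¹) ^ i ∈ zpowers z := pow_mem (inv_mem (mem_zpowers z)) i
  have hB : v * (u⁻¹ * c) = u⁻¹ * c * v * (z⁻¹) ^ i := by
    have h1 : d * (u * v) * d⁻¹ = d * (v * u * z ^ i) * d⁻¹ := by rw [hi]
    have h2 : d * (u * v) * d⁻¹ = (d * u * d⁻¹) * (d * v * d⁻¹) := by group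
    have h3 : d * (v * u * z ^ i) * d⁻¹ = (d * v * d⁻¹) * (d * u * d⁻¹) * (d * z * d⁻¹) ^ i := by
      rw [conj_pow]; group
    rw [h2, h3, hw, ← hv, hdz] at h1
    exact h1
  have hcv : c * v = v * c := commute_of_mem_zpowers U z hzc c hc v hvU
  have hic : c * (z⁻¹) ^ i = (z⁻¹) ^ i * c := by
    obtain ⟨k, rfl⟩ := mem_zpowers_iff.mp hc
    have h : Commute (z ^ k) ((z⁻¹) ^ i) :=
      ((Commute.refl z).inv_right.pow_right i).zpow_left k
    exact h.eq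
  have hiu : (z⁻¹) ^ i * u = u * (z⁻¹) ^ i :=
    commute_of_mem_zpowers U z hzc _ hzi u huU
  have h1 : v * u⁻¹ * c = u⁻¹ * v * (z⁻¹) ^ i * c := by
    calc v * u⁻¹ * c = v * (u⁻¹ * c) := by group
      _ = u⁻¹ * c * v * (z⁻¹) ^ i := hB
      _ = u⁻¹ * (c * v) * (z⁻¹) ^ i := by group
      _ = u⁻¹ * (v * c) * (z⁻¹) ^ i := by rw [hcv]
      _ = u⁻¹ * v * (c * (z⁻¹) ^ i) := by group
      _ = u⁻¹ * v * ((z⁻¹) ^ i * c) := by rw [hic]
      _ = u⁻¹ * v * (z⁻¹) ^ i * c := by group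
  have h2 : v * u⁻¹ = u⁻¹ * v * (z⁻¹) ^ i := mul_right_cancel h1
  have h3 : u * v = v * u * (z⁻¹) ^ i := by
    calc u * v = u * (v * u⁻¹) * u := by group
      _ = u * (u⁻¹ * v * (z⁻¹) ^ i) * u := by rw [h2]
      _ = v * ((z⁻¹) ^ i * u) := by group
      _ = v * (u * (z⁻¹) ^ i) := by rw [hiu]
      _ = v * u * (z⁻¹) ^ i := by group
  have h4 : z ^ i = (z⁻¹) ^ i := by
    have : v * u * z ^ i = v * u * (z⁻¹) ^ i := by rw [← hi, ← h3]
    exact mul_left_cancel this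
  have h5 : z ^ (i + i) = 1 := by
    rw [pow_add]
    nth_rewrite 2 [h4]
    rw [inv_pow, mul_inv_cancel]
  have h6 : 3 ∣ i + i := by rw [← hz3]; exact orderOf_dvd_of_pow_eq_one h5
  have h7 : 3 ∣ i := by omega
  have h8 : z ^ i = 1 := by
    rw [← hz3] at h7
    exact orderOf_dvd_iff_pow_eq_one.mp h7
  rw [hi, h8, mul_one]

/-- no element `d` normalizing `U`, inverting `z`, whose square inverts `U` modulo `⟨z⟩`:
a Sylow `2`-subgroup of `N(U)` is not cyclic -/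
theorem not_cyclic_case [Finite G] (U : Subgroup G) (hU27 : Nat.card U = 27)
    (hexp : ∀ u ∈ U, u ^ 3 = 1) (z : G) (hzU : z ∈ U) (hz3 : orderOf z = 3)
    (hzc : ∀ u ∈ U, u * z = z * u)
    (hZ : ∀ x ∈ U, (∀ y ∈ U, x * y = y * x) → x ∈ zpowers z)
    (r d : G) (hinv : ∀ v ∈ U, v * (r * v * r⁻¹) ∈ zpowers z)
    (hdN : ∀ v ∈ U, d * v * d⁻¹ ∈ U) (hdz : d * z * d⁻¹ = z⁻¹) (hdd : d * d = r) : False := by
  obtain ⟨u, huU, huz⟩ := exists_not_mem_zpowers U hU27 z hz3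
  have hu3 := hexp u huU
  have hc := hinv u huU
  have hw : d * (d * u * d⁻¹) * d⁻¹ = u⁻¹ * (u * (r * u * r⁻¹)) := by
    have : d * (d * u * d⁻¹) * d⁻¹ = (d * d) * u * (d * d)⁻¹ := by group
    rw [this, hdd]; group
  have hcomm := commute_conj_of_sq_inverts U hU27 z hzU hz3 hzc d hdN hdz u huU _ hc hw
  have hvU : d * u * d⁻¹ ∈ U := hdN u huU
  have hvE : d * u * d⁻¹ ∈ (U ⊓ centralizer ({u} : Set G) : Subgroup G) := by
    rw [Subgroup.mem_inf, mem_centralizer_singleton_iff]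
    exact ⟨hvU, hcomm.symm⟩
  obtain ⟨-, hE⟩ := inf_centralizer_data U hU27 hexp z hzU hz3 hzc hZ u huU huz
  obtain ⟨a, b, ha, hb, hab⟩ := hE _ hvE
  have huzc : Commute u z := hzc u huU
  have h2 : d * (d * u * d⁻¹) * d⁻¹ = u ^ (a * a) * (z ^ (b * a) * (z⁻¹) ^ b) := by
    have e1 : d * (u ^ a * z ^ b) * d⁻¹ = (d * u * d⁻¹) ^ a * (d * z * d⁻¹) ^ b := by
      rw [conj_pow, conj_pow]; group
    have e2 : (u ^ a * z ^ b) ^ a = u ^ (a * a) * z ^ (b * a) := by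
      rw [((huzc.pow_left a).pow_right b).mul_pow, ← pow_mul, ← pow_mul]
    nth_rewrite 1 [hab]
    rw [e1, hdz, hab, e2, mul_assoc]
  rw [hw] at h2
  have h3 : u ^ (a * a + 1) ∈ zpowers z := by
    have h4 : u ^ (a * a + 1) = (u * (r * u * r⁻¹)) * (z ^ (b * a) * (z⁻¹) ^ b)⁻¹ := by
      rw [pow_succ']
      have : u * u ^ (a * a) * (z ^ (b * a) * (z⁻¹) ^ b) = u * (r * u * r⁻¹) := by
        rw [mul_assoc, ← h2]; group
      rw [← this]; group
    rw [h4]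
    exact mul_mem hc (inv_mem (mul_mem (pow_mem (mem_zpowers z) _)
      (pow_mem (inv_mem (mem_zpowers z)) _)))
  interval_cases a
  · apply huz
    simpa using h3
  · exact pow_not_mem_zpowers u z hu3 huz 2 (by norm_num) (by norm_num) (by simpa using h3)
  · apply pow_not_mem_zpowers u z hu3 huz 2 (by norm_num) (by norm_num)
    have : u ^ (2 * 2 + 1) = u ^ 3 * u ^ 2 := by rw [← pow_add]
    rw [this, hu3, one_mul] at h3
    exact h3

end Cfsg.Agent.Lib.Helper1.L33Loc
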