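import Mathlib

set_option autoImplicit false

/-! Counting elements of a given order through families of cyclic subgroups. -/

namespace Cfsg.Agent.Lib.Helper1.M11Rec

open Subgroup

variable {G : Type*} [Group G]

/-- In a cyclic group of order `n` there are `φ n` elements of order `n`. -/
theorem card_orderOf_eq_card_of_isCyclic {A : Type*} [Group A] [Finite A] [IsCyclic A] (n : ℕ)
    (hn : Nat.card A = n) : Nat.card {a : A // orderOf a = n} = Nat.totient n := by
  classical
  let _ : Fintype A := Fintype.ofFinite A
  have h := IsCyclic.card_orderOf_eq_totient (α := A) (d := n) (by rw [← Nat.card_eq_fintype_card, hn])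
  rw [← h, Nat.card_eq_fintype_card, Fintype.card_subtype]

/-- If every element of order `n` lies in exactly one member of a family of cyclic subgroups of
order `n`, then the number of elements of order `n` is `φ n` times the size of the family. -/
theorem card_orderOf_eq_of_unique_cover [Finite G] {ι : Type*} [Finite ι]
    (A : ι → Subgroup G) (n : ℕ) (hcyc : ∀ i, IsCyclic (A i)) (hcard : ∀ i, Nat.card (A i) = n)
    (huniq : ∀ g : G, orderOf g = n → ∃! i, g ∈ A i) :
    Nat.card {g : G // orderOf g = n} = Nat.card ι * Nat.totient n := by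
  classical
  let _ : Fintype ι := Fintype.ofFinite ι
  let F : (Σ i, {a : A i // orderOf a = n}) → {g : G // orderOf g = n} :=
    fun x => ⟨x.2.1.1, by rw [Subgroup.orderOf_coe]; exact x.2.2⟩
  have hinj : Function.Injective F := by
    rintro ⟨i, a⟩ ⟨j, b⟩ h
    have hval : (a.1 : G) = (b.1 : G) := congrArg Subtype.val h
    have hgo : orderOf (a.1 : G) = n := by rw [Subgroup.orderOf_coe]; exact a.2
    have hij : i = j := by
      obtain ⟨k, -, hk⟩ := huniq (a.1 : G) hgo
      rw [hk i a.1.2, hk j (hval ▸ b.1.2)]
    subst hij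
    have : a = b := Subtype.ext (Subtype.ext hval)
    rw [this]
  have hsurj : Function.Surjective F := by
    rintro ⟨g, hg⟩
    obtain ⟨i, hi, -⟩ := huniq g hg
    exact ⟨⟨i, ⟨⟨g, hi⟩, by rw [← Subgroup.orderOf_coe]; exact hg⟩⟩, rfl⟩
  rw [← Nat.card_congr (Equiv.ofBijective F ⟨hinj, hsurj⟩), Nat.card_sigma]
  have : ∀ i, Nat.card {a : A i // orderOf a = n} = Nat.totient n := fun i => by
    haveI := hcyc i
    exact card_orderOf_eq_card_of_isCyclic n (hcard i)
  simp_rw [this]
  rw [Finset.sum_const, Finset.card_univ, smul_eq_mul, Nat.card_eq_fintype_card]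

/-- Pairwise distinct cyclic subgroups of order `n` contribute `φ n` elements of order `n` each. -/
theorem card_mul_totient_le_card_orderOf [Finite G] {ι : Type*} [Finite ι]
    (A : ι → Subgroup G) (hA : Function.Injective A) (n : ℕ) (hcyc : ∀ i, IsCyclic (A i))
    (hcard : ∀ i, Nat.card (A i) = n) :
    Nat.card ι * Nat.totient n ≤ Nat.card {g : G // orderOf g = n} := by
  classical
  let _ : Fintype ι := Fintype.ofFinite ι
  let F : (Σ i, {a : A i // orderOf a = n}) → {g : G // orderOf g = n} :=
    fun x => ⟨x.2.1.1, by rw [Subgroup.orderOf_coe]; exact x.2.2⟩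
  have hgen : ∀ i (a : {a : A i // orderOf a = n}), A i = zpowers (a.1 : G) := by
    intro i a
    symm
    apply Subgroup.eq_of_le_of_card_ge (zpowers_le.mpr a.1.2)
    rw [Nat.card_zpowers, Subgroup.orderOf_coe, a.2, hcard i]
  have hinj : Function.Injective F := by
    rintro ⟨i, a⟩ ⟨j, b⟩ h
    have hval : (a.1 : G) = (b.1 : G) := congrArg Subtype.val h
    have hij : i = j := by
      apply hA
      rw [hgen i a, hgen j b, hval]
    subst hij
    have : a = b := Subtype.ext (Subtype.ext hval)
    rw [this]
  have h1 := Nat.card_le_card_of_injective F hinj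
  rw [Nat.card_sigma] at h1
  have : ∀ i, Nat.card {a : A i // orderOf a = n} = Nat.totient n := fun i => by
    haveI := hcyc i
    exact card_orderOf_eq_card_of_isCyclic n (hcard i)
  simp_rw [this] at h1
  rwa [Finset.sum_const, Finset.card_univ, smul_eq_mul, ← Nat.card_eq_fintype_card] at h1

/-- If the Sylow `p`-subgroups have order `p`, the elements of order `p` are counted by the
Sylow `p`-subgroups. -/
theorem card_orderOf_eq_prime [Finite G] (p : ℕ) [hp : Fact p.Prime]
    (hP : ∀ P : Sylow p G, Nat.card (P : Subgroup G) = p) :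
    Nat.card {g : G // orderOf g = p} = Nat.card (Sylow p G) * (p - 1) := by
  rw [← Nat.totient_prime hp.out]
  apply card_orderOf_eq_of_unique_cover (fun P : Sylow p G => (P : Subgroup G)) p
  · intro P
    haveI : Fact (Nat.card (P : Subgroup G)).Prime := ⟨by rw [hP P]; exact hp.out⟩
    exact isCyclic_of_prime_card rfl
  · exact hP
  · intro g hg
    have hpg : IsPGroup p (zpowers g) :=
      IsPGroup.of_card (n := 1) (by rw [Nat.card_zpowers, hg, pow_one])
    obtain ⟨P, hPle⟩ := hpg.exists_le_sylow
    have hzP : zpowers g = (P : Subgroup G) := by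
      apply Subgroup.eq_of_le_of_card_ge hPle
      rw [Nat.card_zpowers, hg, hP P]
    refine ⟨P, hPle (mem_zpowers g), ?_⟩
    intro Q hgQ
    apply Sylow.ext
    have hle : zpowers g ≤ (Q : Subgroup G) := zpowers_le.mpr hgQ
    have hzQ : zpowers g = (Q : Subgroup G) := by
      apply Subgroup.eq_of_le_of_card_ge hle
      rw [Nat.card_zpowers, hg, hP Q]
    rw [← hzQ, hzP]

end Cfsg.Agent.Lib.Helper1.M11Rec
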