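import Mathlib
import Cfsg.Agent.Lib.Helper24.Ord7920E
import Cfsg.Agent.Lib.Helper1.M11RecB

set_option autoImplicit false

/-! Groups of order `7920`: the prime `11`.  If every element of order `11` is self-centralizing
the group is simple (through helper24's disconnected-prime-graph criterion). -/

namespace Cfsg.Agent.Lib.Helper1.M11Rec

open Subgroup

variable {G : Type*} [Group G]

theorem card_sylow_eleven [Finite G] [Fact (Nat.Prime 11)] (hord : Nat.card G = 7920)
    (P : Sylow 11 G) : Nat.card (P : Subgroup G) = 11 := by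
  rw [P.card_eq_multiplicity, hord]
  have e : (7920 : ℕ) = 11 * 720 := by norm_num
  have h0 : (720 : ℕ).factorization 11 = 0 :=
    Nat.factorization_eq_zero_of_not_dvd (by norm_num)
  rw [e, Nat.factorization_mul (by norm_num) (by norm_num), Finsupp.add_apply,
    Nat.Prime.factorization_self (by norm_num), h0]
  norm_num

set_option maxRecDepth 100000 in
theorem arith_sylow_eleven : ∀ n < 721, 720 % n = 0 → n % 11 = 1 →
    n = 1 ∨ n = 12 ∨ n = 45 ∨ n = 144 := by
  decide

theorem card_sylow_eleven_cases [Finite G] [Fact (Nat.Prime 11)] (hord : Nat.card G = 7920) :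
    Nat.card (Sylow 11 G) = 1 ∨ Nat.card (Sylow 11 G) = 12 ∨ Nat.card (Sylow 11 G) = 45 ∨
      Nat.card (Sylow 11 G) = 144 := by
  obtain ⟨Q⟩ : Nonempty (Sylow 11 G) := inferInstance
  have hQc := card_sylow_eleven hord Q
  have hmod : Nat.card (Sylow 11 G) ≡ 1 [MOD 11] := card_sylow_modEq_one 11 G
  have hdvd : Nat.card (Sylow 11 G) ∣ 720 := by
    have h1 := Sylow.card_dvd_index Q
    have h2 := Subgroup.card_mul_index (Q : Subgroup G)
    rw [hQc, hord] at h2
    have h3 : (Q : Subgroup G).index = 720 := by omega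
    rwa [h3] at h1
  have hle : Nat.card (Sylow 11 G) ≤ 720 := Nat.le_of_dvd (by norm_num) hdvd
  exact arith_sylow_eleven _ (by omega) (Nat.mod_eq_zero_of_dvd hdvd) hmod

/-- the number of elements of order `11` in a group of order `7920` -/
theorem card_orderOf_eleven [Finite G] [Fact (Nat.Prime 11)] (hord : Nat.card G = 7920) :
    Nat.card {g : G // orderOf g = 11} = Nat.card (Sylow 11 G) * 10 :=
  card_orderOf_eq_prime 11 (fun P => card_sylow_eleven hord P)

theorem card_orderOf_eleven_le [Finite G] [Fact (Nat.Prime 11)] (hord : Nat.card G = 7920) :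
    Nat.card {g : G // orderOf g = 11} ≤ 1440 := by
  rw [card_orderOf_eleven hord]
  rcases card_sylow_eleven_cases hord with h | h | h | h <;> rw [h] <;> norm_num

/-- an element whose centralizer has order `11` has order `11` -/
theorem orderOf_eq_eleven_of_card_centralizer [Finite G] (x : G)
    (hx : Nat.card (centralizer ({x} : Set G)) = 11) (hG : Nat.card G ≠ 11) : orderOf x = 11 := by
  have hmem : x ∈ centralizer ({x} : Set G) := by
    rw [mem_centralizer_singleton_iff]
  have hdvd : orderOf x ∣ 11 := by
    rw [← hx]; exact Subgroup.orderOf_dvd_natCard _ hmem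
  rcases (Nat.dvd_prime (by norm_num)).mp hdvd with h | h
  · exfalso
    rw [orderOf_eq_one_iff] at h
    subst h
    apply hG
    rw [← hx]
    have : centralizer ({1} : Set G) = ⊤ := by
      ext g
      simp [mem_centralizer_singleton_iff]
    rw [this, Subgroup.card_top]
  · exact h

/-- a group of order `7920` in which the elements of order `11` are self-centralizing is simple -/
theorem isSimpleGroup_of_centralizer_eleven [Finite G] (hord : Nat.card G = 7920)
    (h : ∀ x : G, orderOf x = 11 → Nat.card (centralizer ({x} : Set G)) = 11) :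
    IsSimpleGroup G := by
  apply Cfsg.Agent.Lib.Helper24.Ord7920.isSimpleGroup_of_disconnected hord
  refine ⟨{11}, ⟨11, rfl, by norm_num, by rw [hord]; norm_num⟩,
    ⟨2, by simp, by norm_num, by rw [hord]; norm_num⟩, ?_⟩
  rintro a ha b hb - hbp - - ⟨g, hg⟩
  rw [Set.mem_singleton_iff] at ha hb
  subst ha
  have hb0 : b ≠ 0 := hbp.ne_zero
  have hx : orderOf (g ^ b) = 11 := by
    rw [orderOf_pow_of_dvd hb0 (by rw [hg]; exact dvd_mul_left b 11), hg,
      Nat.mul_div_cancel _ hbp.pos]
  have hmem : g ∈ centralizer ({g ^ b} : Set G) := by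
    rw [mem_centralizer_singleton_iff]
    exact (pow_mul_comm' g b).symm
  have hdvd : orderOf g ∣ 11 := by
    rw [← h _ hx]; exact Subgroup.orderOf_dvd_natCard _ hmem
  rw [hg] at hdvd
  have : b ∣ 1 := by
    have h1 : 11 * b ∣ 11 * 1 := by simpa using hdvd
    exact Nat.dvd_of_mul_dvd_mul_left (by norm_num) h1
  exact hbp.one_lt.ne' (Nat.dvd_one.mp this)

end Cfsg.Agent.Lib.Helper1.M11Rec
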