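import Mathlib
import Cfsg.Agent.Lib.Helper1.M11RecA

set_option autoImplicit false

/-! Groups of order `7920` with the same numbers of elements of each order as `M₁₁` are simple. -/

namespace Cfsg.Agent.Lib.Helper1.M11Rec

open Subgroup

variable {G : Type*} [Group G]

theorem mem_sylow_smul_iff {p : ℕ} [Fact p.Prime] (h : G) (P : Sylow p G) (y : G) :
    y ∈ ((h • P : Sylow p G) : Subgroup G) ↔ h⁻¹ * y * h ∈ (P : Subgroup G) := by
  rw [Sylow.smul_def, Sylow.pointwise_smul_def, Subgroup.mem_pointwise_smul_iff_inv_smul_mem,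
    MulAut.smul_def, ← map_inv, MulAut.conj_apply, inv_inv]

theorem card_centralizer_le_smul [Finite G] {p : ℕ} [Fact p.Prime] (h : G) (P : Sylow p G) :
    Nat.card (centralizer ((P : Subgroup G) : Set G)) ≤
      Nat.card (centralizer (((h • P : Sylow p G) : Subgroup G) : Set G)) := by
  let f : centralizer ((P : Subgroup G) : Set G) →
      centralizer (((h • P : Sylow p G) : Subgroup G) : Set G) := fun k =>
    ⟨h * k.1 * h⁻¹, by
      rw [mem_centralizer_iff]
      intro y hy
      have hy' : h⁻¹ * y * h ∈ (P : Subgroup G) := (mem_sylow_smul_iff h P y).mp hy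
      have hk := (mem_centralizer_iff.mp k.2) _ hy'
      have e1 : y * (h * k.1 * h⁻¹) = h * ((h⁻¹ * y * h) * k.1) * h⁻¹ := by group
      have e2 : h * k.1 * h⁻¹ * y = h * (k.1 * (h⁻¹ * y * h)) * h⁻¹ := by group
      rw [e1, e2, hk]⟩
  apply Nat.card_le_card_of_injective f
  intro a b hab
  have : h * a.1 * h⁻¹ = h * b.1 * h⁻¹ := congrArg Subtype.val hab
  apply Subtype.ext
  simpa using this

/-- conjugate Sylow subgroups have centralizers of the same order -/
theorem card_centralizer_sylow_eq [Finite G] {p : ℕ} [Fact p.Prime] (P Q : Sylow p G) :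
    Nat.card (centralizer ((P : Subgroup G) : Set G)) =
      Nat.card (centralizer ((Q : Subgroup G) : Set G)) := by
  obtain ⟨h, rfl⟩ := MulAction.exists_smul_eq G P Q
  apply le_antisymm (card_centralizer_le_smul h P)
  have := card_centralizer_le_smul h⁻¹ (h • P)
  rwa [inv_smul_smul] at this

theorem centralizer_singleton_eq_zpowers (x : G) :
    centralizer ({x} : Set G) = centralizer ((zpowers x : Subgroup G) : Set G) := by
  apply le_antisymm
  · intro k hk
    rw [mem_centralizer_singleton_iff] at hk
    rw [mem_centralizer_iff]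
    intro y hy
    obtain ⟨i, rfl⟩ := mem_zpowers_iff.mp hy
    have : Commute k x := hk
    exact (this.zpow_right i).eq.symm
  · apply centralizer_le
    intro y hy
    rw [Set.mem_singleton_iff] at hy
    subst hy
    exact mem_zpowers y

/-- an element of order `11` generates a Sylow subgroup -/
theorem exists_sylow_eq_zpowers [Finite G] [Fact (Nat.Prime 11)] (hord : Nat.card G = 7920) (x : G)
    (hx : orderOf x = 11) : ∃ Q : Sylow 11 G, (Q : Subgroup G) = zpowers x := by
  have hpg : IsPGroup 11 (zpowers x) :=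
    IsPGroup.of_card (n := 1) (by rw [Nat.card_zpowers, hx, pow_one])
  obtain ⟨Q, hQle⟩ := hpg.exists_le_sylow
  refine ⟨Q, ?_⟩
  symm
  apply Subgroup.eq_of_le_of_card_ge hQle
  rw [Nat.card_zpowers, hx, card_sylow_eleven hord Q]

theorem sylow_le_centralizer [Finite G] [Fact (Nat.Prime 11)] (hord : Nat.card G = 7920)
    (Q : Sylow 11 G) : (Q : Subgroup G) ≤ centralizer ((Q : Subgroup G) : Set G) := by
  haveI : Fact (Nat.card (Q : Subgroup G)).Prime := ⟨by rw [card_sylow_eleven hord Q]; norm_num⟩
  haveI : IsCyclic (Q : Subgroup G) := isCyclic_of_prime_card rfl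
  intro a ha
  rw [mem_centralizer_iff]
  intro b hb
  have hc : IsMulCommutative (Q : Subgroup G) := IsCyclic.isMulCommutative
  have := hc.is_comm.comm (⟨b, hb⟩ : (Q : Subgroup G)) ⟨a, ha⟩
  exact congrArg Subtype.val this

/-- the centralizer of a Sylow `11`-subgroup of order `55` is cyclic -/
theorem isCyclic_centralizer_of_card [Finite G] [Fact (Nat.Prime 11)] [Fact (Nat.Prime 5)]
    (hord : Nat.card G = 7920) (Q : Sylow 11 G)
    (hC : Nat.card (centralizer ((Q : Subgroup G) : Set G)) = 55) :
    IsCyclic (centralizer ((Q : Subgroup G) : Set G)) := by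
  set C := centralizer ((Q : Subgroup G) : Set G) with hCdef
  have hQc := card_sylow_eleven hord Q
  have hQC : (Q : Subgroup G) ≤ C := sylow_le_centralizer hord Q
  obtain ⟨x, hx⟩ := exists_prime_orderOf_dvd_card' (G := (Q : Subgroup G)) 11 (by rw [hQc])
  obtain ⟨y, hy⟩ := exists_prime_orderOf_dvd_card' (G := C) 5 (by rw [hC]; norm_num)
  let xc : C := ⟨x.1, hQC x.2⟩
  have hxc : orderOf xc = 11 := by
    rw [← Subgroup.orderOf_coe, ← hx, ← Subgroup.orderOf_coe]
  have hcomm : Commute xc y := by
    apply Subtype.ext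
    show x.1 * y.1 = y.1 * x.1
    exact (mem_centralizer_iff.mp y.2) x.1 x.2
  have hord55 : orderOf (xc * y) = 55 := by
    rw [hcomm.orderOf_mul_eq_mul_orderOf_of_coprime (by rw [hxc, hy]; norm_num), hxc, hy]
  exact isCyclic_of_orderOf_eq_card (xc * y) (by rw [hord55, hC])

theorem isSimpleGroup_of_nse [Finite G] (hord : Nat.card G = 7920)
    (hnse : ∀ n : ℕ, 0 < Nat.card {g : G // orderOf g = n} →
      Nat.card {g : G // orderOf g = n} ∈ ({1, 165, 440, 990, 1584, 1320, 1980, 1440} : Set ℕ)) :
    IsSimpleGroup G := by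
  haveI : Fact (Nat.Prime 11) := ⟨by norm_num⟩
  haveI : Fact (Nat.Prime 5) := ⟨by norm_num⟩
  have h11 := card_orderOf_eleven hord
  have hn : Nat.card (Sylow 11 G) = 144 := by
    have hpos : 0 < Nat.card {g : G // orderOf g = 11} := by
      rw [h11]
      have : 0 < Nat.card (Sylow 11 G) := Nat.card_pos
      omega
    have hm := hnse 11 hpos
    rw [h11] at hm
    simp only [Set.mem_insert_iff, Set.mem_singleton_iff] at hm
    rcases card_sylow_eleven_cases hord with h | h | h | h <;> rw [h] at hm <;> omega
  have hN : ∀ Q : Sylow 11 G, Nat.card (normalizer ((Q : Subgroup G) : Set G)) = 55 := by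
    intro Q
    have h1 : Nat.card (Sylow 11 G) = (normalizer ((Q : Subgroup G) : Set G)).index :=
      Sylow.card_eq_index_normalizer Q
    have h2 := Subgroup.card_mul_index (normalizer ((Q : Subgroup G) : Set G))
    rw [← h1, hn, hord] at h2
    omega
  have hC : ∀ Q : Sylow 11 G, Nat.card (centralizer ((Q : Subgroup G) : Set G)) = 11 ∨
      Nat.card (centralizer ((Q : Subgroup G) : Set G)) = 55 := by
    intro Q
    have h1 : 11 ∣ Nat.card (centralizer ((Q : Subgroup G) : Set G)) := by
      have := Subgroup.card_dvd_of_le (sylow_le_centralizer hord Q)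
      rwa [card_sylow_eleven hord Q] at this
    have h2 : Nat.card (centralizer ((Q : Subgroup G) : Set G)) ∣ 55 := by
      rw [← hN Q]
      exact Subgroup.card_dvd_of_le (centralizer_le_normalizer _)
    obtain ⟨k, hk⟩ := h1
    rw [hk] at h2 ⊢
    have hk5 : k ∣ 5 := Nat.dvd_of_mul_dvd_mul_left (by norm_num : 0 < 11) (by simpa using h2)
    rcases (Nat.dvd_prime (by norm_num)).mp hk5 with rfl | rfl
    · left; rfl
    · right; rfl
  by_cases hex : ∃ Q0 : Sylow 11 G, Nat.card (centralizer ((Q0 : Subgroup G) : Set G)) = 55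
  · exfalso
    obtain ⟨Q0, hQ0⟩ := hex
    have hall : ∀ Q : Sylow 11 G, Nat.card (centralizer ((Q : Subgroup G) : Set G)) = 55 :=
      fun Q => (card_centralizer_sylow_eq Q Q0).trans hQ0
    have hCN : ∀ Q : Sylow 11 G, centralizer ((Q : Subgroup G) : Set G) =
        normalizer ((Q : Subgroup G) : Set G) := by
      intro Q
      apply Subgroup.eq_of_le_of_card_ge (centralizer_le_normalizer _)
      rw [hall Q, hN Q]
    have hinj : Function.Injective
        (fun Q : Sylow 11 G => centralizer ((Q : Subgroup G) : Set G)) := by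
      intro Q Q' hQQ
      simp only at hQQ
      have hle : (Q' : Subgroup G) ≤ normalizer ((Q : Subgroup G) : Set G) := by
        rw [← hCN Q, hQQ]
        exact sylow_le_centralizer hord Q'
      have hp : IsPGroup 11 ↥((Q' : Subgroup G) ⊔ (Q : Subgroup G)) :=
        IsPGroup.to_sup_of_normal_right' Q'.2 Q.2 hle
      have e1 : (Q' : Subgroup G) ⊔ (Q : Subgroup G) = (Q : Subgroup G) :=
        Q.3 hp le_sup_right
      have e2 : (Q' : Subgroup G) ⊔ (Q : Subgroup G) = (Q' : Subgroup G) :=
        Q'.3 hp le_sup_left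
      apply Sylow.ext
      rw [← e1, e2]
    have hle := card_mul_totient_le_card_orderOf
      (fun Q : Sylow 11 G => centralizer ((Q : Subgroup G) : Set G)) hinj 55
      (fun Q => isCyclic_centralizer_of_card hord Q (hall Q)) hall
    have htot : Nat.totient 55 = 40 := by
      have : (55 : ℕ) = 5 * 11 := by norm_num
      rw [this, Nat.totient_mul (by norm_num), Nat.totient_prime (by norm_num),
        Nat.totient_prime (by norm_num)]
    rw [hn, htot] at hle
    have hpos : 0 < Nat.card {g : G // orderOf g = 55} := by omega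
    have hm := hnse 55 hpos
    simp only [Set.mem_insert_iff, Set.mem_singleton_iff] at hm
    omega
  · rw [not_exists] at hex
    apply isSimpleGroup_of_centralizer_eleven hord
    intro x hx
    obtain ⟨Q, hQ⟩ := exists_sylow_eq_zpowers hord x hx
    rw [centralizer_singleton_eq_zpowers, ← hQ]
    rcases hC Q with h | h
    · exact h
    · exact absurd h (hex Q)

end Cfsg.Agent.Lib.Helper1.M11Rec
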