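import Mathlib
import Cfsg.Agent.Lib.Helper24.Ord7920F
import Cfsg.Agent.Lib.Helper1.M11RecC

set_option autoImplicit false

/-! A group with the commuting graph of a simple group of order `7920` is simple of order `7920`. -/

namespace Cfsg.Agent.Lib.Helper1.M11Rec

open Subgroup

theorem card_ne_one_add_one (K : Type*) [Group K] [Finite K] :
    Nat.card {k : K // k ≠ 1} + 1 = Nat.card K := by
  classical
  have h := Nat.card_congr (Equiv.optionSubtypeNe (1 : K))
  rw [Finite.card_option] at h
  exact h

theorem card_centralizer_add {K : Type*} [Group K] [Finite K] (x : K) :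
    Nat.card (centralizer ({x} : Set K)) +
      Nat.card {y : {k : K // k ≠ 1} // ¬ (x * y.1 = y.1 * x)} = Nat.card K := by
  classical
  let _ : Fintype K := Fintype.ofFinite K
  have e : {y : {k : K // k ≠ 1} // ¬ (x * y.1 = y.1 * x)} ≃
      {k : K // ¬ (k ∈ centralizer ({x} : Set K))} :=
    { toFun := fun y => ⟨y.1.1, by
        rw [mem_centralizer_singleton_iff]
        exact fun h => y.2 h.symm⟩
      invFun := fun k => ⟨⟨k.1, by
        rintro h
        apply k.2
        rw [h]
        exact one_mem _⟩, by
        have := k.2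
        rw [mem_centralizer_singleton_iff] at this
        exact fun h => this h.symm⟩
      left_inv := fun y => rfl
      right_inv := fun k => rfl }
  rw [Nat.card_congr e]
  have h1 : Nat.card (centralizer ({x} : Set K)) =
      Fintype.card {k : K // k ∈ centralizer ({x} : Set K)} := Nat.card_eq_fintype_card
  rw [h1, Nat.card_eq_fintype_card, Nat.card_eq_fintype_card, Fintype.card_subtype_compl]
  have := Fintype.card_subtype_le (fun k : K => k ∈ centralizer ({x} : Set K))
  omega

theorem centralizer_one_eq_top {K : Type*} [Group K] : centralizer ({1} : Set K) = ⊤ := by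
  ext g
  simp [mem_centralizer_singleton_iff]

theorem ne_one_of_card_centralizer {K : Type*} [Group K] [Finite K] (hK : Nat.card K = 7920) (k : K)
    (hk : Nat.card (centralizer ({k} : Set K)) = 11) : k ≠ 1 := by
  intro h1
  subst h1
  rw [centralizer_one_eq_top, Subgroup.card_top, hK] at hk
  norm_num at hk

theorem isSimpleGroup_of_commuting {H M : Type*} [Group H] [Finite H] [Group M] [Finite M]
    [IsSimpleGroup M] (hM : Nat.card M = 7920)
    (f : {h : H // h ≠ 1} ≃ {g : M // g ≠ 1})
    (hf : ∀ x y : {h : H // h ≠ 1},
      (x : H) * y = y * x ↔ ((f x) : M) * (f y) = (f y) * (f x)) :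
    Nat.card H = 7920 ∧ IsSimpleGroup H := by
  classical
  haveI : Fact (Nat.Prime 11) := ⟨by norm_num⟩
  have hHM : Nat.card H = Nat.card M := by
    rw [← card_ne_one_add_one H, ← card_ne_one_add_one M, Nat.card_congr f]
  have hH : Nat.card H = 7920 := hHM.trans hM
  refine ⟨hH, ?_⟩
  -- centralizer orders are preserved
  have hcent : ∀ x : {h : H // h ≠ 1}, Nat.card (centralizer ({x.1} : Set H)) =
      Nat.card (centralizer ({(f x).1} : Set M)) := by
    intro x
    have h1 := card_centralizer_add x.1
    have h2 := card_centralizer_add (f x).1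
    have e : {y : {h : H // h ≠ 1} // ¬ (x.1 * y.1 = y.1 * x.1)} ≃
        {z : {g : M // g ≠ 1} // ¬ ((f x).1 * z.1 = z.1 * (f x).1)} :=
      f.subtypeEquiv (fun y => not_congr (hf x y))
    rw [Nat.card_congr e] at h1
    omega
  -- the simple group
  have hMcent : ∀ m : M, orderOf m = 11 → Nat.card (centralizer ({m} : Set M)) = 11 := by
    intro m hm
    obtain ⟨Q, hQ⟩ := exists_sylow_eq_zpowers hM m hm
    rw [centralizer_singleton_eq_zpowers, ← hQ,
      Cfsg.Agent.Lib.Helper24.Ord7920.centralizer_sylow11_of_simple hM Q]
    exact card_sylow_eleven hM Q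
  have hMcount : Nat.card {m : M // orderOf m = 11} = 1440 := by
    rw [card_orderOf_eleven hM, Cfsg.Agent.Lib.Helper24.Ord7920.card_sylow11_of_simple hM]
  -- elements with centralizer of order 11
  have e : {x : H // Nat.card (centralizer ({x} : Set H)) = 11} ≃
      {m : M // Nat.card (centralizer ({m} : Set M)) = 11} :=
    { toFun := fun x => ⟨(f ⟨x.1, ne_one_of_card_centralizer hH x.1 x.2⟩).1, by
        rw [← hcent ⟨x.1, ne_one_of_card_centralizer hH x.1 x.2⟩]; exact x.2⟩
      invFun := fun m => ⟨(f.symm ⟨m.1, ne_one_of_card_centralizer hM m.1 m.2⟩).1, by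
        have := hcent (f.symm ⟨m.1, ne_one_of_card_centralizer hM m.1 m.2⟩)
        rw [Equiv.apply_symm_apply] at this
        rw [this]; exact m.2⟩
      left_inv := fun x => by simp
      right_inv := fun m => by simp }
  have h1 : Nat.card {m : M // orderOf m = 11} ≤
      Nat.card {m : M // Nat.card (centralizer ({m} : Set M)) = 11} :=
    Nat.card_le_card_of_injective (fun m => ⟨m.1, hMcent m.1 m.2⟩)
      (fun a b hab => Subtype.ext (by have := congrArg Subtype.val hab; exact this))
  let ι : {x : H // Nat.card (centralizer ({x} : Set H)) = 11} → {x : H // orderOf x = 11} :=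
    fun x => ⟨x.1, orderOf_eq_eleven_of_card_centralizer x.1 x.2 (by rw [hH]; norm_num)⟩
  have hιinj : Function.Injective ι := fun a b hab =>
    Subtype.ext (by have := congrArg Subtype.val hab; exact this)
  have h2 := card_orderOf_eleven_le hH
  have h3 : Nat.card {x : H // orderOf x = 11} ≤
      Nat.card {x : H // Nat.card (centralizer ({x} : Set H)) = 11} := by
    rw [Nat.card_congr e]
    omega
  have hιsurj : Function.Surjective ι := by
    have hbij : Function.Bijective ι := by
      rw [Nat.bijective_iff_injective_and_card]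
      exact ⟨hιinj, le_antisymm (Nat.card_le_card_of_injective ι hιinj) h3⟩
    exact hbij.2
  apply isSimpleGroup_of_centralizer_eleven hH
  intro x hx
  obtain ⟨y, hy⟩ := hιsurj ⟨x, hx⟩
  have : y.1 = x := congrArg Subtype.val hy
  rw [← this]
  exact y.2

end Cfsg.Agent.Lib.Helper1.M11Rec
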