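import Mathlib
import Cfsg.Agent.Lib.Helper1.M11RecD

set_option autoImplicit false

/-! Commuting-graph bijections preserve the orders of centralizers; self-centralizing elements of
prime order are transported when their number is bounded. -/

namespace Cfsg.Agent.Lib.Helper1.L33Rec

open Subgroup Cfsg.Agent.Lib.Helper1.M11Rec

variable {H M : Type*} [Group H] [Finite H] [Group M] [Finite M]

theorem card_eq_of_commuting (f : {h : H // h ≠ 1} ≃ {g : M // g ≠ 1}) :
    Nat.card H = Nat.card M := by
  rw [← card_ne_one_add_one H, ← card_ne_one_add_one M, Nat.card_congr f]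

theorem card_centralizer_eq_of_commuting (f : {h : H // h ≠ 1} ≃ {g : M // g ≠ 1})
    (hf : ∀ x y : {h : H // h ≠ 1},
      (x : H) * y = y * x ↔ ((f x) : M) * (f y) = (f y) * (f x)) (x : {h : H // h ≠ 1}) :
    Nat.card (centralizer ({x.1} : Set H)) = Nat.card (centralizer ({(f x).1} : Set M)) := by
  have hHM := card_eq_of_commuting f
  have h1 := card_centralizer_add x.1
  have h2 := card_centralizer_add (f x).1
  have e : {y : {h : H // h ≠ 1} // ¬ (x.1 * y.1 = y.1 * x.1)} ≃
      {z : {g : M // g ≠ 1} // ¬ ((f x).1 * z.1 = z.1 * (f x).1)} :=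
    f.subtypeEquiv (fun y => not_congr (hf x y))
  rw [Nat.card_congr e] at h1
  omega

/-- an element whose centralizer has prime order `p` (in a group of order `≠ p`) has order `p` -/
theorem orderOf_eq_of_card_centralizer {K : Type*} [Group K] [Finite K] {p : ℕ} (hp : p.Prime)
    (x : K) (hx : Nat.card (centralizer ({x} : Set K)) = p) (hK : Nat.card K ≠ p) :
    orderOf x = p := by
  have hmem : x ∈ centralizer ({x} : Set K) := by
    rw [mem_centralizer_singleton_iff]
  have hdvd : orderOf x ∣ p := by
    rw [← hx]; exact Subgroup.orderOf_dvd_natCard _ hmem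
  rcases (Nat.dvd_prime hp).mp hdvd with h | h
  · exfalso
    rw [orderOf_eq_one_iff] at h
    subst h
    apply hK
    rw [← hx, centralizer_one_eq_top, Subgroup.card_top]
  · exact h

theorem ne_one_of_card_centralizer_eq {K : Type*} [Group K] [Finite K] {p : ℕ}
    (hK : Nat.card K ≠ p) (k : K) (hk : Nat.card (centralizer ({k} : Set K)) = p) : k ≠ 1 := by
  intro h1
  subst h1
  rw [centralizer_one_eq_top, Subgroup.card_top] at hk
  exact hK hk

/-- If the elements of prime order `p` of `M` are self-centralizing and `H` has at most as many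
elements of order `p` as `M`, then the elements of order `p` of `H` are self-centralizing. -/
theorem self_centralizing_of_commuting (f : {h : H // h ≠ 1} ≃ {g : M // g ≠ 1})
    (hf : ∀ x y : {h : H // h ≠ 1},
      (x : H) * y = y * x ↔ ((f x) : M) * (f y) = (f y) * (f x))
    {p : ℕ} (hp : p.Prime) (hMp : Nat.card M ≠ p)
    (hMcent : ∀ m : M, orderOf m = p → Nat.card (centralizer ({m} : Set M)) = p)
    (hcount : Nat.card {x : H // orderOf x = p} ≤ Nat.card {m : M // orderOf m = p}) :
    ∀ x : H, orderOf x = p → Nat.card (centralizer ({x} : Set H)) = p := by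
  classical
  have hHp : Nat.card H ≠ p := by rw [card_eq_of_commuting f]; exact hMp
  have hcent := card_centralizer_eq_of_commuting f hf
  have e : {x : H // Nat.card (centralizer ({x} : Set H)) = p} ≃
      {m : M // Nat.card (centralizer ({m} : Set M)) = p} :=
    { toFun := fun x => ⟨(f ⟨x.1, ne_one_of_card_centralizer_eq hHp x.1 x.2⟩).1, by
        rw [← hcent ⟨x.1, ne_one_of_card_centralizer_eq hHp x.1 x.2⟩]; exact x.2⟩
      invFun := fun m => ⟨(f.symm ⟨m.1, ne_one_of_card_centralizer_eq hMp m.1 m.2⟩).1, by
        have := hcent (f.symm ⟨m.1, ne_one_of_card_centralizer_eq hMp m.1 m.2⟩)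
        rw [Equiv.apply_symm_apply] at this
        rw [this]; exact m.2⟩
      left_inv := fun x => by simp
      right_inv := fun m => by simp }
  have h1 : Nat.card {m : M // orderOf m = p} ≤
      Nat.card {m : M // Nat.card (centralizer ({m} : Set M)) = p} :=
    Nat.card_le_card_of_injective (fun m => ⟨m.1, hMcent m.1 m.2⟩)
      (fun a b hab => Subtype.ext (by have := congrArg Subtype.val hab; exact this))
  let ι : {x : H // Nat.card (centralizer ({x} : Set H)) = p} → {x : H // orderOf x = p} :=
    fun x => ⟨x.1, orderOf_eq_of_card_centralizer hp x.1 x.2 hHp⟩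
  have hιinj : Function.Injective ι := fun a b hab =>
    Subtype.ext (by have := congrArg Subtype.val hab; exact this)
  have h3 : Nat.card {x : H // orderOf x = p} ≤
      Nat.card {x : H // Nat.card (centralizer ({x} : Set H)) = p} := by
    rw [Nat.card_congr e]
    omega
  have hιsurj : Function.Surjective ι := by
    have hbij : Function.Bijective ι := by
      rw [Nat.bijective_iff_injective_and_card]
      exact ⟨hιinj, le_antisymm (Nat.card_le_card_of_injective ι hιinj) h3⟩
    exact hbij.2
  intro x hx
  obtain ⟨y, hy⟩ := hιsurj ⟨x, hx⟩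
  have : y.1 = x := congrArg Subtype.val hy
  rw [← this]
  exact y.2

end Cfsg.Agent.Lib.Helper1.L33Rec
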