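import Mathlib
import Cfsg.Agent.Lib.Helper24.Ord7920A
import Cfsg.Agent.Lib.Helper14.CharSub
import Cfsg.Agent.Lib.Helper1.M11RecC

set_option autoImplicit false

/-! Groups of order `5616 = 2^4 * 3^3 * 13` in which the elements of order `13` are
self-centralizing are simple. -/

namespace Cfsg.Agent.Lib.Helper1.L33Rec

open Subgroup Cfsg.Agent.Lib.Helper1.M11Rec Cfsg.Agent.Lib.Helper24.Ord7920

variable {G : Type*} [Group G]

theorem card_sylow_thirteen [Finite G] [Fact (Nat.Prime 13)] (hord : Nat.card G = 5616)
    (P : Sylow 13 G) : Nat.card (P : Subgroup G) = 13 := by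
  rw [P.card_eq_multiplicity, hord]
  have e : (5616 : ℕ) = 13 * 432 := by norm_num
  have h0 : (432 : ℕ).factorization 13 = 0 :=
    Nat.factorization_eq_zero_of_not_dvd (by norm_num)
  rw [e, Nat.factorization_mul (by norm_num) (by norm_num), Finsupp.add_apply,
    Nat.Prime.factorization_self (by norm_num), h0]
  norm_num

set_option maxRecDepth 100000 in
theorem arith_sylow_thirteen : ∀ n < 433, 432 % n = 0 → n % 13 = 1 →
    n = 1 ∨ n = 27 ∨ n = 144 := by
  decide

theorem card_sylow_thirteen_cases [Finite G] [Fact (Nat.Prime 13)] (hord : Nat.card G = 5616) :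
    Nat.card (Sylow 13 G) = 1 ∨ Nat.card (Sylow 13 G) = 27 ∨ Nat.card (Sylow 13 G) = 144 := by
  obtain ⟨Q⟩ : Nonempty (Sylow 13 G) := inferInstance
  have hQc := card_sylow_thirteen hord Q
  have hmod : Nat.card (Sylow 13 G) ≡ 1 [MOD 13] := card_sylow_modEq_one 13 G
  have hdvd : Nat.card (Sylow 13 G) ∣ 432 := by
    have h1 := Sylow.card_dvd_index Q
    have h2 := Subgroup.card_mul_index (Q : Subgroup G)
    rw [hQc, hord] at h2
    have h3 : (Q : Subgroup G).index = 432 := by omega
    rwa [h3] at h1
  have hle : Nat.card (Sylow 13 G) ≤ 432 := Nat.le_of_dvd (by norm_num) hdvd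
  exact arith_sylow_thirteen _ (by omega) (Nat.mod_eq_zero_of_dvd hdvd) hmod

/-- the number of elements of order `13` in a group of order `5616` -/
theorem card_orderOf_thirteen [Finite G] [Fact (Nat.Prime 13)] (hord : Nat.card G = 5616) :
    Nat.card {g : G // orderOf g = 13} = Nat.card (Sylow 13 G) * 12 :=
  card_orderOf_eq_prime 13 (fun P => card_sylow_thirteen hord P)

theorem card_orderOf_thirteen_le [Finite G] [Fact (Nat.Prime 13)] (hord : Nat.card G = 5616) :
    Nat.card {g : G // orderOf g = 13} ≤ 1728 := by
  rw [card_orderOf_thirteen hord]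
  rcases card_sylow_thirteen_cases hord with h | h | h <;> rw [h] <;> norm_num

/-- `13` is isolated -/
theorem not_E_thirteen [Finite G]
    (hiso : ∀ x : G, orderOf x = 13 → Nat.card (centralizer ({x} : Set G)) = 13)
    {r : ℕ} (hr : r.Prime) : ¬ E G 13 r := by
  rintro ⟨g, hg⟩
  have hb0 : r ≠ 0 := hr.ne_zero
  have hx : orderOf (g ^ r) = 13 := by
    rw [orderOf_pow_of_dvd hb0 (by rw [hg]; exact dvd_mul_left r 13), hg,
      Nat.mul_div_cancel _ hr.pos]
  have hmem : g ∈ centralizer ({g ^ r} : Set G) := by
    rw [mem_centralizer_singleton_iff]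
    exact (pow_mul_comm' g r).symm
  have hdvd : orderOf g ∣ 13 := by
    rw [← hiso _ hx]; exact Subgroup.orderOf_dvd_natCard _ hmem
  rw [hg] at hdvd
  have : r ∣ 1 := by
    have h1 : 13 * r ∣ 13 * 1 := by simpa using hdvd
    exact Nat.dvd_of_mul_dvd_mul_left (by norm_num) h1
  exact hr.one_lt.ne' (Nat.dvd_one.mp this)

theorem exists_sylow_eq_zpowers_thirteen [Finite G] [Fact (Nat.Prime 13)]
    (hord : Nat.card G = 5616) (x : G) (hx : orderOf x = 13) :
    ∃ Q : Sylow 13 G, (Q : Subgroup G) = zpowers x := by
  have hpg : IsPGroup 13 (zpowers x) :=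
    IsPGroup.of_card (n := 1) (by rw [Nat.card_zpowers, hx, pow_one])
  obtain ⟨Q, hQle⟩ := hpg.exists_le_sylow
  refine ⟨Q, ?_⟩
  symm
  apply Subgroup.eq_of_le_of_card_ge hQle
  rw [Nat.card_zpowers, hx, card_sylow_thirteen hord Q]

theorem card_centralizer_sylow_thirteen [Finite G] [Fact (Nat.Prime 13)]
    (hord : Nat.card G = 5616)
    (hiso : ∀ x : G, orderOf x = 13 → Nat.card (centralizer ({x} : Set G)) = 13)
    (P : Sylow 13 G) : Nat.card (centralizer ((P : Subgroup G) : Set G)) = 13 := by
  have hPc := card_sylow_thirteen hord P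
  obtain ⟨x, hx⟩ := exists_prime_orderOf_dvd_card' (G := (P : Subgroup G)) 13 (by rw [hPc])
  have hx' : orderOf (x : G) = 13 := by rw [Subgroup.orderOf_coe]; exact hx
  have hz : zpowers (x : G) = (P : Subgroup G) := by
    apply Subgroup.eq_of_le_of_card_ge (zpowers_le.mpr x.2)
    rw [Nat.card_zpowers, hx', hPc]
  rw [← hz, ← centralizer_singleton_eq_zpowers]
  exact hiso _ hx'

theorem card_normalizer_sylow_thirteen [Finite G] [Fact (Nat.Prime 13)]
    (hord : Nat.card G = 5616)
    (hiso : ∀ x : G, orderOf x = 13 → Nat.card (centralizer ({x} : Set G)) = 13)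
    (P : Sylow 13 G) : Nat.card (normalizer ((P : Subgroup G) : Set G)) = 39 := by
  have hPc := card_sylow_thirteen hord P
  have hC := card_centralizer_sylow_thirteen hord hiso P
  haveI : Fact (Nat.card (P : Subgroup G)).Prime := ⟨by rw [hPc]; norm_num⟩
  have hcyc : IsCyclic (P : Subgroup G) := isCyclic_of_prime_card rfl
  have key := card_dvd_of_injective _
    (QuotientGroup.kerLift_injective (P : Subgroup G).normalizerMonoidHom)
  rw [normalizerMonoidHom_ker, ← index, ← relIndex, hcyc.card_mulAut, hPc,
    Nat.totient_prime (by norm_num)] at key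
  have h1 := relIndex_mul_index (centralizer_le_normalizer ((P : Subgroup G) : Set G))
  have h2 := Subgroup.card_mul_index (centralizer ((P : Subgroup G) : Set G))
  have h3 := Subgroup.card_mul_index (normalizer ((P : Subgroup G) : Set G))
  have h4 : Nat.card (Sylow 13 G) = (normalizer ((P : Subgroup G) : Set G)).index :=
    Sylow.card_eq_index_normalizer P
  rw [hC, hord] at h2
  rw [hord] at h3
  have hCi : (centralizer ((P : Subgroup G) : Set G)).index = 432 := by omega
  rw [hCi, ← h4] at h1
  rw [← h4] at h3
  rcases card_sylow_thirteen_cases hord with h | h | h <;> rw [h] at h1 h3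
  · exfalso
    have : (centralizer ((P : Subgroup G) : Set G)).relIndex
        (normalizer ((P : Subgroup G) : Set G)) = 432 := by omega
    rw [this] at key
    norm_num at key
  · exfalso
    have : (centralizer ((P : Subgroup G) : Set G)).relIndex
        (normalizer ((P : Subgroup G) : Set G)) = 16 := by omega
    rw [this] at key
    norm_num at key
  · omega

/-- Frattini: a normal subgroup of order divisible by `13` has index dividing `39` -/
theorem index_dvd_of_normal [Finite G] [Fact (Nat.Prime 13)] (hord : Nat.card G = 5616)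
    (hiso : ∀ x : G, orderOf x = 13 → Nat.card (centralizer ({x} : Set G)) = 13)
    (K : Subgroup G) [K.Normal] (h13 : 13 ∣ Nat.card K) : K.index ∣ 39 := by
  obtain ⟨R⟩ : Nonempty (Sylow 13 K) := inferInstance
  have hF := Sylow.normalizer_sup_eq_top R
  set Q' := ((R : Subgroup K).map K.subtype : Subgroup G) with hQ'
  set NR := normalizer (Q' : Set G) with hNR
  have h1 : K.relIndex NR = K.index := by
    have := Subgroup.relIndex_sup_right NR K
    rw [hF, Subgroup.relIndex_top_right] at this
    exact this.symm
  have hRne : (R : Subgroup K) ≠ ⊥ := Sylow.ne_bot_of_dvd_card R h13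
  have hQp : IsPGroup 13 Q' := R.2.map K.subtype
  obtain ⟨P, hP⟩ := hQp.exists_le_sylow
  have hPc := card_sylow_thirteen hord P
  have hQne : Q' ≠ ⊥ := by
    intro h
    apply hRne
    rw [hQ'] at h
    exact (Subgroup.map_eq_bot_iff_of_injective _ K.subtype_injective).mp h
  have hQP : Q' = (P : Subgroup G) := by
    apply Subgroup.eq_of_le_of_card_ge hP
    rw [hPc]
    have h1 : Nat.card Q' ∣ 13 := by rw [← hPc]; exact Subgroup.card_dvd_of_le hP
    rcases (Nat.dvd_prime (by norm_num)).mp h1 with h | h
    · exact absurd (Subgroup.card_eq_one.mp h) hQne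
    · rw [h]
  have hN : Nat.card NR = 39 := by
    rw [hNR, hQP]
    exact card_normalizer_sylow_thirteen hord hiso P
  rw [← h1, ← hN]
  exact Subgroup.relIndex_dvd_card K NR

theorem pow_two_dvd_5616 {m : ℕ} (h : 2 ^ m ∣ 5616) : m ≤ 4 := by
  by_contra hlt
  have h1 : 2 ^ 5 ∣ 2 ^ m := pow_dvd_pow 2 (by omega)
  have := h1.trans h
  norm_num at this

theorem pow_three_dvd_5616 {m : ℕ} (h : 3 ^ m ∣ 5616) : m ≤ 3 := by
  by_contra hlt
  have h1 : 3 ^ 4 ∣ 3 ^ m := pow_dvd_pow 3 (by omega)
  have := h1.trans h
  norm_num at this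

set_option maxRecDepth 100000 in
theorem arith_div_sixteen : ∀ n < 17, 16 % n = 0 → n % 13 = 1 → n = 1 := by
  decide

set_option maxRecDepth 100000 in
theorem arith_div_144 : ∀ d < 145, 144 % d = 0 → d % 13 = 1 → d = 1 ∨ d = 144 := by
  decide

theorem no_proper_normal [Finite G] (hord : Nat.card G = 5616)
    (hiso : ∀ x : G, orderOf x = 13 → Nat.card (centralizer ({x} : Set G)) = 13) :
    ∀ n : ℕ, ∀ N : Subgroup G, N.Normal → Nat.card N = n → N ≠ ⊥ → N ≠ ⊤ → False := by
  haveI : Fact (Nat.Prime 13) := ⟨by norm_num⟩
  haveI : Fact (Nat.Prime 3) := ⟨by norm_num⟩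
  haveI : Fact (Nat.Prime 2) := ⟨by norm_num⟩
  intro n
  induction n using Nat.strong_induction_on with
  | _ n ih =>
  intro N hNn hn hbot htop
  haveI := hNn
  have hmul := Subgroup.card_mul_index N
  rw [hord, hn] at hmul
  have hidx1 : N.index ≠ 1 := fun h => htop (Subgroup.index_eq_one.mp h)
  have hn1 : n ≠ 1 := fun h => hbot (Subgroup.card_eq_one.mp (hn.trans h))
  by_cases h13 : 13 ∣ n
  · -- `13 ∣ |N|`
    have hi39 : N.index ∣ 39 := index_dvd_of_normal hord hiso N (by rw [hn]; exact h13)
    obtain ⟨m, rfl⟩ := h13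
    have hm : m * N.index = 432 := by
      have : 13 * (m * N.index) = 13 * 432 := by rw [← mul_assoc, hmul]
      omega
    have hi432 : N.index ∣ 432 := ⟨m, by rw [← hm, mul_comm]⟩
    have hi3 : N.index ∣ 3 := by
      have := Nat.dvd_gcd hi39 hi432
      norm_num at this
      exact this
    have hi : N.index = 3 := by
      rcases (Nat.dvd_prime (by norm_num)).mp hi3 with h | h
      · exact absurd h hidx1
      · exact h
    rw [hi] at hm
    have hm144 : m = 144 := by omega
    subst hm144
    obtain ⟨K, hKc, hKbot, hKtop⟩ :=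
      Cfsg.Agent.Lib.Helper14.CharSub.exists_char_of_card (N := N) 13 1 144
        (by rw [hn, pow_one]) ⟨le_rfl, by norm_num⟩ (by norm_num) (by norm_num)
        (fun d hd hd13 => arith_div_144 d
          (Nat.lt_succ_of_le (Nat.le_of_dvd (by norm_num) hd)) (Nat.mod_eq_zero_of_dvd hd) hd13)
    haveI := hKc
    have hKn : (K.map N.subtype).Normal := ConjAct.normal_of_characteristic_of_normal
    have hKcard : Nat.card (K.map N.subtype) = Nat.card K := Subgroup.card_subtype N K
    have hKlt : Nat.card K < 13 * 144 := by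
      rw [← hn]
      have h1 := Subgroup.card_mul_index K
      have h2 : K.index ≠ 1 := fun h => hKtop (Subgroup.index_eq_one.mp h)
      have h3 : K.index ≠ 0 := Subgroup.index_ne_zero_of_finite
      have h4 : 0 < Nat.card K := Nat.card_pos
      nlinarith [Nat.two_le_iff K.index |>.mpr ⟨h3, h2⟩]
    refine ih (Nat.card (K.map N.subtype)) (by rw [hKcard]; exact hKlt) (K.map N.subtype) hKn rfl
      ?_ ?_
    · intro h
      exact hKbot ((Subgroup.map_eq_bot_iff_of_injective _ N.subtype_injective).mp h)
    · intro h
      have : Nat.card (K.map N.subtype) = 5616 := by rw [h, Subgroup.card_top, hord]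
      rw [hKcard] at this
      omega
  · -- `13 ∤ |N|`
    have h13i : 13 ∣ N.index := by
      have : 13 ∣ n * N.index := by rw [hmul]; norm_num
      rcases (Nat.Prime.dvd_mul (by norm_num)).mp this with h | h
      · exact absurd h h13
      · exact h
    have hnd : n ∣ 5616 := ⟨N.index, hmul.symm⟩
    by_cases h2 : 2 ∣ n
    · apply not_E_thirteen hiso Nat.prime_two
      apply E_of_normal N (l := 13) (r := 2) (by norm_num) 1 (by simpa using h13i)
        (by rw [hn]; exact h2)
      intro m hm1 hm
      rw [hn] at hm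
      have hm4 := pow_two_dvd_5616 (hm.trans hnd)
      interval_cases m <;> norm_num
    · have h27 : n ∣ 27 := by
        have hc2 : Nat.Coprime n 16 := by
          have : Nat.Coprime n 2 := (Nat.coprime_comm.mp ((Nat.Prime.coprime_iff_not_dvd Nat.prime_two).mpr h2))
          exact Nat.Coprime.pow_right 4 this
        have hc13 : Nat.Coprime n 13 :=
          Nat.coprime_comm.mp ((Nat.Prime.coprime_iff_not_dvd (by norm_num)).mpr h13)
        have e : (5616 : ℕ) = 16 * (13 * 27) := by norm_num
        rw [e] at hnd
        exact hc13.dvd_of_dvd_mul_left (hc2.dvd_of_dvd_mul_left hnd)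
      have h3 : 3 ∣ n := by
        have : n ∣ 3 ^ 3 := by simpa using h27
        obtain ⟨k, hk, rfl⟩ := (Nat.dvd_prime_pow (by norm_num)).mp this
        have : k ≠ 0 := by rintro rfl; exact hn1 (by simp)
        exact dvd_pow_self 3 this
      by_cases hn27 : n = 27
      · -- the quotient has a normal Sylow 13-subgroup
        subst hn27
        have hidx : N.index = 208 := by omega
        have hcq : Nat.card (G ⧸ N) = 208 := by rw [← Subgroup.index_eq_card, hidx]
        obtain ⟨Pb⟩ : Nonempty (Sylow 13 (G ⧸ N)) := inferInstance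
        have hPb : Nat.card (Pb : Subgroup (G ⧸ N)) = 13 := by
          rw [Pb.card_eq_multiplicity, hcq]
          have e : (208 : ℕ) = 13 * 16 := by norm_num
          have h0 : (16 : ℕ).factorization 13 = 0 :=
            Nat.factorization_eq_zero_of_not_dvd (by norm_num)
          rw [e, Nat.factorization_mul (by norm_num) (by norm_num), Finsupp.add_apply,
            Nat.Prime.factorization_self (by norm_num), h0]
          norm_num
        have hPbi : (Pb : Subgroup (G ⧸ N)).index = 16 := by
          have := Subgroup.card_mul_index (Pb : Subgroup (G ⧸ N))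
          rw [hPb, hcq] at this
          omega
        have hone : Nat.card (Sylow 13 (G ⧸ N)) = 1 := by
          have hmod : Nat.card (Sylow 13 (G ⧸ N)) ≡ 1 [MOD 13] := card_sylow_modEq_one 13 _
          have hdvd : Nat.card (Sylow 13 (G ⧸ N)) ∣ 16 := by
            rw [← hPbi]; exact Sylow.card_dvd_index Pb
          exact arith_div_sixteen _ (Nat.lt_succ_of_le (Nat.le_of_dvd (by norm_num) hdvd))
            (Nat.mod_eq_zero_of_dvd hdvd) hmod
        haveI : Subsingleton (Sylow 13 (G ⧸ N)) := (Nat.card_eq_one_iff_unique.mp hone).1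
        haveI hPbn : (Pb : Subgroup (G ⧸ N)).Normal := Sylow.normal_of_subsingleton Pb
        set K := (Pb : Subgroup (G ⧸ N)).comap (QuotientGroup.mk' N) with hK
        haveI : K.Normal := hPbn.comap _
        have hKi : K.index = 16 := by
          rw [hK, Subgroup.index_comap_of_surjective _ (QuotientGroup.mk'_surjective N), hPbi]
        have hKc : 13 ∣ Nat.card K := by
          have := Subgroup.card_mul_index K
          rw [hKi, hord] at this
          exact ⟨27, by omega⟩
        have := index_dvd_of_normal hord hiso K hKc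
        rw [hKi] at this
        norm_num at this
      · apply not_E_thirteen hiso Nat.prime_three
        apply E_of_normal N (l := 13) (r := 3) (by norm_num) 1 (by simpa using h13i)
          (by rw [hn]; exact h3)
        intro m hm1 hm
        rw [hn] at hm
        have hm27 : 3 ^ m ∣ 27 := hm.trans h27
        have hm3 : m ≤ 3 := pow_three_dvd_5616 (hm.trans hnd)
        have hmne : m ≠ 3 := by
          rintro rfl
          apply hn27
          exact Nat.dvd_antisymm h27 (by simpa using hm)
        interval_cases m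
        · norm_num
        · norm_num
        · exact absurd rfl hmne

/-- a group of order `5616` in which the elements of order `13` are self-centralizing is simple -/
theorem isSimpleGroup_of_centralizer_thirteen [Finite G] (hord : Nat.card G = 5616)
    (hiso : ∀ x : G, orderOf x = 13 → Nat.card (centralizer ({x} : Set G)) = 13) :
    IsSimpleGroup G := by
  haveI : Nontrivial G := by
    rw [← Finite.one_lt_card_iff_nontrivial, hord]; norm_num
  refine ⟨fun N hN => ?_⟩
  by_contra h
  rw [not_or] at h
  exact no_proper_normal hord hiso _ N hN rfl h.1 h.2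

end Cfsg.Agent.Lib.Helper1.L33Rec
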