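import Mathlib
import Cfsg.Agent.S0249
import Cfsg.Agent.Lib.Helper2.GLCard
import Cfsg.Agent.Lib.Helper19.L33A
import Cfsg.Agent.Lib.Helper1.L33RecA
import Cfsg.Agent.Lib.Helper1.L33RecB

set_option autoImplicit false

/-! A group with the commuting graph of `PSL₃(3)` is simple of order `5616`. -/

namespace Cfsg.Agent.Lib.Helper1.L33Rec

open Subgroup Cfsg.Agent.Lib.Helper1.M11Rec

theorem card_L33 : Nat.card (Matrix.ProjectiveSpecialLinearGroup (Fin 3) (ZMod 3)) = 5616 := by
  have h := Cfsg.Agent.Lib.Helper2.card_PSL_field (F := ZMod 3) 3 (by norm_num)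
  rw [ZMod.card, Fin.prod_univ_three] at h
  simp only [Fin.val_zero, Fin.val_one, Fin.val_two, pow_zero, pow_one] at h
  have e1 : Nat.gcd 3 (3 - 1) = 1 := by norm_num
  have e2 : (3 ^ 3 - 1) * (3 ^ 3 - 3) * (3 ^ 3 - 3 ^ 2) = 11232 := by norm_num
  rw [e1, e2] at h
  omega

theorem isSimpleGroup_L33 :
    IsSimpleGroup (Matrix.ProjectiveSpecialLinearGroup (Fin 3) (ZMod 3)) :=
  Cfsg.Agent.S0249.result (F := ZMod 3) 3 le_rfl

/-- a group of order `5616` with self-centralizing elements of order `13`, from the simple case -/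
theorem card_centralizer_of_simple {M : Type*} [Group M] [Finite M] [IsSimpleGroup M]
    [Fact (Nat.Prime 13)] (hM : Nat.card M = 5616) (m : M) (hm : orderOf m = 13) :
    Nat.card (centralizer ({m} : Set M)) = 13 := by
  obtain ⟨Q, hQ⟩ := exists_sylow_eq_zpowers_thirteen hM m hm
  rw [centralizer_singleton_eq_zpowers, ← hQ]
  exact (Cfsg.Agent.Lib.Helper19.L33.sylow13_data hM Q).2.2.2.1

theorem simple_of_commuting_of_simple {H M : Type*} [Group H] [Finite H] [Group M] [Finite M]
    [IsSimpleGroup M] (hM : Nat.card M = 5616)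
    (f : {h : H // h ≠ 1} ≃ {g : M // g ≠ 1})
    (hf : ∀ x y : {h : H // h ≠ 1},
      (x : H) * y = y * x ↔ ((f x) : M) * (f y) = (f y) * (f x)) :
    Nat.card H = 5616 ∧ IsSimpleGroup H := by
  haveI : Fact (Nat.Prime 13) := ⟨by norm_num⟩
  have hH : Nat.card H = 5616 := (card_eq_of_commuting f).trans hM
  refine ⟨hH, ?_⟩
  apply isSimpleGroup_of_centralizer_thirteen hH
  apply self_centralizing_of_commuting f hf (p := 13) (by norm_num) (by rw [hM]; norm_num)
    (fun m hm => card_centralizer_of_simple hM m hm)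
  obtain ⟨Q⟩ : Nonempty (Sylow 13 M) := inferInstance
  rw [card_orderOf_thirteen hM, (Cfsg.Agent.Lib.Helper19.L33.sylow13_data hM Q).2.1]
  exact card_orderOf_thirteen_le hH

/-- the reduction for the commuting graph of `PSL₃(3)` -/
theorem simple_of_commuting {H : Type*} [Group H] [Finite H]
    (f : {h : H // h ≠ 1} ≃
      {g : Matrix.ProjectiveSpecialLinearGroup (Fin 3) (ZMod 3) // g ≠ 1})
    (hf : ∀ x y : {h : H // h ≠ 1}, (x : H) * y = y * x ↔
      ((f x) : Matrix.ProjectiveSpecialLinearGroup (Fin 3) (ZMod 3)) * (f y) = (f y) * (f x)) :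
    Nat.card H = 5616 ∧ IsSimpleGroup H := by
  haveI := isSimpleGroup_L33
  exact simple_of_commuting_of_simple card_L33 f hf

end Cfsg.Agent.Lib.Helper1.L33Rec
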