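import Mathlib
import Cfsg.Agent.Lib.Helper11.LSDefs

/-!
helper1: leaf P3 of S2333 (Landazuri–Seitz for `Sp_{2n}(q)`, `q` even): the isometry group of a
quadratic form with a hyperbolic pair `(v, w)` has order at most
`#(hyperbolic pairs) * |O(Q | {v,w}^⊥)|`.
-/

set_option autoImplicit false

open QuadraticMap Module Cfsg.Agent.Lib.Helper11.LS

namespace Cfsg.Agent.Lib.Helper1.LSLeaf

universe u
variable {F : Type*} [Field F] {V : Type u} [AddCommGroup V] [Module F V]

/-- counting by fibres -/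
theorem card_le_mul_of_fiber_le {A B : Type*} [Finite A] [Finite B] (φ : A → B) (m : ℕ)
    (hm : ∀ b, Nat.card {a // φ a = b} ≤ m) : Nat.card A ≤ Nat.card B * m := by
  classical
  have := Fintype.ofFinite B
  rw [← Nat.card_congr (Equiv.sigmaFiberEquiv φ), Nat.card_sigma]
  calc ∑ b, Nat.card {a // φ a = b} ≤ ∑ _b : B, m := Finset.sum_le_sum (fun b _ => hm b)
    _ = Nat.card B * m := by
      rw [Finset.sum_const, Finset.card_univ, Nat.card_eq_fintype_card, smul_eq_mul]

/-- restriction of a linear equivalence to an invariant submodule -/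
def restrictEquiv (k : V ≃ₗ[F] V) (p : Submodule F V) (h1 : ∀ x ∈ p, k x ∈ p)
    (h2 : ∀ x ∈ p, k.symm x ∈ p) : p ≃ₗ[F] p where
  toFun x := ⟨k x, h1 x x.2⟩
  invFun x := ⟨k.symm x, h2 x x.2⟩
  map_add' x y := Subtype.ext (by simp)
  map_smul' c x := Subtype.ext (by simp)
  left_inv x := Subtype.ext (by simp)
  right_inv x := Subtype.ext (by simp)

theorem restrictEquiv_apply (k : V ≃ₗ[F] V) (p : Submodule F V) (h1 : ∀ x ∈ p, k x ∈ p)
    (h2 : ∀ x ∈ p, k.symm x ∈ p) (x : p) : ((restrictEquiv k p h1 h2 x : p) : V) = k x := rfl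

/-- the decomposition `V = ⟨v, w⟩ + {v, w}^⊥` for a hyperbolic pair -/
theorem decomp_mem_perp2 (Q : QuadraticForm F V) {v w : V} (h : IsHypPair Q v w) (x : V) :
    x - (polar Q x w • v + polar Q x v • w) ∈ perp2 Q v w := by
  obtain ⟨hv, hw, hvw⟩ := h
  have hvv : polar Q v v = 0 := by rw [polar_self, hv, smul_zero]
  have hww : polar Q w w = 0 := by rw [polar_self, hw, smul_zero]
  have hwv : polar Q w v = 1 := by rw [polar_comm, hvw]
  rw [mem_perp2]
  constructor
  · rw [polar_sub_right, polar_add_right, polar_smul_right, polar_smul_right, hvv, hvw,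
      polar_comm Q x v]
    simp
  · rw [polar_sub_right, polar_add_right, polar_smul_right, polar_smul_right, hww, hwv,
      polar_comm Q x w]
    simp

/-- an isometry fixing `v` and `w` preserves `{v, w}^⊥` -/
theorem map_mem_perp2 (Q : QuadraticForm F V) {v w : V} {k : V ≃ₗ[F] V} (hk : k ∈ isoGroup Q)
    (hkv : k v = v) (hkw : k w = w) (x : V) (hx : x ∈ perp2 Q v w) : k x ∈ perp2 Q v w := by
  rw [mem_perp2] at hx ⊢
  constructor
  · have := polar_isoGroup hk v x
    rw [hkv] at this
    rw [this]; exact hx.1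
  · have := polar_isoGroup hk w x
    rw [hkw] at this
    rw [this]; exact hx.2

theorem card_isoGroup_le_pairs [Fintype F] [CharP F 2] [Finite V] (Q : QuadraticForm F V)
    {v w : V} (h : IsHypPair Q v w) :
    Nat.card (isoGroup Q) ≤ Nat.card {p : V × V // IsHypPair Q p.1 p.2} *
      Nat.card (isoGroup (Q.comp (perp2 Q v w).subtype)) := by
  classical
  have : Finite (V ≃ₗ[F] V) := Finite.of_injective (fun e => (e : V → V)) DFunLike.coe_injective
  have : Finite ((perp2 Q v w) ≃ₗ[F] (perp2 Q v w)) :=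
    Finite.of_injective (fun e => (e : (perp2 Q v w) → (perp2 Q v w))) DFunLike.coe_injective
  -- the map to pairs
  let φ : isoGroup Q → {p : V × V // IsHypPair Q p.1 p.2} := fun g =>
    ⟨(g.1 v, g.1 w), by
      obtain ⟨hv, hw, hvw⟩ := h
      refine ⟨?_, ?_, ?_⟩
      · show Q (g.1 v) = 0
        rw [g.2 v, hv]
      · show Q (g.1 w) = 0
        rw [g.2 w, hw]
      · show polar Q (g.1 v) (g.1 w) = 1
        rw [polar_isoGroup g.2, hvw]⟩
  apply card_le_mul_of_fiber_le φ
  intro b
  by_cases hne : Nonempty {a // φ a = b}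
  · obtain ⟨⟨g₀, hg₀⟩⟩ := hne
    -- for g in the fibre, k = g₀⁻¹ g fixes v and w
    have hfix : ∀ g : {a // φ a = b}, (g₀⁻¹ * g.1 : isoGroup Q).1 v = v ∧
        (g₀⁻¹ * g.1 : isoGroup Q).1 w = w := by
      intro g
      have h1 : φ g.1 = φ g₀ := by rw [g.2, hg₀]
      have h2 : g.1.1 v = g₀.1 v := congrArg (fun p => p.1.1) h1
      have h3 : g.1.1 w = g₀.1 w := congrArg (fun p => p.1.2) h1
      constructor
      · show (g₀.1)⁻¹ (g.1.1 v) = v
        rw [h2]
        exact LinearEquiv.symm_apply_apply g₀.1 v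
      · show (g₀.1)⁻¹ (g.1.1 w) = w
        rw [h3]
        exact LinearEquiv.symm_apply_apply g₀.1 w
    have hfix' : ∀ g : {a // φ a = b}, ((g₀⁻¹ * g.1 : isoGroup Q).1).symm v = v ∧
        ((g₀⁻¹ * g.1 : isoGroup Q).1).symm w = w := by
      intro g
      obtain ⟨h1, h2⟩ := hfix g
      constructor
      · rw [LinearEquiv.symm_apply_eq, h1]
      · rw [LinearEquiv.symm_apply_eq, h2]
    have hinvmem : ∀ g : {a // φ a = b}, ((g₀⁻¹ * g.1 : isoGroup Q).1).symm ∈ isoGroup Q := by
      intro g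
      exact (isoGroup Q).inv_mem (g₀⁻¹ * g.1 : isoGroup Q).2
    let ψ : {a // φ a = b} → isoGroup (Q.comp (perp2 Q v w).subtype) := fun g =>
      ⟨restrictEquiv (g₀⁻¹ * g.1 : isoGroup Q).1 (perp2 Q v w)
        (map_mem_perp2 Q (g₀⁻¹ * g.1 : isoGroup Q).2 (hfix g).1 (hfix g).2)
        (map_mem_perp2 Q (hinvmem g) (hfix' g).1 (hfix' g).2), by
        intro x
        show Q ((g₀⁻¹ * g.1 : isoGroup Q).1 x) = Q x
        exact (g₀⁻¹ * g.1 : isoGroup Q).2 x⟩
    have hψ : Function.Injective ψ := by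
      intro g g' hgg
      have hres : ∀ x : perp2 Q v w, (g₀⁻¹ * g.1 : isoGroup Q).1 x = (g₀⁻¹ * g'.1 : isoGroup Q).1 x := by
        intro x
        have := congrArg (fun e => ((e.1 x : perp2 Q v w) : V)) hgg
        exact this
      have hall : ∀ x : V, (g₀⁻¹ * g.1 : isoGroup Q).1 x = (g₀⁻¹ * g'.1 : isoGroup Q).1 x := by
        intro x
        have hx : x = (polar Q x w • v + polar Q x v • w) +
            (x - (polar Q x w • v + polar Q x v • w)) := by abel
        rw [hx, map_add, map_add, map_add, map_add, map_smul, map_smul, map_smul, map_smul,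
          (hfix g).1, (hfix g).2, (hfix g').1, (hfix g').2]
        congr 1
        exact hres ⟨_, decomp_mem_perp2 Q h x⟩
      have heq : (g₀⁻¹ * g.1 : isoGroup Q) = g₀⁻¹ * g'.1 := by
        apply Subtype.ext
        apply LinearEquiv.ext
        exact hall
      have := mul_left_cancel heq
      exact Subtype.ext this
    exact Nat.card_le_card_of_injective ψ hψ
  · rw [not_nonempty_iff] at hne
    rw [Nat.card_of_isEmpty]
    exact Nat.zero_le _

end Cfsg.Agent.Lib.Helper1.LSLeaf
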