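import Mathlib
import Cfsg.Agent.Lib.Helper11.LSDefs
import Cfsg.Agent.Lib.Helper1.LSP3

/-!
helper1: leaf D2 of S2333 (Landazuri–Seitz for `Sp_{2n}(q)`, `q` even): reduction of the isometry
group of a quadratic form to a complement of its radical.
-/

set_option autoImplicit false

open QuadraticMap Module Cfsg.Agent.Lib.Helper11.LS

namespace Cfsg.Agent.Lib.Helper1.LSLeaf

universe u
variable {F : Type*} [Field F] {V : Type u} [AddCommGroup V] [Module F V]

/-- the radical is invariant under isometries -/
theorem map_mem_radical (Q : QuadraticForm F V) {g : V ≃ₗ[F] V} (hg : g ∈ isoGroup Q) (x : V)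
    (hx : x ∈ Q.radical) : g x ∈ Q.radical := by
  rw [mem_radical_iff'] at hx ⊢
  have hginv : g.symm ∈ isoGroup Q := (isoGroup Q).inv_mem hg
  constructor
  · rw [hg x]; exact hx.1
  · intro n
    have h1 : g x + n = g (x + g.symm n) := by
      rw [map_add, LinearEquiv.apply_symm_apply]
    rw [h1, hg, hx.2, hginv n]

/-- `Q` only depends on the component in a complement of the radical -/
theorem apply_projectionOnto (Q : QuadraticForm F V) (V₁ : Submodule F V)
    (h : IsCompl V₁ Q.radical) (y : V) :
    Q ((V₁.projectionOnto Q.radical h y : V₁) : V) = Q y := by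
  have hy := Submodule.projection_add_projection_eq_self h y
  rw [Submodule.projection_apply, Submodule.projection_apply] at hy
  have hr : ((Q.radical.projectionOnto V₁ h.symm y : Q.radical) : V) ∈ Q.radical :=
    Submodule.coe_mem _
  rw [mem_radical_iff'] at hr
  conv_rhs => rw [← hy, add_comm, hr.2]

/-- cardinality of the general linear group of a finite vector space -/
theorem card_linearEquiv_aux [Fintype F] {W : Type*} [AddCommGroup W] [Module F W] [Finite W] :
    Nat.card (W ≃ₗ[F] W) = gl (Fintype.card F) (finrank F W) := by
  classical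
  have hfd : Module.Finite F W := Module.Finite.of_finite
  let b := Module.finBasis F W
  -- the equivalence with linearly independent families
  let e : (W ≃ₗ[F] W) ≃ {s : Fin (finrank F W) → W // LinearIndependent F s} :=
    { toFun := fun g => ⟨fun i => g (b i), by
        have := b.linearIndependent.map' g.toLinearMap (LinearEquiv.ker g)
        exact this⟩
      invFun := fun s => b.equiv (basisOfLinearIndependentOfCardEqFinrank' s.1 s.2 (by simp))
        (Equiv.refl _)
      left_inv := by
        intro g
        apply LinearEquiv.toLinearMap_injective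
        apply b.ext
        intro i
        simp
      right_inv := by
        intro s
        apply Subtype.ext
        funext i
        simp }
  rw [Nat.card_congr e, card_linearIndependent le_rfl]
  unfold gl
  rw [Finset.prod_range]

theorem card_isoGroup_le_of_isCompl [Fintype F] [Finite V] (Q : QuadraticForm F V)
    (V₁ : Submodule F V) (h : IsCompl V₁ Q.radical) :
    Nat.card (isoGroup Q) ≤ Nat.card (isoGroup (Q.comp V₁.subtype)) *
      Fintype.card F ^ (finrank F V₁ * (finrank F V - finrank F V₁)) *
        gl (Fintype.card F) (finrank F V - finrank F V₁) := by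
  classical
  have hfd : Module.Finite F V := Module.Finite.of_finite
  have hdim : finrank F Q.radical = finrank F V - finrank F V₁ := by
    have := Submodule.finrank_add_eq_of_isCompl h
    omega
  have hfin1 : Finite (V₁ ≃ₗ[F] V₁) :=
    Finite.of_injective (fun e => (e : V₁ → V₁)) DFunLike.coe_injective
  have hfin2 : Finite (V₁ →ₗ[F] Q.radical) :=
    Finite.of_injective (fun e => (e : V₁ → Q.radical)) DFunLike.coe_injective
  have hfin3 : Finite (Q.radical ≃ₗ[F] Q.radical) :=
    Finite.of_injective (fun e => (e : Q.radical → Q.radical)) DFunLike.coe_injective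
  -- the first component is injective
  have hαinj : ∀ g : isoGroup Q, Function.Injective
      ((V₁.projectionOnto Q.radical h) ∘ₗ g.1.toLinearMap ∘ₗ V₁.subtype) := by
    intro g
    rw [injective_iff_map_eq_zero]
    intro x hx
    have h1 : g.1 (x : V) ∈ Q.radical := by
      rw [← Submodule.projectionOnto_apply_eq_zero_iff h]
      exact hx
    have h2 : (x : V) ∈ Q.radical := by
      have := map_mem_radical Q ((isoGroup Q).inv_mem g.2) _ h1
      have h3 : (g.1)⁻¹ (g.1 (x : V)) = (x : V) := LinearEquiv.symm_apply_apply g.1 _
      rw [h3] at this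
      exact this
    have h3 : (x : V) ∈ V₁ ⊓ Q.radical := ⟨x.2, h2⟩
    rw [h.disjoint.eq_bot] at h3
    exact Subtype.ext ((Submodule.mem_bot F).mp h3)
  let Ψ : isoGroup Q → isoGroup (Q.comp V₁.subtype) × (V₁ →ₗ[F] Q.radical) ×
      (Q.radical ≃ₗ[F] Q.radical) := fun g =>
    (⟨LinearEquiv.ofInjectiveEndo _ (hαinj g), by
        intro x
        rw [LinearEquiv.coe_ofInjectiveEndo, QuadraticMap.comp_apply, QuadraticMap.comp_apply]
        show Q ((V₁.projectionOnto Q.radical h (g.1 (x : V)) : V₁) : V) = Q (x : V)
        rw [apply_projectionOnto, g.2]⟩,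
      (Q.radical.projectionOnto V₁ h.symm) ∘ₗ g.1.toLinearMap ∘ₗ V₁.subtype,
      restrictEquiv g.1 Q.radical (map_mem_radical Q g.2)
        (map_mem_radical Q ((isoGroup Q).inv_mem g.2)))
  have hΨ : Function.Injective Ψ := by
    intro g g' hgg
    have e1 : ∀ x : V₁, V₁.projectionOnto Q.radical h (g.1 (x : V)) =
        V₁.projectionOnto Q.radical h (g'.1 (x : V)) := by
      intro x
      have := congrArg (fun t => (t.1.1 : V₁ ≃ₗ[F] V₁) x) hgg
      simp only [Ψ] at this
      rw [LinearEquiv.coe_ofInjectiveEndo, LinearEquiv.coe_ofInjectiveEndo] at this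
      exact this
    have e2 : ∀ x : V₁, Q.radical.projectionOnto V₁ h.symm (g.1 (x : V)) =
        Q.radical.projectionOnto V₁ h.symm (g'.1 (x : V)) := by
      intro x
      have := congrArg (fun t => (t.2.1 : V₁ →ₗ[F] Q.radical) x) hgg
      exact this
    have e3 : ∀ x : Q.radical, g.1 (x : V) = g'.1 (x : V) := by
      intro x
      have := congrArg (fun t => (((t.2.2 : Q.radical ≃ₗ[F] Q.radical) x : Q.radical) : V)) hgg
      exact this
    have e12 : ∀ x : V₁, g.1 (x : V) = g'.1 (x : V) := by
      intro x
      have h1 := Submodule.projection_add_projection_eq_self h (g.1 (x : V))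
      have h2 := Submodule.projection_add_projection_eq_self h (g'.1 (x : V))
      rw [Submodule.projection_apply, Submodule.projection_apply] at h1 h2
      rw [← h1, ← h2, e1 x, e2 x]
    apply Subtype.ext
    apply LinearEquiv.ext
    intro y
    have hy := Submodule.projection_add_projection_eq_self h y
    rw [Submodule.projection_apply, Submodule.projection_apply] at hy
    rw [← hy, map_add, map_add, e12, e3]
  calc Nat.card (isoGroup Q)
      ≤ Nat.card (isoGroup (Q.comp V₁.subtype) × (V₁ →ₗ[F] Q.radical) ×
          (Q.radical ≃ₗ[F] Q.radical)) := Nat.card_le_card_of_injective Ψ hΨ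
    _ = Nat.card (isoGroup (Q.comp V₁.subtype)) *
          Fintype.card F ^ (finrank F V₁ * (finrank F V - finrank F V₁)) *
            gl (Fintype.card F) (finrank F V - finrank F V₁) := by
      rw [Nat.card_prod, Nat.card_prod, card_linearEquiv_aux,
        Module.natCard_eq_pow_finrank (K := F) (V := V₁ →ₗ[F] Q.radical),
        Module.finrank_linearMap, hdim, Nat.card_eq_fintype_card (α := F), mul_assoc]

end Cfsg.Agent.Lib.Helper1.LSLeaf
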