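import Mathlib
import Cfsg.Agent.Lib.Helper19.Zsigmondy

set_option autoImplicit false

namespace Cfsg.Agent.Lib.Helper1.LargeZsig

open Polynomial Cfsg.Agent.Lib.Helper19.Zsigmondy

/-- The value `Φ_n(a)` as a natural number. -/
noncomputable def cyc (a n : ℕ) : ℕ := ((cyclotomic n ℤ).eval (a : ℤ)).natAbs

theorem cyc_dvd {a n : ℕ} (ha : 0 < a) (hn : 2 ≤ n) : cyc a n ∣ a ^ n - 1 := by
  have h := key_dvd (a := a) (n := n) (d := 1) ha (by
    rw [Nat.mem_properDivisors]; exact ⟨one_dvd _, by omega⟩)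
  exact (Dvd.intro_left _ rfl).trans h

theorem isPrim_dvd_sub_one {a n r : ℕ} (h : IsPrim a n r) (ha : 0 < a) (hn : 0 < n) :
    n ∣ r - 1 := by
  obtain ⟨hr, h1, h2⟩ := h
  haveI := Fact.mk hr
  have e1 : (a : ZMod r) ^ n = 1 := (dvd_pow_sub_one_iff ha).1 h1
  have hord : orderOf (a : ZMod r) = n := by
    rw [orderOf_eq_iff hn]
    refine ⟨e1, fun m hm hm0 hcon => ?_⟩
    exact h2 m hm0 hm ((dvd_pow_sub_one_iff ha).2 hcon)
  have ha0 : (a : ZMod r) ≠ 0 := by
    intro h0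
    rw [h0, zero_pow hn.ne'] at e1
    exact zero_ne_one e1
  rw [← hord]
  exact ZMod.orderOf_dvd_card_sub_one ha0

theorem isPrim_lt {a n r : ℕ} (h : IsPrim a n r) (ha : 0 < a) (hn : 0 < n) : n + 1 ≤ r := by
  have h1 := isPrim_dvd_sub_one h ha hn
  have hr := h.1.two_le
  have := Nat.le_of_dvd (by omega) h1
  omega

/-- Prime divisors of `Φ_n(a)` not dividing `n` are primitive. -/
theorem isPrim_of_dvd_cyc {a n r : ℕ} (ha : 0 < a) (hn : 0 < n) (hr : r.Prime)
    (h : r ∣ cyc a n) (hrn : ¬ r ∣ n) : IsPrim a n r :=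
  isPrim_of_good ha hn hr (Int.natCast_dvd.2 h) hrn

/-- Prime divisors of `Φ_n(a)` dividing `n` divide it only once. -/
theorem not_sq_dvd_cyc {a n r : ℕ} (ha : 1 < a) (hn : 3 ≤ n) (hr : r.Prime)
    (h : r ∣ cyc a n) (hrn : r ∣ n) : ¬ r ^ 2 ∣ cyc a n := by
  obtain ⟨e, m, he, hrm, hnm, hmr, hord⟩ :=
    bad_structure (a := a) (by omega) hr (Int.natCast_dvd.2 h) hrn
  exact not_sq_dvd ha hn hr he hnm hmr hord

theorem exists_large_of_lt {a n : ℕ} (ha : 2 ≤ a) (hn : 3 ≤ n) (hN : n * (n + 1) < cyc a n) :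
    ∃ p, IsPrim a n p ∧ (n + 1 < p ∨ p ^ 2 ∣ a ^ n - 1) := by
  by_contra hcon
  push Not at hcon
  have ha0 : 0 < a := by omega
  have hn0 : 0 < n := by omega
  have hdvd : cyc a n ∣ n * (n + 1) := by
    rw [Nat.dvd_iff_prime_pow_dvd_dvd]
    intro r k hr hk
    rcases Nat.eq_zero_or_pos k with hk0 | hk0
    · subst hk0; simp
    have hrN : r ∣ cyc a n := (dvd_pow_self r hk0.ne').trans hk
    by_cases hrn : r ∣ n
    · have hsq := not_sq_dvd_cyc (by omega) hn hr hrN hrn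
      have hk1 : k = 1 := by
        by_contra hne
        exact hsq ((pow_dvd_pow r (by omega : 2 ≤ k)).trans hk)
      subst hk1
      rw [pow_one]
      exact hrn.trans (Dvd.intro _ rfl)
    · have hprim := isPrim_of_dvd_cyc ha0 hn0 hr hrN hrn
      obtain ⟨h1, h2⟩ := hcon r hprim
      have h3 := isPrim_lt hprim ha0 hn0
      have hreq : r = n + 1 := by omega
      have hk1 : k = 1 := by
        by_contra hne
        apply h2
        exact ((pow_dvd_pow r (by omega : 2 ≤ k)).trans hk).trans (cyc_dvd ha0 (by omega))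
      subst hk1
      rw [pow_one, hreq]
      exact Dvd.intro_left _ rfl
  have hpos : 0 < n * (n + 1) := by positivity
  have := Nat.le_of_dvd hpos hdvd
  omega

theorem exists_prim_divisor_ge {a n : ℕ} (ha : 2 ≤ a) (hn : 3 ≤ n) (B : ℕ)
    (hN : n * B ≤ cyc a n) :
    ∃ m, m ∣ a ^ n - 1 ∧ (∀ i, 1 ≤ i → i < n → Nat.Coprime m (a ^ i - 1)) ∧ B ≤ m := by
  have ha0 : 0 < a := by omega
  have hn0 : 0 < n := by omega
  obtain ⟨m, hm⟩ : Nat.gcd (cyc a n) n ∣ cyc a n := Nat.gcd_dvd_left _ _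
  have hg : Nat.gcd (cyc a n) n ≤ n := Nat.le_of_dvd hn0 (Nat.gcd_dvd_right _ _)
  refine ⟨m, ?_, ?_, ?_⟩
  · exact (Dvd.intro_left _ hm.symm).trans (cyc_dvd ha0 (by omega))
  · intro i hi hin
    apply Nat.coprime_of_dvd
    intro r hr hrm hri
    have hrN : r ∣ cyc a n := hrm.trans (Dvd.intro_left _ hm.symm)
    by_cases hrn : r ∣ n
    · have hsq := not_sq_dvd_cyc (by omega) hn hr hrN hrn
      apply hsq
      rw [hm, pow_two]
      exact mul_dvd_mul (Nat.dvd_gcd hrN hrn) hrm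
    · have hprim := isPrim_of_dvd_cyc ha0 hn0 hr hrN hrn
      exact hprim.2.2 i (by omega) hin hri
  · by_contra hlt
    push Not at hlt
    have h1 : Nat.gcd (cyc a n) n * m < n * B := by
      have hB : 0 < B := by omega
      calc Nat.gcd (cyc a n) n * m ≤ n * m := Nat.mul_le_mul_right _ hg
        _ < n * B := Nat.mul_lt_mul_of_pos_left hlt hn0
    rw [← hm] at h1
    omega

end Cfsg.Agent.Lib.Helper1.LargeZsig
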