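import Mathlib
import Cfsg.Agent.Lib.Helper1.LargeZsig1

set_option autoImplicit false

namespace Cfsg.Agent.Lib.Helper1.LargeZsig

open Polynomial Cfsg.Agent.Lib.Helper19.Zsigmondy

theorem cyc_gt {a n : ℕ} (hn : 2 ≤ n) (ha : a ≠ 1) : (a - 1) ^ n.totient < cyc a n :=
  sub_one_pow_totient_lt_natAbs_cyclotomic_eval (by omega) ha

theorem cyc_one (a : ℕ) (ha : 1 ≤ a) : cyc a 1 = a - 1 := by
  unfold cyc
  rw [cyclotomic_one]
  simp only [eval_sub, eval_X, eval_one]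
  omega

theorem le_cyc {a n : ℕ} (hn : 1 ≤ n) (ha : 2 ≤ a) : (a - 1) ^ n.totient ≤ cyc a n := by
  rcases (show n = 1 ∨ 2 ≤ n by omega) with rfl | h2
  · rw [cyc_one a (by omega)]; simp
  · exact (cyc_gt h2 (by omega)).le

theorem cyc_pos {a n : ℕ} (ha : 2 ≤ a) : 0 < cyc a n := by
  unfold cyc
  have : 0 < (cyclotomic n ℤ).eval (a : ℤ) := cyclotomic_pos' n (by exact_mod_cast ha)
  omega

theorem cyc_cast_real {a n : ℕ} (ha : 2 ≤ a) : ((cyc a n : ℕ) : ℝ) = eval (a : ℝ) (cyclotomic n ℝ) := by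
  unfold cyc
  have hpos : 0 < (cyclotomic n ℤ).eval (a : ℤ) := cyclotomic_pos' n (by exact_mod_cast ha)
  have h1 : (((cyclotomic n ℤ).eval (a : ℤ)).natAbs : ℤ) = (cyclotomic n ℤ).eval (a : ℤ) :=
    Int.natAbs_of_nonneg hpos.le
  have h2 := cast_eval n (a : ℤ)
  rw [← h1] at h2
  simpa using h2

theorem cyc_le {a n : ℕ} (hn : 1 ≤ n) (ha : 2 ≤ a) : cyc a n ≤ (a + 1) ^ n.totient := by
  have h := upper_bound (m := n) hn (q := (a : ℝ)) (by exact_mod_cast ha)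
  rw [← cyc_cast_real ha] at h
  exact_mod_cast h

/-- `Φ_{dp}(a) = Φ_d(a^p)` when `p ∣ d`. -/
theorem cyc_mul_prime_of_dvd {a d p : ℕ} (hp : p.Prime) (hpd : p ∣ d) :
    cyc a (d * p) = cyc (a ^ p) d := by
  unfold cyc
  have h := congrArg (eval (a : ℤ)) (cyclotomic_expand_eq_cyclotomic hp hpd ℤ)
  rw [expand_eval] at h
  rw [← h]
  push_cast
  rfl

/-- `Φ_{mp}(a) Φ_m(a) = Φ_m(a^p)` when `p ∤ m`. -/
theorem cyc_mul_prime_of_not_dvd {a m p : ℕ} (hp : p.Prime) (hpm : ¬ p ∣ m) :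
    cyc a (m * p) * cyc a m = cyc (a ^ p) m := by
  unfold cyc
  have h := congrArg (eval (a : ℤ)) (cyclotomic_expand_eq_cyclotomic_mul hp hpm ℤ)
  rw [expand_eval, eval_mul] at h
  rw [← Int.natAbs_mul, ← h]
  push_cast
  rfl

theorem pow_four_ge {p : ℕ} (hp : 2 ≤ p) : 8 ^ p ≤ (2 ^ p - 1) ^ 4 := by
  rcases (show p = 2 ∨ p = 3 ∨ 4 ≤ p by omega) with rfl | rfl | h4
  · norm_num
  · norm_num
  · have h1 : 2 ^ (p - 1) ≤ 2 ^ p - 1 := by
      have : 2 ^ p = 2 * 2 ^ (p - 1) := by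
        conv_lhs => rw [show p = (p - 1) + 1 by omega, pow_succ]
        ring
      have h2 : 1 ≤ 2 ^ (p - 1) := Nat.one_le_two_pow
      omega
    calc 8 ^ p = 2 ^ (3 * p) := by rw [show (8 : ℕ) = 2 ^ 3 by norm_num, ← pow_mul]
      _ ≤ 2 ^ ((p - 1) * 4) := Nat.pow_le_pow_right (by norm_num) (by omega)
      _ = (2 ^ (p - 1)) ^ 4 := by rw [pow_mul]
      _ ≤ (2 ^ p - 1) ^ 4 := Nat.pow_le_pow_left h1 4

/-- Case (i): `p² ∣ n`. -/
theorem two_bound_sq {d p : ℕ} (hp : p.Prime) (hpd : p ∣ d) (hd : 0 < d) :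
    8 ^ (d * p).totient ≤ cyc 2 (d * p) ^ 4 := by
  have hd2 : 2 ≤ d := (hp.two_le).trans (Nat.le_of_dvd hd hpd)
  rw [cyc_mul_prime_of_dvd hp hpd, mul_comm d p, Nat.totient_mul_of_prime_of_dvd hp hpd]
  have h1 : (2 ^ p - 1) ^ d.totient < cyc (2 ^ p) d := by
    apply cyc_gt hd2
    have : 2 ≤ 2 ^ p := by
      calc 2 = 2 ^ 1 := by norm_num
        _ ≤ 2 ^ p := Nat.pow_le_pow_right (by norm_num) hp.one_le
    omega
  calc 8 ^ (p * d.totient) = (8 ^ p) ^ d.totient := by rw [pow_mul]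
    _ ≤ ((2 ^ p - 1) ^ 4) ^ d.totient := Nat.pow_le_pow_left (pow_four_ge hp.two_le) _
    _ = ((2 ^ p - 1) ^ d.totient) ^ 4 := by rw [← pow_mul, ← pow_mul, mul_comm]
    _ ≤ cyc (2 ^ p) d ^ 4 := Nat.pow_le_pow_left h1.le 4

/-- Case (ii): `P ∥ n`, `P ≥ 5`. -/
theorem two_bound_prime {m P : ℕ} (hP : P.Prime) (hP5 : 5 ≤ P) (hPm : ¬ P ∣ m) (hm : 0 < m) :
    8 ^ (m * P).totient ≤ cyc 2 (m * P) ^ 4 := by
  have hmul := cyc_mul_prime_of_not_dvd (a := 2) hP hPm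
  have h2P : 2 ≤ 2 ^ P := by
    calc 2 = 2 ^ 1 := by norm_num
      _ ≤ 2 ^ P := Nat.pow_le_pow_right (by norm_num) hP.one_le
  have h1 : (2 ^ P - 1) ^ m.totient ≤ cyc (2 ^ P) m := le_cyc hm h2P
  have h2 : cyc 2 m ≤ 3 ^ m.totient := cyc_le hm (by norm_num)
  have h3 : 3 * 2 ^ (P - 2) ≤ 2 ^ P - 1 := by
    have : 2 ^ P = 4 * 2 ^ (P - 2) := by
      conv_lhs => rw [show P = (P - 2) + 2 by omega, pow_add]
      ring
    have h4 : 1 ≤ 2 ^ (P - 2) := Nat.one_le_two_pow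
    omega
  have h4 : 3 ^ m.totient * 2 ^ ((P - 2) * m.totient) ≤ cyc 2 (m * P) * 3 ^ m.totient := by
    calc 3 ^ m.totient * 2 ^ ((P - 2) * m.totient) = (3 * 2 ^ (P - 2)) ^ m.totient := by
          rw [mul_pow, ← pow_mul]
      _ ≤ (2 ^ P - 1) ^ m.totient := Nat.pow_le_pow_left h3 _
      _ ≤ cyc (2 ^ P) m := h1
      _ = cyc 2 (m * P) * cyc 2 m := hmul.symm
      _ ≤ cyc 2 (m * P) * 3 ^ m.totient := Nat.mul_le_mul_left _ h2
  have h5 : 2 ^ ((P - 2) * m.totient) ≤ cyc 2 (m * P) := by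
    rw [mul_comm (cyc 2 (m * P))] at h4
    exact Nat.le_of_mul_le_mul_left h4 (pow_pos (by norm_num) _)
  rw [mul_comm m P, Nat.totient_mul_of_prime_of_not_dvd hP hPm, mul_comm P m]
  calc 8 ^ ((P - 1) * m.totient) = 2 ^ (3 * ((P - 1) * m.totient)) := by
        rw [show (8 : ℕ) = 2 ^ 3 by norm_num, ← pow_mul]
    _ ≤ 2 ^ ((P - 2) * m.totient * 4) := by
        apply Nat.pow_le_pow_right (by norm_num)
        have : 3 * (P - 1) ≤ (P - 2) * 4 := by omega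
        calc 3 * ((P - 1) * m.totient) = (3 * (P - 1)) * m.totient := by ring
          _ ≤ ((P - 2) * 4) * m.totient := Nat.mul_le_mul_right _ this
          _ = (P - 2) * m.totient * 4 := by ring
    _ = (2 ^ ((P - 2) * m.totient)) ^ 4 := by rw [pow_mul]
    _ ≤ cyc 2 (m * P) ^ 4 := Nat.pow_le_pow_left h5 4

theorem dvd_six_of_squarefree {n : ℕ} (hsq : Squarefree n)
    (h : ∀ p, p.Prime → p ∣ n → p < 5) : n ∣ 6 := by
  have hn0 : n ≠ 0 := hsq.ne_zero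
  have h1 : n.primeFactors ⊆ ({2, 3} : Finset ℕ) := by
    intro p hp
    rw [Nat.mem_primeFactors] at hp
    have h5 := h p hp.1 hp.2.1
    have h2 := hp.1.two_le
    have : p = 2 ∨ p = 3 ∨ p = 4 := by omega
    rcases this with rfl | rfl | rfl
    · simp
    · simp
    · exact absurd hp.1 (by norm_num)
  have h2 : ∏ p ∈ n.primeFactors, p = n := Nat.prod_primeFactors_of_squarefree hsq
  have h3 := Finset.prod_dvd_prod_of_subset _ _ (fun p : ℕ => p) h1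
  rw [h2] at h3
  simpa using h3

/-- The uniform bound for base 2. -/
theorem two_bound {n : ℕ} (hn : 1 ≤ n) (h1 : n ≠ 1) (h2 : n ≠ 2) (h3 : n ≠ 3) (h6 : n ≠ 6) :
    8 ^ n.totient ≤ cyc 2 n ^ 4 := by
  by_cases hsq : Squarefree n
  · by_cases hbig : ∃ P, P.Prime ∧ P ∣ n ∧ 5 ≤ P
    · obtain ⟨P, hP, hPn, hP5⟩ := hbig
      obtain ⟨m, hm⟩ := hPn
      have hm0 : 0 < m := by
        rcases Nat.eq_zero_or_pos m with h | h
        · subst h; omega
        · exact h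
      have hPm : ¬ P ∣ m := by
        intro hdiv
        rw [Nat.squarefree_iff_prime_squarefree] at hsq
        apply hsq P hP
        rw [hm]
        exact mul_dvd_mul_left P hdiv
      rw [hm, mul_comm P m]
      exact two_bound_prime hP hP5 hPm hm0
    · push Not at hbig
      have hd := dvd_six_of_squarefree hsq (fun p hp hpn => by
        by_contra hlt
        exact absurd (hbig p hp hpn) (by omega))
      have hle := Nat.le_of_dvd (by norm_num) hd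
      interval_cases n <;> simp_all
  · rw [Nat.squarefree_iff_prime_squarefree] at hsq
    push Not at hsq
    obtain ⟨p, hp, hpp⟩ := hsq
    obtain ⟨c, hc⟩ := hpp
    have hc0 : 0 < c := by
      rcases Nat.eq_zero_or_pos c with h | h
      · subst h; omega
      · exact h
    have : n = (p * c) * p := by rw [hc]; ring
    rw [this]
    exact two_bound_sq hp (Dvd.intro _ rfl) (Nat.mul_pos hp.pos hc0)

end Cfsg.Agent.Lib.Helper1.LargeZsig
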