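import Mathlib
import Cfsg.Agent.Lib.Helper1.LargeZsig2

set_option autoImplicit false

namespace Cfsg.Agent.Lib.Helper1.LargeZsig

/-- Correction factor for the totient cube bound. -/
def cf (n : ℕ) : ℕ := (if 2 ∣ n then 4 else 1) * (if 3 ∣ n then 9 else 8)

theorem cf_mul {a b : ℕ} (h : Nat.Coprime a b) : cf (a * b) * 8 = cf a * cf b := by
  unfold cf
  have h2 : (2 ∣ a * b) ↔ (2 ∣ a ∨ 2 ∣ b) := Nat.prime_two.dvd_mul
  have h3 : (3 ∣ a * b) ↔ (3 ∣ a ∨ 3 ∣ b) := Nat.prime_three.dvd_mul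
  have n2 : ¬ (2 ∣ a ∧ 2 ∣ b) := fun ⟨ha, hb⟩ => by
    have := Nat.dvd_gcd ha hb
    rw [h] at this
    omega
  have n3 : ¬ (3 ∣ a ∧ 3 ∣ b) := fun ⟨ha, hb⟩ => by
    have := Nat.dvd_gcd ha hb
    rw [h] at this
    omega
  have e2 : (if 2 ∣ a * b then 4 else 1) =
      (if 2 ∣ a then 4 else 1) * (if 2 ∣ b then 4 else 1) := by
    by_cases a2 : 2 ∣ a <;> by_cases b2 : 2 ∣ b
    · exact absurd ⟨a2, b2⟩ n2
    · rw [if_pos (h2.mpr (Or.inl a2)), if_pos a2, if_neg b2]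
    · rw [if_pos (h2.mpr (Or.inr b2)), if_neg a2, if_pos b2]
    · rw [if_neg (by rw [h2]; tauto), if_neg a2, if_neg b2]
  have e3 : (if 3 ∣ a * b then 9 else 8) * 8 =
      (if 3 ∣ a then 9 else 8) * (if 3 ∣ b then 9 else 8) := by
    by_cases a3 : 3 ∣ a <;> by_cases b3 : 3 ∣ b
    · exact absurd ⟨a3, b3⟩ n3
    · rw [if_pos (h3.mpr (Or.inl a3)), if_pos a3, if_neg b3]
    · rw [if_pos (h3.mpr (Or.inr b3)), if_neg a3, if_pos b3]
    · rw [if_neg (by rw [h3]; tauto), if_neg a3, if_neg b3]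
  rw [mul_assoc, e3, e2]
  ring

theorem totient_cube_aux (n : ℕ) : 8 * n ^ 2 ≤ cf n * n.totient ^ 3 := by
  induction n using Nat.recOnPosPrimePosCoprime with
  | prime_pow p k hp hk =>
    obtain ⟨j, rfl⟩ : ∃ j, k = j + 1 := ⟨k - 1, by omega⟩
    rw [Nat.totient_prime_pow hp hk]
    simp only [Nat.add_sub_cancel]
    have hdvd : ∀ r : ℕ, r.Prime → (r ∣ p ^ (j + 1) ↔ r = p) := by
      intro r hr
      constructor
      · intro h; exact (Nat.prime_dvd_prime_iff_eq hr hp).mp (hr.dvd_of_dvd_pow h)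
      · rintro rfl; exact dvd_pow_self _ (by omega)
    unfold cf
    rw [if_congr (hdvd 2 Nat.prime_two) rfl rfl, if_congr (hdvd 3 Nat.prime_three) rfl rfl]
    rcases (show p = 2 ∨ p = 3 ∨ 5 ≤ p by
      have := hp.two_le
      rcases (show p = 2 ∨ p = 3 ∨ p = 4 ∨ 5 ≤ p by omega) with h | h | h | h
      · exact Or.inl h
      · exact Or.inr (Or.inl h)
      · subst h; exact absurd hp (by norm_num)
      · exact Or.inr (Or.inr h)) with rfl | rfl | h5
    · simp only [if_true]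
      norm_num
      have : (4 : ℕ) ^ j ≤ 8 ^ j := Nat.pow_le_pow_left (by norm_num) j
      calc 8 * (2 ^ (j + 1)) ^ 2 = 32 * 4 ^ j := by
            rw [← pow_mul, show (j + 1) * 2 = 2 * j + 2 by ring, pow_add, pow_mul]; ring
        _ ≤ 32 * 8 ^ j := Nat.mul_le_mul_left _ this
        _ = 32 * (2 ^ j) ^ 3 := by rw [← pow_mul, mul_comm j 3, pow_mul]; norm_num
    · norm_num
      have : (9 : ℕ) ^ j ≤ 27 ^ j := Nat.pow_le_pow_left (by norm_num) j
      calc 8 * (3 ^ (j + 1)) ^ 2 = 72 * 9 ^ j := by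
            rw [← pow_mul, show (j + 1) * 2 = 2 * j + 2 by ring, pow_add, pow_mul]; ring
        _ ≤ 72 * 27 ^ j := Nat.mul_le_mul_left _ this
        _ = 9 * (3 ^ j * 2) ^ 3 := by
            rw [mul_pow, ← pow_mul, mul_comm j 3, pow_mul]; norm_num; ring
    · have h2 : (2 : ℕ) ≠ p := by omega
      have h3 : (3 : ℕ) ≠ p := by omega
      rw [if_neg h2, if_neg h3]
      have hp1 : p ^ 2 ≤ (p - 1) ^ 3 := by
        obtain ⟨t, rfl⟩ : ∃ t, p = t + 5 := ⟨p - 5, by omega⟩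
        simp only [show t + 5 - 1 = t + 4 by omega]
        nlinarith [sq_nonneg t, Nat.zero_le (t ^ 3)]
      have hpj : p ^ (2 * j) ≤ p ^ (3 * j) := Nat.pow_le_pow_right hp.pos (by omega)
      calc 8 * (p ^ (j + 1)) ^ 2 = 8 * (p ^ (2 * j) * p ^ 2) := by
            rw [← pow_mul, show (j + 1) * 2 = 2 * j + 2 by ring, pow_add]
        _ ≤ 8 * (p ^ (3 * j) * (p - 1) ^ 3) := by
            apply Nat.mul_le_mul_left
            exact Nat.mul_le_mul hpj hp1
        _ = 1 * 8 * (p ^ j * (p - 1)) ^ 3 := by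
            rw [mul_pow, ← pow_mul, mul_comm j 3, one_mul]
  | zero => simp
  | one => simp [cf]
  | coprime a b ha hb hab iha ihb =>
    rw [Nat.totient_mul hab]
    have h1 := Nat.mul_le_mul iha ihb
    have h2 : 8 * (8 * (a * b) ^ 2) ≤ 8 * (cf (a * b) * (a.totient * b.totient) ^ 3) := by
      calc 8 * (8 * (a * b) ^ 2) = 8 * a ^ 2 * (8 * b ^ 2) := by ring
        _ ≤ cf a * a.totient ^ 3 * (cf b * b.totient ^ 3) := h1
        _ = (cf a * cf b) * (a.totient * b.totient) ^ 3 := by ring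
        _ = 8 * (cf (a * b) * (a.totient * b.totient) ^ 3) := by rw [← cf_mul hab]; ring
    exact Nat.le_of_mul_le_mul_left h2 (by norm_num)

theorem cf_le (n : ℕ) : cf n ≤ 36 := by
  unfold cf
  split_ifs <;> norm_num

/-- `2 n² ≤ 9 φ(n)³`. -/
theorem totient_cube (n : ℕ) : 2 * n ^ 2 ≤ 9 * n.totient ^ 3 := by
  have h1 := totient_cube_aux n
  have h2 : cf n * n.totient ^ 3 ≤ 36 * n.totient ^ 3 := Nat.mul_le_mul_right _ (cf_le n)
  omega

end Cfsg.Agent.Lib.Helper1.LargeZsig
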