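import Mathlib
import Cfsg.Agent.Lib.Helper1.LargeZsig3

set_option autoImplicit false

namespace Cfsg.Agent.Lib.Helper1.LargeZsig

theorem pow_two_ge {s : ℕ} (hs : 17 ≤ s) : 18 * s ^ 3 ≤ 2 ^ s := by
  induction s, hs using Nat.le_induction with
  | base => norm_num
  | succ s hs ih =>
    have h1 : (s + 1) ^ 3 ≤ 2 * s ^ 3 := by
      obtain ⟨t, rfl⟩ : ∃ t, s = t + 17 := ⟨s - 17, by omega⟩
      nlinarith [sq_nonneg t, Nat.zero_le (t ^ 3)]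
    calc 18 * (s + 1) ^ 3 ≤ 18 * (2 * s ^ 3) := Nat.mul_le_mul_left _ h1
      _ = 2 * (18 * s ^ 3) := by ring
      _ ≤ 2 * 2 ^ s := Nat.mul_le_mul_left _ ih
      _ = 2 ^ (s + 1) := by rw [pow_succ]; ring

theorem pow_eight_ge {s : ℕ} (hs : 24 ≤ s) : 104976 * s ^ 12 ≤ 8 ^ s := by
  induction s, hs using Nat.le_induction with
  | base => norm_num
  | succ s hs ih =>
    have h1 : (s + 1) ^ 4 ≤ 2 * s ^ 4 := by
      obtain ⟨t, rfl⟩ : ∃ t, s = t + 24 := ⟨s - 24, by omega⟩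
      nlinarith [sq_nonneg t, Nat.zero_le (t ^ 3), Nat.zero_le (t ^ 4), sq_nonneg (t ^ 2)]
    have h2 : (s + 1) ^ 12 ≤ 8 * s ^ 12 := by
      calc (s + 1) ^ 12 = ((s + 1) ^ 4) ^ 3 := by rw [← pow_mul]
        _ ≤ (2 * s ^ 4) ^ 3 := Nat.pow_le_pow_left h1 3
        _ = 8 * s ^ 12 := by rw [mul_pow, ← pow_mul]; norm_num
    calc 104976 * (s + 1) ^ 12 ≤ 104976 * (8 * s ^ 12) := Nat.mul_le_mul_left _ h2
      _ = 8 * (104976 * s ^ 12) := by ring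
      _ ≤ 8 * 8 ^ s := Nat.mul_le_mul_left _ ih
      _ = 8 ^ (s + 1) := by rw [pow_succ]; ring

theorem totient_ge_17 {n : ℕ} (hn : 136 ≤ n) : 17 ≤ n.totient := by
  by_contra hlt
  push Not at hlt
  have h1 := totient_cube n
  have h2 : n.totient ^ 3 ≤ 16 ^ 3 := Nat.pow_le_pow_left (by omega) 3
  have h3 : 136 ^ 2 ≤ n ^ 2 := Nat.pow_le_pow_left hn 2
  norm_num at h2 h3
  omega

theorem totient_ge_24 {n : ℕ} (hn : 240 ≤ n) : 24 ≤ n.totient := by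
  by_contra hlt
  push Not at hlt
  have h1 := totient_cube n
  have h2 : n.totient ^ 3 ≤ 23 ^ 3 := Nat.pow_le_pow_left (by omega) 3
  have h3 : 240 ^ 2 ≤ n ^ 2 := Nat.pow_le_pow_left hn 2
  norm_num at h2 h3
  omega

theorem four_sq_le_two_pow {n : ℕ} (hn : 136 ≤ n) : 4 * n ^ 2 ≤ 2 ^ n.totient := by
  have h1 := totient_cube n
  have h2 := pow_two_ge (totient_ge_17 hn)
  omega

theorem four_sq_pow_le_eight_pow {n : ℕ} (hn : 240 ≤ n) : (4 * n ^ 2) ^ 4 ≤ 8 ^ n.totient := by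
  have h1 := totient_cube n
  have h2 := pow_eight_ge (totient_ge_24 hn)
  have h3 : 4 * n ^ 2 ≤ 18 * n.totient ^ 3 := by omega
  calc (4 * n ^ 2) ^ 4 ≤ (18 * n.totient ^ 3) ^ 4 := Nat.pow_le_pow_left h3 4
    _ = 104976 * n.totient ^ 12 := by rw [mul_pow, ← pow_mul]; norm_num
    _ ≤ 8 ^ n.totient := h2

set_option maxRecDepth 100000 in
theorem small_two_3430 : ∀ n < 240, 3 ≤ n →
    n ∉ [3, 4, 5, 6, 7, 8, 9, 10, 12, 14, 15, 16, 18, 20, 22, 24, 26, 28, 30, 36, 42] →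
    (n * (n + 1)) ^ 4 < 8 ^ n.totient := by decide +kernel

set_option maxRecDepth 100000 in
theorem small_ge3_3430 : ∀ n < 136, 3 ≤ n →
    n ∉ [3, 4, 5, 6, 8, 9, 10, 12, 14, 16, 18, 20, 24, 30] →
    n * (n + 1) < 2 ^ n.totient := by decide +kernel

set_option maxRecDepth 100000 in
theorem small_two_4423 : ∀ n < 240, 3 ≤ n →
    n ∉ [3, 4, 5, 6, 7, 8, 9, 10, 11, 12, 13, 14, 15, 16, 18, 20, 21, 22, 24, 26, 28, 30, 36, 40,
      42, 48, 60] →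
    (n * (3 * n + 1)) ^ 4 ≤ 8 ^ n.totient := by decide +kernel

set_option maxRecDepth 100000 in
theorem small_ge3_4423 : ∀ n < 136, 3 ≤ n →
    n ∉ [3, 4, 5, 6, 7, 8, 9, 10, 12, 14, 15, 16, 18, 20, 22, 24, 30, 42] →
    n * (3 * n + 1) ≤ 2 ^ n.totient := by decide +kernel

end Cfsg.Agent.Lib.Helper1.LargeZsig
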