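import Mathlib
import Cfsg.Agent.Lib.Helper1.LargeZsig4

set_option autoImplicit false

namespace Cfsg.Agent.Lib.Helper1.LargeZsig

open Cfsg.Agent.Lib.Helper19.Zsigmondy

/-- The conclusion of Feit's theorem. -/
def Large (q n : ℕ) : Prop :=
  ∃ p : ℕ, p.Prime ∧ p ∣ q ^ n - 1 ∧ (∀ i : ℕ, 1 ≤ i → i < n → ¬ p ∣ q ^ i - 1) ∧
    (n + 1 < p ∨ p ^ 2 ∣ q ^ n - 1)

theorem large_of_lt {a n : ℕ} (ha : 2 ≤ a) (hn : 3 ≤ n) (hN : n * (n + 1) < cyc a n) :
    Large a n := by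
  obtain ⟨p, hp, hl⟩ := exists_large_of_lt ha hn hN
  exact ⟨p, hp.1, hp.2.1, fun i hi hin => hp.2.2 i (by omega) hin, hl⟩

theorem mk_large (q n p : ℕ) (hp : p.Prime) (hd : p ∣ q ^ n - 1)
    (hnd : ∀ i < n, 1 ≤ i → ¬ p ∣ q ^ i - 1) (hl : n + 1 < p ∨ p ^ 2 ∣ q ^ n - 1) : Large q n :=
  ⟨p, hp, hd, fun i hi hin => hnd i hin hi, hl⟩

/-- Base 2, generic `n`. -/
theorem large_two {n : ℕ} (hn : 3 ≤ n)
    (hF : n ∉ [3, 4, 5, 6, 7, 8, 9, 10, 12, 14, 15, 16, 18, 20, 22, 24, 26, 28, 30, 36, 42]) :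
    Large 2 n := by
  apply large_of_lt (by norm_num) hn
  have h36 : n ≠ 3 ∧ n ≠ 6 := by
    constructor <;> rintro rfl <;> simp at hF
  have hb := two_bound (n := n) (by omega) (by omega) (by omega) h36.1 h36.2
  have hlt : (n * (n + 1)) ^ 4 < 8 ^ n.totient := by
    by_cases hsm : n < 240
    · exact small_two_3430 n hsm hn hF
    · have h1 := four_sq_pow_le_eight_pow (n := n) (by omega)
      have h2 : n * (n + 1) < 4 * n ^ 2 := by nlinarith
      exact lt_of_lt_of_le (Nat.pow_lt_pow_left h2 (by norm_num)) h1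
  exact lt_of_pow_lt_pow_left₀ 4 (Nat.zero_le _) (lt_of_lt_of_le hlt hb)

/-- Base at least 3, generic `n`. -/
theorem large_ge3 {a n : ℕ} (ha : 3 ≤ a) (hn : 3 ≤ n)
    (hF : n ∉ [3, 4, 5, 6, 8, 9, 10, 12, 14, 16, 18, 20, 24, 30]) : Large a n := by
  apply large_of_lt (by omega) hn
  have hlt : n * (n + 1) < 2 ^ n.totient := by
    by_cases hsm : n < 136
    · exact small_ge3_3430 n hsm hn hF
    · have h1 := four_sq_le_two_pow (n := n) (by omega)
      have h2 : n * (n + 1) < 4 * n ^ 2 := by nlinarith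
      omega
  have h2 : 2 ^ n.totient ≤ (a - 1) ^ n.totient := Nat.pow_le_pow_left (by omega) _
  exact lt_of_lt_of_le hlt (h2.trans (cyc_gt (by omega) (by omega)).le)

/-- Base at least `b + 1`, specific `n` with known totient. -/
theorem large_of_base {a n b k : ℕ} (ha : b + 1 ≤ a) (hb : 1 ≤ b) (hn : 3 ≤ n)
    (hk : n.totient = k) (hlt : n * (n + 1) < b ^ k) : Large a n := by
  apply large_of_lt (by omega) hn
  have h2 : b ^ k ≤ (a - 1) ^ n.totient := by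
    rw [hk]; exact Nat.pow_le_pow_left (by omega) _
  exact lt_of_lt_of_le hlt (h2.trans (cyc_gt (by omega) (by omega)).le)

/-- The case `n = 2`. -/
theorem large_two_exp {q : ℕ} (hq : 2 ≤ q)
    (h1 : ¬ ∃ s t : ℕ, t ≤ 1 ∧ q + 1 = 2 ^ s * 3 ^ t) : Large q 2 := by
  have hfac : q ^ 2 - 1 = (q + 1) * (q - 1) := by
    have := Nat.sq_sub_sq q 1
    simpa using this
  have hdvd : q + 1 ∣ q ^ 2 - 1 := ⟨q - 1, hfac⟩
  have hnot : ∀ p : ℕ, p.Prime → p ≠ 2 → p ∣ q + 1 → ¬ p ∣ q - 1 := by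
    intro p hp hp2 hpq hpq'
    have h3 : p ∣ (q + 1) - (q - 1) := Nat.dvd_sub hpq hpq'
    have h4 : (q + 1) - (q - 1) = 2 := by omega
    rw [h4] at h3
    exact hp2 ((Nat.prime_dvd_prime_iff_eq hp Nat.prime_two).mp h3)
  obtain ⟨s, M1, hM1, hs⟩ := Nat.exists_eq_pow_mul_and_not_dvd (n := q + 1) (by omega) 2 (by norm_num)
  have hM1pos : M1 ≠ 0 := by rintro rfl; simp at hs
  obtain ⟨t, M2, hM2, ht⟩ := Nat.exists_eq_pow_mul_and_not_dvd (n := M1) hM1pos 3 (by norm_num)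
  by_cases hM2one : M2 = 1
  · subst hM2one
    rw [mul_one] at ht
    have ht2 : 2 ≤ t := by
      by_contra hlt
      exact h1 ⟨s, t, by omega, by rw [hs, ht]⟩
    have h9 : 3 ^ 2 ∣ q + 1 := by
      rw [hs, ht]
      exact Dvd.dvd.mul_left (pow_dvd_pow 3 ht2) _
    have h3 : 3 ∣ q + 1 := (by norm_num : 3 ∣ 3 ^ 2).trans h9
    refine ⟨3, Nat.prime_three, h3.trans hdvd, ?_, Or.inr (h9.trans hdvd)⟩
    intro i hi hi2
    have : i = 1 := by omega
    subst this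
    rw [pow_one]
    exact hnot 3 Nat.prime_three (by norm_num) h3
  · obtain ⟨p, hp, hpM2⟩ := Nat.exists_prime_and_dvd hM2one
    have hpM1 : p ∣ M1 := by rw [ht]; exact Dvd.dvd.mul_left hpM2 _
    have hpq : p ∣ q + 1 := by rw [hs]; exact Dvd.dvd.mul_left hpM1 _
    have hp2 : p ≠ 2 := by rintro rfl; exact hM1 hpM1
    have hp3 : p ≠ 3 := by rintro rfl; exact hM2 hpM2
    have hp5 : 3 < p := by
      have := hp.two_le
      rcases (show p = 2 ∨ p = 3 ∨ 3 < p by omega) with h | h | h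
      · exact absurd h hp2
      · exact absurd h hp3
      · exact h
    refine ⟨p, hp, hpq.trans hdvd, ?_, Or.inl hp5⟩
    intro i hi hi2
    have : i = 1 := by omega
    subst this
    rw [pow_one]
    exact hnot p hp hp2 hpq

end Cfsg.Agent.Lib.Helper1.LargeZsig
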