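import Mathlib
import Cfsg.Agent.Lib.Helper1.LargeZsig5

set_option autoImplicit false

namespace Cfsg.Agent.Lib.Helper1.LargeZsig

set_option maxRecDepth 100000 in
theorem feit_two {n : ℕ} (hn : 3 ≤ n)
    (h2 : ¬ (n = 4 ∨ n = 6 ∨ n = 10 ∨ n = 12 ∨ n = 18)) : Large 2 n := by
  by_cases hF : n ∈ [3, 4, 5, 6, 7, 8, 9, 10, 12, 14, 15, 16, 18, 20, 22, 24, 26, 28, 30, 36, 42]
  · simp only [List.mem_cons, List.mem_nil_iff, or_false] at hF
    rcases hF with rfl | rfl | rfl | rfl | rfl | rfl | rfl | rfl | rfl | rfl | rfl | rfl | rfl | rfl | rfl | rfl | rfl | rfl | rfl | rfl | rfl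
    · exact mk_large 2 3 7 (by norm_num) (by decide +kernel) (by decide +kernel) (Or.inl (by norm_num))
    · exact absurd (by simp) h2
    · exact mk_large 2 5 31 (by norm_num) (by decide +kernel) (by decide +kernel) (Or.inl (by norm_num))
    · exact absurd (by simp) h2
    · exact mk_large 2 7 127 (by norm_num) (by decide +kernel) (by decide +kernel) (Or.inl (by norm_num))
    · exact mk_large 2 8 17 (by norm_num) (by decide +kernel) (by decide +kernel) (Or.inl (by norm_num))
    · exact mk_large 2 9 73 (by norm_num) (by decide +kernel) (by decide +kernel) (Or.inl (by norm_num))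
    · exact absurd (by simp) h2
    · exact absurd (by simp) h2
    · exact mk_large 2 14 43 (by norm_num) (by decide +kernel) (by decide +kernel) (Or.inl (by norm_num))
    · exact mk_large 2 15 151 (by norm_num) (by decide +kernel) (by decide +kernel) (Or.inl (by norm_num))
    · exact mk_large 2 16 257 (by norm_num) (by decide +kernel) (by decide +kernel) (Or.inl (by norm_num))
    · exact absurd (by simp) h2
    · exact mk_large 2 20 41 (by norm_num) (by decide +kernel) (by decide +kernel) (Or.inl (by norm_num))
    · exact mk_large 2 22 683 (by norm_num) (by decide +kernel) (by decide +kernel) (Or.inl (by norm_num))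
    · exact mk_large 2 24 241 (by norm_num) (by decide +kernel) (by decide +kernel) (Or.inl (by norm_num))
    · exact mk_large 2 26 2731 (by norm_num) (by decide +kernel) (by decide +kernel) (Or.inl (by norm_num))
    · exact mk_large 2 28 113 (by norm_num) (by decide +kernel) (by decide +kernel) (Or.inl (by norm_num))
    · exact mk_large 2 30 331 (by norm_num) (by decide +kernel) (by decide +kernel) (Or.inl (by norm_num))
    · exact mk_large 2 36 109 (by norm_num) (by decide +kernel) (by decide +kernel) (Or.inl (by norm_num))
    · exact mk_large 2 42 5419 (by norm_num) (by decide +kernel) (by decide +kernel) (Or.inl (by norm_num))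
  · exact large_two hn hF

set_option maxRecDepth 100000 in
theorem feit_ge3 {q n : ℕ} (hq : 3 ≤ q) (hn : 3 ≤ n)
    (h3 : ¬ (q = 3 ∧ (n = 4 ∨ n = 6))) (h4 : ¬ (q = 5 ∧ n = 6)) : Large q n := by
  by_cases hF : n ∈ [3, 4, 5, 6, 8, 9, 10, 12, 14, 16, 18, 20, 24, 30]
  · simp only [List.mem_cons, List.mem_nil_iff, or_false] at hF
    rcases hF with rfl | rfl | rfl | rfl | rfl | rfl | rfl | rfl | rfl | rfl | rfl | rfl | rfl | rfl
    · by_cases hb : 4 + 1 ≤ q
      · exact large_of_base (b := 4) (k := 2) hb (by norm_num) (by norm_num) (by decide) (by norm_num)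
      · have hq' : q < 5 := by omega
        interval_cases q
        · exact mk_large 3 3 13 (by norm_num) (by decide +kernel) (by decide +kernel) (Or.inl (by norm_num))
        · exact mk_large 4 3 7 (by norm_num) (by decide +kernel) (by decide +kernel) (Or.inl (by norm_num))
    · by_cases hb : 5 + 1 ≤ q
      · exact large_of_base (b := 5) (k := 2) hb (by norm_num) (by norm_num) (by decide) (by norm_num)
      · have hq' : q < 6 := by omega
        interval_cases q
        · exact absurd (by simp) h3
        · exact mk_large 4 4 17 (by norm_num) (by decide +kernel) (by decide +kernel) (Or.inl (by norm_num))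
        · exact mk_large 5 4 13 (by norm_num) (by decide +kernel) (by decide +kernel) (Or.inl (by norm_num))
    · by_cases hb : 3 + 1 ≤ q
      · exact large_of_base (b := 3) (k := 4) hb (by norm_num) (by norm_num) (by decide) (by norm_num)
      · have hq' : q < 4 := by omega
        interval_cases q
        · exact mk_large 3 5 11 (by norm_num) (by decide +kernel) (by decide +kernel) (Or.inl (by norm_num))
    · by_cases hb : 7 + 1 ≤ q
      · exact large_of_base (b := 7) (k := 2) hb (by norm_num) (by norm_num) (by decide) (by norm_num)
      · have hq' : q < 8 := by omega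
        interval_cases q
        · exact absurd (by simp) h3
        · exact mk_large 4 6 13 (by norm_num) (by decide +kernel) (by decide +kernel) (Or.inl (by norm_num))
        · exact absurd (by simp) h4
        · exact mk_large 6 6 31 (by norm_num) (by decide +kernel) (by decide +kernel) (Or.inl (by norm_num))
        · exact mk_large 7 6 43 (by norm_num) (by decide +kernel) (by decide +kernel) (Or.inl (by norm_num))
    · by_cases hb : 3 + 1 ≤ q
      · exact large_of_base (b := 3) (k := 4) hb (by norm_num) (by norm_num) (by decide) (by norm_num)
      · have hq' : q < 4 := by omega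
        interval_cases q
        · exact mk_large 3 8 41 (by norm_num) (by decide +kernel) (by decide +kernel) (Or.inl (by norm_num))
    · by_cases hb : 3 + 1 ≤ q
      · exact large_of_base (b := 3) (k := 6) hb (by norm_num) (by norm_num) (by decide) (by norm_num)
      · have hq' : q < 4 := by omega
        interval_cases q
        · exact mk_large 3 9 757 (by norm_num) (by decide +kernel) (by decide +kernel) (Or.inl (by norm_num))
    · by_cases hb : 4 + 1 ≤ q
      · exact large_of_base (b := 4) (k := 4) hb (by norm_num) (by norm_num) (by decide) (by norm_num)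
      · have hq' : q < 5 := by omega
        interval_cases q
        · exact mk_large 3 10 61 (by norm_num) (by decide +kernel) (by decide +kernel) (Or.inl (by norm_num))
        · exact mk_large 4 10 41 (by norm_num) (by decide +kernel) (by decide +kernel) (Or.inl (by norm_num))
    · by_cases hb : 4 + 1 ≤ q
      · exact large_of_base (b := 4) (k := 4) hb (by norm_num) (by norm_num) (by decide) (by norm_num)
      · have hq' : q < 5 := by omega
        interval_cases q
        · exact mk_large 3 12 73 (by norm_num) (by decide +kernel) (by decide +kernel) (Or.inl (by norm_num))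
        · exact mk_large 4 12 241 (by norm_num) (by decide +kernel) (by decide +kernel) (Or.inl (by norm_num))
    · by_cases hb : 3 + 1 ≤ q
      · exact large_of_base (b := 3) (k := 6) hb (by norm_num) (by norm_num) (by decide) (by norm_num)
      · have hq' : q < 4 := by omega
        interval_cases q
        · exact mk_large 3 14 547 (by norm_num) (by decide +kernel) (by decide +kernel) (Or.inl (by norm_num))
    · by_cases hb : 3 + 1 ≤ q
      · exact large_of_base (b := 3) (k := 8) hb (by norm_num) (by norm_num) (by decide) (by norm_num)
      · have hq' : q < 4 := by omega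
        interval_cases q
        · exact mk_large 3 16 193 (by norm_num) (by decide +kernel) (by decide +kernel) (Or.inl (by norm_num))
    · by_cases hb : 3 + 1 ≤ q
      · exact large_of_base (b := 3) (k := 6) hb (by norm_num) (by norm_num) (by decide) (by norm_num)
      · have hq' : q < 4 := by omega
        interval_cases q
        · exact mk_large 3 18 37 (by norm_num) (by decide +kernel) (by decide +kernel) (Or.inl (by norm_num))
    · by_cases hb : 3 + 1 ≤ q
      · exact large_of_base (b := 3) (k := 8) hb (by norm_num) (by norm_num) (by decide) (by norm_num)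
      · have hq' : q < 4 := by omega
        interval_cases q
        · exact mk_large 3 20 1181 (by norm_num) (by decide +kernel) (by decide +kernel) (Or.inl (by norm_num))
    · by_cases hb : 3 + 1 ≤ q
      · exact large_of_base (b := 3) (k := 8) hb (by norm_num) (by norm_num) (by decide) (by norm_num)
      · have hq' : q < 4 := by omega
        interval_cases q
        · exact mk_large 3 24 6481 (by norm_num) (by decide +kernel) (by decide +kernel) (Or.inl (by norm_num))
    · by_cases hb : 3 + 1 ≤ q
      · exact large_of_base (b := 3) (k := 8) hb (by norm_num) (by norm_num) (by decide) (by norm_num)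
      · have hq' : q < 4 := by omega
        interval_cases q
        · exact mk_large 3 30 271 (by norm_num) (by decide +kernel) (by decide +kernel) (Or.inl (by norm_num))
  · exact large_ge3 hq hn hF

/-- Feit's theorem on large Zsigmondy primes. -/
theorem feit (q n : ℕ) (hq : 2 ≤ q) (hn : 2 ≤ n)
    (h1 : ¬ (n = 2 ∧ ∃ s t : ℕ, t ≤ 1 ∧ q + 1 = 2 ^ s * 3 ^ t))
    (h2 : ¬ (q = 2 ∧ (n = 4 ∨ n = 6 ∨ n = 10 ∨ n = 12 ∨ n = 18)))
    (h3 : ¬ (q = 3 ∧ (n = 4 ∨ n = 6))) (h4 : ¬ (q = 5 ∧ n = 6)) : Large q n := by
  rcases (show n = 2 ∨ 3 ≤ n by omega) with rfl | hn3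
  · exact large_two_exp hq (fun h => h1 ⟨rfl, h⟩)
  · rcases (show q = 2 ∨ 3 ≤ q by omega) with rfl | hq3
    · exact feit_two hn3 (fun h => h2 ⟨rfl, h⟩)
    · exact feit_ge3 hq3 hn3 h3 h4

end Cfsg.Agent.Lib.Helper1.LargeZsig
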