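import Mathlib
import Cfsg.Agent.Lib.Helper1.LargeZsig5

set_option autoImplicit false

namespace Cfsg.Agent.Lib.Helper1.LargeZsig

/-- Existence of a primitive divisor of size at least `3e + 1`. -/
def Big (q e : ℕ) : Prop :=
  ∃ m : ℕ, m ∣ q ^ e - 1 ∧ (∀ i : ℕ, 1 ≤ i → i < e → Nat.Coprime m (q ^ i - 1)) ∧ 3 * e + 1 ≤ m

theorem big_of_le {a n : ℕ} (ha : 2 ≤ a) (hn : 3 ≤ n) (hN : n * (3 * n + 1) ≤ cyc a n) :
    Big a n := exists_prim_divisor_ge ha hn (3 * n + 1) hN

theorem mk_big (q e m : ℕ) (hd : m ∣ q ^ e - 1)
    (hc : ∀ i < e, 1 ≤ i → Nat.Coprime m (q ^ i - 1)) (hl : 3 * e + 1 ≤ m) : Big q e :=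
  ⟨m, hd, fun i hi hie => hc i hie hi, hl⟩

theorem big_two {n : ℕ} (hn : 3 ≤ n)
    (hF : n ∉ [3, 4, 5, 6, 7, 8, 9, 10, 11, 12, 13, 14, 15, 16, 18, 20, 21, 22, 24, 26, 28, 30, 36,
      40, 42, 48, 60]) : Big 2 n := by
  apply big_of_le (by norm_num) hn
  have h36 : n ≠ 3 ∧ n ≠ 6 := by
    constructor <;> rintro rfl <;> simp at hF
  have hb := two_bound (n := n) (by omega) (by omega) (by omega) h36.1 h36.2
  have hle : (n * (3 * n + 1)) ^ 4 ≤ 8 ^ n.totient := by
    by_cases hsm : n < 240
    · exact small_two_4423 n hsm hn hF
    · have h1 := four_sq_pow_le_eight_pow (n := n) (by omega)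
      have h2 : n * (3 * n + 1) ≤ 4 * n ^ 2 := by nlinarith
      exact (Nat.pow_le_pow_left h2 4).trans h1
  exact le_of_pow_le_pow_left₀ (by norm_num) (Nat.zero_le _) (hle.trans hb)

theorem big_ge3 {a n : ℕ} (ha : 3 ≤ a) (hn : 3 ≤ n)
    (hF : n ∉ [3, 4, 5, 6, 7, 8, 9, 10, 12, 14, 15, 16, 18, 20, 22, 24, 30, 42]) : Big a n := by
  apply big_of_le (by omega) hn
  have hle : n * (3 * n + 1) ≤ 2 ^ n.totient := by
    by_cases hsm : n < 136
    · exact small_ge3_4423 n hsm hn hF
    · have h1 := four_sq_le_two_pow (n := n) (by omega)
      have h2 : n * (3 * n + 1) ≤ 4 * n ^ 2 := by nlinarith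
      omega
  have h2 : 2 ^ n.totient ≤ (a - 1) ^ n.totient := Nat.pow_le_pow_left (by omega) _
  exact hle.trans (h2.trans (cyc_gt (by omega) (by omega)).le)

theorem big_of_base {a n b k : ℕ} (ha : b + 1 ≤ a) (hb : 1 ≤ b) (hn : 3 ≤ n)
    (hk : n.totient = k) (hle : n * (3 * n + 1) ≤ b ^ k) : Big a n := by
  apply big_of_le (by omega) hn
  have h2 : b ^ k ≤ (a - 1) ^ n.totient := by
    rw [hk]; exact Nat.pow_le_pow_left (by omega) _
  exact hle.trans (h2.trans (cyc_gt (by omega) (by omega)).le)

set_option maxRecDepth 100000 in
theorem hering_two {n : ℕ} (hn : 3 ≤ n)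
    (h2 : ¬ (n = 3 ∨ n = 4 ∨ n = 6 ∨ n = 8 ∨ n = 10 ∨ n = 12 ∨ n = 18 ∨ n = 20)) : Big 2 n := by
  by_cases hF : n ∈ [3, 4, 5, 6, 7, 8, 9, 10, 11, 12, 13, 14, 15, 16, 18, 20, 21, 22, 24, 26, 28, 30,
      36, 40, 42, 48, 60]
  · simp only [List.mem_cons, List.mem_nil_iff, or_false] at hF
    rcases hF with rfl | rfl | rfl | rfl | rfl | rfl | rfl | rfl | rfl | rfl | rfl | rfl | rfl | rfl | rfl | rfl | rfl | rfl | rfl | rfl | rfl | rfl | rfl | rfl | rfl | rfl | rfl
    · exact absurd (by simp) h2
    · exact absurd (by simp) h2
    · exact mk_big 2 5 31 (by decide +kernel) (by decide +kernel) (by norm_num)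
    · exact absurd (by simp) h2
    · exact mk_big 2 7 127 (by decide +kernel) (by decide +kernel) (by norm_num)
    · exact absurd (by simp) h2
    · exact mk_big 2 9 73 (by decide +kernel) (by decide +kernel) (by norm_num)
    · exact absurd (by simp) h2
    · exact mk_big 2 11 2047 (by decide +kernel) (by decide +kernel) (by norm_num)
    · exact absurd (by simp) h2
    · exact mk_big 2 13 8191 (by decide +kernel) (by decide +kernel) (by norm_num)
    · exact mk_big 2 14 43 (by decide +kernel) (by decide +kernel) (by norm_num)
    · exact mk_big 2 15 151 (by decide +kernel) (by decide +kernel) (by norm_num)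
    · exact mk_big 2 16 257 (by decide +kernel) (by decide +kernel) (by norm_num)
    · exact absurd (by simp) h2
    · exact absurd (by simp) h2
    · exact mk_big 2 21 337 (by decide +kernel) (by decide +kernel) (by norm_num)
    · exact mk_big 2 22 683 (by decide +kernel) (by decide +kernel) (by norm_num)
    · exact mk_big 2 24 241 (by decide +kernel) (by decide +kernel) (by norm_num)
    · exact mk_big 2 26 2731 (by decide +kernel) (by decide +kernel) (by norm_num)
    · exact mk_big 2 28 3277 (by decide +kernel) (by decide +kernel) (by norm_num)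
    · exact mk_big 2 30 331 (by decide +kernel) (by decide +kernel) (by norm_num)
    · exact mk_big 2 36 4033 (by decide +kernel) (by decide +kernel) (by norm_num)
    · exact mk_big 2 40 61681 (by decide +kernel) (by decide +kernel) (by norm_num)
    · exact mk_big 2 42 5419 (by decide +kernel) (by decide +kernel) (by norm_num)
    · exact mk_big 2 48 65281 (by decide +kernel) (by decide +kernel) (by norm_num)
    · exact mk_big 2 60 80581 (by decide +kernel) (by decide +kernel) (by norm_num)
  · exact big_two hn hF

set_option maxRecDepth 100000 in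
theorem hering_ge3 {q n : ℕ} (hq : 3 ≤ q) (hn : 3 ≤ n)
    (h3 : ¬ (q = 3 ∧ (n = 4 ∨ n = 6))) (h4 : ¬ (q = 4 ∧ (n = 3 ∨ n = 6)))
    (h5 : ¬ (q = 5 ∧ n = 6)) : Big q n := by
  by_cases hF : n ∈ [3, 4, 5, 6, 7, 8, 9, 10, 12, 14, 15, 16, 18, 20, 22, 24, 30, 42]
  · simp only [List.mem_cons, List.mem_nil_iff, or_false] at hF
    rcases hF with rfl | rfl | rfl | rfl | rfl | rfl | rfl | rfl | rfl | rfl | rfl | rfl | rfl | rfl | rfl | rfl | rfl | rfl
    · by_cases hb : 6 + 1 ≤ q
      · exact big_of_base (b := 6) (k := 2) hb (by norm_num) (by norm_num) (by decide) (by norm_num)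
      · have hq' : q < 7 := by omega
        interval_cases q
        · exact mk_big 3 3 13 (by decide +kernel) (by decide +kernel) (by norm_num)
        · exact absurd (by simp) h4
        · exact mk_big 5 3 31 (by decide +kernel) (by decide +kernel) (by norm_num)
        · exact mk_big 6 3 43 (by decide +kernel) (by decide +kernel) (by norm_num)
    · by_cases hb : 8 + 1 ≤ q
      · exact big_of_base (b := 8) (k := 2) hb (by norm_num) (by norm_num) (by decide) (by norm_num)
      · have hq' : q < 9 := by omega
        interval_cases q
        · exact absurd (by simp) h3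
        · exact mk_big 4 4 17 (by decide +kernel) (by decide +kernel) (by norm_num)
        · exact mk_big 5 4 13 (by decide +kernel) (by decide +kernel) (by norm_num)
        · exact mk_big 6 4 37 (by decide +kernel) (by decide +kernel) (by norm_num)
        · exact mk_big 7 4 25 (by decide +kernel) (by decide +kernel) (by norm_num)
        · exact mk_big 8 4 65 (by decide +kernel) (by decide +kernel) (by norm_num)
    · by_cases hb : 3 + 1 ≤ q
      · exact big_of_base (b := 3) (k := 4) hb (by norm_num) (by norm_num) (by decide) (by norm_num)
      · have hq' : q < 4 := by omega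
        interval_cases q
        · exact mk_big 3 5 121 (by decide +kernel) (by decide +kernel) (by norm_num)
    · by_cases hb : 11 + 1 ≤ q
      · exact big_of_base (b := 11) (k := 2) hb (by norm_num) (by norm_num) (by decide) (by norm_num)
      · have hq' : q < 12 := by omega
        interval_cases q
        · exact absurd (by simp) h3
        · exact absurd (by simp) h4
        · exact absurd (by simp) h5
        · exact mk_big 6 6 31 (by decide +kernel) (by decide +kernel) (by norm_num)
        · exact mk_big 7 6 43 (by decide +kernel) (by decide +kernel) (by norm_num)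
        · exact mk_big 8 6 19 (by decide +kernel) (by decide +kernel) (by norm_num)
        · exact mk_big 9 6 73 (by decide +kernel) (by decide +kernel) (by norm_num)
        · exact mk_big 10 6 91 (by decide +kernel) (by decide +kernel) (by norm_num)
        · exact mk_big 11 6 37 (by decide +kernel) (by decide +kernel) (by norm_num)
    · by_cases hb : 3 + 1 ≤ q
      · exact big_of_base (b := 3) (k := 6) hb (by norm_num) (by norm_num) (by decide) (by norm_num)
      · have hq' : q < 4 := by omega
        interval_cases q
        · exact mk_big 3 7 1093 (by decide +kernel) (by decide +kernel) (by norm_num)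
    · by_cases hb : 4 + 1 ≤ q
      · exact big_of_base (b := 4) (k := 4) hb (by norm_num) (by norm_num) (by decide) (by norm_num)
      · have hq' : q < 5 := by omega
        interval_cases q
        · exact mk_big 3 8 41 (by decide +kernel) (by decide +kernel) (by norm_num)
        · exact mk_big 4 8 257 (by decide +kernel) (by decide +kernel) (by norm_num)
    · by_cases hb : 3 + 1 ≤ q
      · exact big_of_base (b := 3) (k := 6) hb (by norm_num) (by norm_num) (by decide) (by norm_num)
      · have hq' : q < 4 := by omega
        interval_cases q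
        · exact mk_big 3 9 757 (by decide +kernel) (by decide +kernel) (by norm_num)
    · by_cases hb : 5 + 1 ≤ q
      · exact big_of_base (b := 5) (k := 4) hb (by norm_num) (by norm_num) (by decide) (by norm_num)
      · have hq' : q < 6 := by omega
        interval_cases q
        · exact mk_big 3 10 61 (by decide +kernel) (by decide +kernel) (by norm_num)
        · exact mk_big 4 10 41 (by decide +kernel) (by decide +kernel) (by norm_num)
        · exact mk_big 5 10 521 (by decide +kernel) (by decide +kernel) (by norm_num)
    · by_cases hb : 5 + 1 ≤ q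
      · exact big_of_base (b := 5) (k := 4) hb (by norm_num) (by norm_num) (by decide) (by norm_num)
      · have hq' : q < 6 := by omega
        interval_cases q
        · exact mk_big 3 12 73 (by decide +kernel) (by decide +kernel) (by norm_num)
        · exact mk_big 4 12 241 (by decide +kernel) (by decide +kernel) (by norm_num)
        · exact mk_big 5 12 601 (by decide +kernel) (by decide +kernel) (by norm_num)
    · by_cases hb : 3 + 1 ≤ q
      · exact big_of_base (b := 3) (k := 6) hb (by norm_num) (by norm_num) (by decide) (by norm_num)
      · have hq' : q < 4 := by omega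
        interval_cases q
        · exact mk_big 3 14 547 (by decide +kernel) (by decide +kernel) (by norm_num)
    · by_cases hb : 3 + 1 ≤ q
      · exact big_of_base (b := 3) (k := 8) hb (by norm_num) (by norm_num) (by decide) (by norm_num)
      · have hq' : q < 4 := by omega
        interval_cases q
        · exact mk_big 3 15 4561 (by decide +kernel) (by decide +kernel) (by norm_num)
    · by_cases hb : 3 + 1 ≤ q
      · exact big_of_base (b := 3) (k := 8) hb (by norm_num) (by norm_num) (by decide) (by norm_num)
      · have hq' : q < 4 := by omega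
        interval_cases q
        · exact mk_big 3 16 3281 (by decide +kernel) (by decide +kernel) (by norm_num)
    · by_cases hb : 4 + 1 ≤ q
      · exact big_of_base (b := 4) (k := 6) hb (by norm_num) (by norm_num) (by decide) (by norm_num)
      · have hq' : q < 5 := by omega
        interval_cases q
        · exact mk_big 3 18 703 (by decide +kernel) (by decide +kernel) (by norm_num)
        · exact mk_big 4 18 4033 (by decide +kernel) (by decide +kernel) (by norm_num)
    · by_cases hb : 3 + 1 ≤ q
      · exact big_of_base (b := 3) (k := 8) hb (by norm_num) (by norm_num) (by decide) (by norm_num)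
      · have hq' : q < 4 := by omega
        interval_cases q
        · exact mk_big 3 20 1181 (by decide +kernel) (by decide +kernel) (by norm_num)
    · by_cases hb : 3 + 1 ≤ q
      · exact big_of_base (b := 3) (k := 10) hb (by norm_num) (by norm_num) (by decide) (by norm_num)
      · have hq' : q < 4 := by omega
        interval_cases q
        · exact mk_big 3 22 44287 (by decide +kernel) (by decide +kernel) (by norm_num)
    · by_cases hb : 3 + 1 ≤ q
      · exact big_of_base (b := 3) (k := 8) hb (by norm_num) (by norm_num) (by decide) (by norm_num)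
      · have hq' : q < 4 := by omega
        interval_cases q
        · exact mk_big 3 24 6481 (by decide +kernel) (by decide +kernel) (by norm_num)
    · by_cases hb : 3 + 1 ≤ q
      · exact big_of_base (b := 3) (k := 8) hb (by norm_num) (by norm_num) (by decide) (by norm_num)
      · have hq' : q < 4 := by omega
        interval_cases q
        · exact mk_big 3 30 8401 (by decide +kernel) (by decide +kernel) (by norm_num)
    · by_cases hb : 3 + 1 ≤ q
      · exact big_of_base (b := 3) (k := 12) hb (by norm_num) (by norm_num) (by decide) (by norm_num)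
      · have hq' : q < 4 := by omega
        interval_cases q
        · exact mk_big 3 42 97567 (by decide +kernel) (by decide +kernel) (by norm_num)
  · exact big_ge3 hq hn hF

end Cfsg.Agent.Lib.Helper1.LargeZsig
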