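import Mathlib
import Cfsg.Agent.Lib.Helper1.LargeZsig7

set_option autoImplicit false

namespace Cfsg.Agent.Lib.Helper1.LargeZsig

theorem le_of_coprime {m A A' C : ℕ} (hA' : 0 < A') (hm : m ∣ A) (hA : A ∣ A' * C)
    (hc : Nat.Coprime m C) : m ≤ A' :=
  Nat.le_of_dvd hA' (hc.dvd_of_dvd_mul_right (hm.trans hA))

theorem hering_exceptions (q e : ℕ)
    (h : (q, e) ∈ [(2, 6), (2, 4), (2, 10), (2, 12), (2, 18), (3, 4), (3, 6), (5, 6), (2, 3), (2, 8),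
      (2, 20), (4, 3), (4, 6)]) (m : ℕ) (hm : m ∣ q ^ e - 1)
    (hc : ∀ i : ℕ, 1 ≤ i → i < e → Nat.Coprime m (q ^ i - 1)) : m ≤ 2 * e + 1 := by
  simp only [List.mem_cons, Prod.mk.injEq, List.mem_nil_iff, or_false] at h
  rcases h with ⟨rfl, rfl⟩ | ⟨rfl, rfl⟩ | ⟨rfl, rfl⟩ | ⟨rfl, rfl⟩ | ⟨rfl, rfl⟩ | ⟨rfl, rfl⟩ | ⟨rfl, rfl⟩ | ⟨rfl, rfl⟩ | ⟨rfl, rfl⟩ | ⟨rfl, rfl⟩ | ⟨rfl, rfl⟩ | ⟨rfl, rfl⟩ | ⟨rfl, rfl⟩
  · exact (le_of_coprime (A' := 1) (C := (2 ^ 3 - 1) ^ 1 * (2 ^ 2 - 1) ^ 2) (by norm_num) hm (by decide +kernel) (Nat.Coprime.mul_right (Nat.Coprime.pow_right 1 (hc 3 (by norm_num) (by norm_num))) (Nat.Coprime.pow_right 2 (hc 2 (by norm_num) (by norm_num))))).trans (by norm_num)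
  · exact (le_of_coprime (A' := 5) (C := (2 ^ 2 - 1) ^ 1) (by norm_num) hm (by decide +kernel) (Nat.Coprime.pow_right 1 (hc 2 (by norm_num) (by norm_num)))).trans (by norm_num)
  · exact (le_of_coprime (A' := 11) (C := (2 ^ 5 - 1) ^ 1 * (2 ^ 2 - 1) ^ 1) (by norm_num) hm (by decide +kernel) (Nat.Coprime.mul_right (Nat.Coprime.pow_right 1 (hc 5 (by norm_num) (by norm_num))) (Nat.Coprime.pow_right 1 (hc 2 (by norm_num) (by norm_num))))).trans (by norm_num)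
  · exact (le_of_coprime (A' := 13) (C := (2 ^ 6 - 1) ^ 1 * (2 ^ 4 - 1) ^ 1) (by norm_num) hm (by decide +kernel) (Nat.Coprime.mul_right (Nat.Coprime.pow_right 1 (hc 6 (by norm_num) (by norm_num))) (Nat.Coprime.pow_right 1 (hc 4 (by norm_num) (by norm_num))))).trans (by norm_num)
  · exact (le_of_coprime (A' := 19) (C := (2 ^ 9 - 1) ^ 1 * (2 ^ 6 - 1) ^ 1 * (2 ^ 2 - 1) ^ 1) (by norm_num) hm (by decide +kernel) (Nat.Coprime.mul_right (Nat.Coprime.mul_right (Nat.Coprime.pow_right 1 (hc 9 (by norm_num) (by norm_num))) (Nat.Coprime.pow_right 1 (hc 6 (by norm_num) (by norm_num)))) (Nat.Coprime.pow_right 1 (hc 2 (by norm_num) (by norm_num))))).trans (by norm_num)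
  · exact (le_of_coprime (A' := 5) (C := (3 ^ 2 - 1) ^ 1 * (3 ^ 1 - 1) ^ 1) (by norm_num) hm (by decide +kernel) (Nat.Coprime.mul_right (Nat.Coprime.pow_right 1 (hc 2 (by norm_num) (by norm_num))) (Nat.Coprime.pow_right 1 (hc 1 (by norm_num) (by norm_num))))).trans (by norm_num)
  · exact (le_of_coprime (A' := 7) (C := (3 ^ 3 - 1) ^ 1 * (3 ^ 2 - 1) ^ 1) (by norm_num) hm (by decide +kernel) (Nat.Coprime.mul_right (Nat.Coprime.pow_right 1 (hc 3 (by norm_num) (by norm_num))) (Nat.Coprime.pow_right 1 (hc 2 (by norm_num) (by norm_num))))).trans (by norm_num)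
  · exact (le_of_coprime (A' := 7) (C := (5 ^ 3 - 1) ^ 1 * (5 ^ 2 - 1) ^ 2) (by norm_num) hm (by decide +kernel) (Nat.Coprime.mul_right (Nat.Coprime.pow_right 1 (hc 3 (by norm_num) (by norm_num))) (Nat.Coprime.pow_right 2 (hc 2 (by norm_num) (by norm_num))))).trans (by norm_num)
  · exact (Nat.le_of_dvd (by norm_num) hm).trans (by norm_num)
  · exact (le_of_coprime (A' := 17) (C := (2 ^ 4 - 1) ^ 1) (by norm_num) hm (by decide +kernel) (Nat.Coprime.pow_right 1 (hc 4 (by norm_num) (by norm_num)))).trans (by norm_num)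
  · exact (le_of_coprime (A' := 41) (C := (2 ^ 10 - 1) ^ 1 * (2 ^ 4 - 1) ^ 2) (by norm_num) hm (by decide +kernel) (Nat.Coprime.mul_right (Nat.Coprime.pow_right 1 (hc 10 (by norm_num) (by norm_num))) (Nat.Coprime.pow_right 2 (hc 4 (by norm_num) (by norm_num))))).trans (by norm_num)
  · exact (le_of_coprime (A' := 7) (C := (4 ^ 1 - 1) ^ 2) (by norm_num) hm (by decide +kernel) (Nat.Coprime.pow_right 2 (hc 1 (by norm_num) (by norm_num)))).trans (by norm_num)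
  · exact (le_of_coprime (A' := 13) (C := (4 ^ 3 - 1) ^ 1 * (4 ^ 2 - 1) ^ 1) (by norm_num) hm (by decide +kernel) (Nat.Coprime.mul_right (Nat.Coprime.pow_right 1 (hc 3 (by norm_num) (by norm_num))) (Nat.Coprime.pow_right 1 (hc 2 (by norm_num) (by norm_num))))).trans (by norm_num)

/-- Hering's theorem on the size of the primitive part of `q ^ e - 1`. -/
theorem hering (q e : ℕ) (hq : 2 ≤ q) (he : 3 ≤ e) :
    ((q, e) ∉ [(2, 6), (2, 4), (2, 10), (2, 12), (2, 18), (3, 4), (3, 6), (5, 6), (2, 3), (2, 8),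
        (2, 20), (4, 3), (4, 6)] →
      ∃ m : ℕ, m ∣ q ^ e - 1 ∧ (∀ i : ℕ, 1 ≤ i → i < e → Nat.Coprime m (q ^ i - 1)) ∧
        3 * e + 1 ≤ m) ∧
    ((q, e) ∈ [(2, 6), (2, 4), (2, 10), (2, 12), (2, 18), (3, 4), (3, 6), (5, 6), (2, 3), (2, 8),
        (2, 20), (4, 3), (4, 6)] →
      ∀ m : ℕ, m ∣ q ^ e - 1 → (∀ i : ℕ, 1 ≤ i → i < e → Nat.Coprime m (q ^ i - 1)) →
        m ≤ 2 * e + 1) := by
  refine ⟨fun h => ?_, fun h m hm hc => hering_exceptions q e h m hm hc⟩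
  rcases (show q = 2 ∨ 3 ≤ q by omega) with rfl | hq3
  · apply hering_two he
    intro hcon
    apply h
    rcases hcon with rfl | rfl | rfl | rfl | rfl | rfl | rfl | rfl <;> simp
  · apply hering_ge3 hq3 he
    · rintro ⟨rfl, rfl | rfl⟩ <;> exact h (by simp)
    · rintro ⟨rfl, rfl | rfl⟩ <;> exact h (by simp)
    · rintro ⟨rfl, rfl⟩; exact h (by simp)

end Cfsg.Agent.Lib.Helper1.LargeZsig
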