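import Cfsg.Agent.Lib.Helper18.C2Main
import Cfsg.Agent.Lib.Helper1.LowDimMono

/-!
# Low-dimensional version of S5634 (C2 in SL_n) (helper1)

`decomp_maximal_of_two_le_low`: verbatim copy of helper18's `C2Leaf.decomp_maximal_of_two_le` with `13 ≤ n` relaxed to
`5 ≤ n`; `decomp_maximal_low`: the statement of S5634 for `10 ≤ n` (blocks of dimension one need `10 ≤ n`).
-/

set_option autoImplicit false
set_option linter.unusedSectionVars false
set_option linter.unusedVariables false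

namespace Cfsg.Agent.Lib.Helper1.LowDim
open Cfsg Matrix Cfsg.Agent.Lib.Helper5.TMCalc Cfsg.Agent.Lib.Helper18.C2 Cfsg.Agent.Lib.Helper18.C2Leaf

/-- LEAF C2A of notes/S5634_plan.md (blocks of dimension ≥ 2). -/
theorem decomp_maximal_of_two_le_low {F : Type*} [Field F] [Fintype F] (n : ℕ) (hn : 5 ≤ n) {t : ℕ}
    (m : ℕ) (D : Fin t → Submodule F (Fin n → F)) (hD : Cfsg.Geo.IsMDecomposition m D)
    (hm : 2 ≤ m) (h2 : ¬ (m = 2 ∧ Fintype.card F = 2)) :
    Cfsg.Geo.IsMaximalIn (Cfsg.Geo.specialLinear (Fin n) F)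
      (Cfsg.Geo.decompositionStabilizer D ⊓ Cfsg.Geo.specialLinear (Fin n) F) := by
  classical
  have h3 : m = 2 → 3 ≤ t ∧ ∃ δ : F, δ ≠ 0 ∧ δ ≠ 1 := by
    intro hm2
    constructor
    · have := Cfsg.Agent.Lib.Helper9.C2Leaf.card_eq_mul hD
      subst hm2
      omega
    · by_contra hcon
      push Not at hcon
      apply h2
      refine ⟨hm2, le_antisymm ?_ ?_⟩
      · have hsub : (Finset.univ : Finset F) ⊆ {0, 1} := by
          intro δ _
          by_cases h0 : δ = 0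
          · simp [h0]
          · simp [hcon δ h0]
        calc Fintype.card F = (Finset.univ : Finset F).card := rfl
          _ ≤ ({0, 1} : Finset F).card := Finset.card_le_card hsub
          _ ≤ 2 := Finset.card_le_two
      · exact Fintype.one_lt_card
  refine ⟨stab_lt_sl hD, fun M hHM hMS => ?_⟩
  by_cases hMH : M = Cfsg.Geo.decompositionStabilizer D ⊓ Cfsg.Geo.specialLinear (Fin n) F
  · left; exact hMH
  right
  obtain ⟨g, hgM, hgH⟩ := SetLike.exists_of_lt (lt_of_le_of_ne hHM (Ne.symm hMH))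
  have hgs : g ∉ Cfsg.Geo.decompositionStabilizer D := fun h => hgH ⟨h, hMS hgM⟩
  obtain ⟨a, x, hx, hnp⟩ := Cfsg.Agent.Lib.Helper9.C2Leaf.exists_nonpure hD g hgs
  obtain ⟨φ, hφ0, hφ, hφx⟩ := exists_inBlock_kill1 hD hm hx
  have hHM' : Hs D ≤ M := hHM
  have hT0 : TM M φ x := TM_mono hHM' (inblock_TM hD hx hφ hφx)
  have hT1 := TM_conj hgM hT0
  have hψ : φ ∘ₗ Matrix.toLin' ((g⁻¹ : GL (Fin n) F) : Matrix (Fin n) (Fin n) F) ≠ 0 := by
    intro h
    apply hφ0
    apply LinearMap.ext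
    intro v
    have := LinearMap.congr_fun h ((g : Matrix (Fin n) (Fin n) F) *ᵥ v)
    rw [LinearMap.comp_apply, Matrix.toLin'_apply, Matrix.mulVec_mulVec, ← Units.val_mul,
      inv_mul_cancel, Units.val_one, Matrix.one_mulVec] at this
    exact this
  obtain ⟨k, i, hki, z, hz, hz0, φ', hφ'0, hφ', hT'⟩ :=
    cross_of_nonpure hD hm h3 hHM' hT1 hψ hnp
  have hF := Cfsg.Agent.Lib.Helper20.C2Leaf.full_of_cross hD hm hHM' hki hz hz0 hφ'0 hφ' hT'
  have hall := Cfsg.Agent.Lib.Helper29.C2Leaf.full_all_of hD hHM'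
    (fun a b hab => Cfsg.Agent.Lib.Helper23.C2Leaf.exists_swap hD a b hab) hki hF
  have hTM := Cfsg.Agent.Lib.Helper20.C2Leaf.all_TM_of_full hD hHM' hall
  exact le_antisymm hMS (le_of_all_TM (by omega) hTM)

/-- S5634 for blocks of dimension one, `10 ≤ n`, `5 ≤ q`. -/
theorem decomp_maximal_one_low {F : Type*} [Field F] [Fintype F] (n : ℕ) (hn : 10 ≤ n) {t : ℕ}
    (D : Fin t → Submodule F (Fin n → F)) (hD : Cfsg.Geo.IsMDecomposition 1 D) (hq : 5 ≤ Fintype.card F) :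
    Cfsg.Geo.IsMaximalIn (Cfsg.Geo.specialLinear (Fin n) F)
      (Cfsg.Geo.decompositionStabilizer D ⊓ Cfsg.Geo.specialLinear (Fin n) F) := by
  refine ⟨Cfsg.Agent.Lib.Helper18.C2Leaf.stab_lt_sl hD, fun M hHM hMS => ?_⟩
  by_cases hMH : M = Cfsg.Geo.decompositionStabilizer D ⊓ Cfsg.Geo.specialLinear (Fin n) F
  · left; exact hMH
  · right
    exact m1_core_low hn hq D hD M hHM hMS hMH

end Cfsg.Agent.Lib.Helper1.LowDim
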