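import Cfsg.Agent.S5644

/-!
# Low-dimensional version of S5644 (C8 orthogonal in SL_n, q odd) (helper1)

Verbatim copy of the part of helper5's proof of S5644 (`Cfsg.Agent.Lib.Helper5.OSL`, `Cfsg.Agent.S5644.S5644aux`) that
carries the hypothesis `13 ≤ n`, with the bound relaxed to `10 ≤ n`
(one step of `exists_first` needs the sharper existence lemma `exists_ns_sharp` below).
-/

set_option autoImplicit false
set_option linter.unusedSectionVars false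
set_option linter.unusedVariables false
set_option linter.unusedSimpArgs false

noncomputable section

namespace Cfsg.Agent.Lib.Helper1.LowDimO
open Cfsg Matrix QuadraticMap Module Cfsg.Agent.Lib.Helper5 Cfsg.Agent.Lib.Helper5.SpMax
  Cfsg.Agent.Lib.Helper5.TMCalc Cfsg.Agent.Lib.Helper5.OSL Cfsg.Agent.S5644.S5644aux

variable {F : Type*} [Field F] {n : ℕ}
variable (Qf : QuadraticForm F (Fin n → F))

/-- a totally singular subspace of dimension `≥ n/2` contains every vector orthogonal to it; so a subspace of dimension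
`≥ n/2` orthogonal to a nonsingular vector contains a nonsingular vector -/
lemma exists_ns_sub_sharp (hnd : (polarBilin Qf).Nondegenerate) (U : Submodule F (Fin n → F))
    (hU : n ≤ 2 * finrank F U) (a : Fin n → F) (ha : Qf a ≠ 0) (haU : ∀ x ∈ U, polar Qf a x = 0) :
    ∃ x ∈ U, Qf x ≠ 0 := by
  by_contra hcon
  push Not at hcon
  have hle : U ≤ LinearMap.BilinForm.orthogonal (polarBilin Qf) U := by
    intro x hx
    rw [LinearMap.BilinForm.mem_orthogonal_iff]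
    intro y hy
    change polarBilin Qf y x = 0
    rw [polarBilin_apply_apply, polar, hcon _ (U.add_mem hy hx), hcon y hy, hcon x hx]
    ring
  have h1 : finrank F (LinearMap.BilinForm.orthogonal (polarBilin Qf) U) ≤ finrank F U := by
    rw [LinearMap.BilinForm.finrank_orthogonal hnd, Module.finrank_fin_fun]
    omega
  have heq : U = LinearMap.BilinForm.orthogonal (polarBilin Qf) U :=
    Submodule.eq_of_le_of_finrank_le hle h1
  have haO : a ∈ LinearMap.BilinForm.orthogonal (polarBilin Qf) U := by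
    rw [LinearMap.BilinForm.mem_orthogonal_iff]
    intro y hy
    change polarBilin Qf y a = 0
    rw [polarBilin_apply_apply, polar_comm]
    exact haU y hy
  rw [← heq] at haO
  exact ha (hcon a haO)

lemma exists_ns_sharp (hnd : (polarBilin Qf).Nondegenerate) {k : ℕ}
    (ℓ : Fin k → ((Fin n → F) →ₗ[F] F)) (hk : 2 * k ≤ n) (a : Fin n → F) (ha : Qf a ≠ 0)
    (hℓ : ∃ i, ℓ i = bL Qf a) :
    ∃ x, Qf x ≠ 0 ∧ ∀ i, ℓ i x = 0 := by
  have h1 := finrank_iInf_ker_ge ℓ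
  obtain ⟨i₀, hi₀⟩ := hℓ
  obtain ⟨x, hx, hQ⟩ := exists_ns_sub_sharp Qf hnd (⨅ i, LinearMap.ker (ℓ i)) (by omega) a ha
    (fun y hy => by
      have := LinearMap.mem_ker.mp ((Submodule.mem_iInf _).mp hy i₀)
      rw [hi₀, bL_apply] at this
      exact this)
  refine ⟨x, hQ, fun i => ?_⟩
  have := (Submodule.mem_iInf _).mp hx i
  exact LinearMap.mem_ker.mp this

section Phase2
variable [Fintype F] {M : Subgroup (GL (Fin n) F)}

lemma exists_ns_center_low (hnd : (polarBilin Qf).Nondegenerate) (h2 : (2 : F) ≠ 0) (hn : 10 ≤ n)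
    (hHM : Cfsg.Geo.quadSimilarityGroup (⇑Qf) ⊓ Cfsg.Geo.specialLinear (Fin n) F ≤ M)
    {a₀ c₀ : Fin n → F} (ha₀ : Qf a₀ ≠ 0) (hc₀ : c₀ ≠ 0) (hT : TT Qf M a₀ c₀) :
    ∃ c₁, Qf c₁ ≠ 0 ∧ TT Qf M a₀ c₁ := by
  by_cases hc : Qf c₀ = 0
  · have hac : polar Qf a₀ c₀ = 0 := hT.1
    obtain ⟨y₀, hy₀⟩ := exists_polar_ne Qf hnd c₀ hc₀
    obtain ⟨y, hy⟩ : ∃ y, y = y₀ - ((2 * Qf a₀)⁻¹ * polar Qf a₀ y₀) • a₀ := ⟨_, rfl⟩
    have hay : polar Qf a₀ y = 0 := by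
      rw [hy, polar_sub_right, polar_smul_right, pself, smul_eq_mul]
      field_simp
      ring
    have hcy : polar Qf c₀ y ≠ 0 := by
      rw [hy, polar_sub_right, polar_smul_right, polar_comm Qf c₀ a₀, hac, smul_zero, sub_zero]
      exact hy₀
    obtain ⟨w, hw, hlw, hcw⟩ := exists_ns_ne Qf hnd h2 ![bL Qf a₀] (bL Qf c₀) y
      (Fin.forall_fin_one.mpr (by simpa using hay)) (by simpa using hcy) (by omega)
    have haw : polar Qf a₀ w = 0 := by simpa using hlw 0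
    have hcw' : polar Qf c₀ w ≠ 0 := by simpa using hcw
    obtain ⟨w', hw', hlw'⟩ := exists_ns Qf hnd ![bL Qf a₀, bL Qf c₀] (by omega)
    have haw' : polar Qf a₀ w' = 0 := by simpa using hlw' 0
    have hcw'' : polar Qf c₀ w' = 0 := by simpa using hlw' 1
    obtain ⟨σ, hσH, hσQ, hσx⟩ := exists_pair Qf w w' hw hw'
    have hT2 := TT_conj Qf (hHM hσH) hσQ hT
    have hσa : (σ : Matrix (Fin n) (Fin n) F) *ᵥ a₀ = a₀ := by
      rw [hσx, reflectionMatrix_mulVec, reflectionMatrix_mulVec, polar_comm Qf w' a₀, haw',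
        mul_zero, zero_smul, sub_zero, polar_comm Qf w a₀, haw, mul_zero, zero_smul, sub_zero]
    have hσc : (σ : Matrix (Fin n) (Fin n) F) *ᵥ c₀ =
        c₀ - ((Qf w)⁻¹ * polar Qf w c₀) • w := by
      rw [hσx, reflectionMatrix_mulVec, reflectionMatrix_mulVec, polar_comm Qf w' c₀, hcw'',
        mul_zero, zero_smul, sub_zero]
    rw [hσa, hσc] at hT2
    have hT3 := TT_add_right Qf (TT_neg_right Qf hT2) hT
    have h5 : -(c₀ - ((Qf w)⁻¹ * polar Qf w c₀) • w) + c₀ =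
        ((Qf w)⁻¹ * polar Qf w c₀) • w := by abel
    rw [h5] at hT3
    refine ⟨_, ?_, hT3⟩
    rw [Q_smul]
    have hμ : (Qf w)⁻¹ * polar Qf w c₀ ≠ 0 :=
      mul_ne_zero (inv_ne_zero hw) (by rw [polar_comm]; exact hcw')
    exact mul_ne_zero (mul_ne_zero hμ hμ) hw
  · exact ⟨c₀, hc, hT⟩

lemma all_center_low (hodd : Odd (Fintype.card F)) (hnd : (polarBilin Qf).Nondegenerate)
    (h2 : (2 : F) ≠ 0) (hn : 10 ≤ n)
    (hHM : Cfsg.Geo.quadSimilarityGroup (⇑Qf) ⊓ Cfsg.Geo.specialLinear (Fin n) F ≤ M)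
    {a₀ c₁ : Fin n → F} (ha₀ : Qf a₀ ≠ 0) (hc₁ : Qf c₁ ≠ 0) (hT : TT Qf M a₀ c₁) :
    ∀ c, polar Qf a₀ c = 0 → TT Qf M a₀ c := by
  have hac₁ : polar Qf a₀ c₁ = 0 := hT.1
  have hlev : ∀ c, Qf c = Qf c₁ → polar Qf a₀ c = 0 → TT Qf M a₀ c := by
    intro c hQc hac
    obtain ⟨h, hH, hQ, hx, hp⟩ := witt_ns Qf hnd h2 (by omega) a₀ c₁ c hQc.symm hc₁ hac₁ hac
    have := TT_conj Qf (hHM hH) hQ hT
    rwa [hx, hp] at this
  have hsing : ∀ z, Qf z = 0 → polar Qf a₀ z = 0 → TT Qf M a₀ z := by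
    intro z hz haz
    obtain ⟨c, hQc, hlc⟩ := exists_value Qf hodd hnd ![bL Qf a₀, bL Qf z] (by omega) (Qf c₁)
    have hac : polar Qf a₀ c = 0 := by simpa using hlc 0
    have hzc : polar Qf z c = 0 := by simpa using hlc 1
    have h1 := hlev c hQc hac
    have h2' := hlev (c + z) (by rw [Q_add, hQc, hz, polar_comm, hzc]; ring)
      (by rw [polar_add_right, hac, haz, add_zero])
    have h3 := TT_add_right Qf h2' (TT_neg_right Qf h1)
    have h4 : c + z + -c = z := by abel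
    rwa [h4] at h3
  intro c hac
  obtain ⟨z₁, z₂, z₃, hz₁, hz₂, hz₃, hl₁, hl₂, hl₃, hsum⟩ := sum_of_singular Qf hodd hnd h2
    ![bL Qf a₀] (by omega) c (Fin.forall_fin_one.mpr (by simpa using hac))
  rw [hsum]
  exact TT_add_right Qf (TT_add_right Qf (hsing z₁ hz₁ (by simpa using hl₁ 0))
    (hsing z₂ hz₂ (by simpa using hl₂ 0))) (hsing z₃ hz₃ (by simpa using hl₃ 0))

lemma all_of_value_low (hodd : Odd (Fintype.card F)) (hnd : (polarBilin Qf).Nondegenerate)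
    (h2 : (2 : F) ≠ 0) (hn : 10 ≤ n)
    (hHM : Cfsg.Geo.quadSimilarityGroup (⇑Qf) ⊓ Cfsg.Geo.specialLinear (Fin n) F ≤ M)
    {a₀ c₁ : Fin n → F} (ha₀ : Qf a₀ ≠ 0) (hc₁ : Qf c₁ ≠ 0) (hT : TT Qf M a₀ c₁) :
    ∀ a c, Qf a = Qf a₀ → polar Qf a c = 0 → TT Qf M a c := by
  intro a c hQa hac
  obtain ⟨h, hH, hQ, hx, -⟩ := witt_ns Qf hnd h2 (by omega) 0 a₀ a hQa.symm ha₀
    (polar_zero_left Qf _) (polar_zero_left Qf _)
  have h1 : polar Qf a₀ (((h⁻¹ : GL (Fin n) F) : Matrix (Fin n) (Fin n) F) *ᵥ c) = 0 := by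
    rw [← polar_isom Qf hQ a₀ (((h⁻¹ : GL (Fin n) F) : Matrix (Fin n) (Fin n) F) *ᵥ c), hx,
      mul_inv_mulVec]
    exact hac
  have h3 := TT_conj Qf (hHM hH) hQ
    (all_center_low Qf hodd hnd h2 hn hHM ha₀ hc₁ hT _ h1)
  rwa [hx, mul_inv_mulVec] at h3

lemma all_TT_low (hodd : Odd (Fintype.card F)) (hnd : (polarBilin Qf).Nondegenerate)
    (h2 : (2 : F) ≠ 0) (hn : 10 ≤ n)
    (hHM : Cfsg.Geo.quadSimilarityGroup (⇑Qf) ⊓ Cfsg.Geo.specialLinear (Fin n) F ≤ M)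
    {a₀ c₀ : Fin n → F} (ha₀ : Qf a₀ ≠ 0) (hc₀ : c₀ ≠ 0) (hT : TT Qf M a₀ c₀) :
    ∀ a c, polar Qf a c = 0 → TT Qf M a c := by
  obtain ⟨c₁, hc₁, hT₁⟩ := exists_ns_center_low Qf hnd h2 hn hHM ha₀ hc₀ hT
  have hval := all_of_value_low Qf hodd hnd h2 hn hHM ha₀ hc₁ hT₁
  have hsing : ∀ c z, Qf z = 0 → polar Qf z c = 0 → TT Qf M z c := by
    intro c z hz hzc
    obtain ⟨a, hQa, hla⟩ := exists_value Qf hodd hnd ![bL Qf c, bL Qf z] (by omega) (Qf a₀)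
    have hca : polar Qf c a = 0 := by simpa using hla 0
    have hza : polar Qf z a = 0 := by simpa using hla 1
    have h1 := hval a c hQa (by rw [polar_comm]; exact hca)
    have h2' := hval (a + z) c (by rw [Q_add, hQa, hz, polar_comm, hza]; ring)
      (by rw [polar_add_left, polar_comm Qf a c, hca, hzc, add_zero])
    have h3 := TT_add_left Qf h2' (TT_neg_left Qf h1)
    have h4 : a + z + -a = z := by abel
    rwa [h4] at h3
  intro a c hac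
  obtain ⟨z₁, z₂, z₃, hz₁, hz₂, hz₃, hl₁, hl₂, hl₃, hsum⟩ := sum_of_singular Qf hodd hnd h2
    ![bL Qf c] (by omega) a
    (Fin.forall_fin_one.mpr (by rw [polar_comm] at hac; simpa using hac))
  rw [hsum]
  exact TT_add_left Qf (TT_add_left Qf
    (hsing c z₁ hz₁ (by rw [polar_comm]; simpa using hl₁ 0))
    (hsing c z₂ hz₂ (by rw [polar_comm]; simpa using hl₂ 0)))
    (hsing c z₃ hz₃ (by rw [polar_comm]; simpa using hl₃ 0))

lemma all_TM_low (hodd : Odd (Fintype.card F)) (hnd : (polarBilin Qf).Nondegenerate)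
    (h2 : (2 : F) ≠ 0) (hn : 10 ≤ n)
    (hHM : Cfsg.Geo.quadSimilarityGroup (⇑Qf) ⊓ Cfsg.Geo.specialLinear (Fin n) F ≤ M)
    {a₀ c₀ : Fin n → F} (ha₀ : Qf a₀ ≠ 0) (hc₀ : c₀ ≠ 0) (hT : TT Qf M a₀ c₀) :
    ∀ (a : Fin n → F) (s : (Fin n → F) →ₗ[F] F), s a = 0 → TM M s a := by
  intro a s hsa
  obtain ⟨p, hp⟩ := exists_repr Qf hnd s
  have h1 := all_TT_low Qf hodd hnd h2 hn hHM ha₀ hc₀ hT p a (by rw [← hp]; exact hsa)
  exact TM_of_eq (fun v => by rw [bL_apply, hp]) h1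

end Phase2

section Phase1
variable (g : GL (Fin n) F)

lemma exists_first_low (hnd : (polarBilin Qf).Nondegenerate) (h2 : (2 : F) ≠ 0) (hn : 10 ≤ n)
    {M : Subgroup (GL (Fin n) F)}
    (hHM : Cfsg.Geo.quadSimilarityGroup (⇑Qf) ⊓ Cfsg.Geo.specialLinear (Fin n) F ≤ M)
    {g : GL (Fin n) F} (hgM : g ∈ M) (hg : g ∉ Cfsg.Geo.quadSimilarityGroup (⇑Qf)) :
    ∃ a₀ c₀, Qf a₀ ≠ 0 ∧ c₀ ≠ 0 ∧ TT Qf M a₀ c₀ := by
  obtain ⟨u, u', hu, hu', huu', huu''⟩ := exists_uu' Qf g hnd h2 (by omega) hg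
  have hnd' := Qg_nondeg Qf g hnd
  obtain ⟨v, hv, hlv⟩ := exists_ns Qf hnd ![bL Qf u, bL Qf u', bL (Qg Qf g) u'] (by omega)
  have huv : polar Qf u v = 0 := by simpa using hlv 0
  have hu'v : polar Qf u' v = 0 := by simpa using hlv 1
  have hu'v' : polar (Qg Qf g) u' v = 0 := by simpa using hlv 2
  obtain ⟨v', hv', hlv'⟩ := exists_ns_sharp (Qg Qf g) hnd'
    ![bL Qf u, bL Qf v, bL (Qg Qf g) u, bL (Qg Qf g) v, bL (Qg Qf g) u'] (by omega) u' hu' ⟨4, rfl⟩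
  have k1 : polar Qf u v' = 0 := by simpa using hlv' 0
  have k2 : polar Qf v v' = 0 := by simpa using hlv' 1
  have k3 : polar (Qg Qf g) u v' = 0 := by simpa using hlv' 2
  have k4 : polar (Qg Qf g) v v' = 0 := by simpa using hlv' 3
  have k5 : polar (Qg Qf g) u' v' = 0 := by simpa using hlv' 4
  obtain ⟨σ, hσH, -, hσx⟩ := exists_pair Qf u v hu hv
  have ha : Qf (((g⁻¹ : GL (Fin n) F) : Matrix (Fin n) (Fin n) F) *ᵥ u') ≠ 0 := by
    rw [← Qg_apply]; exact hu'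
  have hb : Qf (((g⁻¹ : GL (Fin n) F) : Matrix (Fin n) (Fin n) F) *ᵥ v') ≠ 0 := by
    rw [← Qg_apply]; exact hv'
  obtain ⟨τ₀, hτH, -, hτx⟩ := exists_pair Qf _ _ ha hb
  have hσM : σ ∈ M := hHM hσH
  have hτM : g * τ₀ * g⁻¹ ∈ M := M.mul_mem (M.mul_mem hgM (hHM hτH)) (M.inv_mem hgM)
  obtain ⟨α₁, hα₁⟩ : ∃ α₁ : (Fin n → F) →ₗ[F] F, α₁ = (Qf u)⁻¹ • bL Qf u := ⟨_, rfl⟩
  obtain ⟨α₂, hα₂⟩ : ∃ α₂ : (Fin n → F) →ₗ[F] F, α₂ = (Qf v)⁻¹ • bL Qf v := ⟨_, rfl⟩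
  obtain ⟨γ₁, hγ₁⟩ : ∃ γ₁ : (Fin n → F) →ₗ[F] F,
    γ₁ = (Qg Qf g u')⁻¹ • bL (Qg Qf g) u' := ⟨_, rfl⟩
  obtain ⟨γ₂, hγ₂⟩ : ∃ γ₂ : (Fin n → F) →ₗ[F] F,
    γ₂ = (Qg Qf g v')⁻¹ • bL (Qg Qf g) v' := ⟨_, rfl⟩
  have hα₁x : ∀ x, α₁ x = (Qf u)⁻¹ * polar Qf u x := fun x => by
    rw [hα₁, LinearMap.smul_apply, bL_apply, smul_eq_mul]
  have hα₂x : ∀ x, α₂ x = (Qf v)⁻¹ * polar Qf v x := fun x => by
    rw [hα₂, LinearMap.smul_apply, bL_apply, smul_eq_mul]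
  have hγ₁x : ∀ x, γ₁ x = (Qg Qf g u')⁻¹ * polar (Qg Qf g) u' x := fun x => by
    rw [hγ₁, LinearMap.smul_apply, bL_apply, smul_eq_mul]
  have hγ₂x : ∀ x, γ₂ x = (Qg Qf g v')⁻¹ * polar (Qg Qf g) v' x := fun x => by
    rw [hγ₂, LinearMap.smul_apply, bL_apply, smul_eq_mul]
  have hσf : ∀ x, (σ : Matrix (Fin n) (Fin n) F) *ᵥ x = x - α₁ x • u - α₂ x • v := by
    intro x
    rw [hσx, pair_formula Qf u v huv, hα₁x, hα₂x]
  have hτf : ∀ x, ((g * τ₀ * g⁻¹ : GL (Fin n) F) : Matrix (Fin n) (Fin n) F) *ᵥ x =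
      x - γ₁ x • u' - γ₂ x • v' := by
    intro x
    rw [Units.val_mul, Units.val_mul, ← Matrix.mulVec_mulVec, ← Matrix.mulVec_mulVec, hτx,
      conj_formula Qf g u' v' k5, hγ₁x, hγ₂x]
  have two_of : ∀ (Q' : QuadraticForm F (Fin n → F)) (w : Fin n → F), Q' w ≠ 0 →
      (Q' w)⁻¹ * polar Q' w w = 2 := by
    intro Q' w hw
    rw [pself]
    field_simp
  have key := core_calc (σ : Matrix (Fin n) (Fin n) F)
    ((g * τ₀ * g⁻¹ : GL (Fin n) F) : Matrix (Fin n) (Fin n) F) u v u' v' α₁ α₂ γ₁ γ₂ hσf hτf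
    (by rw [hα₁x, two_of Qf u hu]) (by rw [hα₁x, huv, mul_zero])
    (by rw [hα₂x, polar_comm, huv, mul_zero]) (by rw [hα₂x, two_of Qf v hv])
    (by rw [hα₁x, huu', mul_zero]) (by rw [hα₁x, k1, mul_zero])
    (by rw [hα₂x, polar_comm, hu'v, mul_zero]) (by rw [hα₂x, k2, mul_zero])
    (by rw [hγ₁x, two_of _ u' hu']) (by rw [hγ₁x, k5, mul_zero])
    (by rw [hγ₂x, polar_comm, k5, mul_zero]) (by rw [hγ₂x, two_of _ v' hv'])
    (by rw [hγ₁x, hu'v', mul_zero]) (by rw [hγ₂x, polar_comm, k4, mul_zero])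
    (by rw [hγ₂x, polar_comm, k3, mul_zero])
  have hγu : γ₁ u ≠ 0 := by
    rw [hγ₁x]
    exact mul_ne_zero (inv_ne_zero hu') (by rw [polar_comm]; exact huu'')
  have hκ : -(γ₁ u) * (Qf u)⁻¹ ≠ 0 := mul_ne_zero (neg_ne_zero.mpr hγu) (inv_ne_zero hu)
  refine ⟨(-(γ₁ u) * (Qf u)⁻¹) • u, u', ?_, ?_, ?_⟩
  · rw [Q_smul]
    exact mul_ne_zero (mul_ne_zero hκ hκ) hu
  · rintro rfl
    exact hu' (QuadraticMap.map_zero _)
  · unfold TT
    refine ⟨?_, (g * τ₀ * g⁻¹) * σ * (g * τ₀ * g⁻¹) * σ,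
      M.mul_mem (M.mul_mem (M.mul_mem hτM hσM) hτM) hσM, fun x => ?_⟩
    · rw [bL_apply, polar_smul_left, huu', smul_zero]
    · rw [Units.val_mul, Units.val_mul, Units.val_mul, ← Matrix.mulVec_mulVec,
        ← Matrix.mulVec_mulVec, ← Matrix.mulVec_mulVec, key x, bL_apply, polar_smul_left, hα₁x,
        smul_eq_mul]
      module

end Phase1

theorem main_low [Fintype F] (hodd : Odd (Fintype.card F)) (hnd : (polarBilin Qf).Nondegenerate)
    (hn : 10 ≤ n) :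
    Cfsg.Geo.IsMaximalIn (Cfsg.Geo.specialLinear (Fin n) F)
      (Cfsg.Geo.quadSimilarityGroup (⇑Qf) ⊓ Cfsg.Geo.specialLinear (Fin n) F) := by
  have h2 : (2 : F) ≠ 0 := two_ne_zero_of_odd hodd
  refine ⟨?_, ?_⟩
  · rw [lt_iff_le_and_ne]
    refine ⟨inf_le_right, fun h => ?_⟩
    obtain ⟨t, htSL, ht⟩ := exists_not_sim Qf hnd h2 (by omega)
    rw [← h] at htSL
    exact ht htSL.1
  · intro M hHM hMS
    by_cases hMH : M = Cfsg.Geo.quadSimilarityGroup (⇑Qf) ⊓ Cfsg.Geo.specialLinear (Fin n) F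
    · left; exact hMH
    right
    apply le_antisymm hMS
    obtain ⟨g, hgM, hgH⟩ : ∃ g ∈ M,
        g ∉ Cfsg.Geo.quadSimilarityGroup (⇑Qf) ⊓ Cfsg.Geo.specialLinear (Fin n) F := by
      by_contra hcon
      push Not at hcon
      exact hMH (le_antisymm hcon hHM)
    have hgS : g ∉ Cfsg.Geo.quadSimilarityGroup (⇑Qf) := fun h => hgH ⟨h, hMS hgM⟩
    obtain ⟨a₀, c₀, ha₀, hc₀, hT⟩ := exists_first_low Qf hnd h2 hn hHM hgM hgS
    exact le_of_all_TM (by omega) (all_TM_low Qf hodd hnd h2 hn hHM ha₀ hc₀ hT)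

end Cfsg.Agent.Lib.Helper1.LowDimO
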