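import Cfsg.Agent.S5631
import Cfsg.Agent.S5637
import Cfsg.Agent.S5639
import Cfsg.Agent.S5642
import Cfsg.Agent.S5886
import Cfsg.Agent.Lib.Helper1.LowDimC2
import Cfsg.Agent.Lib.Helper1.LowDimU
import Cfsg.Agent.Lib.Helper1.LowDimO

/-!
# The geometric classes are maximal in `SL_n(q)`: the general rows S5631, S5634, S5637, S5639, S5642, S5643, S5644, S5886
with their true dimension bounds (helper1)

Uniform API for the low-dimensional rows `slN_geometric_types_maximal`:
`c1_max` (`2 ≤ n`), `c2_max` (`10 ≤ n`), `c2_max_two_le` (blocks of dimension `≥ 2`, `5 ≤ n`), `c3_max` (`r ∣ n`, `r < n`),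
`c4_max` (no bound), `c5_max` (`9 ≤ n`), `c8s_max` (`3 ≤ n`), `c8u_max` (`6 ≤ n`), `c8o_max` (`10 ≤ n`).
-/

set_option autoImplicit false
set_option linter.unusedSectionVars false
set_option linter.unusedVariables false

namespace Cfsg.Agent.Lib.Helper1.LowDim
open Cfsg Cfsg.Geo Matrix

variable {F : Type*} [Field F] [Fintype F]

/-- C1: stabilisers of subspaces, `2 ≤ n` (helper5, S5631). -/
theorem c1_max (n : ℕ) (hn : 2 ≤ n) (W : Submodule F (Fin n → F)) (hW0 : W ≠ ⊥) (hW1 : W ≠ ⊤) :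
    IsMaximalIn (specialLinear (Fin n) F) (subspaceStabilizer W ⊓ specialLinear (Fin n) F) :=
  Cfsg.Agent.S5631.S5631aux.main n hn W hW0 hW1

/-- C2, blocks of dimension `≥ 2`, `5 ≤ n` (helper18's market, S5634). -/
theorem c2_max_two_le (n : ℕ) (hn : 5 ≤ n) {t : ℕ} (m : ℕ) (D : Fin t → Submodule F (Fin n → F))
    (hD : IsMDecomposition m D) (hm : 2 ≤ m) (h2 : ¬ (m = 2 ∧ Fintype.card F = 2)) :
    IsMaximalIn (specialLinear (Fin n) F) (decompositionStabilizer D ⊓ specialLinear (Fin n) F) :=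
  decomp_maximal_of_two_le_low n hn m D hD hm h2

/-- C2, `10 ≤ n` (S5634 with the bound relaxed). -/
theorem c2_max (n : ℕ) (hn : 10 ≤ n) {t : ℕ} (m : ℕ) (D : Fin t → Submodule F (Fin n → F))
    (hD : IsMDecomposition m D) (h1 : ¬ (m = 1 ∧ Fintype.card F ≤ 4)) (h2 : ¬ (m = 2 ∧ Fintype.card F = 2)) :
    IsMaximalIn (specialLinear (Fin n) F) (decompositionStabilizer D ⊓ specialLinear (Fin n) F) := by
  have hpos := hD.pos
  rcases Nat.lt_or_ge m 2 with hm | hm
  · have hm1 : m = 1 := by omega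
    subst hm1
    have hq : 5 ≤ Fintype.card F := by
      by_contra h
      exact h1 ⟨rfl, by omega⟩
    exact decomp_maximal_one_low n hn D hD hq
  · exact decomp_maximal_of_two_le_low n (by omega) m D hD hm h2

/-- C3: normalisers of extension fields of prime degree `r ∣ n`, `r < n` (helper22 + helper24, S5886). -/
theorem c3_max (n r : ℕ) (hr : r.Prime) (hrn : r ∣ n) (hlt : r < n) (K : Subalgebra F (Matrix (Fin n) (Fin n) F))
    (hK : IsFieldSubalgebra r K) :
    IsMaximalIn (specialLinear (Fin n) F) (subalgebraNormalizer K ⊓ specialLinear (Fin n) F) :=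
  (Cfsg.Agent.S5886.result n r hr hrn hlt K hK).2

/-- C4: tensor product stabilisers, no bound on `n` (helper25, S5637). -/
theorem c4_max (n n₁ n₂ : ℕ) (h1 : 2 ≤ n₁) (h12 : n₁ < n₂) (hex : ¬ (n₁ = 2 ∧ Fintype.card F = 2))
    (e : Fin n ≃ Fin n₁ × Fin n₂) (P : GL (Fin n) F) :
    IsMaximalIn (specialLinear (Fin n) F) (tensorProductSubgroup n₁ n₂ e P ⊓ specialLinear (Fin n) F) :=
  Cfsg.Agent.Lib.Helper25.TensLeaf.transport n n₁ n₂ e P
    (Cfsg.Agent.Lib.Helper25.TensMain.core h1 h12 (Cfsg.Agent.Lib.Helper25.TensMain.field_hyp n₁ hex))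

open Cfsg.Agent.Lib.Helper5.LSub in
/-- C5: subfield groups, `9 ≤ n` (helper5, S5639). -/
theorem c5_max (n : ℕ) (hn : 9 ≤ n) (F₀ : Subfield F) (r : ℕ) (hr : r.Prime)
    (hcard : Fintype.card F = Nat.card F₀ ^ r) (P : GL (Fin n) F) :
    IsMaximalIn (specialLinear (Fin n) F) (subfieldSubgroup F₀ P ⊓ specialLinear (Fin n) F) := by
  have hfr : Module.finrank F₀ F = r := finrank_eq_of_card F₀ hcard
  have hp : (Module.finrank F₀ F).Prime := by rw [hfr]; exact hr
  refine ⟨subfield_lt (by omega) F₀ P hp.two_le, fun M hHM hMS => ?_⟩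
  by_cases hM : Cfsg.Geo.specialLinear (Fin n) F ≤ M
  · right
    exact le_antisymm hMS hM
  · left
    have hctx : Ctx F₀ P M := ⟨hHM, hM, hp⟩
    apply le_antisymm _ hHM
    intro g hg
    refine Subgroup.mem_inf.mpr ⟨?_, hMS hg⟩
    by_cases hrn : Module.finrank F₀ F < n
    · exact easy_case (by omega) hctx hrn hg
    · exact hard_case (by omega) hctx (by omega) hg

/-- C8, symplectic, `3 ≤ n` (helper5, S5642). -/
theorem c8s_max (n : ℕ) (hn : 3 ≤ n) (f : (Fin n → F) → (Fin n → F) → F) (hf : IsSymplecticForm f) :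
    IsMaximalIn (specialLinear (Fin n) F) (similarityGroup f ⊓ specialLinear (Fin n) F) :=
  Cfsg.Agent.S5642.S5642aux.main hf hn

/-- C8, unitary, `6 ≤ n` (helper5's S5643 with the bound relaxed). -/
theorem c8u_max (n : ℕ) (hn : 6 ≤ n) (σ : F ≃+* F) (f : (Fin n → F) → (Fin n → F) → F)
    (hf : IsUnitaryForm σ f) :
    IsMaximalIn (specialLinear (Fin n) F) (similarityGroup f ⊓ specialLinear (Fin n) F) :=
  Cfsg.Agent.Lib.Helper1.LowDimU.main_low hf hn

/-- C8, orthogonal, `q` odd, `10 ≤ n` (helper5's S5644 with the bound relaxed). -/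
theorem c8o_max (n : ℕ) (hn : 10 ≤ n) (hodd : Odd (Fintype.card F)) (Q : (Fin n → F) → F)
    (hQ : IsNondegenerateQuadraticForm Q) :
    IsMaximalIn (specialLinear (Fin n) F) (quadSimilarityGroup Q ⊓ specialLinear (Fin n) F) :=
  Cfsg.Agent.Lib.Helper1.LowDimO.main_low (Cfsg.Agent.Lib.Helper9.QuadBridge.ofFun Q hQ) hodd
    (Cfsg.Agent.Lib.Helper9.QuadBridge.ofFun_nondeg Q hQ) hn

end Cfsg.Agent.Lib.Helper1.LowDim
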