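import Mathlib
import Cfsg.Agent.S0420
import Cfsg.Agent.S0388
import Cfsg.Agent.Lib.Helper3.InvPattern.M11Side

set_option autoImplicit false

/-! The concrete group `Cfsg.Spor.M11` is simple of order `7920`, and every simple group of order
`7920` is isomorphic to it (helper24's S0420 transported along helper3's `e11`). -/

namespace Cfsg.Agent.Lib.Helper1.M11Rec

open Cfsg Cfsg.Agent.Lib.Helper3.Golay Cfsg.Agent.Lib.Helper3.OutAut
  Cfsg.Agent.Lib.Helper3.InvPattern
open scoped Pointwise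

theorem card_sporM11 : Nat.card ↥Cfsg.Spor.M11 = 7920 := card_M11

theorem finite_sporM11 : Finite ↥Cfsg.Spor.M11 :=
  Nat.finite_of_card_ne_zero (by rw [card_sporM11]; norm_num)

theorem isSimpleGroup_sporM11 : IsSimpleGroup ↥Cfsg.Spor.M11 := by
  haveI := Cfsg.Agent.S0388.result (bitSet d0) d0_mem (pt 0) p0_mem
  exact e11.isSimpleGroup

theorem iso_sporM11_of_isM11 {G : Type*} [Group G] [Finite G] (hG : Cfsg.IsM11 G) :
    Nonempty (G ≃* ↥Cfsg.Spor.M11) := by
  obtain ⟨e⟩ := Cfsg.Agent.S0420.result hG (bitSet d0) d0_mem (pt 0) p0_mem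
  exact ⟨e.trans e11.symm⟩

end Cfsg.Agent.Lib.Helper1.M11Rec
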