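/-
S4923 leaf (REV) (helper1): a group of order `2^n ≥ 16` with an element `g` of order `2^(n-1)` on which an
outside element acts as `-1` or `-1 + 2^(n-2)` has `|X : X'| = 4` (indeed `X' = ⟨g²⟩`).
-/
import Mathlib

set_option autoImplicit false

namespace Cfsg.Agent.Lib.Helper1.MCF

open Subgroup
open scoped commutatorElement

universe u

/-- (REV) the converse group theory. -/
theorem index_commutator_eq_four {X : Type u} [Group X] [Finite X] (n : ℕ) (hn : 4 ≤ n)
    (hX : Nat.card X = 2 ^ n) (g x : X) (hg : orderOf g = 2 ^ (n - 1))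
    (hx : x ∉ Subgroup.zpowers g) (k₀ : ℕ)
    (hk : k₀ = 2 ^ (n - 1) - 1 ∨ k₀ = 2 ^ (n - 2) - 1) (hconj : x * g * x⁻¹ = g ^ k₀) :
    (commutator X).index = 4 := by
  classical
  haveI : Fact (Nat.Prime 2) := ⟨Nat.prime_two⟩
  have hpow1 : 2 ^ n = 2 ^ (n - 1) * 2 := by
    rw [← pow_succ]; congr 1; omega
  have hpow2 : 2 ^ (n - 1) = 2 ^ (n - 2) * 2 := by
    rw [← pow_succ]; congr 1; omega
  have hpow3 : 2 ^ (n - 2) = 2 ^ (n - 3) * 2 := by
    rw [← pow_succ]; congr 1; omega
  -- `C = ⟨g⟩` has index 2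
  set C : Subgroup X := zpowers g with hC
  have hcardC : Nat.card C = 2 ^ (n - 1) := by rw [hC, Nat.card_zpowers, hg]
  have hCi : C.index = 2 := by
    have h1 := C.card_mul_index
    rw [hcardC, hX, hpow1] at h1
    exact Nat.eq_of_mul_eq_mul_left (by positivity) h1
  have hCn : C.Normal := Subgroup.normal_of_index_eq_two hCi
  -- `N = ⟨g²⟩`
  have hog2 : orderOf (g ^ 2) = 2 ^ (n - 2) := by
    rw [orderOf_pow' g (by norm_num), hg, hpow2, Nat.gcd_mul_left_left,
      Nat.mul_div_cancel _ (by norm_num)]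
  set N : Subgroup X := zpowers (g ^ 2) with hN
  have hcardN : Nat.card N = 2 ^ (n - 2) := by rw [hN, Nat.card_zpowers, hog2]
  have hNn : N.Normal := by
    constructor
    intro m hm y
    obtain ⟨j, rfl⟩ := mem_zpowers_iff.mp hm
    have h1 : y * g * y⁻¹ ∈ C := hCn.conj_mem g (mem_zpowers g) y
    obtain ⟨i, hi⟩ := mem_zpowers_iff.mp h1
    have h2 : y * g ^ 2 * y⁻¹ = (g ^ 2) ^ i := by
      rw [← conj_pow, ← hi, ← zpow_natCast, ← zpow_natCast, ← zpow_mul, ← zpow_mul, mul_comm]
    have h3 : y * (g ^ 2) ^ j * y⁻¹ = ((g ^ 2) ^ i) ^ j := by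
      rw [← h2]
      simp [conj_zpow]
    rw [h3, ← zpow_mul]
    exact zpow_mem (mem_zpowers _) _
  have hNi : N.index = 4 := by
    have h1 := N.card_mul_index
    rw [hcardN, hX, hpow1, hpow2] at h1
    have h2 : 2 ^ (n - 2) * N.index = 2 ^ (n - 2) * 4 := by rw [h1]; ring
    exact Nat.eq_of_mul_eq_mul_left (by positivity) h2
  -- `X' ≤ N`
  have hle : commutator X ≤ N := by
    have hcardQ : Nat.card (X ⧸ N) = 2 ^ 2 := by
      rw [← Subgroup.index_eq_card, hNi]; norm_num
    have hcomm : ∀ a b : X ⧸ N, a * b = b * a := fun a b =>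
      (IsPGroup.isMulCommutative_of_card_eq_prime_sq hcardQ).is_comm.comm a b
    rw [commutator_eq_closure, closure_le]
    rintro _ ⟨a, b, rfl⟩
    rw [SetLike.mem_coe, ← QuotientGroup.eq_one_iff, commutatorElement_def]
    simp only [QuotientGroup.mk_mul, QuotientGroup.mk_inv]
    rw [hcomm (a : X ⧸ N) b]
    group
  -- `N ≤ X'`
  have hge : N ≤ commutator X := by
    obtain ⟨u, hu, huodd⟩ : ∃ u, k₀ = 2 * u + 1 ∧ u % 2 = 1 := by
      rcases hk with h | h
      · refine ⟨2 ^ (n - 2) - 1, ?_, ?_⟩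
        · have : 0 < 2 ^ (n - 2) := by positivity
          omega
        · have : 0 < 2 ^ (n - 3) := by positivity
          omega
      · refine ⟨2 ^ (n - 3) - 1, ?_, ?_⟩
        · have : 0 < 2 ^ (n - 3) := by positivity
          omega
        · have h4 : 2 ^ (n - 3) = 2 ^ (n - 4) * 2 := by
            rw [← pow_succ]; congr 1; omega
          have : 0 < 2 ^ (n - 4) := by positivity
          omega
    have hmem : (g ^ 2) ^ u ∈ commutator X := by
      have h1 : ⁅x, g⁆ ∈ commutator X :=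
        Subgroup.commutator_mem_commutator (mem_top x) (mem_top g)
      have h2 : ⁅x, g⁆ = (g ^ 2) ^ u := by
        rw [commutatorElement_def, hconj, hu, ← pow_mul, pow_succ, mul_inv_cancel_right]
      rwa [h2] at h1
    have hcop : (orderOf (g ^ 2)).Coprime u := by
      rw [hog2]
      apply Nat.Coprime.pow_left
      exact (Nat.Prime.coprime_iff_not_dvd Nat.prime_two).mpr (by omega)
    have heq : zpowers ((g ^ 2) ^ u) = N := by
      apply Subgroup.eq_of_le_of_card_ge
      · rw [zpowers_le]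
        exact pow_mem (mem_zpowers _) _
      · rw [Nat.card_zpowers, Nat.card_zpowers, Nat.Coprime.orderOf_pow hcop]
    rw [← heq, zpowers_le]
    exact hmem
  rw [le_antisymm hle hge, hNi]

end Cfsg.Agent.Lib.Helper1.MCF
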