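/-
S4923 leaf (TAU) (helper1): a 2-group of order `2^n ≥ 16` with `|X : X'| = 4` has a cyclic subgroup `⟨g⟩`
of index 2 on which an outside element acts as `-1` or `-1 + 2^(n-2)`.
-/
import Mathlib
import Cfsg.Agent.Lib.Helper1.MaxClassTwo
import Cfsg.Agent.Lib.Helper1.MaxClassKlein

set_option autoImplicit false

namespace Cfsg.Agent.Lib.Helper1.MCF

open Subgroup

universe u

/-- the square roots of `1` modulo `2 ^ m`, `m ≥ 3` -/
theorem sq_modEq_one_two_pow (m : ℕ) (hm : 3 ≤ m) (k : ℕ) (hk : k < 2 ^ m)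
    (h : k * k ≡ 1 [MOD 2 ^ m]) :
    k = 1 ∨ k = 2 ^ (m - 1) - 1 ∨ k = 2 ^ (m - 1) + 1 ∨ k = 2 ^ m - 1 := by
  obtain ⟨e, rfl⟩ : ∃ e, m = e + 2 := ⟨m - 2, by omega⟩
  have he : 1 ≤ e := by omega
  set q : ℕ := 2 ^ e with hq
  have hqpos : 0 < q := by positivity
  have h4q : 2 ^ (e + 2) = 4 * q := by rw [pow_add]; ring
  have h2q : 2 ^ (e + 2 - 1) = 2 * q := by
    have : e + 2 - 1 = e + 1 := by omega
    rw [this, pow_succ]; ring
  rw [h4q] at hk h
  rw [h2q, h4q]
  -- `k` is odd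
  have hodd : k % 2 = 1 := by
    have h2 : k * k ≡ 1 [MOD 2] := h.of_dvd ⟨2 * q, by ring⟩
    have h3 : (k * k) % 2 = 1 := h2
    rcases Nat.mod_two_eq_zero_or_one k with h0 | h1
    · rw [Nat.mul_mod, h0] at h3; simp at h3
    · exact h1
  obtain ⟨j, rfl⟩ : ∃ j, k = 2 * j + 1 := ⟨k / 2, by omega⟩
  have hj : j < 2 * q := by omega
  -- `4 q ∣ 4 j (j + 1)`
  have hdvd : 4 * q ∣ (2 * j + 1) * (2 * j + 1) - 1 := (Nat.modEq_iff_dvd' (by nlinarith)).mp h.symm
  have heq : (2 * j + 1) * (2 * j + 1) - 1 = 4 * (j * (j + 1)) := by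
    have : (2 * j + 1) * (2 * j + 1) = 4 * (j * (j + 1)) + 1 := by ring
    omega
  rw [heq] at hdvd
  have hdvd2 : q ∣ j * (j + 1) := Nat.dvd_of_mul_dvd_mul_left (by norm_num) hdvd
  have hpp : IsPrimePow q := by
    rw [hq]
    exact (Nat.prime_two.isPrimePow).pow (by omega)
  have hcop : Nat.Coprime j (j + 1) := by simp
  rcases (Nat.Coprime.isPrimePow_dvd_mul hcop hpp).mp hdvd2 with h1 | h1
  · obtain ⟨c, rfl⟩ := h1
    rcases c with _ | _ | c
    · left; simp
    · right; right; left; ring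
    · exfalso
      have : q * 2 ≤ q * (c + 1 + 1) := Nat.mul_le_mul_left q (by omega)
      omega
  · obtain ⟨c, hc⟩ := h1
    rcases c with _ | _ | _ | c
    · exfalso
      rw [mul_zero] at hc
      omega
    · right; left
      rw [Nat.zero_add, mul_one] at hc
      omega
    · right; right; right
      have : q * (0 + 1 + 1) = 2 * q := by ring
      rw [this] at hc
      omega
    · exfalso
      have : q * 3 ≤ q * (c + 1 + 1 + 1) := Nat.mul_le_mul_left q (by omega)
      omega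

/-- (TAU) a 2-group of order `2^n ≥ 16` with `|X : X'| = 4` has a cyclic subgroup `⟨g⟩` of index 2
(S0115 + S0113) on which an outside element acts as `-1` or `-1 + 2^(n-2)`. -/
theorem exists_gen_of_index_four {X : Type u} [Group X] [Finite X] (n : ℕ) (hn : 4 ≤ n)
    (hX : Nat.card X = 2 ^ n) (h4 : (commutator X).index = 4) :
    ∃ (g x : X) (k₀ : ℕ), orderOf g = 2 ^ (n - 1) ∧ x ∉ Subgroup.zpowers g ∧
      x * g * x⁻¹ = g ^ k₀ ∧ (k₀ = 2 ^ (n - 1) - 1 ∨ k₀ = 2 ^ (n - 2) - 1) := by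
  classical
  haveI : Fact (Nat.Prime 2) := ⟨Nat.prime_two⟩
  have hc := Cfsg.Agent.Lib.Helper1.nilpotencyClass_of_index_commutator n (by omega) X hX h4
  obtain ⟨C, hCc, hCi⟩ :=
    Cfsg.Agent.Lib.Helper1.exists_cyclic_index_two_of_maximal_class n (by omega) X hX hc
  have hZ : Nat.card (center X) = 2 :=
    Cfsg.Agent.Lib.Helper1.card_center_of_maximal_class (p := 2) n (by omega) hX hc
  obtain ⟨g0, hg0⟩ := hCc.exists_generator
  have hCg : C = zpowers (g0 : X) := by
    ext y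
    constructor
    · intro hy
      obtain ⟨j, hj⟩ := mem_zpowers_iff.mp (hg0 ⟨y, hy⟩)
      refine mem_zpowers_iff.mpr ⟨j, ?_⟩
      have := congrArg Subtype.val hj
      simpa using this
    · intro hy
      obtain ⟨j, hj⟩ := mem_zpowers_iff.mp hy
      rw [← hj]
      exact C.zpow_mem g0.2 j
  set g : X := (g0 : X) with hg
  have hcardC : Nat.card C = 2 ^ (n - 1) := by
    have h1 := C.card_mul_index
    rw [hCi, hX] at h1
    have h2 : 2 ^ n = 2 ^ (n - 1) * 2 := by
      rw [← pow_succ]; congr 1; omega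
    rw [h2] at h1
    exact Nat.eq_of_mul_eq_mul_right (by norm_num) h1
  have hog : orderOf g = 2 ^ (n - 1) := by
    rw [← Nat.card_zpowers, ← hCg, hcardC]
  obtain ⟨x, hx⟩ := Cfsg.Agent.Lib.Helper1.exists_notMem_of_index_two C hCi
  have hCn : C.Normal := Subgroup.normal_of_index_eq_two hCi
  have hCab : IsMulCommutative C := by
    rw [hCg]
    infer_instance
  have hxg : x * g * x⁻¹ ∈ zpowers g := by
    rw [← hCg]
    exact hCn.conj_mem g g0.2 x
  obtain ⟨k, hkl, hk⟩ : ∃ k, k < orderOf g ∧ g ^ k = x * g * x⁻¹ := by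
    obtain ⟨j, hj⟩ := (mem_powers_iff_mem_zpowers.mpr hxg)
    refine ⟨j % orderOf g, Nat.mod_lt _ (orderOf_pos g), ?_⟩
    rw [pow_mod_orderOf]
    exact hj
  -- `x * x` commutes with `g`
  have hxx : x * x ∈ C := Subgroup.mul_self_mem_of_index_two hCi x
  have hcomm : (x * x) * g = g * (x * x) := by
    have := mul_comm' (⟨x * x, hxx⟩ : C) g0
    exact congrArg Subtype.val this
  have hkk : g ^ (k * k) = g ^ 1 := by
    rw [pow_one, pow_mul, hk, conj_pow, hk]
    calc x * (x * g * x⁻¹) * x⁻¹ = (x * x) * g * (x * x)⁻¹ := by group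
      _ = g * (x * x) * (x * x)⁻¹ := by rw [hcomm]
      _ = g := by group
  have hmod : k * k ≡ 1 [MOD 2 ^ (n - 1)] := by
    rw [← hog]
    exact pow_eq_pow_iff_modEq.mp hkk
  rw [hog] at hkl
  have hcen : C ⊓ centralizer ({x} : Set X) ≤ center X :=
    Cfsg.Agent.Lib.Helper1.inf_centralizer_le_center_of_index_two C hCab hCi x hx
  -- an element of the centre has order at most 2
  have hord : ∀ y : X, y ∈ center X → orderOf y ∣ 2 := by
    intro y hy
    have h1 : orderOf (⟨y, hy⟩ : center X) ∣ Nat.card (center X) := orderOf_dvd_natCard _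
    rw [hZ] at h1
    rwa [← Subgroup.orderOf_coe] at h1
  have hn1 : n - 1 - 1 = n - 2 := by omega
  rcases sq_modEq_one_two_pow (n - 1) (by omega) k hkl hmod with h1 | h1 | h1 | h1
  · exfalso
    rw [h1, pow_one] at hk
    have hgc : g ∈ C ⊓ centralizer ({x} : Set X) := by
      refine Subgroup.mem_inf.mpr ⟨g0.2, ?_⟩
      rw [mem_centralizer_iff]
      intro y hy
      rw [Set.mem_singleton_iff] at hy
      subst hy
      calc y * g = (y * g * y⁻¹) * y := by group
        _ = g * y := by rw [← hk]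
    have := hord g (hcen hgc)
    rw [hog] at this
    have h2 : 2 ^ (n - 1) ≤ 2 := Nat.le_of_dvd (by norm_num) this
    have h3 : 2 ^ 3 ≤ 2 ^ (n - 1) := Nat.pow_le_pow_right (by norm_num) (by omega)
    omega
  · exact ⟨g, x, k, hog, by rw [← hCg]; exact hx, hk.symm, Or.inr (by rw [h1, hn1])⟩
  · exfalso
    have hg2 : x * (g ^ 2) * x⁻¹ = g ^ 2 := by
      rw [← conj_pow, ← hk, ← pow_mul, h1]
      have : (2 ^ (n - 1 - 1) + 1) * 2 = 2 ^ (n - 1) + 2 := by
        have : 2 ^ (n - 1) = 2 ^ (n - 1 - 1) * 2 := by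
          rw [← pow_succ]; congr 1; omega
        omega
      rw [this, pow_add, ← hog, pow_orderOf_eq_one, one_mul]
    have hgc : g ^ 2 ∈ C ⊓ centralizer ({x} : Set X) := by
      refine Subgroup.mem_inf.mpr ⟨C.pow_mem g0.2 2, ?_⟩
      rw [mem_centralizer_iff]
      intro y hy
      rw [Set.mem_singleton_iff] at hy
      subst hy
      calc y * g ^ 2 = (y * g ^ 2 * y⁻¹) * y := by group
        _ = g ^ 2 * y := by rw [hg2]
    have h2 := hord (g ^ 2) (hcen hgc)
    have h3 : orderOf (g ^ 2) = 2 ^ (n - 2) := by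
      rw [orderOf_pow' g (by norm_num), hog]
      have : 2 ^ (n - 1) = 2 ^ (n - 2) * 2 := by
        rw [← pow_succ]; congr 1; omega
      rw [this, Nat.gcd_mul_left_left, Nat.mul_div_cancel _ (by norm_num)]
    rw [h3] at h2
    have h4 : 2 ^ (n - 2) ≤ 2 := Nat.le_of_dvd (by norm_num) h2
    have h5 : 2 ^ 2 ≤ 2 ^ (n - 2) := Nat.pow_le_pow_right (by norm_num) (by omega)
    omega
  · exact ⟨g, x, k, hog, by rw [← hCg]; exact hx, hk.symm, Or.inl h1⟩

end Cfsg.Agent.Lib.Helper1.MCF
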