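import Mathlib
import Cfsg.Agent.Lib.Helper1.MaxClassKlein
import Cfsg.Agent.Lib.Helper14.DihedralCrit

/-! The central quotient of a `2`-group of maximal class is dihedral. -/

namespace Cfsg.Agent.Lib.Helper1

open Subgroup

universe u

theorem exists_zpowers_eq_of_isCyclic {X : Type*} [Group X] (C : Subgroup X) [IsCyclic C] :
    ∃ c ∈ C, C = zpowers c := by
  obtain ⟨g, hg⟩ := IsCyclic.exists_generator (α := C)
  refine ⟨g, g.2, le_antisymm ?_ (zpowers_le.mpr g.2)⟩
  intro x hx
  obtain ⟨k, hk⟩ := mem_zpowers_iff.mp (hg ⟨x, hx⟩)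
  rw [mem_zpowers_iff]
  refine ⟨k, ?_⟩
  have := congrArg Subtype.val hk
  simpa using this

/-- the structural data of a `2`-group of maximal class -/
theorem maximal_class_data (n : ℕ) (hn : 3 ≤ n) (X : Type u) [Group X] [Finite X]
    (hcard : Nat.card X = 2 ^ n) (hc : Group.nilpotencyClass X = n - 1) :
    ∃ (c t : X), (zpowers c).index = 2 ∧ t ∉ zpowers c ∧
      zpowers c ⊓ centralizer ({t} : Set X) = center X ∧ Nat.card (center X) = 2 ∧
      center X ≤ zpowers c := by
  have hX : IsPGroup 2 X := IsPGroup.of_card hcard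
  have hnil : Group.IsNilpotent X := hX.isNilpotent
  have : Fact (Nat.Prime 2) := ⟨Nat.prime_two⟩
  have hab : ¬ IsMulCommutative X := by
    intro hab
    have := Group.IsNilpotent.nilpotencyClass_le_one_iff.mpr hab
    omega
  obtain ⟨C, hCc, hCi⟩ := exists_cyclic_index_two_of_maximal_class n hn X hcard hc
  obtain ⟨c, -, rfl⟩ := exists_zpowers_eq_of_isCyclic C
  have hCab : IsMulCommutative (zpowers c) := IsCyclic.isMulCommutative
  have hZ : Nat.card (center X) = 2 := card_center_of_maximal_class (p := 2) n hn hcard hc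
  obtain ⟨t, ht⟩ := exists_notMem_of_index_two _ hCi
  have hZC := center_le_of_index_two _ hCab hCi hab
  have hinf : zpowers c ⊓ centralizer ({t} : Set X) = center X :=
    le_antisymm (inf_centralizer_le_center_of_index_two _ hCab hCi t ht)
      (le_inf hZC (Subgroup.center_le_centralizer _))
  exact ⟨c, t, hCi, ht, hinf, hZ, hZC⟩

/-- **Part E** -/
theorem nonempty_mulEquiv_dihedral_of_maximal_class (n : ℕ) (hn : 3 ≤ n) (X : Type u) [Group X]
    [Finite X] (hcard : Nat.card X = 2 ^ n) (hc : Group.nilpotencyClass X = n - 1) :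
    Nonempty (X ⧸ center X ≃* DihedralGroup (2 ^ (n - 2))) := by
  obtain ⟨c, t, hCi, ht, hinf, hZ, hZC⟩ := maximal_class_data n hn X hcard hc
  have hCab : IsMulCommutative (zpowers c) := IsCyclic.isMulCommutative
  have hcomm : ∀ u ∈ zpowers c, ∀ w ∈ zpowers c, u * w = w * u := fun u hu w hw =>
    congrArg Subtype.val (mul_comm' (⟨u, hu⟩ : zpowers c) ⟨w, hw⟩)
  have hCn : (zpowers c).Normal := Subgroup.normal_of_index_eq_two hCi
  have hmul := Subgroup.card_eq_card_quotient_mul_card_subgroup (center X)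
  rw [hcard, hZ] at hmul
  have hpow : 2 ^ n = 2 ^ (n - 2) * 2 * 2 := by
    rw [show n = (n - 2) + 2 by omega, pow_add]; norm_num; ring_nf
  have hq : Nat.card (X ⧸ center X) = 2 * 2 ^ (n - 2) := by omega
  set π := QuotientGroup.mk' (center X) with hπ
  have hker : π.ker = center X := QuotientGroup.ker_mk' _
  have hmapz : (zpowers c).map π = zpowers (π c) := MonoidHom.map_zpowers π c
  have hidx : (zpowers (π c)).index = 2 := by
    rw [← hmapz, Subgroup.index_map_eq _ (QuotientGroup.mk'_surjective _)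
      (by rw [hker]; exact hZC), hCi]
  have hord : orderOf (π c) = 2 ^ (n - 2) := by
    have := (zpowers (π c)).card_mul_index
    rw [hidx, Nat.card_zpowers, hq] at this
    omega
  have hr : (π c) ^ (2 ^ (n - 2)) = 1 := by rw [← hord]; exact pow_orderOf_eq_one _
  have hcC : c ∈ zpowers c := mem_zpowers c
  have ht2 : t * t ∈ zpowers c := Subgroup.mul_self_mem_of_index_two hCi t
  have htct : t * c * t⁻¹ ∈ zpowers c := hCn.conj_mem c hcC t
  have memZ : ∀ y, y ∈ zpowers c → t * y = y * t → y ∈ center X := by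
    intro y hy hyt
    rw [← hinf]
    refine ⟨hy, ?_⟩
    show y ∈ centralizer ({t} : Set X)
    rw [mem_centralizer_iff]
    intro r hr
    rw [Set.mem_singleton_iff] at hr
    subst hr
    exact hyt
  have hs : π t * π t = 1 := by
    rw [← map_mul, ← MonoidHom.mem_ker, hker]
    exact memZ _ ht2 (by group)
  have hsr : π t * π c * π t = (π c)⁻¹ := by
    rw [← mul_eq_one_iff_eq_inv, ← map_mul, ← map_mul, ← map_mul, ← MonoidHom.mem_ker, hker]
    have e1 : t * c * t * c = (t * c * t⁻¹) * (t * t) * c := by group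
    apply memZ
    · rw [e1]
      exact (zpowers c).mul_mem ((zpowers c).mul_mem htct ht2) hcC
    · have h2 := hcomm _ ((zpowers c).mul_mem htct ht2) _ hcC
      calc t * (t * c * t * c) = t * ((t * c * t⁻¹) * (t * t) * c) := by rw [e1]
        _ = t * (c * ((t * c * t⁻¹) * (t * t))) := by rw [h2]
        _ = t * c * t * c * t := by group
  have hs' : π t ∉ zpowers (π c) := by
    rw [← hmapz]
    rintro ⟨u, hu, hut⟩
    apply ht
    have : u⁻¹ * t ∈ center X := by
      rw [← hker, MonoidHom.mem_ker, map_mul, map_inv, hut, inv_mul_cancel]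
    have h3 : u * (u⁻¹ * t) ∈ zpowers c := (zpowers c).mul_mem hu (hZC this)
    simpa using h3
  exact Cfsg.Agent.Lib.Helper14.nonempty_mulEquiv_dihedral (2 ^ (n - 2)) hq (π c) (π t) hr hs hsr
    hord hs'

end Cfsg.Agent.Lib.Helper1
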