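import Mathlib
import Cfsg.Agent.Lib.Helper1.MaxClassDihedral
import Cfsg.Agent.Lib.Helper18.UniqueInvolution

/-! Classification of `2`-groups of maximal class: dihedral, semidihedral, generalized quaternion. -/

namespace Cfsg.Agent.Lib.Helper1

open Subgroup

universe u

/-- in a cyclic group `⟨c⟩` of order `2m`, an element with trivial square is `1` or `c ^ m` -/
theorem eq_one_or_eq_pow_of_mul_self {X : Type*} [Group X] (c w : X) (m : ℕ)
    (hord : orderOf c = 2 * m) (hw : w ∈ zpowers c) (hw2 : w * w = 1) : w = 1 ∨ w = c ^ m := by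
  obtain ⟨k, rfl⟩ := mem_zpowers_iff.mp hw
  have h1 : c ^ (2 * k) = 1 := by rw [two_mul, zpow_add]; exact hw2
  have h2 : ((2 * m : ℕ) : ℤ) ∣ 2 * k := by
    rw [← hord]; exact orderOf_dvd_iff_zpow_eq_one.mpr h1
  have h3 : (m : ℤ) ∣ k := by
    push_cast at h2
    exact (mul_dvd_mul_iff_left (by norm_num)).mp h2
  obtain ⟨j, rfl⟩ := h3
  have hc2m : c ^ ((2 * m : ℕ) : ℤ) = 1 := by
    rw [zpow_natCast, ← hord]; exact pow_orderOf_eq_one c
  rcases Int.even_or_odd' j with ⟨i, hi | hi⟩
  · left
    rw [hi, show (m : ℤ) * (2 * i) = ((2 * m : ℕ) : ℤ) * i by push_cast; ring, zpow_mul, hc2m,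
      one_zpow]
  · right
    rw [hi, show (m : ℤ) * (2 * i + 1) = ((2 * m : ℕ) : ℤ) * i + m by push_cast; ring, zpow_add,
      zpow_mul, hc2m, one_zpow, one_mul, zpow_natCast]

/-- **Part F**: a `2`-group of order `2 ^ n ≥ 8` whose commutator subgroup has index four is
dihedral, semidihedral or generalized quaternion. -/
theorem classify_of_index_commutator (n : ℕ) (hn : 3 ≤ n) (S : Type u) [Group S] [Finite S]
    (hcard : Nat.card S = 2 ^ n) (hidx : (commutator S).index = 4) :
    (∃ k : ℕ, Nonempty (S ≃* DihedralGroup (2 ^ (k + 2)))) ∨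
      (∃ k : ℕ, Nat.card S = 2 ^ (k + 4) ∧ ∃ a b : S, orderOf a = 2 ^ (k + 3) ∧ orderOf b = 2 ∧
        b * a * b⁻¹ = a ^ (2 ^ (k + 2) - 1)) ∨
      (∃ k : ℕ, Nonempty (S ≃* QuaternionGroup (2 ^ (k + 1)))) := by
  have hc := nilpotencyClass_of_index_commutator n hn S hcard hidx
  obtain ⟨c, t, hCi, ht, hinf, hZ, hZC⟩ := maximal_class_data n hn S hcard hc
  have hCab : IsMulCommutative (zpowers c) := IsCyclic.isMulCommutative
  have hcomm : ∀ u ∈ zpowers c, ∀ w ∈ zpowers c, u * w = w * u := fun u hu w hw =>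
    congrArg Subtype.val (mul_comm' (⟨u, hu⟩ : zpowers c) ⟨w, hw⟩)
  have hCn : (zpowers c).Normal := Subgroup.normal_of_index_eq_two hCi
  set m := 2 ^ (n - 2) with hm
  have hm2 : 2 ≤ m := by
    rw [hm]
    calc 2 = 2 ^ 1 := by norm_num
      _ ≤ 2 ^ (n - 2) := Nat.pow_le_pow_right (by norm_num) (by omega)
  have hpow : 2 ^ n = 2 * m * 2 := by
    rw [hm, show n = (n - 2) + 2 by omega, pow_add]; norm_num; ring_nf
  have hord : orderOf c = 2 * m := by
    have := (zpowers c).card_mul_index
    rw [hCi, Nat.card_zpowers, hcard, hpow] at this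
    omega
  have hcC : c ∈ zpowers c := mem_zpowers c
  have ht2 : t * t ∈ zpowers c := Subgroup.mul_self_mem_of_index_two hCi t
  have htct : t * c * t⁻¹ ∈ zpowers c := hCn.conj_mem c hcC t
  have memZ : ∀ y, y ∈ zpowers c → t * y = y * t → y ∈ center S := by
    intro y hy hyt
    rw [← hinf]
    refine ⟨hy, ?_⟩
    show y ∈ centralizer ({t} : Set S)
    rw [mem_centralizer_iff]
    intro r hr
    rw [Set.mem_singleton_iff] at hr
    subst hr
    exact hyt
  have hZsq : ∀ w ∈ center S, w = 1 ∨ w = c ^ m := by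
    intro w hw
    apply eq_one_or_eq_pow_of_mul_self c w m hord (hZC hw)
    have h := pow_card_eq_one' (G := center S) (x := ⟨w, hw⟩)
    rw [hZ] at h
    have h' := congrArg Subtype.val h
    simpa [pow_two] using h'
  have hcm1 : c ^ m ≠ 1 := by
    intro h
    have := orderOf_dvd_of_pow_eq_one h
    rw [hord] at this
    have := Nat.le_of_dvd (by omega) this
    omega
  have hc2m : c ^ (2 * m) = 1 := by rw [← hord]; exact pow_orderOf_eq_one c
  -- `t * t` is central
  have htt : t * t = 1 ∨ t * t = c ^ m := hZsq _ (memZ _ ht2 (by group))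
  -- `y = c * (t c t⁻¹)` is central
  have hy : c * (t * c * t⁻¹) ∈ center S := by
    apply memZ _ ((zpowers c).mul_mem hcC htct)
    have h2 := hcomm _ ((zpowers c).mul_mem htct ht2) _ hcC
    calc t * (c * (t * c * t⁻¹)) = ((t * c * t⁻¹) * (t * t) * c) * t⁻¹ := by group
      _ = (c * ((t * c * t⁻¹) * (t * t))) * t⁻¹ := by rw [h2]
      _ = c * (t * c * t⁻¹) * t := by group
  have hconj : ∀ y, c * (t * c * t⁻¹) = y → t * c * t⁻¹ = c⁻¹ * y := by
    intro y h; rw [← h]; group
  have hall : ∀ g : S, g ∈ zpowers c ∨ ∃ h ∈ zpowers c, g = t * h := by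
    intro g
    by_cases hg : g ∈ zpowers c
    · exact Or.inl hg
    · exact Or.inr (exists_eq_mul_of_index_two _ hCi t ht g hg)
  have ht1 : t ≠ 1 := fun h => ht (h ▸ (zpowers c).one_mem)
  rcases hZsq _ hy with hy1 | hyz
  · -- `t` inverts `c`
    have hinv : t * c * t⁻¹ = c⁻¹ := by rw [hconj 1 hy1, mul_one]
    rcases htt with htt1 | httz
    · -- dihedral
      left
      refine ⟨n - 3, ?_⟩
      have e : n - 3 + 2 = n - 1 := by omega
      rw [e]
      have h2m : 2 ^ (n - 1) = 2 * m := by
        rw [hm, show n - 1 = (n - 2) + 1 by omega, pow_succ]; ring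
      rw [h2m]
      have htinv : t⁻¹ = t := inv_eq_of_mul_eq_one_left htt1
      apply Cfsg.Agent.Lib.Helper14.nonempty_mulEquiv_dihedral (2 * m) (by rw [hcard, hpow]; ring)
        c t hc2m htt1 (by rw [← hinv, htinv]) hord ht
    · -- quaternion
      right; right
      refine ⟨n - 3, ?_⟩
      have e : n - 3 + 1 = n - 2 := by omega
      rw [e, ← hm]
      exact Cfsg.Agent.Lib.Helper18.nonempty_mulEquiv_quaternionGroup c t m hord
        (by rw [pow_two]; exact httz) hinv ht hall
  · -- semidihedral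
    have hinv : t * c * t⁻¹ = c ^ (m - 1) := by
      rw [hconj _ hyz]
      have : c ^ m = c * c ^ (m - 1) := by rw [← pow_succ']; congr 1; omega
      rw [this]; group
    right; left
    have hn4 : 4 ≤ n := by
      by_contra h
      have hn3 : n = 3 := by omega
      have hm2' : m = 2 := by rw [hm, hn3]; norm_num
      rw [hm2'] at hinv
      simp only [Nat.add_one_sub_one, pow_one] at hinv
      have : c ∈ center S := by
        apply memZ c hcC
        calc t * c = (t * c * t⁻¹) * t := by group
          _ = c * t := by rw [hinv]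
      rcases hZsq c this with h1 | h1
      · rw [h1, orderOf_one] at hord; omega
      · rw [hm2'] at h1
        have h3 : c ^ 1 = 1 := by
          have : c ^ 2 = c * c ^ 1 := by rw [← pow_succ']
          rw [this] at h1
          have h4 := mul_left_cancel (a := c) (b := 1) (c := c ^ 1) (by rw [mul_one]; exact h1)
          exact h4.symm
        have := orderOf_dvd_of_pow_eq_one h3
        rw [hord, hm2'] at this
        omega
    refine ⟨n - 4, ?_, ?_⟩
    · rw [hcard]; congr 1; omega
    have e3 : n - 4 + 3 = n - 1 := by omega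
    have e2 : n - 4 + 2 = n - 2 := by omega
    have h2m : 2 ^ (n - 1) = 2 * m := by
      rw [hm, show n - 1 = (n - 2) + 1 by omega, pow_succ]; ring
    rw [e3, e2, ← hm, h2m]
    rcases htt with htt1 | httz
    · refine ⟨c, t, hord, ?_, hinv⟩
      exact orderOf_eq_prime (by rw [pow_two]; exact htt1) ht1
    · refine ⟨c, t * c, hord, ?_, ?_⟩
      · apply orderOf_eq_prime
        · rw [pow_two]
          calc t * c * (t * c) = (t * c * t⁻¹) * (t * t) * c := by group
            _ = c ^ (m - 1) * c ^ m * c := by rw [hinv, httz]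
            _ = c ^ (2 * m) := by
              rw [← pow_add, ← pow_succ]; congr 1; omega
            _ = 1 := hc2m
        · intro h
          apply ht
          have : t = c⁻¹ := eq_inv_of_mul_eq_one_left h
          rw [this]; exact (zpowers c).inv_mem hcC
      · rw [← hinv]; group

end Cfsg.Agent.Lib.Helper1
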