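import Mathlib

/-!
helper1 for helper26's S5075 market, leaf GSL: a linear automorphism of determinant `1` of a
finite-dimensional vector space is a product of transvections (`LinearEquiv.transvections`).
Coordinate-free, any field.
-/

set_option autoImplicit false
set_option linter.unusedSectionVars false
set_option linter.unusedVariables false

namespace Cfsg.Agent.Lib.Helper1.McLLeaf
open Module

universe u v
variable {F : Type v} [Field F]

section basics
variable {V : Type u} [AddCommGroup V] [Module F V]

/-- elements of the transvection group have determinant `1` -/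
lemma det_eq_one_of_mem_closure {t : V ≃ₗ[F] V}
    (ht : t ∈ Subgroup.closure (LinearEquiv.transvections F V)) : LinearEquiv.det t = 1 := by
  have : Subgroup.closure (LinearEquiv.transvections F V) ≤ (LinearEquiv.det (R := F) (M := V)).ker := by
    rw [Subgroup.closure_le]
    rintro _ ⟨f, v, hfv, rfl⟩
    exact LinearEquiv.transvection.det_eq_one hfv
  exact this ht

/-- a functional with `φ u = 1` vanishing at `d`, when `u ∉ span {d}` -/
lemma exists_dual_one_zero {u d : V} (h : u ∉ Submodule.span F {d}) :
    ∃ φ : Module.Dual F V, φ u = 1 ∧ φ d = 0 := by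
  obtain ⟨f, hf, hf'⟩ := Submodule.exists_dual_map_eq_bot_of_notMem h inferInstance
  refine ⟨(f u)⁻¹ • f, ?_, ?_⟩
  · rw [LinearMap.smul_apply, smul_eq_mul, inv_mul_cancel₀ hf]
  · have : f d ∈ (Submodule.span F {d}).map f :=
      Submodule.mem_map_of_mem (Submodule.mem_span_singleton_self d)
    rw [hf', Submodule.mem_bot] at this
    rw [LinearMap.smul_apply, this, smul_zero]

/-- one transvection maps `u` to `u'` when `u ∉ span {u' - u}` -/
lemma exists_transvection_map {u u' : V} (h : u ∉ Submodule.span F {u' - u}) :
    ∃ t ∈ LinearEquiv.transvections F V, t u = u' := by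
  obtain ⟨φ, h1, h2⟩ := exists_dual_one_zero h
  refine ⟨LinearEquiv.transvection h2, LinearEquiv.mem_transvections h2, ?_⟩
  rw [LinearEquiv.transvection.apply, h1, one_smul]; abel

/-- the transvection group is transitive on nonzero vectors, in dimension at least two -/
lemma exists_closure_transvection_map {u u' : V} (hu : u ≠ 0) (hu' : u' ≠ 0)
    (hz : ∃ z : V, z ∉ Submodule.span F {u}) :
    ∃ t ∈ Subgroup.closure (LinearEquiv.transvections F V), t u = u' := by
  -- independent case
  have key : ∀ a b : V, b ∉ Submodule.span F {a} → a ≠ 0 →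
      ∃ t ∈ LinearEquiv.transvections F V, t a = b := by
    intro a b hab ha
    apply exists_transvection_map
    intro hmem
    obtain ⟨c, hc⟩ := Submodule.mem_span_singleton.mp hmem
    -- a = c • (b - a), so (1 + c) • a = c • b
    have h1 : c • b = (1 + c) • a := by
      have h0 := hc
      rw [smul_sub, sub_eq_iff_eq_add] at h0
      rw [add_smul, one_smul]
      exact h0
    have hc0 : c ≠ 0 := by
      rintro rfl
      rw [zero_smul] at hc
      exact ha hc.symm
    apply hab
    rw [Submodule.mem_span_singleton]
    refine ⟨c⁻¹ * (1 + c), ?_⟩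
    rw [mul_smul, ← h1, smul_smul, inv_mul_cancel₀ hc0, one_smul]
  by_cases h : u' ∈ Submodule.span F {u}
  · obtain ⟨z, hz⟩ := hz
    obtain ⟨c, hc⟩ := Submodule.mem_span_singleton.mp h
    have hc0 : c ≠ 0 := by
      rintro rfl
      rw [zero_smul] at hc
      exact hu' hc.symm
    have hz0 : z ≠ 0 := by
      rintro rfl
      exact hz (Submodule.zero_mem _)
    obtain ⟨t₁, ht₁, ht₁u⟩ := key u z hz hu
    have hz' : u' ∉ Submodule.span F {z} := by
      intro hmem
      obtain ⟨e, he⟩ := Submodule.mem_span_singleton.mp hmem
      have he0 : e ≠ 0 := by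
        rintro rfl
        rw [zero_smul] at he
        exact hu' he.symm
      apply hz
      rw [Submodule.mem_span_singleton]
      refine ⟨e⁻¹ * c, ?_⟩
      rw [mul_smul, hc, ← he, smul_smul, inv_mul_cancel₀ he0, one_smul]
    obtain ⟨t₂, ht₂, ht₂u⟩ := key z u' hz' hz0
    refine ⟨t₂ * t₁, Subgroup.mul_mem _ (Subgroup.subset_closure ht₂)
      (Subgroup.subset_closure ht₁), ?_⟩
    change t₂ (t₁ u) = u'
    rw [ht₁u, ht₂u]
  · obtain ⟨t, ht, htu⟩ := key u u' h hu
    exact ⟨t, Subgroup.subset_closure ht, htu⟩

/-- lifting elements of the transvection group of `V ⧸ span {v}` to elements of the transvection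
group of `V` fixing `v` -/
lemma exists_lift_of_mem_closure (v : V) {e : (V ⧸ Submodule.span F {v}) ≃ₗ[F] (V ⧸ Submodule.span F {v})}
    (he : e ∈ Subgroup.closure (LinearEquiv.transvections F (V ⧸ Submodule.span F {v}))) :
    ∃ t ∈ Subgroup.closure (LinearEquiv.transvections F V), t v = v ∧
      ∀ x : V, (Submodule.span F {v}).mkQ (t x) = e ((Submodule.span F {v}).mkQ x) := by
  induction he using Subgroup.closure_induction with
  | mem e he =>
    obtain ⟨ψ, ub, hψ, rfl⟩ := he
    obtain ⟨u, rfl⟩ := (Submodule.span F {v}).mkQ_surjective ub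
    have h0 : (ψ ∘ₗ (Submodule.span F {v}).mkQ) u = 0 := hψ
    have hv0 : (Submodule.span F {v}).mkQ v = 0 := by
      rw [Submodule.mkQ_apply, Submodule.Quotient.mk_eq_zero]
      exact Submodule.mem_span_singleton_self v
    refine ⟨LinearEquiv.transvection h0, Subgroup.subset_closure (LinearEquiv.mem_transvections h0),
      ?_, ?_⟩
    · rw [LinearEquiv.transvection.apply, LinearMap.comp_apply, hv0, map_zero, zero_smul, add_zero]
    · intro x
      rw [LinearEquiv.transvection.apply, LinearEquiv.transvection.apply, map_add, map_smul,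
        LinearMap.comp_apply]
  | one =>
    exact ⟨1, Subgroup.one_mem _, rfl, fun x => rfl⟩
  | mul a b ha hb iha ihb =>
    obtain ⟨s, hs, hsv, hsx⟩ := iha
    obtain ⟨t, ht, htv, htx⟩ := ihb
    refine ⟨s * t, Subgroup.mul_mem _ hs ht, ?_, ?_⟩
    · change s (t v) = v
      rw [htv, hsv]
    · intro x
      change (Submodule.span F {v}).mkQ (s (t x)) = a (b _)
      rw [hsx, htx]
  | inv a ha iha =>
    obtain ⟨s, hs, hsv, hsx⟩ := iha
    refine ⟨s⁻¹, Subgroup.inv_mem _ hs, ?_, ?_⟩
    · change s.symm v = v
      rw [LinearEquiv.symm_apply_eq, hsv]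
    · intro x
      change (Submodule.span F {v}).mkQ (s.symm x) = a.symm _
      rw [eq_comm, LinearEquiv.symm_apply_eq, ← hsx, LinearEquiv.apply_symm_apply]

/-- an automorphism fixing `v` and inducing the identity modulo `span {v}` is a transvection -/
lemma mem_transvections_of_fix {v : V} (hv : v ≠ 0) (h : V ≃ₗ[F] V) (hhv : h v = v)
    (hq : ∀ x : V, h x - x ∈ Submodule.span F {v}) : h ∈ LinearEquiv.transvections F V := by
  have hv' : v ∉ Submodule.span F {(0 : V)} := by
    intro hmem
    obtain ⟨c, hc⟩ := Submodule.mem_span_singleton.mp hmem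
    rw [smul_zero] at hc
    exact hv hc.symm
  obtain ⟨φ, h1, -⟩ := exists_dual_one_zero hv'
  have h0 : (φ ∘ₗ ((h : V →ₗ[F] V) - LinearMap.id)) v = 0 := by
    rw [LinearMap.comp_apply, LinearMap.sub_apply, LinearMap.id_apply, LinearEquiv.coe_coe, hhv,
      sub_self, map_zero]
  have : h = LinearEquiv.transvection h0 := by
    ext x
    rw [LinearEquiv.transvection.apply, LinearMap.comp_apply, LinearMap.sub_apply,
      LinearMap.id_apply, LinearEquiv.coe_coe]
    obtain ⟨c, hc⟩ := Submodule.mem_span_singleton.mp (hq x)
    rw [← hc, map_smul, h1, smul_eq_mul, mul_one, hc]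
    abel
  rw [this]
  exact LinearEquiv.mem_transvections h0

end basics

/-- main induction -/
theorem gsl_aux (n : ℕ) : ∀ (V : Type u) [AddCommGroup V] [Module F V] [FiniteDimensional F V],
    finrank F V = n → ∀ f : V ≃ₗ[F] V, LinearMap.det (f : V →ₗ[F] V) = 1 →
      f ∈ Subgroup.closure (LinearEquiv.transvections F V) := by
  induction n with
  | zero =>
    intro V _ _ _ hn f hf
    have hsub : Subsingleton V := Module.finrank_zero_iff.mp hn
    have : f = 1 := by
      ext x
      exact Subsingleton.elim _ _
    rw [this]
    exact Subgroup.one_mem _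
  | succ n ih =>
    intro V _ _ _ hn f hf
    have hpos : 0 < finrank F V := by omega
    obtain ⟨v, hv⟩ : ∃ v : V, v ≠ 0 := by
      have : Nontrivial V := Module.finrank_pos_iff.mp hpos
      exact exists_ne 0
    -- Step 1: reduce to `g v = v`
    have step1 : ∃ t₀ ∈ Subgroup.closure (LinearEquiv.transvections F V), t₀ (f v) = v := by
      by_cases hz : ∃ z : V, z ∉ Submodule.span F {v}
      · have hfv : f v ≠ 0 := by
          intro h0
          exact hv (f.map_eq_zero_iff.mp h0)
        have hz' : ∃ z : V, z ∉ Submodule.span F {f v} := by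
          obtain ⟨z, hz⟩ := hz
          refine ⟨f z, fun hmem => hz ?_⟩
          obtain ⟨c, hc⟩ := Submodule.mem_span_singleton.mp hmem
          rw [Submodule.mem_span_singleton]
          refine ⟨c, ?_⟩
          apply f.injective
          rw [map_smul, hc]
        exact exists_closure_transvection_map hfv hv hz'
      · push Not at hz
        refine ⟨1, Subgroup.one_mem _, ?_⟩
        change f v = v
        obtain ⟨a, ha⟩ := Submodule.mem_span_singleton.mp (hz (f v))
        have hfa : (f : V →ₗ[F] V) = a • LinearMap.id := by
          ext x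
          obtain ⟨c, hc⟩ := Submodule.mem_span_singleton.mp (hz x)
          rw [LinearEquiv.coe_coe, LinearMap.smul_apply, LinearMap.id_apply, ← hc, map_smul, ← ha,
            smul_comm]
        have htop : Submodule.span F {v} = ⊤ := by
          rw [eq_top_iff]
          intro x _
          exact hz x
        have h1 : finrank F V = 1 := by
          rw [← finrank_top F V, ← htop]
          exact finrank_span_singleton hv
        rw [hfa, LinearMap.det_smul, h1, pow_one, LinearMap.det_id, mul_one] at hf
        rw [← ha, hf, one_smul]
    obtain ⟨t₀, ht₀, ht₀v⟩ := step1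
    -- `g = t₀ * f` fixes `v`
    set g : V ≃ₗ[F] V := t₀ * f with hg
    have hgv : g v = v := ht₀v
    have hgdet : LinearMap.det (g : V →ₗ[F] V) = 1 := by
      have h1 : LinearEquiv.det t₀ = 1 := det_eq_one_of_mem_closure ht₀
      have h2 : LinearEquiv.det f = 1 := by
        apply Units.ext
        rw [LinearEquiv.coe_det, hf, Units.val_one]
      have h3 : LinearEquiv.det g = 1 := by
        rw [hg, map_mul, h1, h2, one_mul]
      rw [← LinearEquiv.coe_det, h3, Units.val_one]
    suffices hgm : g ∈ Subgroup.closure (LinearEquiv.transvections F V) by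
      have : f = t₀⁻¹ * g := by rw [hg, inv_mul_cancel_left]
      rw [this]
      exact Subgroup.mul_mem _ (Subgroup.inv_mem _ ht₀) hgm
    -- the quotient
    have hcomap : Submodule.span F {v} ≤ (Submodule.span F {v}).comap (g : V →ₗ[F] V) := by
      rw [Submodule.span_le]
      intro x hx
      rw [Set.mem_singleton_iff] at hx
      subst hx
      change g x ∈ Submodule.span F {x}
      rw [hgv]
      exact Submodule.mem_span_singleton_self x
    have hmap : (Submodule.span F {v}).map (g : V →ₗ[F] V) = Submodule.span F {v} := by
      rw [Submodule.map_span, Set.image_singleton, LinearEquiv.coe_coe, hgv]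
    have hrestr : (g : V →ₗ[F] V).restrict hcomap = LinearMap.id := by
      ext ⟨x, hx⟩
      obtain ⟨c, rfl⟩ := Submodule.mem_span_singleton.mp hx
      simp only [LinearMap.coe_restrict_apply, LinearEquiv.coe_coe, LinearMap.id_apply, map_smul, hgv]
    have hdetq : LinearMap.det ((Submodule.span F {v}).mapQ (Submodule.span F {v})
        (g : V →ₗ[F] V) hcomap) = 1 := by
      have := LinearMap.det_eq_det_mul_det (Submodule.span F {v}) (g : V →ₗ[F] V) hcomap
      rw [hrestr, LinearMap.det_id, one_mul, hgdet] at this
      exact this.symm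
    have hrankq : finrank F (V ⧸ Submodule.span F {v}) = n := by
      have := Submodule.finrank_quotient_add_finrank (Submodule.span F {v})
      rw [finrank_span_singleton hv, hn] at this
      omega
    have hq := ih (V ⧸ Submodule.span F {v}) hrankq
      (Submodule.Quotient.equiv (Submodule.span F {v}) (Submodule.span F {v}) g hmap) hdetq
    obtain ⟨t, ht, htv, htx⟩ := exists_lift_of_mem_closure v hq
    -- `h = t⁻¹ * g`
    have hh : t⁻¹ * g ∈ LinearEquiv.transvections F V := by
      apply mem_transvections_of_fix hv
      · change t.symm (g v) = v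
        rw [hgv, LinearEquiv.symm_apply_eq, htv]
      · intro x
        change t.symm (g x) - x ∈ _
        rw [← Submodule.Quotient.mk_eq_zero, Submodule.Quotient.mk_sub, sub_eq_zero]
        have h1 := htx (t.symm (g x))
        rw [LinearEquiv.apply_symm_apply] at h1
        apply (Submodule.Quotient.equiv (Submodule.span F {v}) (Submodule.span F {v}) g hmap).injective
        change _ = (Submodule.span F {v}).mkQ (g x)
        rw [h1]
        rfl
    have : g = t * (t⁻¹ * g) := by rw [mul_inv_cancel_left]
    rw [this]
    exact Subgroup.mul_mem _ ht (Subgroup.subset_closure hh)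

/-- **GSL**: a linear automorphism of determinant `1` of a finite-dimensional vector space is a
product of transvections. -/
theorem mem_closure_transvections {V : Type u} [AddCommGroup V] [Module F V] [FiniteDimensional F V]
    (f : V ≃ₗ[F] V) (hf : LinearMap.det (f : V →ₗ[F] V) = 1) :
    f ∈ Subgroup.closure (LinearEquiv.transvections F V) :=
  gsl_aux (finrank F V) V rfl f hf

/-- variant with `LinearEquiv.det` -/
theorem mem_closure_transvections' {V : Type u} [AddCommGroup V] [Module F V]
    [FiniteDimensional F V] (f : V ≃ₗ[F] V) (hf : LinearEquiv.det f = 1) :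
    f ∈ Subgroup.closure (LinearEquiv.transvections F V) := by
  apply mem_closure_transvections
  rw [← LinearEquiv.coe_det, hf, Units.val_one]

/-- the transvection group is the kernel of the determinant -/
theorem closure_transvections_eq_ker_det {V : Type u} [AddCommGroup V] [Module F V]
    [FiniteDimensional F V] :
    Subgroup.closure (LinearEquiv.transvections F V) = (LinearEquiv.det (R := F) (M := V)).ker := by
  apply le_antisymm
  · intro f hf
    exact det_eq_one_of_mem_closure hf
  · intro f hf
    exact mem_closure_transvections' f hf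

/-- iff form -/
theorem mem_closure_transvections_iff {V : Type u} [AddCommGroup V] [Module F V]
    [FiniteDimensional F V] (f : V ≃ₗ[F] V) :
    f ∈ Subgroup.closure (LinearEquiv.transvections F V) ↔
      LinearMap.det (f : V →ₗ[F] V) = 1 := by
  constructor
  · intro hf
    rw [← LinearEquiv.coe_det, det_eq_one_of_mem_closure hf, Units.val_one]
  · exact mem_closure_transvections f

end Cfsg.Agent.Lib.Helper1.McLLeaf

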