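import Mathlib
import Cfsg.Prelude.Def_OddOrderLocal
import Cfsg.Agent.Lib.Helper1.MetacyclicTwoBasic

/-!
Metacyclic `2`-groups with an automorphism of odd order, part 3 (helper1 library):
an abelian metacyclic `2`-group without characteristic subgroups of index two is homocyclic of
rank two.
-/

set_option autoImplicit false

namespace Cfsg.Agent.Lib.Helper1

open Subgroup

open scoped IsMulCommutative in
/-- an abelian group of order at most `m ^ 2` with two independent elements of order `m` is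
`Z_m × Z_m` -/
theorem nonempty_mulEquiv_zmod_prod {Y : Type*} [Group Y] [Finite Y] [IsMulCommutative Y] (m : ℕ)
    [NeZero m] (x y : Y) (hx : x ^ m = 1) (hy : y ^ m = 1)
    (hinj : ∀ i j : ℕ, x ^ i * y ^ j = 1 → m ∣ i ∧ m ∣ j) (hcard : Nat.card Y ≤ m * m) :
    Nonempty (Y ≃* Multiplicative (ZMod m) × Multiplicative (ZMod m)) := by
  have key : ∀ z : Y, z ^ m = 1 → ∃ φ : Multiplicative (ZMod m) →* Y,
      ∀ i : ℕ, φ (Multiplicative.ofAdd (i : ZMod m)) = z ^ i := by
    intro z hz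
    have hz' : (zmultiplesHom (Additive Y) (Additive.ofMul z)) (m : ℤ) = 0 := by
      rw [zmultiplesHom_apply, natCast_zsmul, ← ofMul_pow, hz, ofMul_one]
    refine ⟨AddMonoidHom.toMultiplicativeLeft
      (ZMod.lift m ⟨zmultiplesHom (Additive Y) (Additive.ofMul z), hz'⟩), ?_⟩
    intro i
    have h1 : ((i : ℕ) : ZMod m) = ((i : ℤ) : ZMod m) := by push_cast; rfl
    simp only [AddMonoidHom.toMultiplicativeLeft_apply_apply, toAdd_ofAdd]
    rw [h1, ZMod.lift_coe, zmultiplesHom_apply, natCast_zsmul, ← ofMul_pow, toMul_ofMul]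
  obtain ⟨φx, hφx⟩ := key x hx
  obtain ⟨φy, hφy⟩ := key y hy
  have hfin : Finite (Multiplicative (ZMod m) × Multiplicative (ZMod m)) := inferInstance
  have hinjf : Function.Injective (MonoidHom.coprod φx φy) := by
    rw [injective_iff_map_eq_one]
    rintro ⟨a, b⟩ hab
    rw [MonoidHom.coprod_apply] at hab
    have ha : a = Multiplicative.ofAdd ((Multiplicative.toAdd a).val : ZMod m) := by
      rw [ZMod.natCast_zmod_val]; rfl
    have hb : b = Multiplicative.ofAdd ((Multiplicative.toAdd b).val : ZMod m) := by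
      rw [ZMod.natCast_zmod_val]; rfl
    rw [ha, hb, hφx, hφy] at hab
    obtain ⟨h1, h2⟩ := hinj _ _ hab
    rw [ha, hb, (ZMod.natCast_eq_zero_iff _ _).mpr h1, (ZMod.natCast_eq_zero_iff _ _).mpr h2]
    rfl
  have hcd : Nat.card (Multiplicative (ZMod m) × Multiplicative (ZMod m)) = m * m := by
    rw [Nat.card_prod, Nat.card_eq_fintype_card, Fintype.card_multiplicative, ZMod.card]
  have hbij := hinjf.bijective_of_nat_card_le (by rw [hcd]; exact hcard)
  exact ⟨(MulEquiv.ofBijective _ hbij).symm⟩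

/-- powers of an element with trivial square -/
theorem pow_of_sq_eq_one {Y : Type*} [Monoid Y] (u : Y) (hu : u ^ 2 = 1) (i : ℕ) :
    u ^ i = if Even i then 1 else u := by
  rcases Nat.even_or_odd' i with ⟨a, rfl | rfl⟩
  · rw [pow_mul, hu, one_pow, if_pos (even_two_mul a)]
  · rw [pow_succ, pow_mul, hu, one_pow, one_mul, if_neg]
    rw [Nat.not_even_iff_odd]
    exact odd_two_mul_add_one a

open scoped IsMulCommutative in
/-- independence of two elements of order `2 ^ (n + 1)` whose top powers are distinct -/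
theorem dvd_of_pow_mul_pow_eq_one {Y : Type*} [Group Y] [IsMulCommutative Y] (n : ℕ) (x y : Y)
    (hx : x ^ 2 ^ (n + 1) = 1) (hy : y ^ 2 ^ (n + 1) = 1)
    (hu : x ^ 2 ^ n ≠ 1) (hv : y ^ 2 ^ n ≠ 1) (huv : x ^ 2 ^ n ≠ y ^ 2 ^ n) :
    ∀ i j : ℕ, x ^ i * y ^ j = 1 → 2 ^ (n + 1) ∣ i ∧ 2 ^ (n + 1) ∣ j := by
  have hu2 : (x ^ 2 ^ n) ^ 2 = 1 := by rw [← pow_mul, ← pow_succ]; exact hx
  have hv2 : (y ^ 2 ^ n) ^ 2 = 1 := by rw [← pow_mul, ← pow_succ]; exact hy
  have main : ∀ s : ℕ, s ≤ n + 1 → ∀ i j : ℕ, x ^ i * y ^ j = 1 → 2 ^ s ∣ i ∧ 2 ^ s ∣ j := by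
    intro s
    induction s with
    | zero => intro _ i j _; simp
    | succ s ih =>
      intro hs i j hij
      obtain ⟨⟨i', rfl⟩, ⟨j', rfl⟩⟩ := ih (by omega) i j hij
      have h1 : (x ^ (2 ^ s * i') * y ^ (2 ^ s * j')) ^ 2 ^ (n - s) = 1 := by
        rw [hij, one_pow]
      have h2 : 2 ^ s * 2 ^ (n - s) = 2 ^ n := by rw [← pow_add]; congr 1; omega
      rw [mul_pow, ← pow_mul, ← pow_mul, mul_right_comm, h2, mul_right_comm (2 ^ s) j', h2,
        pow_mul, pow_mul, pow_of_sq_eq_one _ hu2, pow_of_sq_eq_one _ hv2] at h1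
      by_cases hi : Even i' <;> by_cases hj : Even j'
      · obtain ⟨a, rfl⟩ := hi
        obtain ⟨b, rfl⟩ := hj
        refine ⟨⟨a, by ring⟩, ⟨b, by ring⟩⟩
      · rw [if_pos hi, if_neg hj, one_mul] at h1
        exact absurd h1 hv
      · rw [if_neg hi, if_pos hj, mul_one] at h1
        exact absurd h1 hu
      · rw [if_neg hi, if_neg hj] at h1
        exfalso
        apply huv
        have h3 : y ^ 2 ^ n * y ^ 2 ^ n = 1 := by rw [← sq]; exact hv2
        calc x ^ 2 ^ n = x ^ 2 ^ n * (y ^ 2 ^ n * y ^ 2 ^ n) := by rw [h3, mul_one]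
          _ = (x ^ 2 ^ n * y ^ 2 ^ n) * y ^ 2 ^ n := by rw [mul_assoc]
          _ = y ^ 2 ^ n := by rw [h1, one_mul]
  exact main (n + 1) le_rfl

open scoped IsMulCommutative in
/-- an abelian metacyclic `2`-group without characteristic subgroups of index two is
`Z_{2^n} × Z_{2^n}` -/
theorem homocyclic_of_noCharIndexTwo {Y : Type*} [Group Y] [Finite Y] [IsMulCommutative Y]
    (h2 : IsPGroup 2 Y) (hm : Cfsg.IsMetacyclic Y) (hc : NoCharIndexTwo Y) :
    ∃ n : ℕ, Nat.card Y = 2 ^ n * 2 ^ n ∧ (∀ y : Y, y ^ 2 ^ n = 1) ∧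
      Nonempty (Y ≃* Multiplicative (ZMod (2 ^ n)) × Multiplicative (ZMod (2 ^ n))) := by
  have : Fact (Nat.Prime 2) := ⟨Nat.prime_two⟩
  obtain ⟨N, hN⟩ := IsPGroup.iff_card.mp h2
  have hed : Monoid.exponent Y ∣ 2 ^ N := hN ▸ (Group.exponent_dvd_nat_card (G := Y))
  obtain ⟨n, -, hn⟩ := (Nat.dvd_prime_pow Nat.prime_two).mp hed
  have hexp : ∀ y : Y, y ^ 2 ^ n = 1 := by
    intro y; rw [← hn]; exact Monoid.pow_exponent_eq_one y
  have hdvd : Nat.card Y ∣ 2 ^ n * 2 ^ n := card_dvd_of_isMetacyclic hm _ hexp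
  have hle : Nat.card Y ≤ 2 ^ n * 2 ^ n := Nat.le_of_dvd (by positivity) hdvd
  suffices hiso : Nonempty (Y ≃* Multiplicative (ZMod (2 ^ n)) × Multiplicative (ZMod (2 ^ n))) by
    refine ⟨n, ?_, hexp, hiso⟩
    obtain ⟨e⟩ := hiso
    rw [Nat.card_congr e.toEquiv, Nat.card_prod, Nat.card_eq_fintype_card,
      Fintype.card_multiplicative, ZMod.card]
  rcases n with _ | n
  · apply nonempty_mulEquiv_zmod_prod (2 ^ 0) 1 1 (one_pow _) (one_pow _) _ hle
    intro i j _
    simp
  -- the power map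
  set π : Y →* Y := powMonoidHom (2 ^ n) with hπ
  have hπx : ∀ x : Y, x ∈ π.ker ↔ x ^ 2 ^ n = 1 := by
    intro x; rw [MonoidHom.mem_ker, hπ, powMonoidHom_apply]
  have hKchar : π.ker.Characteristic := by
    rw [Subgroup.characteristic_iff_le_comap]
    intro ϕ x hx
    rw [Subgroup.mem_comap, hπx]
    rw [hπx] at hx
    change (ϕ x) ^ 2 ^ n = 1
    rw [← map_pow, hx, map_one]
  have hKtop : π.ker ≠ ⊤ := by
    intro h
    have h1 : ∀ y : Y, y ^ 2 ^ n = 1 := by
      intro y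
      rw [← hπx, h]
      exact Subgroup.mem_top y
    have h2 := Monoid.exponent_dvd_of_forall_pow_eq_one h1
    rw [hn] at h2
    have h3 := (Nat.pow_dvd_pow_iff_le_right (by norm_num : 1 < 2)).mp h2
    omega
  have hK4 : π.ker.index ∣ 4 := by
    rw [Subgroup.index_eq_card]
    have hmq : Cfsg.IsMetacyclic (Y ⧸ π.ker) :=
      isMetacyclic_of_surjective (QuotientGroup.mk' π.ker) (QuotientGroup.mk'_surjective _) hm
    refine card_dvd_of_isMetacyclic hmq 2 ?_
    intro g
    induction g using QuotientGroup.induction_on with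
    | H y =>
      rw [← QuotientGroup.mk_pow]
      apply (QuotientGroup.eq_one_iff _).mpr
      rw [hπx, ← pow_mul, ← pow_succ']
      exact hexp y
  have hKi : π.ker.index = 4 := by
    have hK4' : π.ker.index ∣ 2 ^ 2 := hK4
    obtain ⟨k, hk, hk'⟩ := (Nat.dvd_prime_pow Nat.prime_two).mp hK4'
    have h1 : π.ker.index ≠ 1 := fun h => hKtop (Subgroup.index_eq_one.mp h)
    have h2 : π.ker.index ≠ 2 := hc _ hKchar
    interval_cases k
    · exact absurd hk' h1
    · exact absurd hk' h2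
    · exact hk'
  obtain ⟨x, -, hxK⟩ := SetLike.exists_of_lt (lt_top_iff_ne_top.mpr hKtop)
  obtain ⟨y, hyK, hxyK⟩ : ∃ y : Y, y ∉ π.ker ∧ x⁻¹ * y ∉ π.ker := by
    by_contra hcon
    push Not at hcon
    have hsurj : Function.Surjective
        (fun b : Bool => if b then (1 : Y ⧸ π.ker) else ((x : Y) : Y ⧸ π.ker)) := by
      intro q
      induction q using QuotientGroup.induction_on with
      | H y =>
        by_cases hy : y ∈ π.ker
        · exact ⟨true, ((QuotientGroup.eq_one_iff y).mpr hy).symm⟩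
        · refine ⟨false, ?_⟩
          exact QuotientGroup.eq.mpr (hcon y hy)
    have h1 := Nat.card_le_card_of_surjective _ hsurj
    rw [← Subgroup.index_eq_card, hKi] at h1
    simp at h1
  rw [hπx] at hxK hyK hxyK
  have huv : x ^ 2 ^ n ≠ y ^ 2 ^ n := by
    intro h
    apply hxyK
    rw [mul_pow, inv_pow, h, inv_mul_cancel]
  have hinj := dvd_of_pow_mul_pow_eq_one n x y (hexp x) (hexp y) hxK hyK huv
  exact nonempty_mulEquiv_zmod_prod (2 ^ (n + 1)) x y (hexp x) (hexp y) hinj hle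

end Cfsg.Agent.Lib.Helper1
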