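import Mathlib
import Cfsg.Prelude.Def_OddOrderLocal
import Cfsg.Agent.Lib.Helper1.MetacyclicTwoBasic

/-!
Metacyclic `2`-groups with an automorphism of odd order, part 2 (helper1 library):
a metacyclic `2`-group with an automorphism of odd prime order has no characteristic subgroup of
index two.
-/

set_option autoImplicit false

namespace Cfsg.Agent.Lib.Helper1

open Subgroup

/-- the subgroup of fixed points of an automorphism -/
def autFixed {X : Type*} [Group X] (α : MulAut X) : Subgroup X where
  carrier := {x | α x = x}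
  mul_mem' := by
    intro a b ha hb
    simp only [Set.mem_setOf_eq] at ha hb ⊢
    rw [map_mul, ha, hb]
  one_mem' := map_one α
  inv_mem' := by
    intro a ha
    simp only [Set.mem_setOf_eq] at ha ⊢
    rw [map_inv, ha]

theorem mem_autFixed {X : Type*} [Group X] (α : MulAut X) (x : X) :
    x ∈ autFixed α ↔ α x = x := Iff.rfl

/-- fixed point counting on an invariant subgroup -/
theorem card_modEq_card_autFixed_inf {X : Type*} [Group X] [Finite X] (α : MulAut X) {q : ℕ}
    [Fact q.Prime] (hα : α ^ q = 1) (K : Subgroup X) (hK : ∀ x ∈ K, α x ∈ K) :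
    Nat.card K ≡ Nat.card (autFixed α ⊓ K : Subgroup X) [MOD q] := by
  have hαK : (restrictAut α K hK) ^ q = 1 := by
    ext x
    rw [restrictAut_pow_apply, hα]
    rfl
  have h1 := card_modEq_card_fixed (restrictAut α K hK) hαK ((autFixed α ⊓ K).subgroupOf K) (by
    intro x
    rw [Subgroup.mem_subgroupOf, Subgroup.mem_inf, mem_autFixed]
    constructor
    · intro h
      apply Subtype.ext
      rw [restrictAut_apply]
      exact h.1
    · intro h
      refine ⟨?_, x.2⟩
      have := congrArg Subtype.val h
      rwa [restrictAut_apply] at this)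
  rwa [Nat.card_congr (Subgroup.subgroupOfEquivOfLe (inf_le_right : autFixed α ⊓ K ≤ K)).toEquiv]
    at h1

/-- between two invariant subgroups of relative index two there is a new fixed point -/
theorem exists_fixed_notMem {X : Type*} [Group X] [Finite X] (hX : IsPGroup 2 X) (α : MulAut X)
    {q : ℕ} [hq : Fact q.Prime] (hq2 : q ≠ 2) (hα : α ^ q = 1) (K L : Subgroup X)
    (hK : ∀ x ∈ K, α x ∈ K) (hL : ∀ x ∈ L, α x ∈ L) (hKL : K ≤ L)
    (hcard : Nat.card L = 2 * Nat.card K) : ∃ t, α t = t ∧ t ∈ L ∧ t ∉ K := by
  by_contra hcon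
  push Not at hcon
  have heq : autFixed α ⊓ L = autFixed α ⊓ K := by
    apply le_antisymm
    · intro t ht
      exact ⟨ht.1, hcon t ht.1 ht.2⟩
    · exact inf_le_inf_left _ hKL
  have h1 := card_modEq_card_autFixed_inf α hα K hK
  have h2 := card_modEq_card_autFixed_inf α hα L hL
  rw [heq, hcard] at h2
  have h3 : 2 * Nat.card K ≡ Nat.card K [MOD q] := h2.trans h1.symm
  have h4 : q ∣ 2 * Nat.card K - Nat.card K := (Nat.modEq_iff_dvd' (by omega)).mp h3.symm
  have h5 : 2 * Nat.card K - Nat.card K = Nat.card K := by omega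
  rw [h5] at h4
  obtain ⟨k, hk⟩ := IsPGroup.iff_card.mp (hX.to_subgroup K)
  rw [hk] at h4
  have := hq.out.dvd_of_dvd_pow h4
  exact hq2 ((Nat.prime_dvd_prime_iff_eq hq.out Nat.prime_two).mp this)

/-- a subgroup containing a subgroup of index two, and an element outside it, is everything -/
theorem eq_top_of_index_two_of_notMem {X : Type*} [Group X] [Finite X] (H J : Subgroup X)
    (hH : H.index = 2) (hHJ : H ≤ J) (t : X) (htJ : t ∈ J) (htH : t ∉ H) : J = ⊤ := by
  have h1 := Subgroup.relIndex_mul_index hHJ
  rw [hH] at h1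
  have h2 : J.index ∣ 2 := ⟨_, by rw [mul_comm]; exact h1.symm⟩
  rcases (Nat.dvd_prime Nat.prime_two).mp h2 with h3 | h3
  · exact Subgroup.index_eq_one.mp h3
  · exfalso
    rw [h3] at h1
    have h4 : H.relIndex J = 1 := by omega
    exact htH (Subgroup.relIndex_eq_one.mp h4 htJ)

/-- a metacyclic `2`-group with an automorphism of odd prime order has no characteristic
subgroup of index two -/
theorem noCharIndexTwo_of_aut {X : Type*} [Group X] [Finite X] (hX : IsPGroup 2 X)
    (hm : Cfsg.IsMetacyclic X) (α : MulAut X) {q : ℕ} [hq : Fact q.Prime] (hq2 : q ≠ 2)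
    (hα : α ^ q = 1) (hα1 : α ≠ 1) : NoCharIndexTwo X := by
  intro H hH hHi
  apply hα1
  have : Fact (Nat.Prime 2) := ⟨Nat.prime_two⟩
  -- the Frattini quotient has order at most four
  have hΦ4 : (frattini X).index ∣ 4 := by
    rw [Subgroup.index_eq_card]
    have hmq : Cfsg.IsMetacyclic (X ⧸ frattini X) :=
      isMetacyclic_of_surjective (QuotientGroup.mk' (frattini X))
        (QuotientGroup.mk'_surjective _) hm
    refine card_dvd_of_isMetacyclic hmq 2 ?_
    intro g
    induction g using QuotientGroup.induction_on with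
    | H y =>
      rw [← QuotientGroup.mk_pow]
      exact (QuotientGroup.eq_one_iff _).mpr (IsPGroup.pow_mem_frattini hX y)
  have hHn : H.Normal := Subgroup.normal_of_index_eq_two hHi
  have hΦH : frattini X ≤ H := by
    apply frattini_le_coatom
    have hmax : ∀ J : Subgroup X, H < J → J = ⊤ := by
      intro J hJ
      obtain ⟨t, htJ, htH⟩ := SetLike.exists_of_lt hJ
      exact eq_top_of_index_two_of_notMem H J hHi hJ.le t htJ htH
    refine ⟨?_, hmax⟩
    intro h
    rw [h, Subgroup.index_top] at hHi
    omega
  have hαH : ∀ x ∈ H, α x ∈ H := char_invariant H α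
  have hαΦ : ∀ x ∈ frattini X, α x ∈ frattini X := char_invariant (frattini X) α
  have hαT : ∀ x ∈ (⊤ : Subgroup X), α x ∈ (⊤ : Subgroup X) := fun _ _ => Subgroup.mem_top _
  have hcH : Nat.card (⊤ : Subgroup X) = 2 * Nat.card H := by
    rw [Subgroup.card_top, ← H.card_mul_index, hHi, mul_comm]
  obtain ⟨t, htf, -, htH⟩ := exists_fixed_notMem hX α hq2 hα H ⊤ hαH hαT le_top hcH
  -- the fixed points together with the Frattini subgroup generate
  have hJ : autFixed α ⊔ frattini X = ⊤ := by
    apply eq_top_of_index_two_of_notMem H _ hHi _ t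
      (Subgroup.mem_sup_left ((mem_autFixed α t).mpr htf)) htH
    have h1 := Subgroup.relIndex_mul_index hΦH
    rw [hHi] at h1
    have h2 : (frattini X).relIndex H = 1 ∨ (frattini X).relIndex H = 2 := by
      have h3 : (frattini X).relIndex H * 2 ∣ 4 := by rw [h1]; exact hΦ4
      have h4 : (frattini X).relIndex H ∣ 2 := by
        have : (frattini X).relIndex H * 2 ∣ 2 * 2 := h3
        exact Nat.dvd_of_mul_dvd_mul_right (by norm_num) this
      exact (Nat.dvd_prime Nat.prime_two).mp h4
    rcases h2 with h2 | h2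
    · exact le_trans (Subgroup.relIndex_eq_one.mp h2) le_sup_right
    · have hcΦ : Nat.card H = 2 * Nat.card (frattini X) := by
        have h5 := (frattini X).card_mul_index
        have h5' := H.card_mul_index
        rw [← h1, h2] at h5
        rw [hHi] at h5'
        omega
      obtain ⟨s, hsf, hsH, hsΦ⟩ :=
        exists_fixed_notMem hX α hq2 hα (frattini X) H hαΦ hαH hΦH hcΦ
      -- the subgroup `(F ⊔ Φ) ⊓ H` contains `Φ` properly
      set J := (autFixed α ⊔ frattini X) ⊓ H with hJdef
      have hΦJ : frattini X ≤ J := le_inf le_sup_right hΦH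
      have hJH : J ≤ H := inf_le_right
      have h6 := Subgroup.relIndex_mul_relIndex (frattini X) J H hΦJ hJH
      rw [h2] at h6
      have h7 : (frattini X).relIndex J ≠ 1 := by
        intro h
        have := Subgroup.relIndex_eq_one.mp h
        exact hsΦ (this ⟨Subgroup.mem_sup_left ((mem_autFixed α s).mpr hsf), hsH⟩)
      have h8 : (frattini X).relIndex J ∣ 2 := ⟨_, h6.symm⟩
      have h9 : (frattini X).relIndex J = 2 :=
        ((Nat.dvd_prime Nat.prime_two).mp h8).resolve_left h7
      rw [h9] at h6
      have h10 : J.relIndex H = 1 := by omega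
      exact le_trans (Subgroup.relIndex_eq_one.mp h10) inf_le_left
  have hF : autFixed α = ⊤ := frattini_nongenerating hJ
  ext x
  have : x ∈ autFixed α := by rw [hF]; exact Subgroup.mem_top x
  exact this

end Cfsg.Agent.Lib.Helper1
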