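import Mathlib
import Cfsg.Prelude.Def_OddOrderLocal
import Cfsg.Agent.Lib.Helper23.Class2
import Cfsg.Agent.Lib.Helper1.MetacyclicTwoAbelian
import Cfsg.Agent.Lib.Helper1.MaxClassClassify

/-!
Metacyclic `2`-groups with an automorphism of odd order, part 4 (helper1 library):
a nonabelian metacyclic `2`-group without characteristic subgroups of index two has commutator
subgroup of index four.
-/

set_option autoImplicit false

namespace Cfsg.Agent.Lib.Helper1

open Subgroup
open scoped commutatorElement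

universe u

/-- if all commutators are central of order at most two then `g ↦ g ^ (2 ^ (j + 2))` is
multiplicative -/
theorem mul_pow_two_pow_of_central {G : Type*} [Group G]
    (hc : ∀ g h : G, ⁅g, h⁆ ∈ Subgroup.center G ∧ ⁅g, h⁆ ^ 2 = 1) (j : ℕ) (a b : G) :
    (a * b) ^ 2 ^ (j + 2) = a ^ 2 ^ (j + 2) * b ^ 2 ^ (j + 2) := by
  rw [Cfsg.Agent.Lib.Helper23.mul_pow_of_central_commutator a b (hc b a).1]
  have heven : Even ((2 ^ (j + 2)).choose 2) := by
    rw [Nat.choose_two_right]
    have h1 : 2 ^ (j + 2) = 2 * (2 * 2 ^ j) := by ring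
    have h2 : 2 ^ (j + 2) * (2 ^ (j + 2) - 1) / 2 = 2 * (2 ^ j * (2 ^ (j + 2) - 1)) := by
      generalize 2 ^ (j + 2) - 1 = w
      rw [h1, Nat.mul_assoc, Nat.mul_div_cancel_left _ (by norm_num : 0 < 2)]
      ring
    rw [h2]
    exact even_two_mul _
  obtain ⟨t, ht⟩ := heven
  rw [ht, ← two_mul, pow_mul, (hc b a).2, one_pow, mul_one]

theorem isMulCommutative_quotient_commutator (X : Type*) [Group X] :
    IsMulCommutative (X ⧸ commutator X) :=
  (inferInstance : IsMulCommutative (Abelianization X))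

/-- integer powers of an element with trivial square -/
theorem zpow_of_sq_eq_one {Y : Type*} [Group Y] (u : Y) (hu : u ^ 2 = 1) (k : ℤ) :
    u ^ k = 1 ∨ u ^ k = u := by
  rcases Int.even_or_odd' k with ⟨a, rfl | rfl⟩
  · left
    rw [zpow_mul, zpow_ofNat, hu, one_zpow]
  · right
    rw [zpow_add, zpow_mul, zpow_ofNat, hu, one_zpow, one_mul, zpow_one]

/-- a nonabelian metacyclic `2`-group without characteristic subgroups of index two has commutator
subgroup of index four -/
theorem index_commutator_eq_four {X : Type*} [Group X] [Finite X] (hX : IsPGroup 2 X)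
    (hm : Cfsg.IsMetacyclic X) (hc : NoCharIndexTwo X) (hab : ¬ IsMulCommutative X) :
    (commutator X).index = 4 := by
  have : Fact (Nat.Prime 2) := ⟨Nat.prime_two⟩
  obtain ⟨N, hNn, hNc, hQc⟩ := id hm
  -- the commutator subgroup is cyclic
  have hXN : commutator X ≤ N := by
    have hcomm : ∀ a b : X ⧸ N, a * b = b * a := by
      have : IsMulCommutative (X ⧸ N) := IsCyclic.isMulCommutative
      exact fun a b => mul_comm' a b
    rw [commutator_eq_closure, Subgroup.closure_le]
    rintro _ ⟨g, h, rfl⟩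
    apply (QuotientGroup.eq_one_iff _).mp
    have h1 : ((⁅g, h⁆ : X) : X ⧸ N) = ⁅(g : X ⧸ N), (h : X ⧸ N)⁆ :=
      map_commutatorElement (QuotientGroup.mk' N) g h
    rw [h1, commutatorElement_eq_one_iff_mul_comm]
    exact hcomm _ _
  have hcyc : IsCyclic (commutator X) := Subgroup.isCyclic_of_le hXN
  obtain ⟨c₀, hc₀, hXc⟩ := exists_zpowers_eq_of_isCyclic (commutator X)
  have hmemc : ∀ g h : X, ⁅g, h⁆ ∈ zpowers c₀ := by
    intro g h
    rw [← hXc, _root_.commutator_def]
    exact Subgroup.commutator_mem_commutator (Subgroup.mem_top g) (Subgroup.mem_top h)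
  have hc₀1 : c₀ ≠ 1 := by
    intro h
    apply hab
    refine ⟨⟨fun a b => ?_⟩⟩
    have := hmemc a b
    rw [h, Subgroup.zpowers_one_eq_bot, Subgroup.mem_bot] at this
    exact commutatorElement_eq_one_iff_mul_comm.mp this
  -- the abelianization is homocyclic
  have hYc : IsMulCommutative (X ⧸ commutator X) := isMulCommutative_quotient_commutator X
  have hY2 : IsPGroup 2 (X ⧸ commutator X) := hX.to_quotient _
  have hYm : Cfsg.IsMetacyclic (X ⧸ commutator X) :=
    isMetacyclic_of_surjective (QuotientGroup.mk' _) (QuotientGroup.mk'_surjective _) hm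
  have hYn : NoCharIndexTwo (X ⧸ commutator X) := hc.quotient _ inferInstance
  obtain ⟨n, hYcard, hYexp, -⟩ := homocyclic_of_noCharIndexTwo hY2 hYm hYn
  have hpowmem : ∀ g : X, g ^ 2 ^ n ∈ zpowers c₀ := by
    intro g
    rw [← hXc]
    apply (QuotientGroup.eq_one_iff _).mp
    rw [QuotientGroup.mk_pow]
    exact hYexp _
  rw [Subgroup.index_eq_card, hYcard]
  -- orders
  obtain ⟨m, hm0⟩ : ∃ m, orderOf c₀ = 2 ^ m := by
    obtain ⟨k, hk⟩ := hX c₀
    exact ⟨_, (Nat.dvd_prime_pow Nat.prime_two).mp (orderOf_dvd_of_pow_eq_one hk)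
      |>.choose_spec.2⟩
  have hm1 : 1 ≤ m := by
    rcases Nat.eq_zero_or_pos m with h | h
    · rw [h, pow_zero, orderOf_eq_one_iff] at hm0
      exact absurd hm0 hc₀1
    · exact h
  have hcardX' : Nat.card (commutator X) = 2 ^ m := by
    rw [hXc, Nat.card_zpowers, hm0]
  have hcardX : Nat.card X = 2 ^ n * 2 ^ n * 2 ^ m := by
    rw [Subgroup.card_eq_card_quotient_mul_card_subgroup (commutator X), hYcard, hcardX']
  rcases n with _ | _ | j
  · -- the abelianization is trivial
    exfalso
    have h1 : Nat.card (commutator X) = Nat.card X := by rw [hcardX', hcardX]; simp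
    have h2 : commutator X = ⊤ := Subgroup.eq_top_of_card_eq _ h1
    apply hab
    have h3 : ∀ g : X, g ∈ N := fun g => hXN (h2 ▸ Subgroup.mem_top g)
    have : IsMulCommutative N := IsCyclic.isMulCommutative
    refine ⟨⟨fun a b => ?_⟩⟩
    exact congrArg Subtype.val (mul_comm' (⟨a, h3 a⟩ : N) ⟨b, h3 b⟩)
  · norm_num
  · exfalso
    -- the subgroup of squares of the commutator subgroup
    set T : Subgroup X := zpowers (c₀ ^ 2) with hT
    have hTchar : T.Characteristic := by
      rw [Subgroup.characteristic_iff_le_comap]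
      intro ϕ x hx
      rw [Subgroup.mem_comap]
      obtain ⟨k, rfl⟩ := Subgroup.mem_zpowers_iff.mp hx
      have h1 : ϕ c₀ ∈ zpowers c₀ := by
        rw [← hXc]
        exact char_invariant (commutator X) ϕ c₀ hc₀
      obtain ⟨l, hl⟩ := Subgroup.mem_zpowers_iff.mp h1
      change ϕ ((c₀ ^ 2) ^ k) ∈ T
      rw [map_zpow, map_pow, ← hl]
      apply Subgroup.zpow_mem
      rw [hT, Subgroup.mem_zpowers_iff]
      refine ⟨l, ?_⟩
      rw [← zpow_natCast, ← zpow_natCast, ← zpow_mul, ← zpow_mul, mul_comm]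
    have : T.Characteristic := hTchar
    have hTn : T.Normal := inferInstance
    have hXT : NoCharIndexTwo (X ⧸ T) := hc.quotient T hTchar
    have hmT : Cfsg.IsMetacyclic (X ⧸ T) :=
      isMetacyclic_of_surjective (QuotientGroup.mk' _) (QuotientGroup.mk'_surjective _) hm
    -- the image of the generator
    set z : X ⧸ T := (c₀ : X ⧸ T) with hz
    have hz2 : z ^ 2 = 1 := by
      rw [hz, ← QuotientGroup.mk_pow]
      exact (QuotientGroup.eq_one_iff _).mpr (Subgroup.mem_zpowers _)
    have hzpow : ∀ w : X, w ∈ zpowers c₀ → (w : X ⧸ T) = 1 ∨ (w : X ⧸ T) = z := by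
      intro w hw
      obtain ⟨k, rfl⟩ := Subgroup.mem_zpowers_iff.mp hw
      rw [QuotientGroup.mk_zpow]
      exact zpow_of_sq_eq_one z hz2 k
    have hzc : z ∈ Subgroup.center (X ⧸ T) := by
      rw [Subgroup.mem_center_iff]
      intro g
      induction g using QuotientGroup.induction_on with
      | H x =>
        have h1 : x * c₀ * x⁻¹ ∈ zpowers c₀ := by
          rw [← hXc]
          exact (inferInstance : (commutator X).Normal).conj_mem c₀ hc₀ x
        have h2 : ((x * c₀ * x⁻¹ : X) : X ⧸ T) = (x : X ⧸ T) * z * (x : X ⧸ T)⁻¹ := by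
          rw [QuotientGroup.mk_mul, QuotientGroup.mk_mul, QuotientGroup.mk_inv]
        rcases hzpow _ h1 with h3 | h3
        · rw [h2] at h3
          have h4 : z = 1 := by
            have := congrArg (fun t => (x : X ⧸ T)⁻¹ * t * (x : X ⧸ T)) h3
            simpa [mul_assoc] using this
          rw [h4, mul_one, one_mul]
        · rw [h2] at h3
          have := congrArg (fun t => t * (x : X ⧸ T)) h3
          simpa [mul_assoc] using this
    have hcomm : ∀ g h : X ⧸ T, ⁅g, h⁆ ∈ Subgroup.center (X ⧸ T) ∧ ⁅g, h⁆ ^ 2 = 1 := by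
      intro g h
      induction g using QuotientGroup.induction_on with
      | H x =>
        induction h using QuotientGroup.induction_on with
        | H y =>
          have h1 : ((⁅x, y⁆ : X) : X ⧸ T) = ⁅(x : X ⧸ T), (y : X ⧸ T)⁆ :=
            map_commutatorElement (QuotientGroup.mk' T) x y
          rw [← h1]
          rcases hzpow _ (hmemc x y) with h3 | h3
          · rw [h3]
            exact ⟨Subgroup.one_mem _, one_pow _⟩
          · rw [h3]
            exact ⟨hzc, hz2⟩
    -- the power map
    set pw : (X ⧸ T) →* (X ⧸ T) :=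
      { toFun := fun g => g ^ 2 ^ (j + 2)
        map_one' := one_pow _
        map_mul' := mul_pow_two_pow_of_central hcomm j } with hpw
    have hpwx : ∀ g : X ⧸ T, pw g = g ^ 2 ^ (j + 2) := fun g => rfl
    have hrange : pw.range ≤ zpowers z := by
      rintro _ ⟨g, rfl⟩
      induction g using QuotientGroup.induction_on with
      | H x =>
        rw [hpwx, ← QuotientGroup.mk_pow]
        rcases hzpow _ (hpowmem x) with h3 | h3
        · rw [h3]; exact Subgroup.one_mem _
        · rw [h3]; exact Subgroup.mem_zpowers z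
    have hcr : Nat.card pw.range ≤ 2 := by
      refine le_trans (Subgroup.card_le_of_le hrange) ?_
      rw [Nat.card_zpowers]
      exact Nat.le_of_dvd (by norm_num) (orderOf_dvd_of_pow_eq_one hz2)
    have hKchar : pw.ker.Characteristic := by
      rw [Subgroup.characteristic_iff_le_comap]
      intro ϕ x hx
      rw [Subgroup.mem_comap, MonoidHom.mem_ker]
      rw [MonoidHom.mem_ker, hpwx] at hx
      change pw (ϕ x) = 1
      rw [hpwx, ← map_pow, hx, map_one]
    have hKi : pw.ker.index = 1 := by
      have h1 := Subgroup.index_ker pw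
      have h2 : pw.ker.index ≠ 2 := hXT _ hKchar
      have h3 : 0 < Nat.card pw.range := Nat.card_pos
      omega
    have hexpT : ∀ g : X ⧸ T, g ^ 2 ^ (j + 2) = 1 := by
      intro g
      have h1 : g ∈ pw.ker := by
        rw [Subgroup.index_eq_one.mp hKi]; exact Subgroup.mem_top g
      rwa [MonoidHom.mem_ker, hpwx] at h1
    have hdvd := card_dvd_of_isMetacyclic hmT _ hexpT
    -- counting
    have hcardT : Nat.card T = 2 ^ (m - 1) := by
      rw [hT, Nat.card_zpowers, orderOf_pow_of_dvd (by norm_num) (by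
        rw [hm0]; exact dvd_pow_self 2 (by omega)), hm0]
      obtain ⟨m', rfl⟩ : ∃ m', m = m' + 1 := ⟨m - 1, by omega⟩
      rw [pow_succ, Nat.add_sub_cancel, Nat.mul_div_cancel _ (by norm_num : 0 < 2)]
    have hcard2 := Subgroup.card_eq_card_quotient_mul_card_subgroup T
    rw [hcardX, hcardT] at hcard2
    have h5 : (2 : ℕ) ^ m = 2 * 2 ^ (m - 1) := by
      obtain ⟨m', rfl⟩ : ∃ m', m = m' + 1 := ⟨m - 1, by omega⟩
      rw [pow_succ, Nat.add_sub_cancel, mul_comm]
    rw [h5] at hcard2
    have h6 : Nat.card (X ⧸ T) = 2 ^ (j + 2) * 2 ^ (j + 2) * 2 := by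
      have h7 : 2 ^ (j + 2) * 2 ^ (j + 2) * (2 * 2 ^ (m - 1)) =
          (2 ^ (j + 2) * 2 ^ (j + 2) * 2) * 2 ^ (m - 1) := by ring
      rw [h7] at hcard2
      exact (Nat.eq_of_mul_eq_mul_right (by positivity) hcard2).symm
    rw [h6] at hdvd
    have h8 := Nat.le_of_dvd (by positivity) hdvd
    have h9 : 0 < 2 ^ (j + 2) * 2 ^ (j + 2) := by positivity
    omega

end Cfsg.Agent.Lib.Helper1
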