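import Mathlib
import Cfsg.Prelude.Def_OddOrderLocal
import Cfsg.Agent.Lib.Helper1.MetacyclicTwoAut
import Cfsg.Agent.Lib.Helper1.MetacyclicTwoNonab

/-!
Metacyclic `2`-groups with an automorphism of odd order, part 5 (helper1 library):
the nonabelian case is the quaternion group of order eight; the main theorem.
-/

set_option autoImplicit false

namespace Cfsg.Agent.Lib.Helper1

open Subgroup
open scoped commutatorElement

universe u

/-- the rotation subgroup of a dihedral group of order at least six is characteristic of index two -/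
theorem not_noCharIndexTwo_dihedral (n : ℕ) (hn : 3 ≤ n) : ¬ NoCharIndexTwo (DihedralGroup n) := by
  intro h
  have : NeZero n := ⟨by omega⟩
  apply h (zpowers (DihedralGroup.r 1))
  · rw [Subgroup.characteristic_iff_le_comap]
    intro ϕ x hx
    rw [Subgroup.mem_comap]
    obtain ⟨k, rfl⟩ := Subgroup.mem_zpowers_iff.mp hx
    change ϕ ((DihedralGroup.r 1) ^ k) ∈ _
    rw [map_zpow]
    apply Subgroup.zpow_mem
    have ho : orderOf (ϕ (DihedralGroup.r 1)) = n := by
      rw [MulEquiv.orderOf_eq, DihedralGroup.orderOf_r_one]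
    rcases hϕ : ϕ (DihedralGroup.r 1) with i | i
    · rw [Subgroup.mem_zpowers_iff]
      refine ⟨(i.val : ℤ), ?_⟩
      rw [zpow_natCast, DihedralGroup.r_one_pow, ZMod.natCast_zmod_val]
    · rw [hϕ, DihedralGroup.orderOf_sr] at ho
      omega
  · have h1 := (zpowers (DihedralGroup.r (1 : ZMod n))).card_mul_index
    rw [Nat.card_zpowers, DihedralGroup.orderOf_r_one, DihedralGroup.nat_card] at h1
    have h2 : n * (zpowers (DihedralGroup.r (1 : ZMod n))).index = n * 2 := by rw [h1, mul_comm]
    exact Nat.eq_of_mul_eq_mul_left (by omega) h2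

/-- a nonabelian `2`-group without characteristic subgroups of index two whose commutator subgroup
has index four is the quaternion group of order eight -/
theorem quaternion_of_index_commutator_four {X : Type u} [Group X] [Finite X] (hX : IsPGroup 2 X)
    (hc : NoCharIndexTwo X) (hab : ¬ IsMulCommutative X) (hidx : (commutator X).index = 4) :
    Nonempty (X ≃* QuaternionGroup 2) := by
  have : Fact (Nat.Prime 2) := ⟨Nat.prime_two⟩
  obtain ⟨N, hcard⟩ := IsPGroup.iff_card.mp hX
  have hN : 3 ≤ N := by
    have h1 := (commutator X).card_mul_index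
    rw [hidx, hcard] at h1
    have h2 : 2 ≤ Nat.card (commutator X) := by
      by_contra hlt
      have h3 : Nat.card (commutator X) = 1 := by
        have : 0 < Nat.card (commutator X) := Nat.card_pos
        omega
      have h4 : commutator X = ⊥ := Subgroup.card_eq_one.mp h3
      apply hab
      refine ⟨⟨fun a b => ?_⟩⟩
      have h5 : ⁅a, b⁆ ∈ commutator X := by
        rw [_root_.commutator_def]
        exact Subgroup.commutator_mem_commutator (Subgroup.mem_top a) (Subgroup.mem_top b)
      rw [h4, Subgroup.mem_bot] at h5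
      exact commutatorElement_eq_one_iff_mul_comm.mp h5
    by_contra hlt
    have h6 : (2 : ℕ) ^ N ≤ 2 ^ 2 := Nat.pow_le_pow_right (by norm_num) (by omega)
    omega
  have hcl := nilpotencyClass_of_index_commutator N hN X hcard hidx
  have hZ : Nat.card (center X) = 2 := card_center_of_maximal_class (p := 2) N hN hcard hcl
  obtain ⟨A, hAc, hAi⟩ := exists_cyclic_index_two_of_maximal_class N hN X hcard hcl
  have hAab : IsMulCommutative A := IsCyclic.isMulCommutative
  -- `A` is not characteristic
  obtain ⟨ϕ, hϕ⟩ : ∃ ϕ : X ≃* X, A.comap ϕ.toMonoidHom ≠ A := by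
    by_contra hcon
    push Not at hcon
    exact hc A ⟨hcon⟩ hAi
  set B : Subgroup X := A.comap ϕ.toMonoidHom with hB
  have hBi : B.index = 2 := by
    rw [hB, Subgroup.index_comap_of_surjective _ ϕ.surjective, hAi]
  have hBA : ¬ B ≤ A := by
    intro hle
    have h1 := Subgroup.relIndex_mul_index hle
    rw [hAi, hBi] at h1
    have h2 : B.relIndex A = 1 := by omega
    exact hϕ (le_antisymm hle (Subgroup.relIndex_eq_one.mp h2))
  obtain ⟨t, htB, htA⟩ := SetLike.not_le_iff_exists.mp hBA
  have hAB : A ⊔ B = ⊤ :=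
    eq_top_of_index_two_of_notMem A _ hAi le_sup_left t (Subgroup.mem_sup_right htB) htA
  -- the intersection is central
  have hcen : A ⊓ B ≤ center X := by
    intro w hw
    have hA' : A ≤ centralizer ({w} : Set X) := by
      intro a ha
      rw [Subgroup.mem_centralizer_singleton_iff]
      exact congrArg Subtype.val (mul_comm' (⟨a, ha⟩ : A) ⟨w, hw.1⟩)
    have hB' : B ≤ centralizer ({w} : Set X) := by
      intro b hb
      rw [Subgroup.mem_centralizer_singleton_iff]
      have hb' : ϕ b ∈ A := hb
      have hw' : ϕ w ∈ A := hw.2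
      have := congrArg Subtype.val (mul_comm' (⟨ϕ b, hb'⟩ : A) ⟨ϕ w, hw'⟩)
      apply ϕ.injective
      rw [map_mul, map_mul]
      exact this
    have htop : (⊤ : Subgroup X) ≤ centralizer ({w} : Set X) := hAB ▸ sup_le hA' hB'
    rw [Subgroup.mem_center_iff]
    intro g
    exact Subgroup.mem_centralizer_singleton_iff.mp (htop (Subgroup.mem_top g))
  -- the order is eight
  have hN3 : N = 3 := by
    have h1 := (A ⊓ B).card_mul_index
    have h2 : Nat.card (A ⊓ B : Subgroup X) ≤ 2 := hZ ▸ Subgroup.card_le_of_le hcen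
    have h3 : (A ⊓ B).index ≤ 2 * 2 := by
      have := Subgroup.index_inf_le (H := A) (K := B)
      rwa [hAi, hBi] at this
    have h4 : Nat.card X ≤ 2 * 4 := by
      rw [← h1]
      exact Nat.mul_le_mul h2 h3
    rw [hcard] at h4
    by_contra hne
    have h5 : (2 : ℕ) ^ 4 ≤ 2 ^ N := Nat.pow_le_pow_right (by norm_num) (by omega)
    omega
  subst hN3
  rcases classify_of_index_commutator 3 le_rfl X hcard hidx with ⟨k, ⟨e⟩⟩ | ⟨k, hk, -⟩ | ⟨k, ⟨e⟩⟩
  · exfalso
    exact not_noCharIndexTwo_dihedral _
      (le_trans (by norm_num : 3 ≤ 2 ^ 2) (Nat.pow_le_pow_right (by norm_num) (by omega)))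
      (hc.of_mulEquiv e)
  · exfalso
    rw [hcard] at hk
    have h5 : (2 : ℕ) ^ 4 ≤ 2 ^ (k + 4) := Nat.pow_le_pow_right (by norm_num) (by omega)
    omega
  · have h1 := Nat.card_congr e.toEquiv
    have : NeZero (2 ^ (k + 1)) := ⟨by positivity⟩
    rw [hcard, Nat.card_eq_fintype_card, QuaternionGroup.card] at h1
    have hk0 : k = 0 := by
      by_contra hne
      have h5 : (2 : ℕ) ^ 2 ≤ 2 ^ (k + 1) := Nat.pow_le_pow_right (by norm_num) (by omega)
      omega
    subst hk0
    exact ⟨e⟩

/-- **Metacyclic `2`-groups with an automorphism of odd prime order** -/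
theorem metacyclic_two_of_aut {X : Type u} [Group X] [Finite X] (hX : IsPGroup 2 X)
    (hm : Cfsg.IsMetacyclic X) (α : MulAut X) {q : ℕ} [hq : Fact q.Prime] (hq2 : q ≠ 2)
    (hα : α ^ q = 1) (hα1 : α ≠ 1) :
    Nonempty (X ≃* QuaternionGroup 2) ∨
      ∃ n : ℕ, Nonempty (X ≃* Multiplicative (ZMod (2 ^ n)) × Multiplicative (ZMod (2 ^ n))) := by
  have hc := noCharIndexTwo_of_aut hX hm α hq2 hα hα1
  by_cases hab : IsMulCommutative X
  · right
    obtain ⟨n, -, -, h⟩ := homocyclic_of_noCharIndexTwo hX hm hc
    exact ⟨n, h⟩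
  · left
    exact quaternion_of_index_commutator_four hX hc hab (index_commutator_eq_four hX hm hc hab)

end Cfsg.Agent.Lib.Helper1
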