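import Cfsg.Agent.Lib.Helper29.ND44Defs

/-!
helper1, ND44 (S5825 conjunct (5), helper29's market): leaf B0 `end_lemma`.
-/

set_option autoImplicit false
set_option linter.unusedSectionVars false
set_option linter.unusedVariables false
set_option linter.unusedSimpArgs false

namespace Cfsg.Agent.Lib.Helper1.ND44Leaf

open Module QuadraticMap Matrix Cfsg.Agent.Lib.Helper25.CD Cfsg.Agent.Lib.Helper25.Spin
  Cfsg.Agent.Lib.Helper25.Fam Cfsg.Agent.Lib.Helper25.Siegel
  Cfsg.Agent.Lib.Helper25.PS Cfsg.Agent.Lib.Helper25.OGeom Cfsg.Agent.Lib.Helper15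
  Cfsg.Agent.Lib.Helper5.TSMax Cfsg.Agent.Lib.Helper5.NSMax Cfsg.Agent.Lib.Helper5.PairMax
  Cfsg.Agent.Lib.Helper5.NDMax Cfsg.Agent.Lib.Helper10.NDMax4 Cfsg.Agent.Lib.Helper29.ND44

variable {ι : Type} [Fintype ι] [DecidableEq ι] {F : Type*} [Field F] [Fintype F]
  {Q : QuadraticForm F (ι → F)}

section setup

variable {M : Subgroup ↥(Cfsg.isometryGroup F ⇑Q)} {W W' : Submodule F (ι → F)}

/-- B0. END LEMMA: `g (W ∩ p^⊥)` cannot lie in `F a + F b`. -/
theorem end_lemma (hS : NS44 Q M W W') {g : ↥(Cfsg.isometryGroup F ⇑Q)} {p a b : ι → F}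
    (hp : p ∈ W) (hp0 : p ≠ 0) (hQp : Q p = 0) (ha : a ∈ W) (hb : b ∈ W')
    (hgp : toOG Q g p = a + b)
    (h : ∀ x ∈ W, polar Q p x = 0 → ∃ s t : F, toOG Q g x = s • a + t • b) : False := by
  obtain ⟨f, hfW, hQf, hpf⟩ := exists_hyp_partner Q W hS.ndW hp hp0 hQp
  have hNnd := perpPair_nd Q W hS.ndW hp hfW hQp hQf hpf
  have hNfr := perpPair_finrank Q W hp hfW hQp hQf hpf
  have hbig := hS.big
  have hab : polar Q a b = 0 := hS.orth a ha b hb
  -- `Q b = - Q a`
  have hQab : Q a + Q b = 0 := by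
    have h1 : Q (toOG Q g p) = 0 := by rw [Q_toOG, hQp]
    rw [hgp, Cfsg.Agent.Lib.Helper25.MaxTS.Q_add, hab, add_zero] at h1
    exact h1
  -- a nonzero `x1` in `N`
  have hpos : 0 < finrank F (perpPair Q W p f) := by omega
  obtain ⟨x1, hx1N, hx10⟩ : ∃ x1 ∈ perpPair Q W p f, x1 ≠ 0 := by
    by_contra hcon
    push Not at hcon
    have hbot : perpPair Q W p f = ⊥ := by
      rw [eq_bot_iff]
      intro x hx
      rw [Submodule.mem_bot]
      exact hcon x hx
    rw [hbot, finrank_bot] at hpos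
    exact lt_irrefl 0 hpos
  obtain ⟨x2, hx2N, hx12⟩ : ∃ x2 ∈ perpPair Q W p f, polar Q x1 x2 ≠ 0 := by
    by_contra hcon
    push Not at hcon
    exact hx10 (hNnd x1 hx1N hcon)
  rw [mem_perpPair] at hx1N hx2N
  obtain ⟨hx1W, hpx1, -⟩ := hx1N
  obtain ⟨hx2W, hpx2, -⟩ := hx2N
  obtain ⟨s1, t1, h1⟩ := h x1 hx1W hpx1
  obtain ⟨s2, t2, h2⟩ := h x2 hx2W hpx2
  have hba : polar Q b a = 0 := by rw [polar_comm]; exact hab
  have haa : polar Q a a = 2 * Q a := by
    rw [polar_self]; simp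
  have hbb : polar Q b b = -(2 * Q a) := by
    rw [polar_self]
    have : Q b = - Q a := by linear_combination hQab
    rw [this]; simp
  -- orthogonality to `β`
  have e1 : (2 * Q a) * (s1 - t1) = 0 := by
    have h3 : polar Q (toOG Q g p) (toOG Q g x1) = 0 := by rw [polar_toOG, hpx1]
    rw [hgp, h1] at h3
    simp only [polar_add_left, polar_add_right, polar_smul_right, smul_eq_mul, hab, hba, haa,
      hbb] at h3
    linear_combination h3
  have e2 : (2 * Q a) * (s2 - t2) = 0 := by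
    have h3 : polar Q (toOG Q g p) (toOG Q g x2) = 0 := by rw [polar_toOG, hpx2]
    rw [hgp, h2] at h3
    simp only [polar_add_left, polar_add_right, polar_smul_right, smul_eq_mul, hab, hba, haa,
      hbb] at h3
    linear_combination h3
  have e3 : polar Q x1 x2 = (2 * Q a) * (s1 * s2 - t1 * t2) := by
    rw [← polar_toOG Q g x1 x2, h1, h2]
    simp only [polar_add_left, polar_add_right, polar_smul_right, polar_smul_left, smul_eq_mul,
      hab, hba, haa, hbb]
    ring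
  apply hx12
  rw [e3]
  have e4 : (2 * Q a) * (s1 * s2 - t1 * t2)
      = (2 * Q a * (s1 - t1)) * s2 + t1 * (2 * Q a * (s2 - t2)) := by ring
  rw [e4, e1, e2]
  ring

end setup

end Cfsg.Agent.Lib.Helper1.ND44Leaf
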