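import Cfsg.Agent.Lib.Helper29.ND44Defs
import Cfsg.Agent.Lib.Helper29.ND44Glue
import Cfsg.Agent.Lib.Helper29.ND44Trick
import Cfsg.Agent.Lib.Helper1.ND44B0
import Cfsg.Agent.Lib.Helper12.ND44G12

/-!
helper1, ND44 (S5825 conjunct (5), helper29's market): leaf B1 `case_sing`.
-/

set_option autoImplicit false
set_option linter.unusedSectionVars false
set_option linter.unusedVariables false
set_option linter.unusedSimpArgs false

namespace Cfsg.Agent.Lib.Helper1.ND44Leaf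

open Module QuadraticMap Matrix Cfsg.Agent.Lib.Helper25.CD Cfsg.Agent.Lib.Helper25.Spin
  Cfsg.Agent.Lib.Helper25.Fam Cfsg.Agent.Lib.Helper25.Siegel
  Cfsg.Agent.Lib.Helper25.PS Cfsg.Agent.Lib.Helper25.OGeom Cfsg.Agent.Lib.Helper15
  Cfsg.Agent.Lib.Helper5.TSMax Cfsg.Agent.Lib.Helper5.NSMax Cfsg.Agent.Lib.Helper5.PairMax
  Cfsg.Agent.Lib.Helper5.NDMax Cfsg.Agent.Lib.Helper10.NDMax4 Cfsg.Agent.Lib.Helper29.ND44

variable {ι : Type} [Fintype ι] [DecidableEq ι] {F : Type*} [Field F] [Fintype F]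
  {Q : QuadraticForm F (ι → F)}

section setup

variable {M : Subgroup ↥(Cfsg.isometryGroup F ⇑Q)} {W W' : Submodule F (ι → F)}

/-- `a + b ∉ W` when `b ≠ 0` -/
theorem add_not_mem (hS : NS44 Q M W W') {a b : ι → F} (ha : a ∈ W) (hb : b ∈ W') (hb0 : b ≠ 0) :
    a + b ∉ W := by
  intro h
  have hbW : b ∈ W := by
    have : b = (a + b) - a := by abel
    rw [this]
    exact W.sub_mem h ha
  have : b ∈ W ⊓ W' := ⟨hbW, hb⟩
  rw [hS.disj, Submodule.mem_bot] at this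
  exact hb0 this

/-- the singular-component half of B1: the `W`-component of `y ∈ A(β)` is a multiple of `a`. -/
theorem comp_sing (hS : NS44 Q M W W') (hne : M ≠ Cfsg.Omega F ⇑Q) {a b y ya yb : ι → F}
    (ha : a ∈ W) (hb : b ∈ W') (ha0 : a ≠ 0) (hb0 : b ≠ 0) (hQa : Q a = 0) (hQb : Q b = 0)
    (hya : ya ∈ W) (hyb : yb ∈ W') (hy : y = ya + yb)
    (hβy : polar Q (a + b) y = 0) (h : InA Q M (a + b) y) : ∃ s : F, ya = s • a := by
  have hab : polar Q a b = 0 := hS.orth a ha b hb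
  have hQβ : Q (a + b) = 0 := by
    rw [Cfsg.Agent.Lib.Helper25.MaxTS.Q_add, hQa, hQb, hab]; simp
  have hβW : a + b ∉ W := add_not_mem hS ha hb hb0
  have haβ : polar Q a (a + b) = 0 := by
    rw [polar_add_right, hab, polar_self, hQa]; simp
  obtain ⟨f, hfW, hQf, haf⟩ := exists_hyp_partner Q W hS.ndW ha ha0 hQa
  have hNnd := perpPair_nd Q W hS.ndW ha hfW hQa hQf haf
  have hNfr := perpPair_finrank Q W ha hfW hQa hQf haf
  have hbig := hS.big
  have hpos : 0 < finrank F (perpPair Q W a f) := by omega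
  obtain ⟨x1, hx1N, hx10⟩ : ∃ x1 ∈ perpPair Q W a f, x1 ≠ 0 := by
    by_contra hcon
    push Not at hcon
    have hbot : perpPair Q W a f = ⊥ := by
      rw [eq_bot_iff]
      intro x hx
      rw [Submodule.mem_bot]
      exact hcon x hx
    rw [hbot, finrank_bot] at hpos
    exact lt_irrefl 0 hpos
  obtain ⟨x2, hx2N, hx12⟩ : ∃ x2 ∈ perpPair Q W a f, polar Q x1 x2 ≠ 0 := by
    by_contra hcon
    push Not at hcon
    exact hx10 (hNnd x1 hx1N hcon)
  rw [mem_perpPair] at hx1N hx2N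
  obtain ⟨hx1W, hax1, -⟩ := hx1N
  obtain ⟨hx2W, hax2, -⟩ := hx2N
  have hwβ : ∀ w ∈ W, polar Q a w = 0 → polar Q w (a + b) = 0 := by
    intro w hw haw
    rw [polar_add_right, polar_comm Q w a, haw, hS.orth w hw b hb, add_zero]
  have huy : polar Q a y = 0 :=
    Cfsg.Agent.Lib.Helper29.ND44Leaf.trick_bilin hS hne hQβ hβW ha ha0 hQa haβ hx1W hx2W hax1 hax2
      (hwβ x1 hx1W hax1) (hwβ x2 hx2W hax2) hx12 hβy h
  apply Cfsg.Agent.Lib.Helper12.ND44Leaf.perp_perp hS.ndW ha hya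
  intro w hw haw
  have h1 : polar Q w y = 0 :=
    Cfsg.Agent.Lib.Helper29.ND44Leaf.trick_lin hS hne hQβ hβW ha ha0 hQa haβ hw haw
      (hwβ w hw haw) hβy h huy
  rw [hy, polar_add_right, hS.orth w hw yb hyb, add_zero] at h1
  rw [polar_comm]
  exact h1

/-- B1. Case `Q a = 0 = Q b`, `a, b ≠ 0`: impossible. -/
theorem case_sing (hS : NS44 Q M W W') (hne : M ≠ Cfsg.Omega F ⇑Q)
    {g : ↥(Cfsg.isometryGroup F ⇑Q)} (hg : g ∈ M) {p a b : ι → F} (hp : p ∈ W) (hp0 : p ≠ 0)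
    (hQp : Q p = 0) (ha : a ∈ W) (hb : b ∈ W') (hgp : toOG Q g p = a + b) (ha0 : a ≠ 0)
    (hb0 : b ≠ 0) (hQa : Q a = 0) : False := by
  have hab : polar Q a b = 0 := hS.orth a ha b hb
  have hQb : Q b = 0 := by
    have h1 : Q (toOG Q g p) = 0 := by rw [Q_toOG, hQp]
    rw [hgp, Cfsg.Agent.Lib.Helper25.MaxTS.Q_add, hab, add_zero, hQa, zero_add] at h1
    exact h1
  have hS' := Cfsg.Agent.Lib.Helper29.ND44Leaf.symm hS
  apply end_lemma hS hp hp0 hQp ha hb hgp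
  intro x hx hpx
  have hin : InA Q M (a + b) (toOG Q g x) := by
    have := InA.conj hg (hS.inA_W hp hp0 hQp hx hpx)
    rwa [hgp] at this
  have hβy : polar Q (a + b) (toOG Q g x) = 0 := by
    rw [← hgp, polar_toOG, hpx]
  obtain ⟨ya, hya, yb, hyb, hy⟩ := hS.dec (toOG Q g x)
  obtain ⟨s, hs⟩ := comp_sing hS hne ha hb ha0 hb0 hQa hQb hya hyb hy hβy hin
  have hin' : InA Q M (b + a) (toOG Q g x) := by rwa [add_comm] at hin
  have hβy' : polar Q (b + a) (toOG Q g x) = 0 := by rwa [add_comm] at hβy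
  obtain ⟨t, ht⟩ := comp_sing hS' hne hb ha hb0 ha0 hQb hQa hyb hya
    (by rw [hy, add_comm]) hβy' hin'
  exact ⟨s, t, by rw [hy, hs, ht]⟩

end setup

end Cfsg.Agent.Lib.Helper1.ND44Leaf
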