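import Cfsg.Agent.Lib.Helper29.ND44Defs
import Cfsg.Agent.Lib.Helper29.ND44Glue
import Cfsg.Agent.Lib.Helper29.ND44Trick
import Cfsg.Agent.Lib.Helper1.ND44B0
import Cfsg.Agent.Lib.Helper1.ND44B1
import Cfsg.Agent.Lib.Helper12.ND44G12
import Cfsg.Agent.Lib.Helper12.ND44G34

/-!
helper1, ND44 (S5825 conjunct (5), helper29's market): leaves B2 `perp_sing_of_ns`, B3 `case_ns`.
-/

set_option autoImplicit false
set_option linter.unusedSectionVars false
set_option linter.unusedVariables false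
set_option linter.unusedSimpArgs false

namespace Cfsg.Agent.Lib.Helper1.ND44Leaf

open Module QuadraticMap Matrix Cfsg.Agent.Lib.Helper25.CD Cfsg.Agent.Lib.Helper25.Spin
  Cfsg.Agent.Lib.Helper25.Fam Cfsg.Agent.Lib.Helper25.Siegel
  Cfsg.Agent.Lib.Helper25.PS Cfsg.Agent.Lib.Helper25.OGeom Cfsg.Agent.Lib.Helper15
  Cfsg.Agent.Lib.Helper5.TSMax Cfsg.Agent.Lib.Helper5.NSMax Cfsg.Agent.Lib.Helper5.PairMax
  Cfsg.Agent.Lib.Helper5.NDMax Cfsg.Agent.Lib.Helper10.NDMax4 Cfsg.Agent.Lib.Helper29.ND44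

variable {ι : Type} [Fintype ι] [DecidableEq ι] {F : Type*} [Field F] [Fintype F]
  {Q : QuadraticForm F (ι → F)}

section setup

variable {M : Subgroup ↥(Cfsg.isometryGroup F ⇑Q)} {W W' : Submodule F (ι → F)}

/-- B2. `Q a ≠ 0`, odd characteristic or `q ≥ 4`: `A(β)` is orthogonal to every singular
`u ∈ W ∩ a^⊥`. -/
theorem perp_sing_of_ns (hS : NS44 Q M W W') (hne : M ≠ Cfsg.Omega F ⇑Q)
    (hq : (2 : F) ≠ 0 ∨ 4 ≤ Fintype.card F) {β a b u y : ι → F} (ha : a ∈ W) (hb : b ∈ W')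
    (hβ : β = a + b) (hQβ : Q β = 0) (hb0 : b ≠ 0) (hQa : Q a ≠ 0) (hu : u ∈ W) (hu0 : u ≠ 0)
    (hQu : Q u = 0) (hua : polar Q u a = 0) (hβy : polar Q β y = 0) (h : InA Q M β y) :
    polar Q u y = 0 := by
  have hβW : β ∉ W := by rw [hβ]; exact add_not_mem hS ha hb hb0
  have huβ : polar Q u β = 0 := by
    rw [hβ, polar_add_right, hua, hS.orth u hu b hb, add_zero]
  by_cases h2 : (2 : F) = 0
  · have h4 : 4 ≤ Fintype.card F := by
      rcases hq with hq | hq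
      · exact absurd h2 hq
      · exact hq
    have haβ : polar Q a β = 0 := by
      rw [hβ, polar_add_right, hS.orth a ha b hb, add_zero, polar_self, two_nsmul, ← two_mul, h2,
        zero_mul]
    exact Cfsg.Agent.Lib.Helper29.ND44Leaf.trick_lambda hS hne h2 h4 hQβ hβW hu hu0 hQu huβ ha hQa
      hua haβ hβy h
  · obtain ⟨w, hw, huw, hwa, hQw⟩ :=
      Cfsg.Agent.Lib.Helper12.ND44Leaf.exists_ns_perp hS.ndW hS.big h2 ha hQa hu hu0 hQu hua
    have hwβ : polar Q w β = 0 := by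
      rw [hβ, polar_add_right, hwa, hS.orth w hw b hb, add_zero]
    have hww : polar Q w w ≠ 0 := by
      rw [polar_self, two_nsmul, ← two_mul]
      exact mul_ne_zero h2 hQw
    exact Cfsg.Agent.Lib.Helper29.ND44Leaf.trick_bilin hS hne hQβ hβW hu hu0 hQu huβ hw hw huw huw
      hwβ hwβ hww hβy h

/-- the nonsingular-component half of B3 -/
theorem comp_ns (hS : NS44 Q M W W') (hne : M ≠ Cfsg.Omega F ⇑Q)
    (hq : (2 : F) ≠ 0 ∨ 4 ≤ Fintype.card F) {a b y ya yb : ι → F}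
    (ha : a ∈ W) (hb : b ∈ W') (hb0 : b ≠ 0) (hQa : Q a ≠ 0) (hQβ : Q (a + b) = 0)
    (hya : ya ∈ W) (hyb : yb ∈ W') (hy : y = ya + yb)
    (hβy : polar Q (a + b) y = 0) (h : InA Q M (a + b) y) : ∃ s : F, ya = s • a := by
  apply Cfsg.Agent.Lib.Helper12.ND44Leaf.span_sing hS.ndW hS.big ha hQa hya
  intro u hu hQu hau
  by_cases hu0 : u = 0
  · rw [hu0]; simp
  have h1 : polar Q u y = 0 :=
    perp_sing_of_ns hS hne hq ha hb rfl hQβ hb0 hQa hu hu0 hQu (by rw [polar_comm]; exact hau) hβy h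
  rw [hy, polar_add_right, hS.orth u hu yb hyb, add_zero] at h1
  rw [polar_comm]
  exact h1

/-- B3. Case `Q a ≠ 0`, odd characteristic or `q ≥ 4`: impossible. -/
theorem case_ns (hS : NS44 Q M W W') (hne : M ≠ Cfsg.Omega F ⇑Q)
    (hq : (2 : F) ≠ 0 ∨ 4 ≤ Fintype.card F)
    {g : ↥(Cfsg.isometryGroup F ⇑Q)} (hg : g ∈ M) {p a b : ι → F} (hp : p ∈ W) (hp0 : p ≠ 0)
    (hQp : Q p = 0) (ha : a ∈ W) (hb : b ∈ W') (hgp : toOG Q g p = a + b)
    (hQa : Q a ≠ 0) : False := by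
  have hab : polar Q a b = 0 := hS.orth a ha b hb
  have hQβ : Q (a + b) = 0 := by rw [← hgp, Q_toOG, hQp]
  have hQab : Q a + Q b = 0 := by
    have h1 := hQβ
    rw [Cfsg.Agent.Lib.Helper25.MaxTS.Q_add, hab, add_zero] at h1
    exact h1
  have hQb : Q b ≠ 0 := by
    intro h0
    rw [h0, add_zero] at hQab
    exact hQa hQab
  have ha0 : a ≠ 0 := by
    rintro rfl
    exact hQa (by simp)
  have hb0 : b ≠ 0 := by
    rintro rfl
    exact hQb (by simp)
  have hS' := Cfsg.Agent.Lib.Helper29.ND44Leaf.symm hS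
  apply end_lemma hS hp hp0 hQp ha hb hgp
  intro x hx hpx
  have hin : InA Q M (a + b) (toOG Q g x) := by
    have := InA.conj hg (hS.inA_W hp hp0 hQp hx hpx)
    rwa [hgp] at this
  have hβy : polar Q (a + b) (toOG Q g x) = 0 := by
    rw [← hgp, polar_toOG, hpx]
  obtain ⟨ya, hya, yb, hyb, hy⟩ := hS.dec (toOG Q g x)
  obtain ⟨s, hs⟩ := comp_ns hS hne hq ha hb hb0 hQa hQβ hya hyb hy hβy hin
  have hin' : InA Q M (b + a) (toOG Q g x) := by rwa [add_comm] at hin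
  have hβy' : polar Q (b + a) (toOG Q g x) = 0 := by rwa [add_comm] at hβy
  have hQβ' : Q (b + a) = 0 := by rwa [add_comm] at hQβ
  obtain ⟨t, ht⟩ := comp_ns hS' hne hq hb ha ha0 hQb hQβ' hyb hya
    (by rw [hy, add_comm]) hβy' hin'
  exact ⟨s, t, by rw [hy, hs, ht]⟩

end setup

end Cfsg.Agent.Lib.Helper1.ND44Leaf
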