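import Cfsg.Agent.Lib.Helper29.ND44Defs
import Cfsg.Agent.Lib.Helper29.ND44Glue

/-!
helper1, ND44 (S5825 conjunct (5), helper29's market): leaf B4 `case_two` (`q = 2`).
-/

set_option autoImplicit false
set_option linter.unusedSectionVars false
set_option linter.unusedVariables false
set_option linter.unusedSimpArgs false

namespace Cfsg.Agent.Lib.Helper1.ND44Leaf

open Module QuadraticMap Matrix Cfsg.Agent.Lib.Helper25.CD Cfsg.Agent.Lib.Helper25.Spin
  Cfsg.Agent.Lib.Helper25.Fam Cfsg.Agent.Lib.Helper25.Siegel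
  Cfsg.Agent.Lib.Helper25.PS Cfsg.Agent.Lib.Helper25.OGeom Cfsg.Agent.Lib.Helper15
  Cfsg.Agent.Lib.Helper5.TSMax Cfsg.Agent.Lib.Helper5.NSMax Cfsg.Agent.Lib.Helper5.PairMax
  Cfsg.Agent.Lib.Helper5.NDMax Cfsg.Agent.Lib.Helper10.NDMax4 Cfsg.Agent.Lib.Helper29.ND44

variable {ι : Type} [Fintype ι] [DecidableEq ι] {F : Type*} [Field F] [Fintype F]
  {Q : QuadraticForm F (ι → F)}

/-- in a field with two elements every element is `0` or `1` -/
theorem zero_or_one_of_card_two (hF2 : Fintype.card F = 2) (c : F) : c = 0 ∨ c = 1 := by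
  classical
  by_contra hc
  push Not at hc
  have h1 : ({0, 1, c} : Finset F).card ≤ Fintype.card F := Finset.card_le_univ _
  rw [Finset.card_insert_of_notMem, Finset.card_insert_of_notMem, Finset.card_singleton] at h1
  · omega
  · rw [Finset.mem_singleton]
    exact fun h => hc.2 h.symm
  · rw [Finset.mem_insert, Finset.mem_singleton]
    rintro (h | h)
    · exact zero_ne_one h
    · exact hc.1 h.symm

theorem two_eq_zero_of_card_two (hF2 : Fintype.card F = 2) : (2 : F) = 0 := by
  rcases zero_or_one_of_card_two hF2 (2 : F) with h | h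
  · exact h
  · exfalso
    have : (1 : F) = 0 := by linear_combination h
    exact one_ne_zero this

section setup

variable {M : Subgroup ↥(Cfsg.isometryGroup F ⇑Q)} {W W' : Submodule F (ι → F)}

/-- `q = 2`: for nonsingular `a ∈ W`, `b ∈ W'` the product of the two reflections is `egen (a+b) a`
and lies in `M`; so `a` (and `b`) lie in the root module of `a + b`. -/
theorem inA_of_two (hS : NS44 Q M W W') (hF2 : Fintype.card F = 2) {a b : ι → F} (ha : a ∈ W)
    (hb : b ∈ W') (hQa : Q a ≠ 0) (hQb : Q b ≠ 0) :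
    InA Q M (a + b) a ∧ InA Q M (a + b) b := by
  have h01 := zero_or_one_of_card_two hF2
  have h2 := two_eq_zero_of_card_two hF2
  have hQa1 : Q a = 1 := by
    rcases h01 (Q a) with h | h
    · exact absurd h hQa
    · exact h
  have hQb1 : Q b = 1 := by
    rcases h01 (Q b) with h | h
    · exact absurd h hQb
    · exact h
  have hab : polar Q a b = 0 := hS.orth a ha b hb
  have hba : polar Q b a = 0 := by rw [polar_comm]; exact hab
  have hmΩ : reflM Q a * reflM Q b ∈ Cfsg.Omega F ⇑Q :=
    refl_pair_mem_omega Q hS.nd hS.card one_ne_zero hQa1 hQb1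
  have hmapply : ∀ v, toOG Q (reflM Q a * reflM Q b) v = reflE Q a (reflE Q b v) := by
    intro v
    rw [map_mul, LinearEquiv.mul_apply, toOG_reflM, toOG_reflM]
  have hmM : reflM Q a * reflM Q b ∈ M := by
    apply hS.stab _ hmΩ
    intro v hv
    rw [hmapply, reflE_apply Q b v, polar_comm Q b v, hS.orth v hv b hb, mul_zero, zero_smul,
      sub_zero, reflE_apply]
    exact W.sub_mem hv (W.smul_mem _ ha)
  have hm : ∀ v, toOG Q (reflM Q a * reflM Q b) v = v - polar Q a v • a - polar Q b v • b := by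
    intro v
    rw [hmapply, reflE_apply Q b v, reflE_apply, hQa1, hQb1, polar_sub_right, polar_smul_right,
      hab]
    simp only [inv_one, one_mul, smul_eq_mul, mul_zero, sub_zero]
    abel
  constructor
  · intro c
    rcases h01 c with rfl | rfl
    · refine ⟨1, M.one_mem, fun x => ?_⟩
      rw [map_one, zero_smul]
      unfold egen
      simp
    · refine ⟨_, hmM, fun x => ?_⟩
      rw [hm, one_smul]
      unfold egen
      rw [hQa1, polar_add_left]
      have e2 : (2 : F) * polar Q a x = 0 := by rw [h2, zero_mul]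
      match_scalars <;>
        first | ring1 | linear_combination e2
  · intro c
    rcases h01 c with rfl | rfl
    · refine ⟨1, M.one_mem, fun x => ?_⟩
      rw [map_one, zero_smul]
      unfold egen
      simp
    · refine ⟨_, hmM, fun x => ?_⟩
      rw [hm, one_smul]
      unfold egen
      rw [hQb1, polar_add_left]
      have e2 : (2 : F) * polar Q b x = 0 := by rw [h2, zero_mul]
      match_scalars <;>
        first | ring1 | linear_combination e2

/-- B4. Case `Q a ≠ 0`, `q = 2`. -/
theorem case_two (hS : NS44 Q M W W') (hne : M ≠ Cfsg.Omega F ⇑Q) (hF2 : Fintype.card F = 2)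
    {g : ↥(Cfsg.isometryGroup F ⇑Q)} (hg : g ∈ M) {p a b : ι → F} (hp : p ∈ W) (hp0 : p ≠ 0)
    (hQp : Q p = 0) (ha : a ∈ W) (hb : b ∈ W') (hgp : toOG Q g p = a + b)
    (hQa : Q a ≠ 0) : toOG Q g⁻¹ a ∈ W ∧ toOG Q g⁻¹ b ∈ W := by
  have h2 := two_eq_zero_of_card_two hF2
  have hab : polar Q a b = 0 := hS.orth a ha b hb
  have hba : polar Q b a = 0 := by rw [polar_comm]; exact hab
  have hQβ : Q (a + b) = 0 := by rw [← hgp, Q_toOG, hQp]
  have hQab : Q a + Q b = 0 := by
    have h1 := hQβ
    rw [Cfsg.Agent.Lib.Helper25.MaxTS.Q_add, hab, add_zero] at h1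
    exact h1
  have hQb : Q b ≠ 0 := by
    intro h0
    rw [h0, add_zero] at hQab
    exact hQa hQab
  obtain ⟨hia, hib⟩ := inA_of_two hS hF2 ha hb hQa hQb
  have hinv : toOG Q g⁻¹ (a + b) = p := toOG_inv_of_eq g hgp
  have hβa : polar Q (a + b) a = 0 := by
    rw [polar_add_left, hba, add_zero, polar_self, two_nsmul, ← two_mul, h2, zero_mul]
  have hβb : polar Q (a + b) b = 0 := by
    rw [polar_add_left, hab, zero_add, polar_self, two_nsmul, ← two_mul, h2, zero_mul]
  constructor
  · have h1 := InA.conj (M.inv_mem hg) hia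
    rw [hinv] at h1
    refine Cfsg.Agent.Lib.Helper29.ND44Leaf.nostar hS hne hp hp0 hQp ?_ h1
    rw [← hinv, polar_toOG, hβa]
  · have h1 := InA.conj (M.inv_mem hg) hib
    rw [hinv] at h1
    refine Cfsg.Agent.Lib.Helper29.ND44Leaf.nostar hS hne hp hp0 hQp ?_ h1
    rw [← hinv, polar_toOG, hβb]

end setup

end Cfsg.Agent.Lib.Helper1.ND44Leaf
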