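import Mathlib
import Cfsg.Agent.Lib.Helper16.NM.Base
import Cfsg.Agent.Lib.Helper17.ClassGraph1

/-!
# S4146 leaf M2 (helper1; SPARE of helper18's copy, used by `NML41`)

Elements of `M` of order prime to `n` centralize every element of index `n`.
-/

set_option autoImplicit false

namespace Cfsg.Agent.Lib.Helper1.NM

open Cfsg.Agent.Lib.Helper22.ClsSet Cfsg.Agent.Lib.Helper16.NM

variable {G : Type*} [Group G] [Finite G] {n m : ℕ}

/-- M2: elements of `M` of order prime to `n` centralize every element of index `n` -/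
theorem M2 (h : CS G n m) (hlt : m < n) {x y : G} (hix : idx x = n) (hy : y ∈ M h hlt)
    (hcop : (orderOf y).Coprime n) : Commute x y := by
  classical
  set Cx := Subgroup.centralizer ({x} : Set G) with hCx
  have hDconj : ∀ d ∈ M h hlt, d ∈ Cx → ∀ g : G, g * d * g⁻¹ ∈ Cx := by
    intro d hdM hdC g
    rcases (mem_M h hlt d).1 hdM with h1 | h1
    · have hz : d ∈ Subgroup.center G := (idx_eq_one_iff d).1 h1
      have : g * d * g⁻¹ = d := by
        rw [Subgroup.mem_center_iff] at hz
        rw [hz g]; group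
      rw [this]; exact hdC
    · have hcop' : Nat.Coprime Cx.index (Subgroup.centralizer ({d} : Set G)).index := by
        show Nat.Coprime (idx x) (idx d)
        rw [hix, h1]; exact h.cop
      obtain ⟨c, hc, e, he, hce⟩ :=
        Cfsg.Agent.Lib.Helper4.forall_mul_of_coprime_index _ _ hcop' g
      rw [mem_cent_singleton] at he
      have : g * d * g⁻¹ = c * d * c⁻¹ := by
        rw [hce]
        calc c * e * d * (c * e)⁻¹ = c * (e * d) * e⁻¹ * c⁻¹ := by group
          _ = c * (d * e) * e⁻¹ * c⁻¹ := by rw [he]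
          _ = c * d * c⁻¹ := by group
      rw [this]
      exact Cx.mul_mem (Cx.mul_mem hc hdC) (Cx.inv_mem hc)
  let D : Subgroup G := Cx ⊓ M h hlt
  have : D.Normal :=
    ⟨fun d hd g => ⟨hDconj d hd.2 hd.1 g, (M_normal h hlt).conj_mem d hd.2 g⟩⟩
  have hrel : D.relIndex (M h hlt) ∣ n := by
    have h1 := Cfsg.Agent.Lib.Helper17.ClassGraph.relIndex_dvd_index_of_normal' Cx (M h hlt)
    rw [show Cx.index = n from hix] at h1
    rwa [Subgroup.inf_relIndex_right]
  have hpow : y ^ D.relIndex (M h hlt) ∈ D := by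
    have h1 := Subgroup.pow_index_mem (D.subgroupOf (M h hlt)) (⟨y, hy⟩ : M h hlt)
    rw [Subgroup.mem_subgroupOf] at h1
    simpa [Subgroup.relIndex] using h1
  have hpown : y ^ n ∈ D := by
    obtain ⟨k, hk⟩ := hrel
    rw [hk, pow_mul]
    exact D.pow_mem hpow k
  obtain ⟨a, ha⟩ := exists_pow_eq_self_of_coprime (x := y) (n := n) hcop.symm
  have hyD : y ∈ D := by
    rw [← ha]; exact D.pow_mem hpown a
  have h1 : y ∈ Subgroup.centralizer ({x} : Set G) := hyD.1
  rw [mem_cent_singleton] at h1
  exact h1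

end Cfsg.Agent.Lib.Helper1.NM
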