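import Mathlib
import Cfsg.Agent.Lib.Helper16.NM.Base
import Cfsg.Agent.Lib.Helper17.ClassGraph1
import Cfsg.Agent.Lib.Helper1.NMM2

/-!
# S4146 leaf L41 (helper1)

Self-contained: uses my own copies `M2` (module `NMM2`) and `exists_conj_commute'` (T4), so it does not
wait for `Helper16.NM.Tool`.
-/

set_option autoImplicit false

namespace Cfsg.Agent.Lib.Helper1.NM

open Cfsg.Agent.Lib.Helper22.ClsSet Cfsg.Agent.Lib.Helper16.NM

variable {G : Type*} [Group G] [Finite G] {n m : ℕ}

/-- T4 (own copy): a `p`-element has a conjugate in the centralizer of `y` if `p ∤ idx y` -/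
theorem exists_conj_commute' {p : ℕ} [Fact p.Prime] {x y : G} (hx : PEl p x)
    (hy : ¬ p ∣ idx y) : ∃ c : G, Commute (c * x * c⁻¹) y := by
  obtain ⟨Q, hQ⟩ := Cfsg.Agent.Lib.Helper17.ClassGraph.exists_sylow_le_of_not_dvd_index
    (q := p) (Subgroup.centralizer ({y} : Set G)) hy
  obtain ⟨k, hk⟩ := hx
  have hpg : IsPGroup p (Subgroup.zpowers x) := by
    apply IsPGroup.of_card (n := k)
    rw [Nat.card_zpowers, hk]
  obtain ⟨P, hP⟩ := hpg.exists_le_sylow
  obtain ⟨g, hg⟩ := MulAction.exists_smul_eq G P Q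
  refine ⟨g, ?_⟩
  have hxP : x ∈ (P : Subgroup G) := hP (Subgroup.mem_zpowers x)
  have h1 : g * x * g⁻¹ ∈ ((g • P : Sylow p G) : Subgroup G) := by
    rw [Sylow.smul_def, Sylow.pointwise_smul_def]
    exact ⟨x, hxP, by simp [MulAut.conj_apply]⟩
  rw [hg] at h1
  have h2 := hQ h1
  rw [mem_cent_singleton] at h2
  exact h2.symm

/-- a subgroup contained in another one of the same (finite) index is equal to it -/
theorem eq_of_le_of_index_eq {H K : Subgroup G} (hle : H ≤ K) (hidx : H.index = K.index) :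
    K ≤ H := by
  have h1 := Subgroup.relIndex_mul_index hle
  rw [hidx] at h1
  have h2 : K.index ≠ 0 := Subgroup.index_ne_zero_of_finite
  have h3 : H.relIndex K = 1 := by
    have : H.relIndex K * K.index = 1 * K.index := by rw [h1, one_mul]
    exact Nat.eq_of_mul_eq_mul_right (Nat.pos_of_ne_zero h2) this
  exact Subgroup.relIndex_eq_one.1 h3

/-- L41 -/
theorem L41 (h : CS G n m) (hlt : m < n) {s : ℕ} [Fact s.Prime] (hsm : ¬ s ∣ m)
    {u x : G} (hu : PEl s u) (hiu : idx u = m) (hix : idx x = n)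
    (hnc : ∀ c : G, ¬ Commute (c * u * c⁻¹) x)
    {q : ℕ} [Fact q.Prime] (hqm : q ∣ m) {y : G} (hy : PEl q y) (hiy : idx y = m) : False := by
  have hsp : s.Prime := Fact.out
  have hqp : q.Prime := Fact.out
  have hqs : q ≠ s := by
    rintro rfl
    exact hsm hqm
  -- `q ∤ n`
  have hqn : ¬ q ∣ n := by
    intro hqn
    have : q ∣ Nat.gcd n m := Nat.dvd_gcd hqn hqm
    rw [h.cop] at this
    exact hqp.one_lt.ne' (Nat.dvd_one.1 this)
  obtain ⟨k, hk⟩ := hy
  have hyM : y ∈ M h hlt := (mem_M h hlt y).2 (Or.inr hiy)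
  have hcop : (orderOf y).Coprime n := by
    rw [hk]
    exact Nat.Coprime.pow_left k ((Nat.Prime.coprime_iff_not_dvd hqp).2 hqn)
  have hxy : Commute x y := M2 h hlt hix hyM hcop
  -- a conjugate of `u` commuting with `y`
  obtain ⟨c, hc⟩ := exists_conj_commute' (x := u) (y := y) hu (by rw [hiy]; exact hsm)
  set u' := c * u * c⁻¹ with hu'
  have hou' : orderOf u' = orderOf u := by
    have := (MulAut.conj c).orderOf_eq u
    rw [MulAut.conj_apply] at this
    exact this
  obtain ⟨a, ha⟩ := hu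
  have hiu' : idx u' = m := by rw [hu', idx_conj, hiu]
  have hu'M : u' ∈ M h hlt := (mem_M h hlt u').2 (Or.inr hiu')
  have hcop2 : (orderOf u').Coprime (orderOf y) := by
    rw [hou', ha, hk]
    exact Nat.Coprime.pow _ _ ((Nat.coprime_primes hsp hqp).2 (Ne.symm hqs))
  have hcent := cent_mul_of_coprime hc hcop2
  have hmul : u' * y ∈ M h hlt := (M h hlt).mul_mem hu'M hyM
  have hdvd : idx u' ∣ idx (u' * y) := idx_dvd_mul_left_of_coprime hc hcop2
  have hidx : idx (u' * y) = m := by
    rcases (mem_M h hlt _).1 hmul with h1 | h1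
    · rw [h1, hiu'] at hdvd
      have := Nat.le_of_dvd one_pos hdvd
      have := h.one_lt_m
      omega
    · exact h1
  -- `C(u' y) = C(u')`
  have hle1 : Subgroup.centralizer ({u' * y} : Set G) ≤ Subgroup.centralizer ({u'} : Set G) := by
    rw [hcent]; exact inf_le_left
  have hle2 : Subgroup.centralizer ({u' * y} : Set G) ≤ Subgroup.centralizer ({y} : Set G) := by
    rw [hcent]; exact inf_le_right
  have hge2 : Subgroup.centralizer ({y} : Set G) ≤ Subgroup.centralizer ({u' * y} : Set G) :=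
    eq_of_le_of_index_eq hle2 (show idx (u' * y) = idx y by rw [hidx, hiy])
  have hxC : x ∈ Subgroup.centralizer ({u'} : Set G) := by
    apply hle1
    apply hge2
    rw [mem_cent_singleton]
    exact hxy.eq.symm
  rw [mem_cent_singleton] at hxC
  exact hnc c hxC

end Cfsg.Agent.Lib.Helper1.NM
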