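import Mathlib
import Cfsg.Agent.Lib.Helper16.NM.Base
import Cfsg.Agent.Lib.Helper21.ClassSize
import Cfsg.Agent.S4033
import Cfsg.Agent.S4034

/-!
# S4146 leaf SP1 (helper1)

Single-prime case: S4033 + S4034 on `G` itself.  By-products: `not_both_pow`, `not_mul_dvd_pow`,
`ncard_carrier_eq_idx`, `index_center_eq_pow`.
-/

set_option autoImplicit false

namespace Cfsg.Agent.Lib.Helper1.NM

open Cfsg.Agent.Lib.Helper22.ClsSet Cfsg.Agent.Lib.Helper16.NM

section NoFinite

variable {G : Type*} [Group G] {n m : ℕ}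

/-- two coprime numbers `> 1` cannot both be powers of the same prime -/
theorem not_both_pow (h : CS G n m) {s : ℕ} (hs : s.Prime) {a b : ℕ} (hn : n = s ^ a)
    (hm : m = s ^ b) : False := by
  have ha : a ≠ 0 := by
    rintro rfl
    have := h.one_lt_n
    rw [hn, pow_zero] at this
    omega
  have hb : b ≠ 0 := by
    rintro rfl
    have := h.one_lt_m
    rw [hm, pow_zero] at this
    omega
  have h1 : s ∣ n := by rw [hn]; exact dvd_pow_self s ha
  have h2 : s ∣ m := by rw [hm]; exact dvd_pow_self s hb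
  have : s ∣ Nat.gcd n m := Nat.dvd_gcd h1 h2
  rw [h.cop] at this
  exact hs.one_lt.ne' (Nat.dvd_one.1 this)

/-- if `n * m` divides a power of the prime `s` we get a contradiction -/
theorem not_mul_dvd_pow (h : CS G n m) {s : ℕ} (hs : s.Prime) {k : ℕ}
    (hd : n * m ∣ s ^ k) : False := by
  obtain ⟨a, -, ha⟩ := (Nat.dvd_prime_pow hs).1 (dvd_trans (dvd_mul_right n m) hd)
  obtain ⟨b, -, hb⟩ := (Nat.dvd_prime_pow hs).1 (dvd_trans (dvd_mul_left m n) hd)
  exact not_both_pow h hs ha hb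

/-- the class size of `ConjClasses` is `idx` -/
theorem ncard_carrier_eq_idx (g : G) : (ConjClasses.mk g).carrier.ncard = idx g :=
  (Cfsg.Agent.Lib.Helper21.index_centralizer_eq_ncard_carrier g).symm

end NoFinite

variable {G : Type*} [Group G] [Finite G] {n m : ℕ}

/-- if every `s`-regular element is central, the index of the centre is a power of `s` -/
theorem index_center_eq_pow {s : ℕ} [Fact s.Prime]
    (hc : ∀ g : G, (orderOf g).Coprime s → g ∈ Subgroup.center G) :
    ∃ k : ℕ, (Subgroup.center G).index = s ^ k := by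
  have hsp : s.Prime := Fact.out
  refine ⟨_, Nat.eq_prime_pow_of_unique_prime_dvd Subgroup.index_ne_zero_of_finite ?_⟩
  intro q hq hqd
  by_contra hne
  have : Fact q.Prime := ⟨hq⟩
  obtain ⟨Q⟩ : Nonempty (Sylow q G) := inferInstance
  have hQle : (Q : Subgroup G) ≤ Subgroup.center G := by
    intro x hx
    apply hc
    obtain ⟨k, hk⟩ := (IsPGroup.iff_orderOf.1 Q.isPGroup') ⟨x, hx⟩
    rw [Subgroup.orderOf_mk] at hk
    rw [hk]
    exact Nat.Coprime.pow_left k ((Nat.coprime_primes hq hsp).2 hne)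
  have h1 : (Subgroup.center G).index ∣ (Q : Subgroup G).index := Subgroup.index_dvd_of_le hQle
  exact Q.not_dvd_index (dvd_trans hqd h1)

/-- SP1 (single prime, S4033+S4034 on `G`) -/
theorem SP1 (h : CS G n m) {s : ℕ} [Fact s.Prime]
    (hreg : ∀ g : G, (orderOf g).Coprime s → idx g = 1 ∨ idx g = n * m) :
    ∃ q : ℕ, q.Prime ∧ q ≠ s ∧ ∃ i j : ℕ, (n = s ^ i ∧ m = q ^ j) ∨ (n = q ^ j ∧ m = s ^ i) := by
  have hsp : s.Prime := Fact.out
  have hn1 := h.one_lt_n
  have hm1 := h.one_lt_m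
  -- Step A: some `s`-regular element has index `n * m`
  have hex : ∃ g0 : G, (orderOf g0).Coprime s ∧ idx g0 = n * m := by
    by_contra hcon
    rw [not_exists] at hcon
    have hc : ∀ g : G, (orderOf g).Coprime s → g ∈ Subgroup.center G := by
      intro g hg
      rcases hreg g hg with h1 | h1
      · exact (idx_eq_one_iff g).1 h1
      · exact absurd ⟨hg, h1⟩ (hcon g)
    obtain ⟨k, hk⟩ := index_center_eq_pow hc
    have hdvd : ∀ g : G, idx g ∣ s ^ k := by
      intro g
      rw [← hk]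
      exact Subgroup.index_dvd_of_le (Subgroup.center_le_centralizer _)
    obtain ⟨g1, hg1⟩ := h.ex_nm
    exact not_mul_dvd_pow h hsp (hg1 ▸ hdvd g1)
  obtain ⟨g0, hg0, hig0⟩ := hex
  -- Step B: the set of `s`-regular class sizes is `{1, n * m}`
  have hset : (Set.range fun x : {x : G // (orderOf x).Coprime s} =>
      (ConjClasses.mk (x : G)).carrier.ncard) = {1, n * m} := by
    ext k
    simp only [Set.mem_range, Set.mem_insert_iff, Set.mem_singleton_iff, Subtype.exists,
      exists_prop]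
    constructor
    · rintro ⟨g, hg, rfl⟩
      rw [ncard_carrier_eq_idx]
      exact hreg g hg
    · rintro (rfl | rfl)
      · exact ⟨1, by simp, by rw [ncard_carrier_eq_idx, idx_one]⟩
      · exact ⟨g0, hg0, by rw [ncard_carrier_eq_idx, hig0]⟩
  have h2 : Set.ncard (Set.range fun x : {x : G // (orderOf x).Coprime s} =>
      (ConjClasses.mk (x : G)).carrier.ncard) = 2 := by
    rw [hset]
    apply Set.ncard_pair
    intro e
    nlinarith
  rcases Cfsg.Agent.S4033.result hsp h2 with hab | ⟨q, hqF, P, Q, A, hqs, hAZ, hcard, hnorm, hinf, hsup⟩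
  · -- abelian `s`-complement: all `s`-regular class sizes are `s`-powers
    exfalso
    obtain ⟨k, hk⟩ := (Cfsg.Agent.S4034.result hsp).2 hab g0 hg0
    rw [ncard_carrier_eq_idx, hig0] at hk
    exact not_mul_dvd_pow h hsp (k := k) (by rw [hk])
  · have hqp : q.Prime := hqF.out
    refine ⟨q, hqp, hqs, ?_⟩
    -- `|G : A| = |P| |Q|`
    have hcompl : Subgroup.IsComplement' ((P : Subgroup G) ⊔ (Q : Subgroup G)) A := by
      apply Subgroup.isComplement'_of_disjoint_and_mul_eq_univ
      · exact disjoint_iff.2 hinf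
      · rw [← Subgroup.normal_mul, hsup, Subgroup.coe_top]
    have hAidx : A.index = Nat.card (P : Subgroup G) * Nat.card (Q : Subgroup G) := by
      rw [hcompl.index_eq_card, hcard]
    obtain ⟨α, hα⟩ := IsPGroup.iff_card.1 P.isPGroup'
    obtain ⟨β, hβ⟩ := IsPGroup.iff_card.1 Q.isPGroup'
    have hdvd : ∀ g : G, idx g ∣ s ^ α * q ^ β := by
      intro g
      have h1 : idx g ∣ (Subgroup.center G).index :=
        Subgroup.index_dvd_of_le (Subgroup.center_le_centralizer _)
      have h2 : (Subgroup.center G).index ∣ A.index := Subgroup.index_dvd_of_le hAZ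
      have h3 := dvd_trans h1 h2
      rw [hAidx] at h3
      have e1 : Nat.card (P : Subgroup G) = s ^ α := hα
      have e2 : Nat.card (Q : Subgroup G) = q ^ β := hβ
      rwa [e1, e2] at h3
    obtain ⟨gn, hgn⟩ := h.ex_n
    obtain ⟨gm, hgm⟩ := h.ex_m
    have hnd : n ∣ s ^ α * q ^ β := hgn ▸ hdvd gn
    have hmd : m ∣ s ^ α * q ^ β := hgm ▸ hdvd gm
    obtain ⟨n1, n2, hn1d, hn2d, hn12⟩ := (Nat.dvd_mul).1 hnd
    obtain ⟨m1, m2, hm1d, hm2d, hm12⟩ := (Nat.dvd_mul).1 hmd
    obtain ⟨a, -, rfl⟩ := (Nat.dvd_prime_pow hsp).1 hn1d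
    obtain ⟨b, -, rfl⟩ := (Nat.dvd_prime_pow hqp).1 hn2d
    obtain ⟨c, -, rfl⟩ := (Nat.dvd_prime_pow hsp).1 hm1d
    obtain ⟨d, -, rfl⟩ := (Nat.dvd_prime_pow hqp).1 hm2d
    -- coprimality kills the mixed exponents
    have hcop := h.cop
    rw [← hn12, ← hm12] at hcop
    have hac : a = 0 ∨ c = 0 := by
      by_contra hcon
      rw [not_or] at hcon
      have h1 : s ∣ s ^ a * q ^ b := dvd_mul_of_dvd_left (dvd_pow_self s hcon.1) _
      have h2 : s ∣ s ^ c * q ^ d := dvd_mul_of_dvd_left (dvd_pow_self s hcon.2) _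
      have : s ∣ Nat.gcd (s ^ a * q ^ b) (s ^ c * q ^ d) := Nat.dvd_gcd h1 h2
      rw [hcop] at this
      exact hsp.one_lt.ne' (Nat.dvd_one.1 this)
    have hbd : b = 0 ∨ d = 0 := by
      by_contra hcon
      rw [not_or] at hcon
      have h1 : q ∣ s ^ a * q ^ b := dvd_mul_of_dvd_right (dvd_pow_self q hcon.1) _
      have h2 : q ∣ s ^ c * q ^ d := dvd_mul_of_dvd_right (dvd_pow_self q hcon.2) _
      have : q ∣ Nat.gcd (s ^ a * q ^ b) (s ^ c * q ^ d) := Nat.dvd_gcd h1 h2
      rw [hcop] at this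
      exact hqp.one_lt.ne' (Nat.dvd_one.1 this)
    rcases hac with rfl | rfl
    · -- `n = q ^ b`, so `b ≠ 0`, `d = 0`, `m = s ^ c`
      rcases hbd with rfl | rfl
      · exfalso
        rw [← hn12] at hn1
        simp at hn1
      · refine ⟨c, b, Or.inr ⟨?_, ?_⟩⟩
        · rw [← hn12]; simp
        · rw [← hm12]; simp
    · -- `m = q ^ d`, so `d ≠ 0`, `b = 0`, `n = s ^ a`
      rcases hbd with rfl | rfl
      · refine ⟨a, d, Or.inl ⟨?_, ?_⟩⟩
        · rw [← hn12]; simp
        · rw [← hm12]; simp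
      · exfalso
        rw [← hm12] at hm1
        simp at hm1

end Cfsg.Agent.Lib.Helper1.NM
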