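import Mathlib
import Cfsg.Agent.Lib.Helper16.NM.Base
import Cfsg.Agent.Lib.Helper17.ClassGraph1
import Cfsg.Agent.Lib.Helper22.Frobenius
import Cfsg.Agent.Lib.Helper1.NML41
import Cfsg.Agent.S4127

/-!
# S4146 leaf SP2 (helper1; SPARE of helper9's copy)

Single prime case, second half.  Route: ONE call of S4127 (prime `s`) gives the normal `s`-complement `K`;
`K` is nilpotent because the Sylow `p`-subgroups for `p ∤ n * m` are central (`K / (K ⊓ Z(G))` is a
`q`-group); the normalizer condition in `K` applied to `D = K ⊓ C(v)` gives the contradiction.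
-/

set_option autoImplicit false

namespace Cfsg.Agent.Lib.Helper1.NM

open Cfsg.Agent.Lib.Helper22.ClsSet Cfsg.Agent.Lib.Helper16.NM

variable {G : Type*} [Group G] [Finite G] {n m : ℕ}

/-- a Sylow `p`-subgroup is central if `p` divides no class size -/
theorem sylow_le_center_of_not_dvd_idx {p : ℕ} [Fact p.Prime] (hp : ∀ g : G, ¬ p ∣ idx g)
    (P : Sylow p G) : (P : Subgroup G) ≤ Subgroup.center G := by
  have hCtop : Subgroup.centralizer ((P : Subgroup G) : Set G) = ⊤ := by
    by_contra hne
    obtain ⟨x, -, hx⟩ := Cfsg.Agent.Lib.Helper22.exists_ne_one_forall_conj_not_mem _ hne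
    obtain ⟨g, hg⟩ :=
      Cfsg.Agent.Lib.Helper17.ClassGraph.exists_conj_mem_centralizer_sylow P x (hp x)
    have h1 := hx g⁻¹
    rw [inv_inv] at h1
    exact h1 hg
  intro y hy
  rw [Subgroup.mem_center_iff]
  intro g
  have hgC : g ∈ Subgroup.centralizer ((P : Subgroup G) : Set G) := by
    rw [hCtop]; exact Subgroup.mem_top g
  exact ((Subgroup.mem_centralizer_iff.1 hgC) y hy).symm

/-- the primes dividing `|G : Z(G)|` divide `n * m` -/
theorem prime_dvd_mul_of_dvd_index_center (h : CS G n m) {p : ℕ} (hp : p.Prime)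
    (hd : p ∣ (Subgroup.center G).index) : p ∣ n * m := by
  by_contra hnd
  have : Fact p.Prime := ⟨hp⟩
  have hidx : ∀ g : G, ¬ p ∣ idx g := by
    intro g hg
    apply hnd
    rcases h.cs g with h1 | h1 | h1 | h1
    · rw [h1] at hg
      exact absurd (Nat.dvd_one.1 hg) hp.one_lt.ne'
    · rw [h1] at hg
      exact dvd_mul_of_dvd_left hg m
    · rw [h1] at hg
      exact dvd_mul_of_dvd_right hg n
    · rw [h1] at hg
      exact hg
  obtain ⟨P⟩ : Nonempty (Sylow p G) := inferInstance
  have hle := sylow_le_center_of_not_dvd_idx hidx P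
  exact P.not_dvd_index (dvd_trans hd (Subgroup.index_dvd_of_le hle))

/-- elements of order prime to `n * m` are central -/
theorem mem_center_of_coprime_mul (h : CS G n m) {y : G} (hy : (orderOf y).Coprime (n * m)) :
    y ∈ Subgroup.center G := by
  have h1 : y ^ (Subgroup.center G).index ∈ Subgroup.center G := Subgroup.pow_index_mem _ y
  have hcop : ((Subgroup.center G).index).Coprime (orderOf y) := by
    by_contra hcon
    obtain ⟨p, hp, hp1, hp2⟩ := Nat.Prime.not_coprime_iff_dvd.1 hcon
    have hp3 := prime_dvd_mul_of_dvd_index_center h hp hp1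
    have : p ∣ Nat.gcd (orderOf y) (n * m) := Nat.dvd_gcd hp2 hp3
    rw [hy.gcd_eq_one] at this
    exact hp.one_lt.ne' (Nat.dvd_one.1 this)
  obtain ⟨a, ha⟩ := exists_pow_eq_self_of_coprime (x := y) hcop
  rw [← ha]
  exact (Subgroup.center G).pow_mem h1 a

omit [Finite G] in
/-- conjugating by powers: if `v⁻¹ a v = a c` with `c` commuting with `v` then
`v⁻ᵗ a vᵗ = a cᵗ` -/
theorem conj_pow_eq {v a c : G} (h1 : v⁻¹ * a * v = a * c) (h2 : Commute v c) (t : ℕ) :
    (v ^ t)⁻¹ * a * v ^ t = a * c ^ t := by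
  induction t with
  | zero => simp
  | succ t ih =>
    have h3 : Commute v (c ^ t) := h2.pow_right t
    calc (v ^ (t + 1))⁻¹ * a * v ^ (t + 1)
        = v⁻¹ * ((v ^ t)⁻¹ * a * v ^ t) * v := by rw [pow_succ]; group
      _ = v⁻¹ * (a * c ^ t) * v := by rw [ih]
      _ = (v⁻¹ * a * v) * (v⁻¹ * (c ^ t * v)) := by group
      _ = (a * c) * (v⁻¹ * (v * c ^ t)) := by rw [h1, h3.eq]
      _ = a * c ^ (t + 1) := by rw [pow_succ']; group

/-- SP2 (single prime, S4127 + nilpotent normal `s`-complement) -/
theorem SP2 (h : CS G n m) {s q : ℕ} [Fact s.Prime] [Fact q.Prime] (hsq : s ≠ q) {i j : ℕ}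
    (hn : n = s ^ i) (hm : m = q ^ j)
    (hreg : ∀ g : G, (orderOf g).Coprime s → idx g = 1 ∨ idx g = n * m)
    {w v : G} (hw : PEl s w) (hiw : idx w = n) (hv : PEl s v) (hiv : idx v = m) : False := by
  have hs : s.Prime := Fact.out
  have hq : q.Prime := Fact.out
  have hi0 : i ≠ 0 := by
    rintro rfl
    rw [pow_zero] at hn
    have := h.one_lt_n
    omega
  have hj0 : j ≠ 0 := by
    rintro rfl
    rw [pow_zero] at hm
    have := h.one_lt_m
    omega
  have hsqc : Nat.Coprime s q := (Nat.coprime_primes hs hq).2 hsq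
  -- `s ∤ m`
  have hsm : ¬ s ∣ m := by
    intro hd
    rw [hm] at hd
    exact hsq ((Nat.prime_dvd_prime_iff_eq hs hq).1 (hs.dvd_of_dvd_pow hd))
  -- the hypothesis of S4127
  have hmax : ∀ y : G, ¬ s ^ (i + 1) ∣ (Subgroup.centralizer ({y} : Set G)).index := by
    intro y hd
    have hd' : s ^ (i + 1) ∣ idx y := hd
    rcases h.cs y with h1 | h1 | h1 | h1
    · rw [h1] at hd'
      have := Nat.le_of_dvd one_pos hd'
      have : 1 < s ^ (i + 1) := Nat.one_lt_pow (by omega) hs.one_lt
      omega
    · rw [h1, hn] at hd'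
      have := Nat.pow_dvd_pow_iff_le_right hs.one_lt |>.mp hd'
      omega
    · rw [h1] at hd'
      exact hsm (dvd_trans (dvd_pow_self s (by omega)) hd')
    · rw [h1, hn, pow_succ] at hd'
      have : s ∣ m := Nat.dvd_of_mul_dvd_mul_left (pos_of_ne_zero (pow_ne_zero i hs.ne_zero)) hd'
      exact hsm this
  obtain ⟨P, K, hKn, hKP⟩ := Cfsg.Agent.S4127.result s i hmax ⟨w, hw, by
    show idx w = s ^ i
    rw [hiw, hn]⟩
  have := hKn
  have hKidx : K.index = Nat.card (P : Subgroup G) := hKP.symm.index_eq_card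
  have hKcard : Nat.card K * Nat.card (P : Subgroup G) = Nat.card G := hKP.card_mul_card
  have hPcard : Nat.card (P : Subgroup G) = s ^ (Nat.card G).factorization s :=
    P.card_eq_multiplicity
  have hKs : ¬ s ∣ Nat.card K := by
    intro hd
    have h0 : s ^ (Nat.card G).factorization s * s ∣
        s ^ (Nat.card G).factorization s * Nat.card K := Nat.mul_dvd_mul_left _ hd
    have h1 : s ^ ((Nat.card G).factorization s + 1) ∣ Nat.card G := by
      rw [pow_succ]
      refine dvd_trans h0 ?_
      rw [mul_comm, ← hPcard, hKcard]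
    exact Nat.pow_succ_factorization_not_dvd Nat.card_pos.ne' hs h1
  -- elements of `K` are `s`-regular
  have hKreg : ∀ k ∈ K, (orderOf k).Coprime s := by
    intro k hk
    have h2 : orderOf k ∣ Nat.card K := by
      have := orderOf_dvd_natCard (⟨k, hk⟩ : K)
      rwa [Subgroup.orderOf_mk] at this
    exact Nat.Coprime.coprime_dvd_left h2 ((Nat.Prime.coprime_iff_not_dvd hs).2 hKs).symm
  -- (P5) `K` is not inside `C(v)`
  have hKv : ¬ K ≤ Subgroup.centralizer ({v} : Set G) := by
    intro hle
    have h1 : idx v ∣ K.index := Subgroup.index_dvd_of_le hle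
    rw [hiv, hKidx, hPcard, hm] at h1
    have h2 : q ∣ s ^ (Nat.card G).factorization s := dvd_trans (dvd_pow_self q hj0) h1
    exact hsq ((Nat.prime_dvd_prime_iff_eq hq hs).1 (hq.dvd_of_dvd_pow h2)).symm
  -- (P4) `K` is nilpotent
  have hKnil : Group.IsNilpotent K := by
    let f : K →* G ⧸ Subgroup.center G :=
      (QuotientGroup.mk' (Subgroup.center G)).comp K.subtype
    have hf : ∀ k : K, f k = 1 ↔ (k : G) ∈ Subgroup.center G := by
      intro k
      show (QuotientGroup.mk' (Subgroup.center G)) (k : G) = 1 ↔ _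
      rw [QuotientGroup.mk'_apply, QuotientGroup.eq_one_iff]
    have hker : f.rangeRestrict.ker ≤ Subgroup.center K := by
      intro k hk
      rw [MonoidHom.mem_ker] at hk
      have hk' : f k = 1 := by
        have := congrArg Subtype.val hk
        simpa using this
      have hkZ : (k : G) ∈ Subgroup.center G := (hf k).1 hk'
      rw [Subgroup.mem_center_iff]
      intro g
      apply Subtype.ext
      have := (Subgroup.mem_center_iff.1 hkZ) (g : G)
      simpa using this
    have hpg : IsPGroup q f.range := by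
      rintro ⟨_, k, rfl⟩
      set r := orderOf (k : G) with hr
      have hr0 : r ≠ 0 := (orderOf_pos (k : G)).ne'
      refine ⟨r.factorization q, ?_⟩
      apply Subtype.ext
      rw [Subgroup.coe_pow, Subgroup.coe_one, ← map_pow, hf]
      rw [Subgroup.coe_pow]
      apply mem_center_of_coprime_mul h
      -- the order of `k ^ q ^ e` divides `r / q ^ e`
      have hdvd : orderOf ((k : G) ^ q ^ r.factorization q) ∣ r / q ^ r.factorization q := by
        apply orderOf_dvd_of_pow_eq_one
        rw [← pow_mul, Nat.ordProj_mul_ordCompl_eq_self r q, hr, pow_orderOf_eq_one]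
      have hc1 : Nat.Coprime (r / q ^ r.factorization q) q :=
        (Nat.coprime_ordCompl hq hr0).symm
      have hc2 : Nat.Coprime (r / q ^ r.factorization q) s :=
        Nat.Coprime.coprime_dvd_left (Nat.ordCompl_dvd r q) (hKreg k k.2)
      have hc3 : Nat.Coprime (r / q ^ r.factorization q) (n * m) := by
        rw [hn, hm]
        exact Nat.Coprime.mul_right (Nat.Coprime.pow_right i hc2) (Nat.Coprime.pow_right j hc1)
      exact Nat.Coprime.coprime_dvd_left hdvd hc3
    have : Group.IsNilpotent f.range := hpg.isNilpotent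
    exact Subgroup.isNilpotent_of_ker_le_center f.rangeRestrict hker
  -- class sizes of non-central elements of `K`
  have hKidxnm : ∀ g ∈ K, g ∉ Subgroup.center G → idx g = n * m := by
    intro g hg hgz
    rcases hreg g (hKreg g hg) with h1 | h1
    · exact absurd ((idx_eq_one_iff g).1 h1) hgz
    · exact h1
  -- (P6) `D = K ⊓ C(v)` is not inside the centre
  have hD : ∃ g ∈ K, g ∈ Subgroup.centralizer ({v} : Set G) ∧ g ∉ Subgroup.center G := by
    by_contra hcon
    have hDZ : ∀ g ∈ K, g ∈ Subgroup.centralizer ({v} : Set G) → g ∈ Subgroup.center G := by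
      intro g hg hgv
      by_contra hgz
      exact hcon ⟨g, hg, hgv, hgz⟩
    -- some `g0 ∈ K` is not central
    have hex : ∃ g0 ∈ K, g0 ∉ Subgroup.center G := by
      by_contra hcon2
      apply hKv
      intro g hg
      have hgz : g ∈ Subgroup.center G := by
        by_contra hgz
        exact hcon2 ⟨g, hg, hgz⟩
      exact Subgroup.center_le_centralizer _ hgz
    obtain ⟨g0, hg0K, hg0z⟩ := hex
    have hig0 : idx g0 = n * m := hKidxnm g0 hg0K hg0z
    set Cg := Subgroup.centralizer ({g0} : Set G) with hCg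
    set Cv := Subgroup.centralizer ({v} : Set G) with hCv
    -- `q ^ j ∣ R_g`
    have hRg : m ∣ Cg.relIndex K := by
      have e1 : (K ⊓ Cg).relIndex K * K.index = (K ⊓ Cg).index :=
        Subgroup.relIndex_mul_index inf_le_left
      rw [Subgroup.inf_relIndex_left] at e1
      have e2 : Cg.index ∣ (K ⊓ Cg).index := Subgroup.index_dvd_of_le inf_le_right
      have e3 : m ∣ Cg.relIndex K * K.index := by
        rw [e1]
        refine dvd_trans ?_ e2
        show m ∣ idx g0
        rw [hig0]
        exact dvd_mul_left m n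
      have e4 : Nat.Coprime m K.index := by
        rw [hKidx, hPcard, hm]
        exact Nat.Coprime.pow _ _ hsqc.symm
      exact e4.dvd_of_dvd_mul_right e3
    -- `R_v ∣ q ^ j`
    have hRv : Cv.relIndex K ∣ m := by
      have := Cfsg.Agent.Lib.Helper17.ClassGraph.relIndex_dvd_index_of_normal' Cv K
      rwa [show Cv.index = m from hiv] at this
    -- `R_g ∣ R_v`
    have hle : Cv ⊓ K ≤ Cg := by
      intro x hx
      exact Subgroup.center_le_centralizer _ (hDZ x hx.2 hx.1)
    have hRgv : Cg.relIndex K ∣ Cv.relIndex K := by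
      have := Subgroup.relIndex_dvd_of_le_left K hle
      rwa [Subgroup.inf_relIndex_right] at this
    have hReq : Cg.relIndex K = Cv.relIndex K :=
      Nat.dvd_antisymm hRgv (dvd_trans hRv hRg)
    -- so `Cg ⊓ K ≤ Cv ⊓ K`
    have hle2 : Cv ⊓ K ≤ Cg ⊓ K := le_inf hle inf_le_right
    have e5 : (Cv ⊓ K).relIndex (Cg ⊓ K) * (Cg ⊓ K).relIndex K = (Cv ⊓ K).relIndex K :=
      Subgroup.relIndex_mul_relIndex _ _ _ hle2 inf_le_right
    rw [Subgroup.inf_relIndex_right, Subgroup.inf_relIndex_right, hReq] at e5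
    have hne : Cv.relIndex K ≠ 0 := by
      intro h0
      rw [h0] at hRv
      have := h.one_lt_m
      rw [zero_dvd_iff] at hRv
      omega
    have e6 : (Cv ⊓ K).relIndex (Cg ⊓ K) = 1 := by
      have : (Cv ⊓ K).relIndex (Cg ⊓ K) * Cv.relIndex K = 1 * Cv.relIndex K := by
        rw [e5, one_mul]
      exact Nat.eq_of_mul_eq_mul_right (Nat.pos_of_ne_zero hne) this
    have hle3 : Cg ⊓ K ≤ Cv ⊓ K := Subgroup.relIndex_eq_one.1 e6
    have hg0Cg : g0 ∈ Cg := by
      rw [hCg, mem_cent_singleton]
    have := hle3 ⟨hg0Cg, hg0K⟩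
    exact hg0z (hDZ g0 hg0K this.1)
  obtain ⟨g, hgK, hgv, hgz⟩ := hD
  -- (P7) `C(g) ≤ C(v)`
  have hcvg : Commute v g := by
    rw [mem_cent_singleton] at hgv
    exact hgv
  obtain ⟨kv, hkv⟩ := hv
  have hcopvg : (orderOf v).Coprime (orderOf g) := by
    rw [hkv]
    exact Nat.Coprime.pow_left kv (hKreg g hgK).symm
  have hig : idx g = n * m := hKidxnm g hgK hgz
  have hCgv : Subgroup.centralizer ({g} : Set G) ≤ Subgroup.centralizer ({v} : Set G) := by
    have h1 : idx g ∣ idx (v * g) := idx_dvd_mul_right_of_coprime hcvg hcopvg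
    rw [hig] at h1
    have h2 : idx (v * g) = n * m :=
      h.idx_of_dvd_dvd (dvd_trans (dvd_mul_right n m) h1) (dvd_trans (dvd_mul_left m n) h1)
    have h3 := cent_mul_of_coprime hcvg hcopvg
    have h4 : Subgroup.centralizer ({v * g} : Set G) ≤ Subgroup.centralizer ({g} : Set G) := by
      rw [h3]; exact inf_le_right
    have h5 := eq_of_le_of_index_eq h4 (show idx (v * g) = idx g by rw [h2, hig])
    refine le_trans h5 ?_
    rw [h3]; exact inf_le_left
  -- (P8) the normalizer condition in `K`
  have hnc : NormalizerCondition K := Group.normalizerCondition_of_isNilpotent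
  set D' : Subgroup K := (Subgroup.centralizer ({v} : Set G)).subgroupOf K with hD'
  have hDtop : D' = ⊤ := by
    by_contra hne
    have hlt : D' < ⊤ := lt_top_iff_ne_top.2 hne
    obtain ⟨a, haN, haD⟩ := SetLike.exists_of_lt (hnc D' hlt)
    rw [Subgroup.mem_normalizer_iff] at haN
    apply haD
    have hg' : (⟨g, hgK⟩ : K) ∈ D' := by
      rw [hD', Subgroup.mem_subgroupOf]
      exact hgv
    have h1 := (haN ⟨g, hgK⟩).1 hg'
    rw [hD', Subgroup.mem_subgroupOf] at h1
    have h1' : (a : G) * g * (a : G)⁻¹ ∈ Subgroup.centralizer ({v} : Set G) := by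
      simpa using h1
    rw [mem_cent_singleton] at h1'
    -- `c = a⁻¹ (v⁻¹ a v)`
    set A : G := (a : G) with hA
    set c : G := A⁻¹ * (v⁻¹ * A * v) with hc
    have e1 : v * g * v⁻¹ = g := by rw [hcvg.eq]; group
    have e2 : v⁻¹ * (A * g * A⁻¹) * v = A * g * A⁻¹ := by
      rw [mul_assoc, ← h1']; group
    have hcg : g * c = c * g := by
      symm
      calc c * g = A⁻¹ * (v⁻¹ * (A * (v * g * v⁻¹) * A⁻¹) * v) * (A * c) := by
            rw [hc]; group
        _ = A⁻¹ * (v⁻¹ * (A * g * A⁻¹) * v) * (A * c) := by rw [e1]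
        _ = A⁻¹ * (A * g * A⁻¹) * (A * c) := by rw [e2]
        _ = g * c := by group
    have hcCg : c ∈ Subgroup.centralizer ({g} : Set G) := by
      rw [mem_cent_singleton]; exact hcg
    have hcCv := hCgv hcCg
    rw [mem_cent_singleton] at hcCv
    have hcK : c ∈ K := by
      have hAK : A ∈ K := a.2
      have h2 : v⁻¹ * A * v ∈ K := by
        have := hKn.conj_mem A hAK v⁻¹
        rwa [inv_inv] at this
      exact K.mul_mem (K.inv_mem hAK) h2
    have hconj : v⁻¹ * A * v = A * c := by rw [hc]; group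
    have hpow := conj_pow_eq hconj (show Commute v c from hcCv) (orderOf v)
    rw [pow_orderOf_eq_one, inv_one, one_mul, mul_one] at hpow
    have hc1 : c ^ orderOf v = 1 := by
      have : A * 1 = A * c ^ orderOf v := by rw [mul_one]; exact hpow
      exact (mul_left_cancel this).symm
    have hc2 : orderOf c ∣ orderOf v := orderOf_dvd_of_pow_eq_one hc1
    have hc3 : (orderOf c).Coprime (orderOf v) := by
      rw [hkv]
      exact Nat.Coprime.pow_right kv (hKreg c hcK)
    have hc4 : orderOf c = 1 := Nat.Coprime.eq_one_of_dvd hc3 hc2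
    have hc5 : c = 1 := orderOf_eq_one_iff.1 hc4
    rw [hc5, mul_one] at hconj
    rw [hD', Subgroup.mem_subgroupOf, mem_cent_singleton]
    calc v * A = v * (v⁻¹ * A * v) := by rw [hconj]
      _ = A * v := by group
  apply hKv
  intro k hk
  have : (⟨k, hk⟩ : K) ∈ D' := by rw [hDtop]; exact Subgroup.mem_top _
  rw [hD', Subgroup.mem_subgroupOf] at this
  exact this

end Cfsg.Agent.Lib.Helper1.NM
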