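import Mathlib

set_option autoImplicit false

/-! # The Netto triple system of prime order `p ≡ 7 (mod 12)` has no automorphism group that is
transitive on ordered triangles unless `p = 7`. -/

namespace Cfsg.Agent.Lib.Helper1.Netto

variable {p : ℕ} [hp : Fact p.Prime]

/-- the third point of the Netto line through `a` and `b` -/
noncomputable def op (w a b : ZMod p) : ZMod p :=
  if IsSquare (b - a) then (1 - w) * a + w * b else w * a + (1 - w) * b

local notation "χ" => quadraticChar (ZMod p)

theorem op_self (w a : ZMod p) : op w a a = a := by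
  unfold op
  split_ifs <;> ring

theorem op_of_one {w a b : ZMod p} (h : χ (b - a) = 1) : op w a b = (1 - w) * a + w * b := by
  unfold op
  have h0 : b - a ≠ 0 := by
    intro h0
    rw [h0, quadraticChar_zero] at h
    exact absurd h (by norm_num)
  rw [if_pos ((quadraticChar_one_iff_isSquare h0).mp h)]

theorem op_of_neg {w a b : ZMod p} (h : χ (b - a) = -1) : op w a b = w * a + (1 - w) * b := by
  unfold op
  rw [if_neg (quadraticChar_neg_one_iff_not_isSquare.mp h)]

section Setting

variable (h12 : p % 12 = 7) (w : ZMod p) (hw : w ^ 2 - w + 1 = 0)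

include h12 in
theorem chi_neg_one : χ (-1) = -1 := by
  rw [quadraticChar_neg_one_iff_not_isSquare, ZMod.exists_sq_eq_neg_one_iff]
  omega

include h12 in
theorem two_ne_zero' : (2 : ZMod p) ≠ 0 := by
  intro h
  have : ((2 : ℕ) : ZMod p) = 0 := by exact_mod_cast h
  rw [ZMod.natCast_eq_zero_iff] at this
  have := (Nat.prime_dvd_prime_iff_eq hp.out Nat.prime_two).mp this
  omega

include h12 in
theorem three_ne_zero' : (3 : ZMod p) ≠ 0 := by
  intro h
  have : ((3 : ℕ) : ZMod p) = 0 := by exact_mod_cast h
  rw [ZMod.natCast_eq_zero_iff] at this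
  have := (Nat.prime_dvd_prime_iff_eq hp.out Nat.prime_three).mp this
  omega

include hw in
theorem w_ne_zero : w ≠ 0 := by
  rintro rfl
  simp at hw

include hw in
theorem w_ne_one : w ≠ 1 := by
  rintro rfl
  simp at hw

include hw in
theorem w_cube : w ^ 3 = -1 := by
  linear_combination (w + 1) * hw

include h12 hw in
theorem chi_w : χ w = -1 := by
  rw [quadraticChar_neg_one_iff_not_isSquare]
  rintro ⟨v, hv⟩
  have hv0 : v ≠ 0 := by
    rintro rfl
    exact w_ne_zero w hw (by simpa using hv)
  have h1 : v ^ (p - 1) = 1 := ZMod.pow_card_sub_one_eq_one hv0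
  have h6 : v ^ 6 = -1 := by
    have := w_cube w hw
    rw [hv] at this
    linear_combination this
  have h12' : v ^ 12 = 1 := by
    have : v ^ 12 = (v ^ 6) ^ 2 := by ring
    rw [this, h6]; ring
  obtain ⟨k, hk⟩ : ∃ k, p - 1 = 12 * k + 6 := ⟨p / 12, by omega⟩
  rw [hk, pow_add, pow_mul, h12', one_pow, one_mul, h6] at h1
  have : (2 : ZMod p) = 0 := by linear_combination -h1
  exact two_ne_zero' h12 this

include h12 hw in
theorem chi_wbar : χ (1 - w) = -1 := by
  have h1 : (1 - w) * w = 1 := by linear_combination -hw
  have h2 : χ ((1 - w) * w) = 1 := by rw [h1, map_one]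
  rw [map_mul, chi_w h12 w hw] at h2
  linarith

include h12 hw in
theorem chi_three : χ 3 = -1 := by
  have h1 : (-1 : ZMod p) * 3 = (2 * w - 1) ^ 2 := by linear_combination -4 * hw
  have h0 : (2 * w - 1 : ZMod p) ≠ 0 := by
    intro h0
    rw [h0] at h1
    have : (3 : ZMod p) = 0 := by linear_combination -h1
    exact three_ne_zero' h12 this
  have h2 : χ ((-1 : ZMod p) * 3) = 1 := by rw [h1, quadraticChar_sq_one' h0]
  rw [map_mul, chi_neg_one h12] at h2
  linarith

include h12 hw in
theorem sqrt_ne_zero : (2 * w - 1 : ZMod p) ≠ 0 := by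
  intro h0
  have h1 : (-1 : ZMod p) * 3 = (2 * w - 1) ^ 2 := by linear_combination -4 * hw
  rw [h0] at h1
  have : (3 : ZMod p) = 0 := by linear_combination -h1
  exact three_ne_zero' h12 this

include h12 hw in
theorem chi_one_add_w : χ (1 + w) = - χ (2 * w - 1) := by
  have h1 : (1 + w : ZMod p) = (2 * w - 1) * (1 - w) := by linear_combination 2 * hw
  rw [h1, map_mul, chi_wbar h12 w hw]
  ring

include hw in
theorem chi_w_sq : χ (w - 1) = 1 := by
  have h1 : (w - 1 : ZMod p) = w ^ 2 := by linear_combination -hw
  rw [h1, quadraticChar_sq_one' (w_ne_zero w hw)]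

/-! ### general properties of the third point map -/

include h12 in
theorem op_comm {a b : ZMod p} (hab : a ≠ b) : op w a b = op w b a := by
  have h0 : b - a ≠ 0 := sub_ne_zero.mpr (Ne.symm hab)
  have hneg : χ (a - b) = - χ (b - a) := by
    have : a - b = (-1) * (b - a) := by ring
    rw [this, map_mul, chi_neg_one h12]
    ring
  rcases quadraticChar_dichotomy h0 with h | h
  · rw [op_of_one h, op_of_neg (by rw [hneg, h])]
    ring
  · rw [op_of_neg h, op_of_one (by rw [hneg, h]; ring)]
    ring

include h12 hw in
theorem op_op (a b : ZMod p) : op w a (op w a b) = b := by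
  by_cases hab : a = b
  · subst hab
    rw [op_self, op_self]
  have h0 : b - a ≠ 0 := sub_ne_zero.mpr (Ne.symm hab)
  rcases quadraticChar_dichotomy h0 with h | h
  · rw [op_of_one h]
    have h2 : χ ((1 - w) * a + w * b - a) = -1 := by
      have : (1 - w) * a + w * b - a = w * (b - a) := by ring
      rw [this, map_mul, chi_w h12 w hw, h]
      ring
    rw [op_of_neg h2]
    linear_combination (a - b) * hw
  · rw [op_of_neg h]
    have h2 : χ (w * a + (1 - w) * b - a) = 1 := by
      have : w * a + (1 - w) * b - a = (1 - w) * (b - a) := by ring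
      rw [this, map_mul, chi_wbar h12 w hw, h]
      ring
    rw [op_of_one h2]
    linear_combination (a - b) * hw

/-! ### explicit values -/

theorem op_zero_one : op w 0 1 = w := by
  rw [op_of_one (by rw [sub_zero, map_one])]
  ring

include h12 in
theorem op_one_zero : op w 1 0 = w := by
  rw [op_of_neg (by rw [zero_sub]; exact chi_neg_one h12)]
  ring

include h12 hw in
theorem op_zero_w : op w 0 w = 1 := by
  rw [op_of_neg (by rw [sub_zero]; exact chi_w h12 w hw)]
  linear_combination -hw

include h12 hw in
theorem op_one_w : op w 1 w = 0 := by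
  rw [op_of_one (chi_w_sq w hw)]
  linear_combination hw

end Setting

/-- **Netto endgame.** Let `p ≡ 7 (mod 12)` be a prime greater than `7` and `w` a primitive
sixth root of unity in `ZMod p`.  There is no family `Hs` of maps of `ZMod p` fixing `0` and `1`,
compatible with the third-point map of the Netto triple system, and transitive on the points
other than `0`, `1`, `w`. -/
theorem netto_absurd (h12 : p % 12 = 7) (h7 : 7 < p) (w : ZMod p) (hw : w ^ 2 - w + 1 = 0)
    (Hs : Set (ZMod p → ZMod p))
    (h0 : ∀ h ∈ Hs, h 0 = 0) (h1 : ∀ h ∈ Hs, h 1 = 1)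
    (hop : ∀ h ∈ Hs, ∀ a b : ZMod p, a ≠ b → h (op w a b) = op w (h a) (h b))
    (htr : ∀ x y : ZMod p, x ≠ 0 → x ≠ 1 → x ≠ w → y ≠ 0 → y ≠ 1 → y ≠ w →
      ∃ h ∈ Hs, h x = y) : False := by
  have hw0 := w_ne_zero w hw
  have hw1 := w_ne_one w hw
  have h2 := two_ne_zero' (p := p) h12
  have h3 := three_ne_zero' (p := p) h12
  have hχm1 := chi_neg_one (p := p) h12
  have hχw := chi_w h12 w hw
  have hχwb := chi_wbar h12 w hw
  have hχ3 := chi_three h12 w hw
  have hfixw : ∀ h ∈ Hs, h w = w := by
    intro h hh
    have := hop h hh 0 1 zero_ne_one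
    rwa [h0 h hh, h1 h hh, op_zero_one] at this
  have h2w : (2 : ZMod p) ≠ w := by
    rintro rfl
    apply h3
    linear_combination hw
  rcases quadraticChar_dichotomy h2 with hχ2 | hχ2
  · -- `2` is a square: Pasch configurations
    have h4 : (4 : ZMod p) ≠ 0 := by
      intro h
      apply h2
      have : (2 : ZMod p) * 2 = 0 := by linear_combination h
      rcases mul_eq_zero.mp this with h | h <;> exact h
    have h41 : (4 : ZMod p) ≠ 1 := by
      intro h
      apply h3
      linear_combination h
    have h13 : (13 : ZMod p) ≠ 0 := by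
      intro h
      have : ((13 : ℕ) : ZMod p) = 0 := by exact_mod_cast h
      rw [ZMod.natCast_eq_zero_iff] at this
      have := (Nat.prime_dvd_prime_iff_eq hp.out (by norm_num)).mp this
      omega
    have h4w : (4 : ZMod p) ≠ w := by
      rintro rfl
      apply h13
      linear_combination hw
    have h7' : (7 : ZMod p) ≠ 0 := by
      intro h
      have : ((7 : ℕ) : ZMod p) = 0 := by exact_mod_cast h
      rw [ZMod.natCast_eq_zero_iff] at this
      have := (Nat.prime_dvd_prime_iff_eq hp.out (by norm_num)).mp this
      omega
    have hχ4 : χ (4 : ZMod p) = 1 := by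
      have : (4 : ZMod p) = 2 ^ 2 := by norm_num
      rw [this, quadraticChar_sq_one' h2]
    obtain ⟨h, hh, h24⟩ := htr 2 4 h2 (by intro h; apply one_ne_zero (α := ZMod p); linear_combination h)
      h2w h4 h41 h4w
    -- images
    have e1 : op w 0 2 = 2 * w := by
      rw [op_of_one (by rw [sub_zero]; exact hχ2)]; ring
    have e2 : op w 0 4 = 4 * w := by
      rw [op_of_one (by rw [sub_zero]; exact hχ4)]; ring
    have e3 : op w 1 2 = 1 + w := by
      rw [op_of_one (by norm_num)]; ring
    have e4 : op w 1 4 = 4 - 3 * w := by
      rw [op_of_neg (by norm_num; exact hχ3)]; ring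
    have e5 : op w (2 * w) (1 + w) = w := by
      rw [op_of_neg (by
        have : 1 + w - 2 * w = 1 - w := by ring
        rw [this]; exact hχwb)]
      linear_combination hw
    have i1 : h (2 * w) = 4 * w := by
      have := hop h hh 0 2 (Ne.symm h2)
      rwa [e1, h0 h hh, h24, e2] at this
    have i2 : h (1 + w) = 4 - 3 * w := by
      have := hop h hh 1 2 (by intro h; apply one_ne_zero (α := ZMod p); linear_combination -h)
      rwa [e3, h1 h hh, h24, e4] at this
    have i3 : w = op w (4 * w) (4 - 3 * w) := by
      have := hop h hh (2 * w) (1 + w) (by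
        intro h; apply hw1; linear_combination h)
      rwa [e5, hfixw h hh, i1, i2] at this
    have i4 : op w (4 * w) w = 4 - 3 * w := by
      have := op_op h12 w hw (4 * w) (4 - 3 * w)
      rwa [← i3] at this
    have i5 : op w (4 * w) w = 4 * w - 3 := by
      rw [op_of_neg (by
        have : w - 4 * w = (-1) * 3 * w := by ring
        rw [this, map_mul, map_mul, hχm1, hχ3, hχw]; ring)]
      linear_combination 3 * hw
    rw [i5] at i4
    have : (7 : ZMod p) * (w - 1) = 0 := by linear_combination i4
    rcases mul_eq_zero.mp this with h | h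
    · exact h7' h
    · exact hw1 (sub_eq_zero.mp h)
  · -- `2` is not a square: hexagons
    set F : ZMod p → ZMod p := fun x => op w 0 (op w 1 x) with hF
    have hs0 := sqrt_ne_zero h12 w hw
    have hχ1w := chi_one_add_w h12 w hw
    -- the common part of the two chains
    have c1 : F (2 - w) = -w := by
      have a1 : op w 1 (2 - w) = 1 - w := by
        rw [op_of_neg (by
          have : 2 - w - 1 = 1 - w := by ring
          rw [this]; exact hχwb)]
        linear_combination hw
      have a2 : op w 0 (1 - w) = -w := by
        rw [op_of_neg (by rw [sub_zero]; exact hχwb)]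
        linear_combination hw
      rw [hF]; simp only; rw [a1, a2]
    have hx0 : ∃ x0 : ZMod p, x0 ≠ 0 ∧ x0 ≠ 1 ∧ x0 ≠ w ∧ F x0 = 2 - w ∧ F (-w) = x0 := by
      rcases quadraticChar_dichotomy hs0 with hs | hs
      · refine ⟨2, h2, ?_, h2w, ?_, ?_⟩
        · intro h; apply one_ne_zero (α := ZMod p); linear_combination h
        · have a1 : op w 1 2 = 1 + w := by
            rw [op_of_one (by norm_num)]; ring
          have a2 : op w 0 (1 + w) = 2 - w := by
            rw [op_of_neg (by rw [sub_zero, hχ1w, hs])]
            linear_combination -hw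
          rw [hF]; simp only; rw [a1, a2]
        · have a1 : op w 1 (-w) = 2 - 2 * w := by
            rw [op_of_one (by
              have : -w - 1 = (-1) * (1 + w) := by ring
              rw [this, map_mul, hχm1, hχ1w, hs]; ring)]
            linear_combination -hw
          have a2 : op w 0 (2 - 2 * w) = 2 := by
            rw [op_of_one (by
              have : 2 - 2 * w - 0 = 2 * (1 - w) := by ring
              rw [this, map_mul, hχ2, hχwb]; ring)]
            linear_combination -2 * hw
          rw [hF]; simp only; rw [a1, a2]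
      · refine ⟨-1, by simp, ?_, ?_, ?_, ?_⟩
        · intro h; apply h2; linear_combination -h
        · intro h; apply h3
          have : w = -1 := h.symm
          rw [this] at hw
          linear_combination hw
        · have a1 : op w 1 (-1) = 1 - 2 * w := by
            rw [op_of_one (by
              have : (-1 : ZMod p) - 1 = (-1) * 2 := by ring
              rw [this, map_mul, hχm1, hχ2]; ring)]
            ring
          have a2 : op w 0 (1 - 2 * w) = 2 - w := by
            rw [op_of_one (by
              have : 1 - 2 * w - 0 = (-1) * (2 * w - 1) := by ring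
              rw [this, map_mul, hχm1, hs]; ring)]
            linear_combination -2 * hw
          rw [hF]; simp only; rw [a1, a2]
        · have a1 : op w 1 (-w) = w - 1 := by
            rw [op_of_neg (by
              have : -w - 1 = (-1) * (1 + w) := by ring
              rw [this, map_mul, hχm1, hχ1w, hs]; ring)]
            linear_combination hw
          have a2 : op w 0 (w - 1) = -1 := by
            rw [op_of_one (by rw [sub_zero]; exact chi_w_sq w hw)]
            linear_combination hw
          rw [hF]; simp only; rw [a1, a2]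
    obtain ⟨x0, hx00, hx01, hx0w, hF1, hF3⟩ := hx0
    -- equivariance of `F`
    have hFeq : ∀ h ∈ Hs, ∀ z : ZMod p, z ≠ 1 → z ≠ w → h (F z) = F (h z) := by
      intro h hh z hz1 hzw
      have hne : (0 : ZMod p) ≠ op w 1 z := by
        intro h0'
        apply hzw
        have := op_op h12 w hw 1 z
        rw [← h0', op_one_zero h12] at this
        exact this.symm
      rw [hF]; simp only
      rw [hop h hh 0 _ hne, h0 h hh, hop h hh 1 z (Ne.symm hz1), h1 h hh]
    -- `F ^ 3 = id` everywhere
    have a1 : F 0 = 1 := by
      rw [hF]; simp only; rw [op_one_zero h12, op_zero_w h12 w hw]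
    have a2 : F 1 = w := by
      rw [hF]; simp only; rw [op_self, op_zero_one]
    have a3 : F w = 0 := by
      rw [hF]; simp only; rw [op_one_w h12 w hw, op_self]
    have hF3all : ∀ x : ZMod p, F (F (F x)) = x := by
      intro x
      by_cases hx0' : x = 0
      · rw [hx0', a1, a2, a3]
      by_cases hx1' : x = 1
      · rw [hx1', a2, a3, a1]
      by_cases hxw' : x = w
      · rw [hxw', a3, a1, a2]
      obtain ⟨h, hh, hhx⟩ := htr x0 x hx00 hx01 hx0w hx0' hx1' hxw'
      have n1 : (2 - w : ZMod p) ≠ 1 := by
        intro h; apply hw1; linear_combination -h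
      have n2 : (2 - w : ZMod p) ≠ w := by
        intro h
        have : (2 : ZMod p) * (1 - w) = 0 := by linear_combination h
        rcases mul_eq_zero.mp this with h | h
        · exact h2 h
        · exact hw1 (sub_eq_zero.mp h).symm
      have n3 : (-w : ZMod p) ≠ 1 := by
        intro h
        apply h3
        have : w = -1 := by linear_combination -h
        rw [this] at hw
        linear_combination hw
      have n4 : (-w : ZMod p) ≠ w := by
        intro h
        have : (2 : ZMod p) * w = 0 := by linear_combination -h
        rcases mul_eq_zero.mp this with h | h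
        · exact h2 h
        · exact hw0 h
      have b1 : F x = h (2 - w) := by
        rw [← hhx, ← hFeq h hh x0 hx01 hx0w, hF1]
      have b2 : F (h (2 - w)) = h (-w) := by
        rw [← hFeq h hh (2 - w) n1 n2, c1]
      have b3 : F (h (-w)) = x := by
        rw [← hFeq h hh (-w) n3 n4, hF3, hhx]
      rw [b1, b2, b3]
    -- `F` as a permutation
    have hinv : ∀ a : ZMod p, Function.Involutive (op w a) := fun a b => op_op h12 w hw a b
    set σ : Equiv.Perm (ZMod p) := (hinv 0).toPerm * (hinv 1).toPerm with hσ
    have hσF : ∀ x, σ x = F x := fun x => rfl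
    have hσ3 : σ ^ 3 ^ 1 = 1 := by
      ext x
      rw [pow_one, pow_succ, pow_succ, pow_one, Equiv.Perm.mul_apply, Equiv.Perm.mul_apply,
        hσF, hσF, hσF, hF3all, Equiv.Perm.one_apply]
    have : Fact (Nat.Prime 3) := ⟨Nat.prime_three⟩
    have hnd : ¬ 3 ∣ Fintype.card (ZMod p) := by
      rw [ZMod.card]
      intro h
      have := (Nat.prime_dvd_prime_iff_eq Nat.prime_three hp.out).mp h
      omega
    obtain ⟨a, ha⟩ := Equiv.Perm.exists_fixed_point_of_prime hnd hσ3
    rw [hσF] at ha
    have ha' : op w 1 a = op w 0 a := by
      have := congrArg (op w 0) ha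
      rw [hF] at this
      simp only at this
      rwa [op_op h12 w hw] at this
    by_cases ha0 : a = 0
    · rw [ha0, op_one_zero h12, op_self] at ha'
      exact hw0 ha'
    by_cases ha1 : a = 1
    · rw [ha1, op_self, op_zero_one] at ha'
      exact hw1 ha'.symm
    have e1 : op w a (op w a 1) = 1 := op_op h12 w hw a 1
    have e0 : op w a (op w a 0) = 0 := op_op h12 w hw a 0
    rw [op_comm h12 w (a := a) (b := 1) ha1, ha', op_comm h12 w (a := 0) (b := a) (Ne.symm ha0),
      e0] at e1
    exact zero_ne_one e1

end Cfsg.Agent.Lib.Helper1.Netto
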