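import Mathlib

set_option autoImplicit false

namespace Cfsg.Agent.Lib.Helper1.NilCount

open Module

variable {F : Type*} [Field F] {X : Type*} [AddCommGroup X] [Module F X]

/-- The cyclic subspace generated by `v` under `T`. -/
def cyc (T : End F X) (v : X) : Submodule F X :=
  Submodule.span F (Set.range fun i : ℕ => (T ^ i) v)

theorem pow_mem_cyc (T : End F X) (v : X) (i : ℕ) : (T ^ i) v ∈ cyc T v :=
  Submodule.subset_span ⟨i, rfl⟩

theorem mem_cyc_self (T : End F X) (v : X) : v ∈ cyc T v := by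
  have := pow_mem_cyc T v 0
  simpa using this

theorem cyc_invariant (T : End F X) (v : X) : ∀ w ∈ cyc T v, T w ∈ cyc T v := by
  intro w hw
  induction hw using Submodule.span_induction with
  | mem x hx =>
    obtain ⟨i, rfl⟩ := hx
    have := pow_mem_cyc T v (i + 1)
    rwa [pow_succ', Module.End.mul_apply] at this
  | zero => simp
  | add x y _ _ hx hy => rw [map_add]; exact add_mem hx hy
  | smul a x _ hx => rw [map_smul]; exact Submodule.smul_mem _ _ hx

theorem map_subtype_cyc_restrict (T : End F X) (W : Submodule F X) (h : ∀ x ∈ W, T x ∈ W) (v : W) :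
    (cyc (T.restrict h) v).map W.subtype = cyc T (v : X) := by
  unfold cyc
  rw [Submodule.map_span]
  congr 1
  ext x
  simp only [Set.mem_image, Set.mem_range]
  constructor
  · rintro ⟨_, ⟨i, rfl⟩, rfl⟩
    refine ⟨i, ?_⟩
    rw [Module.End.pow_restrict]
    rfl
  · rintro ⟨i, rfl⟩
    refine ⟨_, ⟨i, rfl⟩, ?_⟩
    rw [Module.End.pow_restrict]
    rfl

theorem cyc_restrict_eq_top_iff (T : End F X) (W : Submodule F X) (h : ∀ x ∈ W, T x ∈ W) (v : W) :
    cyc (T.restrict h) v = ⊤ ↔ cyc T (v : X) = W := by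
  rw [← map_subtype_cyc_restrict T W h v]
  constructor
  · intro h1
    rw [h1, Submodule.map_subtype_top]
  · intro h1
    apply Submodule.map_injective_of_injective W.injective_subtype
    rw [h1, Submodule.map_subtype_top]

/-- `T` preserves `W` and is nilpotent modulo `W`. -/
def QN (W : Submodule F X) (T : End F X) : Prop :=
  (∀ x ∈ W, T x ∈ W) ∧ ∃ N : ℕ, ∀ x, (T ^ N) x ∈ W

/-- `T` kills `W` and is nilpotent modulo `W`. -/
def ZP (W : Submodule F X) (T : End F X) : Prop :=
  (∀ x ∈ W, T x = 0) ∧ ∃ N : ℕ, ∀ x, (T ^ N) x ∈ W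

/-- An endomorphism of `W` extended to `X` through a projection. -/
def emb (W : Submodule F X) (π : X →ₗ[F] W) (α : End F W) : End F X :=
  W.subtype ∘ₗ α ∘ₗ π

theorem emb_apply (W : Submodule F X) (π : X →ₗ[F] W) (α : End F W) (x : X) :
    emb W π α x = (α (π x) : X) := rfl

theorem emb_mem (W : Submodule F X) (π : X →ₗ[F] W) (α : End F W) (x : X) :
    emb W π α x ∈ W := (α (π x)).2

theorem pow_sub_pow_mem (W : Submodule F X) (T T' : End F X) (hT : ∀ x ∈ W, T x ∈ W)
    (hd : ∀ x, T x - T' x ∈ W) : ∀ (N : ℕ) (x : X), (T ^ N) x - (T' ^ N) x ∈ W := by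
  intro N
  induction N with
  | zero => intro x; simp
  | succ N ih =>
    intro x
    rw [pow_succ', pow_succ', Module.End.mul_apply, Module.End.mul_apply]
    have h1 : T ((T ^ N) x) - T' ((T' ^ N) x)
        = T ((T ^ N) x - (T' ^ N) x) + (T ((T' ^ N) x) - T' ((T' ^ N) x)) := by
      rw [map_sub]; abel
    rw [h1]
    exact add_mem (hT _ (ih x)) (hd _)

theorem QN.zp {W : Submodule F X} {π : X →ₗ[F] W} (hπ : ∀ w : W, π w = w) {T : End F X}
    (h : QN W T) : ZP W (T - emb W π (T.restrict h.1)) := by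
  refine ⟨?_, ?_⟩
  · intro x hx
    rw [LinearMap.sub_apply, emb_apply]
    have : π x = ⟨x, hx⟩ := hπ ⟨x, hx⟩
    rw [this]
    simp [LinearMap.restrict_apply]
  · obtain ⟨N, hN⟩ := h.2
    refine ⟨N, fun x => ?_⟩
    have h1 := pow_sub_pow_mem W T (T - emb W π (T.restrict h.1)) h.1 (by
      intro y
      rw [LinearMap.sub_apply]
      have : T y - (T y - emb W π (T.restrict h.1) y) = emb W π (T.restrict h.1) y := by abel
      rw [this]
      exact emb_mem _ _ _ _) N x
    have h2 : ((T - emb W π (T.restrict h.1)) ^ N) x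
        = (T ^ N) x - ((T ^ N) x - ((T - emb W π (T.restrict h.1)) ^ N) x) := by abel
    rw [h2]
    exact sub_mem (hN x) h1

theorem ZP.qn {W : Submodule F X} {π : X →ₗ[F] W} {z : End F X}
    (h : ZP W z) (α : End F W) : QN W (z + emb W π α) := by
  have hpres : ∀ x ∈ W, (z + emb W π α) x ∈ W := by
    intro x hx
    rw [LinearMap.add_apply, h.1 x hx, zero_add]
    exact emb_mem _ _ _ _
  refine ⟨hpres, ?_⟩
  obtain ⟨N, hN⟩ := h.2
  refine ⟨N, fun x => ?_⟩
  have h1 := pow_sub_pow_mem W (z + emb W π α) z hpres (by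
    intro y
    rw [LinearMap.add_apply]
    have : z y + emb W π α y - z y = emb W π α y := by abel
    rw [this]
    exact emb_mem _ _ _ _) N x
  have h2 : ((z + emb W π α) ^ N) x = (((z + emb W π α) ^ N) x - (z ^ N) x) + (z ^ N) x := by abel
  rw [h2]
  exact add_mem h1 (hN x)

theorem ZP.restrict_add {W : Submodule F X} {π : X →ₗ[F] W} (hπ : ∀ w : W, π w = w) {z : End F X}
    (h : ZP W z) (α : End F W) (h' : ∀ x ∈ W, (z + emb W π α) x ∈ W) :
    (z + emb W π α).restrict h' = α := by
  ext w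
  rw [LinearMap.restrict_apply]
  simp only [LinearMap.add_apply]
  rw [h.1 w w.2, zero_add, emb_apply, hπ w]

end Cfsg.Agent.Lib.Helper1.NilCount
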