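import Mathlib
import Cfsg.Agent.Lib.Helper1.NilCount1

set_option autoImplicit false

namespace Cfsg.Agent.Lib.Helper1.NilCount

open Module

variable {F : Type*} [Field F] {X : Type*} [AddCommGroup X] [Module F X]

/-! ### A-side facts -/

theorem nilpotent_qn {T : End F X} (hT : IsNilpotent T) (W : Submodule F X)
    (hW : ∀ x ∈ W, T x ∈ W) : QN W T := by
  refine ⟨hW, ?_⟩
  obtain ⟨N, hN⟩ := hT
  exact ⟨N, fun x => by rw [hN]; simp⟩

theorem nilpotent_restrict {T : End F X} (hT : IsNilpotent T) (W : Submodule F X)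
    (hW : ∀ x ∈ W, T x ∈ W) : IsNilpotent (T.restrict hW) := by
  obtain ⟨N, hN⟩ := hT
  refine ⟨N, ?_⟩
  rw [Module.End.pow_restrict]
  ext w
  rw [LinearMap.restrict_apply]
  simp [hN]

theorem nilpotent_of_qn {W : Submodule F X} {T : End F X} (h : QN W T)
    (hn : IsNilpotent (T.restrict h.1)) : IsNilpotent T := by
  obtain ⟨M, hM⟩ := hn
  obtain ⟨N, hN⟩ := h.2
  refine ⟨M + N, ?_⟩
  ext x
  rw [pow_add, Module.End.mul_apply]
  have h1 : ((T.restrict h.1) ^ M) ⟨(T ^ N) x, hN x⟩ = 0 := by rw [hM]; simp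
  rw [Module.End.pow_restrict] at h1
  have h2 := congrArg Subtype.val h1
  rw [LinearMap.restrict_apply] at h2
  simpa using h2

/-! ### B-side facts (Fitting) -/

theorem fitting_aux [Finite X] (S : End F X) :
    ∃ N : ℕ, ∀ n, N ≤ n → ⨅ m, LinearMap.range (S ^ m) = LinearMap.range (S ^ n) := by
  have := LinearMap.eventually_iInf_range_pow_eq S
  rw [Filter.eventually_atTop] at this
  exact this

theorem fitting_qn [Finite X] (S : End F X) : QN (⨅ m, LinearMap.range (S ^ m)) S := by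
  obtain ⟨N, hN⟩ := fitting_aux S
  refine ⟨?_, N, ?_⟩
  · intro x hx
    rw [hN N le_rfl] at hx
    obtain ⟨y, rfl⟩ := hx
    rw [hN (N + 1) (by omega)]
    exact ⟨y, by rw [pow_succ', Module.End.mul_apply]⟩
  · intro x
    rw [hN N le_rfl]
    exact ⟨x, rfl⟩

theorem fitting_surjective [Finite X] (S : End F X)
    (h : ∀ x ∈ ⨅ m, LinearMap.range (S ^ m), S x ∈ ⨅ m, LinearMap.range (S ^ m)) :
    Function.Surjective (S.restrict h) := by
  obtain ⟨N, hN⟩ := fitting_aux S
  rintro ⟨w, hw⟩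
  have hw' := hw
  rw [hN (N + 1) (by omega)] at hw'
  obtain ⟨y, hy⟩ := hw'
  have hmem : (S ^ N) y ∈ ⨅ m, LinearMap.range (S ^ m) := by
    rw [hN N le_rfl]; exact ⟨y, rfl⟩
  refine ⟨⟨(S ^ N) y, hmem⟩, ?_⟩
  apply Subtype.ext
  rw [LinearMap.restrict_apply]
  simp only
  rw [← hy, pow_succ', Module.End.mul_apply]

theorem iInf_range_eq_of_qn {W : Submodule F X} {S : End F X} (h : QN W S)
    (hs : Function.Surjective (S.restrict h.1)) : ⨅ m, LinearMap.range (S ^ m) = W := by
  apply le_antisymm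
  · obtain ⟨N, hN⟩ := h.2
    refine (iInf_le _ N).trans ?_
    rintro _ ⟨y, rfl⟩
    exact hN y
  · refine le_iInf fun m => ?_
    intro w hw
    have hsm : Function.Surjective ((S.restrict h.1) ^ m) := by
      rw [Module.End.coe_pow]
      exact Function.Surjective.iterate hs m
    obtain ⟨w', hw'⟩ := hsm ⟨w, hw⟩
    rw [Module.End.pow_restrict] at hw'
    have h2 := congrArg Subtype.val hw'
    rw [LinearMap.restrict_apply] at h2
    exact ⟨w', h2⟩

end Cfsg.Agent.Lib.Helper1.NilCount
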