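import Mathlib
import Cfsg.Agent.Lib.Helper1.NilCount2

set_option autoImplicit false

namespace Cfsg.Agent.Lib.Helper1.NilCount

open Module

variable {F : Type*} [Field F] {X : Type*} [AddCommGroup X] [Module F X]

theorem cyc_qn {T : End F X} {v : X} {W : Submodule F X} (hT : IsNilpotent T)
    (hc : cyc T v = W) : QN W T := by
  subst hc
  exact nilpotent_qn hT _ (cyc_invariant T v)

theorem cyc_mem {T : End F X} {v : X} {W : Submodule F X} (hc : cyc T v = W) : v ∈ W := by
  subst hc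
  exact mem_cyc_self T v

theorem fitting_qn' [Finite X] {S : End F X} {W : Submodule F X}
    (hS : ⨅ m, LinearMap.range (S ^ m) = W) : QN W S := by
  subst hS
  exact fitting_qn S

theorem fitting_bijective' [Finite X] {S : End F X} {W : Submodule F X}
    (hS : ⨅ m, LinearMap.range (S ^ m) = W) (h : ∀ x ∈ W, S x ∈ W) :
    Function.Bijective (S.restrict h) := by
  subst hS
  exact ⟨Finite.injective_iff_surjective.mpr (fitting_surjective S h), fitting_surjective S h⟩

/-- The A-side decomposition. -/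
def equivA (W : Submodule F X) (π : X →ₗ[F] W) (hπ : ∀ w : W, π w = w) :
    {p : End F X × X // IsNilpotent p.1 ∧ cyc p.1 p.2 = W} ≃
      {p : End F W × W // IsNilpotent p.1 ∧ cyc p.1 p.2 = ⊤} × {z : End F X // ZP W z} where
  toFun p :=
    (⟨(p.1.1.restrict (cyc_qn p.2.1 p.2.2).1, ⟨p.1.2, cyc_mem p.2.2⟩),
        nilpotent_restrict p.2.1 W (cyc_qn p.2.1 p.2.2).1,
        (cyc_restrict_eq_top_iff p.1.1 W (cyc_qn p.2.1 p.2.2).1 ⟨p.1.2, cyc_mem p.2.2⟩).mpr p.2.2⟩,
      ⟨p.1.1 - emb W π (p.1.1.restrict (cyc_qn p.2.1 p.2.2).1), (cyc_qn p.2.1 p.2.2).zp hπ⟩)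
  invFun q :=
    ⟨(q.2.1 + emb W π q.1.1.1, (q.1.1.2 : X)),
      nilpotent_of_qn (q.2.2.qn q.1.1.1) (by
        rw [q.2.2.restrict_add hπ]; exact q.1.2.1),
      (cyc_restrict_eq_top_iff _ W (q.2.2.qn q.1.1.1).1 q.1.1.2).mp (by
        rw [q.2.2.restrict_add hπ]; exact q.1.2.2)⟩
  left_inv p := by
    apply Subtype.ext
    apply Prod.ext
    · simp
    · rfl
  right_inv q := by
    obtain ⟨⟨⟨α, v⟩, hα, hc⟩, ⟨z, hz⟩⟩ := q
    apply Prod.ext
    · apply Subtype.ext
      apply Prod.ext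
      · exact hz.restrict_add hπ α (hz.qn α).1
      · rfl
    · apply Subtype.ext
      simp only
      rw [hz.restrict_add hπ α _]
      abel

/-- The B-side decomposition. -/
def equivB [Finite X] (W : Submodule F X) (π : X →ₗ[F] W) (hπ : ∀ w : W, π w = w) :
    {S : End F X // ⨅ m, LinearMap.range (S ^ m) = W} ≃
      {α : End F W // Function.Bijective α} × {z : End F X // ZP W z} where
  toFun p :=
    (⟨p.1.restrict (fitting_qn' p.2).1, fitting_bijective' p.2 _⟩,
      ⟨p.1 - emb W π (p.1.restrict (fitting_qn' p.2).1), (fitting_qn' p.2).zp hπ⟩)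
  invFun q :=
    ⟨q.2.1 + emb W π q.1.1, iInf_range_eq_of_qn (q.2.2.qn q.1.1) (by
      rw [q.2.2.restrict_add hπ]; exact q.1.2.2)⟩
  left_inv p := by
    apply Subtype.ext
    simp
  right_inv q := by
    obtain ⟨⟨α, hα⟩, ⟨z, hz⟩⟩ := q
    apply Prod.ext
    · apply Subtype.ext
      exact hz.restrict_add hπ α (hz.qn α).1
    · apply Subtype.ext
      simp only
      rw [hz.restrict_add hπ α _]
      abel

end Cfsg.Agent.Lib.Helper1.NilCount
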