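import Mathlib
import Cfsg.Agent.Lib.Helper1.NilCount3

set_option autoImplicit false

namespace Cfsg.Agent.Lib.Helper1.NilCount

open Module

variable {F : Type*} [Field F] {W : Type*} [AddCommGroup W] [Module F W]

theorem pow_finrank_eq_zero [Module.Finite F W] {α : End F W} (h : IsNilpotent α) :
    α ^ finrank F W = 0 := by
  have h1 := LinearMap.aeval_self_charpoly α
  rw [h.charpoly_eq_X_pow_finrank] at h1
  simpa using h1

theorem pow_eq_zero_of_finrank_le [Module.Finite F W] {α : End F W} (h : IsNilpotent α) {i : ℕ}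
    (hi : finrank F W ≤ i) : α ^ i = 0 := by
  obtain ⟨j, rfl⟩ := Nat.exists_eq_add_of_le hi
  rw [pow_add, pow_finrank_eq_zero h, zero_mul]

/-- If `g α₀ = β g` then `g (α₀ ^ i v) = β ^ i (g v)`. -/
theorem semiconj_pow_apply {α₀ β g : End F W} (h : g * α₀ = β * g) (i : ℕ) (v : W) :
    g ((α₀ ^ i) v) = (β ^ i) (g v) := by
  have h1 : SemiconjBy g (α₀ ^ i) (β ^ i) := SemiconjBy.pow_right h i
  have h2 : (g * α₀ ^ i) v = (β ^ i * g) v := by rw [h1.eq]
  simpa [Module.End.mul_apply] using h2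

/-- The family `α ^ i v`, `i < finrank`, as a basis, for a cyclic nilpotent pair. -/
noncomputable def cycBasis [Module.Finite F W] (α : End F W) (v : W) (hα : IsNilpotent α)
    (hc : cyc α v = ⊤) : Basis (Fin (finrank F W)) F W :=
  basisOfTopLeSpanOfCardEqFinrank (fun i : Fin (finrank F W) => (α ^ (i : ℕ)) v) (by
    rw [← hc]
    unfold cyc
    rw [Submodule.span_le]
    rintro _ ⟨i, rfl⟩
    by_cases hi : i < finrank F W
    · exact Submodule.subset_span ⟨⟨i, hi⟩, rfl⟩
    · have : α ^ i = 0 := pow_eq_zero_of_finrank_le hα (by omega)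
      simp only
      rw [this]
      simp) (by simp)

theorem cycBasis_apply [Module.Finite F W] (α : End F W) (v : W) (hα : IsNilpotent α)
    (hc : cyc α v = ⊤) (i : Fin (finrank F W)) : cycBasis α v hα hc i = (α ^ (i : ℕ)) v := by
  unfold cycBasis
  rw [coe_basisOfTopLeSpanOfCardEqFinrank]

/-! ### A reference cyclic pair -/

/-- The shift operator of a basis indexed by `Fin k`. -/
noncomputable def shift {k : ℕ} (b : Basis (Fin k) F W) : End F W :=
  b.constr F (fun i : Fin k => if h : (i : ℕ) + 1 < k then b ⟨(i : ℕ) + 1, h⟩ else 0)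

theorem shift_pow_apply {k : ℕ} (b : Basis (Fin k) F W) (j : ℕ) (i : Fin k) :
    ((shift b) ^ j) (b i) = if h : (i : ℕ) + j < k then b ⟨(i : ℕ) + j, h⟩ else 0 := by
  induction j with
  | zero => simp
  | succ j ih =>
    rw [pow_succ', Module.End.mul_apply, ih]
    by_cases h : (i : ℕ) + j < k
    · rw [dif_pos h]
      unfold shift
      rw [Basis.constr_basis]
      by_cases h' : (i : ℕ) + j + 1 < k
      · rw [dif_pos h', dif_pos (by omega)]
        rfl
      · rw [dif_neg h', dif_neg (by omega)]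
    · rw [dif_neg h, dif_neg (by omega), map_zero]

theorem shift_nilpotent {k : ℕ} (b : Basis (Fin k) F W) : IsNilpotent (shift b) := by
  refine ⟨k, ?_⟩
  apply b.ext
  intro i
  rw [shift_pow_apply, dif_neg (by omega)]
  simp

theorem exists_cyclic_pair [Module.Finite F W] :
    ∃ (α₀ : End F W) (v₀ : W), IsNilpotent α₀ ∧ cyc α₀ v₀ = ⊤ := by
  obtain ⟨k, hk⟩ : ∃ k, k = finrank F W := ⟨_, rfl⟩
  have b : Basis (Fin k) F W := by rw [hk]; exact Module.finBasis F W
  refine ⟨shift b, if h : 0 < k then b ⟨0, h⟩ else 0, shift_nilpotent b, ?_⟩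
  rw [eq_top_iff, ← b.span_eq, Submodule.span_le]
  rintro _ ⟨i, rfl⟩
  have hk0 : 0 < k := by have := i.2; omega
  rw [dif_pos hk0]
  have h1 := shift_pow_apply b (i : ℕ) ⟨0, hk0⟩
  rw [dif_pos (by simp)] at h1
  have h2 : (⟨((⟨0, hk0⟩ : Fin k) : ℕ) + (i : ℕ), by simp⟩ : Fin k) = i := by
    apply Fin.ext; simp
  rw [h2] at h1
  rw [← h1]
  exact pow_mem_cyc _ _ _

end Cfsg.Agent.Lib.Helper1.NilCount
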