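import Mathlib
import Cfsg.Agent.Lib.Helper1.NilCount4

set_option autoImplicit false

namespace Cfsg.Agent.Lib.Helper1.NilCount

open Module

variable {F : Type*} [Field F] {W : Type*} [AddCommGroup W] [Module F W]

/-- The inverse of a bijective endomorphism, as an endomorphism. -/
noncomputable def binv (α : End F W) (hα : Function.Bijective α) : End F W :=
  (LinearEquiv.ofBijective α hα).symm.toLinearMap

theorem mul_binv (α : End F W) (hα : Function.Bijective α) : α * binv α hα = 1 := by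
  ext x
  rw [Module.End.mul_apply]
  exact (LinearEquiv.ofBijective α hα).apply_symm_apply x

theorem binv_mul (α : End F W) (hα : Function.Bijective α) : binv α hα * α = 1 := by
  ext x
  rw [Module.End.mul_apply]
  exact (LinearEquiv.ofBijective α hα).symm_apply_apply x

theorem conj_semiconj (α : End F W) (hα : Function.Bijective α) (α₀ : End F W) :
    α * α₀ = (α * α₀ * binv α hα) * α := by
  rw [mul_assoc, binv_mul, mul_one]

theorem conj_nilpotent (α : End F W) (hα : Function.Bijective α) {α₀ : End F W}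
    (h₀ : IsNilpotent α₀) : IsNilpotent (α * α₀ * binv α hα) := by
  obtain ⟨N, hN⟩ := h₀
  refine ⟨N, ?_⟩
  have h1 : SemiconjBy α (α₀ ^ N) ((α * α₀ * binv α hα) ^ N) :=
    SemiconjBy.pow_right (conj_semiconj α hα α₀) N
  have h2 : α * α₀ ^ N = (α * α₀ * binv α hα) ^ N * α := h1.eq
  have h3 : (α * α₀ * binv α hα) ^ N = (α * α₀ * binv α hα) ^ N * α * binv α hα := by
    rw [mul_assoc ((α * α₀ * binv α hα) ^ N), mul_binv, mul_one]
  rw [h3, ← h2, hN, mul_zero, zero_mul]

theorem cyc_conj_eq_top {α β α₀ : End F W} (hα : Function.Surjective α) (h : α * α₀ = β * α)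
    {v₀ : W} (hc : cyc α₀ v₀ = ⊤) : cyc β (α v₀) = ⊤ := by
  rw [eq_top_iff]
  have h1 : (⊤ : Submodule F W) = Submodule.map α ⊤ := by
    rw [Submodule.map_top, LinearMap.range_eq_top.mpr hα]
  rw [h1, ← hc]
  unfold cyc
  rw [Submodule.map_span, Submodule.span_le]
  rintro _ ⟨_, ⟨i, rfl⟩, rfl⟩
  simp only
  rw [semiconj_pow_apply h i v₀]
  exact Submodule.subset_span ⟨i, rfl⟩

theorem eq_of_semiconj {α₁ α₂ β α₀ : End F W} (h1 : α₁ * α₀ = β * α₁) (h2 : α₂ * α₀ = β * α₂)
    {v₀ : W} (hc : cyc α₀ v₀ = ⊤) (hv : α₁ v₀ = α₂ v₀) : α₁ = α₂ := by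
  apply LinearMap.ext_on hc
  rintro _ ⟨i, rfl⟩
  simp only
  rw [semiconj_pow_apply h1, semiconj_pow_apply h2, hv]

theorem card_cycPairs [Finite W] :
    Nat.card {p : End F W × W // IsNilpotent p.1 ∧ cyc p.1 p.2 = ⊤} =
      Nat.card {α : End F W // Function.Bijective α} := by
  haveI : Module.Finite F W := Module.Finite.of_finite
  obtain ⟨α₀, v₀, hα₀, hc₀⟩ := exists_cyclic_pair (F := F) (W := W)
  symm
  apply Nat.card_eq_of_bijective
    (fun α : {α : End F W // Function.Bijective α} =>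
      (⟨(α.1 * α₀ * binv α.1 α.2, α.1 v₀), conj_nilpotent α.1 α.2 hα₀,
        cyc_conj_eq_top α.2.2 (conj_semiconj α.1 α.2 α₀) hc₀⟩ :
        {p : End F W × W // IsNilpotent p.1 ∧ cyc p.1 p.2 = ⊤}))
  constructor
  · rintro ⟨α₁, h₁⟩ ⟨α₂, h₂⟩ heq
    have heq' := congrArg Subtype.val heq
    simp only [Prod.mk.injEq] at heq'
    apply Subtype.ext
    simp only
    refine eq_of_semiconj (β := α₁ * α₀ * binv α₁ h₁) (conj_semiconj α₁ h₁ α₀) ?_ hc₀ heq'.2
    rw [heq'.1]
    exact conj_semiconj α₂ h₂ α₀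
  · rintro ⟨⟨β, w⟩, hβ, hc⟩
    simp only at hβ hc
    set B₀ := cycBasis α₀ v₀ hα₀ hc₀ with hB₀
    set B := cycBasis β w hβ hc with hB
    set g := B₀.equiv B (Equiv.refl _) with hg
    have hsemi : g.toLinearMap * α₀ = β * g.toLinearMap := by
      apply B₀.ext
      intro i
      rw [Module.End.mul_apply, Module.End.mul_apply, LinearEquiv.coe_coe, Basis.equiv_apply,
        Equiv.refl_apply]
      rw [hB₀, hB, cycBasis_apply, cycBasis_apply]
      rw [← Module.End.mul_apply α₀, ← pow_succ', ← Module.End.mul_apply β, ← pow_succ']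
      by_cases hi : (i : ℕ) + 1 < finrank F W
      · have h1 : (α₀ ^ ((i : ℕ) + 1)) v₀ = cycBasis α₀ v₀ hα₀ hc₀ ⟨(i : ℕ) + 1, hi⟩ := by
          rw [cycBasis_apply]
        rw [h1, ← hB₀, Basis.equiv_apply, Equiv.refl_apply, hB, cycBasis_apply]
      · rw [pow_eq_zero_of_finrank_le hα₀ (by omega), pow_eq_zero_of_finrank_le hβ (by omega)]
        simp
    have hv : g v₀ = w := by
      rcases Nat.eq_zero_or_pos (finrank F W) with h0 | h0
      · haveI : Subsingleton W := Module.finrank_zero_iff.mp h0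
        exact Subsingleton.elim _ _
      · have h1 : v₀ = B₀ ⟨0, h0⟩ := by rw [hB₀, cycBasis_apply]; simp
        have h2 : w = B ⟨0, h0⟩ := by rw [hB, cycBasis_apply]; simp
        rw [h1, h2, Basis.equiv_apply, Equiv.refl_apply]
    refine ⟨⟨g.toLinearMap, g.bijective⟩, ?_⟩
    apply Subtype.ext
    simp only
    apply Prod.ext
    · simp only
      rw [hsemi, mul_assoc, mul_binv, mul_one]
    · exact hv

end Cfsg.Agent.Lib.Helper1.NilCount
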