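import Mathlib
import Cfsg.Agent.Lib.Helper1.NilCount5

set_option autoImplicit false

namespace Cfsg.Agent.Lib.Helper1.NilCount

open Module

variable {F : Type*} [Field F] {X : Type*} [AddCommGroup X] [Module F X]

theorem card_A_eq_card_B [Finite X] (W : Submodule F X) :
    Nat.card {p : End F X × X // IsNilpotent p.1 ∧ cyc p.1 p.2 = W} =
      Nat.card {S : End F X // ⨅ m, LinearMap.range (S ^ m) = W} := by
  obtain ⟨π, hπ⟩ := LinearMap.exists_leftInverse_of_injective W.subtype (Submodule.ker_subtype W)
  have hπ' : ∀ w : W, π w = w := fun w => LinearMap.congr_fun hπ w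
  rw [Nat.card_congr (equivA W π hπ'), Nat.card_congr (equivB W π hπ'), Nat.card_prod,
    Nat.card_prod, card_cycPairs]

theorem card_nilpotent_mul_card [Finite X] :
    Nat.card {T : End F X // IsNilpotent T} * Nat.card X = Nat.card (End F X) := by
  classical
  haveI : Finite (End F X) := Finite.of_injective _ DFunLike.coe_injective
  haveI : Finite (Submodule F X) := Finite.of_injective _ SetLike.coe_injective
  haveI : Fintype (Submodule F X) := Fintype.ofFinite _
  -- LHS as a sigma type
  have hA : Nat.card {T : End F X // IsNilpotent T} * Nat.card X =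
      ∑ W : Submodule F X, Nat.card {p : End F X × X // IsNilpotent p.1 ∧ cyc p.1 p.2 = W} := by
    rw [← Nat.card_prod, ← Nat.card_sigma]
    apply Nat.card_congr
    refine Equiv.trans ?_ (Equiv.trans (Equiv.sigmaFiberEquiv
      (fun p : {p : End F X × X // IsNilpotent p.1} => cyc p.1.1 p.1.2)).symm ?_)
    · exact (Equiv.prodSubtypeFstEquivSubtypeProd (p := fun T : End F X => IsNilpotent T)
        (β := X)).symm
    · exact Equiv.sigmaCongrRight fun W =>
        Equiv.subtypeSubtypeEquivSubtypeInter (fun p : End F X × X => IsNilpotent p.1)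
          (fun p : End F X × X => cyc p.1 p.2 = W)
  have hB : Nat.card (End F X) =
      ∑ W : Submodule F X, Nat.card {S : End F X // ⨅ m, LinearMap.range (S ^ m) = W} := by
    rw [← Nat.card_sigma]
    exact Nat.card_congr (Equiv.sigmaFiberEquiv
      (fun S : End F X => ⨅ m, LinearMap.range (S ^ m))).symm
  rw [hA, hB]
  exact Finset.sum_congr rfl fun W _ => card_A_eq_card_B W

end Cfsg.Agent.Lib.Helper1.NilCount
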