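import Mathlib
import Cfsg.Agent.Lib.Helper1.NilCount6

set_option autoImplicit false

namespace Cfsg.Agent.Lib.Helper1.NilCount

open Module

/-- The number of nilpotent `n × n` matrices over a finite field with `q` elements is
`q ^ (n * (n - 1))` (Fine–Herstein). -/
theorem card_nilpotent_matrix {F : Type*} [Field F] [Fintype F] (n : ℕ) :
    Nat.card {N : Matrix (Fin n) (Fin n) F // IsNilpotent N} =
      Fintype.card F ^ (n * (n - 1)) := by
  classical
  have e := Matrix.toLinAlgEquiv' (R := F) (n := Fin n)
  have h1 : Nat.card {N : Matrix (Fin n) (Fin n) F // IsNilpotent N} =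
      Nat.card {T : End F (Fin n → F) // IsNilpotent T} := by
    apply Nat.card_congr
    refine Equiv.subtypeEquiv e.toEquiv ?_
    intro N
    constructor
    · intro h; exact h.map e
    · intro h
      have := h.map e.symm
      simpa using this
  have h2 := card_nilpotent_mul_card (F := F) (X := Fin n → F)
  rw [← h1] at h2
  have h3 : Nat.card (Fin n → F) = Fintype.card F ^ n := by
    rw [Nat.card_fun, Nat.card_eq_fintype_card, Nat.card_eq_fintype_card, Fintype.card_fin]
  have h4 : Nat.card (End F (Fin n → F)) = Fintype.card F ^ (n * n) := by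
    rw [← Nat.card_congr e.toEquiv]
    show Nat.card (Fin n → Fin n → F) = _
    rw [Nat.card_fun, Nat.card_fun, Nat.card_eq_fintype_card, Nat.card_eq_fintype_card,
      Fintype.card_fin, ← pow_mul]
  rw [h3, h4] at h2
  have hq : 0 < Fintype.card F ^ n := pow_pos Fintype.card_pos n
  have h5 : Fintype.card F ^ (n * n) = Fintype.card F ^ (n * (n - 1)) * Fintype.card F ^ n := by
    rw [← pow_add]
    congr 1
    rcases n with _ | n
    · rfl
    · simp only [Nat.add_sub_cancel]; ring
  rw [h5] at h2
  exact Nat.eq_of_mul_eq_mul_right hq h2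

/-- Elements of `p`-power order in `GL_n` over a field of characteristic `p` correspond to
nilpotent matrices. -/
theorem exists_orderOf_eq_pow_iff {F : Type*} [Field F] (p : ℕ) [Fact p.Prime] [CharP F p]
    (n : ℕ) [NeZero n] (g : Matrix.GeneralLinearGroup (Fin n) F) :
    (∃ k : ℕ, orderOf g = p ^ k) ↔ IsNilpotent ((g : Matrix (Fin n) (Fin n) F) - 1) := by
  haveI : Nonempty (Fin n) := ⟨⟨0, Nat.pos_of_ne_zero (NeZero.ne n)⟩⟩
  haveI : CharP (Matrix (Fin n) (Fin n) F) p := Matrix.charP p
  have hp : p.Prime := Fact.out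
  constructor
  · rintro ⟨k, hk⟩
    refine ⟨p ^ k, ?_⟩
    rw [sub_pow_char_pow_of_commute p k (Commute.one_right _), one_pow, ← Units.val_pow_eq_pow_val,
      ← hk, pow_orderOf_eq_one, Units.val_one, sub_self]
  · rintro ⟨m, hm⟩
    have hmk : m ≤ p ^ m := (Nat.lt_pow_self hp.one_lt).le
    have h1 := pow_eq_zero_of_le hmk hm
    rw [sub_pow_char_pow_of_commute p m (Commute.one_right _), one_pow, sub_eq_zero,
      ← Units.val_pow_eq_pow_val] at h1
    have h2 : g ^ p ^ m = 1 := Units.ext h1
    obtain ⟨k, _, hk⟩ := (Nat.dvd_prime_pow hp).mp (orderOf_dvd_of_pow_eq_one h2)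
    exact ⟨k, hk⟩

/-- Steinberg's count for `GL_n`. -/
theorem card_ppow_elements {F : Type*} [Field F] [Fintype F] (p : ℕ) [Fact p.Prime] [CharP F p]
    (n : ℕ) :
    Nat.card {g : Matrix.GeneralLinearGroup (Fin n) F // ∃ k : ℕ, orderOf g = p ^ k} =
      Fintype.card F ^ (n * (n - 1)) := by
  classical
  rcases Nat.eq_zero_or_pos n with h0 | h0
  · subst h0
    haveI : Subsingleton (Matrix.GeneralLinearGroup (Fin 0) F) := inferInstance
    have : Nat.card {g : Matrix.GeneralLinearGroup (Fin 0) F // ∃ k : ℕ, orderOf g = p ^ k} = 1 := by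
      rw [Nat.card_eq_one_iff_unique]
      refine ⟨inferInstance, ⟨⟨1, 0, by simp⟩⟩⟩
    rw [this]
    simp
  · haveI : NeZero n := ⟨by omega⟩
    rw [← card_nilpotent_matrix]
    apply Nat.card_congr
    exact
      { toFun := fun g => ⟨(g.1 : Matrix (Fin n) (Fin n) F) - 1,
          (exists_orderOf_eq_pow_iff p n g.1).mp g.2⟩
        invFun := fun N => ⟨(N.2.isUnit_one_add).unit, (exists_orderOf_eq_pow_iff p n _).mpr (by
          rw [IsUnit.unit_spec, add_sub_cancel_left]; exact N.2)⟩
        left_inv := by
          intro g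
          apply Subtype.ext
          apply Units.ext
          simp
        right_inv := by
          intro N
          apply Subtype.ext
          simp }

end Cfsg.Agent.Lib.Helper1.NilCount
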