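import Mathlib
import Cfsg.Agent.Lib.Helper1.Alperin
import Cfsg.Agent.Lib.Helper1.MaxNormalAbelian
import Cfsg.Agent.Lib.Helper1.PGroup
import Cfsg.Agent.Lib.Helper1.Coprime
import Cfsg.Agent.Lib.Helper4.Basic
import Cfsg.Agent.Lib.Helper20.NormalRankTwoB

/-! For odd `p`, a `p`-group with an elementary abelian subgroup of order `p ^ 3` has a normal
one. -/

set_option autoImplicit false
open scoped commutatorElement Pointwise

namespace Cfsg.Agent.Lib.Helper1

open Subgroup

/-- adjoining a centralizing element of order `p` outside `V` -/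
theorem sup_zpowers_elemAb {G : Type*} [Group G] [Finite G] {p : ℕ} [hp : Fact p.Prime]
    (V : Subgroup G) [hVn : V.Normal] (hVc : ∀ a ∈ V, ∀ b ∈ V, a * b = b * a)
    (hVe : ∀ v ∈ V, v ^ p = 1) {x : G} (hx : x ∈ centralizer (V : Set G)) (hxp : x ^ p = 1)
    (hxV : x ∉ V) :
    (∀ a ∈ V ⊔ zpowers x, ∀ b ∈ V ⊔ zpowers x, a * b = b * a) ∧
      (∀ b ∈ V ⊔ zpowers x, b ^ p = 1) ∧
      Nat.card (V ⊔ zpowers x : Subgroup G) = p * Nat.card V := by
  have hdec : ∀ b ∈ V ⊔ zpowers x, ∃ a ∈ V, ∃ k : ℤ, b = a * x ^ k := by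
    intro b hb
    rw [← SetLike.mem_coe, Subgroup.normal_mul, Set.mem_mul] at hb
    obtain ⟨a, ha, z, hz, rfl⟩ := hb
    obtain ⟨k, rfl⟩ := Subgroup.mem_zpowers_iff.mp hz
    exact ⟨a, ha, k, rfl⟩
  have hAA : ∀ a ∈ V, ∀ a' ∈ V, Commute a a' := fun a ha a' ha' => hVc a ha a' ha'
  have hAt : ∀ a ∈ V, Commute a x := fun a ha => Subgroup.mem_centralizer_iff.mp hx a ha
  refine ⟨?_, ?_, ?_⟩
  · intro b hb b' hb'
    obtain ⟨a, ha, k, rfl⟩ := hdec b hb
    obtain ⟨a', ha', k', rfl⟩ := hdec b' hb'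
    have c1 : Commute (x ^ k) a' := ((hAt a' ha').zpow_right k).symm
    have c2 : Commute (x ^ k') a := ((hAt a ha).zpow_right k').symm
    have c3 : Commute (x ^ k) (x ^ k') := (Commute.refl x).zpow_zpow k k'
    calc a * x ^ k * (a' * x ^ k') = a * (x ^ k * a') * x ^ k' := by group
      _ = a * (a' * x ^ k) * x ^ k' := by rw [c1.eq]
      _ = (a * a') * (x ^ k * x ^ k') := by group
      _ = (a' * a) * (x ^ k' * x ^ k) := by rw [(hAA a ha a' ha').eq, c3.eq]
      _ = a' * (a * x ^ k') * x ^ k := by group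
      _ = a' * (x ^ k' * a) * x ^ k := by rw [c2.eq]
      _ = a' * x ^ k' * (a * x ^ k) := by group
  · intro b hb
    obtain ⟨a, ha, k, rfl⟩ := hdec b hb
    rw [((hAt a ha).zpow_right k).mul_pow, hVe a ha, one_mul, ← zpow_natCast, ← zpow_mul,
      mul_comm, zpow_mul, zpow_natCast, hxp, one_zpow]
  · have hx1 : x ≠ 1 := fun h => hxV (h ▸ V.one_mem)
    have hord : orderOf x = p := orderOf_eq_prime hxp hx1
    have hnorm : zpowers x ≤ normalizer (V : Set G) := by
      rw [Subgroup.normalizer_eq_top]; exact le_top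
    have hinf : zpowers x ⊓ V = ⊥ := by
      have hcard : Nat.card (zpowers x) = p := by rw [Nat.card_zpowers, hord]
      have hdvd : Nat.card (zpowers x ⊓ V : Subgroup G) ∣ p := by
        rw [← hcard]; exact Subgroup.card_dvd_of_le inf_le_left
      rcases (Nat.dvd_prime hp.out).mp hdvd with h | h
      · exact Subgroup.card_eq_one.mp h
      · exfalso
        apply hxV
        have : zpowers x ⊓ V = zpowers x :=
          Subgroup.eq_of_le_of_card_ge inf_le_left (by rw [h, hcard])
        have hle : zpowers x ≤ V := by rw [← this]; exact inf_le_right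
        exact hle (mem_zpowers x)
    have h1 := Cfsg.Agent.Lib.Helper4.card_sup_mul_card_inf (zpowers x) V hnorm
    rw [hinf, Subgroup.card_bot, mul_one, Nat.card_zpowers, hord, sup_comm] at h1
    exact h1

/-- For odd `p`, a `p`-group without normal elementary abelian subgroups of order `p ^ 3` has
`p`-rank at most `2`. -/
theorem card_le_sq_of_no_normal_elemAb_cube {P : Type*} [Group P] [Finite P] {p : ℕ}
    [Fact p.Prime] (hp : p ≠ 2) (hP : IsPGroup p P)
    (h : ∀ A : Subgroup P, A.Normal → IsMulCommutative A → (∀ a ∈ A, a ^ p = 1) →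
      Nat.card A ≠ p ^ 3)
    (E : Subgroup P) (hE : IsMulCommutative E) (hEe : ∀ e ∈ E, e ^ p = 1) :
    Nat.card E ≤ p ^ 2 := by
  classical
  have hpp : p.Prime := Fact.out
  by_contra hcon
  rw [not_le] at hcon
  have hEp : IsPGroup p E := hP.to_subgroup E
  obtain ⟨k, hk⟩ := IsPGroup.iff_card.mp hEp
  have hk3 : 3 ≤ k := by
    by_contra hlt
    rw [not_le] at hlt
    have : p ^ k ≤ p ^ 2 := Nat.pow_le_pow_right hpp.pos (by omega)
    omega
  have hE3 : p ^ 3 ≤ Nat.card E := by rw [hk]; exact Nat.pow_le_pow_right hpp.pos hk3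
  have hEcomm : ∀ a ∈ E, ∀ b ∈ E, a * b = b * a := fun a ha b hb =>
    congrArg Subtype.val (mul_comm' (⟨a, ha⟩ : E) ⟨b, hb⟩)
  -- `P` is not cyclic
  have hnc : ¬ IsCyclic P := by
    intro hc
    have hEcyc : IsCyclic E := inferInstance
    have h1 : Monoid.exponent E ∣ p := Monoid.exponent_dvd_of_forall_pow_eq_one
      (fun e => Subtype.ext (by simpa using hEe e e.2))
    rw [IsCyclic.exponent_eq_card] at h1
    have h2 := Nat.le_of_dvd hpp.pos h1
    have h3 : p ≤ p ^ 2 := by nlinarith [hpp.two_le]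
    omega
  obtain ⟨V, hVn, hVc, hVe, hVcard⟩ :=
    Cfsg.Agent.Lib.Helper20.exists_normal_elemAb_of_not_isCyclic hp hP hnc
  have hVcomm : ∀ a ∈ V, ∀ b ∈ V, a * b = b * a := fun a ha b hb =>
    congrArg Subtype.val (mul_comm' (⟨a, ha⟩ : V) ⟨b, hb⟩)
  -- a maximal normal elementary abelian subgroup containing `V`
  obtain ⟨A, hVA, hAmax⟩ := (Set.toFinite {A : Subgroup P | A.Normal ∧ IsMulCommutative A ∧
    (∀ a ∈ A, a ^ p = 1)}).exists_le_maximal (show V ∈ {A : Subgroup P | A.Normal ∧
      IsMulCommutative A ∧ (∀ a ∈ A, a ^ p = 1)} from ⟨hVn, hVc, hVe⟩)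
  obtain ⟨⟨hAn, hAc, hAe⟩, hAmax'⟩ := hAmax
  have hAcomm : ∀ a ∈ A, ∀ b ∈ A, a * b = b * a := fun a ha b hb =>
    congrArg Subtype.val (mul_comm' (⟨a, ha⟩ : A) ⟨b, hb⟩)
  by_cases hAV : A ≤ V
  · -- `A = V`; by Alperin's theorem `Ω₁(C(V)) = V`
    have hAeq : A = V := le_antisymm hAV hVA
    subst hAeq
    have halp : ∀ x ∈ centralizer (A : Set P), x ^ p = 1 → x ∈ A := by
      intro x hx hxp
      refine alperin_omega_centralizer hP 1 (by rw [pow_one]; exact hp) A hAc
        (fun a ha => by rw [pow_one]; exact hAe a ha) ?_ x hx (by rw [pow_one]; exact hxp)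
      intro B hBn hBc hBe hAB
      exact le_antisymm (hAmax' ⟨hBn, hBc, fun b hb => by simpa using hBe b hb⟩ hAB) hAB
    set C := centralizer (A : Set P) with hC
    have hCn : C.Normal := by rw [hC]; infer_instance
    have hEC : E ⊓ C ≤ A := fun x hx => halp x hx.2 (hEe x hx.1)
    have hidx : Nat.card P ≤ Nat.card C * p := by
      have := card_le_card_centralizer_mul hP A hAc 2 A hAn le_rfl hVcard
      simpa using this
    have hprod := Cfsg.Agent.Lib.Helper4.card_sup_mul_card_inf E C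
      (by rw [Subgroup.normalizer_eq_top]; exact le_top)
    have hsup : Nat.card (E ⊔ C : Subgroup P) ≤ Nat.card P := Subgroup.card_le_card_group _
    have hCpos : 0 < Nat.card C := Nat.card_pos
    have hle : Nat.card E ≤ p * Nat.card (E ⊓ C : Subgroup P) := by
      have h1 : Nat.card E * Nat.card C ≤ (p * Nat.card (E ⊓ C : Subgroup P)) * Nat.card C := by
        calc Nat.card E * Nat.card C
            = Nat.card (E ⊔ C : Subgroup P) * Nat.card (E ⊓ C : Subgroup P) := hprod.symm
          _ ≤ Nat.card P * Nat.card (E ⊓ C : Subgroup P) := Nat.mul_le_mul_right _ hsup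
          _ ≤ (Nat.card C * p) * Nat.card (E ⊓ C : Subgroup P) := Nat.mul_le_mul_right _ hidx
          _ = (p * Nat.card (E ⊓ C : Subgroup P)) * Nat.card C := by ring
      exact Nat.le_of_mul_le_mul_right h1 hCpos
    have hinfle : Nat.card (E ⊓ C : Subgroup P) ≤ p ^ 2 := by
      rw [← hVcard]; exact Subgroup.card_le_of_le hEC
    have hinfge : p ^ 2 ≤ Nat.card (E ⊓ C : Subgroup P) := by
      have h1 : p * p ^ 2 ≤ p * Nat.card (E ⊓ C : Subgroup P) := by
        calc p * p ^ 2 = p ^ 3 := by ring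
          _ ≤ Nat.card E := hE3
          _ ≤ _ := hle
      exact Nat.le_of_mul_le_mul_left h1 hpp.pos
    have hinfeq : E ⊓ C = A := Subgroup.eq_of_le_of_card_ge hEC (by rw [hVcard]; exact hinfge)
    have hAE : A ≤ E := by rw [← hinfeq]; exact inf_le_left
    have hEleC : E ≤ C := by
      intro e he
      rw [hC, mem_centralizer_iff]
      intro a ha
      exact hEcomm a (hAE ha) e he
    have hEA : E ≤ A := by
      rw [← hinfeq]; exact le_inf le_rfl hEleC
    have := Subgroup.card_le_of_le hEA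
    omega
  · -- `V < A`: a normal elementary abelian subgroup of order `p ^ 3` inside `A`
    obtain ⟨t, htA, htV, htc⟩ := exists_central_mod_of_lt hP V A hAV
    have htcent : t ∈ centralizer (V : Set P) := by
      rw [mem_centralizer_iff]
      intro v hv
      exact hAcomm v (hVA hv) t htA
    have htp : t ^ p = 1 := hAe t htA
    obtain ⟨hn, hc, he⟩ := sup_zpowers_normal_abelian V hVc p hVe htcent htp htc
    obtain ⟨-, -, hcard⟩ := sup_zpowers_elemAb V hVcomm hVe htcent htp htV
    apply h (V ⊔ zpowers t) hn hc he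
    rw [hcard, hVcard]; ring

end Cfsg.Agent.Lib.Helper1
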