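import Mathlib
import Cfsg.Agent.Lib.Helper1.MaxNormalAbelian
import Cfsg.Agent.Lib.Helper1.NormalElemAbCube
import Cfsg.Agent.Lib.Helper1.Noncyclic
import Cfsg.Agent.Lib.Helper4.Basic
import Cfsg.Agent.Lib.Helper4.Klein1
import Cfsg.Agent.Lib.Helper12.Basic
import Cfsg.Agent.Lib.Helper1.MaxClassDihedral

/-!
# A 2-group of rank at least 3 has a normal four-subgroup (helper1)

* `card_le_mul_card_inf_centralizer`: for a normal abelian subgroup `U` of order `p ^ 2` of a
  `p`-group and any subgroup `Y`, `|Y| ≤ p * |C_Y(U)|`.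
* `exists_normal_four_of_elemAb_eight`: a finite `2`-group with an elementary abelian subgroup of
  order at least `8` has a normal elementary abelian subgroup of order `4`.
-/

set_option autoImplicit false
open scoped commutatorElement

namespace Cfsg.Agent.Lib.Helper1

open Subgroup

/-- `|Y| ≤ p * |C_Y(U)|` for a normal abelian subgroup `U` of order `p ^ 2` of a `p`-group. -/
theorem card_le_mul_card_inf_centralizer {P : Type*} [Group P] [Finite P] {p : ℕ} [Fact p.Prime]
    (hP : IsPGroup p P) (U : Subgroup P) [hUn : U.Normal] (hUc : IsMulCommutative U)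
    (hU : Nat.card U = p ^ 2) (Y : Subgroup P) :
    Nat.card Y ≤ p * Nat.card (Y ⊓ centralizer (U : Set P) : Subgroup P) := by
  set C := centralizer (U : Set P) with hC
  have hCn : C.Normal := by rw [hC]; infer_instance
  have hidx : Nat.card P ≤ Nat.card C * p := by
    have := card_le_card_centralizer_mul hP U hUc 2 U hUn le_rfl hU
    simpa using this
  have hprod := Cfsg.Agent.Lib.Helper4.card_sup_mul_card_inf Y C
    (by rw [Subgroup.normalizer_eq_top]; exact le_top)
  have hsup : Nat.card (Y ⊔ C : Subgroup P) ≤ Nat.card P := Subgroup.card_le_card_group _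
  have hCpos : 0 < Nat.card C := Nat.card_pos
  have h1 : Nat.card Y * Nat.card C ≤ (p * Nat.card (Y ⊓ C : Subgroup P)) * Nat.card C := by
    calc Nat.card Y * Nat.card C
        = Nat.card (Y ⊔ C : Subgroup P) * Nat.card (Y ⊓ C : Subgroup P) := hprod.symm
      _ ≤ Nat.card P * Nat.card (Y ⊓ C : Subgroup P) := Nat.mul_le_mul_right _ hsup
      _ ≤ (Nat.card C * p) * Nat.card (Y ⊓ C : Subgroup P) := Nat.mul_le_mul_right _ hidx
      _ = (p * Nat.card (Y ⊓ C : Subgroup P)) * Nat.card C := by ring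
  exact Nat.le_of_mul_le_mul_right h1 hCpos


/-- In a cyclic group `⟨a⟩` of order `d * m`, the solutions of `x ^ d = 1` lie in `⟨a ^ m⟩`. -/
theorem mem_zpowers_pow_of_pow_eq_one {P : Type*} [Group P] {a x : P} {d m : ℕ} (hd : 0 < d)
    (ha : orderOf a = d * m) (hx : x ∈ zpowers a) (hxd : x ^ d = 1) : x ∈ zpowers (a ^ m) := by
  obtain ⟨k, rfl⟩ := Subgroup.mem_zpowers_iff.mp hx
  have h1 : a ^ (k * (d : ℤ)) = 1 := by
    rw [zpow_mul, zpow_natCast]; exact hxd
  have h2 : ((orderOf a : ℕ) : ℤ) ∣ k * d := orderOf_dvd_iff_zpow_eq_one.mpr h1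
  rw [ha] at h2
  have h3 : (m : ℤ) ∣ k := by
    have h4 : ((d : ℤ) * (m : ℤ)) ∣ (d : ℤ) * k := by
      have : ((d * m : ℕ) : ℤ) = (d : ℤ) * (m : ℤ) := by push_cast; ring
      rw [this] at h2
      rwa [mul_comm k] at h2
    exact Int.dvd_of_mul_dvd_mul_left (by exact_mod_cast hd.ne') h4
  obtain ⟨j, rfl⟩ := h3
  rw [Subgroup.mem_zpowers_iff]
  exact ⟨j, by rw [zpow_mul, zpow_natCast]⟩

/-- powers of an involution -/
theorem eq_one_or_eq_of_mem_zpowers_of_sq {P : Type*} [Group P] {z x : P} (hz : z ^ 2 = 1)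
    (hx : x ∈ zpowers z) : x = 1 ∨ x = z := by
  obtain ⟨j, rfl⟩ := Subgroup.mem_zpowers_iff.mp hx
  rcases Int.even_or_odd j with ⟨t, rfl⟩ | ⟨t, rfl⟩
  · left
    rw [← two_mul, zpow_mul, zpow_ofNat, hz, one_zpow]
  · right
    rw [zpow_add, zpow_mul, zpow_ofNat, hz, one_zpow, one_mul, zpow_one]

/-- a group of exponent two is commutative (subgroup form) -/
theorem isMulCommutative_of_sq_eq_one {P : Type*} [Group P] (K : Subgroup P)
    (h : ∀ x ∈ K, x ^ 2 = 1) : IsMulCommutative K := by
  rw [isMulCommutative_iff]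
  rintro ⟨x, hx⟩ ⟨y, hy⟩
  apply Subtype.ext
  show x * y = y * x
  have h1 := h (x * y) (K.mul_mem hx hy)
  have hx2 := h x hx
  have hy2 := h y hy
  rw [pow_two] at h1 hx2 hy2
  have hxi : x⁻¹ = x := inv_eq_of_mul_eq_one_right hx2
  have hyi : y⁻¹ = y := inv_eq_of_mul_eq_one_right hy2
  calc x * y = (x * y)⁻¹ := (inv_eq_of_mul_eq_one_right h1).symm
    _ = y * x := by rw [mul_inv_rev, hxi, hyi]


/-- noncyclic case: a normal abelian noncyclic subgroup of a `2`-group contains a normal four-group -/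
theorem exists_normal_four_of_not_isCyclic {P : Type*} [Group P] [Finite P] (hP : IsPGroup 2 P)
    (A : Subgroup P) [hAn : A.Normal] (hAc : IsMulCommutative A) (hcyc : ¬ IsCyclic A) :
    ∃ U : Subgroup P, U.Normal ∧ IsMulCommutative U ∧ (∀ u ∈ U, u ^ 2 = 1) ∧
      Nat.card U = 2 ^ 2 := by
  classical
  have : Fact (Nat.Prime 2) := ⟨Nat.prime_two⟩
  have hAcomm : ∀ x ∈ A, ∀ y ∈ A, x * y = y * x := fun x hx y hy =>
    congrArg Subtype.val (mul_comm' (⟨x, hx⟩ : A) ⟨y, hy⟩)
  let _ : CommGroup A := { (inferInstance : Group A) with mul_comm := fun x y => mul_comm' x y }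
  obtain ⟨q, hq, a, b, haq, hbq, hb1, hab⟩ := exists_noncyclic_pair (α := A) hcyc
  have hq2 : q = 2 := by
    have : Fact q.Prime := ⟨hq⟩
    have hord : orderOf b = q := orderOf_eq_prime hbq hb1
    obtain ⟨k, hk⟩ := (hP.to_subgroup A) b
    have h1 : orderOf b ∣ 2 ^ k := orderOf_dvd_of_pow_eq_one hk
    rw [hord] at h1
    exact (Nat.prime_dvd_prime_iff_eq hq Nat.prime_two).mp (hq.dvd_of_dvd_pow h1)
  subst hq2
  -- the subgroup of elements of `A` of order dividing two
  let Ω : Subgroup P :=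
    { carrier := {x | x ∈ A ∧ x ^ 2 = 1}
      one_mem' := ⟨A.one_mem, one_pow 2⟩
      mul_mem' := fun {x y} hx hy => ⟨A.mul_mem hx.1 hy.1, by
        have hc : Commute x y := hAcomm x hx.1 y hy.1
        rw [hc.mul_pow, hx.2, hy.2, one_mul]⟩
      inv_mem' := fun {x} hx => ⟨A.inv_mem hx.1, by rw [inv_pow, hx.2, inv_one]⟩ }
  have hΩmem : ∀ x, x ∈ Ω ↔ x ∈ A ∧ x ^ 2 = 1 := fun x => Iff.rfl
  have hΩn : Ω.Normal := by
    constructor
    intro x hx g
    rw [hΩmem] at hx ⊢
    refine ⟨hAn.conj_mem x hx.1 g, ?_⟩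
    rw [conj_pow, hx.2]; simp
  have haΩ : (a : P) ∈ Ω := ⟨a.2, by have := congrArg Subtype.val haq; simpa using this⟩
  have hbΩ : (b : P) ∈ Ω := ⟨b.2, by have := congrArg Subtype.val hbq; simpa using this⟩
  have hΩne : Ω ≠ ⊥ := by
    intro h
    rw [h, Subgroup.mem_bot] at hbΩ
    exact hb1 (Subtype.ext hbΩ)
  obtain ⟨z, hzΩ, hz1, hzc⟩ := Cfsg.Agent.Lib.Helper12.exists_ne_one_mem_center_of_normal hP Ω hΩne
  have hz2 : z ^ 2 = 1 := hzΩ.2
  have hzcomm : ∀ g : P, g * z = z * g := fun g => Subgroup.mem_center_iff.mp hzc g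
  have hVn : (zpowers z).Normal := by
    constructor
    intro x hx g
    obtain ⟨k, rfl⟩ := Subgroup.mem_zpowers_iff.mp hx
    have : g * z ^ k * g⁻¹ = z ^ k := by
      have hc : Commute g (z ^ k) := (show Commute g z from hzcomm g).zpow_right k
      rw [hc.eq, mul_inv_cancel_right]
    rw [this]; exact Subgroup.zpow_mem _ (Subgroup.mem_zpowers z) k
  have hVc : IsMulCommutative (zpowers z) := inferInstance
  have hVe : ∀ v ∈ zpowers z, v ^ 2 = 1 := by
    intro v hv
    rcases eq_one_or_eq_of_mem_zpowers_of_sq hz2 hv with rfl | rfl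
    · exact one_pow 2
    · exact hz2
  have hVcomm : ∀ x ∈ zpowers z, ∀ y ∈ zpowers z, x * y = y * x := fun x hx y hy =>
    congrArg Subtype.val (mul_comm' (⟨x, hx⟩ : zpowers z) ⟨y, hy⟩)
  have hΩV : ¬ Ω ≤ zpowers z := by
    intro hle
    have ha1 : (a : P) ≠ 1 := by
      intro h
      have := hab 0
      apply this
      rw [pow_zero, mul_one]
      exact Subtype.ext h
    have hb1' : (b : P) ≠ 1 := fun h => hb1 (Subtype.ext h)
    have haz : (a : P) = z := by
      rcases eq_one_or_eq_of_mem_zpowers_of_sq hz2 (hle haΩ) with h | h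
      · exact absurd h ha1
      · exact h
    have hbz : (b : P) = z := by
      rcases eq_one_or_eq_of_mem_zpowers_of_sq hz2 (hle hbΩ) with h | h
      · exact absurd h hb1'
      · exact h
    apply hab 1
    apply Subtype.ext
    rw [pow_one]
    show (a : P) * (b : P) = 1
    rw [haz, hbz, ← pow_two, hz2]
  obtain ⟨t, htΩ, htV, htc⟩ := exists_central_mod_of_lt hP (zpowers z) Ω hΩV
  have htcent : t ∈ centralizer ((zpowers z : Subgroup P) : Set P) := by
    rw [Subgroup.mem_centralizer_iff]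
    intro v hv
    obtain ⟨k, rfl⟩ := Subgroup.mem_zpowers_iff.mp hv
    exact ((show Commute t z from hzcomm t).zpow_right k).eq.symm
  have htp : t ^ 2 = 1 := htΩ.2
  obtain ⟨hn, hc, he⟩ := sup_zpowers_normal_abelian (zpowers z) hVc 2 hVe htcent htp htc
  obtain ⟨-, -, hcard⟩ := sup_zpowers_elemAb (zpowers z) hVcomm hVe htcent htp htV
  refine ⟨zpowers z ⊔ zpowers t, hn, hc, he, ?_⟩
  rw [hcard, Nat.card_zpowers, orderOf_eq_prime hz2 hz1]
  norm_num


/-- cyclic case: a `2`-group with a self-centralizing cyclic normal subgroup and an elementary abelian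
subgroup of order at least `8` has a normal four-group -/
theorem exists_normal_four_of_cyclic_self_centralizing {P : Type*} [Group P] [Finite P]
    (hP : IsPGroup 2 P) (A : Subgroup P) [hAn : A.Normal] (hcyc : IsCyclic A)
    (hCA : centralizer (A : Set P) = A) (E : Subgroup P) (hEe : ∀ e ∈ E, e ^ 2 = 1)
    (hE8 : 8 ≤ Nat.card E) :
    ∃ U : Subgroup P, U.Normal ∧ IsMulCommutative U ∧ (∀ u ∈ U, u ^ 2 = 1) ∧
      Nat.card U = 2 ^ 2 := by
  classical
  have : Fact (Nat.Prime 2) := ⟨Nat.prime_two⟩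
  obtain ⟨a, haA, hAa⟩ := exists_zpowers_eq_of_isCyclic A
  have hAcard : Nat.card A = orderOf a := by rw [hAa, Nat.card_zpowers]
  obtain ⟨k, hk⟩ := IsPGroup.iff_card.mp (hP.to_subgroup A)
  -- `|A| ≥ 4`
  have hk2 : 2 ≤ k := by
    by_contra hlt
    rw [not_le] at hlt
    have hA2 : Nat.card A ≤ 2 := by
      rw [hk]
      calc 2 ^ k ≤ 2 ^ 1 := Nat.pow_le_pow_right (by norm_num) (by omega)
        _ = 2 := by norm_num
    have hAcen : A ≤ center P := by
      by_cases hbot : A = ⊥
      · rw [hbot]; exact bot_le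
      · obtain ⟨x, hxA, hx1, hxc⟩ :=
          Cfsg.Agent.Lib.Helper12.exists_ne_one_mem_center_of_normal hP A hbot
        have hle : zpowers x ≤ A := zpowers_le.mpr hxA
        have hcard : Nat.card A ≤ Nat.card (zpowers x) := by
          rw [Nat.card_zpowers]
          have h2 : 2 ≤ orderOf x := by
            have h0 : 0 < orderOf x := orderOf_pos x
            have h1' : orderOf x ≠ 1 := fun h => hx1 (orderOf_eq_one_iff.mp h)
            omega
          omega
        have heq : zpowers x = A := Subgroup.eq_of_le_of_card_ge hle hcard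
        rw [← heq]
        exact zpowers_le.mpr hxc
    have htop : centralizer (A : Set P) = ⊤ := by
      rw [eq_top_iff]
      intro g _
      rw [Subgroup.mem_centralizer_iff]
      intro x hx
      exact (Subgroup.mem_center_iff.mp (hAcen hx) g).symm
    rw [hCA] at htop
    have hEA : Nat.card E ≤ Nat.card A := by
      rw [htop]
      exact (Subgroup.card_le_card_group E).trans (le_of_eq Subgroup.card_top.symm)
    omega
  obtain ⟨m, hm⟩ : ∃ m, orderOf a = 4 * m ∧ 0 < m := by
    refine ⟨2 ^ (k - 2), ?_, by positivity⟩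
    rw [← hAcard, hk]
    have : k = 2 + (k - 2) := by omega
    conv_lhs => rw [this, pow_add]
    norm_num
  obtain ⟨hm4, hmpos⟩ := hm
  -- the element `u` of order four and the involution `z`
  obtain ⟨u, hu⟩ : ∃ u, u = a ^ m := ⟨_, rfl⟩
  have huA : u ∈ A := by rw [hu]; exact A.pow_mem haA m
  have hu4 : orderOf u = 4 := by
    rw [hu, orderOf_pow_of_dvd hmpos.ne' (by rw [hm4]; exact dvd_mul_left m 4), hm4,
      Nat.mul_div_cancel _ hmpos]
  have hu4' : u ^ 4 = 1 := by rw [← hu4]; exact pow_orderOf_eq_one u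
  obtain ⟨z, hz⟩ : ∃ z, z = u ^ 2 := ⟨_, rfl⟩
  have hzA : z ∈ A := by rw [hz]; exact A.pow_mem huA 2
  have hz2 : z ^ 2 = 1 := by rw [hz, ← pow_mul]; exact hu4'
  have hz1 : z ≠ 1 := by
    intro h
    rw [hz] at h
    have := orderOf_dvd_of_pow_eq_one h
    rw [hu4] at this
    omega
  have hzam : z = a ^ (2 * m) := by rw [hz, hu, ← pow_mul, mul_comm]
  -- solutions of `x ^ 4 = 1` and `x ^ 2 = 1` in `A`
  have F1 : ∀ x ∈ A, x ^ 4 = 1 → x ∈ zpowers u := by
    intro x hx hx4
    rw [hu]
    exact mem_zpowers_pow_of_pow_eq_one (by norm_num) hm4 (hAa ▸ hx) hx4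
  have F2 : ∀ x ∈ A, x ^ 2 = 1 → x = 1 ∨ x = z := by
    intro x hx hx2
    have h1 : x ∈ zpowers (a ^ (2 * m)) :=
      mem_zpowers_pow_of_pow_eq_one (d := 2) (by norm_num) (by rw [hm4]; ring) (hAa ▸ hx) hx2
    rw [← hzam] at h1
    exact eq_one_or_eq_of_mem_zpowers_of_sq hz2 h1
  -- `z` is central
  have hzcomm : ∀ g : P, g * z = z * g := by
    intro g
    have h1 : g * z * g⁻¹ ∈ A := hAn.conj_mem z hzA g
    have h2 : (g * z * g⁻¹) ^ 2 = 1 := by rw [conj_pow, hz2]; simp
    rcases F2 _ h1 h2 with h | h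
    · exfalso
      apply hz1
      have : z = g⁻¹ * (g * z * g⁻¹) * g := by group
      rw [this, h]; group
    · calc g * z = (g * z * g⁻¹) * g := by group
        _ = z * g := by rw [h]
  -- `⟨u⟩` is normal of order four
  have hUn : (zpowers u).Normal := by
    constructor
    intro x hx g
    have hxA : x ∈ A := (zpowers_le.mpr huA) hx
    have hx4 : x ^ 4 = 1 := by
      obtain ⟨j, rfl⟩ := Subgroup.mem_zpowers_iff.mp hx
      rw [← zpow_natCast, ← zpow_mul, mul_comm, zpow_mul, zpow_natCast, hu4', one_zpow]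
    apply F1 _ (hAn.conj_mem x hxA g)
    rw [conj_pow, hx4]; simp
  have hUcard : Nat.card (zpowers u) = 2 ^ 2 := by rw [Nat.card_zpowers, hu4]; norm_num
  have hle := card_le_mul_card_inf_centralizer hP (zpowers u) inferInstance hUcard E
  -- an involution `e ∉ A` centralizing `u`
  obtain ⟨e, heE, heC, heA⟩ : ∃ e ∈ E, e ∈ centralizer ((zpowers u : Subgroup P) : Set P) ∧
      e ∉ A := by
    by_contra hcon
    push Not at hcon
    have h1 : E ⊓ centralizer ((zpowers u : Subgroup P) : Set P) ≤ zpowers z := by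
      intro x hx
      have hxA := hcon x hx.1 hx.2
      rcases F2 x hxA (hEe x hx.1) with rfl | rfl
      · exact Subgroup.one_mem _
      · exact Subgroup.mem_zpowers _
    have h2 := Subgroup.card_le_of_le h1
    rw [Nat.card_zpowers, orderOf_eq_prime hz2 hz1] at h2
    omega
  have he2 : e ^ 2 = 1 := hEe e heE
  have hee : e * e = 1 := by rw [← pow_two]; exact he2
  have hei : e⁻¹ = e := inv_eq_of_mul_eq_one_right hee
  have heu : e * u = u * e :=
    ((Subgroup.mem_centralizer_iff.mp heC) u (Subgroup.mem_zpowers u)).symm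
  have hecomm : ∀ c ∈ zpowers u, e * c = c * e := by
    intro c hc
    obtain ⟨j, rfl⟩ := Subgroup.mem_zpowers_iff.mp hc
    exact ((show Commute e u from heu).zpow_right j).eq
  -- `e` acts on `A` by multiplication with elements of `⟨z⟩`
  have hact : ∀ e' : P, e' * e' = 1 → e' * u = u * e' → ∀ x ∈ A,
      e' * x * e'⁻¹ * x⁻¹ = 1 ∨ e' * x * e'⁻¹ * x⁻¹ = z := by
    intro e' hee' heu' x hx
    have hei' : e'⁻¹ = e' := inv_eq_of_mul_eq_one_right hee'
    obtain ⟨y, hy⟩ : ∃ y, y = e' * x * e'⁻¹ * x⁻¹ := ⟨_, rfl⟩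
    rw [← hy]
    have hyA : y ∈ A := by
      rw [hy]; exact A.mul_mem (hAn.conj_mem x hx e') (A.inv_mem hx)
    have hinv : e' * y * e'⁻¹ = y⁻¹ := by
      rw [hy, hei']
      have h1 : e' * (e' * x * e' * x⁻¹) * e' = (e' * e') * x * (e' * x⁻¹ * e') := by group
      rw [h1, hee', one_mul, mul_inv_rev, mul_inv_rev, mul_inv_rev, inv_inv, hei']
      group
    apply F2 y hyA
    by_contra hne
    -- then `u ∈ ⟨y⟩` and `e'` inverts `u`
    obtain ⟨K, hK⟩ := IsPGroup.iff_card.mp hP
    have hoy : orderOf y ∣ 2 ^ K := by rw [← hK]; exact orderOf_dvd_natCard y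
    obtain ⟨j, -, hj⟩ := (Nat.dvd_prime_pow Nat.prime_two).mp hoy
    have hj2 : 2 ≤ j := by
      by_contra hlt
      rw [not_le] at hlt
      apply hne
      apply orderOf_dvd_iff_pow_eq_one.mp
      rw [hj]
      calc 2 ^ j ∣ 2 ^ 1 := pow_dvd_pow 2 (by omega)
        _ = 2 := by norm_num
    obtain ⟨w, hw⟩ : ∃ w, w = y ^ (2 ^ (j - 2)) := ⟨_, rfl⟩
    have hw4 : orderOf w = 4 := by
      rw [hw, orderOf_pow_of_dvd (by positivity) (by rw [hj]; exact pow_dvd_pow 2 (by omega)), hj,
        Nat.pow_div (by omega) (by norm_num)]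
      have : j - (j - 2) = 2 := by omega
      rw [this]
    have hwA : w ∈ A := by rw [hw]; exact A.pow_mem hyA _
    have hwu : w ∈ zpowers u := F1 w hwA (by rw [← hw4]; exact pow_orderOf_eq_one w)
    have heq : zpowers w = zpowers u := by
      apply Subgroup.eq_of_le_of_card_ge (zpowers_le.mpr hwu)
      rw [Nat.card_zpowers, Nat.card_zpowers, hw4, hu4]
    have huy : u ∈ zpowers y := by
      have h1 : u ∈ zpowers w := by rw [heq]; exact Subgroup.mem_zpowers u
      exact (zpowers_le.mpr (by rw [hw]; exact Subgroup.pow_mem _ (Subgroup.mem_zpowers y) _)) h1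
    obtain ⟨i, hi⟩ := Subgroup.mem_zpowers_iff.mp huy
    have h3 : e' * u * e'⁻¹ = u⁻¹ := by
      rw [← hi, ← conj_zpow, hinv, inv_zpow]
    have h4 : e' * u * e'⁻¹ = u := by rw [heu', mul_inv_cancel_right]
    rw [h4] at h3
    have h5 : u ^ 2 = 1 := by
      rw [pow_two]
      nth_rewrite 1 [h3]
      exact inv_mul_cancel u
    have := orderOf_dvd_of_pow_eq_one h5
    rw [hu4] at this
    omega
  -- elements outside `A` move `a`
  have hmove : ∀ e' : P, e' ∉ A → e' * a * e'⁻¹ * a⁻¹ ≠ 1 := by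
    intro e' he'A h
    apply he'A
    rw [← hCA, hAa, Subgroup.mem_centralizer_iff]
    intro c hc
    obtain ⟨j, rfl⟩ := Subgroup.mem_zpowers_iff.mp hc
    have h1 : e' * a = a * e' := by
      calc e' * a = (e' * a * e'⁻¹ * a⁻¹) * a * e' := by group
        _ = a * e' := by rw [h, one_mul]
    exact ((show Commute e' a from h1).zpow_right j).eq.symm
  -- the key uniqueness claim
  have hkey : ∀ e' : P, e' * e' = 1 → e' ∉ A →
      (∀ x ∈ A, e' * x * e'⁻¹ * x⁻¹ = 1 ∨ e' * x * e'⁻¹ * x⁻¹ = z) → e' = e ∨ e' = z * e := by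
    intro e' hee' he'A hact'
    have hei' : e'⁻¹ = e' := inv_eq_of_mul_eq_one_right hee'
    have h1 : e' * a * e'⁻¹ * a⁻¹ = z := by
      rcases hact' a haA with h | h
      · exact absurd h (hmove e' he'A)
      · exact h
    have h2 : e * a * e⁻¹ * a⁻¹ = z := by
      rcases hact e hee heu a haA with h | h
      · exact absurd h (hmove e heA)
      · exact h
    have h1' : e' * a * e' = z * a := by
      calc e' * a * e' = e' * a * e'⁻¹ := by rw [hei']
        _ = (e' * a * e'⁻¹ * a⁻¹) * a := by group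
        _ = z * a := by rw [h1]
    have h2' : e * a * e = z * a := by
      calc e * a * e = e * a * e⁻¹ := by rw [hei]
        _ = (e * a * e⁻¹ * a⁻¹) * a := by group
        _ = z * a := by rw [h2]
    obtain ⟨c, hc⟩ : ∃ c, c = e * e' := ⟨_, rfl⟩
    have hca : c * a = a * c := by
      have hzz : z * z = 1 := by rw [← pow_two]; exact hz2
      calc c * a = e * (e' * a * e') * e' := by rw [hc]; simp only [mul_assoc, hee', mul_one]
        _ = e * (z * a) * e' := by rw [h1']
        _ = z * (e * a * e) * (e * e') := by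
            have h3 : e * (z * a) = z * (e * a) := by rw [← mul_assoc, hzcomm e, mul_assoc]
            have h4 : e * a * e * (e * e') = e * a * e' := by
              rw [mul_assoc (e * a) e (e * e'), ← mul_assoc e e e', hee, one_mul]
            rw [h3, mul_assoc z (e * a * e), h4, mul_assoc z (e * a) e']
        _ = z * (z * a) * c := by rw [h2', hc]
        _ = a * c := by rw [← mul_assoc z z a, hzz, one_mul]
    have hcA : c ∈ A := by
      rw [← hCA, hAa, Subgroup.mem_centralizer_iff]
      intro x hx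
      obtain ⟨j, rfl⟩ := Subgroup.mem_zpowers_iff.mp hx
      exact ((show Commute c a from hca).zpow_right j).eq.symm
    have he'c : e' = e * c := by rw [hc, ← mul_assoc, hee, one_mul]
    -- `c ^ 2 ∈ ⟨z⟩`
    obtain ⟨y, hy⟩ : ∃ y, y = e * c * e⁻¹ * c⁻¹ := ⟨_, rfl⟩
    have hyz : y = 1 ∨ y = z := by rw [hy]; exact hact e hee heu c hcA
    have hece : e * c * e = y * c := by
      rw [hy, hei]; group
    have hyc2 : y * (c * c) = 1 := by
      calc y * (c * c) = (y * c) * c := by rw [mul_assoc]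
        _ = e * c * e * c := by rw [hece]
        _ = e' * e' := by rw [he'c]; group
        _ = 1 := hee'
    have hy2 : y * y = 1 := by
      rcases hyz with h | h
      · rw [h, one_mul]
      · rw [h, ← pow_two]; exact hz2
    have hc4 : c ^ 4 = 1 := by
      have hcc : c * c = y := by
        calc c * c = (y * y) * (c * c) := by rw [hy2, one_mul]
          _ = y * (y * (c * c)) := by rw [mul_assoc]
          _ = y := by rw [hyc2, mul_one]
      calc c ^ 4 = (c * c) * (c * c) := by
            rw [show (4 : ℕ) = 2 + 2 from rfl, pow_add, pow_two]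
        _ = 1 := by rw [hcc, hy2]
    have hcu : c ∈ zpowers u := F1 c hcA hc4
    have hy1 : y = 1 := by
      rw [hy, hecomm c hcu]; group
    have hc2 : c ^ 2 = 1 := by
      rw [pow_two]
      rw [hy1, one_mul] at hyc2
      exact hyc2
    rcases F2 c hcA hc2 with h | h
    · left; rw [he'c, h, mul_one]
    · right; rw [he'c, h, hzcomm e]
  -- the four-group
  have hzz : z * z = 1 := by rw [← pow_two]; exact hz2
  have hze : z * e = e * z := (hzcomm e).symm
  have he1 : e ≠ 1 := fun h => heA (h ▸ A.one_mem)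
  have hzne : z ≠ e := fun h => heA (h ▸ hzA)
  refine ⟨Cfsg.Agent.Lib.Helper4.kleinOf z e hzz hee hze, ?_, ?_, ?_, ?_⟩
  · constructor
    intro x hx g
    have hconj : g * e * g⁻¹ = e ∨ g * e * g⁻¹ = z * e := by
      apply hkey
      · calc g * e * g⁻¹ * (g * e * g⁻¹) = g * (e * e) * g⁻¹ := by group
          _ = 1 := by rw [hee]; group
      · intro h
        apply heA
        have := hAn.conj_mem _ h g⁻¹
        have h' : g⁻¹ * (g * e * g⁻¹) * g⁻¹⁻¹ = e := by group
        rwa [h'] at this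
      · intro x hx
        have hx' : g⁻¹ * x * g ∈ A := by
          have := hAn.conj_mem x hx g⁻¹
          rwa [inv_inv] at this
        have h1 : g * e * g⁻¹ * x * (g * e * g⁻¹)⁻¹ * x⁻¹ =
            g * (e * (g⁻¹ * x * g) * e⁻¹ * (g⁻¹ * x * g)⁻¹) * g⁻¹ := by group
        rw [h1]
        rcases hact e hee heu _ hx' with h | h
        · left; rw [h]; group
        · right; rw [h, hzcomm g, mul_inv_cancel_right]
    rw [Cfsg.Agent.Lib.Helper4.mem_kleinOf] at hx ⊢
    rcases hx with rfl | rfl | rfl | rfl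
    · left; group
    · right; left; rw [hzcomm g, mul_inv_cancel_right]
    · rcases hconj with h | h
      · right; right; left; exact h
      · right; right; right; exact h
    · have h1 : g * (z * e) * g⁻¹ = z * (g * e * g⁻¹) := by
        rw [← mul_assoc, hzcomm g]; group
      rw [h1]
      rcases hconj with h | h
      · right; right; right; rw [h]
      · right; right; left; rw [h, ← mul_assoc, hzz, one_mul]
  · apply isMulCommutative_of_sq_eq_one
    intro x hx
    rw [Cfsg.Agent.Lib.Helper4.mem_kleinOf] at hx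
    rcases hx with rfl | rfl | rfl | rfl
    · exact one_pow 2
    · exact hz2
    · exact he2
    · rw [pow_two]
      calc z * e * (z * e) = (z * z) * (e * e) := by
            rw [mul_assoc, ← mul_assoc e z e, ← hze]; group
        _ = 1 := by rw [hzz, hee, one_mul]
  · intro x hx
    rw [Cfsg.Agent.Lib.Helper4.mem_kleinOf] at hx
    rcases hx with rfl | rfl | rfl | rfl
    · exact one_pow 2
    · exact hz2
    · exact he2
    · rw [pow_two]
      calc z * e * (z * e) = (z * z) * (e * e) := by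
            rw [mul_assoc, ← mul_assoc e z e, ← hze]; group
        _ = 1 := by rw [hzz, hee, one_mul]
  · rw [Cfsg.Agent.Lib.Helper4.card_kleinOf hzz hee hze hz1 he1 hzne]
    norm_num


/-- A finite `2`-group with an elementary abelian subgroup of order at least `8` has a normal
elementary abelian subgroup of order `4`. -/
theorem exists_normal_four_of_elemAb_eight {P : Type*} [Group P] [Finite P] (hP : IsPGroup 2 P)
    (E : Subgroup P) (hEe : ∀ e ∈ E, e ^ 2 = 1) (hE8 : 8 ≤ Nat.card E) :
    ∃ U : Subgroup P, U.Normal ∧ IsMulCommutative U ∧ (∀ u ∈ U, u ^ 2 = 1) ∧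
      Nat.card U = 2 ^ 2 := by
  classical
  have : Fact (Nat.Prime 2) := ⟨Nat.prime_two⟩
  obtain ⟨A, -, hAmax⟩ := (Set.toFinite {A : Subgroup P | A.Normal ∧ IsMulCommutative A}).exists_le_maximal
    (show (⊥ : Subgroup P) ∈ {A : Subgroup P | A.Normal ∧ IsMulCommutative A} from
      ⟨inferInstance, inferInstance⟩)
  obtain ⟨⟨hAn, hAc⟩, hAmax'⟩ := hAmax
  by_cases hcyc : IsCyclic A
  · have hCA : centralizer (A : Set P) = A :=
      centralizer_eq_of_max_normal_abelian hP A hAc
        (fun B hBn hBc hAB => le_antisymm (hAmax' ⟨hBn, hBc⟩ hAB) hAB)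
    exact exists_normal_four_of_cyclic_self_centralizing hP A hcyc hCA E hEe hE8
  · exact exists_normal_four_of_not_isCyclic hP A hAc hcyc

end Cfsg.Agent.Lib.Helper1
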