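import Mathlib
import Cfsg.Prelude.Def_GeometricClasses
import Cfsg.Agent.Lib.Lead.OEQF
import Cfsg.Agent.Lib.Helper4.AschA4

/-!
OMEGA-EVEN, OE-ROWS3 (planner lead): leaf R10 `sub_of_frame` (helper1); generic-`ι` twins of helper17's O-K1 packet.
-/

set_option autoImplicit false
set_option linter.unusedSectionVars false
set_option linter.unusedVariables false

namespace Cfsg.Agent.Lib.Helper1.OELeaf

open Cfsg Cfsg.Geo Matrix Module QuadraticMap Cfsg.Agent.Lib.Lead.OE
open scoped Kronecker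

section generic
variable {ι : Type} [Fintype ι] [DecidableEq ι] {F : Type*} [Field F] [Fintype F]
  (Q : QuadraticForm F (ι → F))

lemma polar_self_mul (x : ι → F) : polar ⇑Q x x = 2 * Q x := by
  rw [QuadraticMap.polar_self, two_smul, two_mul]

/-- an orthogonal frame of pairwise isometric non-degenerate lines has spanning vectors of one and the same norm `a ≠ 0`;
the characteristic is odd -/
theorem frame_vectors1 {t : ℕ} {D : Fin t → Submodule F (ι → F)} (hD : IsOrthogonalMDecomposition ⇑Q 1 D) :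
    ∃ (v : Fin t → (ι → F)) (a : F), a ≠ 0 ∧ (2 : F) ≠ 0 ∧ (∀ i, D i = Submodule.span F {v i}) ∧
      (∀ i, Q (v i) = a) ∧ (∀ i j, i ≠ j → polar ⇑Q (v i) (v j) = 0) := by
  have ht : 2 ≤ t := hD.decomp.decomp.two_le
  obtain ⟨i₀, hi₀⟩ : ∃ i₀ : Fin t, i₀ = ⟨0, by omega⟩ := ⟨_, rfl⟩
  have hfr := hD.decomp.decomp.finrank_eq i₀
  obtain ⟨w₀, hw₀, hspan⟩ := finrank_eq_one_iff'.mp hfr
  choose e he using fun i => hD.isometric i₀ i
  have hw₀' : (w₀ : ι → F) ≠ 0 := fun h => hw₀ (Subtype.ext h)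
  have hne : (2 : F) * Q (w₀ : ι → F) ≠ 0 := by
    intro h0
    obtain ⟨⟨x, hx, hxw⟩, -⟩ := hD.decomp.nondegenerate i₀ (w₀ : ι → F) w₀.2 hw₀'
    apply hxw
    obtain ⟨c, hc⟩ := hspan ⟨x, hx⟩
    have hx' : x = c • (w₀ : ι → F) := by
      have := congrArg (fun z : D i₀ => (z : ι → F)) hc
      simpa using this.symm
    rw [hx', polar_smul_left, polar_self_mul, h0, smul_zero]
  refine ⟨fun i => ((e i w₀ : D i) : ι → F), Q (w₀ : ι → F), right_ne_zero_of_mul hne, left_ne_zero_of_mul hne,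
    ?_, ?_, ?_⟩
  · intro i
    apply le_antisymm
    · intro w hw
      obtain ⟨c, hc⟩ := hspan ((e i).symm ⟨w, hw⟩)
      have h1 : (⟨w, hw⟩ : D i) = c • e i w₀ := by
        rw [← map_smul, hc, LinearEquiv.apply_symm_apply]
      have h3 : w = c • ((e i w₀ : D i) : ι → F) := by
        have := congrArg (fun z : D i => (z : ι → F)) h1
        simpa using this
      rw [h3]
      exact Submodule.smul_mem _ _ (Submodule.mem_span_singleton_self _)
    · rw [Submodule.span_singleton_le_iff_mem]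
      exact (e i w₀).2
  · intro i
    exact he i w₀
  · intro i j hij
    exact hD.decomp.orthogonal i j hij _ (e i w₀).2 _ (e j w₀).2

/-- an isometry permuting the lines `F v i` (all `v i` of the same non-zero norm) maps each `v i` to `± v (σ i)` -/
theorem frame_action1 {t : ℕ} {D : Fin t → Submodule F (ι → F)} (v : Fin t → (ι → F)) (a : F)
    (ha : a ≠ 0) (hv : ∀ i, D i = Submodule.span F {v i}) (hva : ∀ i, Q (v i) = a)
    (g : GL ι F) (hgD : g ∈ decompositionStabilizer D) (hgI : g ∈ isometryGroup F ⇑Q) :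
    ∃ (σ : Equiv.Perm (Fin t)) (ε : Fin t → F), (∀ i, ε i = 1 ∨ ε i = -1) ∧
      ∀ i, (g : Matrix ι ι F) *ᵥ v i = ε i • v (σ i) := by
  obtain ⟨σ, hσ⟩ := hgD
  have key : ∀ i, ∃ c : F, (c = 1 ∨ c = -1) ∧ (g : Matrix ι ι F) *ᵥ v i = c • v (σ i) := by
    intro i
    have h1 : (g : Matrix ι ι F) *ᵥ v i ∈ D (σ i) := by
      rw [← hσ i]
      refine ⟨v i, ?_, by rw [Matrix.toLin'_apply]⟩
      rw [hv i]
      exact Submodule.mem_span_singleton_self _
    rw [hv (σ i), Submodule.mem_span_singleton] at h1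
    obtain ⟨c, hc⟩ := h1
    refine ⟨c, ?_, hc.symm⟩
    have h3 : Q ((g : Matrix ι ι F) *ᵥ v i) = Q (v i) := hgI (v i) (v i)
    rw [← hc, QuadraticMap.map_smul, hva, hva, smul_eq_mul] at h3
    have h4 : (c - 1) * (c + 1) = 0 := by
      have : (c * c - 1) * a = 0 := by linear_combination h3
      rcases mul_eq_zero.mp this with h5 | h5
      · linear_combination h5
      · exact absurd h5 ha
    rcases mul_eq_zero.mp h4 with h5 | h5
    · left; linear_combination h5
    · right; linear_combination h5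
  choose ε hε1 hε2 using key
  exact ⟨σ, ε, hε1, hε2⟩

/-- the spanning vectors of a decomposition into lines are the columns of an invertible matrix -/
theorem frame_matrix1 {t : ℕ} (D : Fin t → Submodule F (ι → F)) (hD : IsMDecomposition 1 D)
    (v : Fin t → (ι → F)) (hv : ∀ i, D i = Submodule.span F {v i}) :
    ∃ (e : Fin t ≃ ι) (P : GL ι F), ∀ i, (P : Matrix ι ι F) *ᵥ Pi.single (e i) 1 = v i := by
  have hne : ∀ i, v i ≠ 0 := by
    intro i h0
    have h1 := hD.finrank_eq i
    rw [hv i, h0, Submodule.span_zero_singleton, finrank_bot] at h1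
    exact absurd h1 (by norm_num)
  have hmem : ∀ i, v i ∈ D i := by
    intro i
    rw [hv i]
    exact Submodule.mem_span_singleton_self _
  have hli : LinearIndependent F v := hD.indep.linearIndependent D hmem hne
  have hsp : ⊤ ≤ Submodule.span F (Set.range v) := by
    rw [Submodule.span_range_eq_iSup, ← hD.iSup_eq_top]
    apply le_of_eq
    congr 1
    funext i
    exact hv i
  obtain ⟨b, hb⟩ : ∃ b : Module.Basis (Fin t) F (ι → F), ⇑b = v :=
    ⟨Module.Basis.mk hli hsp, Module.Basis.coe_mk hli hsp⟩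
  have htn : Fintype.card (Fin t) = Fintype.card ι := by
    have h1 := Module.finrank_eq_card_basis b
    rw [Module.finrank_fintype_fun_eq_card] at h1
    exact h1.symm
  obtain ⟨e⟩ : Nonempty (Fin t ≃ ι) := Fintype.card_eq.mp htn
  obtain ⟨b', hb'⟩ : ∃ b' : Module.Basis ι F (ι → F), b' = b.reindex e := ⟨_, rfl⟩
  refine ⟨e, ⟨(Pi.basisFun F ι).toMatrix b', b'.toMatrix (Pi.basisFun F ι),
    Module.Basis.toMatrix_mul_toMatrix_flip _ _, Module.Basis.toMatrix_mul_toMatrix_flip _ _⟩, ?_⟩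
  intro i
  funext k
  show (((Pi.basisFun F ι).toMatrix b') *ᵥ Pi.single (e i) 1) k = v i k
  rw [Matrix.mulVec_single_one]
  show ((Pi.basisFun F ι).toMatrix b') k (e i) = v i k
  rw [Module.Basis.toMatrix_apply, Pi.basisFun_repr, hb', Module.Basis.reindex_apply, Equiv.symm_apply_apply, hb]

/-- in an orthogonal basis of vectors of norm `a` the form is `a` times the sum of squares -/
theorem frame_quad1 (h2 : (2 : F) ≠ 0) {t : ℕ} (v : Fin t → (ι → F)) (a : F)
    (hva : ∀ i, Q (v i) = a) (hvo : ∀ i j, i ≠ j → polar ⇑Q (v i) (v j) = 0)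
    (e : Fin t ≃ ι) (P : GL ι F) (hP : ∀ i, (P : Matrix ι ι F) *ᵥ Pi.single (e i) 1 = v i) (u : ι → F) :
    Q ((P : Matrix ι ι F) *ᵥ u) = a * ∑ j, u j ^ 2 := by
  have hw : ∀ j, (P : Matrix ι ι F) *ᵥ Pi.single j 1 = v (e.symm j) := by
    intro j
    rw [← hP (e.symm j), Equiv.apply_symm_apply]
  have hsum : (P : Matrix ι ι F) *ᵥ u = ∑ j, u j • v (e.symm j) := by
    funext i
    rw [Finset.sum_apply]
    unfold Matrix.mulVec dotProduct
    apply Finset.sum_congr rfl
    intro j _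
    rw [Pi.smul_apply, smul_eq_mul, ← hw j, Matrix.mulVec_single_one, mul_comm]
    rfl
  have hpol : polar ⇑Q ((P : Matrix ι ι F) *ᵥ u) ((P : Matrix ι ι F) *ᵥ u) = 2 * (a * ∑ j, u j ^ 2) := by
    rw [← polarBilin_apply_apply, hsum, LinearMap.BilinForm.sum_left, Finset.mul_sum, Finset.mul_sum]
    apply Finset.sum_congr rfl
    intro j _
    rw [LinearMap.BilinForm.sum_right, Finset.sum_eq_single j]
    · rw [LinearMap.BilinForm.smul_left, LinearMap.BilinForm.smul_right, polarBilin_apply_apply, polar_self_mul,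
        hva]
      ring
    · intro k _ hkj
      rw [LinearMap.BilinForm.smul_left, LinearMap.BilinForm.smul_right, polarBilin_apply_apply,
        hvo _ _ (fun h => hkj (e.symm.injective h).symm), mul_zero, mul_zero]
    · intro hj
      exact absurd (Finset.mem_univ j) hj
  rw [polar_self_mul] at hpol
  exact mul_left_cancel₀ h2 hpol

/-- an invertible matrix with entries in the subfield `F₀` lies in `GL(F₀)` -/
theorem mem_range_of_entries (F₀ : Subfield F) (g : GL ι F) (hent : ∀ i j, (g : Matrix ι ι F) i j ∈ F₀) :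
    g ∈ (Matrix.GeneralLinearGroup.map (F₀.subtype : F₀ →+* F)).range := by
  obtain ⟨A₀, hA₀⟩ : ∃ A₀ : Matrix ι ι F₀, A₀ = fun i j => ⟨(g : Matrix ι ι F) i j, hent i j⟩ := ⟨_, rfl⟩
  have hmap : (g : Matrix ι ι F) = A₀.map (F₀.subtype : F₀ →+* F) := by
    ext i j
    rw [Matrix.map_apply, hA₀]
    rfl
  have hdet0 : (g : Matrix ι ι F).det ≠ 0 := by
    apply Matrix.det_ne_zero_of_right_inverse (B := ((g⁻¹ : GL ι F) : Matrix ι ι F))
    rw [← Units.val_mul, mul_inv_cancel, Units.val_one]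
  have hdet : A₀.det ≠ 0 := by
    intro h0
    apply hdet0
    rw [hmap]
    have : (A₀.map (F₀.subtype : F₀ →+* F)).det = (F₀.subtype : F₀ →+* F) A₀.det := by
      rw [RingHom.map_det]
      rfl
    rw [this, h0, map_zero]
  refine ⟨Matrix.GeneralLinearGroup.mkOfDetNeZero A₀ hdet, ?_⟩
  apply Units.ext
  rw [hmap]
  rfl

/-- a non-prime finite field has a subfield of prime index -/
theorem exists_prime_index_subfield (hnp : ¬ (Fintype.card F).Prime) :
    ∃ (F₀ : Subfield F) (r : ℕ), r.Prime ∧ Fintype.card F = Nat.card F₀ ^ r := by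
  obtain ⟨p, hp⟩ := CharP.exists F
  have : CharP F p := hp
  have hpp : p.Prime := (CharP.char_is_prime_or_zero F p).resolve_right (by
    intro h0
    subst h0
    have : CharZero F := CharP.charP_to_charZero F
    exact not_finite F)
  have : Fact p.Prime := ⟨hpp⟩
  have hbot : (⊥ : Subfield F) ≠ ⊤ := by
    intro h
    apply hnp
    have h1 := Subfield.card_bot F p
    rw [h, Nat.card_congr (Subfield.topEquiv (K := F)).toEquiv, Nat.card_eq_fintype_card] at h1
    rw [h1]
    exact hpp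
  obtain ⟨F₁, r, -, hr, hcard⟩ := Cfsg.Agent.Lib.Helper4.AschLeaf.exists_max_subfield (⊥ : Subfield F) hbot
  exact ⟨F₁, r, hr, hcard⟩

/-- R10 -/
theorem sub_of_frame (hQ : (polarBilin Q).Nondegenerate) {t : ℕ} {D : Fin t → Submodule F (ι → F)}
    (hD : IsOrthogonalMDecomposition ⇑Q 1 D) (hnp : ¬ (Fintype.card F).Prime) :
    ∃ (F₀ : Subfield F) (r : ℕ) (P : GL ι F) (ζ : F), r.Prime ∧ Fintype.card F = Nat.card F₀ ^ r ∧
      ζ ≠ 0 ∧ IsQuadFormRationalStructure (fun v : ι → F => ζ * Q v) F₀ P ∧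
      decompositionStabilizer D ⊓ isometryGroup F ⇑Q ≤ subfieldSubgroup F₀ P := by
  classical
  obtain ⟨v, a, ha, h2, hv, hva, hvo⟩ := frame_vectors1 Q hD
  obtain ⟨e, P, hP⟩ := frame_matrix1 D hD.decomp.decomp v hv
  obtain ⟨F₀, r, hr, hcard⟩ := exists_prime_index_subfield (F := F) hnp
  refine ⟨F₀, r, P, a⁻¹, hr, hcard, inv_ne_zero ha, ?_, ?_⟩
  · intro u hu
    show a⁻¹ * Q ((P : Matrix ι ι F) *ᵥ u) ∈ F₀
    rw [frame_quad1 Q h2 v a hva hvo e P hP u, ← mul_assoc, inv_mul_cancel₀ ha, one_mul]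
    exact Subfield.sum_mem _ fun i _ => Subfield.pow_mem _ (hu i) 2
  · intro g hg
    obtain ⟨hgD, hgI⟩ := Subgroup.mem_inf.1 hg
    obtain ⟨σ, ε, hε, hact⟩ := frame_action1 Q v a ha hv hva g hgD hgI
    have hPinv : ∀ w : ι → F, ((P⁻¹ : GL ι F) : Matrix ι ι F) *ᵥ ((P : Matrix ι ι F) *ᵥ w) = w := by
      intro w
      rw [Matrix.mulVec_mulVec, ← Units.val_mul, inv_mul_cancel, Units.val_one, Matrix.one_mulVec]
    have hcol : ∀ i' : Fin t, ((P⁻¹ * g * P : GL ι F) : Matrix ι ι F) *ᵥ Pi.single (e i') 1 =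
        ε i' • Pi.single (e (σ i')) 1 := by
      intro i'
      rw [Units.val_mul, Units.val_mul, ← Matrix.mulVec_mulVec, ← Matrix.mulVec_mulVec, hP i', hact i',
        Matrix.mulVec_smul, ← hP (σ i'), hPinv]
    have hS : (P⁻¹ * g * P : GL ι F) ∈ (Matrix.GeneralLinearGroup.map (F₀.subtype : F₀ →+* F)).range := by
      apply mem_range_of_entries
      intro i j
      have h1 : ((P⁻¹ * g * P : GL ι F) : Matrix ι ι F) i j =
          (((P⁻¹ * g * P : GL ι F) : Matrix ι ι F) *ᵥ Pi.single j 1) i := by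
        rw [Matrix.mulVec_single_one]
        rfl
      have h2' := hcol (e.symm j)
      rw [Equiv.apply_symm_apply] at h2'
      rw [h1, h2', Pi.smul_apply, smul_eq_mul, Pi.single_apply]
      have hεm : ε (e.symm j) ∈ F₀ := by
        rcases hε (e.symm j) with h3 | h3
        · rw [h3]; exact F₀.one_mem
        · rw [h3]; exact F₀.neg_mem F₀.one_mem
      split_ifs
      · exact F₀.mul_mem hεm F₀.one_mem
      · exact F₀.mul_mem hεm F₀.zero_mem
    refine ⟨P⁻¹ * g * P, Subgroup.mem_sup_left hS, ?_⟩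
    show P * (P⁻¹ * g * P) * P⁻¹ = g
    group

end generic

end Cfsg.Agent.Lib.Helper1.OELeaf
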