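import Mathlib
import Cfsg.Prelude.Def_GeometricClasses
import Cfsg.Agent.Lib.Helper9.FieldNorm

/-!
# OmOddMax market (helper20), block N: N1 `mdec_card_gen`, N3 `field_dvd_gen` (helper1).
Exact signatures of `notes/OmOddMax_leaves.lean`.
-/

set_option autoImplicit false
set_option linter.unusedSectionVars false
set_option linter.unusedVariables false
set_option linter.style.haveILetI false

namespace Cfsg.Agent.Lib.Helper1.OmMLeaf

open Cfsg Cfsg.Geo Matrix Module QuadraticMap

section generic
variable {ι : Type} [Fintype ι] [DecidableEq ι] {F : Type*} [Field F] [Fintype F]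
  (Q : QuadraticForm F (ι → F))

/-- N1.  `card ι = finrank (⨆ D i) = Σ finrank (D i) = t k`. -/
theorem mdec_card_gen {t k : ℕ} {D : Fin t → Submodule F (ι → F)} (hD : IsMDecomposition k D) :
    t * k = Fintype.card ι := by
  classical
  have hint : DirectSum.IsInternal D :=
    DirectSum.isInternal_submodule_of_iSupIndep_of_iSup_eq_top hD.indep hD.iSup_eq_top
  have e : (DirectSum (Fin t) fun i => ↥(D i)) ≃ₗ[F] (ι → F) :=
    LinearEquiv.ofBijective (DirectSum.coeLinearMap D) hint
  have h1 := e.finrank_eq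
  rw [Module.finrank_directSum, Module.finrank_fintype_fun_eq_card] at h1
  rw [← h1]
  simp [hD.finrank_eq]

/-- N3.  `F^ι` is a vector space over the field `K`. -/
theorem field_dvd_gen (hι : 1 ≤ Fintype.card ι) {r : ℕ} {K : Subalgebra F (Matrix ι ι F)}
    (hK : IsFieldSubalgebra r K) : r ∣ Fintype.card ι := by
  haveI : Nonempty ι := Fintype.card_pos_iff.mp (by omega)
  letI := Cfsg.Agent.Lib.Helper9.FieldNorm.fieldOf K hK.comm hK.inv
  letI := Cfsg.Agent.Lib.Helper9.FieldNorm.modOf (E := ↥K) K.val
  haveI := Cfsg.Agent.Lib.Helper9.FieldNorm.isScalarTower (E := ↥K) K.val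
  haveI : Module.Finite ↥K (ι → F) := Module.Finite.of_restrictScalars_finite F ↥K (ι → F)
  have hfr := Module.finrank_mul_finrank F ↥K (ι → F)
  rw [Module.finrank_fintype_fun_eq_card, hK.finrank_eq] at hfr
  exact ⟨_, hfr.symm⟩

end generic

end Cfsg.Agent.Lib.Helper1.OmMLeaf
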