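import Mathlib
import Cfsg.Prelude.Def_GeometricClasses
import Cfsg.Agent.Lib.Lead.OEQF
import Cfsg.Agent.Lib.Helper28.OmME3
import Cfsg.Agent.Lib.Helper12.OETypeA
import Cfsg.Agent.Lib.Helper18.OET3
import Cfsg.Agent.Lib.Helper26.OET48
import Cfsg.Agent.Lib.Helper26.OET6

/-!
OMEGA-EVEN, OE-ROWS3 (planner lead): leaf R18 `dec_of_nd_half` (helper1).
-/

set_option autoImplicit false
set_option linter.unusedSectionVars false
set_option linter.unusedVariables false

namespace Cfsg.Agent.Lib.Helper1.OELeaf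

open Cfsg Cfsg.Geo Matrix Module QuadraticMap Cfsg.Agent.Lib.Lead.OE
open scoped Kronecker

section generic
variable {ι : Type} [Fintype ι] [DecidableEq ι] {F : Type*} [Field F] [Fintype F]
  (Q : QuadraticForm F (ι → F))

/-- `⊤` is non-degenerate -/
lemma nd_top1 (hQ : (polarBilin Q).Nondegenerate) :
    IsNondegenerateOn (polar ⇑Q) (⊤ : Submodule F (ι → F)) := by
  intro w _ hw
  have h3 : ∃ x, polar ⇑Q x w ≠ 0 := by
    by_contra hcon
    push Not at hcon
    apply hw
    exact hQ.2 w (fun x => by rw [polarBilin_apply_apply]; exact hcon x)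
  obtain ⟨x, hx⟩ := h3
  exact ⟨⟨x, Submodule.mem_top, hx⟩, ⟨x, Submodule.mem_top, by rwa [polar_comm]⟩⟩

/-- an element of the stabiliser of `W` maps `W` onto `W` -/
lemma map_eq_of_mem_stab {W : Submodule F (ι → F)} {g : GL ι F} (hg : g ∈ subspaceStabilizer W) :
    W.map (Matrix.toLin' (g : Matrix ι ι F)) = W := by
  have hW : ∀ v : ι → F, v ∈ W ↔ (g : Matrix ι ι F) *ᵥ v ∈ W := fun v => hg v
  apply le_antisymm
  · rintro _ ⟨v, hv, rfl⟩
    rw [Matrix.toLin'_apply]
    exact (hW v).1 hv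
  · intro w hw
    refine ⟨((g⁻¹ : GL ι F) : Matrix ι ι F) *ᵥ w, ?_, ?_⟩
    · rw [SetLike.mem_coe, hW, Matrix.mulVec_mulVec, ← Units.val_mul, mul_inv_cancel, Units.val_one,
        Matrix.one_mulVec]
      exact hw
    · rw [Matrix.toLin'_apply, Matrix.mulVec_mulVec, ← Units.val_mul, mul_inv_cancel, Units.val_one,
        Matrix.one_mulVec]

lemma isometric_symm {A B : Submodule F (ι → F)} (h : AreIsometricFor ⇑Q A B) :
    AreIsometricFor ⇑Q B A := by
  obtain ⟨e, he⟩ := h
  refine ⟨e.symm, fun w => ?_⟩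
  have := he (e.symm w)
  rw [LinearEquiv.apply_symm_apply] at this
  exact this.symm

lemma isometric_refl (A : Submodule F (ι → F)) : AreIsometricFor ⇑Q A A :=
  ⟨LinearEquiv.refl F A, fun _ => rfl⟩

/-- R18 -/
theorem dec_of_nd_half (hQ : (polarBilin Q).Nondegenerate) (hplus : IsPlusTypeOn ⇑Q ⊤)
    {W : Submodule F (ι → F)} (hW : IsNondegenerateOn (polar ⇑Q) W) {k : ℕ} (hk : Even k)
    (hdim : finrank F W = k) (hcard : Fintype.card ι = 2 * k) (hk0 : 0 < k) :
    ∃ D : Fin 2 → Submodule F (ι → F), IsOrthogonalMDecomposition ⇑Q k D ∧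
      subspaceStabilizer W ⊓ isometryGroup F ⇑Q ≤ decompositionStabilizer D := by
  classical
  obtain ⟨hcompl, hndU⟩ := Cfsg.Agent.Lib.Helper28.OmMLeaf.orth_props28 Q hQ hW
  set U := Cfsg.Agent.Lib.Helper28.OmMLeaf.perp28 Q W with hU
  have hdimU : finrank F U = k := by
    have := Submodule.finrank_add_eq_of_isCompl hcompl
    rw [Module.finrank_fintype_fun_eq_card, hcard, hdim] at this
    omega
  have horth : AreOrthogonalFor (polar ⇑Q) W U := by
    intro u hu v hv
    exact (Cfsg.Agent.Lib.Helper28.OmMLeaf.mem_orth28 Q W v).1 hv u hu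
  have horth' : AreOrthogonalFor (polar ⇑Q) U W := by
    intro v hv u hu
    rw [polar_comm]
    exact horth u hu v hv
  -- types
  obtain ⟨ε₁, hε₁, hty₁⟩ := Cfsg.Agent.Lib.Helper12.OELeaf.exists_typeOn Q hW (by rw [hdim]; exact hk)
  obtain ⟨ε₂, hε₂, hty₂⟩ := Cfsg.Agent.Lib.Helper12.OELeaf.exists_typeOn Q hndU (by rw [hdimU]; exact hk)
  have htop := Cfsg.Agent.Lib.Helper26.OELeaf.typeOn_sup Q hW hndU horth hty₁ hty₂
  rw [hcompl.sup_eq_top] at htop
  have hevtop : Even (finrank F (⊤ : Submodule F (ι → F))) := by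
    rw [finrank_top, Module.finrank_fintype_fun_eq_card, hcard]
    exact even_two_mul k
  have htop1 := (Cfsg.Agent.Lib.Helper18.OELeaf.typeOn_one_iff_plus Q (nd_top1 Q hQ) hevtop).2 hplus
  have hprod : ε₁ * ε₂ = 1 := Cfsg.Agent.Lib.Helper12.OELeaf.typeOn_unique Q htop htop1
  have heq : ε₁ = ε₂ := by
    rcases hε₁ with rfl | rfl <;> rcases hε₂ with rfl | rfl <;> first | rfl | (exfalso; revert hprod; norm_num)
  subst heq
  have hiso : AreIsometricFor ⇑Q W U :=
    Cfsg.Agent.Lib.Helper26.OELeaf.isometric_of_typeOn Q hW hndU hε₁ hty₁ hty₂ (by rw [hdim, hdimU])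
  refine ⟨![W, U], ⟨⟨⟨le_rfl, hk0, ?_, ?_, ?_⟩, ?_, ?_⟩, ?_⟩, ?_⟩
  · intro i
    fin_cases i
    · exact hdim
    · exact hdimU
  · rw [iSupIndep_pair (i := (0 : Fin 2)) (j := 1) (by decide) (by intro k; fin_cases k <;> simp)]
    exact hcompl.disjoint
  · rw [eq_top_iff, ← hcompl.sup_eq_top]
    apply sup_le
    · exact le_iSup (fun i : Fin 2 => (![W, U] : Fin 2 → Submodule F (ι → F)) i) 0
    · exact le_iSup (fun i : Fin 2 => (![W, U] : Fin 2 → Submodule F (ι → F)) i) 1
  · intro i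
    fin_cases i
    · exact hW
    · exact hndU
  · intro i j hij
    fin_cases i <;> fin_cases j
    · exact absurd rfl hij
    · exact horth
    · exact horth'
    · exact absurd rfl hij
  · intro i j
    fin_cases i <;> fin_cases j
    · exact isometric_refl Q W
    · exact hiso
    · exact isometric_symm Q hiso
    · exact isometric_refl Q U
  · intro g hg
    have hgW : g ∈ subspaceStabilizer W := (Subgroup.mem_inf.1 hg).1
    have hgU : g ∈ subspaceStabilizer U := Cfsg.Agent.Lib.Helper28.OmMLeaf.stab_orth28 Q hg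
    refine ⟨1, fun i => ?_⟩
    fin_cases i
    · exact map_eq_of_mem_stab hgW
    · exact map_eq_of_mem_stab hgU

end generic

end Cfsg.Agent.Lib.Helper1.OELeaf
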