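import Mathlib
import Cfsg.Prelude.Def_ClassicalGeometry
import Cfsg.Prelude.Def_GeometricClasses
import Cfsg.Agent.Lib.Helper2.SOTDefs
import Cfsg.Agent.Lib.Helper2.SOTGDefs
import Cfsg.Agent.Lib.Helper27.SOTLADefs

/-!
helper1, S5666 (LA) block A: small toolkit for the algebra on `(B, fB G)` (vector forms of `refl`, `rk1`,
self/skew-adjointness, `adjB`).
-/

set_option autoImplicit false
set_option linter.unusedSectionVars false
set_option linter.unusedVariables false

namespace Cfsg.Agent.Lib.Helper1.SOTLALeaf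
open Matrix
open Cfsg.Agent.Lib.Helper25.Tens Cfsg.Agent.Lib.Helper25.SpT Cfsg.Agent.Lib.Helper19.OSub
open Cfsg.Agent.Lib.Helper2.SOT Cfsg.Agent.Lib.Helper27.SOTLA
open scoped Kronecker

variable {F : Type*} [Field F] {b : ℕ} {G : Matrix (Fin b) (Fin b) F}

lemma mat_ext_mulVec {A B : Matrix (Fin b) (Fin b) F} (h : ∀ y, A *ᵥ y = B *ᵥ y) : A = B := by
  apply Matrix.toLin'.injective
  apply LinearMap.ext
  intro y
  rw [Matrix.toLin'_apply, Matrix.toLin'_apply]
  exact h y

lemma fB_zero_left (G : Matrix (Fin b) (Fin b) F) (y : Fin b → F) : fB G 0 y = 0 := by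
  unfold fB
  rw [zero_dotProduct]

lemma fB_zero_right (G : Matrix (Fin b) (Fin b) F) (y : Fin b → F) : fB G y 0 = 0 := by
  unfold fB
  rw [Matrix.mulVec_zero, dotProduct_zero]

lemma fB_neg_left (G : Matrix (Fin b) (Fin b) F) (y z : Fin b → F) : fB G (-y) z = - fB G y z := by
  unfold fB
  rw [neg_dotProduct]

lemma fB_neg_right (G : Matrix (Fin b) (Fin b) F) (y z : Fin b → F) : fB G y (-z) = - fB G y z := by
  unfold fB
  rw [Matrix.mulVec_neg, dotProduct_neg]

lemma fB_sub_left (G : Matrix (Fin b) (Fin b) F) (y y' z : Fin b → F) :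
    fB G (y - y') z = fB G y z - fB G y' z := by
  unfold fB
  rw [sub_dotProduct]

lemma fB_sub_right (G : Matrix (Fin b) (Fin b) F) (y z z' : Fin b → F) :
    fB G y (z - z') = fB G y z - fB G y z' := by
  unfold fB
  rw [Matrix.mulVec_sub, dotProduct_sub]

/-- vector form of self-adjointness -/
lemma selfAdj_fB {σ : Matrix (Fin b) (Fin b) F} (hσ : IsSelfAdj G σ) (y y' : Fin b → F) :
    fB G (σ *ᵥ y) y' = fB G y (σ *ᵥ y') := by
  unfold fB
  unfold IsSelfAdj at hσ
  rw [Matrix.mulVec_mulVec, hσ, ← Matrix.mulVec_mulVec, Matrix.dotProduct_mulVec,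
    Matrix.dotProduct_mulVec, Matrix.vecMul_transpose, ← Matrix.dotProduct_mulVec]

/-- vector form of skew-adjointness -/
lemma skewAdj_fB {κ : Matrix (Fin b) (Fin b) F} (hκ : IsSkewAdj G κ) (y y' : Fin b → F) :
    fB G (κ *ᵥ y) y' = - fB G y (κ *ᵥ y') := by
  unfold fB
  unfold IsSkewAdj at hκ
  rw [Matrix.mulVec_mulVec, hκ, Matrix.neg_mulVec, dotProduct_neg, neg_neg,
    ← Matrix.mulVec_mulVec, Matrix.dotProduct_mulVec,
    Matrix.dotProduct_mulVec, Matrix.vecMul_transpose, ← Matrix.dotProduct_mulVec]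

/-- nondegeneracy of `fB G` (right) -/
lemma eq_zero_of_fB_right (hnd : G.det ≠ 0) {y : Fin b → F} (h : ∀ y', fB G y' y = 0) : y = 0 := by
  have h1 : G *ᵥ y = 0 := by
    ext i
    have := h (Pi.single i 1)
    unfold fB at this
    rw [single_one_dotProduct] at this
    exact this
  have := congrArg (fun w => G⁻¹ *ᵥ w) h1
  simp only [Matrix.mulVec_mulVec, Matrix.mulVec_zero] at this
  rwa [Matrix.nonsing_inv_mul _ (Ne.isUnit hnd), Matrix.one_mulVec] at this

/-- nondegeneracy of `fB G` (left) -/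
lemma eq_zero_of_fB_left (hG : Gᵀ = G) (hnd : G.det ≠ 0) {y : Fin b → F} (h : ∀ y', fB G y y' = 0) :
    y = 0 :=
  eq_zero_of_fB_right hnd fun y' => by rw [fB_comm G hG]; exact h y'

lemma refl_mulVec' (d y : Fin b → F) :
    refl G d *ᵥ y = y - (2 * fB G y d / fB G d d) • d := by
  unfold Cfsg.Agent.Lib.Helper27.SOTLA.refl
  rw [Matrix.sub_mulVec, Matrix.one_mulVec, Matrix.smul_mulVec, rk1_mulVec, smul_smul]
  congr 2
  ring

lemma rk1_add_left (G : Matrix (Fin b) (Fin b) F) (u u' v : Fin b → F) :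
    rk1 G (u + u') v = rk1 G u v + rk1 G u' v := by
  apply mat_ext_mulVec
  intro y
  rw [Matrix.add_mulVec, rk1_mulVec, rk1_mulVec, rk1_mulVec, smul_add]

lemma rk1_add_right (G : Matrix (Fin b) (Fin b) F) (u v v' : Fin b → F) :
    rk1 G u (v + v') = rk1 G u v + rk1 G u v' := by
  apply mat_ext_mulVec
  intro y
  rw [Matrix.add_mulVec, rk1_mulVec, rk1_mulVec, rk1_mulVec, fB_add_right, add_smul]

lemma rk1_smul_left (G : Matrix (Fin b) (Fin b) F) (c : F) (u v : Fin b → F) :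
    rk1 G (c • u) v = c • rk1 G u v := by
  apply mat_ext_mulVec
  intro y
  rw [Matrix.smul_mulVec, rk1_mulVec, rk1_mulVec, smul_comm]

lemma rk1_smul_right (G : Matrix (Fin b) (Fin b) F) (c : F) (u v : Fin b → F) :
    rk1 G u (c • v) = c • rk1 G u v := by
  apply mat_ext_mulVec
  intro y
  rw [Matrix.smul_mulVec, rk1_mulVec, rk1_mulVec, fB_smul_right, smul_smul]

lemma rk1_zero_left (G : Matrix (Fin b) (Fin b) F) (v : Fin b → F) : rk1 G 0 v = 0 := by
  apply mat_ext_mulVec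
  intro y
  rw [rk1_mulVec, smul_zero, Matrix.zero_mulVec]

lemma rk1_zero_right (G : Matrix (Fin b) (Fin b) F) (u : Fin b → F) : rk1 G u 0 = 0 := by
  apply mat_ext_mulVec
  intro y
  rw [rk1_mulVec, fB_zero_right, zero_smul, Matrix.zero_mulVec]

lemma rk1_neg_left (G : Matrix (Fin b) (Fin b) F) (u v : Fin b → F) : rk1 G (-u) v = - rk1 G u v := by
  apply mat_ext_mulVec
  intro y
  rw [Matrix.neg_mulVec, rk1_mulVec, rk1_mulVec, smul_neg]

lemma rk1_neg_right (G : Matrix (Fin b) (Fin b) F) (u v : Fin b → F) : rk1 G u (-v) = - rk1 G u v := by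
  apply mat_ext_mulVec
  intro y
  rw [Matrix.neg_mulVec, rk1_mulVec, rk1_mulVec, fB_neg_right, neg_smul]

end Cfsg.Agent.Lib.Helper1.SOTLALeaf
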