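import Mathlib
import Cfsg.Agent.Lib.Helper1.SOTLATools

/-!
helper1, S5666 (LA) leaves A3a `refl_conj_selfadj`, A3b `refl_conj_skew`.
-/

set_option autoImplicit false
set_option linter.unusedSectionVars false
set_option linter.unusedVariables false

namespace Cfsg.Agent.Lib.Helper1.SOTLALeaf
open Matrix
open Cfsg.Agent.Lib.Helper25.Tens Cfsg.Agent.Lib.Helper25.SpT Cfsg.Agent.Lib.Helper19.OSub
open Cfsg.Agent.Lib.Helper2.SOT Cfsg.Agent.Lib.Helper27.SOTLA
open scoped Kronecker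

variable {F : Type*} [Field F] [Fintype F] {a b : ℕ} {G : Matrix (Fin b) (Fin b) F}
  {M : Subgroup (GL (Idx a b) F)}

/-- (A3a) -/
theorem refl_conj_selfadj (hG : Gᵀ = G) {d : Fin b → F} (hd : fB G d d ≠ 0)
    {σ : Matrix (Fin b) (Fin b) F} (hσ : IsSelfAdj G σ) :
    refl G d * σ * refl G d - σ =
      -(2 / fB G d d) • (rk1 G d (σ *ᵥ d - (fB G (σ *ᵥ d) d / fB G d d) • d) +
        rk1 G (σ *ᵥ d - (fB G (σ *ᵥ d) d / fB G d d) • d) d) := by
  apply mat_ext_mulVec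
  intro y
  rw [Matrix.sub_mulVec, ← Matrix.mulVec_mulVec, ← Matrix.mulVec_mulVec, refl_mulVec' d y,
    Matrix.mulVec_sub, Matrix.mulVec_smul, refl_mulVec', Matrix.smul_mulVec, Matrix.add_mulVec,
    rk1_mulVec, rk1_mulVec, fB_sub_left, fB_smul_left, fB_sub_right, fB_smul_right,
    selfAdj_fB hσ y d]
  ext i
  simp only [Pi.sub_apply, Pi.add_apply, Pi.smul_apply, smul_eq_mul]
  field_simp
  ring

/-- (A3b) -/
theorem refl_conj_skew (hG : Gᵀ = G) (h2 : (2 : F) ≠ 0) {d : Fin b → F} (hd : fB G d d ≠ 0)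
    {κ : Matrix (Fin b) (Fin b) F} (hκ : IsSkewAdj G κ) :
    refl G d * κ * refl G d - κ = (2 / fB G d d) • (rk1 G d (κ *ᵥ d) - rk1 G (κ *ᵥ d) d) := by
  have h0 : fB G (κ *ᵥ d) d = 0 := by
    have e := skewAdj_fB hκ d d
    rw [fB_comm G hG d (κ *ᵥ d)] at e
    have e2 : (2 : F) * fB G (κ *ᵥ d) d = 0 := by
      rw [two_mul]
      nth_rewrite 1 [e]
      ring
    rcases mul_eq_zero.1 e2 with h | h
    · exact absurd h h2
    · exact h
  apply mat_ext_mulVec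
  intro y
  rw [Matrix.sub_mulVec, ← Matrix.mulVec_mulVec, ← Matrix.mulVec_mulVec, refl_mulVec' d y,
    Matrix.mulVec_sub, Matrix.mulVec_smul, refl_mulVec', Matrix.smul_mulVec, Matrix.sub_mulVec,
    rk1_mulVec, rk1_mulVec, fB_sub_left, fB_smul_left, h0, skewAdj_fB hκ y d]
  ext i
  simp only [Pi.sub_apply, Pi.add_apply, Pi.smul_apply, smul_eq_mul]
  field_simp
  ring

end Cfsg.Agent.Lib.Helper1.SOTLALeaf
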