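import Mathlib
import Cfsg.Agent.Lib.Helper1.SOTLATools
import Cfsg.Agent.Lib.Helper1.SOTLAA3
import Cfsg.Agent.Lib.Helper18.SOTLAA2

/-!
helper1, S5709 (LA'-4): toolkit for a 4-dimensional orthogonal space `(F^4, fB G)` of MINUS type (`det G` a nonsquare,
`q` odd): orthogonal frames, the hyperbolic frame `z, z', d1, d2` (`⟨d1, d2⟩` anisotropic), the Siegel elements
`ρ_{z,e} = r_e r_{e + t z}` (a product of two reflections) and their action.
-/

set_option autoImplicit false
set_option linter.unusedSectionVars false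
set_option linter.unusedVariables false
set_option linter.unusedSimpArgs false

namespace Cfsg.Agent.Lib.Helper1.OTLeaf
open Matrix
open Cfsg.Agent.Lib.Helper2.SOT Cfsg.Agent.Lib.Helper27.SOTLA Cfsg.Agent.Lib.Helper1.SOTLALeaf
open Cfsg.Agent.Lib.Helper18.SOTLALeaf (refl_mul_self)

variable {F : Type*} [Field F]

/-! ## orthogonal frames -/

/-- an orthogonal basis of nonsingular vectors for a symmetric nondegenerate Gram matrix -/
theorem exists_oframe {G : Matrix (Fin 4) (Fin 4) F} (hG : Gᵀ = G) (hnd : G.det ≠ 0) (h2 : (2 : F) ≠ 0) :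
    ∃ p : Fin 4 → (Fin 4 → F), (∀ i j, i ≠ j → fB G (p i) (p j) = 0) ∧ (∀ i, fB G (p i) (p i) ≠ 0) ∧
      (∀ x, (∀ i, fB G x (p i) = 0) → x = 0) := by
  have : Invertible (2 : F) := invertibleOfNonzero h2
  set B : LinearMap.BilinForm F (Fin 4 → F) := Matrix.toBilin' G with hB
  have hBapp : ∀ u v, B u v = fB G u v := fun u v => by
    rw [hB, Matrix.toBilin'_apply']
    rfl
  have hsymm : LinearMap.IsSymm B := by
    refine ⟨fun u v => ?_⟩
    simp only [RingHom.id_apply]
    rw [hBapp, hBapp, fB_comm G hG]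
  obtain ⟨v, hv⟩ := LinearMap.BilinForm.exists_orthogonal_basis hsymm
  have hsep : B.SeparatingLeft := by
    intro u hu
    exact eq_zero_of_fB_left hG hnd (fun y => by rw [← hBapp]; exact hu y)
  have hne := fun i => hv.not_isOrtho_basis_self_of_separatingLeft hsep i
  have hcard : Module.finrank F (Fin 4 → F) = 4 := Module.finrank_fin_fun F
  let w : Module.Basis (Fin 4) F (Fin 4 → F) := v.reindex (finCongr hcard)
  have hw : ∀ i j : Fin 4, i ≠ j → fB G (w i) (w j) = 0 := by
    intro i j hij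
    rw [← hBapp]
    simp only [w, Module.Basis.reindex_apply]
    apply hv
    intro h
    exact hij ((finCongr hcard).symm.injective h)
  have hwne : ∀ i : Fin 4, fB G (w i) (w i) ≠ 0 := by
    intro i
    rw [← hBapp]
    simp only [w, Module.Basis.reindex_apply]
    exact hne _
  refine ⟨fun i => w i, hw, hwne, ?_⟩
  intro x hx
  apply eq_zero_of_fB_left hG hnd
  intro y
  have hy := w.sum_repr y
  rw [← hy]
  have : fB G x (∑ i, w.repr y i • w i) = ∑ i, w.repr y i * fB G x (w i) := by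
    rw [← hBapp, map_sum]
    refine Finset.sum_congr rfl fun i _ => ?_
    rw [map_smul, smul_eq_mul, hBapp]
  rw [this]
  refine Finset.sum_eq_zero fun i _ => ?_
  rw [hx i, mul_zero]


/-- the discriminant of an orthogonal frame is `det G` up to a square -/
theorem oframe_disc {G : Matrix (Fin 4) (Fin 4) F} (hdisc : ¬ IsSquare G.det)
    {p : Fin 4 → (Fin 4 → F)} (horth : ∀ i j, i ≠ j → fB G (p i) (p j) = 0)
    (hns : ∀ i, fB G (p i) (p i) ≠ 0) : ¬ IsSquare (∏ i, fB G (p i) (p i)) := by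
  set P : Matrix (Fin 4) (Fin 4) F := Matrix.of (fun i j => p j i) with hP
  have hcol : ∀ j, P *ᵥ Pi.single j 1 = p j := by
    intro j
    ext i
    rw [Matrix.mulVec_single_one]
    rfl
  have hgram : Pᵀ * G * P = Matrix.diagonal (fun i => fB G (p i) (p i)) := by
    ext i j
    have e1 : (Pᵀ * G * P) i j = fB G (p i) (p j) := by
      have : (Pᵀ * G * P) i j = Pi.single i 1 ⬝ᵥ ((Pᵀ * G * P) *ᵥ Pi.single j 1) := by
        rw [Matrix.mulVec_single_one, single_one_dotProduct]
        rfl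
      rw [this, Matrix.mul_assoc, ← Matrix.mulVec_mulVec, ← Matrix.mulVec_mulVec, hcol,
        Matrix.dotProduct_mulVec, Matrix.vecMul_transpose, hcol]
      rfl
    rw [e1]
    by_cases hij : i = j
    · subst hij
      rw [Matrix.diagonal_apply_eq]
    · rw [Matrix.diagonal_apply_ne _ hij, horth i j hij]
  have hdet : P.det * P.det * G.det = ∏ i, fB G (p i) (p i) := by
    have := congrArg Matrix.det hgram
    rw [Matrix.det_mul, Matrix.det_mul, Matrix.det_transpose, Matrix.det_diagonal] at this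
    rw [← this]
    ring
  have hprod : (∏ i, fB G (p i) (p i)) ≠ 0 := Finset.prod_ne_zero_iff.2 fun i _ => hns i
  have hP0 : P.det ≠ 0 := by
    intro h0
    rw [h0, zero_mul, zero_mul] at hdet
    exact hprod hdet.symm
  rintro ⟨r, hr⟩
  apply hdisc
  refine ⟨r / P.det, ?_⟩
  rw [hr] at hdet
  field_simp
  linear_combination hdet


/-! ## squares in a finite field of odd characteristic -/

lemma ringChar_ne_two_of (h2 : (2 : F) ≠ 0) : ringChar F ≠ 2 := by
  intro h
  apply h2
  have := CharP.cast_eq_zero F (ringChar F)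
  rw [h] at this
  exact_mod_cast this

lemma isSquare_mul_of_not [Fintype F] (h2 : (2 : F) ≠ 0) {a b : F} (ha : a ≠ 0) (hb : b ≠ 0)
    (hna : ¬ IsSquare a) (hnb : ¬ IsSquare b) : IsSquare (a * b) := by
  have hF := ringChar_ne_two_of h2
  rw [FiniteField.isSquare_iff hF ha] at hna
  rw [FiniteField.isSquare_iff hF hb] at hnb
  rw [FiniteField.isSquare_iff hF (mul_ne_zero ha hb), mul_pow]
  rcases FiniteField.pow_dichotomy hF ha with h | h
  · exact absurd h hna
  · rcases FiniteField.pow_dichotomy hF hb with h' | h'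
    · exact absurd h' hnb
    · rw [h, h']
      ring

/-! ## hyperbolic frames -/

/-- a hyperbolic frame of a 4-dimensional space of minus type: `z, z'` a hyperbolic pair, `d1, d2` an orthogonal basis of the
anisotropic plane `⟨z, z'⟩^⊥` -/
structure HFrame (G : Matrix (Fin 4) (Fin 4) F) (z z' d1 d2 : Fin 4 → F) : Prop where
  zz : fB G z z = 0
  z'z' : fB G z' z' = 0
  zz' : fB G z z' = 1
  zd1 : fB G z d1 = 0
  zd2 : fB G z d2 = 0
  z'd1 : fB G z' d1 = 0
  z'd2 : fB G z' d2 = 0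
  d1d2 : fB G d1 d2 = 0
  n1 : fB G d1 d1 ≠ 0
  n2 : fB G d2 d2 ≠ 0
  aniso : ∀ α β : F, α ^ 2 * fB G d1 d1 + β ^ 2 * fB G d2 d2 = 0 → α = 0 ∧ β = 0
  perp : ∀ x, fB G x z = 0 → fB G x z' = 0 → fB G x d1 = 0 → fB G x d2 = 0 → x = 0

/-- from an orthogonal frame `x0, x1, x2, x3` with `⟨x0, x1⟩` hyperbolic and `⟨x2, x3⟩` anisotropic -/
theorem hframe_of_oframe {G : Matrix (Fin 4) (Fin 4) F} (hG : Gᵀ = G) (h2 : (2 : F) ≠ 0)
    {x0 x1 x2 x3 : Fin 4 → F}
    (h01 : fB G x0 x1 = 0) (h02 : fB G x0 x2 = 0) (h03 : fB G x0 x3 = 0) (h12 : fB G x1 x2 = 0)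
    (h13 : fB G x1 x3 = 0) (h23 : fB G x2 x3 = 0)
    (n0 : fB G x0 x0 ≠ 0) (n1 : fB G x1 x1 ≠ 0) (n2 : fB G x2 x2 ≠ 0) (n3 : fB G x3 x3 ≠ 0)
    (hperp : ∀ x, fB G x x0 = 0 → fB G x x1 = 0 → fB G x x2 = 0 → fB G x x3 = 0 → x = 0)
    (hsq : IsSquare (-(fB G x0 x0 * fB G x1 x1))) (hnsq : ¬ IsSquare (-(fB G x2 x2 * fB G x3 x3))) :
    ∃ z z' d1 d2 : Fin 4 → F, HFrame G z z' d1 d2 := by
  obtain ⟨r, hr⟩ := hsq
  set ν0 := fB G x0 x0 with hν0
  set ν1 := fB G x1 x1 with hν1
  set s : F := r / ν1 with hs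
  have hs2 : s ^ 2 * ν1 = -ν0 := by
    rw [hs]
    field_simp
    linear_combination -hr
  have hs0 : s ≠ 0 := by
    intro h
    rw [h] at hs2
    apply n0
    have : -ν0 = 0 := by rw [← hs2]; ring
    exact neg_eq_zero.1 this
  have h10 : fB G x1 x0 = 0 := by rw [fB_comm G hG]; exact h01
  have h20 : fB G x2 x0 = 0 := by rw [fB_comm G hG]; exact h02
  have h30 : fB G x3 x0 = 0 := by rw [fB_comm G hG]; exact h03
  have h21 : fB G x2 x1 = 0 := by rw [fB_comm G hG]; exact h12
  have h31 : fB G x3 x1 = 0 := by rw [fB_comm G hG]; exact h13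
  refine ⟨x0 + s • x1, (1 / (2 * ν0)) • (x0 - s • x1), x2, x3, ?_⟩
  constructor
  · -- zz
    simp only [fB_add_left, fB_add_right, fB_smul_left, fB_smul_right, h01, h10]
    linear_combination hs2
  · simp only [fB_sub_left, fB_sub_right, fB_smul_left, fB_smul_right, h01, h10]
    have : 1 / (2 * ν0) * (1 / (2 * ν0) * (ν0 - s * 0) - s * (1 / (2 * ν0) * (0 - s * ν1))) =
        (1 / (2 * ν0)) ^ 2 * (ν0 + s ^ 2 * ν1) := by ring
    rw [this, hs2]
    ring
  · simp only [fB_add_left, fB_sub_right, fB_smul_left, fB_smul_right, h01, h10]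
    have : 1 / (2 * ν0) * (ν0 + s * 0 - s * (0 + s * ν1)) = 1 / (2 * ν0) * (ν0 - s ^ 2 * ν1) := by ring
    rw [this, hs2]
    field_simp
    ring
  · simp only [fB_add_left, fB_smul_left, h02, h12]
    ring
  · simp only [fB_add_left, fB_smul_left, h03, h13]
    ring
  · simp only [fB_sub_left, fB_smul_left, h02, h12]
    ring
  · simp only [fB_sub_left, fB_smul_left, h03, h13]
    ring
  · exact h23
  · exact n2
  · exact n3
  · intro α β h
    by_cases hβ : β = 0
    · rw [hβ] at h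
      have : α ^ 2 * fB G x2 x2 = 0 := by linear_combination h
      rcases mul_eq_zero.1 this with h' | h'
      · exact ⟨pow_eq_zero_iff (two_ne_zero) |>.1 h', hβ⟩
      · exact absurd h' n2
    · exfalso
      apply hnsq
      refine ⟨α * fB G x2 x2 / β, ?_⟩
      have e : α * fB G x2 x2 / β * (α * fB G x2 x2 / β) = (α ^ 2 * fB G x2 x2) * fB G x2 x2 / β ^ 2 := by
        field_simp
      have e' : α ^ 2 * fB G x2 x2 = -(β ^ 2 * fB G x3 x3) := by linear_combination h
      rw [e, e']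
      field_simp
  · intro x hz hz' hd1 hd2
    simp only [fB_add_right, fB_sub_right, fB_smul_right] at hz hz'
    have e1 : fB G x x0 - s * fB G x x1 = 0 := by
      have h2ν : (1 / (2 * ν0)) ≠ 0 := by
        apply one_div_ne_zero
        exact mul_ne_zero h2 n0
      rcases mul_eq_zero.1 hz' with h' | h'
      · exact absurd h' h2ν
      · exact h'
    have e2 : fB G x x0 = 0 := by
      have : 2 * fB G x x0 = 0 := by linear_combination hz + e1
      rcases mul_eq_zero.1 this with h' | h'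
      · exact absurd h' h2
      · exact h'
    have e3 : fB G x x1 = 0 := by
      have : s * fB G x x1 = 0 := by linear_combination hz - e2
      rcases mul_eq_zero.1 this with h' | h'
      · exact absurd h' hs0
      · exact h'
    exact hperp x e2 e3 hd1 hd2


/-- a 4-dimensional space of minus type has a hyperbolic frame -/
theorem exists_hframe [Fintype F] {G : Matrix (Fin 4) (Fin 4) F} (hG : Gᵀ = G) (h2 : (2 : F) ≠ 0)
    (hdisc : ¬ IsSquare G.det) : ∃ z z' d1 d2 : Fin 4 → F, HFrame G z z' d1 d2 := by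
  have hnd : G.det ≠ 0 := by
    intro h
    apply hdisc
    rw [h]
    exact ⟨0, by ring⟩
  obtain ⟨p, horth, hns, hperp⟩ := exists_oframe hG hnd h2
  have hd := oframe_disc hdisc horth hns
  rw [Fin.prod_univ_four] at hd
  have hperp' : ∀ i j k l : Fin 4, (∀ m : Fin 4, m = i ∨ m = j ∨ m = k ∨ m = l) →
      ∀ x, fB G x (p i) = 0 → fB G x (p j) = 0 → fB G x (p k) = 0 → fB G x (p l) = 0 → x = 0 := by
    intro i j k l hall x hi hj hk hl
    apply hperp
    intro m
    rcases hall m with h | h | h | h <;> rw [h] <;> assumption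
  have hA0 : -(fB G (p 0) (p 0) * fB G (p 1) (p 1)) ≠ 0 :=
    neg_ne_zero.2 (mul_ne_zero (hns 0) (hns 1))
  have hB0 : -(fB G (p 2) (p 2) * fB G (p 3) (p 3)) ≠ 0 :=
    neg_ne_zero.2 (mul_ne_zero (hns 2) (hns 3))
  have hprod : -(fB G (p 0) (p 0) * fB G (p 1) (p 1)) * -(fB G (p 2) (p 2) * fB G (p 3) (p 3)) =
      fB G (p 0) (p 0) * fB G (p 1) (p 1) * fB G (p 2) (p 2) * fB G (p 3) (p 3) := by ring
  by_cases hA : IsSquare (-(fB G (p 0) (p 0) * fB G (p 1) (p 1)))
  · have hB : ¬ IsSquare (-(fB G (p 2) (p 2) * fB G (p 3) (p 3))) := by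
      intro hB
      apply hd
      rw [← hprod]
      exact hA.mul hB
    exact hframe_of_oframe hG h2 (horth 0 1 (by decide)) (horth 0 2 (by decide)) (horth 0 3 (by decide))
      (horth 1 2 (by decide)) (horth 1 3 (by decide)) (horth 2 3 (by decide)) (hns 0) (hns 1) (hns 2) (hns 3)
      (hperp' 0 1 2 3 (by decide)) hA hB
  · have hB : IsSquare (-(fB G (p 2) (p 2) * fB G (p 3) (p 3))) := by
      by_contra hB
      apply hd
      rw [← hprod]
      exact isSquare_mul_of_not h2 hA0 hB0 hA hB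
    exact hframe_of_oframe hG h2 (horth 2 3 (by decide)) (horth 2 0 (by decide)) (horth 2 1 (by decide))
      (horth 3 0 (by decide)) (horth 3 1 (by decide)) (horth 0 1 (by decide)) (hns 2) (hns 3) (hns 0) (hns 1)
      (hperp' 2 3 0 1 (by decide)) hB hA

namespace HFrame

variable {G : Matrix (Fin 4) (Fin 4) F} {z z' d1 d2 : Fin 4 → F}

lemma z'z_ (hG : Gᵀ = G) (h : HFrame G z z' d1 d2) : fB G z' z = 1 := by
  rw [fB_comm G hG]; exact h.zz'

lemma d1z (hG : Gᵀ = G) (h : HFrame G z z' d1 d2) : fB G d1 z = 0 := by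
  rw [fB_comm G hG]; exact h.zd1

lemma d2z (hG : Gᵀ = G) (h : HFrame G z z' d1 d2) : fB G d2 z = 0 := by
  rw [fB_comm G hG]; exact h.zd2

lemma d1z' (hG : Gᵀ = G) (h : HFrame G z z' d1 d2) : fB G d1 z' = 0 := by
  rw [fB_comm G hG]; exact h.z'd1

lemma d2z' (hG : Gᵀ = G) (h : HFrame G z z' d1 d2) : fB G d2 z' = 0 := by
  rw [fB_comm G hG]; exact h.z'd2

lemma d2d1 (hG : Gᵀ = G) (h : HFrame G z z' d1 d2) : fB G d2 d1 = 0 := by
  rw [fB_comm G hG]; exact h.d1d2

/-- expansion of a vector in a hyperbolic frame -/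
lemma expand (hG : Gᵀ = G) (h : HFrame G z z' d1 d2) (x : Fin 4 → F) :
    x = fB G x z' • z + fB G x z • z' + (fB G x d1 / fB G d1 d1) • d1 + (fB G x d2 / fB G d2 d2) • d2 := by
  have hn1 := h.n1
  have hn2 := h.n2
  rw [← sub_eq_zero]
  apply h.perp
  · simp only [fB_sub_left, fB_add_left, fB_smul_left, h.zz, h.z'z_ hG, h.d1z hG, h.d2z hG]
    ring
  · simp only [fB_sub_left, fB_add_left, fB_smul_left, h.zz', h.z'z', h.d1z' hG, h.d2z' hG]
    ring
  · simp only [fB_sub_left, fB_add_left, fB_smul_left, h.zd1, h.z'd1, h.d2d1 hG]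
    field_simp
    ring
  · simp only [fB_sub_left, fB_add_left, fB_smul_left, h.zd2, h.z'd2, h.d1d2]
    field_simp
    ring

/-- two matrices agreeing on a hyperbolic frame are equal -/
lemma mat_ext (hG : Gᵀ = G) (h : HFrame G z z' d1 d2) {A B : Matrix (Fin 4) (Fin 4) F}
    (hz : A *ᵥ z = B *ᵥ z) (hz' : A *ᵥ z' = B *ᵥ z') (hd1 : A *ᵥ d1 = B *ᵥ d1) (hd2 : A *ᵥ d2 = B *ᵥ d2) :
    A = B := by
  apply mat_ext_mulVec
  intro y
  rw [h.expand hG y]
  simp only [Matrix.mulVec_add, Matrix.mulVec_smul, hz, hz', hd1, hd2]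

/-- a vector of `⟨d1, d2⟩` is nonsingular unless it is zero -/
lemma aniso' (hG : Gᵀ = G) (h : HFrame G z z' d1 d2) {α β : F}
    (hαβ : α ≠ 0 ∨ β ≠ 0) : fB G (α • d1 + β • d2) (α • d1 + β • d2) ≠ 0 := by
  intro h0
  have e : fB G (α • d1 + β • d2) (α • d1 + β • d2) = α ^ 2 * fB G d1 d1 + β ^ 2 * fB G d2 d2 := by
    simp only [fB_add_left, fB_add_right, fB_smul_left, fB_smul_right, h.d1d2, h.d2d1 hG]
    ring
  rw [e] at h0
  obtain ⟨ha, hb⟩ := h.aniso α β h0
  rcases hαβ with h' | h'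
  · exact h' ha
  · exact h' hb

end HFrame


/-! ## Siegel elements -/

section siegel

variable {b : ℕ} {G : Matrix (Fin b) (Fin b) F}

/-- the Siegel element `ρ_{z,e}`, a product of two reflections -/
def sg (G : Matrix (Fin b) (Fin b) F) (z e : Fin b → F) : Matrix (Fin b) (Fin b) F :=
  refl G e * refl G (e + (-(fB G e e) / 2) • z)

/-- the inverse of `sg` -/
def sgi (G : Matrix (Fin b) (Fin b) F) (z e : Fin b → F) : Matrix (Fin b) (Fin b) F :=
  refl G (e + (-(fB G e e) / 2) • z) * refl G e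

lemma fB_shift (hG : Gᵀ = G) {z e : Fin b → F} (hz : fB G z z = 0) (hez : fB G e z = 0) (t : F) :
    fB G (e + t • z) (e + t • z) = fB G e e := by
  have hze : fB G z e = 0 := by rw [fB_comm G hG]; exact hez
  simp only [fB_add_left, fB_add_right, fB_smul_left, fB_smul_right, hz, hez, hze]
  ring

lemma sg_mulVec (hG : Gᵀ = G) (h2 : (2 : F) ≠ 0) {z e : Fin b → F} (hz : fB G z z = 0)
    (hez : fB G e z = 0) (he : fB G e e ≠ 0) (x : Fin b → F) :
    sg G z e *ᵥ x = x + fB G x e • z - fB G x z • e - (fB G e e / 2 * fB G x z) • z := by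
  have hze : fB G z e = 0 := by rw [fB_comm G hG]; exact hez
  unfold sg
  rw [← Matrix.mulVec_mulVec, refl_mulVec', refl_mulVec', fB_shift hG hz hez]
  simp only [fB_sub_left, fB_add_left, fB_add_right, fB_smul_left, fB_smul_right, hz, hez, hze]
  ext i
  simp only [Pi.add_apply, Pi.sub_apply, Pi.smul_apply, smul_eq_mul]
  field_simp
  ring

lemma sgi_mulVec (hG : Gᵀ = G) (h2 : (2 : F) ≠ 0) {z e : Fin b → F} (hz : fB G z z = 0)
    (hez : fB G e z = 0) (he : fB G e e ≠ 0) (x : Fin b → F) :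
    sgi G z e *ᵥ x = x - fB G x e • z + fB G x z • e - (fB G e e / 2 * fB G x z) • z := by
  have hze : fB G z e = 0 := by rw [fB_comm G hG]; exact hez
  unfold sgi
  rw [← Matrix.mulVec_mulVec, refl_mulVec', refl_mulVec', fB_shift hG hz hez]
  simp only [fB_sub_left, fB_add_left, fB_add_right, fB_smul_left, fB_smul_right, hz, hez, hze]
  ext i
  simp only [Pi.add_apply, Pi.sub_apply, Pi.smul_apply, smul_eq_mul]
  field_simp
  ring

lemma sgi_mul_sg [Fintype F] (hG : Gᵀ = G) {z e : Fin b → F} (hz : fB G z z = 0)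
    (hez : fB G e z = 0) (he : fB G e e ≠ 0) : sgi G z e * sg G z e = 1 := by
  unfold sgi sg
  have h1 : fB G (e + (-(fB G e e) / 2) • z) (e + (-(fB G e e) / 2) • z) ≠ 0 := by
    rw [fB_shift hG hz hez]; exact he
  calc refl G (e + (-(fB G e e) / 2) • z) * refl G e * (refl G e * refl G (e + (-(fB G e e) / 2) • z))
      = refl G (e + (-(fB G e e) / 2) • z) * (refl G e * refl G e) *
          refl G (e + (-(fB G e e) / 2) • z) := by
        simp only [Matrix.mul_assoc]
    _ = 1 := by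
        rw [refl_mul_self hG he, Matrix.mul_one, refl_mul_self hG h1]

/-- the trace of a Siegel conjugate -/
lemma trace_sg_conj [Fintype F] (hG : Gᵀ = G) {z e : Fin b → F} (hz : fB G z z = 0)
    (hez : fB G e z = 0) (he : fB G e e ≠ 0) (X : Matrix (Fin b) (Fin b) F) :
    Matrix.trace (sg G z e * X * sgi G z e) = Matrix.trace X := by
  rw [Matrix.trace_mul_comm, ← Matrix.mul_assoc, sgi_mul_sg hG hz hez he, Matrix.one_mul]

/-- the Siegel conjugate of `X`, applied to a vector -/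
lemma sg_conj_mulVec (z e : Fin b → F) (X : Matrix (Fin b) (Fin b) F) (y : Fin b → F) :
    (sg G z e * X * sgi G z e - X) *ᵥ y = sg G z e *ᵥ (X *ᵥ (sgi G z e *ᵥ y)) - X *ᵥ y := by
  rw [Matrix.sub_mulVec, ← Matrix.mulVec_mulVec, ← Matrix.mulVec_mulVec]

/-- stability of `S` under Siegel conjugation, from stability under products of two reflections in vectors of equal norm -/
lemma sg_conj_mem (hG : Gᵀ = G) {S : Submodule F (Matrix (Fin b) (Fin b) F)}
    (hst : ∀ d d' : Fin b → F, fB G d d ≠ 0 → fB G d' d' = fB G d d → ∀ κ ∈ S,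
      (refl G d * refl G d') * κ * (refl G d' * refl G d) ∈ S)
    {z e : Fin b → F} (hz : fB G z z = 0) (hez : fB G e z = 0) (he : fB G e e ≠ 0)
    {X : Matrix (Fin b) (Fin b) F} (hX : X ∈ S) : sg G z e * X * sgi G z e - X ∈ S := by
  refine S.sub_mem ?_ hX
  unfold sg sgi
  exact hst _ _ he (fB_shift hG hz hez _) X hX

end siegel

end Cfsg.Agent.Lib.Helper1.OTLeaf
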