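import Mathlib
import Cfsg.Agent.Lib.Helper1.OTFrame

/-!
helper1, S5709 (LA'-4): the Siegel cascade.  For a hyperbolic frame `z, z', d1, d2` and a subspace `S` of matrices stable
under conjugation by products of two reflections, the operators `X ↦ ρ X ρ⁻¹ - X` (`ρ = ρ_{z,e}`) push an element of `S`
towards the highest weight.
-/

set_option autoImplicit false
set_option linter.unusedSectionVars false
set_option linter.unusedVariables false
set_option linter.unusedSimpArgs false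

namespace Cfsg.Agent.Lib.Helper1.OTLeaf
open Matrix
open Cfsg.Agent.Lib.Helper2.SOT Cfsg.Agent.Lib.Helper27.SOTLA Cfsg.Agent.Lib.Helper1.SOTLALeaf

variable {F : Type*} [Field F]

section general

variable {b : ℕ} {G : Matrix (Fin b) (Fin b) F}

/-- the Siegel difference operator -/
def dS (G : Matrix (Fin b) (Fin b) F) (z e : Fin b → F) (X : Matrix (Fin b) (Fin b) F) :
    Matrix (Fin b) (Fin b) F := sg G z e * X * sgi G z e - X

lemma dS_mem (hG : Gᵀ = G) {S : Submodule F (Matrix (Fin b) (Fin b) F)}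
    (hst : ∀ d d' : Fin b → F, fB G d d ≠ 0 → fB G d' d' = fB G d d → ∀ κ ∈ S,
      (refl G d * refl G d') * κ * (refl G d' * refl G d) ∈ S)
    {z e : Fin b → F} (hz : fB G z z = 0) (hez : fB G e z = 0) (he : fB G e e ≠ 0)
    {X : Matrix (Fin b) (Fin b) F} (hX : X ∈ S) : dS G z e X ∈ S :=
  sg_conj_mem hG hst hz hez he hX

lemma dS_z (hG : Gᵀ = G) (h2 : (2 : F) ≠ 0) {z e : Fin b → F} (hz : fB G z z = 0)
    (hez : fB G e z = 0) (he : fB G e e ≠ 0) (X : Matrix (Fin b) (Fin b) F) :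
    dS G z e X *ᵥ z = fB G (X *ᵥ z) e • z - fB G (X *ᵥ z) z • e -
      (fB G e e / 2 * fB G (X *ᵥ z) z) • z := by
  have hze : fB G z e = 0 := by rw [fB_comm G hG]; exact hez
  have e1 : sgi G z e *ᵥ z = z := by
    rw [sgi_mulVec hG h2 hz hez he, hze, hz]
    simp
  unfold dS
  rw [sg_conj_mulVec, e1, sg_mulVec hG h2 hz hez he]
  abel

lemma dS_perp (hG : Gᵀ = G) (h2 : (2 : F) ≠ 0) {z e : Fin b → F} (hz : fB G z z = 0)
    (hez : fB G e z = 0) (he : fB G e e ≠ 0) (X : Matrix (Fin b) (Fin b) F) {y : Fin b → F}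
    (hy : fB G y z = 0) :
    dS G z e X *ᵥ y = sg G z e *ᵥ (X *ᵥ y - fB G y e • X *ᵥ z) - X *ᵥ y := by
  have e1 : sgi G z e *ᵥ y = y - fB G y e • z := by
    rw [sgi_mulVec hG h2 hz hez he, hy]
    simp
  unfold dS
  rw [sg_conj_mulVec, e1, Matrix.mulVec_sub, Matrix.mulVec_smul]

lemma sg_z (hG : Gᵀ = G) (h2 : (2 : F) ≠ 0) {z e : Fin b → F} (hz : fB G z z = 0)
    (hez : fB G e z = 0) (he : fB G e e ≠ 0) : sg G z e *ᵥ z = z := by
  have hze : fB G z e = 0 := by rw [fB_comm G hG]; exact hez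
  rw [sg_mulVec hG h2 hz hez he, hze, hz]
  simp

lemma trace_dS [Fintype F] (hG : Gᵀ = G) {z e : Fin b → F} (hz : fB G z z = 0)
    (hez : fB G e z = 0) (he : fB G e e ≠ 0) (X : Matrix (Fin b) (Fin b) F) :
    Matrix.trace (dS G z e X) = 0 := by
  unfold dS
  rw [Matrix.trace_sub, trace_sg_conj hG hz hez he, sub_self]

end general


section frame

variable [Fintype F] {G : Matrix (Fin 4) (Fin 4) F} {z z' d1 d2 : Fin 4 → F}
  {S : Submodule F (Matrix (Fin 4) (Fin 4) F)}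

lemma HFrame.z_ne (h : HFrame G z z' d1 d2) : z ≠ 0 := by
  intro h0
  have := h.zz'
  rw [h0, fB_zero_left] at this
  exact zero_ne_one this

/-- stage B: if `X z ⊥ z` but `X z ∉ F z`, a Siegel difference of `X` has `z` as an eigenvector with nonzero eigenvalue -/
lemma stageB (hG : Gᵀ = G) (h2 : (2 : F) ≠ 0) (h : HFrame G z z' d1 d2)
    (hst : ∀ d d' : Fin 4 → F, fB G d d ≠ 0 → fB G d' d' = fB G d d → ∀ κ ∈ S,
      (refl G d * refl G d') * κ * (refl G d' * refl G d) ∈ S)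
    {X : Matrix (Fin 4) (Fin 4) F} (hX : X ∈ S) (hXz : fB G (X *ᵥ z) z = 0)
    (hne : fB G (X *ᵥ z) d1 ≠ 0 ∨ fB G (X *ᵥ z) d2 ≠ 0) :
    ∃ X1 ∈ S, ∃ c : F, c ≠ 0 ∧ X1 *ᵥ z = c • z ∧ Matrix.trace X1 = 0 := by
  have hn1 := h.n1
  have hn2 := h.n2
  set α : F := fB G (X *ᵥ z) d1 / fB G d1 d1 with hα
  set β : F := fB G (X *ᵥ z) d2 / fB G d2 d2 with hβ
  have hαβ : α ≠ 0 ∨ β ≠ 0 := by
    rcases hne with h' | h'
    · left; exact div_ne_zero h' hn1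
    · right; exact div_ne_zero h' hn2
  set e : Fin 4 → F := α • d1 + β • d2 with he
  have heN : fB G e e ≠ 0 := h.aniso' hG hαβ
  have hez : fB G e z = 0 := by
    rw [he, fB_add_left, fB_smul_left, fB_smul_left, h.d1z hG, h.d2z hG]
    ring
  have hc : fB G (X *ᵥ z) e = fB G e e := by
    rw [he]
    simp only [fB_add_left, fB_add_right, fB_smul_left, fB_smul_right, h.d1d2, h.d2d1 hG]
    rw [hα, hβ]
    field_simp
    ring
  refine ⟨dS G z e X, dS_mem hG hst h.zz hez heN hX, fB G e e, heN, ?_, trace_dS hG h.zz hez heN X⟩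
  rw [dS_z hG h2 h.zz hez heN, hXz, hc]
  simp


/-- the Siegel difference of a self-adjoint `X` with `X z = 0` -/
lemma dS_sa_key (hG : Gᵀ = G) (h2 : (2 : F) ≠ 0) {X : Matrix (Fin 4) (Fin 4) F} (hsa : IsSelfAdj G X)
    {z e : Fin 4 → F} (hz : fB G z z = 0) (hez : fB G e z = 0) (he : fB G e e ≠ 0) (hXz : X *ᵥ z = 0) :
    dS G z e X *ᵥ z = 0 ∧ ∀ y, fB G y z = 0 → dS G z e X *ᵥ y = fB G (X *ᵥ y) e • z := by
  constructor
  · rw [dS_z hG h2 hz hez he, hXz, fB_zero_left, fB_zero_left]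
    simp
  · intro y hy
    have h1 : fB G (X *ᵥ y) z = 0 := by
      rw [selfAdj_fB hsa, hXz, fB_zero_right]
    rw [dS_perp hG h2 hz hez he X hy, hXz, smul_zero, sub_zero, sg_mulVec hG h2 hz hez he, h1]
    simp

/-- stage C (self-adjoint) -/
lemma stageC_sa (hG : Gᵀ = G) (h2 : (2 : F) ≠ 0) (h : HFrame G z z' d1 d2)
    (hst : ∀ d d' : Fin 4 → F, fB G d d ≠ 0 → fB G d' d' = fB G d d → ∀ κ ∈ S,
      (refl G d * refl G d') * κ * (refl G d' * refl G d) ∈ S)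
    {X : Matrix (Fin 4) (Fin 4) F} (hX : X ∈ S) (hsa : IsSelfAdj G X) (hX0 : X ≠ 0)
    (hXz : X *ᵥ z = 0) :
    ∃ X1 ∈ S, X1 ≠ 0 ∧ X1 *ᵥ z = 0 ∧ ∃ φ1 φ2 : F, X1 *ᵥ d1 = φ1 • z ∧ X1 *ᵥ d2 = φ2 • z := by
  have hz0 := h.z_ne
  -- a Siegel difference works as soon as one of its values is non-zero
  have aux : ∀ e : Fin 4 → F, fB G e z = 0 → fB G e e ≠ 0 →
      (fB G (X *ᵥ d1) e ≠ 0 ∨ fB G (X *ᵥ d2) e ≠ 0) →
      ∃ X1 ∈ S, X1 ≠ 0 ∧ X1 *ᵥ z = 0 ∧ ∃ φ1 φ2 : F, X1 *ᵥ d1 = φ1 • z ∧ X1 *ᵥ d2 = φ2 • z := by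
    intro e hez he hne
    obtain ⟨k1, k2⟩ := dS_sa_key hG h2 hsa h.zz hez he hXz
    refine ⟨dS G z e X, dS_mem hG hst h.zz hez he hX, ?_, k1, _, _, k2 d1 (h.d1z hG), k2 d2 (h.d2z hG)⟩
    intro h0
    rcases hne with h' | h'
    · have := k2 d1 (h.d1z hG)
      rw [h0, Matrix.zero_mulVec] at this
      rcases smul_eq_zero.1 this.symm with h'' | h''
      · exact h' h''
      · exact hz0 h''
    · have := k2 d2 (h.d2z hG)
      rw [h0, Matrix.zero_mulVec] at this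
      rcases smul_eq_zero.1 this.symm with h'' | h''
      · exact h' h''
      · exact hz0 h''
  by_cases c1 : fB G (X *ᵥ d1) d1 ≠ 0 ∨ fB G (X *ᵥ d2) d1 ≠ 0
  · exact aux d1 (h.d1z hG) h.n1 c1
  by_cases c2 : fB G (X *ᵥ d1) d2 ≠ 0 ∨ fB G (X *ᵥ d2) d2 ≠ 0
  · exact aux d2 (h.d2z hG) h.n2 c2
  push Not at c1 c2
  have hperp : ∀ y, fB G (X *ᵥ y) z = 0 := by
    intro y
    rw [selfAdj_fB hsa, hXz, fB_zero_right]
  refine ⟨X, hX, hX0, hXz, fB G (X *ᵥ d1) z', fB G (X *ᵥ d2) z', ?_, ?_⟩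
  · have := h.expand hG (X *ᵥ d1)
    rw [hperp, c1.1, c2.1] at this
    simp only [zero_smul, zero_div, add_zero] at this
    exact this
  · have := h.expand hG (X *ᵥ d2)
    rw [hperp, c1.2, c2.2] at this
    simp only [zero_smul, zero_div, add_zero] at this
    exact this


/-- stage D, the computation: a Siegel difference of a weight-one element is a multiple of `z z^♭` -/
lemma stageD_sa_aux (hG : Gᵀ = G) (h2 : (2 : F) ≠ 0) (h : HFrame G z z' d1 d2)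
    {X : Matrix (Fin 4) (Fin 4) F} (hsa : IsSelfAdj G X) (hXz : X *ᵥ z = 0)
    {φ1 φ2 : F} (hX1 : X *ᵥ d1 = φ1 • z) (hX2 : X *ᵥ d2 = φ2 • z)
    {e : Fin 4 → F} (hez : fB G e z = 0) (hez' : fB G z' e = 0) (he : fB G e e ≠ 0) {φ : F}
    (hXe : X *ᵥ e = φ • z) : dS G z e X = (2 * φ) • rk1 G z z := by
  have hze : fB G z e = 0 := by rw [fB_comm G hG]; exact hez
  obtain ⟨k1, k2⟩ := dS_sa_key hG h2 hsa h.zz hez he hXz
  apply h.mat_ext hG
  · rw [k1, Matrix.smul_mulVec, rk1_mulVec, h.zz]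
    simp
  · -- on `z'`
    have e1 : sgi G z e *ᵥ z' = z' + e - (fB G e e / 2) • z := by
      rw [sgi_mulVec hG h2 h.zz hez he, hez', h.z'z_ hG]
      simp
    have e2 : X *ᵥ (z' + e - (fB G e e / 2) • z) = X *ᵥ z' + φ • z := by
      rw [Matrix.mulVec_sub, Matrix.mulVec_add, Matrix.mulVec_smul, hXz, hXe]
      simp
    have e3 : fB G (X *ᵥ z' + φ • z) e = φ := by
      rw [fB_add_left, fB_smul_left, hze, selfAdj_fB hsa, hXe, fB_smul_right, h.z'z_ hG]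
      ring
    have e4 : fB G (X *ᵥ z' + φ • z) z = 0 := by
      rw [fB_add_left, fB_smul_left, h.zz, selfAdj_fB hsa, hXz, fB_zero_right]
      ring
    unfold dS
    rw [sg_conj_mulVec, e1, e2, sg_mulVec hG h2 h.zz hez he, e3, e4, Matrix.smul_mulVec, rk1_mulVec,
      h.z'z_ hG]
    simp only [zero_smul, mul_zero, sub_zero, one_smul]
    rw [two_mul, add_smul]
    abel
  · rw [k2 d1 (h.d1z hG), hX1, fB_smul_left, hze, Matrix.smul_mulVec, rk1_mulVec, h.d1z hG]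
    simp
  · rw [k2 d2 (h.d2z hG), hX2, fB_smul_left, hze, Matrix.smul_mulVec, rk1_mulVec, h.d2z hG]
    simp

/-- stage D (self-adjoint): a non-zero element of weight `≥ 1` yields `z z^♭` -/
lemma stageD_sa (hG : Gᵀ = G) (h2 : (2 : F) ≠ 0) (h : HFrame G z z' d1 d2)
    (hst : ∀ d d' : Fin 4 → F, fB G d d ≠ 0 → fB G d' d' = fB G d d → ∀ κ ∈ S,
      (refl G d * refl G d') * κ * (refl G d' * refl G d) ∈ S)
    {X : Matrix (Fin 4) (Fin 4) F} (hX : X ∈ S) (hsa : IsSelfAdj G X) (hX0 : X ≠ 0)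
    (hXz : X *ᵥ z = 0) {φ1 φ2 : F} (hX1 : X *ᵥ d1 = φ1 • z) (hX2 : X *ᵥ d2 = φ2 • z) :
    rk1 G z z ∈ S := by
  by_cases c1 : φ1 ≠ 0
  · have := stageD_sa_aux hG h2 h hsa hXz hX1 hX2 (h.d1z hG) h.z'd1 h.n1 hX1
    have hm := dS_mem hG hst h.zz (h.d1z hG) h.n1 hX
    rw [this] at hm
    have e : rk1 G z z = (2 * φ1)⁻¹ • ((2 * φ1) • rk1 G z z) := by
      rw [smul_smul, inv_mul_cancel₀ (mul_ne_zero h2 c1), one_smul]
    rw [e]
    exact S.smul_mem _ hm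
  by_cases c2 : φ2 ≠ 0
  · have := stageD_sa_aux hG h2 h hsa hXz hX1 hX2 (h.d2z hG) h.z'd2 h.n2 hX2
    have hm := dS_mem hG hst h.zz (h.d2z hG) h.n2 hX
    rw [this] at hm
    have e : rk1 G z z = (2 * φ2)⁻¹ • ((2 * φ2) • rk1 G z z) := by
      rw [smul_smul, inv_mul_cancel₀ (mul_ne_zero h2 c2), one_smul]
    rw [e]
    exact S.smul_mem _ hm
  push Not at c1 c2
  rw [c1, zero_smul] at hX1
  rw [c2, zero_smul] at hX2
  -- `X = α z z^♭`
  have hXz' : X *ᵥ z' = fB G (X *ᵥ z') z' • z := by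
    have := h.expand hG (X *ᵥ z')
    rw [selfAdj_fB hsa z' z, hXz, fB_zero_right, selfAdj_fB hsa z' d1, hX1, fB_zero_right,
      selfAdj_fB hsa z' d2, hX2, fB_zero_right] at this
    simp only [zero_smul, zero_div, add_zero] at this
    exact this
  have hXeq : X = fB G (X *ᵥ z') z' • rk1 G z z := by
    apply h.mat_ext hG
    · rw [hXz, Matrix.smul_mulVec, rk1_mulVec, h.zz]
      simp
    · rw [Matrix.smul_mulVec, rk1_mulVec, h.z'z_ hG, one_smul]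
      exact hXz'
    · rw [hX1, Matrix.smul_mulVec, rk1_mulVec, h.d1z hG]
      simp
    · rw [hX2, Matrix.smul_mulVec, rk1_mulVec, h.d2z hG]
      simp
  have hα : fB G (X *ᵥ z') z' ≠ 0 := by
    intro h0
    rw [h0, zero_smul] at hXeq
    exact hX0 hXeq
  have e : rk1 G z z = (fB G (X *ᵥ z') z')⁻¹ • X := by
    nth_rewrite 2 [hXeq]
    rw [smul_smul, inv_mul_cancel₀ hα, one_smul]
  rw [e]
  exact S.smul_mem _ hX


/-- stage A (self-adjoint): if `f(X z, z) ≠ 0`, a Siegel difference `X1` has `X1 z ⊥ z`, `X1 z ∉ F z` -/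
lemma stageA_sa (hG : Gᵀ = G) (h2 : (2 : F) ≠ 0) (h : HFrame G z z' d1 d2)
    (hst : ∀ d d' : Fin 4 → F, fB G d d ≠ 0 → fB G d' d' = fB G d d → ∀ κ ∈ S,
      (refl G d * refl G d') * κ * (refl G d' * refl G d) ∈ S)
    {X : Matrix (Fin 4) (Fin 4) F} (hX : X ∈ S) (hXz : fB G (X *ᵥ z) z ≠ 0) :
    ∃ X1 ∈ S, fB G (X1 *ᵥ z) z = 0 ∧ fB G (X1 *ᵥ z) d1 ≠ 0 := by
  refine ⟨dS G z d1 X, dS_mem hG hst h.zz (h.d1z hG) h.n1 hX, ?_, ?_⟩
  · rw [dS_z hG h2 h.zz (h.d1z hG) h.n1]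
    simp only [fB_sub_left, fB_smul_left, h.zz, h.d1z hG]
    ring
  · rw [dS_z hG h2 h.zz (h.d1z hG) h.n1]
    simp only [fB_sub_left, fB_smul_left, h.zd1]
    have : fB G (X *ᵥ z) d1 * 0 - fB G (X *ᵥ z) z * fB G d1 d1 - fB G d1 d1 / 2 * fB G (X *ᵥ z) z * 0 =
        -(fB G (X *ᵥ z) z * fB G d1 d1) := by ring
    rw [this]
    exact neg_ne_zero.2 (mul_ne_zero hXz h.n1)

end frame

/-- **SA4**: in a 4-dimensional space of minus type (`q` odd, `q = 3` allowed) a subspace of self-adjoint matrices that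
contains `1` and a non-scalar matrix and is stable under conjugation by the products `r_d r_d'` of two reflections in vectors of EQUAL norm contains `z z^♭` for a
non-zero singular vector `z`. -/
theorem lemmaSA4_of_frame [Fintype F] {G : Matrix (Fin 4) (Fin 4) F} (hG : Gᵀ = G) (h2 : (2 : F) ≠ 0)
    {z z' d1 d2 : Fin 4 → F} (h : HFrame G z z' d1 d2)
    (S : Submodule F (Matrix (Fin 4) (Fin 4) F)) (hsa : ∀ σ ∈ S, IsSelfAdj G σ)
    (h1 : (1 : Matrix (Fin 4) (Fin 4) F) ∈ S)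
    (hst : ∀ d d' : Fin 4 → F, fB G d d ≠ 0 → fB G d' d' = fB G d d → ∀ κ ∈ S,
      (refl G d * refl G d') * κ * (refl G d' * refl G d) ∈ S)
    {σ : Matrix (Fin 4) (Fin 4) F} (hσ : σ ∈ S) (hns : ¬ IsScal σ) : rk1 G z z ∈ S := by
  have h4 : (4 : F) ≠ 0 := by
    have : (4 : F) = 2 * 2 := by norm_num
    rw [this]
    exact mul_ne_zero h2 h2
  -- from weight `≥ 0` with `X z = 0`
  have claimC : ∀ X ∈ S, X ≠ 0 → X *ᵥ z = 0 → rk1 G z z ∈ S := by
    intro X hX hX0 hXz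
    obtain ⟨X1, hX1, hX10, hX1z, φ1, φ2, e1, e2⟩ := stageC_sa hG h2 h hst hX (hsa X hX) hX0 hXz
    exact stageD_sa hG h2 h hst hX1 (hsa X1 hX1) hX10 hX1z e1 e2
  -- from weight `≥ -1`
  have claimB : ∀ X ∈ S, fB G (X *ᵥ z) z = 0 →
      (fB G (X *ᵥ z) d1 ≠ 0 ∨ fB G (X *ᵥ z) d2 ≠ 0) → rk1 G z z ∈ S := by
    intro X hX hXz hne
    obtain ⟨X1, hX1, c, hc, hX1z, htr⟩ := stageB hG h2 h hst hX hXz hne
    refine claimC (X1 - c • 1) (S.sub_mem hX1 (S.smul_mem c h1)) ?_ ?_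
    · intro h0
      have e : X1 = c • 1 := sub_eq_zero.1 h0
      rw [e, Matrix.trace_smul, Matrix.trace_one, Fintype.card_fin, smul_eq_mul] at htr
      rcases mul_eq_zero.1 htr with h' | h'
      · exact hc h'
      · apply h4
        exact_mod_cast h'
    · rw [Matrix.sub_mulVec, hX1z, Matrix.smul_mulVec, Matrix.one_mulVec, sub_self]
  by_cases hA : fB G (σ *ᵥ z) z = 0
  · by_cases hB : fB G (σ *ᵥ z) d1 ≠ 0 ∨ fB G (σ *ᵥ z) d2 ≠ 0
    · exact claimB σ hσ hA hB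
    · push Not at hB
      have hσz : σ *ᵥ z = fB G (σ *ᵥ z) z' • z := by
        have := h.expand hG (σ *ᵥ z)
        rw [hA, hB.1, hB.2] at this
        simp only [zero_smul, zero_div, add_zero] at this
        exact this
      refine claimC (σ - fB G (σ *ᵥ z) z' • 1) (S.sub_mem hσ (S.smul_mem _ h1)) ?_ ?_
      · intro h0
        exact hns ⟨_, sub_eq_zero.1 h0⟩
      · rw [Matrix.sub_mulVec, Matrix.smul_mulVec, Matrix.one_mulVec]
        exact sub_eq_zero.2 hσz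
  · obtain ⟨X1, hX1, e1, e2⟩ := stageA_sa hG h2 h hst hσ hA
    exact claimB X1 hX1 e1 (Or.inl e2)


/-- **SA4**: in a 4-dimensional space of minus type (`q` odd, `q = 3` allowed) a subspace of self-adjoint matrices that
contains `1` and a non-scalar matrix and is stable under conjugation by the products `r_d r_d'` of two reflections in vectors
of EQUAL norm contains `z z^♭` for a non-zero singular vector `z`. -/
theorem lemmaSA4 [Fintype F] {G : Matrix (Fin 4) (Fin 4) F} (hG : Gᵀ = G) (h2 : (2 : F) ≠ 0)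
    (hdisc : ¬ IsSquare G.det)
    (S : Submodule F (Matrix (Fin 4) (Fin 4) F)) (hsa : ∀ σ ∈ S, IsSelfAdj G σ)
    (h1 : (1 : Matrix (Fin 4) (Fin 4) F) ∈ S)
    (hst : ∀ d d' : Fin 4 → F, fB G d d ≠ 0 → fB G d' d' = fB G d d → ∀ κ ∈ S,
      (refl G d * refl G d') * κ * (refl G d' * refl G d) ∈ S)
    {σ : Matrix (Fin 4) (Fin 4) F} (hσ : σ ∈ S) (hns : ¬ IsScal σ) :
    ∃ z : Fin 4 → F, z ≠ 0 ∧ fB G z z = 0 ∧ rk1 G z z ∈ S := by
  obtain ⟨z, z', d1, d2, h⟩ := exists_hframe hG h2 hdisc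
  exact ⟨z, h.z_ne, h.zz, lemmaSA4_of_frame hG h2 h S hsa h1 hst hσ hns⟩

section frame_skew

variable [Fintype F] {G : Matrix (Fin 4) (Fin 4) F} {z z' d1 d2 : Fin 4 → F}
  {S : Submodule F (Matrix (Fin 4) (Fin 4) F)}

lemma skew_self (hG : Gᵀ = G) (h2 : (2 : F) ≠ 0) {X : Matrix (Fin 4) (Fin 4) F} (hsk : IsSkewAdj G X)
    (y : Fin 4 → F) : fB G (X *ᵥ y) y = 0 := by
  have := skewAdj_fB hsk y y
  rw [fB_comm G hG y (X *ᵥ y)] at this
  have e : 2 * fB G (X *ᵥ y) y = 0 := by linear_combination this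
  rcases mul_eq_zero.1 e with h' | h'
  · exact absurd h' h2
  · exact h'

/-- the Siegel difference of a skew-adjoint `X` with `X z = γ z` -/
lemma dS_sk_key (hG : Gᵀ = G) (h2 : (2 : F) ≠ 0) {X : Matrix (Fin 4) (Fin 4) F} (hsk : IsSkewAdj G X)
    {z e : Fin 4 → F} (hz : fB G z z = 0) (hez : fB G e z = 0) (he : fB G e e ≠ 0) {γ : F}
    (hXz : X *ᵥ z = γ • z) :
    dS G z e X *ᵥ z = 0 ∧
      ∀ y, fB G y z = 0 → dS G z e X *ᵥ y = (fB G (X *ᵥ y) e - γ * fB G y e) • z := by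
  have hze : fB G z e = 0 := by rw [fB_comm G hG]; exact hez
  constructor
  · rw [dS_z hG h2 hz hez he, hXz, fB_smul_left, fB_smul_left, hze, hz]
    simp
  · intro y hy
    have h1 : fB G (X *ᵥ y) z = 0 := by
      rw [skewAdj_fB hsk, hXz, fB_smul_right, hy]
      ring
    have h3 : fB G (X *ᵥ y - fB G y e • γ • z) e = fB G (X *ᵥ y) e := by
      rw [fB_sub_left, fB_smul_left, fB_smul_left, hze]
      ring
    have h4 : fB G (X *ᵥ y - fB G y e • γ • z) z = 0 := by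
      rw [fB_sub_left, fB_smul_left, fB_smul_left, hz, h1]
      ring
    rw [dS_perp hG h2 hz hez he X hy, hXz, sg_mulVec hG h2 hz hez he, h3, h4]
    simp only [zero_smul, mul_zero, sub_zero]
    rw [sub_smul, mul_smul, smul_comm γ]
    abel

/-- stage C (skew-adjoint) -/
lemma stageC_sk (hG : Gᵀ = G) (h2 : (2 : F) ≠ 0) (h : HFrame G z z' d1 d2)
    (hst : ∀ d d' : Fin 4 → F, fB G d d ≠ 0 → fB G d' d' = fB G d d → ∀ κ ∈ S,
      (refl G d * refl G d') * κ * (refl G d' * refl G d) ∈ S)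
    {X : Matrix (Fin 4) (Fin 4) F} (hX : X ∈ S) (hsk : IsSkewAdj G X) (hX0 : X ≠ 0) {γ : F}
    (hXz : X *ᵥ z = γ • z) :
    ∃ X1 ∈ S, X1 ≠ 0 ∧ X1 *ᵥ z = 0 ∧ ∃ φ1 φ2 : F, X1 *ᵥ d1 = φ1 • z ∧ X1 *ᵥ d2 = φ2 • z := by
  have hz0 := h.z_ne
  have aux : ∀ e : Fin 4 → F, fB G e z = 0 → fB G e e ≠ 0 →
      (fB G (X *ᵥ d1) e - γ * fB G d1 e ≠ 0 ∨ fB G (X *ᵥ d2) e - γ * fB G d2 e ≠ 0) →
      ∃ X1 ∈ S, X1 ≠ 0 ∧ X1 *ᵥ z = 0 ∧ ∃ φ1 φ2 : F, X1 *ᵥ d1 = φ1 • z ∧ X1 *ᵥ d2 = φ2 • z := by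
    intro e hez he hne
    obtain ⟨k1, k2⟩ := dS_sk_key hG h2 hsk h.zz hez he hXz
    refine ⟨dS G z e X, dS_mem hG hst h.zz hez he hX, ?_, k1, _, _, k2 d1 (h.d1z hG), k2 d2 (h.d2z hG)⟩
    intro h0
    rcases hne with h' | h'
    · have := k2 d1 (h.d1z hG)
      rw [h0, Matrix.zero_mulVec] at this
      rcases smul_eq_zero.1 this.symm with h'' | h''
      · exact h' h''
      · exact hz0 h''
    · have := k2 d2 (h.d2z hG)
      rw [h0, Matrix.zero_mulVec] at this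
      rcases smul_eq_zero.1 this.symm with h'' | h''
      · exact h' h''
      · exact hz0 h''
  by_cases c1 : fB G (X *ᵥ d1) d1 - γ * fB G d1 d1 ≠ 0 ∨ fB G (X *ᵥ d2) d1 - γ * fB G d2 d1 ≠ 0
  · exact aux d1 (h.d1z hG) h.n1 c1
  by_cases c2 : fB G (X *ᵥ d1) d2 - γ * fB G d1 d2 ≠ 0 ∨ fB G (X *ᵥ d2) d2 - γ * fB G d2 d2 ≠ 0
  · exact aux d2 (h.d2z hG) h.n2 c2
  push Not at c1 c2
  have hγ : γ = 0 := by
    have e := c1.1
    rw [skew_self hG h2 hsk d1] at e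
    have : γ * fB G d1 d1 = 0 := by linear_combination -e
    rcases mul_eq_zero.1 this with h' | h'
    · exact h'
    · exact absurd h' h.n1
  rw [hγ] at c1 c2 hXz
  rw [zero_smul] at hXz
  simp only [zero_mul, sub_zero] at c1 c2
  have hperp : ∀ y, fB G (X *ᵥ y) z = 0 := by
    intro y
    rw [skewAdj_fB hsk, hXz, fB_zero_right, neg_zero]
  refine ⟨X, hX, hX0, hXz, fB G (X *ᵥ d1) z', fB G (X *ᵥ d2) z', ?_, ?_⟩
  · have := h.expand hG (X *ᵥ d1)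
    rw [hperp, c1.1, c2.1] at this
    simp only [zero_smul, zero_div, add_zero] at this
    exact this
  · have := h.expand hG (X *ᵥ d2)
    rw [hperp, c1.2, c2.2] at this
    simp only [zero_smul, zero_div, add_zero] at this
    exact this

/-- stage D (skew-adjoint): a non-zero skew element of weight one is `z ∧ β`, `β ∈ ⟨d1, d2⟩` -/
lemma stageD_sk (hG : Gᵀ = G) (h2 : (2 : F) ≠ 0) (h : HFrame G z z' d1 d2)
    {X : Matrix (Fin 4) (Fin 4) F} (hsk : IsSkewAdj G X) (hX0 : X ≠ 0)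
    (hXz : X *ᵥ z = 0) {φ1 φ2 : F} (hX1 : X *ᵥ d1 = φ1 • z) (hX2 : X *ᵥ d2 = φ2 • z) :
    ∃ β : Fin 4 → F, fB G β β ≠ 0 ∧ fB G z β = 0 ∧ X = rk1 G z β - rk1 G β z := by
  have hn1 := h.n1
  have hn2 := h.n2
  set β : Fin 4 → F := (φ1 / fB G d1 d1) • d1 + (φ2 / fB G d2 d2) • d2 with hβ
  have hzβ : fB G z β = 0 := by
    rw [hβ, fB_add_right, fB_smul_right, fB_smul_right, h.zd1, h.zd2]
    ring
  have hz'β : fB G z' β = 0 := by
    rw [hβ, fB_add_right, fB_smul_right, fB_smul_right, h.z'd1, h.z'd2]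
    ring
  have hd1β : fB G d1 β = φ1 := by
    rw [hβ, fB_add_right, fB_smul_right, fB_smul_right, h.d1d2]
    field_simp
    ring
  have hd2β : fB G d2 β = φ2 := by
    rw [hβ, fB_add_right, fB_smul_right, fB_smul_right, h.d2d1 hG]
    field_simp
    ring
  have hXz' : X *ᵥ z' = -β := by
    have := h.expand hG (X *ᵥ z')
    rw [skew_self hG h2 hsk z', skewAdj_fB hsk z' z, hXz, fB_zero_right, skewAdj_fB hsk z' d1, hX1,
      fB_smul_right, skewAdj_fB hsk z' d2, hX2, fB_smul_right, h.z'z_ hG] at this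
    rw [this, hβ]
    simp only [zero_smul, neg_zero, zero_add, mul_one, neg_div, neg_smul, neg_add]
  have hXeq : X = rk1 G z β - rk1 G β z := by
    apply h.mat_ext hG
    · rw [hXz, Matrix.sub_mulVec, rk1_mulVec, rk1_mulVec, hzβ, h.zz]
      simp
    · rw [hXz', Matrix.sub_mulVec, rk1_mulVec, rk1_mulVec, hz'β, h.z'z_ hG]
      simp
    · rw [hX1, Matrix.sub_mulVec, rk1_mulVec, rk1_mulVec, hd1β, h.d1z hG]
      simp
    · rw [hX2, Matrix.sub_mulVec, rk1_mulVec, rk1_mulVec, hd2β, h.d2z hG]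
      simp
  refine ⟨β, ?_, hzβ, hXeq⟩
  apply h.aniso' hG
  by_contra hcon
  push Not at hcon
  apply hX0
  rw [hXeq, hβ, hcon.1, hcon.2]
  simp only [zero_smul, add_zero, rk1_zero_right, rk1_zero_left, sub_zero]

end frame_skew

/-- **SK4**: in a 4-dimensional space of minus type (`q` odd, `q = 3` allowed) a non-zero subspace of skew-adjoint matrices that
is stable under conjugation by the products `r_d r_d'` of two reflections in vectors of EQUAL norm contains `x d^♭ - d x^♭` for a nonsingular `d` and a non-zero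
(singular) `x ⊥ d`. -/
theorem lemmaSK4_of_frame [Fintype F] {G : Matrix (Fin 4) (Fin 4) F} (hG : Gᵀ = G) (h2 : (2 : F) ≠ 0)
    {z z' d1 d2 : Fin 4 → F} (h : HFrame G z z' d1 d2)
    (S : Submodule F (Matrix (Fin 4) (Fin 4) F)) (hsk : ∀ κ ∈ S, IsSkewAdj G κ)
    (hst : ∀ d d' : Fin 4 → F, fB G d d ≠ 0 → fB G d' d' = fB G d d → ∀ κ ∈ S,
      (refl G d * refl G d') * κ * (refl G d' * refl G d) ∈ S)
    {κ : Matrix (Fin 4) (Fin 4) F} (hκ : κ ∈ S) (hne : κ ≠ 0) :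
    ∃ d : Fin 4 → F, fB G d d ≠ 0 ∧ fB G z d = 0 ∧ rk1 G z d - rk1 G d z ∈ S := by
  have claimC : ∀ X ∈ S, X ≠ 0 → ∀ γ : F, X *ᵥ z = γ • z →
      ∃ d : Fin 4 → F, fB G d d ≠ 0 ∧ fB G z d = 0 ∧ rk1 G z d - rk1 G d z ∈ S := by
    intro X hX hX0 γ hXz
    obtain ⟨X1, hX1, hX10, hX1z, φ1, φ2, e1, e2⟩ := stageC_sk hG h2 h hst hX (hsk X hX) hX0 hXz
    obtain ⟨β, hβ, hzβ, hXeq⟩ := stageD_sk hG h2 h (hsk X1 hX1) hX10 hX1z e1 e2
    refine ⟨β, hβ, hzβ, ?_⟩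
    rw [← hXeq]
    exact hX1
  by_cases hB : fB G (κ *ᵥ z) d1 ≠ 0 ∨ fB G (κ *ᵥ z) d2 ≠ 0
  · obtain ⟨X1, hX1, c, hc, hX1z, -⟩ := stageB hG h2 h hst hκ (skew_self hG h2 (hsk κ hκ) z) hB
    refine claimC X1 hX1 ?_ c hX1z
    intro h0
    rw [h0, Matrix.zero_mulVec] at hX1z
    rcases smul_eq_zero.1 hX1z.symm with h' | h'
    · exact hc h'
    · exact h.z_ne h'
  · push Not at hB
    have hκz : κ *ᵥ z = fB G (κ *ᵥ z) z' • z := by
      have := h.expand hG (κ *ᵥ z)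
      rw [skew_self hG h2 (hsk κ hκ) z, hB.1, hB.2] at this
      simp only [zero_smul, zero_div, add_zero] at this
      exact this
    exact claimC κ hκ hne _ hκz


/-- **SK4**: in a 4-dimensional space of minus type (`q` odd, `q = 3` allowed) a non-zero subspace of skew-adjoint matrices that
is stable under conjugation by the products `r_d r_d'` of two reflections in vectors of EQUAL norm contains `x d^♭ - d x^♭` for a
nonsingular `d` and a non-zero singular `x ⊥ d`. -/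
theorem lemmaSK4 [Fintype F] {G : Matrix (Fin 4) (Fin 4) F} (hG : Gᵀ = G) (h2 : (2 : F) ≠ 0)
    (hdisc : ¬ IsSquare G.det)
    (S : Submodule F (Matrix (Fin 4) (Fin 4) F)) (hsk : ∀ κ ∈ S, IsSkewAdj G κ)
    (hst : ∀ d d' : Fin 4 → F, fB G d d ≠ 0 → fB G d' d' = fB G d d → ∀ κ ∈ S,
      (refl G d * refl G d') * κ * (refl G d' * refl G d) ∈ S)
    {κ : Matrix (Fin 4) (Fin 4) F} (hκ : κ ∈ S) (hne : κ ≠ 0) :
    ∃ d x : Fin 4 → F, fB G d d ≠ 0 ∧ x ≠ 0 ∧ fB G x x = 0 ∧ fB G x d = 0 ∧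
      rk1 G x d - rk1 G d x ∈ S := by
  obtain ⟨z, z', d1, d2, h⟩ := exists_hframe hG h2 hdisc
  obtain ⟨d, hd, hzd, hmem⟩ := lemmaSK4_of_frame hG h2 h S hsk hst hκ hne
  exact ⟨d, z, hd, h.z_ne, h.zz, hzd, hmem⟩

end Cfsg.Agent.Lib.Helper1.OTLeaf
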