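import Mathlib
import Cfsg.Prelude.Def_ClassicalGeometry
import Cfsg.Prelude.Def_GeometricClasses
import Cfsg.Agent.Lib.Helper13.DkGen
import Cfsg.Agent.Lib.Helper20.Om7S.Wrap
import Cfsg.Agent.Lib.Helper20.Om7S.KDefs

set_option linter.dupNamespace false
set_option linter.ambiguousOpen false

namespace Cfsg.Agent.Lib.Helper20.Om7S

set_option autoImplicit false
set_option linter.unusedSectionVars false
set_option linter.unusedVariables false
set_option linter.unusedSimpArgs false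

open Cfsg Matrix QuadraticMap Module Cfsg.Agent.Lib.Helper25.Siegel Cfsg.Agent.Lib.Helper19.OSub
open _root_.Cfsg _root_.Cfsg.Agent.Lib.Helper25.Siegel
open Cfsg.Agent.Lib.Helper26.OSubLeaf
open S7

namespace Cfsg.Agent.Lib.Helper1.Om7Leaf

/-!
helper1: leaf K1a of helper20's `notes/Om7S_leaves.lean` (S5813, subfield block): the embedding `SL₂(F) → GL(V)` attached
to a `Quad`.
-/

variable {ι : Type} [Fintype ι] [DecidableEq ι] {F : Type*} [Field F] [Fintype F]
  {F₀ : Subfield F} {Q : QuadraticForm F (ι → F)} {M : Subgroup (GL ι F)}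

/-- the linear map attached to a `2 × 2` matrix `S`: `S` on `⟨v', u⟩`, `diag(1,-1) S diag(1,-1)` on `⟨u', v⟩`, the
identity on the orthogonal complement -/
noncomputable def k1aL (Q : QuadraticForm F (ι → F)) (u v u' v' : ι → F)
    (S : Matrix (Fin 2) (Fin 2) F) : (ι → F) →ₗ[F] (ι → F) :=
  LinearMap.id
    + (polarBilin Q u').smulRight ((S 1 1 - 1) • u + S 0 1 • v')
    + (polarBilin Q v').smulRight ((S 1 1 - 1) • v - S 0 1 • u')
    + (polarBilin Q u).smulRight ((S 0 0 - 1) • u' - S 1 0 • v)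
    + (polarBilin Q v).smulRight ((S 0 0 - 1) • v' + S 1 0 • u)

theorem k1aL_apply (u v u' v' : ι → F) (S : Matrix (Fin 2) (Fin 2) F) (x : ι → F) :
    k1aL Q u v u' v' S x = x
      + polar Q u' x • ((S 1 1 - 1) • u + S 0 1 • v')
      + polar Q v' x • ((S 1 1 - 1) • v - S 0 1 • u')
      + polar Q u x • ((S 0 0 - 1) • u' - S 1 0 • v)
      + polar Q v x • ((S 0 0 - 1) • v' + S 1 0 • u) := by
  simp [k1aL, polarBilin_apply_apply]

section vals
variable {u v u' v' : ι → F} (hq : Quad Q u v u' v')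
include hq

theorem k1a_uu : polar Q u u = 0 := by rw [polar_self, hq.Qu, smul_zero]
theorem k1a_vv : polar Q v v = 0 := by rw [polar_self, hq.Qv, smul_zero]
theorem k1a_u'u' : polar Q u' u' = 0 := by rw [polar_self, hq.Qu', smul_zero]
theorem k1a_v'v' : polar Q v' v' = 0 := by rw [polar_self, hq.Qv', smul_zero]
theorem k1a_vu : polar Q v u = 0 := by rw [polar_comm, hq.uv]
theorem k1a_v'u' : polar Q v' u' = 0 := by rw [polar_comm, hq.u'v']
theorem k1a_u'u : polar Q u' u = 1 := by rw [polar_comm, hq.uu']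
theorem k1a_v'v : polar Q v' v = 1 := by rw [polar_comm, hq.vv']
theorem k1a_v'u : polar Q v' u = 0 := by rw [polar_comm, hq.uv']
theorem k1a_u'v : polar Q u' v = 0 := by rw [polar_comm, hq.vu']

/-- the four coordinates of the image -/
theorem k1a_coord (S : Matrix (Fin 2) (Fin 2) F) (x : ι → F) :
    polar Q u' (k1aL Q u v u' v' S x) = polar Q u' x * S 1 1 + polar Q v x * S 1 0 ∧
    polar Q v' (k1aL Q u v u' v' S x) = polar Q v' x * S 1 1 - polar Q u x * S 1 0 ∧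
    polar Q u (k1aL Q u v u' v' S x) = polar Q u x * S 0 0 - polar Q v' x * S 0 1 ∧
    polar Q v (k1aL Q u v u' v' S x) = polar Q v x * S 0 0 + polar Q u' x * S 0 1 := by
  rw [k1aL_apply]
  simp only [polar_add_right, polar_smul_right, polar_sub_right, smul_eq_mul, k1a_uu hq, k1a_vv hq,
    k1a_u'u' hq, k1a_v'v' hq, k1a_vu hq, k1a_v'u' hq, k1a_u'u hq, k1a_v'v hq, k1a_v'u hq,
    k1a_u'v hq, hq.uv, hq.u'v', hq.uu', hq.vv', hq.uv', hq.vu']
  refine ⟨?_, ?_, ?_, ?_⟩ <;> ring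

theorem k1aL_mul (S T : Matrix (Fin 2) (Fin 2) F) :
    k1aL Q u v u' v' (S * T) = (k1aL Q u v u' v' S) * (k1aL Q u v u' v' T) := by
  apply LinearMap.ext
  intro x
  rw [Module.End.mul_apply]
  obtain ⟨h1, h2, h3, h4⟩ := k1a_coord hq T x
  rw [k1aL_apply (S := S), h1, h2, h3, h4, k1aL_apply, k1aL_apply]
  funext i
  simp only [Pi.add_apply, Pi.smul_apply, Pi.sub_apply, smul_eq_mul, Matrix.mul_apply,
    Fin.sum_univ_two]
  ring

end vals

theorem k1aL_one (u v u' v' : ι → F) : k1aL Q u v u' v' 1 = 1 := by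
  apply LinearMap.ext
  intro x
  rw [k1aL_apply]
  simp

/-- the monoid hom on matrices -/
noncomputable def k1aHom {u v u' v' : ι → F} (hq : Quad Q u v u' v') :
    Matrix (Fin 2) (Fin 2) F →* Matrix ι ι F where
  toFun S := LinearMap.toMatrix' (k1aL Q u v u' v' S)
  map_one' := by rw [k1aL_one]; exact LinearMap.toMatrix'_one
  map_mul' S T := by rw [k1aL_mul hq, LinearMap.toMatrix'_mul]

/-- K1a: the embedding `SL₂(F) → GL(V)` attached to a `Quad` -/
theorem k1a_hom {u v u' v' : ι → F} (hq : Quad Q u v u' v') :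
    ∃ φ : Matrix.SpecialLinearGroup (Fin 2) F →* GL ι F,
      (∀ c : F, φ (Cfsg.Agent.Lib.Helper13.lSL (-c)) = rt Q u v c) ∧
      (∀ c : F, φ (Cfsg.Agent.Lib.Helper13.tSL c) = rt Q u' v' c) ∧
      ∀ S : Matrix.SpecialLinearGroup (Fin 2) F,
        mv (φ S) u = (S : Matrix (Fin 2) (Fin 2) F) 1 1 • u + (S : Matrix (Fin 2) (Fin 2) F) 0 1 • v' ∧
        mv (φ S) v' = (S : Matrix (Fin 2) (Fin 2) F) 0 0 • v' + (S : Matrix (Fin 2) (Fin 2) F) 1 0 • u ∧
        mv (φ S) v = (S : Matrix (Fin 2) (Fin 2) F) 1 1 • v - (S : Matrix (Fin 2) (Fin 2) F) 0 1 • u' ∧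
        mv (φ S) u' = (S : Matrix (Fin 2) (Fin 2) F) 0 0 • u' - (S : Matrix (Fin 2) (Fin 2) F) 1 0 • v ∧
        ∀ x, polar Q u x = 0 → polar Q v x = 0 → polar Q u' x = 0 → polar Q v' x = 0 →
          mv (φ S) x = x := by
  classical
  let φ : Matrix.SpecialLinearGroup (Fin 2) F →* GL ι F :=
    (Units.map (k1aHom hq)).comp Matrix.SpecialLinearGroup.toGL
  have hmv : ∀ (S : Matrix.SpecialLinearGroup (Fin 2) F) (x : ι → F),
      mv (φ S) x = k1aL Q u v u' v' (S : Matrix (Fin 2) (Fin 2) F) x := by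
    intro S x
    show (LinearMap.toMatrix' (k1aL Q u v u' v' (S : Matrix (Fin 2) (Fin 2) F))) *ᵥ x = _
    rw [LinearMap.toMatrix'_mulVec]
  refine ⟨φ, ?_, ?_, ?_⟩
  · intro c
    apply gl_ext
    intro x
    rw [hmv, mv_rt hq.Qu hq.Qv hq.uv, k1aL_apply]
    funext i
    simp [Cfsg.Agent.Lib.Helper13.lSL_coe]
    ring
  · intro c
    apply gl_ext
    intro x
    rw [hmv, mv_rt hq.Qu' hq.Qv' hq.u'v', k1aL_apply]
    funext i
    simp [Cfsg.Agent.Lib.Helper13.tSL_coe]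
    ring
  · intro S
    refine ⟨?_, ?_, ?_, ?_, ?_⟩
    · rw [hmv, k1aL_apply]
      simp only [k1a_uu hq, k1a_vv hq, k1a_u'u' hq, k1a_v'v' hq, k1a_vu hq, k1a_v'u' hq,
        k1a_u'u hq, k1a_v'v hq, k1a_v'u hq, k1a_u'v hq, hq.uv, hq.u'v', hq.uu', hq.vv', hq.uv',
        hq.vu']
      funext i
      simp
      ring
    · rw [hmv, k1aL_apply]
      simp only [k1a_uu hq, k1a_vv hq, k1a_u'u' hq, k1a_v'v' hq, k1a_vu hq, k1a_v'u' hq,
        k1a_u'u hq, k1a_v'v hq, k1a_v'u hq, k1a_u'v hq, hq.uv, hq.u'v', hq.uu', hq.vv', hq.uv',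
        hq.vu']
      funext i
      simp
      ring
    · rw [hmv, k1aL_apply]
      simp only [k1a_uu hq, k1a_vv hq, k1a_u'u' hq, k1a_v'v' hq, k1a_vu hq, k1a_v'u' hq,
        k1a_u'u hq, k1a_v'v hq, k1a_v'u hq, k1a_u'v hq, hq.uv, hq.u'v', hq.uu', hq.vv', hq.uv',
        hq.vu']
      funext i
      simp
      ring
    · rw [hmv, k1aL_apply]
      simp only [k1a_uu hq, k1a_vv hq, k1a_u'u' hq, k1a_v'v' hq, k1a_vu hq, k1a_v'u' hq,
        k1a_u'u hq, k1a_v'v hq, k1a_v'u hq, k1a_u'v hq, hq.uv, hq.u'v', hq.uu', hq.vv', hq.uv',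
        hq.vu']
      funext i
      simp
      ring
    · intro x h1 h2 h3 h4
      rw [hmv, k1aL_apply, h1, h2, h3, h4]
      simp

end Cfsg.Agent.Lib.Helper1.Om7Leaf

end Cfsg.Agent.Lib.Helper20.Om7S
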