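import Mathlib
import Cfsg.Prelude.Def_GeometricClasses

/-!
# OmOddMax market (helper20), block T: T1 `omega_inf_scalars` (helper1).
Exact signature of `notes/OmOddMax_leaves.lean`.
-/

set_option autoImplicit false
set_option linter.unusedSectionVars false
set_option linter.unusedVariables false

namespace Cfsg.Agent.Lib.Helper1.OmMLeaf

open Cfsg Cfsg.Geo Matrix Module QuadraticMap

section generic
variable {ι : Type} [Fintype ι] [DecidableEq ι] {F : Type*} [Field F]

/-- elements of `Ω` have determinant one (any function `Q`) -/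
theorem det_eq_one_of_mem_omegaGL (Q : (ι → F) → F) {g : GL ι F} (hg : g ∈ omegaGL Q) :
    Matrix.GeneralLinearGroup.det g = 1 := by
  obtain ⟨g', hg', rfl⟩ := Subgroup.mem_map.mp hg
  have := Abelianization.commutator_subset_ker
    (Matrix.GeneralLinearGroup.det.comp (isometryGroup F Q).subtype) hg'
  exact this

/-- elements of `Ω` are isometries (any function `Q`) -/
theorem isometry_of_mem_omegaGL (Q : (ι → F) → F) {g : GL ι F} (hg : g ∈ omegaGL Q) (v : ι → F) :
    Q ((g : Matrix ι ι F) *ᵥ v) = Q v := by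
  obtain ⟨g', hg', rfl⟩ := Subgroup.mem_map.mp hg
  exact g'.2 v v

variable [Fintype F] (Q : QuadraticForm F (ι → F))

/-- T1.  `g = c • 1 ∈ Ω`: `Q (c v) = c² Q v = Q v` with `Q v ≠ 0` gives `c² = 1`; `det g = c^n = 1`; `n` odd: `c = 1`. -/
theorem omega_inf_scalars (hQ : (polarBilin Q).Nondegenerate) (hodd : Odd (Fintype.card ι)) :
    scalars ι F ⊓ omegaGL ⇑Q = ⊥ := by
  rw [eq_bot_iff]
  rintro g ⟨hs, ho⟩
  rw [Subgroup.mem_bot]
  obtain ⟨c, hc⟩ := (mem_scalars_iff g).1 hs
  have hdet := det_eq_one_of_mem_omegaGL (⇑Q) ho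
  have hiso := isometry_of_mem_omegaGL (⇑Q) ho
  have hne : Nonempty ι := by
    rw [← Fintype.card_pos_iff]
    obtain ⟨k, hk⟩ := hodd
    omega
  obtain ⟨v, hv⟩ : ∃ v, Q v ≠ 0 := by
    by_contra hcon
    push Not at hcon
    obtain ⟨i⟩ := hne
    have h1 : (Pi.single i 1 : ι → F) = 0 := by
      apply hQ.1
      intro y
      rw [polarBilin_apply_apply, polar, hcon, hcon, hcon]
      ring
    have := congrFun h1 i
    simp at this
  have hc2 : (c : F) * c = 1 := by
    have h1 := hiso v
    rw [hc, Matrix.smul_mulVec, Matrix.one_mulVec, QuadraticMap.map_smul, smul_eq_mul] at h1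
    have h2 : ((c : F) * c - 1) * Q v = 0 := by linear_combination h1
    rcases mul_eq_zero.mp h2 with h | h
    · linear_combination h
    · exact absurd h hv
  have hcn : (c : F) ^ Fintype.card ι = 1 := by
    have h1 := congrArg Units.val hdet
    rw [Matrix.GeneralLinearGroup.val_det_apply, hc, Matrix.det_smul, Matrix.det_one, mul_one, Units.val_one] at h1
    exact h1
  have hc1 : (c : F) = 1 := by
    obtain ⟨k, hk⟩ := hodd
    rw [hk, pow_succ, pow_mul, pow_two, hc2, one_pow, one_mul] at hcn
    exact hcn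
  apply Units.ext
  rw [hc, hc1, one_smul, Units.val_one]

end generic

end Cfsg.Agent.Lib.Helper1.OmMLeaf
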