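import Mathlib
import Cfsg.Prelude.Def_GeometricClasses
import Cfsg.Agent.Lib.Helper5.TSMax
import Cfsg.Agent.Lib.Helper1.OmMT1

/-!
# OmOddMax market (helper20), block P: P1 `not_omega_le_subspace` (helper1).
Exact signature of `notes/OmOddMax_leaves.lean`.  Also the transitivity of `Ω` on singular points at the `GL` level.
-/

set_option autoImplicit false
set_option linter.unusedSectionVars false
set_option linter.unusedVariables false

namespace Cfsg.Agent.Lib.Helper1.OmMLeaf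

open Cfsg Cfsg.Geo Matrix Module QuadraticMap

section generic
variable {ι : Type} [Fintype ι] [DecidableEq ι] {F : Type*} [Field F] [Fintype F]
  (Q : QuadraticForm F (ι → F))

/-- `Ω` is transitive on singular points, `GL` version -/
theorem exists_omega_map (hQ : (polarBilin Q).Nondegenerate) (hn : 5 ≤ Fintype.card ι) {u x : ι → F}
    (hu0 : u ≠ 0) (hu : Q u = 0) (hx0 : x ≠ 0) (hx : Q x = 0) :
    ∃ g ∈ omegaGL ⇑Q, ∃ t : F, x = t • ((g : Matrix ι ι F) *ᵥ u) := by
  have := Cfsg.Agent.Lib.Helper25.PS.omega_pretransitive Q hQ hn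
  obtain ⟨g, hg⟩ := MulAction.exists_smul_eq ↥(Cfsg.Omega F ⇑Q) (Cfsg.Agent.Lib.Helper25.PS.mk' Q u hu0 hu)
    (Cfsg.Agent.Lib.Helper25.PS.mk' Q x hx0 hx)
  have hg' : (g : ↥(Cfsg.isometryGroup F ⇑Q)) • Cfsg.Agent.Lib.Helper25.PS.mk' Q u hu0 hu =
      Cfsg.Agent.Lib.Helper25.PS.mk' Q x hx0 hx := hg
  rw [Cfsg.Agent.Lib.Helper25.PS.smul_mk'] at hg'
  obtain ⟨t, ht⟩ := Cfsg.Agent.Lib.Helper25.PS.exists_smul_of_mk'_eq Q _ _ hx0 hx hg'.symm
  refine ⟨((g : ↥(Cfsg.isometryGroup F ⇑Q)) : GL ι F), ?_, t, ?_⟩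
  · rw [Cfsg.Agent.Lib.Helper25.Fam.coe_mem_omegaGL]
    exact g.2
  · rw [ht]
    rfl

/-- an `Ω`-invariant set closed under scalar multiples which contains a non-zero singular vector contains all of them -/
theorem singular_mem_of_invariant (hQ : (polarBilin Q).Nondegenerate) (hn : 5 ≤ Fintype.card ι)
    (S : Set (ι → F)) (hS : ∀ g ∈ omegaGL ⇑Q, ∀ v ∈ S, (g : Matrix ι ι F) *ᵥ v ∈ S)
    (hsm : ∀ (t : F), ∀ v ∈ S, t • v ∈ S) {u : ι → F} (huS : u ∈ S) (hu0 : u ≠ 0) (hu : Q u = 0)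
    {x : ι → F} (hx : Q x = 0) : x ∈ S := by
  by_cases hx0 : x = 0
  · rw [hx0, ← zero_smul F u]
    exact hsm 0 u huS
  · obtain ⟨g, hg, t, ht⟩ := exists_omega_map Q hQ hn hu0 hu hx0 hx
    rw [ht]
    exact hsm t _ (hS g hg u huS)

/-- an `Ω`-invariant subspace containing a non-zero singular vector is everything -/
theorem eq_top_of_invariant (hQ : (polarBilin Q).Nondegenerate) (hn : 5 ≤ Fintype.card ι)
    {W : Submodule F (ι → F)} (hle : omegaGL ⇑Q ≤ subspaceStabilizer W) {u : ι → F} (huW : u ∈ W) (hu0 : u ≠ 0)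
    (hu : Q u = 0) : W = ⊤ := by
  have h3 : 3 ≤ finrank F (ι → F) := by
    rw [Module.finrank_fintype_fun_eq_card]
    omega
  rw [eq_top_iff, ← Cfsg.Agent.Lib.Helper25.OGeom.span_singular_eq_top Q hQ h3]
  refine Submodule.span_le.2 ?_
  intro x hx
  exact singular_mem_of_invariant Q hQ hn (W : Set (ι → F)) (fun g hg v hv => ((hle hg) v).mp hv)
    (fun t v hv => W.smul_mem t hv) huW hu0 hu hx

/-- P1. -/
theorem not_omega_le_subspace (hQ : (polarBilin Q).Nondegenerate) (h2 : (2 : F) ≠ 0)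
    (hι : 5 ≤ Fintype.card ι) {W : Submodule F (ι → F)} (h0 : W ≠ ⊥) (h1 : W ≠ ⊤) :
    ¬ omegaGL ⇑Q ≤ subspaceStabilizer W := by
  intro hle
  by_cases hsing : ∃ u ∈ W, u ≠ 0 ∧ Q u = 0
  · obtain ⟨u, huW, hu0, hu⟩ := hsing
    exact h1 (eq_top_of_invariant Q hQ hι hle huW hu0 hu)
  · -- `W` is anisotropic, of dimension at most two
    have hW2 : finrank F W ≤ 2 := by
      by_contra hcon
      exact hsing (Cfsg.Agent.Lib.Helper15.exists_singular_in Q W (by omega))
    set Wp := Cfsg.Agent.Lib.Helper25.MaxTS.perp Q W with hWp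
    have hdim : finrank F Wp = Fintype.card ι - finrank F W := by
      rw [hWp, Cfsg.Agent.Lib.Helper25.MaxTS.finrank_perp hQ, Module.finrank_fintype_fun_eq_card]
    have hle' : omegaGL ⇑Q ≤ subspaceStabilizer Wp := by
      intro g hg
      have hgW := hle hg
      have hginv := hle ((omegaGL ⇑Q).inv_mem hg)
      have hpolar : ∀ a b : ι → F, polar (⇑Q) ((g : Matrix ι ι F) *ᵥ a) ((g : Matrix ι ι F) *ᵥ b) = polar (⇑Q) a b := by
        intro a b
        unfold polar
        rw [← Matrix.mulVec_add, isometry_of_mem_omegaGL (⇑Q) hg, isometry_of_mem_omegaGL (⇑Q) hg,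
          isometry_of_mem_omegaGL (⇑Q) hg]
      have hgg : ∀ a : ι → F, (g : Matrix ι ι F) *ᵥ (((g⁻¹ : GL ι F) : Matrix ι ι F) *ᵥ a) = a := by
        intro a
        rw [Matrix.mulVec_mulVec, ← Units.val_mul, mul_inv_cancel, Units.val_one, Matrix.one_mulVec]
      have hgg' : ∀ a : ι → F, ((g⁻¹ : GL ι F) : Matrix ι ι F) *ᵥ ((g : Matrix ι ι F) *ᵥ a) = a := by
        intro a
        rw [Matrix.mulVec_mulVec, ← Units.val_mul, inv_mul_cancel, Units.val_one, Matrix.one_mulVec]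
      intro v
      change v ∈ Wp ↔ (g : Matrix ι ι F) *ᵥ v ∈ Wp
      rw [hWp, Cfsg.Agent.Lib.Helper25.MaxTS.mem_perp, Cfsg.Agent.Lib.Helper25.MaxTS.mem_perp]
      constructor
      · intro hv w hw
        have hw' : ((g⁻¹ : GL ι F) : Matrix ι ι F) *ᵥ w ∈ W := (hginv w).mp hw
        rw [← hgg w, hpolar]
        exact hv _ hw'
      · intro hv w hw
        have hw' : (g : Matrix ι ι F) *ᵥ w ∈ W := (hgW w).mp hw
        rw [← hpolar]
        exact hv _ hw'
    have h3 : 3 ≤ finrank F Wp := by omega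
    obtain ⟨e, heW, he0, he⟩ := Cfsg.Agent.Lib.Helper15.exists_singular_in Q Wp h3
    have htop := eq_top_of_invariant Q hQ hι hle' heW he0 he
    apply h0
    rw [eq_bot_iff]
    intro w hw
    rw [Submodule.mem_bot]
    apply hQ.1
    intro y
    rw [polarBilin_apply_apply]
    have hy : y ∈ Wp := by rw [htop]; exact Submodule.mem_top
    exact (Cfsg.Agent.Lib.Helper25.MaxTS.mem_perp.mp hy) w hw

end generic

end Cfsg.Agent.Lib.Helper1.OmMLeaf
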