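import Mathlib
import Cfsg.Prelude.Def_GeometricClasses
import Cfsg.Agent.Lib.Helper5.TSMax
import Cfsg.Agent.Lib.Helper19.OSubBasic
import Cfsg.Agent.Lib.Helper1.OmMT1

/-!
# OmOddMax market (helper20), block P: P5 `not_omega_le_subfield` (helper1).
Exact signature of `notes/OmOddMax_leaves.lean`.

`Ω = [Ω, Ω]` lies in `P GL(F₀) P⁻¹` (commutators kill the scalars), so it preserves `V₀ = P F₀^ι`; the long root elements
`rt Q u z c`, `c ∈ F`, then give `c • w ∈ V₀` for all `c ∈ F` and one `w ≠ 0`, so `F ≤ F₀`.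
-/

set_option autoImplicit false
set_option linter.unusedSectionVars false
set_option linter.unusedVariables false

open scoped commutatorElement

namespace Cfsg.Agent.Lib.Helper1.OmMLeaf

open Cfsg Cfsg.Geo Matrix Module QuadraticMap

section core
variable {ι : Type} [Fintype ι] [DecidableEq ι] {K : Type*} [Field K]

/-- vectors with entries in `K₀` -/
def IsRatG (K₀ : Subfield K) (y : ι → K) : Prop := ∀ i, y i ∈ K₀

theorem isRatG_sub {K₀ : Subfield K} {y z : ι → K} (hy : IsRatG K₀ y) (hz : IsRatG K₀ z) : IsRatG K₀ (y - z) :=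
  fun i => K₀.sub_mem (hy i) (hz i)

theorem isRatG_single (K₀ : Subfield K) (i : ι) : IsRatG K₀ (Pi.single i (1 : K)) := by
  intro j
  by_cases h : j = i
  · subst h
    rw [Pi.single_eq_same]
    exact K₀.one_mem
  · rw [Pi.single_eq_of_ne h]
    exact K₀.zero_mem

theorem isRatG_map_mulVec (K₀ : Subfield K) (a : GL ι K₀) {y : ι → K} (hy : IsRatG K₀ y) :
    IsRatG K₀ (((Matrix.GeneralLinearGroup.map (K₀.subtype : K₀ →+* K) a : GL ι K) : Matrix ι ι K) *ᵥ y) := by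
  intro i
  have h1 : ((Matrix.GeneralLinearGroup.map (K₀.subtype : K₀ →+* K) a : GL ι K) : Matrix ι ι K) =
      (a : Matrix ι ι K₀).map (K₀.subtype) := rfl
  rw [h1, Matrix.mulVec, dotProduct]
  refine K₀.sum_mem (fun j _ => K₀.mul_mem ?_ (hy j))
  rw [Matrix.map_apply]
  exact ((a : Matrix ι ι K₀) i j).2

/-- `c • y` rational, `y` rational non-zero: `c ∈ K₀` -/
theorem mem_of_smul_ratG {K₀ : Subfield K} {y : ι → K} (hy : IsRatG K₀ y) (hy0 : y ≠ 0) {c : K}
    (hc : IsRatG K₀ (c • y)) : c ∈ K₀ := by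
  obtain ⟨i, hi⟩ : ∃ i, y i ≠ 0 := by
    by_contra hcon
    push Not at hcon
    exact hy0 (funext hcon)
  have h1 : c * y i ∈ K₀ := hc i
  have h2 : c = c * y i * (y i)⁻¹ := by
    rw [mul_assoc, mul_inv_cancel₀ hi, mul_one]
  rw [h2]
  exact K₀.mul_mem h1 (K₀.inv_mem (hy i))

/-- commutators kill central factors -/
theorem commutator_sup_scalars_le_gen (A : Subgroup (GL ι K)) :
    ⁅A ⊔ scalars ι K, A ⊔ scalars ι K⁆ ≤ A := by
  have hcent : ∀ z ∈ scalars ι K, ∀ g : GL ι K, z * g = g * z := by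
    intro z hz g
    obtain ⟨c, hc⟩ := (mem_scalars_iff z).1 hz
    apply Units.ext
    rw [Units.val_mul, Units.val_mul, hc]
    simp
  have : (scalars ι K).Normal := by
    constructor
    intro z hz g
    rw [← hcent z hz g, mul_inv_cancel_right]
    exact hz
  rw [Subgroup.commutator_le]
  intro g₁ h₁ g₂ h₂
  obtain ⟨a, ha, z, hz, rfl⟩ := Subgroup.mem_sup_of_normal_right.mp h₁
  obtain ⟨b, hb, w, hw, rfl⟩ := Subgroup.mem_sup_of_normal_right.mp h₂
  have : ⁅a * z, b * w⁆ = ⁅a, b⁆ := by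
    rw [commutatorElement_def, commutatorElement_def, _root_.mul_inv_rev, _root_.mul_inv_rev]
    have e1 : a * z * (b * w) * (z⁻¹ * a⁻¹) * (w⁻¹ * b⁻¹) = a * b * a⁻¹ * b⁻¹ * (z * z⁻¹) * (w * w⁻¹) := by
      have hz' := hcent z hz
      have hw' := hcent w hw
      calc a * z * (b * w) * (z⁻¹ * a⁻¹) * (w⁻¹ * b⁻¹)
          = a * (z * (b * w)) * (z⁻¹ * a⁻¹) * (w⁻¹ * b⁻¹) := by group
        _ = a * ((b * w) * z) * (z⁻¹ * a⁻¹) * (w⁻¹ * b⁻¹) := by rw [hz']
        _ = a * b * (w * a⁻¹) * (w⁻¹ * b⁻¹) := by group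
        _ = a * b * (a⁻¹ * w) * (w⁻¹ * b⁻¹) := by rw [hw']
        _ = a * b * a⁻¹ * b⁻¹ * (z * z⁻¹) * (w * w⁻¹) := by group
    rw [e1, mul_inv_cancel, mul_inv_cancel, mul_one, mul_one]
  rw [this, commutatorElement_def]
  exact A.mul_mem (A.mul_mem (A.mul_mem ha hb) (A.inv_mem ha)) (A.inv_mem hb)

/-- a perfect subgroup of the subfield group preserves `V₀ = P K₀^ι` -/
theorem rat_of_perfect_gen {S : Subgroup (GL ι K)} (hperf : ⁅S, S⁆ = S) (K₀ : Subfield K) (P : GL ι K)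
    (hle : S ≤ subfieldSubgroup K₀ P) {g : GL ι K} (hg : g ∈ S) {y : ι → K} (hy : IsRatG K₀ y) :
    ∃ y', IsRatG K₀ y' ∧ (g : Matrix ι ι K) *ᵥ ((P : Matrix ι ι K) *ᵥ y) = (P : Matrix ι ι K) *ᵥ y' := by
  have h1 : S ≤ ((Matrix.GeneralLinearGroup.map (K₀.subtype : K₀ →+* K) :
      GL ι K₀ →* GL ι K).range).map (MulAut.conj P).toMonoidHom := by
    calc S = ⁅S, S⁆ := hperf.symm
      _ ≤ ⁅subfieldSubgroup K₀ P, subfieldSubgroup K₀ P⁆ := Subgroup.commutator_mono hle hle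
      _ ≤ _ := by
        unfold subfieldSubgroup
        rw [← Subgroup.map_commutator]
        exact Subgroup.map_mono (commutator_sup_scalars_le_gen _)
  obtain ⟨x, ⟨a, rfl⟩, hx⟩ := h1 hg
  refine ⟨_, isRatG_map_mulVec K₀ a hy, ?_⟩
  rw [← hx]
  have e : ((MulAut.conj P).toMonoidHom (Matrix.GeneralLinearGroup.map (K₀.subtype : K₀ →+* K) a) : GL ι K)
      = P * (Matrix.GeneralLinearGroup.map (K₀.subtype : K₀ →+* K) a) * P⁻¹ := rfl
  rw [e, Matrix.mulVec_mulVec, ← Units.val_mul, inv_mul_cancel_right, Units.val_mul, Matrix.mulVec_mulVec]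

/-- `P` is injective on vectors -/
theorem gl_mulVec_injective_gen (P : GL ι K) {y z : ι → K}
    (h : (P : Matrix ι ι K) *ᵥ y = (P : Matrix ι ι K) *ᵥ z) : y = z := by
  have := congrArg (fun t => ((P⁻¹ : GL ι K) : Matrix ι ι K) *ᵥ t) h
  simpa [Matrix.mulVec_mulVec, ← Units.val_mul] using this

/-- every vector is a combination of the columns of `P` -/
theorem eq_sum_cols (P : GL ι K) (x : ι → K) :
    x = ∑ i, (((P⁻¹ : GL ι K) : Matrix ι ι K) *ᵥ x) i • ((P : Matrix ι ι K) *ᵥ Pi.single i 1) := by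
  set z : ι → K := ((P⁻¹ : GL ι K) : Matrix ι ι K) *ᵥ x with hz
  have h1 : x = (P : Matrix ι ι K) *ᵥ z := by
    rw [hz, Matrix.mulVec_mulVec, ← Units.val_mul, mul_inv_cancel, Units.val_one, Matrix.one_mulVec]
  have h2 : z = ∑ i, z i • (Pi.single i 1 : ι → K) := by
    funext j
    simp [Finset.sum_apply, Pi.single_apply]
  conv_lhs => rw [h1, h2]
  rw [Matrix.mulVec_sum]
  apply Finset.sum_congr rfl
  intro i _
  rw [Matrix.mulVec_smul]

end core

section generic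
variable {ι : Type} [Fintype ι] [DecidableEq ι] {F : Type*} [Field F] [Fintype F]
  (Q : QuadraticForm F (ι → F))

open Cfsg.Agent.Lib.Helper19.OSub

/-- `Ω` is perfect, `GL` version -/
theorem omegaGL_perfect (hQ : (polarBilin Q).Nondegenerate) (hn : 7 ≤ Fintype.card ι) :
    ⁅omegaGL ⇑Q, omegaGL ⇑Q⁆ = omegaGL ⇑Q := by
  have h := Cfsg.Agent.Lib.Helper25.Siegel.omega_perfect Q hQ hn
  rw [commutator_def] at h
  have e : omegaGL ⇑Q = (⊤ : Subgroup ↥(Cfsg.Omega F ⇑Q)).map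
      ((Cfsg.isometryGroup F ⇑Q).subtype.comp (Cfsg.Omega F ⇑Q).subtype) := by
    unfold omegaGL
    rw [← Subgroup.map_map, ← MonoidHom.range_eq_map, Subgroup.range_subtype]
  conv_lhs => rw [e, ← Subgroup.map_commutator, h]
  exact e.symm

theorem exists_not_mem_subfield_gen (F₀ : Subfield F) {r : ℕ} (hr : 2 ≤ r) (hcard : Fintype.card F = Nat.card F₀ ^ r) :
    ∃ d : F, d ∉ F₀ := by
  by_contra hcon
  simp only [not_exists, not_not] at hcon
  have h1 : Nat.card F₀ = Fintype.card F := by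
    rw [← Nat.card_eq_fintype_card]
    exact Nat.card_congr ⟨fun x => x.1, fun x => ⟨x, hcon x⟩, fun x => rfl, fun x => rfl⟩
  rw [h1] at hcard
  have h2 : 1 < Fintype.card F := Fintype.one_lt_card
  have h3 : Fintype.card F ^ 1 < Fintype.card F ^ r := Nat.pow_lt_pow_right h2 (by omega)
  rw [pow_one] at h3
  omega

/-- P5 with the minimal hypotheses: only `F₀ ≠ F` is needed -/
theorem not_omega_le_subfield' (hQ : (polarBilin Q).Nondegenerate) (hι : 7 ≤ Fintype.card ι) (F₀ : Subfield F)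
    {d : F} (hd : d ∉ F₀) (P : GL ι F) : ¬ omegaGL ⇑Q ≤ subfieldSubgroup F₀ P := by
  intro hle
  have hperf := omegaGL_perfect Q hQ hι
  have hfr : 5 ≤ finrank F (ι → F) := by
    rw [Module.finrank_fintype_fun_eq_card]
    omega
  obtain ⟨u, hu0, hu⟩ := Cfsg.Agent.Lib.Helper15.exists_singular_of_three_le Q (by omega : 3 ≤ finrank F (ι → F))
  obtain ⟨s, hs, hus⟩ := Cfsg.Agent.Lib.Helper25.Fam.exists_sing_partner Q hQ hu0 hu
  obtain ⟨z, hz0, hz, huz, hsz⟩ := Cfsg.Agent.Lib.Helper25.OGeom.exists_sing_perp_pair Q hQ hfr hu hs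
    (by rw [hus]; exact one_ne_zero)
  -- the vectors `w i`
  have hstep : ∀ (c : F) (i : ι), ∃ y', IsRatG F₀ y' ∧
      c • (polar Q u ((P : Matrix ι ι F) *ᵥ Pi.single i 1) • z - polar Q z ((P : Matrix ι ι F) *ᵥ Pi.single i 1) • u) =
        (P : Matrix ι ι F) *ᵥ y' := by
    intro c i
    obtain ⟨y', hy', h⟩ := rat_of_perfect_gen hperf F₀ P hle (rt_mem_omega hQ hι u z c) (isRatG_single F₀ i)
    have h' := mv_rt hu hz huz c ((P : Matrix ι ι F) *ᵥ Pi.single i 1)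
    unfold mv at h'
    rw [h'] at h
    refine ⟨y' - Pi.single i 1, isRatG_sub hy' (isRatG_single F₀ i), ?_⟩
    rw [Matrix.mulVec_sub, ← h, add_sub_cancel_left]
  obtain ⟨i, hi⟩ : ∃ i, polar Q u ((P : Matrix ι ι F) *ᵥ Pi.single i 1) ≠ 0 := by
    by_contra hcon
    push Not at hcon
    apply hu0
    apply hQ.1
    intro x
    rw [polarBilin_apply_apply, eq_sum_cols P x]
    have : polar Q u (∑ i, (((P⁻¹ : GL ι F) : Matrix ι ι F) *ᵥ x) i • ((P : Matrix ι ι F) *ᵥ Pi.single i 1)) =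
        ∑ i, (((P⁻¹ : GL ι F) : Matrix ι ι F) *ᵥ x) i * polar Q u ((P : Matrix ι ι F) *ᵥ Pi.single i 1) := by
      rw [← polarBilin_apply_apply, map_sum]
      apply Finset.sum_congr rfl
      intro i _
      rw [map_smul, smul_eq_mul, polarBilin_apply_apply]
    rw [this]
    apply Finset.sum_eq_zero
    intro i _
    rw [hcon i, mul_zero]
  set w : ι → F := polar Q u ((P : Matrix ι ι F) *ᵥ Pi.single i 1) • z -
    polar Q z ((P : Matrix ι ι F) *ᵥ Pi.single i 1) • u with hw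
  have hw0 : w ≠ 0 := by
    intro h0
    -- apply `polar s ·`
    have h1 : polar Q s w = 0 := by rw [h0]; simp
    rw [hw, polar_sub_right, polar_smul_right, polar_smul_right, hsz, polar_comm Q s u, hus, smul_zero, zero_sub,
      smul_eq_mul, mul_one, neg_eq_zero] at h1
    rw [hw, h1, zero_smul, sub_zero] at h0
    rcases smul_eq_zero.mp h0 with h | h
    · exact hi h
    · exact hz0 h
  obtain ⟨y₁, hy₁, h₁⟩ := hstep 1 i
  obtain ⟨y₂, hy₂, h₂⟩ := hstep d i
  rw [one_smul] at h₁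
  have hy₁0 : y₁ ≠ 0 := by
    rintro rfl
    rw [Matrix.mulVec_zero] at h₁
    exact hw0 h₁
  have h3 : y₂ = d • y₁ := by
    apply gl_mulVec_injective_gen P
    rw [← h₂, Matrix.mulVec_smul, ← h₁]
  exact hd (mem_of_smul_ratG hy₁ hy₁0 (h3 ▸ hy₂))

/-- P5. -/
theorem not_omega_le_subfield (hQ : (polarBilin Q).Nondegenerate) (h2 : (2 : F) ≠ 0)
    (hι : 7 ≤ Fintype.card ι) (F₀ : Subfield F) {r : ℕ} (hr : r.Prime)
    (hcard : Fintype.card F = Nat.card F₀ ^ r) (P : GL ι F) (hrat : IsQuadFormRationalStructure ⇑Q F₀ P) :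
    ¬ omegaGL ⇑Q ≤ subfieldSubgroup F₀ P := by
  obtain ⟨d, hd⟩ := exists_not_mem_subfield_gen F₀ hr.two_le hcard
  exact not_omega_le_subfield' Q hQ hι F₀ hd P

end generic

end Cfsg.Agent.Lib.Helper1.OmMLeaf
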