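import Mathlib

set_option autoImplicit false

/-!
helper1: simple groups of order `1092` whose proper subgroups have the orders of the subgroups of
`PSL₂(13)`: every nontrivial proper subgroup has a maximal normalizer.
-/

namespace Cfsg.Agent.Lib.Helper1.Ord1092

open Subgroup

variable {G : Type*} [Group G] [Finite G]

/-- The hypotheses: a simple group of order 1092 with the subgroup orders, element orders and
involution fusion of `PSL₂(13)`. -/
structure Hyp (G : Type*) [Group G] [Finite G] : Prop where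
  simple : IsSimpleGroup G
  card : Nat.card G = 1092
  sub : ∀ L : Subgroup G, L ≠ ⊤ →
    Nat.card L ∈ ({1, 2, 3, 4, 6, 7, 12, 13, 14, 26, 39, 78} : Finset ℕ)
  pow : ∀ y : G, y ^ 6 = 1 ∨ y ^ 7 = 1 ∨ y ^ 13 = 1
  six : ∃ y : G, orderOf y = 6
  inv : ∀ x y : G, orderOf x = 2 → orderOf y = 2 → IsConj x y

namespace Hyp

theorem cases (h : Hyp G) (L : Subgroup G) (hL : L ≠ ⊤) :
    Nat.card L = 1 ∨ Nat.card L = 2 ∨ Nat.card L = 3 ∨ Nat.card L = 4 ∨ Nat.card L = 6 ∨
      Nat.card L = 7 ∨ Nat.card L = 12 ∨ Nat.card L = 13 ∨ Nat.card L = 14 ∨ Nat.card L = 26 ∨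
      Nat.card L = 39 ∨ Nat.card L = 78 := by
  have := h.sub L hL
  simpa using this

theorem normalizer_ne_top (h : Hyp G) (H : Subgroup G) (hb : H ≠ ⊥) (ht : H ≠ ⊤) :
    normalizer (H : Set G) ≠ ⊤ := by
  intro hN
  rw [normalizer_eq_top_iff] at hN
  haveI := h.simple
  rcases hN.eq_bot_or_eq_top with h1 | h1
  exacts [hb h1, ht h1]

theorem coatom (h : Hyp G) (L : Subgroup G) (hL : L ≠ ⊤)
    (hc : Nat.card L = 12 ∨ Nat.card L = 14 ∨ Nat.card L = 78) : IsCoatom L := by
  refine ⟨hL, fun M hLM => ?_⟩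
  by_contra hM
  have hd : Nat.card L ∣ Nat.card M := Subgroup.card_dvd_of_le hLM.le
  have hne : Nat.card L ≠ Nat.card M :=
    fun he => hLM.ne (Subgroup.eq_of_le_of_card_ge hLM.le he.ge)
  obtain ⟨k, hk⟩ := hd
  rcases h.cases M hM with e | e | e | e | e | e | e | e | e | e | e | e <;>
    rcases hc with c | c | c <;> simp only [c, e] at hk hne <;> omega

theorem fact_aux (p k m : ℕ) (hp : p.Prime) (hm : ¬ p ∣ m) (hm0 : m ≠ 0) :
    (p ^ k * m).factorization p = k := by
  rw [Nat.factorization_mul (pow_ne_zero _ hp.ne_zero) hm0, Finsupp.add_apply,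
    hp.factorization_pow, Finsupp.single_eq_same, Nat.factorization_eq_zero_of_not_dvd hm,
    add_zero]

theorem card_sylow (h : Hyp G) (p k m : ℕ) [hp : Fact p.Prime] (e : 1092 = p ^ k * m)
    (hm : ¬ p ∣ m) (P : Sylow p G) : Nat.card P = p ^ k := by
  have hm0 : m ≠ 0 := by rintro rfl; simp at e
  rw [P.card_eq_multiplicity, h.card, e, fact_aux p k m hp.out hm hm0]

theorem exists_sylow (h : Hyp G) (p k m : ℕ) [hp : Fact p.Prime] (e : 1092 = p ^ k * m)
    (hm : ¬ p ∣ m) (H : Subgroup G) (hH : Nat.card H = p ^ k) :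
    ∃ P : Sylow p G, (P : Subgroup G) = H := by
  have hm0 : m ≠ 0 := by rintro rfl; simp at e
  refine ⟨Sylow.ofCard H ?_, Sylow.coe_ofCard H _⟩
  rw [hH, h.card, e, fact_aux p k m hp.out hm hm0]

theorem sylow_count (h : Hyp G) (p : ℕ) [hp : Fact p.Prime] (P : Sylow p G) :
    ∃ n, n * Nat.card (normalizer ((P : Subgroup G) : Set G)) = 1092 ∧ n % p = 1 ∧
      Nat.card P ∣ Nat.card (normalizer ((P : Subgroup G) : Set G)) := by
  refine ⟨Nat.card (Sylow p G), ?_, ?_, Subgroup.card_dvd_of_le le_normalizer⟩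
  · rw [Sylow.card_eq_index_normalizer P, ← h.card]
    exact Subgroup.index_mul_card _
  · have := card_sylow_modEq_one p G
    rw [Nat.ModEq, Nat.mod_eq_of_lt (a := 1) hp.out.one_lt] at this
    exact this

theorem burnside (h : Hyp G) (p : ℕ) [hp : Fact p.Prime] (hpd : p ∣ 1092) (P : Sylow p G) :
    ¬ normalizer ((P : Subgroup G) : Set G) ≤ centralizer ((P : Subgroup G) : Set G) := by
  intro hP
  haveI := h.simple
  have hcompl := MonoidHom.ker_transferSylow_isComplement' P hP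
  rcases (MonoidHom.normal_ker (MonoidHom.transferSylow P hP)).eq_bot_or_eq_top with hb | ht
  · rw [hb, Subgroup.isComplement'_bot_left] at hcompl
    obtain ⟨n, hn⟩ := IsPGroup.exists_card_eq P.2
    rw [hcompl, Subgroup.card_top, h.card] at hn
    have h2 : 2 ∣ p ^ n := ⟨546, by rw [← hn]⟩
    have h3 : 3 ∣ p ^ n := ⟨364, by rw [← hn]⟩
    have e2 := (Nat.prime_dvd_prime_iff_eq Nat.prime_two hp.out).mp (Nat.prime_two.dvd_of_dvd_pow h2)
    have e3 := (Nat.prime_dvd_prime_iff_eq Nat.prime_three hp.out).mp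
      (Nat.prime_three.dvd_of_dvd_pow h3)
    omega
  · rw [ht, Subgroup.isComplement'_top_left] at hcompl
    exact P.ne_bot_of_dvd_card (by rw [h.card]; exact hpd) hcompl

end Hyp

end Cfsg.Agent.Lib.Helper1.Ord1092
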