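import Mathlib
import Cfsg.Agent.Lib.Helper1.Ord1092A

set_option autoImplicit false

namespace Cfsg.Agent.Lib.Helper1.Ord1092

open Subgroup

variable {G : Type*} [Group G] [Finite G]

namespace Hyp

theorem ne_bot_top (h : Hyp G) (H : Subgroup G) (h1 : Nat.card H ≠ 1) (h2 : Nat.card H ≠ 1092) :
    H ≠ ⊥ ∧ H ≠ ⊤ := by
  refine ⟨?_, ?_⟩
  · rintro rfl; exact h1 Subgroup.card_bot
  · rintro rfl; exact h2 (by rw [Subgroup.card_top, h.card])

/-- no element of order `13 r`, `r = 2, 3` -/
theorem not_commute13 (h : Hyp G) (x z : G) (hx : orderOf x = 13) (r : ℕ)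
    (hr : r = 2 ∨ r = 3) (hz : orderOf z = r) (hc : Commute z x) : False := by
  have ho : orderOf (z * x) = r * 13 := by
    rw [← hz, ← hx]
    apply hc.orderOf_mul_eq_mul_orderOf_of_coprime
    rw [hz, hx]
    rcases hr with rfl | rfl <;> norm_num
  rcases h.pow (z * x) with e | e | e <;> have := orderOf_dvd_of_pow_eq_one e <;>
    rw [ho] at this <;> rcases hr with rfl | rfl <;> omega

theorem centralizer_ne_top (h : Hyp G) (x : G) (hx : orderOf x = 13 ∨ orderOf x = 2 ∨ orderOf x = 3) :
    centralizer ({x} : Set G) ≠ ⊤ := by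
  intro hC
  haveI := h.simple
  have hn : (zpowers x).Normal := by
    refine ⟨fun n hn g => ?_⟩
    have hg : g ∈ centralizer ({x} : Set G) := by rw [hC]; exact mem_top g
    rw [mem_centralizer_singleton_iff] at hg
    obtain ⟨k, rfl⟩ := mem_zpowers_iff.mp hn
    have : g * x ^ k * g⁻¹ = x ^ k := by
      have hc : Commute g x := hg
      rw [(hc.zpow_right k).eq, mul_inv_cancel_right]
    rw [this]; exact zpow_mem_zpowers x k
  have hcard : Nat.card (zpowers x) = orderOf x := Nat.card_zpowers x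
  rcases hn.eq_bot_or_eq_top with e | e
  · rw [e, Subgroup.card_bot] at hcard; omega
  · rw [e, Subgroup.card_top, h.card] at hcard; omega

/-- the centralizer of an element of order 13 has order 13 -/
theorem card_centralizer13 (h : Hyp G) (x : G) (hx : orderOf x = 13) :
    Nat.card (centralizer ({x} : Set G)) = 13 := by
  have hne := h.centralizer_ne_top x (Or.inl hx)
  have hxC : x ∈ centralizer ({x} : Set G) := by
    rw [mem_centralizer_singleton_iff]
  have h13 : 13 ∣ Nat.card (centralizer ({x} : Set G)) := by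
    rw [← hx, ← Nat.card_zpowers]
    exact Subgroup.card_dvd_of_le (zpowers_le.mpr hxC)
  have key : ∀ r : ℕ, (r = 2 ∨ r = 3) → ¬ r ∣ Nat.card (centralizer ({x} : Set G)) := by
    intro r hr hdvd
    haveI : Fact r.Prime := ⟨by rcases hr with rfl | rfl <;> norm_num⟩
    obtain ⟨z, hz⟩ := exists_prime_orderOf_dvd_card' r hdvd
    have hzc := z.2
    rw [mem_centralizer_singleton_iff] at hzc
    refine h.not_commute13 x (z : G) hx r hr ?_ hzc
    rw [Subgroup.orderOf_coe, hz]
  have k2 := key 2 (Or.inl rfl)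
  have k3 := key 3 (Or.inr rfl)
  rcases h.cases _ hne with e | e | e | e | e | e | e | e | e | e | e | e <;>
    rw [e] at h13 k2 k3 <;> omega

theorem card_normalizer13 (h : Hyp G) (H : Subgroup G) (hH : Nat.card H = 13) :
    Nat.card (normalizer (H : Set G)) = 78 := by
  haveI : Fact (Nat.Prime 13) := ⟨by norm_num⟩
  obtain ⟨hb, ht⟩ := h.ne_bot_top H (by omega) (by omega)
  have hne := h.normalizer_ne_top H hb ht
  obtain ⟨P, rfl⟩ := h.exists_sylow 13 1 84 (by norm_num) (by norm_num) H (by rw [hH]; norm_num)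
  obtain ⟨n, hn, hn1, hd⟩ := h.sylow_count 13 P
  rw [hH] at hd
  rcases h.cases _ hne with e | e | e | e | e | e | e | e | e | e | e | e <;>
    rw [e] at hn hd <;> omega

theorem mulAut_comm {P : Type*} [Group P] [IsCyclic P] (a b : MulAut P) : a * b = b * a := by
  apply (IsCyclic.mulAutMulEquiv P).injective
  rw [map_mul, map_mul, mul_comm]

/-- commutators of `N(⟨x⟩)` centralize `x` -/
theorem comm_mem_centralizer (x g y : G) (hg : g ∈ normalizer ((zpowers x : Subgroup G) : Set G))
    (hy : y ∈ normalizer ((zpowers x : Subgroup G) : Set G)) :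
    g * y * g⁻¹ * y⁻¹ ∈ centralizer ({x} : Set G) := by
  set P : Subgroup G := zpowers x
  let f := P.normalizerMonoidHom
  have h1 : f (⟨g, hg⟩ * ⟨y, hy⟩ * ⟨g, hg⟩⁻¹ * ⟨y, hy⟩⁻¹) = 1 := by
    rw [map_mul, map_mul, map_mul, map_inv, map_inv, mulAut_comm (f ⟨g, hg⟩) (f ⟨y, hy⟩)]
    group
  have h2 : (⟨g, hg⟩ * ⟨y, hy⟩ * ⟨g, hg⟩⁻¹ * ⟨y, hy⟩⁻¹ : normalizer (P : Set G)) ∈ f.ker := h1
  rw [normalizerMonoidHom_ker, mem_subgroupOf] at h2
  have h3 : g * y * g⁻¹ * y⁻¹ ∈ centralizer (P : Set G) := h2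
  rw [mem_centralizer_singleton_iff]
  rw [mem_centralizer_iff] at h3
  exact (h3 x (mem_zpowers x)).symm

theorem card_normalizer_26_39 (h : Hyp G) (H : Subgroup G)
    (hH : Nat.card H = 26 ∨ Nat.card H = 39) : Nat.card (normalizer (H : Set G)) = 78 := by
  haveI : Fact (Nat.Prime 13) := ⟨by norm_num⟩
  obtain ⟨hb, ht⟩ := h.ne_bot_top H (by omega) (by omega)
  have hne := h.normalizer_ne_top H hb ht
  obtain ⟨x, hx⟩ := exists_prime_orderOf_dvd_card' (G := H) 13 (by rcases hH with e | e <;> rw [e] <;> norm_num)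
  have hxG : orderOf (x : G) = 13 := by rw [Subgroup.orderOf_coe, hx]
  set P : Subgroup G := zpowers (x : G) with hP
  have hPH : P ≤ H := zpowers_le.mpr x.2
  have hPc : Nat.card P = 13 := by rw [Nat.card_zpowers, hxG]
  -- `P` is normal in `H`
  have hsub : P.subgroupOf H = zpowers x := by
    ext y
    rw [mem_subgroupOf, mem_zpowers_iff, mem_zpowers_iff]
    constructor
    · rintro ⟨k, hk⟩; exact ⟨k, Subtype.ext (by rw [Subgroup.coe_zpow]; exact hk)⟩
    · rintro ⟨k, hk⟩; exact ⟨k, by rw [← hk, Subgroup.coe_zpow]⟩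
  have hnorm : (P.subgroupOf H).Normal := by
    rw [hsub]
    apply Subgroup.normal_of_index_eq_minFac_card
    have h1 : (zpowers x).index * Nat.card (zpowers x) = Nat.card H := Subgroup.index_mul_card _
    rw [Nat.card_zpowers, hx] at h1
    rcases hH with e | e
    · rw [e] at h1 ⊢
      have : Nat.minFac 26 = 2 := by norm_num
      omega
    · rw [e] at h1 ⊢
      have : Nat.minFac 39 = 3 := by norm_num
      omega
  have hHN : H ≤ normalizer (P : Set G) := Subgroup.le_normalizer_of_normal_subgroupOf hPH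
  have hCP : centralizer ({(x : G)} : Set G) = P := by
    symm
    apply Subgroup.eq_of_le_of_card_ge
    · apply zpowers_le.mpr
      rw [mem_centralizer_singleton_iff]
    · rw [h.card_centralizer13 _ hxG, hPc]
  have claim : ∀ g ∈ normalizer (P : Set G), ∀ y ∈ H, g * y * g⁻¹ ∈ H := by
    intro g hg y hy
    have := comm_mem_centralizer (x : G) g y hg (hHN hy)
    rw [hCP] at this
    have h2 := H.mul_mem (hPH this) hy
    simpa using h2
  have hNN : normalizer (P : Set G) ≤ normalizer (H : Set G) := by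
    intro g hg
    rw [mem_normalizer_iff]
    intro y
    refine ⟨claim g hg y, fun hy => ?_⟩
    have := claim g⁻¹ (inv_mem hg) _ hy
    simpa [mul_assoc] using this
  have hd := Subgroup.card_dvd_of_le hNN
  rw [h.card_normalizer13 P hPc] at hd
  rcases h.cases _ hne with e | e | e | e | e | e | e | e | e | e | e | e <;>
    rw [e] at hd <;> omega

end Hyp

end Cfsg.Agent.Lib.Helper1.Ord1092
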