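import Mathlib
import Cfsg.Agent.Lib.Helper1.Ord1092B

set_option autoImplicit false

namespace Cfsg.Agent.Lib.Helper1.Ord1092

open Subgroup

variable {G : Type*} [Group G] [Finite G]

namespace Hyp

theorem card_normalizer7 (h : Hyp G) (H : Subgroup G) (hH : Nat.card H = 7) :
    Nat.card (normalizer (H : Set G)) = 14 := by
  haveI : Fact (Nat.Prime 7) := ⟨by norm_num⟩
  obtain ⟨hb, ht⟩ := h.ne_bot_top H (by omega) (by omega)
  have hne := h.normalizer_ne_top H hb ht
  obtain ⟨P, rfl⟩ := h.exists_sylow 7 1 156 (by norm_num) (by norm_num) H (by rw [hH]; norm_num)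
  obtain ⟨n, hn, hn1, hd⟩ := h.sylow_count 7 P
  rw [hH] at hd
  rcases h.cases _ hne with e | e | e | e | e | e | e | e | e | e | e | e <;>
    rw [e] at hn hd <;> omega

theorem card_normalizer_big (h : Hyp G) (H : Subgroup G)
    (hH : Nat.card H = 12 ∨ Nat.card H = 14 ∨ Nat.card H = 78) :
    Nat.card (normalizer (H : Set G)) = Nat.card H := by
  obtain ⟨hb, ht⟩ := h.ne_bot_top H (by omega) (by omega)
  have hne := h.normalizer_ne_top H hb ht
  have hd := Subgroup.card_dvd_of_le (le_normalizer (H := H))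
  rcases h.cases _ hne with e | e | e | e | e | e | e | e | e | e | e | e <;>
    rcases hH with c | c | c <;> rw [e, c] at hd <;> rw [e, c] <;> omega

theorem card_normalizer4 (h : Hyp G) (H : Subgroup G) (hH : Nat.card H = 4) :
    Nat.card (normalizer (H : Set G)) = 12 := by
  haveI : Fact (Nat.Prime 2) := ⟨by norm_num⟩
  obtain ⟨hb, ht⟩ := h.ne_bot_top H (by omega) (by omega)
  have hne := h.normalizer_ne_top H hb ht
  obtain ⟨P, rfl⟩ := h.exists_sylow 2 2 273 (by norm_num) (by norm_num) H (by rw [hH]; norm_num)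
  have hd := Subgroup.card_dvd_of_le (le_normalizer (H := (P : Subgroup G)))
  have hB := h.burnside 2 (by norm_num) P
  haveI : IsMulCommutative (P : Subgroup G) :=
    IsPGroup.isMulCommutative_of_card_eq_prime_sq (p := 2) (by rw [hH]; norm_num)
  have hcase : Nat.card (normalizer ((P : Subgroup G) : Set G)) ≠ 4 := by
    intro e
    apply hB
    have : normalizer ((P : Subgroup G) : Set G) = P :=
      (Subgroup.eq_of_le_of_card_ge le_normalizer (by rw [e, hH])).symm
    rw [this]
    exact Subgroup.le_centralizer _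
  rw [hH] at hd
  rcases h.cases _ hne with e | e | e | e | e | e | e | e | e | e | e | e <;>
    rw [e] at hd hcase <;> omega

/-- the centralizer of the involution `y ^ 3`, `y` of order 6 -/
theorem card_centralizer_of_six (h : Hyp G) (y : G) (hy : orderOf y = 6) :
    Nat.card (centralizer ({y ^ 3} : Set G)) = 12 := by
  haveI : Fact (Nat.Prime 2) := ⟨by norm_num⟩
  have ht : orderOf (y ^ 3) = 2 := by
    rw [orderOf_pow_of_dvd (by norm_num) (by rw [hy]; norm_num), hy]
  have hne := h.centralizer_ne_top (y ^ 3) (Or.inr (Or.inl ht))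
  have hyC : y ∈ centralizer ({y ^ 3} : Set G) := by
    rw [mem_centralizer_singleton_iff]
    exact ((Commute.refl y).pow_right 3).eq
  have h6 : 6 ∣ Nat.card (centralizer ({y ^ 3} : Set G)) := by
    rw [← hy, ← Nat.card_zpowers]
    exact Subgroup.card_dvd_of_le (zpowers_le.mpr hyC)
  have hpg : IsPGroup 2 (zpowers (y ^ 3)) := by
    apply IsPGroup.of_card (n := 1)
    rw [Nat.card_zpowers, ht]; norm_num
  obtain ⟨T, hT⟩ := hpg.exists_le_sylow
  have hTc : Nat.card T = 4 := by
    rw [h.card_sylow 2 2 273 (by norm_num) (by norm_num) T]; norm_num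
  haveI : IsMulCommutative (T : Subgroup G) :=
    IsPGroup.isMulCommutative_of_card_eq_prime_sq (p := 2) (by rw [hTc]; norm_num)
  have hTC : (T : Subgroup G) ≤ centralizer ({y ^ 3} : Set G) := by
    intro a ha
    rw [mem_centralizer_singleton_iff]
    have h1 : y ^ 3 ∈ (T : Subgroup G) := hT (mem_zpowers _)
    have := Subgroup.le_centralizer (T : Subgroup G) ha
    rw [mem_centralizer_iff] at this
    exact (this _ h1).symm
  have h4 : 4 ∣ Nat.card (centralizer ({y ^ 3} : Set G)) := by
    rw [← hTc]
    exact Subgroup.card_dvd_of_le hTC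
  rcases h.cases _ hne with e | e | e | e | e | e | e | e | e | e | e | e <;>
    rw [e] at h4 h6 <;> omega

theorem card_centralizer2 (h : Hyp G) (t : G) (ht : orderOf t = 2) :
    Nat.card (centralizer ({t} : Set G)) = 12 := by
  obtain ⟨y, hy⟩ := h.six
  have ht' : orderOf (y ^ 3) = 2 := by
    rw [orderOf_pow_of_dvd (by norm_num) (by rw [hy]; norm_num), hy]
  obtain ⟨c, hc⟩ := isConj_iff.mp (h.inv (y ^ 3) t ht' ht)
  have h1 : orderOf (c * y * c⁻¹) = 6 := by
    have := (MulAut.conj c).orderOf_eq y
    rw [MulAut.conj_apply] at this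
    rw [this, hy]
  have h2 : (c * y * c⁻¹) ^ 3 = t := by rw [conj_pow, hc]
  rw [← h2]
  exact h.card_centralizer_of_six _ h1

theorem card_normalizer2 (h : Hyp G) (H : Subgroup G) (hH : Nat.card H = 2) :
    Nat.card (normalizer (H : Set G)) = 12 := by
  haveI : Fact (Nat.Prime 2) := ⟨by norm_num⟩
  obtain ⟨hb, ht⟩ := h.ne_bot_top H (by omega) (by omega)
  have hne := h.normalizer_ne_top H hb ht
  obtain ⟨t, ht2⟩ := exists_prime_orderOf_dvd_card' (G := H) 2 (by rw [hH])
  have htG : orderOf (t : G) = 2 := by rw [Subgroup.orderOf_coe, ht2]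
  have hHz : H = zpowers (t : G) := by
    symm
    apply Subgroup.eq_of_le_of_card_ge (zpowers_le.mpr t.2)
    rw [Nat.card_zpowers, htG, hH]
  -- the centralizer of `t` normalizes `H`
  have hle : centralizer ({(t : G)} : Set G) ≤ normalizer (H : Set G) := by
    intro g hg
    rw [mem_centralizer_singleton_iff] at hg
    have hc : Commute g (t : G) := hg
    rw [mem_normalizer_iff]
    intro n
    have e : g * n * g⁻¹ ∈ H ↔ n ∈ H := by
      rw [hHz]
      constructor
      · intro hn
        obtain ⟨k, hk⟩ := mem_zpowers_iff.mp hn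
        have : n = g⁻¹ * (t : G) ^ k * g := by rw [hk]; group
        rw [this, mul_assoc, ← (hc.zpow_right k).eq, inv_mul_cancel_left]
        exact zpow_mem_zpowers _ k
      · intro hn
        obtain ⟨k, rfl⟩ := mem_zpowers_iff.mp hn
        rw [(hc.zpow_right k).eq, mul_inv_cancel_right]
        exact zpow_mem_zpowers _ k
    exact e.symm
  have hd := Subgroup.card_dvd_of_le hle
  rw [h.card_centralizer2 _ htG] at hd
  rcases h.cases _ hne with e | e | e | e | e | e | e | e | e | e | e | e <;>
    rw [e] at hd <;> omega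

end Hyp

end Cfsg.Agent.Lib.Helper1.Ord1092
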