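import Mathlib
import Cfsg.Agent.Lib.Helper1.Ord1092C

set_option autoImplicit false

namespace Cfsg.Agent.Lib.Helper1.Ord1092

open Subgroup

variable {G : Type*} [Group G] [Finite G]

omit [Finite G] in
/-- a subgroup of smallest prime index is normal (relative version) -/
theorem normal_subgroupOf_of_card [Finite G] (A B : Subgroup G) (hAB : A ≤ B)
    (hidx : Nat.card B = (Nat.card B).minFac * Nat.card A) : (A.subgroupOf B).Normal := by
  apply Subgroup.normal_of_index_eq_minFac_card
  have h1 : (A.subgroupOf B).index * Nat.card (A.subgroupOf B) = Nat.card B :=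
    Subgroup.index_mul_card _
  rw [Nat.card_congr (Subgroup.subgroupOfEquivOfLe hAB).toEquiv] at h1
  have hpos : 0 < Nat.card A := Nat.card_pos
  have : (A.subgroupOf B).index * Nat.card A = (Nat.card B).minFac * Nat.card A := by
    rw [h1]; exact hidx
  exact Nat.eq_of_mul_eq_mul_right hpos this

namespace Hyp

theorem card_normalizer3 (h : Hyp G) (H : Subgroup G) (hH : Nat.card H = 3) :
    Nat.card (normalizer (H : Set G)) = 12 := by
  haveI : Fact (Nat.Prime 3) := ⟨by norm_num⟩
  obtain ⟨hb, ht⟩ := h.ne_bot_top H (by omega) (by omega)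
  have hne := h.normalizer_ne_top H hb ht
  obtain ⟨P, rfl⟩ := h.exists_sylow 3 1 364 (by norm_num) (by norm_num) H (by rw [hH]; norm_num)
  obtain ⟨n, hn, hn1, hd⟩ := h.sylow_count 3 P
  have hB := h.burnside 3 (by norm_num) P
  haveI : IsCyclic (P : Subgroup G) := isCyclic_of_prime_card (p := 3) hH
  have hcase3 : Nat.card (normalizer ((P : Subgroup G) : Set G)) ≠ 3 := by
    intro e
    apply hB
    have : normalizer ((P : Subgroup G) : Set G) = P :=
      (Subgroup.eq_of_le_of_card_ge le_normalizer (by rw [e, hH])).symm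
    rw [this]
    exact Subgroup.le_centralizer _
  have hcase39 : Nat.card (normalizer ((P : Subgroup G) : Set G)) ≠ 39 := by
    intro e
    set M : Subgroup G := normalizer ((P : Subgroup G) : Set G) with hM
    have hNM := h.card_normalizer_26_39 M (Or.inr e)
    have claim : ∀ g ∈ normalizer (M : Set G), ∀ r ∈ (P : Subgroup G), g * r * g⁻¹ ∈ (P : Subgroup G) := by
      intro g hg r hr
      set Q : Subgroup G := (P : Subgroup G).map (MulAut.conj g).toMonoidHom with hQ
      have hQp : IsPGroup 3 Q := P.2.map _
      have hQM : Q ≤ M := by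
        rintro _ ⟨a, ha, rfl⟩
        have haM : a ∈ M := le_normalizer ha
        exact (mem_normalizer_iff.mp hg a).mp haM
      have hsup : IsPGroup 3 (Q ⊔ (P : Subgroup G) : Subgroup G) :=
        hQp.to_sup_of_normal_right' P.2 hQM
      have := P.is_maximal' hsup le_sup_right
      have hQP : Q ≤ (P : Subgroup G) := by rw [← this]; exact le_sup_left
      exact hQP ⟨r, hr, rfl⟩
    have hle : normalizer (M : Set G) ≤ M := by
      intro g hg
      rw [hM, mem_normalizer_iff]
      intro r
      refine ⟨claim g hg r, fun hr => ?_⟩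
      have := claim g⁻¹ (inv_mem hg) _ hr
      simpa [mul_assoc] using this
    have := Subgroup.card_dvd_of_le hle
    rw [hNM, e] at this
    omega
  rw [hH] at hd
  rcases h.cases _ hne with e | e | e | e | e | e | e | e | e | e | e | e <;>
    rw [e] at hn hd hcase3 hcase39 <;> omega

theorem card_normalizer6 (h : Hyp G) (H : Subgroup G) (hH : Nat.card H = 6) :
    Nat.card (normalizer (H : Set G)) = 12 := by
  haveI : Fact (Nat.Prime 3) := ⟨by norm_num⟩
  obtain ⟨hb, ht⟩ := h.ne_bot_top H (by omega) (by omega)
  have hne := h.normalizer_ne_top H hb ht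
  obtain ⟨r, hr⟩ := exists_prime_orderOf_dvd_card' (G := H) 3 (by rw [hH]; norm_num)
  have hrG : orderOf (r : G) = 3 := by rw [Subgroup.orderOf_coe, hr]
  set R : Subgroup G := zpowers (r : G) with hR
  have hRH : R ≤ H := zpowers_le.mpr r.2
  have hRc : Nat.card R = 3 := by rw [Nat.card_zpowers, hrG]
  have hNR := h.card_normalizer3 R hRc
  haveI : (R.subgroupOf H).Normal := by
    apply normal_subgroupOf_of_card R H hRH
    rw [hH, hRc]
    have : Nat.minFac 6 = 2 := by norm_num
    rw [this]
  have hHN : H ≤ normalizer (R : Set G) := Subgroup.le_normalizer_of_normal_subgroupOf hRH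
  haveI : (H.subgroupOf (normalizer (R : Set G))).Normal := by
    apply normal_subgroupOf_of_card H _ hHN
    rw [hH, hNR]
    have : Nat.minFac 12 = 2 := by norm_num
    rw [this]
  have hNN : normalizer (R : Set G) ≤ normalizer (H : Set G) :=
    Subgroup.le_normalizer_of_normal_subgroupOf hHN
  have hd := Subgroup.card_dvd_of_le hNN
  rw [hNR] at hd
  rcases h.cases _ hne with e | e | e | e | e | e | e | e | e | e | e | e <;>
    rw [e] at hd <;> omega

/-- **Main theorem**: every nontrivial proper subgroup has a maximal normalizer. -/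
theorem isCoatom_normalizer (h : Hyp G) (H : Subgroup G) (hb : H ≠ ⊥) (ht : H ≠ ⊤) :
    IsCoatom (normalizer (H : Set G)) := by
  have hne := h.normalizer_ne_top H hb ht
  apply h.coatom _ hne
  rcases h.cases H ht with e | e | e | e | e | e | e | e | e | e | e | e
  · exact absurd (Subgroup.card_eq_one.mp e) hb
  · exact Or.inl (h.card_normalizer2 H e)
  · exact Or.inl (h.card_normalizer3 H e)
  · exact Or.inl (h.card_normalizer4 H e)
  · exact Or.inl (h.card_normalizer6 H e)
  · exact Or.inr (Or.inl (h.card_normalizer7 H e))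
  · exact Or.inl (by rw [h.card_normalizer_big H (Or.inl e), e])
  · exact Or.inr (Or.inr (h.card_normalizer13 H e))
  · exact Or.inr (Or.inl (by rw [h.card_normalizer_big H (Or.inr (Or.inl e)), e]))
  · exact Or.inr (Or.inr (h.card_normalizer_26_39 H (Or.inl e)))
  · exact Or.inr (Or.inr (h.card_normalizer_26_39 H (Or.inr e)))
  · exact Or.inr (Or.inr (by rw [h.card_normalizer_big H (Or.inr (Or.inr e)), e]))

end Hyp

end Cfsg.Agent.Lib.Helper1.Ord1092
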