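import Mathlib
import Cfsg.Agent.Lib.Helper1.Ord1092D
import Cfsg.Agent.Lib.Helper13.DkWrap
import Cfsg.Agent.Lib.Helper13.DkMax
import Cfsg.Agent.Lib.Helper13.SL2OrderFour
import Cfsg.Agent.Lib.Helper10.PSL213

set_option autoImplicit false

namespace Cfsg.Agent.Lib.Helper1.Ord1092

open Subgroup Matrix

local notation "L13" => Matrix.ProjectiveSpecialLinearGroup (Fin 2) (ZMod 13)

instance fact13' : Fact (Nat.Prime 13) := ⟨by norm_num⟩

theorem card_perm4' : Nat.card (Equiv.Perm (Fin 4)) = 24 := by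
  rw [Nat.card_eq_fintype_card, Fintype.card_perm, Fintype.card_fin]; rfl

theorem card_alt4' : Nat.card (alternatingGroup (Fin 4)) = 12 := by
  rw [Nat.card_eq_fintype_card]; rfl

theorem card_alt5' : Nat.card (alternatingGroup (Fin 5)) = 60 := by
  rw [Nat.card_eq_fintype_card]; rfl

theorem dvd78_cases (n : ℕ) (h : n ∣ 78) :
    n = 1 ∨ n = 2 ∨ n = 3 ∨ n = 6 ∨ n = 13 ∨ n = 26 ∨ n = 39 ∨ n = 78 := by
  have hle : n ≤ 78 := Nat.le_of_dvd (by norm_num) h
  interval_cases n <;> simp_all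

theorem sub13 (L : Subgroup L13) (hL : L ≠ ⊤) :
    Nat.card L ∈ ({1, 2, 3, 4, 6, 7, 12, 13, 14, 26, 39, 78} : Finset ℕ) := by
  have hq : Fintype.card (ZMod 13) = 13 := ZMod.card 13
  have hD := Cfsg.Agent.Lib.Helper13.Dk.dickson_subgroup' (F := ZMod 13) 13 L
  have hcardG : Nat.card L13 = 1092 := Cfsg.Agent.Lib.Helper10.PSL213.card13
  have hdvd : Nat.card L ∣ 1092 := by rw [← hcardG]; exact Subgroup.card_subgroup_dvd_card L
  rw [hq] at hD
  have hg : Nat.gcd 2 (13 - 1) = 2 := by norm_num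
  rcases hD with ⟨k, hk, hX⟩ | ⟨_, hN, _⟩ | ⟨⟨e⟩⟩ | ⟨⟨e⟩⟩ | ⟨⟨e⟩⟩ | ⟨K, _, _, m, hm, hX⟩
  · rw [hg] at hk
    have hk' : k = 1 ∨ k = 7 ∨ k = 2 ∨ k = 3 ∨ k = 6 := by
      rcases hk with hk | hk
      · have : k ∣ 7 := by simpa using hk
        have hle : k ≤ 7 := Nat.le_of_dvd (by norm_num) this
        interval_cases k <;> simp_all
      · have : k ∣ 6 := by simpa using hk
        have hle : k ≤ 6 := Nat.le_of_dvd (by norm_num) this
        interval_cases k <;> simp_all
    rcases hX with ⟨_, hc⟩ | ⟨⟨e⟩⟩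
    · rw [hc]
      rcases hk' with rfl | rfl | rfl | rfl | rfl <;> simp
    · rw [Nat.card_congr e.toEquiv, DihedralGroup.nat_card]
      rcases hk' with rfl | rfl | rfl | rfl | rfl <;> simp
  · rw [hg] at hN
    have : Nat.card L ∣ 78 := by
      have h2 : Nat.card L * 2 ∣ 78 * 2 := by simpa using hN
      exact Nat.dvd_of_mul_dvd_mul_right (by norm_num) h2
    rcases dvd78_cases _ this with e | e | e | e | e | e | e | e <;> rw [e] <;> simp
  · rw [Nat.card_congr e.toEquiv, card_alt4']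
    simp
  · exfalso
    rw [Nat.card_congr e.toEquiv, card_perm4'] at hdvd
    omega
  · exfalso
    rw [Nat.card_congr e.toEquiv, card_alt5'] at hdvd
    omega
  · exfalso
    exact hL (Cfsg.Agent.Lib.Helper13.Dk.eq_top_of_prime_field (p := 13) (by norm_num) hq L K m hm hX)

theorem hyp13 : Hyp L13 where
  simple := Matrix.ProjectiveSpecialLinearGroup.rank_two_simple
    (by rw [Nat.card_eq_fintype_card, ZMod.card]; norm_num)
  card := Cfsg.Agent.Lib.Helper10.PSL213.card13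
  sub := sub13
  pow := Cfsg.Agent.Lib.Helper10.PSL213.pow_cases
  six := Cfsg.Agent.Lib.Helper10.PSL213.exists_order6
  inv := fun x y hx hy =>
    Cfsg.Agent.Lib.Helper13.isConj_of_orderOf_two (F := ZMod 13) (by decide) x y hx hy

/-- every nontrivial proper subgroup of `PSL₂(13)` has a maximal normalizer -/
theorem isCoatom_normalizer_PSL13 (H : Subgroup L13) (hb : H ≠ ⊥) (ht : H ≠ ⊤) :
    IsCoatom (normalizer (H : Set L13)) :=
  hyp13.isCoatom_normalizer H hb ht

end Cfsg.Agent.Lib.Helper1.Ord1092
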