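import Mathlib
import Cfsg.Agent.Lib.Helper1.Ord1092E

set_option autoImplicit false

namespace Cfsg.Agent.Lib.Helper1.Ord1092

open Subgroup Matrix

/-- comap of a coatom along a surjective homomorphism is a coatom -/
theorem isCoatom_comap {E Q : Type*} [Group E] [Group Q] (f : E →* Q) (hf : Function.Surjective f)
    (N : Subgroup Q) (hN : IsCoatom N) : IsCoatom (N.comap f) := by
  refine ⟨fun h => hN.1 ?_, fun M hM => ?_⟩
  · rw [← Subgroup.map_comap_eq_self_of_surjective hf N, h, ← MonoidHom.range_eq_map,
      MonoidHom.range_eq_top.mpr hf]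
  · have hker : f.ker ≤ M := le_trans (Subgroup.ker_le_comap f N) hM.le
    have hMc : (M.map f).comap f = M := by
      rw [Subgroup.comap_map_eq, sup_eq_left.mpr hker]
    have hle : N ≤ M.map f := by
      rw [← Subgroup.map_comap_eq_self_of_surjective hf N]
      exact Subgroup.map_mono hM.le
    rcases eq_or_lt_of_le hle with e | hlt
    · exfalso
      rw [← hMc, ← e] at hM
      exact lt_irrefl _ hM
    · have := hN.2 _ hlt
      rw [← hMc, this, Subgroup.comap_top]

theorem coatom_lift {E : Type*} [Group E] [Finite E] (z : E)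
    (hz2 : z * z = 1) (hcen : ∀ w ∈ center E, w = 1 ∨ w = z)
    (hinv : ∀ t : E, t * t = 1 → t = 1 ∨ t = z)
    (hQ : ∀ Hb : Subgroup (E ⧸ center E), Hb ≠ ⊥ → Hb ≠ ⊤ →
      IsCoatom (normalizer (Hb : Set (E ⧸ center E))))
    (H : Subgroup E) (hH : ¬ H.Normal) : IsCoatom (normalizer (H : Set E)) := by
  set π : E →* E ⧸ center E := QuotientGroup.mk' (center E) with hπ
  have hsurj : Function.Surjective π := QuotientGroup.mk'_surjective _
  have hker : π.ker = center E := QuotientGroup.ker_mk' _
  have hZN : center E ≤ normalizer (H : Set E) := Subgroup.center_le_normalizer _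
  have hb : H.map π ≠ ⊥ := by
    intro h
    rw [Subgroup.map_eq_bot_iff, hker] at h
    apply hH
    refine ⟨fun n hn g => ?_⟩
    have := h hn
    rw [Subgroup.mem_center_iff] at this
    rw [this g, mul_inv_cancel_right]
    exact hn
  have ht : H.map π ≠ ⊤ := by
    intro h
    have h1 : (H.map π).comap π = ⊤ := by rw [h, Subgroup.comap_top]
    rw [Subgroup.comap_map_eq, hker] at h1
    apply hH
    rw [← normalizer_eq_top_iff, eq_top_iff, ← h1]
    exact sup_le le_normalizer hZN
  have hodd : z ∉ H → ¬ 2 ∣ Nat.card H := by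
    intro hzH h2
    haveI : Fact (Nat.Prime 2) := ⟨Nat.prime_two⟩
    obtain ⟨t, ht2⟩ := exists_prime_orderOf_dvd_card' (G := H) 2 h2
    have h1 : (t : E) * (t : E) = 1 := by
      have := pow_orderOf_eq_one t
      rw [ht2, sq] at this
      have := congrArg Subtype.val this
      simpa using this
    rcases hinv _ h1 with e | e
    · have : t = 1 := Subtype.ext e
      rw [this, orderOf_one] at ht2
      omega
    · exact hzH (e ▸ t.2)
  have claim : ∀ g : E, π g ∈ normalizer ((H.map π : Subgroup (E ⧸ center E)) : Set (E ⧸ center E)) →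
      ∀ x ∈ H, g * x * g⁻¹ ∈ H := by
    intro g hg x hx
    have h1 : π (g * x * g⁻¹) ∈ H.map π := by
      rw [map_mul, map_mul, map_inv]
      exact (mem_normalizer_iff.mp hg (π x)).mp (Subgroup.mem_map_of_mem π hx)
    obtain ⟨y, hy, hyx⟩ := h1
    have h2 : y⁻¹ * (g * x * g⁻¹) ∈ center E := by
      rw [← hker, MonoidHom.mem_ker, map_mul, map_inv, hyx, inv_mul_cancel]
    rcases hcen _ h2 with e | e
    · have : g * x * g⁻¹ = y := by
        have := congrArg (fun w => y * w) e
        simpa using this
      rw [this]; exact hy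
    · have hgy : g * x * g⁻¹ = y * z := by
        have := congrArg (fun w => y * w) e
        simpa using this
      by_cases hzH : z ∈ H
      · rw [hgy]; exact H.mul_mem hy hzH
      · exfalso
        have hoddn := hodd hzH
        set n := Nat.card H with hn
        have hxn : x ^ n = 1 := by
          have h5 := pow_card_eq_one' (G := H) (x := ⟨x, hx⟩)
          have h6 := congrArg Subtype.val h5
          rw [Subgroup.coe_pow] at h6
          exact h6
        have hyn : y ^ n = 1 := by
          have h5 := pow_card_eq_one' (G := H) (x := ⟨y, hy⟩)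
          have h6 := congrArg Subtype.val h5
          rw [Subgroup.coe_pow] at h6
          exact h6
        have hzc : z ∈ center E := by
          have : z = y⁻¹ * (g * x * g⁻¹) := e.symm
          rw [this]; exact h2
        have hcomm : Commute y z := (Subgroup.mem_center_iff.mp hzc y)
        have h3 : (g * x * g⁻¹) ^ n = 1 := by rw [conj_pow, hxn, mul_one, mul_inv_cancel]
        rw [hgy, hcomm.mul_pow, hyn, one_mul] at h3
        have hzn : z ^ n = z := by
          obtain ⟨k, hk⟩ : ∃ k, n = 2 * k + 1 := ⟨n / 2, by omega⟩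
          rw [hk, pow_succ, pow_mul, sq, hz2, one_pow, one_mul]
        rw [hzn] at h3
        apply hzH
        rw [h3]; exact H.one_mem
  have key : normalizer (H : Set E) =
      (normalizer ((H.map π : Subgroup (E ⧸ center E)) : Set (E ⧸ center E))).comap π := by
    apply le_antisymm
    · rw [← Subgroup.map_le_iff_le_comap]
      exact Subgroup.le_normalizer_map π
    · intro g hg
      rw [Subgroup.mem_comap] at hg
      rw [mem_normalizer_iff]
      intro x
      refine ⟨claim g hg x, fun hx => ?_⟩
      have hg' : π g⁻¹ ∈ normalizer ((H.map π : Subgroup (E ⧸ center E)) : Set (E ⧸ center E)) := by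
        rw [map_inv]; exact inv_mem hg
      have := claim g⁻¹ hg' _ hx
      simpa [mul_assoc] using this
  rw [key]
  exact isCoatom_comap π hsurj _ (hQ _ hb ht)

local notation "S13" => Matrix.SpecialLinearGroup (Fin 2) (ZMod 13)

/-- every non-normal subgroup of `SL₂(13)` has a maximal normalizer -/
theorem isCoatom_normalizer_SL13 (H : Subgroup S13) (hH : ¬ H.Normal) :
    IsCoatom (normalizer (H : Set S13)) := by
  have h2 : (2 : ZMod 13) ≠ 0 := by decide
  refine coatom_lift (Cfsg.Agent.Lib.Helper13.zSL (ZMod 13)) ?_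
    (fun w hw => Cfsg.Agent.Lib.Helper13.center_cases w hw)
    (fun t ht => Cfsg.Agent.Lib.Helper13.sq_eq_one_cases h2 t ht) ?_ H hH
  · exact Cfsg.Agent.Lib.Helper13.zSL_mul_self
  · intro Hb hb ht
    exact isCoatom_normalizer_PSL13 Hb hb ht

end Cfsg.Agent.Lib.Helper1.Ord1092
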