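import Mathlib
import Cfsg.Agent.Lib.Helper1.Ord1092F

set_option autoImplicit false

namespace Cfsg.Agent.Lib.Helper1.Ord1092

open Subgroup Matrix

theorem coatom_transport {K K0 : Type*} [Group K] [Group K0] (e : K ≃* K0)
    (h0 : ∀ A : Subgroup K0, ¬ A.Normal → IsCoatom (normalizer (A : Set K0)))
    (A : Subgroup K) (hA : ¬ A.Normal) : IsCoatom (normalizer (A : Set K)) := by
  set A0 : Subgroup K0 := A.map e.toMonoidHom with hA0
  have hc : A0.comap e.toMonoidHom = A :=
    Subgroup.comap_map_eq_self_of_injective e.injective A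
  have hn : ¬ A0.Normal := by
    intro h
    apply hA
    rw [← hc]
    exact h.comap _
  have h1 := h0 A0 hn
  have h2 := Subgroup.comap_normalizer_eq_of_surjective A0 (f := e.toMonoidHom) e.surjective
  rw [hc] at h2
  rw [← h2]
  exact isCoatom_comap e.toMonoidHom e.surjective _ h1

theorem coatom_prod {K S : Type*} [Group K] [CommGroup S] [Finite K] [Finite S]
    (hKS : (Nat.card K).Coprime (Nat.card S))
    (hK : ∀ A : Subgroup K, ¬ A.Normal → IsCoatom (normalizer (A : Set K)))
    (H : Subgroup (K × S)) (hH : ¬ H.Normal) : IsCoatom (normalizer (H : Set (K × S))) := by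
  set A : Subgroup K := H.map (MonoidHom.fst K S) with hAdef
  -- splitting of elements of `H`
  have hsplit : ∀ a : K, ∀ b : S, (a, b) ∈ H → (a, (1 : S)) ∈ H := by
    intro a b hab
    obtain ⟨k, hk1, hk0⟩ := Nat.chineseRemainder hKS 1 0
    have h1 : (a, b) ^ k ∈ H := H.pow_mem hab k
    have ha : a ^ k = a := by
      rw [← pow_mod_natCard, hk1, pow_mod_natCard, pow_one]
    have hb : b ^ k = 1 := by
      rw [← pow_mod_natCard, hk0, pow_mod_natCard, pow_zero]
    rw [Prod.pow_mk, ha, hb] at h1
    exact h1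
  have hA : ∀ a : K, a ∈ A ↔ (a, (1 : S)) ∈ H := by
    intro a
    constructor
    · rintro ⟨⟨a', b⟩, hab, rfl⟩
      exact hsplit a' b hab
    · intro h
      exact ⟨(a, 1), h, rfl⟩
  have hmem : ∀ a : K, ∀ b : S, (a, b) ∈ H ↔ a ∈ A ∧ ((1 : K), b) ∈ H := by
    intro a b
    constructor
    · intro hab
      have h1 := hsplit a b hab
      refine ⟨(hA a).mpr h1, ?_⟩
      have := H.mul_mem (H.inv_mem h1) hab
      simpa using this
    · rintro ⟨ha, hb⟩
      have := H.mul_mem ((hA a).mp ha) hb
      simpa using this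
  have key : normalizer (H : Set (K × S)) = (normalizer (A : Set K)).comap (MonoidHom.fst K S) := by
    ext ⟨g, s⟩
    rw [Subgroup.mem_comap, MonoidHom.coe_fst, mem_normalizer_iff, mem_normalizer_iff]
    constructor
    · intro h a
      rw [hA, hA, h (a, 1)]
      simp
    · intro h ⟨a, b⟩
      have e : (g, s) * (a, b) * (g, s)⁻¹ = (g * a * g⁻¹, b) := by
        simp [mul_comm s b]
      have h' : a ∈ A ↔ g * a * g⁻¹ ∈ A := h a
      rw [e, hmem a b, hmem (g * a * g⁻¹) b, h']
  have hAn : ¬ A.Normal := by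
    intro h
    apply hH
    rw [← normalizer_eq_top_iff, key, normalizer_eq_top_iff.mpr h, Subgroup.comap_top]
  rw [key]
  exact isCoatom_comap _ Prod.fst_surjective _ (hK A hAn)

/-- **S4234**: in `K × S` with `K ≅ PSL₂(13)` or `SL₂(13)` and `S` abelian of coprime order, every
non-normal subgroup has a maximal normalizer. -/
theorem main {K S : Type*} [Group K] [CommGroup S] [Finite K] [Finite S]
    (hK : Nonempty (K ≃* Matrix.ProjectiveSpecialLinearGroup (Fin 2) (ZMod 13)) ∨
      Nonempty (K ≃* Matrix.SpecialLinearGroup (Fin 2) (ZMod 13)))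
    (hKS : (Nat.card K).Coprime (Nat.card S)) (H : Subgroup (K × S)) (hH : ¬ H.Normal) :
    IsCoatom (Subgroup.normalizer (H : Set (K × S))) := by
  refine coatom_prod hKS ?_ H hH
  rcases hK with ⟨⟨e⟩⟩ | ⟨⟨e⟩⟩
  · refine coatom_transport e ?_
    intro A0 hA0
    refine isCoatom_normalizer_PSL13 A0 ?_ ?_
    · rintro rfl; exact hA0 inferInstance
    · rintro rfl; exact hA0 inferInstance
  · exact coatom_transport e isCoatom_normalizer_SL13

end Cfsg.Agent.Lib.Helper1.Ord1092
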