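import Cfsg.Agent.Lib.Helper1.OrdTools
import Cfsg.Agent.Lib.Helper5.BLOrdB
import Cfsg.Agent.Lib.Helper1.BLBound
import Cfsg.Agent.Lib.Helper1.BLPm1
import Cfsg.Agent.Lib.Helper1.BLBound3

/-!
helper1: there is no simple group of order `4536 = 2^3 * 3^4 * 7` (S0983 team target), by block
arithmetic at `p = 7`: `C(P) ≠ P` always, so the nontrivial principal block characters have degree
at least `14`; the degree equations for `|N(P) : C(P)| = 2, 3, 6` then have no solution.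
-/

set_option autoImplicit false
set_option linter.style.haveILetI false

namespace Cfsg.Agent.Lib.Helper1.Ord4536

open Cfsg Cfsg.Agent.CharLib Cfsg.Agent.Lib.Helper24 Cfsg.Agent.Lib.Helper12.BSF
open Cfsg.Agent.Lib.Helper5.BLFull Cfsg.Agent.Lib.Helper5.BLOrd Cfsg.Agent.Lib.Helper8.OrdSieve
open Cfsg.Agent.Lib.Helper1.OrdTools

theorem np_7 : npList 7 1 648 = [36, 162] := by decide +kernel

theorem cand_7 : candList 4536 7 = [(8, 1), (36, 1), (162, 1), (6, -1), (27, -1), (216, -1)] := by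
  decide +kernel

variable {G : Type*} [Group G] [Finite G] [IsSimpleGroup G]

/-- The order-3 degree bound (to be supplied): a nontrivial irreducible character which is constant
on the `7`-singular elements of `⟨y⟩ × ⟨k⟩`, `k` of order 3, has degree at least `14`. -/
def Bound3 (G : Type*) [Group G] [Finite G] : Prop :=
  ∀ (χ : IrrCharacter G) (a : ℤ) (y k : G), ((χ : G → ℂ) ≠ fun _ => 1) →
    orderOf y = 7 → orderOf k = 3 → Commute y k →
    (∀ y' w : G, y' ∈ Subgroup.zpowers y → y' ≠ 1 → Commute y' w → ¬ 7 ∣ orderOf w →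
      (χ : G → ℂ) (y' * w) = (a : ℂ)) →
    14 ≤ charDegree (χ : G → ℂ)

theorem div_4536 : Nat.divisors 4536 = {1, 2, 3, 4, 6, 7, 8, 9, 12, 14, 18, 21, 24, 27, 28, 36, 42,
    54, 56, 63, 72, 81, 84, 108, 126, 162, 168, 189, 216, 252, 324, 378, 504, 567, 648, 756, 1134,
    1512, 2268, 4536} := by
  decide +kernel

/-- arithmetic for the case `e = 6` -/
theorem nine_dvd (d : ℕ) (hd : d ∣ 4536) (h14 : 14 ≤ d) (c : ℤ) (hc0 : c ≠ 0) (hc : c ^ 2 ≤ 6)
    (h7 : (7 : ℤ) ∣ (d : ℤ) - c) : (9 : ℤ) ∣ (d : ℤ) := by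
  have hc2 : c ≤ 2 := by nlinarith
  have hc2' : -2 ≤ c := by nlinarith
  have hmem : d ∈ Nat.divisors 4536 := Nat.mem_divisors.mpr ⟨hd, by norm_num⟩
  rw [div_4536] at hmem
  simp only [Finset.mem_insert, Finset.mem_singleton] at hmem
  rcases hmem with rfl | rfl | rfl | rfl | rfl | rfl | rfl | rfl | rfl | rfl | rfl | rfl | rfl |
    rfl | rfl | rfl | rfl | rfl | rfl | rfl | rfl | rfl | rfl | rfl | rfl | rfl | rfl | rfl | rfl |
    rfl | rfl | rfl | rfl | rfl | rfl | rfl | rfl | rfl | rfl | rfl <;> omega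

theorem not_simple_4536_aux (hB3 : Bound3 G) :
    Nat.card G ≠ 4536 := by
  intro h
  classical
  have hnc : ¬ IsMulCommutative G :=
    Cfsg.Agent.Lib.Helper7.not_comm_of_card_not_prime (by rw [h]; norm_num)
  have hperf := commutator_eq_top_of_simple hnc
  haveI : Fact (Nat.Prime 7) := ⟨by norm_num⟩
  obtain ⟨n7, k7, hn7, hnk7, d7⟩ := pdata (p := 7) (m := 648) hnc (by rw [h]) (by norm_num)
  have m7 : n7 ∈ npList 7 1 648 := by
    rw [← hn7]
    exact sylow_count_mem hnc (by norm_num) le_rfl (by norm_num) (h.trans (by norm_num))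
      (by norm_num)
  rw [np_7] at m7
  simp only [List.mem_cons, List.not_mem_nil, or_false] at m7
  obtain ⟨P⟩ : Nonempty (Sylow 7 G) := inferInstance
  obtain ⟨hP, hN, c, r, hc, hcr, hrd, hr1, hrel⟩ := d7 P
  have hr6 : r ≤ 6 := Nat.le_of_dvd (by norm_num) hrd
  have hc2369 : c = 2 ∨ c = 3 ∨ c = 6 ∨ c = 9 := by
    rcases m7 with rfl | rfl
    · have hk7 : k7 = 18 := by omega
      subst hk7
      interval_cases r <;> omega
    · have hk7 : k7 = 4 := by omega
      subst hk7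
      interval_cases r <;> omega
  -- a generator of `P`
  obtain ⟨y0, hy0⟩ := exists_prime_orderOf_dvd_card' (G := ↥(P : Subgroup G)) 7 (by rw [hP])
  have hyo : orderOf (y0 : G) = 7 := by rw [Subgroup.orderOf_coe]; exact hy0
  have hPy : Subgroup.zpowers (y0 : G) = (P : Subgroup G) := by
    apply Subgroup.eq_of_le_of_card_ge
    · rw [Subgroup.zpowers_le]; exact y0.2
    · rw [Nat.card_zpowers, hyo, hP]
  -- the degree bound
  have hbound : ∀ (χ : IrrCharacter G) (b : ℤ), ((χ : G → ℂ) ≠ fun _ => 1) →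
      (∀ y w : G, y ∈ (P : Subgroup G) → y ≠ 1 → Commute y w → ¬ 7 ∣ orderOf w →
        (χ : G → ℂ) (y * w) = (b : ℂ)) → 14 ≤ charDegree (χ : G → ℂ) := by
    intro χ b hχ hval
    have hval' : ∀ y' w : G, y' ∈ Subgroup.zpowers (y0 : G) → y' ≠ 1 → Commute y' w →
        ¬ 7 ∣ orderOf w → (χ : G → ℂ) (y' * w) = (b : ℂ) := by
      intro y' w hy'
      rw [hPy] at hy'
      exact hval y' w hy'
    by_cases h2 : 2 ∣ c
    · have h2' : 2 ∣ Nat.card ↥(Subgroup.centralizer ((P : Subgroup G) : Set G)) := by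
        rw [hc]; exact Dvd.dvd.mul_left h2 7
      haveI : Fact (Nat.Prime 2) := ⟨Nat.prime_two⟩
      obtain ⟨k0, hk0⟩ := exists_prime_orderOf_dvd_card'
        (G := ↥(Subgroup.centralizer ((P : Subgroup G) : Set G))) 2 h2'
      have hko : orderOf (k0 : G) = 2 := by rw [Subgroup.orderOf_coe]; exact hk0
      have hcomm : Commute (y0 : G) (k0 : G) :=
        (Subgroup.mem_centralizer_iff.mp k0.2) (y0 : G) y0.2
      exact Cfsg.Agent.Lib.Helper1.BLBound.deg_ge_of_invol hperf 7 (by norm_num) χ hχ b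
        (y0 : G) (k0 : G) hyo hko hcomm hval'
    · have h3 : 3 ∣ c := by
        rcases hc2369 with rfl | rfl | rfl | rfl <;> omega
      have h3' : 3 ∣ Nat.card ↥(Subgroup.centralizer ((P : Subgroup G) : Set G)) := by
        rw [hc]; exact Dvd.dvd.mul_left h3 7
      haveI : Fact (Nat.Prime 3) := ⟨Nat.prime_three⟩
      obtain ⟨k0, hk0⟩ := exists_prime_orderOf_dvd_card'
        (G := ↥(Subgroup.centralizer ((P : Subgroup G) : Set G))) 3 h3'
      have hko : orderOf (k0 : G) = 3 := by rw [Subgroup.orderOf_coe]; exact hk0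
      have hcomm : Commute (y0 : G) (k0 : G) :=
        (Subgroup.mem_centralizer_iff.mp k0.2) (y0 : G) y0.2
      exact hB3 χ b (y0 : G) (k0 : G) hχ hyo hko hcomm hval'
  -- candidate degrees
  have hcand : ∀ (χ : IrrCharacter G) (b : ℤ), ((χ : G → ℂ) ≠ fun _ => 1) → (b = 1 ∨ b = -1) →
      (7 : ℤ) ∣ (charDegree (χ : G → ℂ) : ℤ) - b →
      (∀ y w : G, y ∈ (P : Subgroup G) → y ≠ 1 → Commute y w → ¬ 7 ∣ orderOf w →
        (χ : G → ℂ) (y * w) = (b : ℂ)) →
      (charDegree (χ : G → ℂ) = 36 ∧ b = 1) ∨ (charDegree (χ : G → ℂ) = 162 ∧ b = 1) ∨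
        (charDegree (χ : G → ℂ) = 27 ∧ b = -1) ∨ (charDegree (χ : G → ℂ) = 216 ∧ b = -1) := by
    intro χ b hχ hb hcong hval
    have hge := hbound χ b hχ hval
    have hmem : (charDegree (χ : G → ℂ), b) ∈ candList 4536 7 := by
      refine mem_candList (by norm_num) hb ?_ hcong ?_ (irr_charDegree_pos χ)
      · rw [← h]; exact irr_charDegree_dvd_card χ
      · exact fun h1 => hχ (eq_one_of_charDegree_one hperf χ h1)
    rw [cand_7] at hmem
    simp only [List.mem_cons, Prod.mk.injEq, List.not_mem_nil, or_false] at hmem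
    rcases hmem with ⟨h1, h2⟩ | ⟨h1, h2⟩ | ⟨h1, h2⟩ | ⟨h1, h2⟩ | ⟨h1, h2⟩ | ⟨h1, h2⟩
    · omega
    · exact Or.inl ⟨h1, h2⟩
    · exact Or.inr (Or.inl ⟨h1, h2⟩)
    · omega
    · exact Or.inr (Or.inr (Or.inl ⟨h1, h2⟩))
    · exact Or.inr (Or.inr (Or.inr ⟨h1, h2⟩))
  -- the possible values of `r`
  have hr236 : r = 2 ∨ r = 3 ∨ r = 6 := by
    interval_cases r <;> omega
  rcases hr236 with rfl | rfl | rfl
  · -- `m = 2`
    obtain ⟨χ, η, a, ha, hχ1, hcong, hη, hval⟩ := core_two 7 (by norm_num) P hP hrel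
    have hηdvd : charDegree (η : G → ℂ) ∣ 4536 := by
      rw [← h]; exact irr_charDegree_dvd_card η
    have key : ∀ v : ℤ, ((charDegree (η : G → ℂ) : ℤ) = v ∨ (charDegree (η : G → ℂ) : ℤ) = -v) →
        ¬ (v.natAbs ∣ 4536) → False := by
      intro v hv hN
      rcases hv with hv | hv
      · exact final_contra 4536 _ 1 v (Or.inl rfl) (by rw [hv]; ring) hηdvd hN
      · exact final_contra 4536 _ (-1) v (Or.inr rfl) (by rw [hv]; ring) hηdvd hN
    refine key _ hη ?_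
    rcases hcand χ a hχ1 ha hcong hval with ⟨h1, h2⟩ | ⟨h1, h2⟩ | ⟨h1, h2⟩ | ⟨h1, h2⟩ <;>
      rw [h1, h2] <;> decide
  · -- `m = 3`
    obtain ⟨X, a, η, d, δ, hδ, hXc, hXne, ha0, hsq, hcong, hdeg, hval⟩ :=
      core_full 7 P hP 3 (by norm_num) (by norm_num) hrel
    have ht : (((7 - 1) / 3 : ℕ) : ℤ) = 2 := by norm_num
    rw [ht] at hsq hdeg
    rw [Nat.cast_ofNat] at hsq
    have hηdvd : charDegree (η : G → ℂ) ∣ 4536 := by
      rw [← h]; exact irr_charDegree_dvd_card η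
    have hsum0 : 0 ≤ ∑ χ ∈ X, a χ ^ 2 := Finset.sum_nonneg (fun χ _ => sq_nonneg _)
    have hd1 : -1 ≤ d := by nlinarith [sq_nonneg (d - δ)]
    have hd1' : d ≤ 1 := by nlinarith [sq_nonneg (d - δ)]
    have hδ2 : δ ^ 2 = 1 := by rcases hδ with rfl | rfl <;> norm_num
    -- in all cases `∑ a² = 2` and `1 + ∑ a χ(1) = ± η(1)`
    have hmain : ∑ χ ∈ X, a χ ^ 2 = 2 → ∀ ε : ℤ, (ε = 1 ∨ ε = -1) →
        1 + ∑ χ ∈ X, a χ * (charDegree (χ : G → ℂ) : ℤ) = ε * (charDegree (η : G → ℂ) : ℤ) →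
        False := by
      intro hs2 ε hε hv
      obtain ⟨hpm, hcard⟩ := sum_sq_small X a ha0 2 hs2 (by norm_num)
      have hX2 : X.card = 2 := by exact_mod_cast hcard
      obtain ⟨χ, ψ, hne', rfl⟩ := Finset.card_eq_two.mp hX2
      rw [Finset.sum_pair hne'] at hv
      have h1 := hcand χ (a χ) (hXne χ (by simp)) (hpm χ (by simp)) (hcong χ (by simp))
        (hval χ (by simp))
      have h2 := hcand ψ (a ψ) (hXne ψ (by simp)) (hpm ψ (by simp)) (hcong ψ (by simp))
        (hval ψ (by simp))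
      rcases h1 with ⟨hf1, hb1⟩ | ⟨hf1, hb1⟩ | ⟨hf1, hb1⟩ | ⟨hf1, hb1⟩ <;>
        rcases h2 with ⟨hf2, hb2⟩ | ⟨hf2, hb2⟩ | ⟨hf2, hb2⟩ | ⟨hf2, hb2⟩ <;>
        rw [hf1, hb1, hf2, hb2] at hv <;>
        exact final_contra 4536 _ ε _ hε hv hηdvd (by decide)
    interval_cases d
    · rcases hδ with rfl | rfl
      · nlinarith
      · exact hmain (by linarith) 1 (Or.inl rfl) (by linarith)
    · rcases hδ with rfl | rfl
      · exact hmain (by linarith) 1 (Or.inl rfl) (by linarith)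
      · exact hmain (by linarith) (-1) (Or.inr rfl) (by linarith)
    · rcases hδ with rfl | rfl
      · exact hmain (by linarith) (-1) (Or.inr rfl) (by linarith)
      · nlinarith
  · -- `m = 6`
    obtain ⟨X, cc, hXne, hc0, hsq, hcong, hdeg, hval⟩ :=
      Cfsg.Agent.Lib.Helper1.BLPm1.core_pm1 7 P hP hrel
    have h9 : (9 : ℤ) ∣ ∑ χ ∈ X, cc χ * (charDegree (χ : G → ℂ) : ℤ) := by
      apply Finset.dvd_sum
      intro χ hχ
      apply Dvd.dvd.mul_left
      have hle : cc χ ^ 2 ≤ 6 := by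
        have h1 : cc χ ^ 2 ≤ ∑ ψ ∈ X, cc ψ ^ 2 :=
          Finset.single_le_sum (f := fun ψ => cc ψ ^ 2) (fun ψ _ => sq_nonneg _) hχ
        rw [hsq] at h1
        norm_num at h1
        exact h1
      refine nine_dvd _ ?_ (hbound χ (cc χ) (hXne χ hχ) (hval χ hχ)) (cc χ) (hc0 χ hχ) hle
        (hcong χ hχ)
      rw [← h]
      exact irr_charDegree_dvd_card χ
    omega

/-- **There is no simple group of order `4536`.** -/
theorem not_simple_4536 : Nat.card G ≠ 4536 := by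
  intro h
  have hnc : ¬ IsMulCommutative G :=
    Cfsg.Agent.Lib.Helper7.not_comm_of_card_not_prime (by rw [h]; norm_num)
  have hperf := commutator_eq_top_of_simple hnc
  haveI : Fact (Nat.Prime 7) := ⟨by norm_num⟩
  refine not_simple_4536_aux ?_ h
  intro χ a y k hχ hy hk hyk hval
  exact Cfsg.Agent.Lib.Helper1.BLBound.deg_ge_of_order_three hperf 7 (by norm_num) χ hχ a y k hy hk
    hyk hval

end Cfsg.Agent.Lib.Helper1.Ord4536
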