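import Cfsg.Agent.Lib.Helper1.OrdTools

/-!
helper1: there is no simple group of order `4620 = 2^2 * 3 * 5 * 7 * 11` (S0983 team target).
-/

set_option autoImplicit false
set_option linter.style.haveILetI false

namespace Cfsg.Agent.Lib.Helper1.Ord4620

open Cfsg.Agent.Lib.Helper1.OrdTools Cfsg.Agent.Lib.Helper8.OrdSieve

theorem np_11 : npList 11 1 420 = [210] := by decide +kernel
theorem np_7 : npList 7 1 660 = [15, 22, 330] := by decide +kernel
theorem np_5 : npList 5 1 924 = [11, 21, 66, 231] := by decide +kernel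

variable {G : Type*} [Group G] [Finite G] [IsSimpleGroup G]

theorem not_simple_4620 : Nat.card G ≠ 4620 := by
  intro h
  have hnc : ¬ IsMulCommutative G :=
    Cfsg.Agent.Lib.Helper7.not_comm_of_card_not_prime (by rw [h]; norm_num)
  haveI : Fact (Nat.Prime 11) := ⟨by norm_num⟩
  haveI : Fact (Nat.Prime 7) := ⟨by norm_num⟩
  haveI : Fact (Nat.Prime 5) := ⟨by norm_num⟩
  obtain ⟨n11, k11, hn11, hnk11, d11⟩ := pdata (p := 11) (m := 420) hnc (by rw [h]) (by norm_num)
  obtain ⟨n7, k7, hn7, hnk7, d7⟩ := pdata (p := 7) (m := 660) hnc (by rw [h]) (by norm_num)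
  obtain ⟨n5, k5, hn5, hnk5, d5⟩ := pdata (p := 5) (m := 924) hnc (by rw [h]) (by norm_num)
  have m11 : n11 ∈ npList 11 1 420 := by
    rw [← hn11]
    exact sylow_count_mem hnc (by norm_num) le_rfl (by norm_num) (h.trans (by norm_num)) (by norm_num)
  have m7 : n7 ∈ npList 7 1 660 := by
    rw [← hn7]
    exact sylow_count_mem hnc (by norm_num) le_rfl (by norm_num) (h.trans (by norm_num)) (by norm_num)
  have m5 : n5 ∈ npList 5 1 924 := by
    rw [← hn5]
    exact sylow_count_mem hnc (by norm_num) le_rfl (by norm_num) (h.trans (by norm_num)) (by norm_num)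
  rw [np_11] at m11
  rw [np_7] at m7
  rw [np_5] at m5
  simp only [List.mem_cons, List.not_mem_nil, or_false] at m11 m7 m5
  subst m11
  have hk11 : k11 = 2 := by omega
  subst hk11
  have hP11 : ∀ Q : Sylow 11 G, Nat.card ↥(Q : Subgroup G) = 11 := fun Q => (d11 Q).1
  have hP7 : ∀ Q : Sylow 7 G, Nat.card ↥(Q : Subgroup G) = 7 := fun Q => (d7 Q).1
  have hP5 : ∀ Q : Sylow 5 G, Nat.card ↥(Q : Subgroup G) = 5 := fun Q => (d5 Q).1
  -- `C(P11) = P11`
  have hC11 : ∀ Q : Sylow 11 G,
      Nat.card ↥(Subgroup.centralizer ((Q : Subgroup G) : Set G)) = 11 := by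
    intro Q
    obtain ⟨-, -, c, r, hc, hcr, hrd, hr1, -⟩ := d11 Q
    have hr2 : r ≤ 2 := Nat.le_of_dvd (by norm_num) (Dvd.intro_left c hcr)
    interval_cases r <;> omega
  obtain ⟨P7⟩ : Nonempty (Sylow 7 G) := inferInstance
  obtain ⟨-, hN7, c7, r7, hc7, hcr7, hrd7, hr17, -⟩ := d7 P7
  have hr76 : r7 ≤ 6 := Nat.le_of_dvd (by norm_num) hrd7
  rcases m7 with rfl | rfl | rfl
  · -- `n_7 = 15`: `11 ∣ |C(P7)|`
    have hk7 : k7 = 44 := by omega
    subst hk7
    have h11 : 11 ∣ Nat.card ↥(Subgroup.centralizer ((P7 : Subgroup G) : Set G)) := by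
      rw [hc7]
      interval_cases r7 <;> omega
    obtain ⟨Q, -, hdvd⟩ := exists_sylow_swap_dvd hP7 hP11 P7 h11
    rw [hC11 Q] at hdvd
    norm_num at hdvd
  · -- `n_7 = 22`: `5 ∣ |C(P7)|`
    have hk7 : k7 = 30 := by omega
    subst hk7
    have h5 : 5 ∣ Nat.card ↥(Subgroup.centralizer ((P7 : Subgroup G) : Set G)) := by
      rw [hc7]
      interval_cases r7 <;> omega
    obtain ⟨Q5, hQ5C, hPC⟩ := exists_sylow_swap hP5 P7 h5
    have h7 : 7 ∣ Nat.card ↥(Subgroup.centralizer ((Q5 : Subgroup G) : Set G)) := by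
      have := Subgroup.card_dvd_of_le hPC
      rwa [hP7 P7] at this
    obtain ⟨-, hN5, c5, r5, hc5, hcr5, hrd5, hr15, -⟩ := d5 Q5
    have h7c : 7 ∣ c5 := by
      rw [hc5] at h7
      exact (Nat.Coprime.dvd_mul_left (by norm_num : Nat.Coprime 7 5)).mp h7
    have h7k : 7 ∣ k5 := by rw [← hcr5]; exact Dvd.dvd.mul_right h7c r5
    obtain ⟨d, n₁, n₂, hm1, hm2, e1, e2, hd⟩ :=
      cross (p := 5) (q := 7) (by norm_num) Q5 P7 (hP5 Q5) (hP7 P7) hPC
    rw [hN5] at e1
    rw [hN7] at e2
    obtain ⟨e, rfl⟩ := hd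
    have he : n₂ * e = 6 := by nlinarith
    have he6 : e ≤ 6 := Nat.le_of_dvd (by norm_num) (Dvd.intro_left n₂ he)
    rcases m5 with rfl | rfl | rfl | rfl
    · have hk5 : k5 = 84 := by omega
      subst hk5
      have he' : n₁ * e = 12 := by nlinarith
      interval_cases e <;> omega
    · omega
    · have hk5 : k5 = 14 := by omega
      subst hk5
      have he' : n₁ * e = 2 := by nlinarith
      interval_cases e <;> omega
    · omega
  · -- `n_7 = 330`: `C(P7) = P7`, count elements
    have hk7 : k7 = 2 := by omega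
    subst hk7
    have hC7 : ∀ Q : Sylow 7 G,
        Nat.card ↥(Subgroup.centralizer ((Q : Subgroup G) : Set G)) = 7 := by
      intro Q
      obtain ⟨-, -, c, r, hc, hcr, hrd, hr1, -⟩ := d7 Q
      have hr2 : r ≤ 2 := Nat.le_of_dvd (by norm_num) (Dvd.intro_left c hcr)
      interval_cases r <;> omega
    obtain ⟨P5⟩ : Nonempty (Sylow 5 G) := inferInstance
    obtain ⟨-, hN5, c5, r5, hc5, hcr5, hrd5, hr15, -⟩ := d5 P5
    have hr54 : r5 ≤ 4 := Nat.le_of_dvd (by norm_num) hrd5
    rcases m5 with rfl | rfl | rfl | rfl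
    · -- `n_5 = 11`: `7 ∣ |C(P5)|`
      have hk5 : k5 = 84 := by omega
      subst hk5
      have h7 : 7 ∣ Nat.card ↥(Subgroup.centralizer ((P5 : Subgroup G) : Set G)) := by
        rw [hc5]
        interval_cases r5 <;> omega
      obtain ⟨Q, -, hdvd⟩ := exists_sylow_swap_dvd hP5 hP7 P5 h7
      rw [hC7 Q] at hdvd
      norm_num at hdvd
    · -- `n_5 = 21`: `11 ∣ |C(P5)|`
      have hk5 : k5 = 44 := by omega
      subst hk5
      have h11 : 11 ∣ Nat.card ↥(Subgroup.centralizer ((P5 : Subgroup G) : Set G)) := by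
        rw [hc5]
        interval_cases r5 <;> omega
      obtain ⟨Q, -, hdvd⟩ := exists_sylow_swap_dvd hP5 hP11 P5 h11
      rw [hC11 Q] at hdvd
      norm_num at hdvd
    · -- `n_5 = 66`: `7 ∣ |C(P5)|`
      have hk5 : k5 = 14 := by omega
      subst hk5
      have h7 : 7 ∣ Nat.card ↥(Subgroup.centralizer ((P5 : Subgroup G) : Set G)) := by
        rw [hc5]
        interval_cases r5 <;> omega
      obtain ⟨Q, -, hdvd⟩ := exists_sylow_swap_dvd hP5 hP7 P5 h7
      rw [hC7 Q] at hdvd
      norm_num at hdvd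
    · -- `n_5 = 231`: too many elements
      have e7 := card_orderOf_prime (G := G) (p := 7) (m := 660) (h.trans (by norm_num)) (by norm_num)
      have e11 := card_orderOf_prime (G := G) (p := 11) (m := 420) (h.trans (by norm_num))
        (by norm_num)
      have e5 := card_orderOf_prime (G := G) (p := 5) (m := 924) (h.trans (by norm_num)) (by norm_num)
      rw [hn7] at e7
      rw [hn11] at e11
      rw [hn5] at e5
      have hle := card_three_le (G := G) (fun g => orderOf g = 7) (fun g => orderOf g = 11)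
        (fun g => orderOf g = 5) (fun g h1 h2 => by rw [h1] at h2; norm_num at h2)
        (fun g h1 h2 => by rw [h1] at h2; norm_num at h2)
        (fun g h1 h2 => by rw [h1] at h2; norm_num at h2)
        (by rw [orderOf_one]; norm_num) (by rw [orderOf_one]; norm_num)
        (by rw [orderOf_one]; norm_num)
      rw [e7, e11, e5, h] at hle
      norm_num at hle

end Cfsg.Agent.Lib.Helper1.Ord4620
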