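import Cfsg.Agent.Lib.Helper1.OrdTools

/-!
helper1: there is no simple group of order `5376 = 2^8 * 3 * 7` (S0983 team target).
Parity argument: an involution centralizing a Sylow 7-subgroup acts on the 21 Sylow 2-subgroups.
-/

set_option autoImplicit false
set_option linter.style.haveILetI false

namespace Cfsg.Agent.Lib.Helper1.Ord5376

open Cfsg.Agent.Lib.Helper1.OrdTools Cfsg.Agent.Lib.Helper8.OrdSieve
  Cfsg.Agent.Lib.Helper8.SmallSimple MulAction

theorem np_7 : npList 7 1 768 = [64] := by decide +kernel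
theorem np_2 : npList 2 8 21 = [21] := by decide +kernel

variable {G : Type*} [Group G] [Finite G] [IsSimpleGroup G]

theorem not_simple_5376 : Nat.card G ≠ 5376 := by
  intro h
  have hnc : ¬ IsMulCommutative G :=
    Cfsg.Agent.Lib.Helper7.not_comm_of_card_not_prime (by rw [h]; norm_num)
  haveI : Fact (Nat.Prime 7) := ⟨by norm_num⟩
  haveI : Fact (Nat.Prime 2) := ⟨by norm_num⟩
  obtain ⟨n7, k7, hn7, hnk7, d7⟩ := pdata (p := 7) (m := 768) hnc (by rw [h]) (by norm_num)
  have m7 : n7 ∈ npList 7 1 768 := by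
    rw [← hn7]
    exact sylow_count_mem hnc (by norm_num) le_rfl (by norm_num) (h.trans (by norm_num))
      (by norm_num)
  have m2 : Nat.card (Sylow 2 G) ∈ npList 2 8 21 :=
    sylow_count_mem hnc (by norm_num) (by norm_num) (by norm_num) (h.trans (by norm_num))
      (by norm_num)
  rw [np_7] at m7
  rw [np_2] at m2
  simp only [List.mem_cons, List.not_mem_nil, or_false] at m7 m2
  subst m7
  have hk7 : k7 = 12 := by omega
  subst hk7
  -- the normaliser of a Sylow 2-subgroup
  obtain ⟨S⟩ : Nonempty (Sylow 2 G) := inferInstance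
  set K := Subgroup.normalizer ((S : Subgroup G) : Set G) with hK
  have hKcard : Nat.card ↥K = 256 :=
    card_normalizer_of_count (p := 2) (by norm_num) h (by norm_num : 21 * 256 = 5376) S m2
  have hKidx : K.index = 21 := by
    rw [hK, ← m2]; exact (Sylow.card_eq_index_normalizer S).symm
  have hKtop : K ≠ ⊤ := by
    intro htop
    rw [htop, Subgroup.index_top] at hKidx
    omega
  -- an involution centralizing a Sylow 7-subgroup
  obtain ⟨P7⟩ : Nonempty (Sylow 7 G) := inferInstance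
  obtain ⟨hP7, -, c7, r7, hc7, hcr7, hrd7, hr17, -⟩ := d7 P7
  have hr76 : r7 ≤ 6 := Nat.le_of_dvd (by norm_num) hrd7
  have h2 : 2 ∣ Nat.card ↥(Subgroup.centralizer ((P7 : Subgroup G) : Set G)) := by
    rw [hc7]
    interval_cases r7 <;> omega
  obtain ⟨t0, ht0⟩ := exists_prime_orderOf_dvd_card'
    (G := ↥(Subgroup.centralizer ((P7 : Subgroup G) : Set G))) 2 h2
  have hto : orderOf (t0 : G) = 2 := by rw [Subgroup.orderOf_coe]; exact ht0
  have ht2 : (t0 : G) ^ 2 = 1 := by rw [← hto]; exact pow_orderOf_eq_one _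
  -- parity
  obtain ⟨s, hs4, hs⟩ := four_dvd_moved (by rw [h]; norm_num) K (t0 : G) ht2
  rw [hKidx] at hs
  -- the fixed points of `t` form a union of regular `P7`-orbits
  have hinv : ∀ y ∈ (P7 : Subgroup G), ∀ a ∈ fixedBy (G ⧸ K) (t0 : G),
      y • a ∈ fixedBy (G ⧸ K) (t0 : G) := by
    intro y hy a ha
    rw [mem_fixedBy] at ha ⊢
    have hcy : (t0 : G) * y = y * (t0 : G) := ((Subgroup.mem_centralizer_iff.mp t0.2) y hy).symm
    rw [smul_smul, hcy, ← smul_smul, ha]
  have h1 := card_invariant_modEq (P7 : Subgroup G) P7.2 (fixedBy (G ⧸ K) (t0 : G)) hinv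
  have h0 : Nat.card {a : G ⧸ K // a ∈ fixedBy (G ⧸ K) (t0 : G) ∧
      ∀ y ∈ (P7 : Subgroup G), y • a = a} = 0 := by
    have hemp : IsEmpty {a : G ⧸ K // a ∈ fixedBy (G ⧸ K) (t0 : G) ∧
        ∀ y ∈ (P7 : Subgroup G), y • a = a} := by
      constructor
      rintro ⟨a, -, ha⟩
      obtain ⟨y0, hy0⟩ := exists_prime_orderOf_dvd_card' (G := ↥(P7 : Subgroup G)) 7 (by rw [hP7])
      have hyo : orderOf (y0 : G) = 7 := by rw [Subgroup.orderOf_coe]; exact hy0
      have hfix := ha (y0 : G) y0.2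
      induction a using QuotientGroup.induction_on with
      | H g =>
        rw [Cfsg.Agent.S1018.smul_mk_eq_iff] at hfix
        have ho : orderOf (g⁻¹ * (y0 : G) * g) = 7 := by
          have : SemiconjBy g⁻¹ (y0 : G) (g⁻¹ * (y0 : G) * g) := by unfold SemiconjBy; group
          rw [← this.orderOf_eq]; exact hyo
        have hdvd : orderOf (g⁻¹ * (y0 : G) * g) ∣ Nat.card ↥K :=
          Subgroup.orderOf_dvd_natCard _ hfix
        rw [ho, hKcard] at hdvd
        norm_num at hdvd
    exact Nat.card_of_isEmpty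
  rw [h0] at h1
  have h7 : 7 ∣ Nat.card (fixedBy (G ⧸ K) (t0 : G)) := (Nat.modEq_zero_iff_dvd).mp h1
  have hall : Nat.card (fixedBy (G ⧸ K) (t0 : G)) = Nat.card (G ⧸ K) := by
    have : Nat.card (G ⧸ K) = 21 := hKidx
    rw [this]
    omega
  have ht1 : (t0 : G) = 1 :=
    eq_one_of_smul_eq K hKtop (t0 : G) (smul_eq_of_card_fixedBy (t0 : G) hall)
  rw [ht1, orderOf_one] at hto
  omega

end Cfsg.Agent.Lib.Helper1.Ord5376
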