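import Cfsg.Agent.Lib.Helper1.OrdTools

/-!
helper1: there is no simple group of order `5460 = 2^2 * 3 * 5 * 7 * 13` (S0983 team target).
-/

set_option autoImplicit false
set_option linter.style.haveILetI false

namespace Cfsg.Agent.Lib.Helper1.Ord5460

open Cfsg.Agent.Lib.Helper1.OrdTools Cfsg.Agent.Lib.Helper8.OrdSieve
  Cfsg.Agent.Lib.Helper22.SylowPrimeCount

theorem np_13 : npList 13 1 420 = [105] := by decide +kernel
theorem np_7 : npList 7 1 780 = [15, 78, 260] := by decide +kernel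
theorem np_5 : npList 5 1 1092 = [21, 26, 91, 546] := by decide +kernel

variable {G : Type*} [Group G] [Finite G] [IsSimpleGroup G]

theorem not_simple_5460 : Nat.card G ≠ 5460 := by
  intro h
  have hnc : ¬ IsMulCommutative G :=
    Cfsg.Agent.Lib.Helper7.not_comm_of_card_not_prime (by rw [h]; norm_num)
  have h2 : Even (Nat.card G) := by rw [h]; decide
  have h8 : ¬ 8 ∣ Nat.card G := by rw [h]; norm_num
  haveI : Fact (Nat.Prime 13) := ⟨by norm_num⟩
  haveI : Fact (Nat.Prime 7) := ⟨by norm_num⟩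
  haveI : Fact (Nat.Prime 5) := ⟨by norm_num⟩
  obtain ⟨n13, k13, hn13, hnk13, d13⟩ := pdata (p := 13) (m := 420) hnc (by rw [h]) (by norm_num)
  obtain ⟨n7, k7, hn7, hnk7, d7⟩ := pdata (p := 7) (m := 780) hnc (by rw [h]) (by norm_num)
  obtain ⟨n5, k5, hn5, hnk5, d5⟩ := pdata (p := 5) (m := 1092) hnc (by rw [h]) (by norm_num)
  have m13 : n13 ∈ npList 13 1 420 := by
    rw [← hn13]
    exact sylow_count_mem hnc (by norm_num) le_rfl (by norm_num) (h.trans (by norm_num))
      (by norm_num)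
  have m7 : n7 ∈ npList 7 1 780 := by
    rw [← hn7]
    exact sylow_count_mem hnc (by norm_num) le_rfl (by norm_num) (h.trans (by norm_num))
      (by norm_num)
  have m5 : n5 ∈ npList 5 1 1092 := by
    rw [← hn5]
    exact sylow_count_mem hnc (by norm_num) le_rfl (by norm_num) (h.trans (by norm_num))
      (by norm_num)
  rw [np_13] at m13
  rw [np_7] at m7
  rw [np_5] at m5
  simp only [List.mem_cons, List.not_mem_nil, or_false] at m13 m7 m5
  subst m13
  have hk13 : k13 = 4 := by omega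
  subst hk13
  have hP13 : ∀ Q : Sylow 13 G, Nat.card ↥(Q : Subgroup G) = 13 := fun Q => (d13 Q).1
  have hP7 : ∀ Q : Sylow 7 G, Nat.card ↥(Q : Subgroup G) = 7 := fun Q => (d7 Q).1
  have hP5 : ∀ Q : Sylow 5 G, Nat.card ↥(Q : Subgroup G) = 5 := fun Q => (d5 Q).1
  -- `|C(P13)| = 26`
  have hC13 : ∀ Q : Sylow 13 G,
      Nat.card ↥(Subgroup.centralizer ((Q : Subgroup G) : Set G)) = 26 := by
    intro Q
    obtain ⟨hQ, -, c, r, hc, hcr, hrd, hr1, hrel⟩ := d13 Q
    have hr4 : r ≠ 4 := by
      rw [← hrel]; exact relIndex_ne_four hnc h2 h8 (Q : Subgroup G) hQ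
    have hr2 : r ≤ 4 := Nat.le_of_dvd (by norm_num) (Dvd.intro_left c hcr)
    interval_cases r <;> omega
  -- `|C(P5)| = 5 * (k5 / 2)`
  have hC5 : ∀ Q : Sylow 5 G,
      2 * Nat.card ↥(Subgroup.centralizer ((Q : Subgroup G) : Set G)) = 5 * k5 := by
    intro Q
    obtain ⟨hQ, -, c, r, hc, hcr, hrd, hr1, hrel⟩ := d5 Q
    have hr4 : r ≠ 4 := by
      rw [← hrel]; exact relIndex_ne_four hnc h2 h8 (Q : Subgroup G) hQ
    have hr2 : r ≤ 4 := Nat.le_of_dvd (by norm_num) hrd
    interval_cases r <;> omega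
  obtain ⟨P7⟩ : Nonempty (Sylow 7 G) := inferInstance
  obtain ⟨-, hN7, c7, r7, hc7, hcr7, hrd7, hr17, -⟩ := d7 P7
  have hr76 : r7 ≤ 6 := Nat.le_of_dvd (by norm_num) hrd7
  rcases m7 with rfl | rfl | rfl
  · -- `n_7 = 15`: `13 ∣ |C(P7)|`
    have hk7 : k7 = 52 := by omega
    subst hk7
    have h13 : 13 ∣ Nat.card ↥(Subgroup.centralizer ((P7 : Subgroup G) : Set G)) := by
      rw [hc7]
      interval_cases r7 <;> omega
    obtain ⟨Q, -, hdvd⟩ := exists_sylow_swap_dvd hP7 hP13 P7 h13
    rw [hC13 Q] at hdvd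
    norm_num at hdvd
  · -- `n_7 = 78`: `|C(P7)| = 35`
    have hk7 : k7 = 10 := by omega
    subst hk7
    have h5 : 5 ∣ Nat.card ↥(Subgroup.centralizer ((P7 : Subgroup G) : Set G)) := by
      rw [hc7]
      interval_cases r7 <;> omega
    obtain ⟨Q5, hQ5C, hPC⟩ := exists_sylow_swap hP5 P7 h5
    have h7 : 7 ∣ Nat.card ↥(Subgroup.centralizer ((Q5 : Subgroup G) : Set G)) := by
      have := Subgroup.card_dvd_of_le hPC
      rwa [hP7 P7] at this
    obtain ⟨-, hN5, -⟩ := d5 Q5
    have hC5' := hC5 Q5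
    obtain ⟨d, n₁, n₂, hm1, hm2, e1, e2, hd⟩ :=
      cross (p := 5) (q := 7) (by norm_num) Q5 P7 (hP5 Q5) (hP7 P7) hPC
    rw [hN5] at e1
    rw [hN7] at e2
    obtain ⟨e, rfl⟩ := hd
    have he : n₂ * e = 2 := by nlinarith
    have he2 : e ≤ 2 := Nat.le_of_dvd (by norm_num) (Dvd.intro_left n₂ he)
    rcases m5 with rfl | rfl | rfl | rfl
    · omega
    · have hk5 : k5 = 42 := by omega
      subst hk5
      have he' : n₁ * e = 6 := by nlinarith
      interval_cases e <;> omega
    · omega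
    · omega
  · -- `n_7 = 260`: `C(P7) = P7`, count elements
    have hk7 : k7 = 3 := by omega
    subst hk7
    have hC7 : ∀ Q : Sylow 7 G,
        Nat.card ↥(Subgroup.centralizer ((Q : Subgroup G) : Set G)) = 7 := by
      intro Q
      obtain ⟨-, -, c, r, hc, hcr, hrd, hr1, -⟩ := d7 Q
      have hr2 : r ≤ 3 := Nat.le_of_dvd (by norm_num) (Dvd.intro_left c hcr)
      interval_cases r <;> omega
    -- the counting argument
    have hcount : (∀ Q : Sylow 5 G, 2184 ≤ Nat.card (Sylow 5 G) *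
          ((5 - 1) * (Nat.card ↥(Subgroup.centralizer ((Q : Subgroup G) : Set G)) / 5))) →
        (∀ Q : Sylow 5 G,
          ¬ 13 ∣ Nat.card ↥(Subgroup.centralizer ((Q : Subgroup G) : Set G))) → False := by
      intro hb5 hn13'
      have c5 : 2184 ≤ Nat.card {g : G // 5 ∣ orderOf g} := le_card_dvd_orderOf hP5 2184 hb5
      have c13 : 2520 ≤ Nat.card {g : G // 13 ∣ orderOf g} := by
        apply le_card_dvd_orderOf hP13 2520
        intro Q
        rw [hn13, hC13 Q]
      have e7 := card_orderOf_prime (G := G) (p := 7) (m := 780) (h.trans (by norm_num))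
        (by norm_num)
      rw [hn7] at e7
      have hle := card_three_le (G := G) (fun g => 5 ∣ orderOf g) (fun g => orderOf g = 7)
        (fun g => 13 ∣ orderOf g) (fun g h1 h2 => by rw [h2] at h1; norm_num at h1)
        (fun g h1 h2 => by
          obtain ⟨Q, hQ⟩ := exists_sylow_dvd_centralizer (p := 5) (q := 13) hP5 g h1 h2
          exact hn13' Q hQ)
        (fun g h1 h2 => by rw [h1] at h2; norm_num at h2)
        (by rw [orderOf_one]; norm_num) (by rw [orderOf_one]; norm_num)
        (by rw [orderOf_one]; norm_num)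
      rw [e7, h] at hle
      omega
    obtain ⟨P5⟩ : Nonempty (Sylow 5 G) := inferInstance
    have hC5' := hC5 P5
    rcases m5 with rfl | rfl | rfl | rfl
    · -- `n_5 = 21`: `13 ∣ |C(P5)|`
      have hk5 : k5 = 52 := by omega
      subst hk5
      have h13 : 13 ∣ Nat.card ↥(Subgroup.centralizer ((P5 : Subgroup G) : Set G)) := by omega
      obtain ⟨Q, -, hdvd⟩ := exists_sylow_swap_dvd hP5 hP13 P5 h13
      rw [hC13 Q] at hdvd
      norm_num at hdvd
    · -- `n_5 = 26`: `7 ∣ |C(P5)|`
      have hk5 : k5 = 42 := by omega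
      subst hk5
      have h7 : 7 ∣ Nat.card ↥(Subgroup.centralizer ((P5 : Subgroup G) : Set G)) := by omega
      obtain ⟨Q, -, hdvd⟩ := exists_sylow_swap_dvd hP5 hP7 P5 h7
      rw [hC7 Q] at hdvd
      norm_num at hdvd
    · -- `n_5 = 91`
      have hk5 : k5 = 12 := by omega
      subst hk5
      apply hcount
      · intro Q
        have := hC5 Q
        have hc : Nat.card ↥(Subgroup.centralizer ((Q : Subgroup G) : Set G)) = 30 := by omega
        rw [hn5, hc]
      · intro Q hQ
        have := hC5 Q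
        omega
    · -- `n_5 = 546`
      have hk5 : k5 = 2 := by omega
      subst hk5
      apply hcount
      · intro Q
        have := hC5 Q
        have hc : Nat.card ↥(Subgroup.centralizer ((Q : Subgroup G) : Set G)) = 5 := by omega
        rw [hn5, hc]
      · intro Q hQ
        have := hC5 Q
        omega

end Cfsg.Agent.Lib.Helper1.Ord5460
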