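import Mathlib
import Cfsg.Agent.Lib.Helper8.OrdSieveE
import Cfsg.Agent.Lib.Helper22.SylowPrimeCount
import Cfsg.Agent.Lib.Helper12.NseA
import Cfsg.Agent.S0992

/-!
helper1: generic tools for killing residual orders of simple groups (S0983 team target):
uniform Sylow data for a prime dividing the order exactly once, the "swap" lemma
(`q ∣ |C(P)|` gives a Sylow `q`-subgroup `Q ≤ C(P)` with `P ≤ C(Q)`), the "cross" lemma (Sylow
counting in `N(P)` and `N(Q)` for commuting Sylow subgroups of prime orders), exclusion of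
`|N(P) : C(P)| = 4` when `|G| = 4 * odd`, and element counts.
-/

set_option autoImplicit false
set_option linter.style.haveILetI false

namespace Cfsg.Agent.Lib.Helper1.OrdTools

open Cfsg.Agent.Lib.Helper7 Cfsg.Agent.Lib.Helper8.SmallSimple Cfsg.Agent.Lib.Helper8.SmallSimple2

variable {G : Type*} [Group G] [Finite G]

/-- Sylow data for a prime `p` dividing the order of a simple group exactly once, uniform in the
Sylow subgroup: `n` Sylow subgroups, `|N(P)| = p * k`, `|C(P)| = p * c`, `|N : C| = r`. -/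
theorem pdata [IsSimpleGroup G] (hnc : ¬ IsMulCommutative G) {p m : ℕ} [Fact p.Prime]
    (hG : Nat.card G = p * m) (hpm : ¬ p ∣ m) :
    ∃ n k : ℕ, Nat.card (Sylow p G) = n ∧ n * k = m ∧
      ∀ P : Sylow p G, Nat.card ↥(P : Subgroup G) = p ∧
        Nat.card ↥(Subgroup.normalizer ((P : Subgroup G) : Set G)) = p * k ∧
        ∃ c r : ℕ, Nat.card ↥(Subgroup.centralizer ((P : Subgroup G) : Set G)) = p * c ∧
          c * r = k ∧ r ∣ p - 1 ∧ r ≠ 1 ∧
          (Subgroup.centralizer ((P : Subgroup G) : Set G)).relIndex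
            (Subgroup.normalizer ((P : Subgroup G) : Set G)) = r := by
  obtain ⟨P₀⟩ : Nonempty (Sylow p G) := inferInstance
  obtain ⟨-, n, k, c, r, hn, hN, hC, hr, hnk, hcr, hmod, hne1, hrd, hr1, hidx, -⟩ :=
    sylow_prime_data hnc hG hpm P₀
  refine ⟨n, k, hn, hnk, fun P => ?_⟩
  obtain ⟨hP, n', k', c', r', hn', hN', hC', hr', hnk', hcr', -, -, hrd', hr1', -, -⟩ :=
    sylow_prime_data hnc hG hpm P
  have hnn : n' = n := by rw [← hn', hn]
  have hn0 : 0 < n := by rw [← hn]; exact Nat.card_pos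
  have hkk : k' = k := by
    rw [hnn] at hnk'
    exact Nat.eq_of_mul_eq_mul_left hn0 (hnk'.trans hnk.symm)
  rw [hkk] at hN' hcr'
  exact ⟨hP, hN', c', r', hC', hcr', hrd', hr1', hr'⟩

/-- an element of prime order `q` generates a Sylow `q`-subgroup when these have order `q` -/
theorem exists_sylow_of_orderOf {q : ℕ} [Fact q.Prime]
    (hq : ∀ Q : Sylow q G, Nat.card ↥(Q : Subgroup G) = q) (x : G) (hx : orderOf x = q) :
    ∃ Q : Sylow q G, (Q : Subgroup G) = Subgroup.zpowers x := by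
  have hyp : IsPGroup q (Subgroup.zpowers x) :=
    IsPGroup.of_card (n := 1) (by rw [Nat.card_zpowers, hx, pow_one])
  obtain ⟨Q, hQ⟩ := hyp.exists_le_sylow
  refine ⟨Q, ?_⟩
  symm
  apply Subgroup.eq_of_le_of_card_ge hQ
  rw [Nat.card_zpowers, hx, hq Q]

/-- the swap lemma: if `q ∣ |C(P)|` there is a Sylow `q`-subgroup `Q ≤ C(P)`, and then `P ≤ C(Q)` -/
theorem exists_sylow_swap {p q : ℕ} [Fact p.Prime] [Fact q.Prime]
    (hq : ∀ Q : Sylow q G, Nat.card ↥(Q : Subgroup G) = q) (P : Sylow p G)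
    (h : q ∣ Nat.card ↥(Subgroup.centralizer ((P : Subgroup G) : Set G))) :
    ∃ Q : Sylow q G, (Q : Subgroup G) ≤ Subgroup.centralizer ((P : Subgroup G) : Set G) ∧
      (P : Subgroup G) ≤ Subgroup.centralizer ((Q : Subgroup G) : Set G) := by
  obtain ⟨x0, hx0⟩ := exists_prime_orderOf_dvd_card'
    (G := ↥(Subgroup.centralizer ((P : Subgroup G) : Set G))) q h
  have hxo : orderOf (x0 : G) = q := by rw [Subgroup.orderOf_coe]; exact hx0
  obtain ⟨Q, hQ⟩ := exists_sylow_of_orderOf hq (x0 : G) hxo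
  have hQC : (Q : Subgroup G) ≤ Subgroup.centralizer ((P : Subgroup G) : Set G) := by
    rw [hQ, Subgroup.zpowers_le]; exact x0.2
  exact ⟨Q, hQC, Subgroup.le_centralizer_iff.mp hQC⟩

/-- consequence of the swap lemma for the orders -/
theorem exists_sylow_swap_dvd {p q : ℕ} [Fact p.Prime] [Fact q.Prime]
    (hp : ∀ P : Sylow p G, Nat.card ↥(P : Subgroup G) = p)
    (hq : ∀ Q : Sylow q G, Nat.card ↥(Q : Subgroup G) = q) (P : Sylow p G)
    (h : q ∣ Nat.card ↥(Subgroup.centralizer ((P : Subgroup G) : Set G))) :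
    ∃ Q : Sylow q G, (Q : Subgroup G) ≤ Subgroup.centralizer ((P : Subgroup G) : Set G) ∧
      p ∣ Nat.card ↥(Subgroup.centralizer ((Q : Subgroup G) : Set G)) := by
  obtain ⟨Q, hQC, hPC⟩ := exists_sylow_swap hq P h
  refine ⟨Q, hQC, ?_⟩
  have := Subgroup.card_dvd_of_le hPC
  rwa [hp P] at this

/-- the cross lemma: Sylow counting in `N(P)` and in `N(Q)` for `Q ≤ C(P)` -/
theorem cross {p q : ℕ} [Fact p.Prime] [Fact q.Prime] (hpq : p ≠ q)
    (P : Sylow p G) (Q : Sylow q G) (hP : Nat.card ↥(P : Subgroup G) = p)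
    (hQ : Nat.card ↥(Q : Subgroup G) = q)
    (hQP : (Q : Subgroup G) ≤ Subgroup.centralizer ((P : Subgroup G) : Set G)) :
    ∃ d n₁ n₂ : ℕ, n₁ % q = 1 ∧ n₂ % p = 1 ∧
      n₁ * d = Nat.card ↥(Subgroup.normalizer ((P : Subgroup G) : Set G)) ∧
      n₂ * d = Nat.card ↥(Subgroup.normalizer ((Q : Subgroup G) : Set G)) ∧ p * q ∣ d := by
  have hpp : p.Prime := Fact.out
  have hqp : q.Prime := Fact.out
  have hPQ : (P : Subgroup G) ≤ Subgroup.centralizer ((Q : Subgroup G) : Set G) :=
    Subgroup.le_centralizer_iff.mp hQP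
  set NP := Subgroup.normalizer ((P : Subgroup G) : Set G) with hNP
  set NQ := Subgroup.normalizer ((Q : Subgroup G) : Set G) with hNQ
  have hQNP : (Q : Subgroup G) ≤ NP := hQP.trans (Subgroup.centralizer_le_normalizer _)
  have hPNQ : (P : Subgroup G) ≤ NQ := hPQ.trans (Subgroup.centralizer_le_normalizer _)
  have h1 := card_sylow_subgroup_mul Q NP hQNP
  have h2 := card_sylow_subgroup_mul P NQ hPNQ
  rw [← hNQ] at h1
  rw [← hNP, inf_comm] at h2
  have hm1 : Nat.card (Sylow q ↥NP) % q = 1 := by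
    have := card_sylow_modEq_one q ↥NP
    rw [Nat.ModEq, Nat.mod_eq_of_lt hqp.one_lt] at this
    exact this
  have hm2 : Nat.card (Sylow p ↥NQ) % p = 1 := by
    have := card_sylow_modEq_one p ↥NQ
    rw [Nat.ModEq, Nat.mod_eq_of_lt hpp.one_lt] at this
    exact this
  refine ⟨Nat.card ↥(NQ ⊓ NP), _, _, hm1, hm2, h1, h2, ?_⟩
  have hPle : (P : Subgroup G) ≤ NQ ⊓ NP := le_inf hPNQ Subgroup.le_normalizer
  have hQle : (Q : Subgroup G) ≤ NQ ⊓ NP := le_inf Subgroup.le_normalizer hQNP
  have d1 : p ∣ Nat.card ↥(NQ ⊓ NP) := by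
    have := Subgroup.card_dvd_of_le hPle
    rwa [hP] at this
  have d2 : q ∣ Nat.card ↥(NQ ⊓ NP) := by
    have := Subgroup.card_dvd_of_le hQle
    rwa [hQ] at this
  exact Nat.Coprime.mul_dvd_of_dvd_of_dvd ((Nat.coprime_primes hpp hqp).mpr hpq) d1 d2

/-- exact number of elements of prime order `p` when `p` divides the group order exactly once -/
theorem card_orderOf_prime {p m : ℕ} [Fact p.Prime] (hG : Nat.card G = p * m) (hpm : ¬ p ∣ m) :
    Nat.card {g : G // orderOf g = p} = (p - 1) * Nat.card (Sylow p G) := by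
  have hp : p.Prime := Fact.out
  have hm0 : m ≠ 0 := by rintro rfl; exact hpm (dvd_zero p)
  have hfac : (Nat.card G).factorization p = 1 := by
    rw [hG, Nat.factorization_mul hp.ne_zero hm0, Finsupp.add_apply, hp.factorization_self,
      Nat.factorization_eq_zero_of_not_dvd hpm]
  obtain ⟨g0, hg0⟩ := exists_prime_orderOf_dvd_card' (G := G) p (by rw [hG]; exact dvd_mul_right p m)
  have := Cfsg.Agent.Lib.Helper12.Nse.card_orderOf_prime_pow_sylow (G := G) p 1 hfac g0
    (by rw [pow_one]; exact hg0)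
  rw [pow_one, Nat.totient_prime hp] at this
  exact this

/-- three disjoint sets of non-identity elements -/
theorem card_three_le (A B C : G → Prop) (hAB : ∀ g, A g → B g → False)
    (hAC : ∀ g, A g → C g → False) (hBC : ∀ g, B g → C g → False)
    (hA1 : ¬ A 1) (hB1 : ¬ B 1) (hC1 : ¬ C 1) :
    Nat.card {g : G // A g} + Nat.card {g : G // B g} + Nat.card {g : G // C g} + 1 ≤
      Nat.card G := by
  classical
  let f : (({g : G // A g} ⊕ {g : G // B g}) ⊕ {g : G // C g}) ⊕ Unit → G :=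
    Sum.elim (Sum.elim (Sum.elim (fun a => a.1) (fun a => a.1)) (fun a => a.1)) (fun _ => 1)
  have hf : Function.Injective f := by
    rintro (((⟨a, ha⟩ | ⟨a, ha⟩) | ⟨a, ha⟩) | ⟨⟩) (((⟨b, hb⟩ | ⟨b, hb⟩) | ⟨b, hb⟩) | ⟨⟩) hab
    all_goals
      simp only [f, Sum.elim_inl, Sum.elim_inr] at hab
    all_goals first
      | rfl
      | (subst hab; first
          | rfl
          | exact absurd ha hA1 | exact absurd ha hB1 | exact absurd ha hC1
          | exact absurd hb hA1 | exact absurd hb hB1 | exact absurd hb hC1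
          | exact (hAB _ ha hb).elim | exact (hAB _ hb ha).elim
          | exact (hAC _ ha hb).elim | exact (hAC _ hb ha).elim
          | exact (hBC _ ha hb).elim | exact (hBC _ hb ha).elim)
  have := Nat.card_le_card_of_injective f hf
  have hu : Nat.card Unit = 1 := Nat.card_unique
  rw [Nat.card_sum, Nat.card_sum, Nat.card_sum, hu] at this
  exact this

/-- In a simple group of order `4 * odd`, `|N(P) : C(P)| ≠ 4` for a subgroup `P` of prime order:
otherwise a Sylow `2`-subgroup (a four-group, by S0992) would act faithfully on `P`, but an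
involution centralizes or inverts `P`. -/
theorem relIndex_ne_four [IsSimpleGroup G] (hnc : ¬ IsMulCommutative G) (h2 : Even (Nat.card G))
    (h8 : ¬ 8 ∣ Nat.card G) {p : ℕ} [Fact p.Prime] (P : Subgroup G) (hP : Nat.card ↥P = p) :
    (Subgroup.centralizer (P : Set G)).relIndex (Subgroup.normalizer (P : Set G)) ≠ 4 := by
  classical
  intro h4
  haveI : Fact (Nat.Prime 2) := ⟨Nat.prime_two⟩
  set N := Subgroup.normalizer (P : Set G) with hN
  set C := Subgroup.centralizer (P : Set G) with hC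
  have hmul : Nat.card ↥C * 4 = Nat.card ↥N := by
    have := card_centralizer_mul_relIndex P
    rw [← hN, ← hC, h4] at this
    exact this
  -- `|C|` is odd
  have hCodd : ¬ 2 ∣ Nat.card ↥C := by
    rintro ⟨j, hj⟩
    apply h8
    have h1 : Nat.card ↥N ∣ Nat.card G := Subgroup.card_subgroup_dvd_card N
    refine dvd_trans ⟨j, ?_⟩ h1
    rw [← hmul, hj]; ring
  -- a subgroup of order 4 in `N`
  obtain ⟨K0, hK0⟩ := Sylow.exists_subgroup_card_pow_prime (G := ↥N) 2 (n := 2)
    (by rw [← hmul]; exact ⟨Nat.card ↥C, by ring⟩)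
  set K : Subgroup G := K0.map N.subtype with hK
  have hKcard : Nat.card ↥K = 4 := by
    rw [hK, Subgroup.card_map_of_injective N.subtype_injective, hK0]; norm_num
  have hKN : K ≤ N := by
    intro x hx
    obtain ⟨k, -, rfl⟩ := hx
    exact k.2
  have hKp : IsPGroup 2 ↥K := IsPGroup.of_card (n := 2) (by rw [hKcard]; norm_num)
  obtain ⟨T, hKT⟩ := hKp.exists_le_sylow
  obtain ⟨hklein, -⟩ := Cfsg.Agent.S0992.result hnc h2 h8 T
  have hKeqT : K = (T : Subgroup G) := by
    apply Subgroup.eq_of_le_of_card_ge hKT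
    rw [hKcard, hklein.card_four]
  have hsq : ∀ t ∈ K, t * t = 1 := by
    intro t ht
    rw [hKeqT] at ht
    have h1 : (⟨t, ht⟩ : ↥(T : Subgroup G)) ^ Monoid.exponent ↥(T : Subgroup G) = 1 :=
      Monoid.pow_exponent_eq_one _
    rw [hklein.exponent_two] at h1
    have h2' := congrArg Subtype.val h1
    simp only [Subgroup.coe_pow, Subgroup.coe_one] at h2'
    rw [← pow_two]; exact h2'
  -- a generator of `P`
  obtain ⟨y0, hy0⟩ := exists_prime_orderOf_dvd_card' (G := ↥P) p (by rw [hP])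
  set y : G := (y0 : G) with hy
  have hyo : orderOf y = p := by rw [hy, Subgroup.orderOf_coe]; exact hy0
  have hPy : Subgroup.zpowers y = P := by
    apply Subgroup.eq_of_le_of_card_ge
    · rw [Subgroup.zpowers_le]; exact y0.2
    · rw [Nat.card_zpowers, hyo, hP]
  -- elements of `K` centralizing `y` are trivial
  have hcent : ∀ t ∈ K, t * y * t⁻¹ = y → t = 1 := by
    intro t ht hty
    have htC : t ∈ C := by
      rw [hC, ← hPy]; exact mem_centralizer_zpowers y t hty
    have h1 : orderOf t ∣ Nat.card ↥C := Subgroup.orderOf_dvd_natCard _ htC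
    have h2' : orderOf t ∣ 2 := orderOf_dvd_of_pow_eq_one (by rw [pow_two]; exact hsq t ht)
    rcases (Nat.dvd_prime Nat.prime_two).mp h2' with h3 | h3
    · exact orderOf_eq_one_iff.mp h3
    · rw [h3] at h1; exact absurd h1 hCodd
  have hinv : ∀ t ∈ K, t ≠ 1 → t * y * t⁻¹ = y⁻¹ := by
    intro t ht ht1
    have hmem : t * y * t⁻¹ ∈ Subgroup.zpowers y := by
      rw [hPy]
      exact (Subgroup.mem_normalizer_iff.mp (hKN ht) y).mp y0.2
    rcases conj_eq_or_eq_inv y t hyo (hsq t ht) hmem with h | h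
    · exact absurd (hcent t ht h) ht1
    · exact h
  -- three distinct elements of `K`
  haveI : Fintype ↥K := Fintype.ofFinite _
  have h3 : 2 < Fintype.card ↥K := by rw [← Nat.card_eq_fintype_card, hKcard]; norm_num
  obtain ⟨a, b, c, hab, hac, hbc⟩ := Fintype.two_lt_card_iff.mp h3
  -- two distinct non-identity elements
  obtain ⟨s, t, hs, ht, hs1, ht1, hst⟩ : ∃ s t : G, s ∈ K ∧ t ∈ K ∧ s ≠ 1 ∧ t ≠ 1 ∧ s ≠ t := by
    by_cases ha1 : (a : G) = 1
    · refine ⟨b, c, b.2, c.2, ?_, ?_, fun h => hbc (Subtype.ext h)⟩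
      · intro hb1; exact hab (Subtype.ext (ha1.trans hb1.symm))
      · intro hc1; exact hac (Subtype.ext (ha1.trans hc1.symm))
    · by_cases hb1 : (b : G) = 1
      · refine ⟨a, c, a.2, c.2, ha1, ?_, fun h => hac (Subtype.ext h)⟩
        intro hc1; exact hbc (Subtype.ext (hb1.trans hc1.symm))
      · exact ⟨a, b, a.2, b.2, ha1, hb1, fun h => hab (Subtype.ext h)⟩
  have h5 : s * t * y * (s * t)⁻¹ = y := by
    calc s * t * y * (s * t)⁻¹ = s * (t * y * t⁻¹) * s⁻¹ := by group
      _ = s * y⁻¹ * s⁻¹ := by rw [hinv t ht ht1]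
      _ = (s * y * s⁻¹)⁻¹ := by group
      _ = y := by rw [hinv s hs hs1, inv_inv]
  have h6 : s * t = 1 := hcent (s * t) (K.mul_mem hs ht) h5
  apply hst
  have h7 : t * t = 1 := hsq t ht
  calc s = s * (t * t) := by rw [h7, mul_one]
    _ = (s * t) * t := by group
    _ = t := by rw [h6, one_mul]

/-- if `p` and `q` both divide the order of `g`, some Sylow `p`-subgroup (of order `p`) has
centralizer of order divisible by `q` -/
theorem exists_sylow_dvd_centralizer {p q : ℕ} [Fact p.Prime] [Fact q.Prime]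
    (hp : ∀ P : Sylow p G, Nat.card ↥(P : Subgroup G) = p) (g : G) (h1 : p ∣ orderOf g)
    (h2 : q ∣ orderOf g) :
    ∃ P : Sylow p G, q ∣ Nat.card ↥(Subgroup.centralizer ((P : Subgroup G) : Set G)) := by
  have hpp : p.Prime := Fact.out
  have hqp : q.Prime := Fact.out
  have ho : 0 < orderOf g := orderOf_pos g
  have hx : orderOf (g ^ (orderOf g / p)) = p := by
    rw [orderOf_pow_of_dvd (Nat.div_pos (Nat.le_of_dvd ho h1) hpp.pos).ne' (Nat.div_dvd_of_dvd h1),
      Nat.div_div_self h1 ho.ne']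
  have hw : orderOf (g ^ (orderOf g / q)) = q := by
    rw [orderOf_pow_of_dvd (Nat.div_pos (Nat.le_of_dvd ho h2) hqp.pos).ne' (Nat.div_dvd_of_dvd h2),
      Nat.div_div_self h2 ho.ne']
  obtain ⟨P, hPx⟩ := exists_sylow_of_orderOf hp _ hx
  refine ⟨P, ?_⟩
  have hmem : g ^ (orderOf g / q) ∈ Subgroup.centralizer ((P : Subgroup G) : Set G) := by
    rw [hPx]
    apply mem_centralizer_zpowers
    have hc : Commute (g ^ (orderOf g / q)) (g ^ (orderOf g / p)) :=
      (Commute.refl g).pow_pow _ _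
    calc g ^ (orderOf g / q) * g ^ (orderOf g / p) * (g ^ (orderOf g / q))⁻¹
        = g ^ (orderOf g / p) * g ^ (orderOf g / q) * (g ^ (orderOf g / q))⁻¹ := by rw [hc.eq]
      _ = g ^ (orderOf g / p) := by group
  rw [← hw]
  exact Subgroup.orderOf_dvd_natCard _ hmem

end Cfsg.Agent.Lib.Helper1.OrdTools
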