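import Mathlib
import Cfsg.Prelude.Def_LieExceptional

/-!
helper1: an abstract criterion producing a `Cfsg.BNPair` from root-group data: for every
distinguished involution `s = σ i` a subgroup `X i ≤ B` with `B = (B ∩ sBs) X i`, the rank-one
relation `s x s ∈ B s X i` for `1 ≠ x ∈ X i`, and the dichotomy `n⁻¹ X n ≤ B` or
`n⁻¹ (s X s) n ≤ B` for `n ∈ N`.
-/

set_option autoImplicit false

namespace Cfsg.Agent.Lib.Helper1.OrthBN

variable {G : Type*} [Group G]

/-- in a finite group a submonoid is closed under inverses -/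
lemma inv_mem_of_submonoid [Finite G] (M : Submonoid G) {g : G} (hg : g ∈ M) : g⁻¹ ∈ M := by
  have h1 : g⁻¹ ∈ Submonoid.powers g :=
    mem_powers_iff_mem_zpowers.mpr (Subgroup.inv_mem _ (Subgroup.mem_zpowers g))
  exact Submonoid.powers_le.mpr hg h1

/-- the `(B,N)`-pair attached to root-group data -/
def mkBN {I : Type*} (B N : Subgroup G) (σ : I → G)
    (hBN : B ⊔ N = ⊤)
    (hconj : ∀ n ∈ N, ∀ t ∈ B ⊓ N, n * t * n⁻¹ ∈ B)
    (hSN : ∀ i, σ i ∈ N) (hsq : ∀ i, σ i * σ i = 1)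
    (hinj : ∀ i j, (σ i)⁻¹ * σ j ∈ B → i = j)
    (hgen : Subgroup.closure (Set.range σ) ⊔ (B ⊓ N) = N)
    (X : I → Subgroup G)
    (hF : ∀ i, ∀ b ∈ B, ∃ x ∈ X i, σ i * (b * x⁻¹) * σ i ∈ B)
    (hD : ∀ i, ∀ n ∈ N, (∀ x ∈ X i, n⁻¹ * x * n ∈ B) ∨
      (∀ x ∈ X i, n⁻¹ * (σ i * x * σ i) * n ∈ B))
    (hR : ∀ i, ∀ x ∈ X i, x ≠ 1 → ∃ x' ∈ X i, σ i * x * σ i * x'⁻¹ * σ i ∈ B)
    (hne : ∀ i, ∃ b ∈ B, σ i * b * σ i ∉ B) : Cfsg.BNPair G where
  B := B
  N := N
  S := Set.range σ
  sup_eq_top := hBN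
  conj_mem := hconj
  subset := by rintro _ ⟨i, rfl⟩; exact hSN i
  sq_mem := by rintro _ ⟨i, rfl⟩; rw [hsq i]; exact B.one_mem
  inj := by
    rintro _ ⟨i, rfl⟩ _ ⟨j, rfl⟩ h
    rw [hinj i j h]
  closure_sup := hgen
  mul_mem_union := by
    rintro _ ⟨i, rfl⟩ n hn b hb
    obtain ⟨x, hx, hb'⟩ := hF i b hb
    have hss := hsq i
    set s := σ i with hs
    have hsi : s⁻¹ = s := inv_eq_of_mul_eq_one_left hss
    set b' := s * (b * x⁻¹) * s with hb'def
    have e1 : s * b * n = b' * (s * x * n) := by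
      rw [hb'def]
      have : s * (b * x⁻¹) * s * (s * x * n) = s * (b * x⁻¹) * (s * s) * x * n := by
        simp only [mul_assoc]
      rw [this, hss]
      group
    rcases hD i n hn with h1 | h2
    · left
      rw [DoubleCoset.mem_doubleCoset]
      refine ⟨b', hb', n⁻¹ * x * n, h1 x hx, ?_⟩
      rw [e1]
      group
    · by_cases hx1 : x = 1
      · left
        rw [DoubleCoset.mem_doubleCoset]
        refine ⟨b', hb', 1, B.one_mem, ?_⟩
        rw [e1, hx1]
        group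
      · right
        obtain ⟨x', hx', hb₁⟩ := hR i x hx hx1
        rw [← hs] at hb₁
        set b₁ := s * x * s * x'⁻¹ * s with hb₁def
        have hrel : s * x * s = b₁ * s * x' := by
          rw [hb₁def]
          have : s * x * s * x'⁻¹ * s * s * x' = s * x * s * x'⁻¹ * (s * s) * x' := by
            simp only [mul_assoc]
          rw [this, hss]
          group
        rw [DoubleCoset.mem_doubleCoset]
        refine ⟨b' * b₁, B.mul_mem hb' hb₁, n⁻¹ * (s * x' * s) * n, h2 x' hx', ?_⟩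
        rw [e1]
        have e2 : s * x * n = (s * x * s) * (s * n) := by
          have : s * x * s * (s * n) = s * x * (s * s) * n := by simp only [mul_assoc]
          rw [this, hss]; group
        rw [e2, hrel]
        group
  conj_ne := by
    rintro _ ⟨i, rfl⟩ h
    obtain ⟨b, hb, hnb⟩ := hne i
    apply hnb
    have : σ i * b * σ i ∈ (fun b : G => σ i * b * σ i) '' (B : Set G) := ⟨b, hb, rfl⟩
    rw [h] at this
    exact this

end Cfsg.Agent.Lib.Helper1.OrthBN
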