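import Cfsg.Agent.Lib.Helper18.OrthAutA

/-!
helper1: hyperbolic frames with anisotropic complement in a quadratic space `ι → F`; coordinates,
the flag `E k = ⟨e_0, …, e_{k-1}⟩`.
-/

set_option autoImplicit false
set_option linter.unusedSectionVars false
set_option linter.unusedVariables false

namespace Cfsg.Agent.Lib.Helper1.OrthBN

open Module QuadraticMap Matrix Cfsg.Agent.Lib.Helper25.CD Cfsg.Agent.Lib.Helper25.PS
  Cfsg.Agent.Lib.Helper18.OrthAut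

variable {ι : Type} [Fintype ι] [DecidableEq ι] {F : Type*} [Field F]

theorem polar_sum_left {V : Type*} [AddCommGroup V] [Module F V] (Q : QuadraticForm F V)
    {α : Type*} (s : Finset α) (w : α → V) (x : V) :
    polar Q (∑ a ∈ s, w a) x = ∑ a ∈ s, polar Q (w a) x := by
  classical
  induction s using Finset.induction_on with
  | empty => simp [polar_zero_left]
  | insert a s ha ih => rw [Finset.sum_insert ha, Finset.sum_insert ha, polar_add_left, ih]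

theorem polar_sum_right {V : Type*} [AddCommGroup V] [Module F V] (Q : QuadraticForm F V)
    {α : Type*} (s : Finset α) (w : α → V) (x : V) :
    polar Q x (∑ a ∈ s, w a) = ∑ a ∈ s, polar Q x (w a) := by
  rw [polar_comm, polar_sum_left]
  exact Finset.sum_congr rfl (fun a _ => polar_comm _ _ _)

/-- a hyperbolic frame `fr (inl i) = e_i`, `fr (inr i) = f_i` whose orthogonal complement is
anisotropic -/
structure Frame (Q : QuadraticForm F (ι → F)) (m : ℕ) where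
  fr : Fin m ⊕ Fin m → (ι → F)
  Qfr : ∀ a, Q (fr a) = 0
  pol : ∀ a b, polar Q (fr a) (fr b) = if b = a.swap then 1 else 0
  aniso : ∀ v, (∀ a, polar Q v (fr a) = 0) → Q v = 0 → v = 0

namespace Frame

variable {Q : QuadraticForm F (ι → F)} {m : ℕ} (Φ : Frame Q m)

/-- the index of a frame vector -/
def idx : Fin m ⊕ Fin m → Fin m := Sum.elim id id

@[simp] lemma idx_inl (i : Fin m) : idx (Sum.inl i : Fin m ⊕ Fin m) = i := rfl
@[simp] lemma idx_inr (i : Fin m) : idx (Sum.inr i : Fin m ⊕ Fin m) = i := rfl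
@[simp] lemma idx_swap (a : Fin m ⊕ Fin m) : idx a.swap = idx a := by
  cases a <;> rfl

/-- `e_i` -/
abbrev e (i : Fin m) : ι → F := Φ.fr (Sum.inl i)
/-- `f_i` -/
abbrev f (i : Fin m) : ι → F := Φ.fr (Sum.inr i)

lemma swap_ne_self (a : Fin m ⊕ Fin m) : a.swap ≠ a := by
  cases a <;> simp

lemma polar_fr_self (a : Fin m ⊕ Fin m) : polar Q (Φ.fr a) (Φ.fr a) = 0 := by
  rw [Φ.pol, if_neg (swap_ne_self a).symm]

lemma polar_fr_swap (a : Fin m ⊕ Fin m) : polar Q (Φ.fr a) (Φ.fr a.swap) = 1 := by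
  rw [Φ.pol, if_pos rfl]

lemma polar_swap_fr (a : Fin m ⊕ Fin m) : polar Q (Φ.fr a.swap) (Φ.fr a) = 1 := by
  rw [Φ.pol, if_pos (Sum.swap_swap a).symm]

lemma polar_e_e (i j : Fin m) : polar Q (Φ.e i) (Φ.e j) = 0 := by
  rw [Φ.pol, if_neg (by simp)]

lemma polar_f_f (i j : Fin m) : polar Q (Φ.f i) (Φ.f j) = 0 := by
  rw [Φ.pol, if_neg (by simp)]

lemma polar_e_f (i j : Fin m) : polar Q (Φ.e i) (Φ.f j) = if i = j then 1 else 0 := by
  rw [Φ.pol]
  by_cases h : i = j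
  · rw [if_pos h, if_pos (by rw [h]; rfl)]
  · rw [if_neg h, if_neg]
    intro h'
    exact h (Sum.inr_injective h').symm

lemma polar_f_e (i j : Fin m) : polar Q (Φ.f i) (Φ.e j) = if i = j then 1 else 0 := by
  rw [polar_comm, polar_e_f]
  by_cases h : i = j
  · rw [if_pos h, if_pos h.symm]
  · rw [if_neg h, if_neg (Ne.symm h)]

lemma polar_e_f_self (i : Fin m) : polar Q (Φ.e i) (Φ.f i) = 1 := by
  rw [polar_e_f, if_pos rfl]

lemma polar_f_e_self (i : Fin m) : polar Q (Φ.f i) (Φ.e i) = 1 := by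
  rw [polar_f_e, if_pos rfl]

lemma polar_e_f_ne {i j : Fin m} (h : i ≠ j) : polar Q (Φ.e i) (Φ.f j) = 0 := by
  rw [polar_e_f, if_neg h]

lemma polar_f_e_ne {i j : Fin m} (h : i ≠ j) : polar Q (Φ.f i) (Φ.e j) = 0 := by
  rw [polar_f_e, if_neg h]

lemma fr_ne_zero (a : Fin m ⊕ Fin m) : Φ.fr a ≠ 0 := by
  intro h
  have := Φ.polar_fr_swap a
  rw [h, polar_zero_left] at this
  exact zero_ne_one this

/-- the coordinate along `fr a` -/
def co (a : Fin m ⊕ Fin m) (v : ι → F) : F := polar Q v (Φ.fr a.swap)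

lemma co_add (a : Fin m ⊕ Fin m) (v w : ι → F) : Φ.co a (v + w) = Φ.co a v + Φ.co a w := by
  unfold co; rw [polar_add_left]

lemma co_smul (a : Fin m ⊕ Fin m) (c : F) (v : ι → F) : Φ.co a (c • v) = c * Φ.co a v := by
  unfold co; rw [polar_smul_left, smul_eq_mul]

lemma co_sub (a : Fin m ⊕ Fin m) (v w : ι → F) : Φ.co a (v - w) = Φ.co a v - Φ.co a w := by
  unfold co; rw [polar_sub_left]

lemma co_neg (a : Fin m ⊕ Fin m) (v : ι → F) : Φ.co a (-v) = -Φ.co a v := by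
  unfold co; rw [polar_neg_left]

lemma co_zero (a : Fin m ⊕ Fin m) : Φ.co a 0 = 0 := by
  unfold co; rw [polar_zero_left]

lemma co_fr (a b : Fin m ⊕ Fin m) : Φ.co a (Φ.fr b) = if a = b then 1 else 0 := by
  unfold co
  rw [Φ.pol]
  by_cases h : a = b
  · rw [if_pos h, if_pos (by rw [h])]
  · rw [if_neg h, if_neg]
    intro h'
    apply h
    have := congrArg Sum.swap h'
    simpa using this

lemma co_fr_self (a : Fin m ⊕ Fin m) : Φ.co a (Φ.fr a) = 1 := by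
  rw [co_fr, if_pos rfl]

lemma co_fr_ne {a b : Fin m ⊕ Fin m} (h : a ≠ b) : Φ.co a (Φ.fr b) = 0 := by
  rw [co_fr, if_neg h]

lemma polar_fr (v : ι → F) (a : Fin m ⊕ Fin m) : polar Q v (Φ.fr a) = Φ.co a.swap v := by
  unfold co; rw [Sum.swap_swap]

lemma polar_fr' (v : ι → F) (a : Fin m ⊕ Fin m) : polar Q (Φ.fr a) v = Φ.co a.swap v := by
  rw [polar_comm, polar_fr]

lemma co_sum {α : Type*} (s : Finset α) (w : α → (ι → F)) (a : Fin m ⊕ Fin m) :
    Φ.co a (∑ b ∈ s, w b) = ∑ b ∈ s, Φ.co a (w b) := by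
  unfold co; rw [polar_sum_left]

/-- the anisotropic complement -/
def V0 : Submodule F (ι → F) where
  carrier := {v | ∀ a, Φ.co a v = 0}
  add_mem' := by
    intro v w hv hw a
    rw [co_add, hv a, hw a, add_zero]
  zero_mem' := fun a => Φ.co_zero a
  smul_mem' := by
    intro c v hv a
    rw [co_smul, hv a, mul_zero]

lemma mem_V0 {v : ι → F} : v ∈ Φ.V0 ↔ ∀ a, Φ.co a v = 0 := Iff.rfl

/-- the frame part of a vector -/
def pf (v : ι → F) : ι → F := ∑ a, Φ.co a v • Φ.fr a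

/-- the anisotropic part of a vector -/
def p0 (v : ι → F) : ι → F := v - Φ.pf v

lemma pf_add (v w : ι → F) : Φ.pf (v + w) = Φ.pf v + Φ.pf w := by
  unfold pf
  rw [← Finset.sum_add_distrib]
  exact Finset.sum_congr rfl (fun a _ => by rw [co_add, add_smul])

lemma pf_smul (c : F) (v : ι → F) : Φ.pf (c • v) = c • Φ.pf v := by
  unfold pf
  rw [Finset.smul_sum]
  exact Finset.sum_congr rfl (fun a _ => by rw [co_smul, mul_smul])

lemma p0_add (v w : ι → F) : Φ.p0 (v + w) = Φ.p0 v + Φ.p0 w := by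
  unfold p0; rw [pf_add]; abel

lemma p0_smul (c : F) (v : ι → F) : Φ.p0 (c • v) = c • Φ.p0 v := by
  unfold p0; rw [pf_smul, smul_sub]

lemma pf_zero : Φ.pf 0 = 0 := by
  have := Φ.pf_smul 0 0
  rwa [zero_smul, zero_smul] at this

lemma p0_zero : Φ.p0 0 = 0 := by
  unfold p0; rw [pf_zero, sub_zero]

lemma p0_neg (v : ι → F) : Φ.p0 (-v) = -Φ.p0 v := by
  have := Φ.p0_smul (-1) v
  rwa [neg_one_smul, neg_one_smul] at this

lemma p0_sub (v w : ι → F) : Φ.p0 (v - w) = Φ.p0 v - Φ.p0 w := by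
  rw [sub_eq_add_neg, p0_add, p0_neg, ← sub_eq_add_neg]

lemma co_pf (a : Fin m ⊕ Fin m) (v : ι → F) : Φ.co a (Φ.pf v) = Φ.co a v := by
  unfold pf
  rw [co_sum]
  simp only [co_smul, co_fr]
  rw [Finset.sum_eq_single a]
  · simp
  · intro b _ hb
    rw [if_neg (Ne.symm hb), mul_zero]
  · intro h; exact absurd (Finset.mem_univ a) h

lemma p0_mem (v : ι → F) : Φ.p0 v ∈ Φ.V0 := by
  intro a
  unfold p0
  rw [co_sub, co_pf, sub_self]

lemma decomp (v : ι → F) : v = Φ.pf v + Φ.p0 v := by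
  unfold p0; abel

lemma pf_fr (a : Fin m ⊕ Fin m) : Φ.pf (Φ.fr a) = Φ.fr a := by
  unfold pf
  rw [Finset.sum_eq_single a]
  · rw [co_fr_self, one_smul]
  · intro b _ hb
    rw [co_fr_ne _ hb, zero_smul]
  · intro h; exact absurd (Finset.mem_univ a) h

lemma p0_fr (a : Fin m ⊕ Fin m) : Φ.p0 (Φ.fr a) = 0 := by
  unfold p0; rw [pf_fr, sub_self]

lemma pf_of_mem_V0 {v : ι → F} (hv : v ∈ Φ.V0) : Φ.pf v = 0 := by
  unfold pf
  apply Finset.sum_eq_zero
  intro a _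
  rw [hv a, zero_smul]

lemma p0_of_mem_V0 {v : ι → F} (hv : v ∈ Φ.V0) : Φ.p0 v = v := by
  unfold p0; rw [pf_of_mem_V0 _ hv, sub_zero]

lemma aniso' {v : ι → F} (hv : v ∈ Φ.V0) (h : Q v = 0) : v = 0 := by
  apply Φ.aniso v _ h
  intro a
  rw [polar_fr]
  exact hv _

lemma Q_ne_zero {v : ι → F} (hv : v ∈ Φ.V0) (h : v ≠ 0) : Q v ≠ 0 :=
  fun h' => h (Φ.aniso' hv h')

lemma polar_V0_fr {v : ι → F} (hv : v ∈ Φ.V0) (a : Fin m ⊕ Fin m) : polar Q v (Φ.fr a) = 0 := by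
  rw [polar_fr]; exact hv _

lemma polar_fr_V0 {v : ι → F} (hv : v ∈ Φ.V0) (a : Fin m ⊕ Fin m) : polar Q (Φ.fr a) v = 0 := by
  rw [polar_comm, polar_V0_fr _ hv]

lemma ext_co {v w : ι → F} (h : ∀ a, Φ.co a v = Φ.co a w) (h0 : Φ.p0 v = Φ.p0 w) : v = w := by
  rw [Φ.decomp v, Φ.decomp w, h0]
  congr 1
  unfold pf
  exact Finset.sum_congr rfl (fun a _ => by rw [h a])

/-- polar form in coordinates -/
lemma polar_eq (v w : ι → F) :
    polar Q v w = ∑ a, Φ.co a v * Φ.co a.swap w + polar Q (Φ.p0 v) (Φ.p0 w) := by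
  conv_lhs => rw [Φ.decomp v]
  rw [polar_add_left]
  congr 1
  · unfold pf
    rw [polar_sum_left]
    apply Finset.sum_congr rfl
    intro a _
    rw [polar_smul_left, smul_eq_mul, polar_fr']
  · conv_lhs => rw [Φ.decomp w]
    rw [polar_add_right]
    have : polar Q (Φ.p0 v) (Φ.pf w) = 0 := by
      unfold pf
      rw [polar_sum_right]
      apply Finset.sum_eq_zero
      intro a _
      rw [polar_smul_right, polar_V0_fr _ (Φ.p0_mem v), smul_zero]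
    rw [this, zero_add]

/-! ### the flag -/

/-- `E k = ⟨e_0, …, e_{k-1}⟩` -/
def E (k : ℕ) : Submodule F (ι → F) where
  carrier := {v | Φ.p0 v = 0 ∧ (∀ i, Φ.co (Sum.inr i) v = 0) ∧
    ∀ i : Fin m, k ≤ i.val → Φ.co (Sum.inl i) v = 0}
  add_mem' := by
    rintro v w ⟨h1, h2, h3⟩ ⟨h1', h2', h3'⟩
    refine ⟨by rw [p0_add, h1, h1', add_zero], fun i => by rw [co_add, h2, h2', add_zero],
      fun i hi => by rw [co_add, h3 i hi, h3' i hi, add_zero]⟩
  zero_mem' := ⟨Φ.p0_zero, fun i => Φ.co_zero _, fun i _ => Φ.co_zero _⟩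
  smul_mem' := by
    rintro c v ⟨h1, h2, h3⟩
    refine ⟨by rw [p0_smul, h1, smul_zero], fun i => by rw [co_smul, h2, mul_zero],
      fun i hi => by rw [co_smul, h3 i hi, mul_zero]⟩

lemma mem_E {k : ℕ} {v : ι → F} : v ∈ Φ.E k ↔ Φ.p0 v = 0 ∧ (∀ i, Φ.co (Sum.inr i) v = 0) ∧
    ∀ i : Fin m, k ≤ i.val → Φ.co (Sum.inl i) v = 0 := Iff.rfl

lemma e_mem_E {i : Fin m} {k : ℕ} (h : i.val < k) : Φ.e i ∈ Φ.E k := by
  refine ⟨Φ.p0_fr _, fun j => Φ.co_fr_ne (by simp), fun j hj => Φ.co_fr_ne ?_⟩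
  intro h'
  have : j = i := Sum.inl_injective h'
  rw [this] at hj
  omega

lemma E_mono {k k' : ℕ} (h : k ≤ k') : Φ.E k ≤ Φ.E k' := by
  rintro v ⟨h1, h2, h3⟩
  exact ⟨h1, h2, fun i hi => h3 i (le_trans h hi)⟩

lemma eq_sum_of_mem_E {k : ℕ} {v : ι → F} (hv : v ∈ Φ.E k) :
    v = ∑ i : Fin m, Φ.co (Sum.inl i) v • Φ.e i := by
  obtain ⟨h1, h2, h3⟩ := hv
  conv_lhs => rw [Φ.decomp v, h1, add_zero]
  unfold pf
  rw [Fintype.sum_sum_type]
  have : ∑ i : Fin m, Φ.co (Sum.inr i) v • Φ.fr (Sum.inr i) = 0 :=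
    Finset.sum_eq_zero (fun i _ => by rw [h2, zero_smul])
  rw [this, add_zero]

lemma map_E {g : (ι → F) →ₗ[F] (ι → F)} {k k' : ℕ}
    (h : ∀ i : Fin m, i.val < k → g (Φ.e i) ∈ Φ.E k') : ∀ v ∈ Φ.E k, g v ∈ Φ.E k' := by
  intro v hv
  rw [Φ.eq_sum_of_mem_E hv, map_sum]
  apply Submodule.sum_mem
  intro i _
  rw [map_smul]
  by_cases hi : i.val < k
  · exact Submodule.smul_mem _ _ (h i hi)
  · rw [hv.2.2 i (not_lt.mp hi), zero_smul]
    exact Submodule.zero_mem _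

lemma co_e_of_mem_E {k : ℕ} {v : ι → F} (hv : v ∈ Φ.E k) {i : Fin m} (hi : k ≤ i.val) :
    Φ.co (Sum.inl i) v = 0 := hv.2.2 i hi

lemma co_f_of_mem_E {k : ℕ} {v : ι → F} (hv : v ∈ Φ.E k) (i : Fin m) :
    Φ.co (Sum.inr i) v = 0 := hv.2.1 i

lemma e_not_mem_E (i : Fin m) : Φ.e i ∉ Φ.E i.val := by
  intro h
  have := Φ.co_e_of_mem_E h (le_refl i.val)
  rw [co_fr_self] at this
  exact one_ne_zero this

lemma e_not_mem_E' {i : Fin m} {k : ℕ} (hk : k ≤ i.val) : Φ.e i ∉ Φ.E k :=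
  fun h => Φ.e_not_mem_E i (Φ.E_mono hk h)

lemma sub_mem_E_of_mem_succ {k : ℕ} {v : ι → F} (hv : v ∈ Φ.E (k + 1)) (i : Fin m)
    (hi : i.val = k) : v - Φ.co (Sum.inl i) v • Φ.e i ∈ Φ.E k := by
  obtain ⟨h1, h2, h3⟩ := hv
  refine ⟨by rw [p0_sub, p0_smul, p0_fr, h1, smul_zero, sub_zero], fun j => ?_, fun j hj => ?_⟩
  · rw [co_sub, co_smul, h2, co_fr_ne _ (by simp), mul_zero, sub_zero]
  · rw [co_sub, co_smul]
    by_cases hji : j = i
    · rw [hji, co_fr_self, mul_one, sub_self]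
    · have : k + 1 ≤ j.val := by
        have : j.val ≠ i.val := fun h => hji (Fin.ext h)
        omega
      rw [h3 j this, co_fr_ne _ (fun h => hji (Sum.inl_injective h)), mul_zero, sub_zero]

lemma mem_E_succ_of {k : ℕ} {v : ι → F} (i : Fin m) (hi : i.val = k) (c : F)
    (hv : v - c • Φ.e i ∈ Φ.E k) : v ∈ Φ.E (k + 1) := by
  have : v = (v - c • Φ.e i) + c • Φ.e i := by abel
  rw [this]
  exact Submodule.add_mem _ (Φ.E_mono (Nat.le_succ k) hv)
    (Submodule.smul_mem _ _ (Φ.e_mem_E (by omega)))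

lemma polar_E_fr_inl {k : ℕ} {v : ι → F} (hv : v ∈ Φ.E k) (i : Fin m) :
    polar Q v (Φ.e i) = 0 := by
  rw [polar_fr]; exact hv.2.1 i

lemma polar_E_fr_inr {k : ℕ} {v : ι → F} (hv : v ∈ Φ.E k) {i : Fin m} (hi : k ≤ i.val) :
    polar Q v (Φ.f i) = 0 := by
  rw [polar_fr]; exact hv.2.2 i hi

lemma polar_E_V0 {k : ℕ} {v w : ι → F} (hv : v ∈ Φ.E k) (hw : w ∈ Φ.V0) : polar Q v w = 0 := by
  rw [Φ.eq_sum_of_mem_E hv, polar_sum_left]
  apply Finset.sum_eq_zero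
  intro i _
  rw [polar_smul_left, Φ.polar_fr_V0 hw, smul_zero]

lemma polar_E_E {k k' : ℕ} {v w : ι → F} (hv : v ∈ Φ.E k) (hw : w ∈ Φ.E k') :
    polar Q v w = 0 := by
  rw [Φ.eq_sum_of_mem_E hw, polar_sum_right]
  apply Finset.sum_eq_zero
  intro i _
  rw [polar_smul_right, Φ.polar_E_fr_inl hv, smul_zero]

lemma eq_zero_of_mem_E_of_mem_V0 {k : ℕ} {v : ι → F} (hv : v ∈ Φ.E k) (hw : v ∈ Φ.V0) :
    v = 0 := by
  rw [Φ.eq_sum_of_mem_E hv]
  apply Finset.sum_eq_zero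
  intro i _
  rw [hw, zero_smul]

lemma p0_of_mem_E {k : ℕ} {v : ι → F} (hv : v ∈ Φ.E k) : Φ.p0 v = 0 := hv.1

lemma E_zero {v : ι → F} (hv : v ∈ Φ.E 0) : v = 0 := by
  rw [Φ.eq_sum_of_mem_E hv]
  apply Finset.sum_eq_zero
  intro i _
  rw [hv.2.2 i (Nat.zero_le _), zero_smul]

end Frame

end Cfsg.Agent.Lib.Helper1.OrthBN
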