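import Cfsg.Agent.Lib.Helper1.OrthBN9

/-!
helper1: the commutator subgroup `Ω` of the isometry group of a quadratic space with a hyperbolic
frame: `U ≤ Ω` and `O = Ω T`, provided the anisotropic part carries a fixed-point-free rotation and
a nondegenerate polar form.
-/

set_option autoImplicit false
set_option linter.unusedSectionVars false
set_option linter.unusedVariables false

namespace Cfsg.Agent.Lib.Helper1.OrthBN

open Module QuadraticMap Matrix Cfsg.Agent.Lib.Helper25.CD Cfsg.Agent.Lib.Helper25.PS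
  Cfsg.Agent.Lib.Helper18.OrthAut

namespace Frame

variable {ι : Type} [Fintype ι] [DecidableEq ι] {F : Type*} [Field F] [Fintype F]
  {Q : QuadraticForm F (ι → F)} {m : ℕ} (Φ : Frame Q m)

/-- there is an isometry fixing the frame whose restriction to the anisotropic part has no fixed
vectors (in the strong form: `ρ - 1` is onto `V0`) -/
def HasRot : Prop :=
  ∃ ρ : ↥(Cfsg.isometryGroup F ⇑Q), (∀ a, toOG Q ρ (Φ.fr a) = Φ.fr a) ∧
    ∀ w ∈ Φ.V0, ∃ w' ∈ Φ.V0, toOG Q ρ w' - w' = w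

/-- the polar form does not vanish on the anisotropic part -/
def HasNd : Prop := ∃ w₁ ∈ Φ.V0, ∃ w₂ ∈ Φ.V0, polar Q w₁ w₂ ≠ 0

lemma mem_Omega_of_comm (g h : ↥(Cfsg.isometryGroup F ⇑Q)) :
    g * h * g⁻¹ * h⁻¹ ∈ Cfsg.Omega F ⇑Q := by
  show g * h * g⁻¹ * h⁻¹ ∈ commutator ↥(Cfsg.isometryGroup F ⇑Q)
  rw [commutator_def, ← commutatorElement_def]
  exact Subgroup.commutator_mem_commutator (Subgroup.mem_top g) (Subgroup.mem_top h)

/-- short root elements lie in `Ω` -/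
lemma TG_short_mem_Omega (hrot : Φ.HasRot) (a : Fin m ⊕ Fin m) {w : ι → F} (hw : w ∈ Φ.V0) :
    TG Q (Φ.fr a) w (Φ.Qfr _) (Φ.polar_fr_V0 hw a) ∈ Cfsg.Omega F ⇑Q := by
  obtain ⟨ρ, hρ, hsurj⟩ := hrot
  obtain ⟨w', hw', he⟩ := hsurj w hw
  have h1 := mem_Omega_of_comm ρ (TG Q (Φ.fr a) w' (Φ.Qfr _) (Φ.polar_fr_V0 hw' a))
  have h2 : polar Q (Φ.fr a) (toOG Q ρ w') = 0 := by
    rw [← hρ a, polar_toOG, Φ.polar_fr_V0 hw']
  have hc : ρ * TG Q (Φ.fr a) w' (Φ.Qfr _) (Φ.polar_fr_V0 hw' a) * ρ⁻¹ =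
      TG Q (Φ.fr a) (toOG Q ρ w') (Φ.Qfr _) h2 := by
    rw [conj_TG]
    exact TG_congr2 Q _ _ (hρ a) rfl
  rw [hc, TG_inv, TG_mul] at h1
  convert h1 using 1
  exact TG_congr Q _ _ (by rw [← he]; abel)

/-- long root elements lie in `Ω` -/
lemma TG_long_mem_Omega (hrot : Φ.HasRot) (hnd : Φ.HasNd) (k : Fin m) (b : Fin m ⊕ Fin m)
    (hb : idx b ≠ k) (t : F)
    (hw : polar Q (Φ.e k) (t • Φ.fr b) = 0) :
    TG Q (Φ.e k) (t • Φ.fr b) (Φ.Qfr _) hw ∈ Cfsg.Omega F ⇑Q := by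
  obtain ⟨w₁, hw₁, w₂, hw₂, hp⟩ := hnd
  set p := polar Q w₁ w₂ with hpdef
  set s := -t / p with hs
  have hsw : s • w₁ ∈ Φ.V0 := Submodule.smul_mem _ _ hw₁
  set x₁ := TG Q (Φ.fr b) (s • w₁) (Φ.Qfr _) (Φ.polar_fr_V0 hsw b) with hx₁
  set x₂ := TG Q (Φ.e k) w₂ (Φ.Qfr _) (Φ.polar_fr_V0 hw₂ _) with hx₂
  have h1 := mem_Omega_of_comm x₁ x₂
  have hbk : polar Q (Φ.fr b) (Φ.e k) = 0 := by
    rw [Φ.pol, if_neg]
    intro h'
    apply hb
    have := congrArg idx h'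
    simp at this
    exact this.symm
  have e1 : toOG Q x₁ (Φ.e k) = Φ.e k := by
    rw [hx₁]
    apply TG_fix _ _ _ _ _ hbk
    rw [Φ.polar_V0_fr hsw]
  have e2 : toOG Q x₁ w₂ = w₂ + (-(s * p)) • Φ.fr b := by
    rw [hx₁, toOG_TG', Φ.polar_fr_V0 hw₂, polar_smul_left, ← hpdef]
    simp only [zero_smul, add_zero, mul_zero, smul_eq_mul]
    module
  have h3 : polar Q (Φ.e k) (w₂ + (-(s * p)) • Φ.fr b) = 0 := by
    rw [← e2, ← e1, polar_toOG, Φ.polar_fr_V0 hw₂]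
  have hc : x₁ * x₂ * x₁⁻¹ = TG Q (Φ.e k) (w₂ + (-(s * p)) • Φ.fr b) (Φ.Qfr _) h3 := by
    rw [hx₂, conj_TG]
    exact TG_congr2 Q _ _ e1 e2
  rw [hc, hx₂, TG_inv, TG_mul] at h1
  convert h1 using 1
  apply TG_congr Q
  have : -(s * p) = t := by
    rw [hs]
    field_simp
  rw [this]
  abel

/-- the generators of `U` lie in `Ω` -/
lemma TG_sum_mem_Omega (hrot : Φ.HasRot) (hnd : Φ.HasNd) (k : Fin m)
    (s : Finset (Fin m ⊕ Fin m)) (c : Fin m ⊕ Fin m → F) (hs : ∀ a ∈ s, idx a ≠ k)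
    (hw : polar Q (Φ.e k) (∑ a ∈ s, c a • Φ.fr a) = 0) :
    TG Q (Φ.e k) (∑ a ∈ s, c a • Φ.fr a) (Φ.Qfr _) hw ∈ Cfsg.Omega F ⇑Q := by
  classical
  induction s using Finset.induction_on with
  | empty =>
    have : TG Q (Φ.e k) (∑ a ∈ (∅ : Finset (Fin m ⊕ Fin m)), c a • Φ.fr a) (Φ.Qfr _) hw = 1 := by
      rw [← TG_zero Q (Φ.Qfr (Sum.inl k))]
      exact TG_congr Q _ _ (by simp)
    rw [this]
    exact Subgroup.one_mem _
  | insert a s ha ih =>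
    have hak : idx a ≠ k := hs a (Finset.mem_insert_self _ _)
    have h1 : polar Q (Φ.e k) (c a • Φ.fr a) = 0 := by
      rw [polar_smul_right, Φ.pol, if_neg, smul_zero]
      intro h'
      apply hak
      have := congrArg idx h'
      simpa using this
    have h2 : polar Q (Φ.e k) (∑ a ∈ s, c a • Φ.fr a) = 0 := by
      rw [Finset.sum_insert ha, polar_add_right, h1, zero_add] at hw
      exact hw
    have e : TG Q (Φ.e k) (∑ a ∈ insert a s, c a • Φ.fr a) (Φ.Qfr _) hw =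
        TG Q (Φ.e k) (c a • Φ.fr a) (Φ.Qfr _) h1 *
          TG Q (Φ.e k) (∑ a ∈ s, c a • Φ.fr a) (Φ.Qfr _) h2 := by
      rw [TG_mul]
      exact TG_congr Q _ _ (Finset.sum_insert ha)
    rw [e]
    exact Subgroup.mul_mem _ (Φ.TG_long_mem_Omega hrot hnd k a hak (c a) h1)
      (ih (fun b hb => hs b (Finset.mem_insert_of_mem hb)) h2)

lemma TG_e_mem_Omega (hrot : Φ.HasRot) (hnd : Φ.HasNd) (k : Fin m) {w : ι → F}
    (hwW : w ∈ Φ.Wk (k.val + 1)) (hw : polar Q (Φ.e k) w = 0) :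
    TG Q (Φ.e k) w (Φ.Qfr _) hw ∈ Cfsg.Omega F ⇑Q := by
  classical
  have hpf : Φ.pf w = ∑ a ∈ Finset.univ.filter (fun a => idx a ≠ k), Φ.co a w • Φ.fr a := by
    unfold pf
    rw [Finset.sum_filter]
    apply Finset.sum_congr rfl
    intro a _
    by_cases ha : idx a = k
    · rw [if_neg (not_not.mpr ha), hwW a (by rw [ha]; omega), zero_smul]
    · rw [if_pos ha]
  have h0 : polar Q (Φ.e k) (Φ.p0 w) = 0 := Φ.polar_fr_V0 (Φ.p0_mem w) _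
  have h1 : polar Q (Φ.e k)
      (∑ a ∈ Finset.univ.filter (fun a => idx a ≠ k), Φ.co a w • Φ.fr a) = 0 := by
    rw [← hpf]
    have := hw
    rw [Φ.decomp w, polar_add_right, h0, add_zero] at this
    exact this
  have e : TG Q (Φ.e k) w (Φ.Qfr _) hw =
      TG Q (Φ.e k) (∑ a ∈ Finset.univ.filter (fun a => idx a ≠ k), Φ.co a w • Φ.fr a)
        (Φ.Qfr _) h1 * TG Q (Φ.e k) (Φ.p0 w) (Φ.Qfr _) h0 := by
    rw [TG_mul]
    apply TG_congr Q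
    rw [← hpf]
    exact Φ.decomp w
  rw [e]
  exact Subgroup.mul_mem _
    (Φ.TG_sum_mem_Omega hrot hnd k _ _ (fun a ha => (Finset.mem_filter.mp ha).2) h1)
    (Φ.TG_short_mem_Omega hrot (Sum.inl k) (Φ.p0_mem w))

/-- `U ≤ Ω` -/
theorem UU_le_Omega (hrot : Φ.HasRot) (hnd : Φ.HasNd) : Φ.UU ≤ Cfsg.Omega F ⇑Q :=
  Φ.UU_le_of_gen _ (fun k w hwW hw => Φ.TG_e_mem_Omega hrot hnd k hwW hw)

lemma XX_le_UU (j : Fin m) : Φ.XX j ≤ Φ.UU := by
  rintro _ ⟨w, hw, rfl⟩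
  apply Φ.TG_e_mem_UU j
  intro a ha
  have hle : (idx a).val ≤ j.val := by omega
  cases a with
  | inl l => exact (Φ.co_of_mem_Xsp hw l hle).2
  | inr l => exact (Φ.co_of_mem_Xsp hw l hle).1

/-- `O = Ω T` -/
theorem eq_Omega_mul_TT (hrot : Φ.HasRot) (hnd : Φ.HasNd) (hV0 : ∃ w ∈ Φ.V0, w ≠ 0)
    (g : ↥(Cfsg.isometryGroup F ⇑Q)) :
    ∃ ω ∈ Cfsg.Omega F ⇑Q, ∃ t ∈ Φ.TT, g = ω * t := by
  have hUΩ := Φ.UU_le_Omega hrot hnd
  set K : Subgroup ↥(Cfsg.isometryGroup F ⇑Q) := Cfsg.Omega F ⇑Q ⊔ Φ.TT with hK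
  have hΩK : Cfsg.Omega F ⇑Q ≤ K := le_sup_left
  have hTK : Φ.TT ≤ K := le_sup_right
  have hBK : Φ.BB ≤ K := by
    intro b hb
    obtain ⟨u, hu, t, ht, rfl⟩ := Φ.BB_eq_UU_TT ⊤ (fun _ _ _ _ => Subgroup.mem_top _) b hb
    exact K.mul_mem (hΩK (hUΩ hu.1)) (hTK ht)
  have hsK : ∀ j, Φ.sgen j ∈ K := by
    intro j
    obtain ⟨x, hx, hx1, -⟩ := Φ.exists_XX_ne_one hV0 j
    have hR : ∃ x' ∈ Φ.XX j, Φ.sgen j * x * Φ.sgen j * x'⁻¹ * Φ.sgen j ∈ Φ.BB := by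
      by_cases h : j.val + 1 < m
      · exact Φ.hR_lt h x hx hx1
      · exact Φ.hR_last h x hx hx1
    obtain ⟨x', hx', hb⟩ := hR
    set s := Φ.sgen j with hs
    have hsi : s⁻¹ = s := Φ.sgen_inv j
    have e : s = x' * (s * x⁻¹ * s⁻¹) * (s * x * s * x'⁻¹ * s) := by
      have hss : s * s = 1 := Φ.sgen_mul_self j
      have : x' * (s * x⁻¹ * s⁻¹) * (s * x * s * x'⁻¹ * s) =
          x' * s * x⁻¹ * (s⁻¹ * s) * x * s * x'⁻¹ * s := by group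
      rw [this, inv_mul_cancel]
      have : x' * s * x⁻¹ * 1 * x * s * x'⁻¹ * s = x' * (s * s) * x'⁻¹ * s := by group
      rw [this, hss]
      group
    rw [e]
    have hn : (Cfsg.Omega F ⇑Q).Normal := by
      show (commutator ↥(Cfsg.isometryGroup F ⇑Q)).Normal
      infer_instance
    exact K.mul_mem (K.mul_mem (hΩK (hUΩ (Φ.XX_le_UU j hx')))
      (hΩK (hn.conj_mem _ (Subgroup.inv_mem _ (hUΩ (Φ.XX_le_UU j hx))) s))) (hBK hb)
  have hNK : Φ.NN ≤ K := by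
    unfold NN
    rw [sup_le_iff]
    refine ⟨?_, hTK⟩
    rw [Subgroup.closure_le]
    rintro _ ⟨j, rfl⟩
    exact hsK j
  have htop : g ∈ K := by
    have : (⊤ : Subgroup ↥(Cfsg.isometryGroup F ⇑Q)) ≤ K := by
      rw [← Φ.BB_sup_NN]
      exact sup_le hBK hNK
    exact this (Subgroup.mem_top g)
  have hn : (Cfsg.Omega F ⇑Q).Normal := by
    show (commutator ↥(Cfsg.isometryGroup F ⇑Q)).Normal
    infer_instance
  haveI := hn
  have hset := Subgroup.normal_mul (Cfsg.Omega F ⇑Q) Φ.TT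
  have : g ∈ ((Cfsg.Omega F ⇑Q ⊔ Φ.TT : Subgroup ↥(Cfsg.isometryGroup F ⇑Q)) :
      Set ↥(Cfsg.isometryGroup F ⇑Q)) := htop
  rw [hset, Set.mem_mul] at this
  obtain ⟨ω, hω, t, ht, rfl⟩ := this
  exact ⟨ω, hω, t, ht, rfl⟩

end Frame

end Cfsg.Agent.Lib.Helper1.OrthBN
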