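import Cfsg.Agent.Lib.Helper1.OrthBN10
import Cfsg.Agent.Lib.Helper3.BNBasic

/-!
helper1: the unipotent radical `U` fixes a unique point of `O/B`; consequently `U` is a Sylow
`p`-subgroup of `Ω` (when `T ∩ Ω` has no elements of order `p`).
-/

set_option autoImplicit false
set_option linter.unusedSectionVars false
set_option linter.unusedVariables false

namespace Cfsg.Agent.Lib.Helper1.OrthBN

open Module QuadraticMap Matrix Cfsg.Agent.Lib.Helper25.CD Cfsg.Agent.Lib.Helper25.PS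
  Cfsg.Agent.Lib.Helper18.OrthAut Cfsg.Agent.Lib.Helper3.BN

namespace Frame

variable {ι : Type} [Fintype ι] [DecidableEq ι] {F : Type*} [Field F] [Fintype F]
  {Q : QuadraticForm F (ι → F)} {m : ℕ} (Φ : Frame Q m)

lemma V0_le_Wk (k : ℕ) : Φ.V0 ≤ Φ.Wk k := fun w hw a _ => hw a

/-- a monomial element conjugating `U` into `B` lies in `B` -/
lemma NN_mem_BB_of_conj (hV0 : ∃ w ∈ Φ.V0, w ≠ 0) {n : ↥(Cfsg.isometryGroup F ⇑Q)}
    (hn : n ∈ Φ.NN) (h : ∀ u ∈ Φ.UU, n⁻¹ * u * n ∈ Φ.BB) : n ∈ Φ.BB := by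
  have hni := Φ.Mono.inv_mem (Φ.NN_le_Mono hn)
  obtain ⟨π, hπ⟩ := hni
  obtain ⟨w₀, hw₀, hw₀ne⟩ := hV0
  have hconj : ∀ x : ↥(Cfsg.isometryGroup F ⇑Q), n⁻¹ * x * n = n⁻¹ * x * (n⁻¹)⁻¹ := by
    intro x; rw [inv_inv]
  -- step A: `π` maps `inl` to `inl`
  have stepA : ∀ i : Fin m, ∃ l : Fin m, π (Sum.inl i) = Sum.inl l := by
    intro i
    cases hπi : π (Sum.inl i) with
    | inl l => exact ⟨l, rfl⟩
    | inr l =>
      exfalso
      obtain ⟨c, hc⟩ := hπ (Sum.inl i)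
      rw [hπi] at hc
      have hc0 : c ≠ 0 := smul_ne_zero_of_apply (Φ.fr_ne_zero _) hc
      have hu : TG Q (Φ.e i) w₀ (Φ.Qfr _) (Φ.polar_fr_V0 hw₀ _) ∈ Φ.UU :=
        Φ.TG_e_mem_UU i (Φ.V0_le_Wk _ hw₀) _
      have h1 := h _ hu
      rw [hconj, conj_TG] at h1
      have h2 := h1 l
      rw [toOG_TG'] at h2
      set w' := toOG Q n⁻¹ w₀ with hw'
      have hw'V : w' ∈ Φ.V0 := Φ.Mono_V0 ⟨π, hπ⟩ hw₀
      have hw'ne : w' ≠ 0 := by
        intro h0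
        apply hw₀ne
        exact toOG_apply_injective Q n⁻¹ (h0.trans (map_zero _).symm)
      have h3 := Φ.p0_of_mem_E h2
      rw [hc, p0_sub, p0_add, p0_smul, p0_smul, p0_smul, p0_fr, p0_fr, Φ.p0_of_mem_V0 hw'V,
        polar_smul_left, Φ.polar_f_e_self] at h3
      simp at h3
      rcases h3 with h3 | h3
      · exact hc0 h3
      · exact hw'ne h3
  choose φ hφ using stepA
  have hφinj : Function.Injective φ := by
    intro i j hij
    have : π (Sum.inl i) = π (Sum.inl j) := by rw [hφ i, hφ j, hij]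
    exact Sum.inl_injective (π.injective this)
  -- step B: `φ` is monotone
  have stepB : StrictMono φ := by
    intro i j hij
    have hij' : i.val < j.val := hij
    have hne : φ i ≠ φ j := fun h' => by
      have := hφinj h'
      rw [this] at hij
      exact lt_irrefl _ hij
    obtain ⟨c, hc⟩ := hπ (Sum.inl i)
    rw [hφ i] at hc
    obtain ⟨c', hc'⟩ := hπ (Sum.inr j)
    have e1 : π (Sum.inr j) = Sum.inr (φ j) := by
      have := Φ.Mono_swap hπ (Sum.inl j)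
      rw [hφ j] at this
      exact this
    rw [e1] at hc'
    have hc0 : c ≠ 0 := smul_ne_zero_of_apply (Φ.fr_ne_zero _) hc
    have hc'0 : c' ≠ 0 := smul_ne_zero_of_apply (Φ.fr_ne_zero _) hc'
    have hfW : Φ.f j ∈ Φ.Wk (i.val + 1) := Φ.fr_mem_Wk (by simp; omega)
    have hpol : polar Q (Φ.e i) (Φ.f j) = 0 := Φ.polar_e_f_ne (fun h' => by
      rw [h'] at hij; exact lt_irrefl _ hij)
    have hu : TG Q (Φ.e i) (Φ.f j) (Φ.Qfr _) hpol ∈ Φ.UU := Φ.TG_e_mem_UU i hfW _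
    have h1 := h _ hu
    rw [hconj, conj_TG] at h1
    have h2 := h1 (φ j)
    rw [toOG_TG', hc, hc', polar_smul_left, Φ.polar_e_e, polar_smul_left, Φ.polar_f_e_self] at h2
    by_contra hlt
    have hle : (φ j).val + 1 ≤ (φ i).val := by
      have : (φ i).val ≠ (φ j).val := fun h' => hne (Fin.ext h')
      have : ¬ (φ i).val < (φ j).val := hlt
      omega
    have h3 := Φ.co_e_of_mem_E h2 hle
    simp only [co_sub, co_add, co_smul] at h3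
    rw [co_fr_self, co_fr_ne _ (fun h' => hne (Sum.inl_injective h')), co_fr_ne _ (by simp)] at h3
    simp at h3
    rcases h3 with h3 | h3
    · exact hc'0 h3
    · exact hc0 h3
  -- conclusion
  have hniB : n⁻¹ ∈ Φ.BB := by
    intro i
    obtain ⟨c, hc⟩ := hπ (Sum.inl i)
    rw [hφ i] at hc
    rw [hc]
    apply Submodule.smul_mem
    apply Φ.e_mem_E
    have : φ i ≤ i := stepB.apply_le
    have : (φ i).val ≤ i.val := this
    omega
  have := Φ.BB.inv_mem hniB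
  rwa [inv_inv] at this

/-- an element conjugating `U` into `B` lies in `B` -/
theorem mem_BB_of_conj (hV0 : ∃ w ∈ Φ.V0, w ≠ 0) {g : ↥(Cfsg.isometryGroup F ⇑Q)}
    (h : ∀ u ∈ Φ.UU, g⁻¹ * u * g ∈ Φ.BB) : g ∈ Φ.BB := by
  obtain ⟨x, hx, hg⟩ := exists_dc (Φ.bnPair hV0) g
  rw [mem_dc] at hg
  obtain ⟨b, hb, b', hb', rfl⟩ := hg
  have hbB : b ∈ Φ.BB := hb
  have hb'B : b' ∈ Φ.BB := hb'
  have hxN : x ∈ Φ.NN := hx
  have key : ∀ u ∈ Φ.UU, x⁻¹ * u * x ∈ Φ.BB := by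
    intro u hu
    have h1 := h (b * u * b⁻¹) (Φ.UU_conj hbB hu)
    have e : x⁻¹ * u * x = b' * ((b * x * b')⁻¹ * (b * u * b⁻¹) * (b * x * b')) * b'⁻¹ := by
      group
    rw [e]
    exact Subgroup.mul_mem _ (Subgroup.mul_mem _ hb'B h1) (Subgroup.inv_mem _ hb'B)
  have hxB := Φ.NN_mem_BB_of_conj hV0 hxN key
  exact Subgroup.mul_mem _ (Subgroup.mul_mem _ hbB hxB) hb'B

section sylow

variable (p : ℕ) [Fact p.Prime] [CharP F p]

/-- a subgroup containing `U` fixing the coset `gB` lies in `g B g⁻¹`, and `g ∈ B` -/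
lemma mem_BB_of_fixed (hV0 : ∃ w ∈ Φ.V0, w ≠ 0) {K : Subgroup ↥(Cfsg.isometryGroup F ⇑Q)}
    (hUK : Φ.UU ≤ K) {g : ↥(Cfsg.isometryGroup F ⇑Q)}
    (hz : (QuotientGroup.mk g : ↥(Cfsg.isometryGroup F ⇑Q) ⧸ Φ.BB) ∈
      MulAction.fixedPoints K (↥(Cfsg.isometryGroup F ⇑Q) ⧸ Φ.BB)) :
    g ∈ Φ.BB ∧ K ≤ Φ.BB := by
  have hgK : ∀ x ∈ K, g⁻¹ * x * g ∈ Φ.BB := by
    intro x hx
    have h1 := hz ⟨x⁻¹, K.inv_mem hx⟩
    have h2 : ((x⁻¹ * g : ↥(Cfsg.isometryGroup F ⇑Q)) : ↥(Cfsg.isometryGroup F ⇑Q) ⧸ Φ.BB) =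
        (g : ↥(Cfsg.isometryGroup F ⇑Q) ⧸ Φ.BB) := h1
    rw [QuotientGroup.eq] at h2
    have e : g⁻¹ * x * g = (x⁻¹ * g)⁻¹ * g := by group
    rw [e]
    exact h2
  have hgB : g ∈ Φ.BB := Φ.mem_BB_of_conj hV0 (fun u hu => hgK u (hUK hu))
  refine ⟨hgB, fun x hx => ?_⟩
  have e : x = g * (g⁻¹ * x * g) * g⁻¹ := by group
  rw [e]
  exact Φ.BB.mul_mem (Φ.BB.mul_mem hgB (hgK x hx)) (Φ.BB.inv_mem hgB)

/-- `|O : B| ≡ 1 (mod p)` -/
theorem card_quot_modEq (hV0 : ∃ w ∈ Φ.V0, w ≠ 0) :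
    Nat.card (↥(Cfsg.isometryGroup F ⇑Q) ⧸ Φ.BB) ≡ 1 [MOD p] := by
  have hmod := (Φ.isPGroup_UU p).card_modEq_card_fixedPoints
    (↥(Cfsg.isometryGroup F ⇑Q) ⧸ Φ.BB)
  have hfix : Nat.card (MulAction.fixedPoints Φ.UU (↥(Cfsg.isometryGroup F ⇑Q) ⧸ Φ.BB)) = 1 := by
    rw [Nat.card_eq_one_iff_unique]
    constructor
    · constructor
      have hB : ∀ z : ↥(Cfsg.isometryGroup F ⇑Q) ⧸ Φ.BB,
          z ∈ MulAction.fixedPoints Φ.UU (↥(Cfsg.isometryGroup F ⇑Q) ⧸ Φ.BB) →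
          z = QuotientGroup.mk 1 := by
        intro z hz
        obtain ⟨g, rfl⟩ := QuotientGroup.mk_surjective z
        have hg := (Φ.mem_BB_of_fixed hV0 (le_refl _) hz).1
        rw [QuotientGroup.eq, mul_one]
        exact Subgroup.inv_mem _ hg
      rintro ⟨x, hx⟩ ⟨y, hy⟩
      apply Subtype.ext
      show x = y
      rw [hB x hx, hB y hy]
    · refine ⟨⟨QuotientGroup.mk 1, ?_⟩⟩
      intro u
      show (((u : ↥(Cfsg.isometryGroup F ⇑Q)) * 1 : ↥(Cfsg.isometryGroup F ⇑Q)) :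
        ↥(Cfsg.isometryGroup F ⇑Q) ⧸ Φ.BB) = _
      rw [QuotientGroup.eq, mul_one, mul_one]
      exact Subgroup.inv_mem _ (Φ.UU_le_BB u.2)
  rwa [hfix] at hmod

lemma eq_one_of_pow_prime_pow {G : Type*} [Group G] (H : Subgroup G)
    (h : ∀ t ∈ H, t ^ p = 1 → t = 1) : ∀ (k : ℕ) (t : G), t ∈ H → t ^ (p ^ k) = 1 → t = 1 := by
  intro k
  induction k with
  | zero => intro t _ ht; rwa [pow_zero, pow_one] at ht
  | succ k ih =>
    intro t ht htp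
    apply h t ht
    apply ih (t ^ p) (H.pow_mem ht p)
    rw [← pow_mul, ← pow_succ']
    exact htp

/-- `U` is a Sylow `p`-subgroup of `Ω` -/
theorem card_UU_eq (hrot : Φ.HasRot) (hnd : Φ.HasNd) (hV0 : ∃ w ∈ Φ.V0, w ≠ 0)
    (hT : ∀ t ∈ Φ.TT ⊓ Cfsg.Omega F ⇑Q, t ^ p = 1 → t = 1) :
    Nat.card Φ.UU = p ^ (Nat.card ↥(Cfsg.Omega F ⇑Q)).factorization p := by
  have hp : p.Prime := Fact.out
  have hUΩ := Φ.UU_le_Omega hrot hnd
  have hpU : IsPGroup p (Φ.UU.subgroupOf (Cfsg.Omega F ⇑Q)) :=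
    (Φ.isPGroup_UU p).comap_subtype
  obtain ⟨P, hP⟩ := hpU.exists_le_sylow
  set P' : Subgroup ↥(Cfsg.isometryGroup F ⇑Q) :=
    (P : Subgroup ↥(Cfsg.Omega F ⇑Q)).map (Cfsg.Omega F ⇑Q).subtype with hP'
  have hP'p : IsPGroup p P' := P.isPGroup'.map _
  have hUP' : Φ.UU ≤ P' := fun u hu =>
    ⟨⟨u, hUΩ hu⟩, hP (Subgroup.mem_subgroupOf.mpr hu), rfl⟩
  have hmod1 := Φ.card_quot_modEq p hV0
  have hmod2 := hP'p.card_modEq_card_fixedPoints (↥(Cfsg.isometryGroup F ⇑Q) ⧸ Φ.BB)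
  have hne : (MulAction.fixedPoints P' (↥(Cfsg.isometryGroup F ⇑Q) ⧸ Φ.BB)).Nonempty := by
    by_contra hcon
    rw [Set.not_nonempty_iff_eq_empty] at hcon
    rw [hcon] at hmod2
    have h0 : Nat.card (∅ : Set (↥(Cfsg.isometryGroup F ⇑Q) ⧸ Φ.BB)) = 0 := by simp
    rw [h0] at hmod2
    have h1 : 1 ≡ 0 [MOD p] := hmod1.symm.trans hmod2
    have := (Nat.modEq_zero_iff_dvd).mp h1
    exact hp.one_lt.ne' (Nat.dvd_one.mp this)
  obtain ⟨z, hz⟩ := hne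
  obtain ⟨g, rfl⟩ := QuotientGroup.mk_surjective z
  have hP'B : P' ≤ Φ.BB := (Φ.mem_BB_of_fixed hV0 hUP' hz).2
  have hP'U : P' ≤ Φ.UU := by
    intro x hx
    obtain ⟨u, hu, t, ht, he⟩ := Φ.BB_eq_UU_TT ⊤ (fun _ _ _ _ => Subgroup.mem_top _) x (hP'B hx)
    have ht' : t = u⁻¹ * x := by rw [he]; group
    have htP : t ∈ P' := by
      rw [ht']
      exact P'.mul_mem (P'.inv_mem (hUP' hu.1)) hx
    have htΩ : t ∈ Cfsg.Omega F ⇑Q := by
      obtain ⟨y, _, rfl⟩ := htP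
      exact y.2
    obtain ⟨k, hk⟩ := hP'p ⟨t, htP⟩
    have hk' : t ^ (p ^ k) = 1 := by
      have := congrArg Subtype.val hk
      rwa [Subgroup.coe_pow, Subgroup.coe_one] at this
    have ht1 : t = 1 := eq_one_of_pow_prime_pow p _ hT k t ⟨ht, htΩ⟩ hk'
    rw [he, ht1, mul_one]
    exact hu.1
  have heq : P' = Φ.UU := le_antisymm hP'U hUP'
  have hcard : Nat.card Φ.UU = Nat.card (P : Subgroup ↥(Cfsg.Omega F ⇑Q)) := by
    rw [← heq, hP']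
    exact Nat.card_congr ((P : Subgroup ↥(Cfsg.Omega F ⇑Q)).equivMapOfInjective _
      (Subgroup.subtype_injective _)).symm.toEquiv
  rw [hcard]
  exact Sylow.card_eq_multiplicity P

end sylow

end Frame

end Cfsg.Agent.Lib.Helper1.OrthBN
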