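import Cfsg.Agent.Lib.Helper1.OrthBN11
import Cfsg.Agent.Lib.Helper6.BNResA

/-!
helper1: the longest element of the Weyl group of the isometry group of a quadratic space with a
hyperbolic frame, and the values of the Steinberg function on the unipotent radical.
-/

set_option autoImplicit false
set_option linter.unusedSectionVars false
set_option linter.unusedVariables false

namespace Cfsg.Agent.Lib.Helper1.OrthBN

open Module QuadraticMap Matrix Cfsg.Agent.Lib.Helper25.CD Cfsg.Agent.Lib.Helper25.PS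
  Cfsg.Agent.Lib.Helper18.OrthAut Cfsg.Agent.Lib.Helper3.BN Cfsg.Agent.Lib.Helper6.BNSt

namespace Frame

variable {ι : Type} [Fintype ι] [DecidableEq ι] {F : Type*} [Field F] [Fintype F]
  {Q : QuadraticForm F (ι → F)} {m : ℕ} (Φ : Frame Q m)

/-- the partial products `ε_0 ⋯ ε_{k-1}` -/
noncomputable def nk : ℕ → ↥(Cfsg.isometryGroup F ⇑Q)
  | 0 => 1
  | k + 1 => nk k * (if h : k < m then Φ.epsG ⟨k, h⟩ else 1)

lemma nk_mem_NN (k : ℕ) : Φ.nk k ∈ Φ.NN := by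
  induction k with
  | zero => exact Subgroup.one_mem _
  | succ k ih =>
    show Φ.nk k * _ ∈ Φ.NN
    apply Subgroup.mul_mem _ ih
    by_cases h : k < m
    · rw [dif_pos h]; exact Φ.epsG_mem_NN _
    · rw [dif_neg h]; exact Subgroup.one_mem _

lemma nk_fr (k : ℕ) (a : Fin m ⊕ Fin m) :
    toOG Q (Φ.nk k) (Φ.fr a) = Φ.fr (if (idx a).val < k then a.swap else a) := by
  induction k generalizing a with
  | zero => simp [nk]
  | succ k ih =>
    show toOG Q (Φ.nk k * _) (Φ.fr a) = _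
    rw [toOG_mul_apply]
    by_cases h : k < m
    · rw [dif_pos h, epsG_fr]
      by_cases hak : idx a = ⟨k, h⟩
      · rw [if_pos hak, ih, idx_swap, hak]
        simp
      · rw [if_neg hak, ih]
        have : (idx a).val ≠ k := fun h' => hak (Fin.ext h')
        by_cases hlt : (idx a).val < k
        · rw [if_pos hlt, if_pos (by omega)]
        · rw [if_neg hlt, if_neg (by omega)]
    · rw [dif_neg h, toOG_one_apply, ih]
      have := (idx a).2
      rw [if_pos (by omega), if_pos (by omega)]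

lemma nk_V0 (k : ℕ) {w : ι → F} (hw : w ∈ Φ.V0) : toOG Q (Φ.nk k) w = w := by
  induction k with
  | zero => simp [nk]
  | succ k ih =>
    show toOG Q (Φ.nk k * _) w = _
    rw [toOG_mul_apply]
    by_cases h : k < m
    · rw [dif_pos h, Φ.epsG_V0 _ hw, ih]
    · rw [dif_neg h, toOG_one_apply, ih]

/-- the longest element -/
noncomputable def n0 : ↥(Cfsg.isometryGroup F ⇑Q) := Φ.nk m

lemma n0_mem_NN : Φ.n0 ∈ Φ.NN := Φ.nk_mem_NN m

lemma n0_fr (a : Fin m ⊕ Fin m) : toOG Q Φ.n0 (Φ.fr a) = Φ.fr a.swap := by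
  unfold n0
  rw [nk_fr, if_pos (idx a).2]

lemma n0_V0 {w : ι → F} (hw : w ∈ Φ.V0) : toOG Q Φ.n0 w = w := Φ.nk_V0 m hw

lemma n0_mul_self : Φ.n0 * Φ.n0 = 1 := by
  apply Φ.ext_frame
  · intro a
    rw [toOG_mul_apply, n0_fr, n0_fr, Sum.swap_swap, toOG_one_apply]
  · intro w hw
    rw [toOG_mul_apply, Φ.n0_V0 hw, Φ.n0_V0 hw, toOG_one_apply]

lemma n0_inv : Φ.n0⁻¹ = Φ.n0 := inv_eq_of_mul_eq_one_left Φ.n0_mul_self

/-- conjugating the opposite root subgroups by the longest element gives elements of `B` -/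
lemma n0_conj_opp (j : Fin m) {x : ↥(Cfsg.isometryGroup F ⇑Q)} (hx : x ∈ Φ.XX j) :
    Φ.n0⁻¹ * (Φ.sgen j * x * Φ.sgen j) * Φ.n0 ∈ Φ.BB := by
  have e1 : Φ.n0⁻¹ * (Φ.sgen j * x * Φ.sgen j) * Φ.n0 =
      Φ.n0 * (Φ.sgen j * x * (Φ.sgen j)⁻¹) * Φ.n0⁻¹ := by
    rw [sgen_inv, n0_inv]
  rw [e1]
  obtain ⟨w, hw, rfl⟩ := hx
  rw [conj_TG, conj_TG]
  by_cases h : j.val + 1 < m
  · obtain ⟨t, rfl⟩ := (Φ.mem_Xsp_of_lt h).mp hw
    set k : Fin m := ⟨j.val + 1, h⟩ with hk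
    refine Φ.TG_long_mem_BB _ _ (a := Sum.inr k) (b := Sum.inl j) (c := 1) (s := t) ?_ ?_ ?_
    · rw [Φ.sgen_e_self h, n0_fr, one_smul]; rfl
    · rw [map_smul, map_smul, sgen_of_lt _ h, Φ.tauG_f_right, n0_fr]; rfl
    · intro l
      refine ⟨fun h' => ?_, fun h' => by simp at h'⟩
      have : k = l := Sum.inr_injective h'
      exact ⟨j, rfl, by rw [← this]; simp [hk]⟩
  · have hw0 : w ∈ Φ.V0 := by rw [Xsp_of_not_lt _ h] at hw; exact hw
    refine Φ.TG_short_mem_BB _ _ (i := j) (c := 1) ?_ ?_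
    · rw [Φ.sgen_e_last h, n0_fr, one_smul]; rfl
    · rw [sgen_of_not_lt _ h, Φ.epsG_V0 _ hw0, Φ.n0_V0 hw0]
      exact hw0

variable (hV0 : ∃ w ∈ Φ.V0, w ≠ 0)

lemma n0_mem_N : Φ.n0 ∈ (Φ.bnPair hV0).N := Φ.n0_mem_NN

/-- the product of all the `ε_i` represents the longest element -/
theorem mkW_n0 : mkW (Φ.bnPair hV0) Φ.n0 (Φ.n0_mem_N hV0) = w0 (Φ.bnPair hV0) := by
  apply mkW_eq_w0_of_exists
  rintro _ ⟨j, rfl⟩
  obtain ⟨x, hx, hx1, -⟩ := Φ.exists_XX_ne_one hV0 j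
  have hR : ∃ x' ∈ Φ.XX j, Φ.sgen j * x * Φ.sgen j * x'⁻¹ * Φ.sgen j ∈ Φ.BB := by
    by_cases h : j.val + 1 < m
    · exact Φ.hR_lt h x hx hx1
    · exact Φ.hR_last h x hx hx1
  obtain ⟨x', hx', hb⟩ := hR
  refine ⟨x * Φ.n0, ?_, ?_⟩
  · rw [mem_C_mk, mem_dc]
    exact ⟨x, Φ.XX_le_BB j hx, 1, Subgroup.one_mem _, by rw [mul_one]⟩
  · rw [mem_C_mk, mem_dc]
    refine ⟨Φ.sgen j * x * Φ.sgen j * x'⁻¹ * Φ.sgen j, hb,
      Φ.n0⁻¹ * (Φ.sgen j * x' * Φ.sgen j) * Φ.n0, Φ.n0_conj_opp j hx', ?_⟩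
    set s := Φ.sgen j with hs
    have hss : s * s = 1 := Φ.sgen_mul_self j
    have : s * x * s * x'⁻¹ * s * Φ.n0 * (Φ.n0⁻¹ * (s * x' * s) * Φ.n0) =
        s * x * s * x'⁻¹ * (s * s) * x' * s * Φ.n0 := by group
    rw [this, hss]
    have : s * x * s * x'⁻¹ * 1 * x' * s * Φ.n0 = s * x * (s * s) * Φ.n0 := by group
    rw [this, hss]
    group

/-- `B ∩ n₀ B n₀⁻¹ = T` -/
theorem mem_BStab_n0 (b : (Φ.bnPair hV0).B) :
    b ∈ BStab (Φ.bnPair hV0) Φ.n0 ↔ (b : ↥(Cfsg.isometryGroup F ⇑Q)) ∈ Φ.TT := by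
  rw [mem_BStab]
  have hbB : (b : ↥(Cfsg.isometryGroup F ⇑Q)) ∈ Φ.BB := b.2
  constructor
  · intro h
    have h' : Φ.n0⁻¹ * (b : ↥(Cfsg.isometryGroup F ⇑Q)) * Φ.n0 ∈ Φ.BB := h
    have hbi := Φ.BB.inv_mem hbB
    -- the images of the `f_j`
    have hf : ∀ j : Fin m, ∃ c : F,
        toOG Q (b : ↥(Cfsg.isometryGroup F ⇑Q)) (Φ.f j) = c • Φ.f j := by
      intro j
      have h1 := h' j
      rw [toOG_mul_apply, toOG_mul_apply, n0_fr, n0_inv] at h1
      set y := toOG Q (b : ↥(Cfsg.isometryGroup F ⇑Q)) (Φ.f j) with hy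
      have hy' : y = toOG Q Φ.n0 (toOG Q Φ.n0 y) := by
        rw [← toOG_mul_apply, n0_mul_self, toOG_one_apply]
      have hsw : (Sum.inl j : Fin m ⊕ Fin m).swap = Sum.inr j := rfl
      rw [hsw, ← hy] at h1
      set z := toOG Q Φ.n0 y with hz
      refine ⟨Φ.co (Sum.inl j) z, ?_⟩
      have hz' := Φ.eq_sum_of_mem_E h1
      rw [hy']
      conv_lhs => rw [hz']
      rw [map_sum, Finset.sum_eq_single j]
      · rw [map_smul, n0_fr]; rfl
      · intro l _ hlj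
        rw [map_smul, n0_fr]
        have : Φ.co (Sum.inl l) z = 0 := by
          by_cases hlt : l.val < j.val
          · unfold co
            rw [hz, polar_toOG_left, n0_inv, n0_fr, Sum.swap_swap, hy, polar_toOG_left]
            show polar Q (Φ.f j) (toOG Q (b : ↥(Cfsg.isometryGroup F ⇑Q))⁻¹ (Φ.e l)) = 0
            rw [polar_comm]
            exact Φ.polar_E_fr_inr (hbi l) (by omega)
          · have : j.val + 1 ≤ l.val := by
              have : l.val ≠ j.val := fun h => hlj (Fin.ext h)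
              omega
            exact Φ.co_e_of_mem_E h1 this
        rw [this, zero_smul]
      · intro h; exact absurd (Finset.mem_univ j) h
    intro a
    cases a with
    | inr j => exact hf j
    | inl j =>
      refine ⟨Φ.co (Sum.inl j) (toOG Q (b : ↥(Cfsg.isometryGroup F ⇑Q)) (Φ.e j)), ?_⟩
      conv_lhs => rw [Φ.eq_sum_of_mem_E (hbB j)]
      rw [Finset.sum_eq_single j]
      · intro l _ hlj
        have : Φ.co (Sum.inl l) (toOG Q (b : ↥(Cfsg.isometryGroup F ⇑Q)) (Φ.e j)) = 0 := by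
          obtain ⟨c, hc⟩ := hf l
          have hc0 : c ≠ 0 := smul_ne_zero_of_apply (Φ.fr_ne_zero _) hc
          unfold co
          show polar Q (toOG Q (b : ↥(Cfsg.isometryGroup F ⇑Q)) (Φ.e j)) (Φ.f l) = 0
          have : Φ.f l = c⁻¹ • toOG Q (b : ↥(Cfsg.isometryGroup F ⇑Q)) (Φ.f l) := by
            rw [hc, smul_smul, inv_mul_cancel₀ hc0, one_smul]
          rw [this, polar_smul_right, polar_toOG, Φ.polar_e_f_ne (Ne.symm hlj), smul_zero]
        rw [this, zero_smul]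
      · intro h; exact absurd (Finset.mem_univ j) h
  · intro h
    have h1 : Φ.n0⁻¹ ∈ Φ.Mono := Φ.Mono.inv_mem (Φ.NN_le_Mono Φ.n0_mem_NN)
    have := Φ.TT_le_BB (Φ.Mono_conj_TT h1 h)
    rw [inv_inv] at this
    exact this

end Frame

end Cfsg.Agent.Lib.Helper1.OrthBN
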