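import Cfsg.Agent.Lib.Helper1.OrthBN12
import Cfsg.Agent.Lib.Helper13.SLSteinberg
import Cfsg.Agent.Lib.Helper15.UnBNL

/-!
helper1: the Steinberg character of `PΩ(Q)` for a quadratic space with a hyperbolic frame and
anisotropic complement.
-/

set_option autoImplicit false
set_option linter.unusedSectionVars false
set_option linter.unusedVariables false

namespace Cfsg.Agent.Lib.Helper1.OrthBN

open Module QuadraticMap Matrix Cfsg Cfsg.Agent.Lib.Helper25.CD Cfsg.Agent.Lib.Helper25.PS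
  Cfsg.Agent.Lib.Helper18.OrthAut Cfsg.Agent.Lib.Helper3.BN Cfsg.Agent.Lib.Helper6.BNSt

namespace Frame

variable {ι : Type} [Fintype ι] [DecidableEq ι] {F : Type*} [Field F] [Fintype F]
  {Q : QuadraticForm F (ι → F)} {m : ℕ} (Φ : Frame Q m) (hV0 : ∃ w ∈ Φ.V0, w ≠ 0)

/-- the distinguished generators as a finite set -/
noncomputable def Sfin : Finset ↥(Cfsg.isometryGroup F ⇑Q) := by
  classical
  exact Finset.univ.image Φ.sgen

theorem coe_Sfin : ((Φ.Sfin : Finset ↥(Cfsg.isometryGroup F ⇑Q)) : Set _) = (Φ.bnPair hV0).S := by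
  classical
  unfold Sfin
  rw [Finset.coe_image, Finset.coe_univ, Set.image_univ]
  rfl

/-- the Steinberg function -/
noncomputable def st : ↥(Cfsg.isometryGroup F ⇑Q) → ℂ := stFun (Φ.bnPair hV0) Φ.Sfin

theorem BStab_w0_eq :
    BStab (Φ.bnPair hV0) (repW (Φ.bnPair hV0) (w0 (Φ.bnPair hV0))) =
      BStab (Φ.bnPair hV0) Φ.n0 := by
  apply BStab_congr_mkW (Φ.bnPair hV0) (repW_mem _ _) (Φ.n0_mem_N hV0)
  rw [mkW_repW, mkW_n0]

theorem mem_BStab_w0 (b : (Φ.bnPair hV0).B) :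
    b ∈ BStab (Φ.bnPair hV0) (repW (Φ.bnPair hV0) (w0 (Φ.bnPair hV0))) ↔
      (b : ↥(Cfsg.isometryGroup F ⇑Q)) ∈ Φ.TT := by
  rw [BStab_w0_eq, mem_BStab_n0]

/-- vanishing at the non-identity elements of `U` -/
theorem st_unipotent {u : ↥(Cfsg.isometryGroup F ⇑Q)} (hu : u ∈ Φ.UU) (hne : u ≠ 1) :
    Φ.st hV0 u = 0 := by
  have huB : u ∈ (Φ.bnPair hV0).B := Φ.UU_le_BB hu
  have h : Φ.st hV0 u = _ := stFun_apply_B (Φ.bnPair hV0) Φ.Sfin (Φ.coe_Sfin hV0) ⟨u, huB⟩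
  rw [h]
  have hemp : IsEmpty (MulAction.fixedBy ((Φ.bnPair hV0).B ⧸
      BStab (Φ.bnPair hV0) (repW (Φ.bnPair hV0) (w0 (Φ.bnPair hV0))))
      (⟨u, huB⟩ : (Φ.bnPair hV0).B)) := by
    constructor
    rintro ⟨x, hx⟩
    obtain ⟨c, rfl⟩ := QuotientGroup.mk_surjective x
    rw [MulAction.mem_fixedBy] at hx
    have hx' : (((⟨u, huB⟩ : (Φ.bnPair hV0).B) * c : (Φ.bnPair hV0).B) :
        (Φ.bnPair hV0).B ⧸ BStab (Φ.bnPair hV0) (repW (Φ.bnPair hV0) (w0 (Φ.bnPair hV0)))) =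
        (c : (Φ.bnPair hV0).B ⧸ _) := hx
    rw [QuotientGroup.eq] at hx'
    have e : ((⟨u, huB⟩ : (Φ.bnPair hV0).B) * c)⁻¹ * c =
        c⁻¹ * (⟨u, huB⟩ : (Φ.bnPair hV0).B)⁻¹ * c := by
      group
    rw [e, mem_BStab_w0] at hx'
    have hx'' : (c : ↥(Cfsg.isometryGroup F ⇑Q))⁻¹ * u⁻¹ * (c : ↥(Cfsg.isometryGroup F ⇑Q)) ∈
        Φ.TT := hx'
    have hcB : (c : ↥(Cfsg.isometryGroup F ⇑Q)) ∈ Φ.BB := c.2
    have hcU : (c : ↥(Cfsg.isometryGroup F ⇑Q))⁻¹ * u⁻¹ * (c : ↥(Cfsg.isometryGroup F ⇑Q)) ∈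
        Φ.UU := by
      have := Φ.UU_conj (Φ.BB.inv_mem hcB) (Φ.UU.inv_mem hu)
      rwa [inv_inv] at this
    have hone := Φ.UU_inf_TT hcU hx''
    apply hne
    have : u⁻¹ = 1 := by
      have e' : u⁻¹ = (c : ↥(Cfsg.isometryGroup F ⇑Q)) *
          ((c : ↥(Cfsg.isometryGroup F ⇑Q))⁻¹ * u⁻¹ * (c : ↥(Cfsg.isometryGroup F ⇑Q))) *
          (c : ↥(Cfsg.isometryGroup F ⇑Q))⁻¹ := by group
      rw [e', hone]; group
    exact inv_eq_one.mp this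
  rw [Nat.card_of_isEmpty, Nat.cast_zero]

/-- the map `U → B/T` -/
noncomputable def uniToQuot (u : Φ.UU) :
    (Φ.bnPair hV0).B ⧸ BStab (Φ.bnPair hV0) (repW (Φ.bnPair hV0) (w0 (Φ.bnPair hV0))) :=
  QuotientGroup.mk (⟨u.1, Φ.UU_le_BB u.2⟩ : (Φ.bnPair hV0).B)

theorem uniToQuot_bijective : Function.Bijective (Φ.uniToQuot hV0) := by
  constructor
  · intro u u' h
    unfold uniToQuot at h
    rw [QuotientGroup.eq, mem_BStab_w0] at h
    have hmem : (u⁻¹ * u' : Φ.UU).1 ∈ Φ.UU := (u⁻¹ * u').2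
    have h' : ((u⁻¹ * u' : Φ.UU) : ↥(Cfsg.isometryGroup F ⇑Q)) ∈ Φ.TT := h
    have hone := Φ.UU_inf_TT hmem h'
    have : u⁻¹ * u' = 1 := Subtype.ext hone
    exact inv_mul_eq_one.mp this
  · intro x
    obtain ⟨b, rfl⟩ := QuotientGroup.mk_surjective x
    have hbB : (b : ↥(Cfsg.isometryGroup F ⇑Q)) ∈ Φ.BB := b.2
    obtain ⟨u, hu, t, ht, he⟩ := Φ.BB_eq_UU_TT ⊤ (fun _ _ _ _ => Subgroup.mem_top _) _ hbB
    refine ⟨⟨u, hu.1⟩, ?_⟩
    unfold uniToQuot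
    rw [QuotientGroup.eq, mem_BStab_w0]
    show u⁻¹ * (b : ↥(Cfsg.isometryGroup F ⇑Q)) ∈ Φ.TT
    rw [he]
    have : u⁻¹ * (u * t) = t := by group
    rw [this]
    exact ht

/-- the degree -/
theorem st_one : Φ.st hV0 1 = (Nat.card Φ.UU : ℂ) := by
  unfold st
  rw [stFun_one (Φ.bnPair hV0) Φ.Sfin (Φ.coe_Sfin hV0),
    Nat.card_congr (Equiv.ofBijective _ (Φ.uniToQuot_bijective hV0))]

/-- an element all of whose conjugates lie in `B` acts trivially -/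
theorem st_of_conj_mem {z : ↥(Cfsg.isometryGroup F ⇑Q)}
    (hz : ∀ g : ↥(Cfsg.isometryGroup F ⇑Q), g⁻¹ * z * g ∈ Φ.BB) : Φ.st hV0 z = Φ.st hV0 1 := by
  unfold st stFun
  apply Finset.sum_congr rfl
  intro J _
  congr 1
  rw [fixedPointCharacter_apply, fixedPointCharacter_apply]
  have hset : MulAction.fixedBy (↥(Cfsg.isometryGroup F ⇑Q) ⧸
        (Φ.bnPair hV0).parabolic (J : Set _)) z =
      MulAction.fixedBy (↥(Cfsg.isometryGroup F ⇑Q) ⧸ (Φ.bnPair hV0).parabolic (J : Set _))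
        (1 : ↥(Cfsg.isometryGroup F ⇑Q)) := by
    ext x
    rw [MulAction.mem_fixedBy, MulAction.mem_fixedBy, one_smul]
    constructor
    · intro _; trivial
    · intro _
      obtain ⟨g, rfl⟩ := QuotientGroup.mk_surjective x
      show ((z * g : ↥(Cfsg.isometryGroup F ⇑Q)) :
        ↥(Cfsg.isometryGroup F ⇑Q) ⧸ (Φ.bnPair hV0).parabolic (J : Set _)) = g
      rw [QuotientGroup.eq]
      have e : (z * g)⁻¹ * g = (g⁻¹ * z * g)⁻¹ := by group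
      rw [e]
      exact Subgroup.inv_mem _ (B_le_parabolic (Φ.bnPair hV0) _ (hz g))
  rw [hset]

include hV0 in
/-- the centre of `Ω` lies in `B` -/
lemma central_mem_BB (hrot : Φ.HasRot) (hnd : Φ.HasNd) {z : ↥(Cfsg.isometryGroup F ⇑Q)}
    (hz : ∀ ω ∈ Cfsg.Omega F ⇑Q, ω * z = z * ω) : z ∈ Φ.BB := by
  apply Φ.mem_BB_of_conj hV0
  intro u hu
  have h1 := hz u (Φ.UU_le_Omega hrot hnd hu)
  have : z⁻¹ * u * z = u := by
    rw [mul_assoc, h1]; group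
  rw [this]
  exact Φ.UU_le_BB hu

variable (p : ℕ) [Fact p.Prime] [CharP F p]

include hV0 in
/-- the Steinberg character of `PΩ(Q)` -/
theorem steinberg_frame (hrot : Φ.HasRot) (hnd : Φ.HasNd)
    (hT : ∀ t ∈ Φ.TT ⊓ Cfsg.Omega F ⇑Q, t ^ p = 1 → t = 1) :
    ∃ χ : Cfsg.POmega F ⇑Q → ℂ, IsIrrCharacter (Cfsg.POmega F ⇑Q) χ ∧
      ∀ P : Sylow p (Cfsg.POmega F ⇑Q), χ 1 = Nat.card P ∧
        ∀ x : Cfsg.POmega F ⇑Q, x ∈ P → x ≠ 1 → χ x = 0 := by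
  classical
  have hp : p.Prime := Fact.out
  letI : Fintype ↥(Cfsg.isometryGroup F ⇑Q) := Fintype.ofFinite _
  letI : Fintype ↥(Cfsg.Omega F ⇑Q) := Fintype.ofFinite _
  have hn : (Cfsg.Omega F ⇑Q).Normal := by
    show (commutator ↥(Cfsg.isometryGroup F ⇑Q)).Normal
    infer_instance
  set θ : ↥(Cfsg.Omega F ⇑Q) → ℂ := fun h => Φ.st hV0 (h : ↥(Cfsg.isometryGroup F ⇑Q)) with hθ
  have hirr : IsIrrCharacter ↥(Cfsg.Omega F ⇑Q) θ := by
    apply isIrrCharacter_stFun_hom (Φ.bnPair hV0) (Cfsg.Omega F ⇑Q).subtype _ _ Φ.Sfin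
      (Φ.coe_Sfin hV0)
    · intro g h
      exact ⟨⟨g * h.1 * g⁻¹, hn.conj_mem _ h.2 g⟩, rfl⟩
    · intro g
      obtain ⟨ω, hω, t, ht, he⟩ := Φ.eq_Omega_mul_TT hrot hnd hV0 g
      refine ⟨⟨ω, hω⟩, t, ?_, he⟩
      show t ∈ Φ.BB ⊓ Φ.NN
      rw [Φ.BB_inf_NN]
      exact ht
  have hcenter : ∀ z ∈ Subgroup.center ↥(Cfsg.Omega F ⇑Q), θ z = θ 1 := by
    intro z hz
    show Φ.st hV0 (z : ↥(Cfsg.isometryGroup F ⇑Q)) = Φ.st hV0 ((1 : ↥(Cfsg.Omega F ⇑Q)) : _)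
    rw [Subgroup.coe_one]
    apply Φ.st_of_conj_mem hV0
    intro g
    apply Φ.central_mem_BB hV0 hrot hnd
    intro ω hω
    have h1 := Subgroup.mem_center_iff.mp hz ⟨g * ω * g⁻¹, hn.conj_mem _ hω g⟩
    have h2 : g * ω * g⁻¹ * (z : ↥(Cfsg.isometryGroup F ⇑Q)) =
        (z : ↥(Cfsg.isometryGroup F ⇑Q)) * (g * ω * g⁻¹) := congrArg Subtype.val h1
    have e1 : ω * (g⁻¹ * (z : ↥(Cfsg.isometryGroup F ⇑Q)) * g) =
        g⁻¹ * (g * ω * g⁻¹ * (z : ↥(Cfsg.isometryGroup F ⇑Q))) * g := by group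
    rw [e1, h2]
    group
  obtain ⟨χ₁, hχ₁, hχ₁θ⟩ := Cfsg.Agent.Lib.Helper13.exists_deflate
    (Subgroup.center ↥(Cfsg.Omega F ⇑Q)) hirr hcenter
  have hUle : Φ.UU ≤ Cfsg.Omega F ⇑Q := Φ.UU_le_Omega hrot hnd
  set UΩ : Subgroup ↥(Cfsg.Omega F ⇑Q) := Φ.UU.subgroupOf (Cfsg.Omega F ⇑Q) with hUΩ
  have hcard1 : Nat.card UΩ = Nat.card Φ.UU :=
    Nat.card_congr (Subgroup.subgroupOfEquivOfLe hUle).toEquiv
  have hcardΩ : Nat.card UΩ = p ^ (Nat.card ↥(Cfsg.Omega F ⇑Q)).factorization p := by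
    rw [hcard1]
    exact Φ.card_UU_eq p hrot hnd hV0 hT
  have hsurj : Function.Surjective
      (QuotientGroup.mk' (Subgroup.center ↥(Cfsg.Omega F ⇑Q))) :=
    QuotientGroup.mk'_surjective _
  set P₁ : Sylow p ↥(Cfsg.Omega F ⇑Q) := Sylow.ofCard UΩ hcardΩ with hP₁
  set P₀ := P₁.mapSurjective hsurj with hP₀
  set Ub : Subgroup (↥(Cfsg.Omega F ⇑Q) ⧸ Subgroup.center ↥(Cfsg.Omega F ⇑Q)) :=
    UΩ.map (QuotientGroup.mk' (Subgroup.center ↥(Cfsg.Omega F ⇑Q))) with hUb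
  have hP₀coe : (P₀ : Subgroup _) = Ub := by
    rw [hP₀, Sylow.coe_mapSurjective]
    rfl
  have hUbcard : Nat.card Ub = p ^ (Nat.card (↥(Cfsg.Omega F ⇑Q) ⧸
      Subgroup.center ↥(Cfsg.Omega F ⇑Q))).factorization p := by
    rw [← hP₀coe]
    exact Sylow.card_eq_multiplicity P₀
  have hst1 : Φ.st hV0 1 ≠ 0 := by
    rw [Φ.st_one hV0]
    exact_mod_cast (Nat.card_pos (α := Φ.UU)).ne'
  -- the quotient map is injective on `U`
  have hinj : ∀ u ∈ UΩ, (QuotientGroup.mk' (Subgroup.center ↥(Cfsg.Omega F ⇑Q))) u = 1 →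
      u = 1 := by
    intro u hu h1
    have hz : u ∈ Subgroup.center ↥(Cfsg.Omega F ⇑Q) := by
      rw [← QuotientGroup.ker_mk' (Subgroup.center ↥(Cfsg.Omega F ⇑Q))]
      exact h1
    by_contra hne
    have h2 := hcenter u hz
    have h3 : θ u = 0 := by
      apply Φ.st_unipotent hV0 (Subgroup.mem_subgroupOf.mp hu)
      intro h
      exact hne (Subtype.ext h)
    rw [h3] at h2
    apply hst1
    have : θ 1 = Φ.st hV0 1 := by rw [hθ]; simp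
    rw [← this, ← h2]
  have hcard2 : Nat.card Ub = Nat.card UΩ := by
    symm
    let ψ : UΩ → Ub := fun u => ⟨(QuotientGroup.mk' _) u.1, Subgroup.mem_map_of_mem _ u.2⟩
    apply Nat.card_congr
    refine Equiv.ofBijective ψ ⟨?_, ?_⟩
    · intro u u' h
      have h' : (QuotientGroup.mk' (Subgroup.center ↥(Cfsg.Omega F ⇑Q))) u.1 =
          (QuotientGroup.mk' _) u'.1 := congrArg Subtype.val h
      have h'' : (QuotientGroup.mk' (Subgroup.center ↥(Cfsg.Omega F ⇑Q)))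
          (u.1⁻¹ * u'.1) = 1 := by
        rw [map_mul, map_inv, h', inv_mul_cancel]
      have := hinj _ (UΩ.mul_mem (UΩ.inv_mem u.2) u'.2) h''
      apply Subtype.ext
      exact inv_mul_eq_one.mp this
    · rintro ⟨x, hx⟩
      obtain ⟨u, hu, rfl⟩ := Subgroup.mem_map.mp hx
      exact ⟨⟨u, hu⟩, rfl⟩
  apply Cfsg.Agent.Lib.Helper15.UnBN.steinberg_transfer (MulEquiv.refl _) p Ub hUbcard hχ₁
  · have := hχ₁θ 1
    rw [QuotientGroup.mk_one] at this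
    rw [this, hcard2, hcard1, hθ]
    show Φ.st hV0 ((1 : ↥(Cfsg.Omega F ⇑Q)) : ↥(Cfsg.isometryGroup F ⇑Q)) = _
    rw [Subgroup.coe_one, Φ.st_one hV0]
  · intro x hx hx1
    obtain ⟨u, hu, rfl⟩ := Subgroup.mem_map.mp hx
    have : (QuotientGroup.mk' (Subgroup.center ↥(Cfsg.Omega F ⇑Q))) u =
        ((u : ↥(Cfsg.Omega F ⇑Q)) : _ ⧸ _) := rfl
    rw [this, hχ₁θ]
    apply Φ.st_unipotent hV0 (Subgroup.mem_subgroupOf.mp hu)
    intro h
    apply hx1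
    have hu1 : u = 1 := Subtype.ext h
    rw [hu1, map_one]

end Frame

end Cfsg.Agent.Lib.Helper1.OrthBN
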