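import Cfsg.Agent.Lib.Helper1.OrthBN13

/-!
helper1: elements of order `p` of the diagonal group `T` of the isometry group of a quadratic space
with a hyperbolic frame, `p` the characteristic: for odd `p` there are none.
-/

set_option autoImplicit false
set_option linter.unusedSectionVars false
set_option linter.unusedVariables false

namespace Cfsg.Agent.Lib.Helper1.OrthBN

open Module QuadraticMap Matrix Cfsg Cfsg.Agent.Lib.Helper25.CD Cfsg.Agent.Lib.Helper25.PS
  Cfsg.Agent.Lib.Helper18.OrthAut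

namespace Frame

variable {ι : Type} [Fintype ι] [DecidableEq ι] {F : Type*} [Field F] [Fintype F]
  {Q : QuadraticForm F (ι → F)} {m : ℕ} (Φ : Frame Q m)
  (p : ℕ) [Fact p.Prime] [CharP F p]

lemma TT_pow_apply {t : ↥(Cfsg.isometryGroup F ⇑Q)} {a : Fin m ⊕ Fin m} {c : F}
    (hc : toOG Q t (Φ.fr a) = c • Φ.fr a) (n : ℕ) :
    toOG Q (t ^ n) (Φ.fr a) = c ^ n • Φ.fr a := by
  induction n with
  | zero => rw [pow_zero, pow_zero, toOG_one_apply, one_smul]
  | succ n ih => rw [pow_succ, toOG_mul_apply, hc, map_smul, ih, smul_smul, pow_succ, mul_comm]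

/-- an element of `T` of order dividing `p` fixes the frame -/
lemma TT_pow_fix {t : ↥(Cfsg.isometryGroup F ⇑Q)} (ht : t ∈ Φ.TT) (htp : t ^ p = 1)
    (a : Fin m ⊕ Fin m) : toOG Q t (Φ.fr a) = Φ.fr a := by
  obtain ⟨c, hc⟩ := ht a
  have h1 := Φ.TT_pow_apply hc p
  rw [htp, toOG_one_apply] at h1
  have h2 : c ^ p = 1 := by
    have h3 : (c ^ p - 1) • Φ.fr a = 0 := by rw [sub_smul, one_smul, ← h1, sub_self]
    rcases smul_eq_zero.mp h3 with h4 | h4
    · exact sub_eq_zero.mp h4
    · exact absurd h4 (Φ.fr_ne_zero a)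
  have h5 : c = 1 := by
    apply frobenius_inj F p
    rw [frobenius_def, frobenius_def, h2, one_pow]
  rw [hc, h5, one_smul]

/-- an element of `T` fixing the frame and the anisotropic part is trivial -/
lemma eq_one_of_fix {t : ↥(Cfsg.isometryGroup F ⇑Q)} (h1 : ∀ a, toOG Q t (Φ.fr a) = Φ.fr a)
    (h2 : ∀ w ∈ Φ.V0, toOG Q t w = w) : t = 1 := by
  apply Φ.ext_frame
  · intro a; rw [h1, toOG_one_apply]
  · intro w hw; rw [h2 w hw, toOG_one_apply]

/-- in odd characteristic `p` the group `T` has no elements of order `p` -/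
theorem TT_eq_one_of_pow_odd (h2 : (2 : F) ≠ 0) [Nonempty ι] {t : ↥(Cfsg.isometryGroup F ⇑Q)}
    (ht : t ∈ Φ.TT) (htp : t ^ p = 1) : t = 1 := by
  have hfix := Φ.TT_pow_fix p ht htp
  by_contra hne
  have hex : ∃ v ∈ Φ.V0, toOG Q t v ≠ v := by
    by_contra hcon
    push Not at hcon
    exact hne (Φ.eq_one_of_fix hfix hcon)
  obtain ⟨v, hv, hvne⟩ := hex
  set M : Matrix ι ι F := ((t : GL ι F) : Matrix ι ι F) with hM
  have hMp : M ^ p = 1 := by
    have := congrArg (fun g : ↥(Cfsg.isometryGroup F ⇑Q) => ((g : GL ι F) : Matrix ι ι F)) htp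
    simpa using this
  have hD : (M - 1) ^ p = 0 := by
    rw [sub_pow_char_of_commute p (Commute.one_right M), hMp, one_pow, sub_self]
  have hMv : ∀ x : ι → F, (M - 1) *ᵥ x = toOG Q t x - x := by
    intro x
    rw [Matrix.sub_mulVec, Matrix.one_mulVec]
    rfl
  set d : ℕ → (ι → F) := fun k => ((M - 1) ^ k) *ᵥ v with hd
  have hd0 : d 0 = v := by simp [hd]
  have hdS : ∀ k, d (k + 1) = toOG Q t (d k) - d k := by
    intro k
    simp only [hd]
    rw [pow_succ', ← Matrix.mulVec_mulVec, hMv]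
  have hdV : ∀ k, d k ∈ Φ.V0 := by
    intro k
    induction k with
    | zero => rw [hd0]; exact hv
    | succ k ih =>
      rw [hdS]
      exact Submodule.sub_mem _ (Φ.Mono_V0 (Φ.TT_le_Mono ht) ih) ih
  have hdp : d p = 0 := by simp [hd, hD]
  have hd1 : d 1 ≠ 0 := by
    rw [hdS 0, hd0]
    exact sub_ne_zero.mpr hvne
  classical
  have hexk : ∃ k, d k = 0 := ⟨p, hdp⟩
  set k := Nat.find hexk with hk
  have hk0 : d k = 0 := Nat.find_spec hexk
  have hk2 : 2 ≤ k := by
    by_contra hlt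
    have : k = 0 ∨ k = 1 := by omega
    rcases this with h | h
    · rw [h, hd0] at hk0
      apply hvne
      rw [hk0, map_zero]
    · rw [h] at hk0
      exact hd1 hk0
  obtain ⟨j, hj⟩ : ∃ j, k = j + 2 := ⟨k - 2, by omega⟩
  have hw0 : d (j + 1) ≠ 0 := by
    have := Nat.find_min hexk (m := j + 1) (by omega)
    exact this
  set v' := d j with hv'
  set w := d (j + 1) with hw
  have hwV : w ∈ Φ.V0 := hdV _
  have htv' : toOG Q t v' = v' + w := by
    rw [hw, hdS j]; abel
  have htw : toOG Q t w = w := by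
    have := hdS (j + 1)
    rw [← hj, hk0] at this
    exact (sub_eq_zero.mp this.symm)
  have h3 := polar_toOG Q t v' w
  rw [htv', htw, polar_add_left, Cfsg.Agent.Lib.Helper18.OrthAut.polar_self2] at h3
  have h4 : 2 * Q w = 0 := by linear_combination h3
  rcases mul_eq_zero.mp h4 with h5 | h5
  · exact h2 h5
  · exact hw0 (Φ.aniso' hwV h5)

end Frame

end Cfsg.Agent.Lib.Helper1.OrthBN
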