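import Cfsg.Agent.Lib.Helper1.OrthBN14
import Cfsg.Agent.Lib.Helper5.MinusMid
import Cfsg.Agent.Lib.Helper15.WittBound

/-!
helper1: the standard hyperbolic frame of the minus type quadratic form, and the Steinberg
character of `PΩ⁻_{2m+2}(q)`.
-/

set_option autoImplicit false
set_option linter.unusedSectionVars false
set_option linter.unusedVariables false

namespace Cfsg.Agent.Lib.Helper1.OrthBN

open Module QuadraticMap Matrix Cfsg Cfsg.Agent.Lib.Helper25.CD Cfsg.Agent.Lib.Helper25.PS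
  Cfsg.Agent.Lib.Helper18.OrthAut Cfsg.Agent.Lib.Helper5.OrthStd

section concrete

variable {F : Type*} [Field F] (m : ℕ) (a b : F)

/-- polar form of the minus type form in coordinates -/
lemma polar_minusQ' (u v : (Fin m ⊕ Fin m) ⊕ Fin 2 → F) :
    polar (minusQ F m a b) u v =
      (∑ i, u (Sum.inl (Sum.inl i)) * v (Sum.inl (Sum.inr i))) +
      (∑ i, v (Sum.inl (Sum.inl i)) * u (Sum.inl (Sum.inr i))) +
      (2 * u (Sum.inr 0) * v (Sum.inr 0) +
        a * (u (Sum.inr 0) * v (Sum.inr 1) + u (Sum.inr 1) * v (Sum.inr 0)) +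
        2 * b * u (Sum.inr 1) * v (Sum.inr 1)) := by
  simp only [polar, minusQ_apply]
  rw [Cfsg.Agent.Lib.Helper15.polar_quadFormMinus]
  simp only [dotProduct]

lemma polar_single_inl (c : Fin m ⊕ Fin m) (v : (Fin m ⊕ Fin m) ⊕ Fin 2 → F) :
    polar (minusQ F m a b) (Pi.single (Sum.inl c) 1) v = v (Sum.inl c.swap) := by
  rw [polar_minusQ']
  cases c with
  | inl i => simp [Pi.single_apply]
  | inr i => simp [Pi.single_apply]

lemma Q_single_inl (c : Fin m ⊕ Fin m) :
    minusQ F m a b (Pi.single (Sum.inl c) 1) = 0 := by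
  rw [minusQ_apply]
  unfold Cfsg.quadFormMinus
  cases c with
  | inl i => simp [Pi.single_apply]
  | inr i => simp [Pi.single_apply]

variable {a b}

/-- the standard frame -/
noncomputable def stdFrame
    (hab : ∀ z₁ z₂ : F, z₁ ^ 2 + a * z₁ * z₂ + b * z₂ ^ 2 = 0 → z₁ = 0 ∧ z₂ = 0) :
    Frame (minusQ F m a b) m where
  fr := fun c => Pi.single (Sum.inl c) 1
  Qfr := fun c => Q_single_inl m a b c
  pol := by
    intro c d
    rw [polar_single_inl, Pi.single_apply]
    by_cases h : d = c.swap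
    · rw [if_pos h, if_pos (by rw [h])]
    · rw [if_neg h, if_neg]
      intro h'
      exact h (Sum.inl_injective h').symm
  aniso := by
    intro v hv hQ
    have h1 : ∀ c : Fin m ⊕ Fin m, v (Sum.inl c) = 0 := by
      intro c
      have := hv c.swap
      rw [polar_comm, polar_single_inl, Sum.swap_swap] at this
      exact this
    rw [minusQ_apply] at hQ
    unfold Cfsg.quadFormMinus at hQ
    have h2 : ∑ i : Fin m, v (Sum.inl (Sum.inl i)) * v (Sum.inl (Sum.inr i)) = 0 :=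
      Finset.sum_eq_zero (fun i _ => by rw [h1, zero_mul])
    rw [h2, zero_add] at hQ
    obtain ⟨h3, h4⟩ := hab _ _ hQ
    funext j
    rcases j with c | j
    · exact h1 c
    · fin_cases j
      · exact h3
      · exact h4

variable (hab : ∀ z₁ z₂ : F, z₁ ^ 2 + a * z₁ * z₂ + b * z₂ ^ 2 = 0 → z₁ = 0 ∧ z₂ = 0)

lemma co_std (c : Fin m ⊕ Fin m) (v : (Fin m ⊕ Fin m) ⊕ Fin 2 → F) :
    (stdFrame m hab).co c v = v (Sum.inl c) := by
  unfold Frame.co
  show polar (minusQ F m a b) v (Pi.single (Sum.inl c.swap) 1) = _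
  rw [polar_comm, polar_single_inl, Sum.swap_swap]

lemma mem_V0_std {v : (Fin m ⊕ Fin m) ⊕ Fin 2 → F} :
    v ∈ (stdFrame m hab).V0 ↔ ∀ c : Fin m ⊕ Fin m, v (Sum.inl c) = 0 := by
  rw [Frame.mem_V0]
  constructor
  · intro h c; have := h c; rwa [co_std m hab] at this
  · intro h c; rw [co_std m hab]; exact h c

/-- the standard basis vectors of the anisotropic plane -/
def zv (j : Fin 2) : (Fin m ⊕ Fin m) ⊕ Fin 2 → F := Pi.single (Sum.inr j) 1

lemma zv_mem (j : Fin 2) : (zv m j : (Fin m ⊕ Fin m) ⊕ Fin 2 → F) ∈ (stdFrame m hab).V0 := by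
  rw [mem_V0_std]
  intro c
  simp [zv]

lemma eq_zv_of_mem {v : (Fin m ⊕ Fin m) ⊕ Fin 2 → F} (hv : v ∈ (stdFrame m hab).V0) :
    v = v (Sum.inr 0) • zv m 0 + v (Sum.inr 1) • zv m 1 := by
  rw [mem_V0_std] at hv
  funext j
  rcases j with c | j
  · simp [zv, hv c]
  · fin_cases j <;> simp [zv]

lemma polar_V0_std {u v : (Fin m ⊕ Fin m) ⊕ Fin 2 → F} (hu : u ∈ (stdFrame m hab).V0) :
    polar (minusQ F m a b) u v =
      2 * u (Sum.inr 0) * v (Sum.inr 0) +
        a * (u (Sum.inr 0) * v (Sum.inr 1) + u (Sum.inr 1) * v (Sum.inr 0)) +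
        2 * b * u (Sum.inr 1) * v (Sum.inr 1) := by
  rw [mem_V0_std] at hu
  rw [polar_minusQ']
  have h1 : ∑ i : Fin m, u (Sum.inl (Sum.inl i)) * v (Sum.inl (Sum.inr i)) = 0 :=
    Finset.sum_eq_zero (fun i _ => by rw [hu, zero_mul])
  have h2 : ∑ i : Fin m, v (Sum.inl (Sum.inl i)) * u (Sum.inl (Sum.inr i)) = 0 :=
    Finset.sum_eq_zero (fun i _ => by rw [hu, mul_zero])
  rw [h1, h2]
  ring

lemma Q_V0_std {u : (Fin m ⊕ Fin m) ⊕ Fin 2 → F} (hu : u ∈ (stdFrame m hab).V0) :
    minusQ F m a b u = u (Sum.inr 0) ^ 2 + a * u (Sum.inr 0) * u (Sum.inr 1) +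
      b * u (Sum.inr 1) ^ 2 := by
  rw [mem_V0_std] at hu
  rw [minusQ_apply]
  unfold Cfsg.quadFormMinus
  have h1 : ∑ i : Fin m, u (Sum.inl (Sum.inl i)) * u (Sum.inl (Sum.inr i)) = 0 :=
    Finset.sum_eq_zero (fun i _ => by rw [hu, zero_mul])
  rw [h1, zero_add]

lemma zv_apply_inr (j k : Fin 2) :
    (zv m j : (Fin m ⊕ Fin m) ⊕ Fin 2 → F) (Sum.inr k) = if k = j then 1 else 0 := by
  unfold zv
  rw [Pi.single_apply]
  by_cases h : k = j
  · rw [if_pos h, if_pos (by rw [h])]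
  · rw [if_neg h, if_neg (fun h' => h (Sum.inr_injective h'))]

lemma hV0_std : ∃ w ∈ (stdFrame m hab).V0, w ≠ 0 := by
  refine ⟨zv m 0, zv_mem m hab 0, ?_⟩
  intro h
  have := congrFun h (Sum.inr 0)
  rw [zv_apply_inr, if_pos rfl] at this
  exact one_ne_zero this

include hab in
lemma b_ne_zero : b ≠ 0 := by
  intro hb
  have := hab 0 1 (by rw [hb]; ring)
  exact one_ne_zero this.2

include hab

lemma Q_zv0 : minusQ F m a b (zv m 0) = 1 := by
  rw [Q_V0_std m hab (zv_mem m hab 0)]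
  simp [zv_apply_inr]

lemma Q_zv1 : minusQ F m a b (zv m 1) = b := by
  rw [Q_V0_std m hab (zv_mem m hab 1)]
  simp [zv_apply_inr]

lemma polar_zv (j k : Fin 2) :
    polar (minusQ F m a b) (zv m j) (zv m k) =
      2 * (if (0 : Fin 2) = j then 1 else 0) * (if (0 : Fin 2) = k then 1 else 0) +
        a * ((if (0 : Fin 2) = j then 1 else 0) * (if (1 : Fin 2) = k then 1 else 0) +
          (if (1 : Fin 2) = j then 1 else 0) * (if (0 : Fin 2) = k then 1 else 0)) +
        2 * b * (if (1 : Fin 2) = j then 1 else 0) * (if (1 : Fin 2) = k then 1 else 0) := by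
  rw [polar_V0_std m hab (zv_mem m hab j)]
  simp only [zv_apply_inr]

section finite

variable [Fintype F] (p : ℕ) [Fact p.Prime] [CharP F p]

omit hab in
include p in
lemma two_ne_zero_of_ne (hp2 : p ≠ 2) : (2 : F) ≠ 0 := by
  have hp : p.Prime := Fact.out
  intro h
  have h' : ((2 : ℕ) : F) = 0 := by exact_mod_cast h
  rw [CharP.cast_eq_zero_iff F p 2] at h'
  exact hp2 ((Nat.prime_dvd_prime_iff_eq hp Nat.prime_two).mp h')

include p in
lemma disc_ne : a ^ 2 - 4 * b ≠ 0 := by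
  by_cases hp2 : p = 2
  · subst hp2
    have ha : a ≠ 0 := a_ne_zero a b hab
    have h4 : (4 : F) = 0 := by
      have h2 : (2 : F) = 0 := CharTwo.two_eq_zero
      have : (4 : F) = 2 * 2 := by norm_num
      rw [this, h2, mul_zero]
    rw [h4, zero_mul, sub_zero]
    exact pow_ne_zero 2 ha
  · have h2 := two_ne_zero_of_ne (F := F) p hp2
    intro h
    have := hab (-a) 2 (by linear_combination -h)
    exact h2 this.2

include p in
lemma hasNd_std : (stdFrame m hab).HasNd := by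
  by_cases hp2 : p = 2
  · subst hp2
    have ha : a ≠ 0 := a_ne_zero a b hab
    refine ⟨zv m 0, zv_mem m hab 0, zv m 1, zv_mem m hab 1, ?_⟩
    rw [polar_zv m hab]
    simpa using ha
  · have h2 := two_ne_zero_of_ne (F := F) p hp2
    refine ⟨zv m 0, zv_mem m hab 0, zv m 0, zv_mem m hab 0, ?_⟩
    rw [polar_zv m hab]
    simpa using h2

/-- the rotation `r_{z₁} r_{z₂}` -/
noncomputable def rho : ↥(Cfsg.isometryGroup F ⇑(minusQ F m a b)) :=
  reflM (minusQ F m a b) (zv m 0) * reflM (minusQ F m a b) (zv m 1)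

lemma rho_fr (c : Fin m ⊕ Fin m) :
    toOG (minusQ F m a b) (rho m (a := a) (b := b)) ((stdFrame m hab).fr c) =
      (stdFrame m hab).fr c := by
  unfold rho
  rw [toOG_mul_apply, toOG_reflM_apply, toOG_reflM_apply,
    (stdFrame m hab).polar_V0_fr (zv_mem m hab 1), mul_zero, zero_smul, sub_zero,
    (stdFrame m hab).polar_V0_fr (zv_mem m hab 0), mul_zero, zero_smul, sub_zero]

lemma refl1_zv0 :
    toOG (minusQ F m a b) (reflM (minusQ F m a b) (zv m 1)) (zv m 0) =
      zv m 0 - (b⁻¹ * a) • zv m 1 := by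
  rw [toOG_reflM_apply, Q_zv1 m hab, polar_zv m hab]
  simp

lemma refl1_zv1 :
    toOG (minusQ F m a b) (reflM (minusQ F m a b) (zv m 1)) (zv m 1) = - zv m 1 := by
  have hb := b_ne_zero hab
  rw [toOG_reflM_apply, Q_zv1 m hab, polar_zv m hab]
  simp only [Fin.isValue, ↓reduceIte, one_ne_zero, zero_ne_one, if_false, mul_one, mul_zero,
    add_zero, zero_add]
  rw [show b⁻¹ * (2 * b) = 2 by field_simp]
  module

lemma refl0_zv0 :
    toOG (minusQ F m a b) (reflM (minusQ F m a b) (zv m 0)) (zv m 0) = - zv m 0 := by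
  rw [toOG_reflM_apply, Q_zv0 m hab, polar_zv m hab]
  simp only [Fin.isValue, ↓reduceIte, one_ne_zero, zero_ne_one, if_false, mul_one, mul_zero,
    add_zero, zero_add, inv_one]
  module

lemma refl0_zv1 :
    toOG (minusQ F m a b) (reflM (minusQ F m a b) (zv m 0)) (zv m 1) =
      zv m 1 - a • zv m 0 := by
  rw [toOG_reflM_apply, Q_zv0 m hab, polar_zv m hab]
  simp

lemma rho_zv0 :
    toOG (minusQ F m a b) (rho m (a := a) (b := b)) (zv m 0) =
      (a ^ 2 / b - 1) • zv m 0 - (a / b) • zv m 1 := by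
  have hb := b_ne_zero hab
  unfold rho
  rw [toOG_mul_apply, refl1_zv0 m hab, map_sub, map_smul, refl0_zv0 m hab, refl0_zv1 m hab]
  match_scalars <;> field_simp <;> ring

lemma rho_zv1 :
    toOG (minusQ F m a b) (rho m (a := a) (b := b)) (zv m 1) = a • zv m 0 - zv m 1 := by
  unfold rho
  rw [toOG_mul_apply, refl1_zv1 m hab, map_neg, refl0_zv1 m hab]
  module

include p in
lemma hasRot_std : (stdFrame m hab).HasRot := by
  have hb := b_ne_zero hab
  have hd := disc_ne hab p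
  refine ⟨rho m, rho_fr m hab, ?_⟩
  intro w hw
  obtain ⟨α, hα⟩ : ∃ α, α = w (Sum.inr 0) := ⟨_, rfl⟩
  obtain ⟨β, hβ⟩ : ∃ β, β = w (Sum.inr 1) := ⟨_, rfl⟩
  obtain ⟨D, hD⟩ : ∃ D, D = 4 - a ^ 2 / b := ⟨_, rfl⟩
  have hDb : D * b = 4 * b - a ^ 2 := by
    rw [hD]; field_simp
  have hD0 : D ≠ 0 := by
    intro h
    apply hd
    rw [h, zero_mul] at hDb
    linear_combination hDb
  refine ⟨((-2 * α - a * β) / D) • zv m 0 + ((a / b * α + (a ^ 2 / b - 2) * β) / D) • zv m 1,
    Submodule.add_mem _ (Submodule.smul_mem _ _ (zv_mem m hab 0))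
      (Submodule.smul_mem _ _ (zv_mem m hab 1)), ?_⟩
  rw [map_add, map_smul, map_smul, rho_zv0 m hab, rho_zv1 m hab]
  conv_rhs => rw [eq_zv_of_mem m hab hw]
  rw [← hα, ← hβ]
  match_scalars
  · field_simp
    linear_combination (-α) * hDb
  · field_simp
    linear_combination (-β) * hDb

end finite

section char2

variable [Fintype F] [CharP F 2]

omit hab in
lemma add_self_vec {ι' : Type*} (w : ι' → F) : w + w = 0 := by
  funext j
  exact CharTwo.add_self_eq_zero (w j)

/-- in characteristic two, `T ∩ Ω` has no involutions -/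
lemma hT_two (t : ↥(Cfsg.isometryGroup F ⇑(minusQ F m a b)))
    (ht : t ∈ (stdFrame m hab).TT ⊓ Cfsg.Omega F ⇑(minusQ F m a b)) (htp : t ^ 2 = 1) :
    t = 1 := by
  obtain ⟨htT, htO⟩ := Subgroup.mem_inf.mp ht
  have hfix := (stdFrame m hab).TT_pow_fix 2 htT htp
  by_contra hne
  have hex : ∃ v ∈ (stdFrame m hab).V0, toOG (minusQ F m a b) t v ≠ v := by
    by_contra hcon
    push Not at hcon
    exact hne ((stdFrame m hab).eq_one_of_fix hfix hcon)
  obtain ⟨v, hv, hvne⟩ := hex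
  have h2 : (2 : F) = 0 := CharTwo.two_eq_zero
  have ha : a ≠ 0 := a_ne_zero a b hab
  obtain ⟨w, hw⟩ : ∃ w, w = toOG (minusQ F m a b) t v - v := ⟨_, rfl⟩
  have hwV : w ∈ (stdFrame m hab).V0 := by
    rw [hw]
    exact Submodule.sub_mem _
      ((stdFrame m hab).Mono_V0 ((stdFrame m hab).TT_le_Mono htT) hv) hv
  have hw0 : w ≠ 0 := by
    rw [hw]
    exact sub_ne_zero.mpr hvne
  have htv : toOG (minusQ F m a b) t v = v + w := by
    rw [hw]; abel
  have httv : toOG (minusQ F m a b) t (toOG (minusQ F m a b) t v) = v := by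
    rw [← toOG_mul_apply, ← _root_.sq, htp, toOG_one_apply]
  have htw : toOG (minusQ F m a b) t w = w := by
    rw [hw, map_sub, httv, sub_eq_add_neg, sub_eq_add_neg]
    have e1 : -toOG (minusQ F m a b) t v = toOG (minusQ F m a b) t v := by
      rw [neg_eq_iff_add_eq_zero]; exact add_self_vec _
    have e2 : -v = v := by
      rw [neg_eq_iff_add_eq_zero]; exact add_self_vec _
    rw [e1, e2, add_comm]
  have hQw : minusQ F m a b w ≠ 0 := fun h => hw0 ((stdFrame m hab).aniso' hwV h)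
  have hpol : polar (minusQ F m a b) v w = minusQ F m a b w := by
    have h3 := Q_toOG (minusQ F m a b) t v
    rw [htv] at h3
    have h4 : minusQ F m a b (v + w) = minusQ F m a b v + minusQ F m a b w +
        polar (minusQ F m a b) v w := by
      unfold polar; ring
    rw [h4] at h3
    have h5 : minusQ F m a b w + minusQ F m a b w = 0 := CharTwo.add_self_eq_zero _
    linear_combination h3 - h5
  have hpolww : polar (minusQ F m a b) w w = 0 := by
    rw [Cfsg.Agent.Lib.Helper18.OrthAut.polar_self2, h2, zero_mul]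
  -- coordinates
  obtain ⟨v0, hv0⟩ : ∃ v0, v0 = v (Sum.inr 0) := ⟨_, rfl⟩
  obtain ⟨v1, hv1⟩ : ∃ v1, v1 = v (Sum.inr 1) := ⟨_, rfl⟩
  obtain ⟨w0, hw0'⟩ : ∃ w0, w0 = w (Sum.inr 0) := ⟨_, rfl⟩
  obtain ⟨w1, hw1⟩ : ∃ w1, w1 = w (Sum.inr 1) := ⟨_, rfl⟩
  obtain ⟨d, hd⟩ : ∃ d, d = v0 * w1 + v1 * w0 := ⟨_, rfl⟩
  have hpd : polar (minusQ F m a b) v w = a * d := by
    rw [polar_V0_std m hab hv, ← hv0, ← hv1, ← hw0', ← hw1, hd, h2]
    ring
  have hd0 : d ≠ 0 := by
    intro h
    rw [hpol, h, mul_zero] at hpd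
    exact hQw hpd
  have hspan : ∀ x ∈ (stdFrame m hab).V0, ∃ l μ : F, x = l • v + μ • w := by
    intro x hx
    refine ⟨(x (Sum.inr 0) * w1 + x (Sum.inr 1) * w0) / d,
      (x (Sum.inr 0) * v1 + x (Sum.inr 1) * v0) / d, ?_⟩
    funext j
    rcases j with c | j
    · have e1 := (mem_V0_std m hab).mp hx c
      have e2 := (mem_V0_std m hab).mp hv c
      have e3 := (mem_V0_std m hab).mp hwV c
      simp only [Pi.add_apply, Pi.smul_apply, smul_eq_mul]
      rw [e1, e2, e3]; ring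
    · fin_cases j
      · simp only [Pi.add_apply, Pi.smul_apply, smul_eq_mul, Fin.zero_eta, Fin.isValue]
        rw [← hv0, ← hw0']
        field_simp
        rw [hd]
        linear_combination (-(x (Sum.inr 1)) * w0 * v0) * h2
      · simp only [Pi.add_apply, Pi.smul_apply, smul_eq_mul, Fin.mk_one, Fin.isValue]
        rw [← hv1, ← hw1]
        field_simp
        rw [hd]
        linear_combination (-(x (Sum.inr 0)) * w1 * v1) * h2
  have hrefl : t = reflM (minusQ F m a b) w := by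
    apply (stdFrame m hab).ext_frame
    · intro c
      rw [hfix, toOG_reflM_apply, (stdFrame m hab).polar_V0_fr hwV, mul_zero, zero_smul,
        sub_zero]
    · intro x hx
      obtain ⟨l, μ, rfl⟩ := hspan x hx
      rw [map_add, map_smul, map_smul, htv, htw, toOG_reflM_apply, polar_add_right,
        polar_smul_right, polar_smul_right, hpolww, polar_comm, hpol, smul_zero, add_zero,
        smul_eq_mul, ← mul_assoc, mul_comm _ l, mul_assoc, inv_mul_cancel₀ hQw, mul_one]
      have e2 : -(l • w) = l • w := by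
        rw [neg_eq_iff_add_eq_zero]; exact add_self_vec _
      rw [sub_eq_add_neg, e2, smul_add]
      abel
  rw [hrefl] at htO
  exact Cfsg.Agent.Lib.Helper5.CDGen.reflM_not_mem_omega' (minusQ F m a b)
    (minusQ_nondeg m a b hab) (Cfsg.Agent.Lib.Helper5.MinusMid.hasMid_minus m a b hab) hQw htO

end char2

section final

variable [Fintype F] (p : ℕ) [Fact p.Prime] [CharP F p]

include p in
lemma hT_std (t : ↥(Cfsg.isometryGroup F ⇑(minusQ F m a b)))
    (ht : t ∈ (stdFrame m hab).TT ⊓ Cfsg.Omega F ⇑(minusQ F m a b)) (htp : t ^ p = 1) :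
    t = 1 := by
  by_cases hp2 : p = 2
  · subst hp2
    exact hT_two m hab t ht htp
  · haveI : Nonempty ((Fin m ⊕ Fin m) ⊕ Fin 2) := ⟨Sum.inr 0⟩
    exact (stdFrame m hab).TT_eq_one_of_pow_odd p (two_ne_zero_of_ne (F := F) p hp2)
      (Subgroup.mem_inf.mp ht).1 htp

/-- **The Steinberg character of `PΩ⁻_{2m+2}(q)`**. -/
theorem steinberg_minus (q : ((Fin m ⊕ Fin m) ⊕ Fin 2 → F) → F)
    (hq : ⇑(minusQ F m a b) = q) :
    ∃ χ : Cfsg.POmega F q → ℂ, Cfsg.IsIrrCharacter (Cfsg.POmega F q) χ ∧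
      ∀ P : Sylow p (Cfsg.POmega F q), χ 1 = Nat.card P ∧
        ∀ x : Cfsg.POmega F q, x ∈ P → x ≠ 1 → χ x = 0 := by
  subst hq
  exact (stdFrame m hab).steinberg_frame (hV0_std m hab) p (hasRot_std m hab p)
    (hasNd_std m hab p) (hT_std m hab p)

end final



end concrete

end Cfsg.Agent.Lib.Helper1.OrthBN
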