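import Cfsg.Agent.Lib.Helper1.OrthBN1

/-!
helper1: the monomial isometries attached to a hyperbolic frame (the reflections `ε_i` swapping
`e_i` and `f_i`, the transpositions `τ_{ik}`), and the action of Siegel transformations on the
frame.
-/

set_option autoImplicit false
set_option linter.unusedSectionVars false
set_option linter.unusedVariables false

namespace Cfsg.Agent.Lib.Helper1.OrthBN

open Module QuadraticMap Matrix Cfsg.Agent.Lib.Helper25.CD Cfsg.Agent.Lib.Helper25.PS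
  Cfsg.Agent.Lib.Helper18.OrthAut

section general

variable {F : Type*} [Field F] {V : Type*} [AddCommGroup V] [Module F V] (Q : QuadraticForm F V)

theorem Q_sub (x y : V) : Q (x - y) = Q x + Q y - polar Q x y := by
  rw [sub_eq_add_neg, Cfsg.Agent.Lib.Helper25.MaxTS.Q_add, QuadraticMap.map_neg, polar_neg_right]
  ring

/-- the map `x ↦ x - f(x,b) a - f(x,a) b` -/
def swapF (a b x : V) : V := x - polar Q x b • a - polar Q x a • b

theorem swapF_add (a b x y : V) : swapF Q a b (x + y) = swapF Q a b x + swapF Q a b y := by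
  unfold swapF
  rw [polar_add_left, polar_add_left]
  module

theorem swapF_smul (a b : V) (c : F) (x : V) : swapF Q a b (c • x) = c • swapF Q a b x := by
  unfold swapF
  rw [polar_smul_left, polar_smul_left]
  simp only [smul_eq_mul]
  module

theorem Q_swapF {a b : V} (ha : Q a = 0) (hb : Q b = 0) (hab : polar Q a b = 2) (x : V) :
    Q (swapF Q a b x) = Q x := by
  unfold swapF
  have e : x - polar Q x b • a - polar Q x a • b =
      (x + (-polar Q x b) • a) + (-polar Q x a) • b := by module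
  rw [e, Cfsg.Agent.Lib.Helper25.MaxTS.Q_add_smul, Cfsg.Agent.Lib.Helper25.MaxTS.Q_add_smul, ha, hb,
    polar_add_left, polar_smul_left, hab]
  simp only [smul_eq_mul]
  ring

theorem swapF_swapF {a b : V} (ha : Q a = 0) (hb : Q b = 0) (hab : polar Q a b = 2) (x : V) :
    swapF Q a b (swapF Q a b x) = x := by
  have haa : polar Q a a = 0 := by rw [Cfsg.Agent.Lib.Helper18.OrthAut.polar_self2, ha, mul_zero]
  have hbb : polar Q b b = 0 := by rw [Cfsg.Agent.Lib.Helper18.OrthAut.polar_self2, hb, mul_zero]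
  have hba : polar Q b a = 2 := by rw [polar_comm, hab]
  have h1 : polar Q (swapF Q a b x) b = -polar Q x b := by
    unfold swapF
    rw [polar_sub_left, polar_sub_left, polar_smul_left, polar_smul_left, hab, hbb]
    simp only [smul_eq_mul]
    ring
  have h2 : polar Q (swapF Q a b x) a = -polar Q x a := by
    unfold swapF
    rw [polar_sub_left, polar_sub_left, polar_smul_left, polar_smul_left, hba, haa]
    simp only [smul_eq_mul]
    ring
  conv_lhs => rw [swapF, h1, h2]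
  unfold swapF
  module

/-- the swap as a linear equivalence -/
def swapL (a b : V) (ha : Q a = 0) (hb : Q b = 0) (hab : polar Q a b = 2) : V ≃ₗ[F] V :=
  LinearEquiv.ofInvolutive
    { toFun := swapF Q a b
      map_add' := swapF_add Q a b
      map_smul' := swapF_smul Q a b }
    (swapF_swapF Q ha hb hab)

theorem swapL_apply (a b : V) (ha : Q a = 0) (hb : Q b = 0) (hab : polar Q a b = 2) (x : V) :
    swapL Q a b ha hb hab x = swapF Q a b x := rfl

theorem swapL_mem_OG (a b : V) (ha : Q a = 0) (hb : Q b = 0) (hab : polar Q a b = 2) :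
    swapL Q a b ha hb hab ∈ OG Q := fun x => Q_swapF Q ha hb hab x

end general

section matrix

variable {ι : Type} [Fintype ι] [DecidableEq ι] {F : Type*} [Field F]
  (Q : QuadraticForm F (ι → F))

theorem toOG_mul_apply (g h : ↥(Cfsg.isometryGroup F ⇑Q)) (v : ι → F) :
    toOG Q (g * h) v = toOG Q g (toOG Q h v) := by
  rw [map_mul, LinearEquiv.mul_apply]

theorem toOG_one_apply (v : ι → F) : toOG Q 1 v = v := by
  rw [map_one]; rfl

theorem toOG_inv_apply_apply (g : ↥(Cfsg.isometryGroup F ⇑Q)) (v : ι → F) :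
    toOG Q g⁻¹ (toOG Q g v) = v := by
  rw [← toOG_mul_apply, inv_mul_cancel, toOG_one_apply]

theorem toOG_apply_inv_apply (g : ↥(Cfsg.isometryGroup F ⇑Q)) (v : ι → F) :
    toOG Q g (toOG Q g⁻¹ v) = v := by
  rw [← toOG_mul_apply, mul_inv_cancel, toOG_one_apply]

theorem toOG_apply_injective (g : ↥(Cfsg.isometryGroup F ⇑Q)) {v w : ι → F}
    (h : toOG Q g v = toOG Q g w) : v = w := (toOG Q g).injective h

theorem polar_toOG_left (g : ↥(Cfsg.isometryGroup F ⇑Q)) (x y : ι → F) :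
    polar Q (toOG Q g x) y = polar Q x (toOG Q g⁻¹ y) := by
  rw [← polar_toOG Q g x (toOG Q g⁻¹ y), toOG_apply_inv_apply]

theorem polar_toOG_right (g : ↥(Cfsg.isometryGroup F ⇑Q)) (x y : ι → F) :
    polar Q x (toOG Q g y) = polar Q (toOG Q g⁻¹ x) y := by
  rw [← polar_toOG Q g (toOG Q g⁻¹ x) y, toOG_apply_inv_apply]

/-- the swap as an element of the matrix isometry group -/
noncomputable def swapM (a b : ι → F) (ha : Q a = 0) (hb : Q b = 0) (hab : polar Q a b = 2) :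
    ↥(Cfsg.isometryGroup F ⇑Q) :=
  ofOG Q (swapL Q a b ha hb hab) (swapL_mem_OG Q a b ha hb hab)

theorem toOG_swapM (a b : ι → F) (ha : Q a = 0) (hb : Q b = 0) (hab : polar Q a b = 2)
    (x : ι → F) : toOG Q (swapM Q a b ha hb hab) x = swapF Q a b x := by
  unfold swapM
  rw [toOG_ofOG]
  rfl

theorem swapM_mul_self (a b : ι → F) (ha : Q a = 0) (hb : Q b = 0) (hab : polar Q a b = 2) :
    swapM Q a b ha hb hab * swapM Q a b ha hb hab = 1 := by
  apply toOG_injective Q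
  ext1 x
  rw [toOG_mul_apply, toOG_swapM, toOG_swapM, swapF_swapF Q ha hb hab, toOG_one_apply]

theorem swapM_congr {a b a' b' : ι → F} (ha : Q a = 0) (hb : Q b = 0) (hab : polar Q a b = 2)
    (h1 : a = a') (h2 : b = b') :
    swapM Q a b ha hb hab = swapM Q a' b' (h1 ▸ ha) (h2 ▸ hb) (by subst h1; subst h2; exact hab) := by
  subst h1; subst h2; rfl

theorem conj_swapM (g : ↥(Cfsg.isometryGroup F ⇑Q)) (a b : ι → F) (ha : Q a = 0) (hb : Q b = 0)
    (hab : polar Q a b = 2) :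
    g * swapM Q a b ha hb hab * g⁻¹ =
      swapM Q (toOG Q g a) (toOG Q g b) (by rw [Q_toOG, ha]) (by rw [Q_toOG, hb])
        (by rw [polar_toOG, hab]) := by
  apply toOG_injective Q
  ext1 x
  rw [toOG_mul_apply, toOG_mul_apply, toOG_swapM, toOG_swapM]
  unfold swapF
  rw [map_sub, map_sub, map_smul, map_smul, toOG_apply_inv_apply, polar_toOG_right,
    polar_toOG_right]

theorem conj_reflM (g : ↥(Cfsg.isometryGroup F ⇑Q)) (v : ι → F) :
    g * reflM Q v * g⁻¹ = reflM Q (toOG Q g v) := by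
  apply toOG_injective Q
  rw [map_mul, map_mul, map_inv, toOG_reflM, toOG_reflM, conj_reflE Q (toOG_mem_OG Q g)]

theorem reflM_mul_self (v : ι → F) : reflM Q v * reflM Q v = 1 := by
  apply toOG_injective Q
  rw [map_mul, toOG_reflM, reflE_mul_self, map_one]

theorem toOG_reflM_apply (v x : ι → F) :
    toOG Q (reflM Q v) x = x - ((Q v)⁻¹ * polar Q v x) • v := by
  rw [toOG_reflM, reflE_apply]

/-- Siegel transformations in the form `x + f(u,x) w - (f(w,x) + Q(w) f(u,x)) u` -/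
theorem toOG_TG' (u w : ι → F) (hu : Q u = 0) (huw : polar Q u w = 0) (x : ι → F) :
    toOG Q (TG Q u w hu huw) x =
      x + polar Q u x • w - (polar Q w x + Q w * polar Q u x) • u := by
  rw [toOG_TG]
  unfold siegT
  module

theorem TG_fix (u w : ι → F) (hu : Q u = 0) (huw : polar Q u w = 0) {x : ι → F}
    (h1 : polar Q u x = 0) (h2 : polar Q w x = 0) : toOG Q (TG Q u w hu huw) x = x := by
  rw [toOG_TG', h1, h2]
  simp

theorem TG_pow (u w : ι → F) (hu : Q u = 0) (huw : polar Q u w = 0) (n : ℕ) :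
    (TG Q u w hu huw) ^ n = TG Q u ((n : F) • w) hu (by rw [polar_smul_right, huw, smul_zero]) := by
  induction n with
  | zero =>
    rw [pow_zero, ← TG_zero Q hu]
    exact TG_congr Q hu _ (by simp)
  | succ n ih =>
    rw [pow_succ, ih, TG_mul]
    exact TG_congr Q hu _ (by push_cast; module)

end matrix

namespace Frame

variable {ι : Type} [Fintype ι] [DecidableEq ι] {F : Type*} [Field F]
  {Q : QuadraticForm F (ι → F)} {m : ℕ} (Φ : Frame Q m)

lemma Q_e_sub_f (i : Fin m) : Q (Φ.e i - Φ.f i) = -1 := by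
  rw [Q_sub, Φ.Qfr, Φ.Qfr, Φ.polar_e_f_self]
  ring

lemma polar_e_sub_f (i : Fin m) (x : ι → F) :
    polar Q (Φ.e i - Φ.f i) x = Φ.co (Sum.inr i) x - Φ.co (Sum.inl i) x := by
  rw [polar_sub_left, polar_fr', polar_fr']
  rfl

/-- the reflection swapping `e_i` and `f_i` -/
noncomputable def epsG (i : Fin m) : ↥(Cfsg.isometryGroup F ⇑Q) := reflM Q (Φ.e i - Φ.f i)

lemma epsG_apply (i : Fin m) (x : ι → F) :
    toOG Q (Φ.epsG i) x = x + (Φ.co (Sum.inr i) x - Φ.co (Sum.inl i) x) • (Φ.e i - Φ.f i) := by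
  unfold epsG
  rw [toOG_reflM_apply, Q_e_sub_f, polar_e_sub_f]
  have : ((-1 : F))⁻¹ = -1 := by norm_num
  rw [this]
  module

lemma epsG_e (i : Fin m) : toOG Q (Φ.epsG i) (Φ.e i) = Φ.f i := by
  rw [epsG_apply, co_fr_self, co_fr_ne _ (by simp)]
  module

lemma epsG_f (i : Fin m) : toOG Q (Φ.epsG i) (Φ.f i) = Φ.e i := by
  rw [epsG_apply, co_fr_self, co_fr_ne _ (by simp)]
  module

lemma epsG_fix (i : Fin m) {x : ι → F} (h : Φ.co (Sum.inl i) x = Φ.co (Sum.inr i) x) :
    toOG Q (Φ.epsG i) x = x := by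
  rw [epsG_apply, h, sub_self, zero_smul, add_zero]

lemma epsG_fr_ne (i : Fin m) {a : Fin m ⊕ Fin m} (h : idx a ≠ i) :
    toOG Q (Φ.epsG i) (Φ.fr a) = Φ.fr a := by
  apply epsG_fix
  rw [co_fr_ne, co_fr_ne]
  · intro h'; apply h; rw [← h']; rfl
  · intro h'; apply h; rw [← h']; rfl

lemma epsG_fr (i : Fin m) (a : Fin m ⊕ Fin m) :
    toOG Q (Φ.epsG i) (Φ.fr a) = Φ.fr (if idx a = i then a.swap else a) := by
  by_cases h : idx a = i
  · rw [if_pos h]
    cases a with
    | inl j => simp at h; subst h; exact Φ.epsG_e j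
    | inr j => simp at h; subst h; exact Φ.epsG_f j
  · rw [if_neg h, epsG_fr_ne _ _ h]

lemma epsG_V0 (i : Fin m) {x : ι → F} (hx : x ∈ Φ.V0) : toOG Q (Φ.epsG i) x = x :=
  Φ.epsG_fix i (by rw [hx, hx])

lemma epsG_mul_self (i : Fin m) : Φ.epsG i * Φ.epsG i = 1 := reflM_mul_self Q _

lemma epsG_inv (i : Fin m) : (Φ.epsG i)⁻¹ = Φ.epsG i :=
  inv_eq_of_mul_eq_one_left (Φ.epsG_mul_self i)

lemma Q_e_sub_e (i k : Fin m) : Q (Φ.e i - Φ.e k) = 0 := by
  rw [Q_sub, Φ.Qfr, Φ.Qfr, Φ.pol, if_neg (by simp)]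
  ring

lemma Q_f_sub_f (i k : Fin m) : Q (Φ.f i - Φ.f k) = 0 := by
  rw [Q_sub, Φ.Qfr, Φ.Qfr, Φ.pol, if_neg (by simp)]
  ring

lemma polar_ee_ff {i k : Fin m} (h : i ≠ k) : polar Q (Φ.e i - Φ.e k) (Φ.f i - Φ.f k) = 2 := by
  rw [polar_sub_left, polar_sub_right, polar_sub_right, Φ.polar_e_f_self, Φ.polar_e_f_self,
    Φ.polar_e_f_ne h, Φ.polar_e_f_ne (Ne.symm h)]
  ring

/-- the isometry swapping `e_i ↔ e_k` and `f_i ↔ f_k` -/
noncomputable def tauG (i k : Fin m) (h : i ≠ k) : ↥(Cfsg.isometryGroup F ⇑Q) :=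
  swapM Q (Φ.e i - Φ.e k) (Φ.f i - Φ.f k) (Φ.Q_e_sub_e i k) (Φ.Q_f_sub_f i k) (Φ.polar_ee_ff h)

lemma tauG_apply (i k : Fin m) (h : i ≠ k) (x : ι → F) :
    toOG Q (Φ.tauG i k h) x =
      x - (Φ.co (Sum.inl i) x - Φ.co (Sum.inl k) x) • (Φ.e i - Φ.e k)
        - (Φ.co (Sum.inr i) x - Φ.co (Sum.inr k) x) • (Φ.f i - Φ.f k) := by
  unfold tauG
  rw [toOG_swapM]
  unfold swapF
  rw [polar_sub_right, polar_sub_right, polar_fr, polar_fr, polar_fr, polar_fr]
  rfl

lemma tauG_fix (i k : Fin m) (h : i ≠ k) {x : ι → F}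
    (h1 : Φ.co (Sum.inl i) x = Φ.co (Sum.inl k) x) (h2 : Φ.co (Sum.inr i) x = Φ.co (Sum.inr k) x) :
    toOG Q (Φ.tauG i k h) x = x := by
  rw [tauG_apply, h1, h2]
  simp

lemma tauG_V0 (i k : Fin m) (h : i ≠ k) {x : ι → F} (hx : x ∈ Φ.V0) :
    toOG Q (Φ.tauG i k h) x = x :=
  Φ.tauG_fix i k h (by rw [hx, hx]) (by rw [hx, hx])

lemma tauG_e_left (i k : Fin m) (h : i ≠ k) : toOG Q (Φ.tauG i k h) (Φ.e i) = Φ.e k := by
  rw [tauG_apply, co_fr_self, co_fr_ne _ (fun h' => h (Sum.inl_injective h').symm),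
    co_fr_ne _ (by simp), co_fr_ne _ (by simp)]
  module

lemma tauG_e_right (i k : Fin m) (h : i ≠ k) : toOG Q (Φ.tauG i k h) (Φ.e k) = Φ.e i := by
  rw [tauG_apply, co_fr_self, co_fr_ne _ (fun h' => h (Sum.inl_injective h')),
    co_fr_ne _ (by simp), co_fr_ne _ (by simp)]
  module

lemma tauG_f_left (i k : Fin m) (h : i ≠ k) : toOG Q (Φ.tauG i k h) (Φ.f i) = Φ.f k := by
  rw [tauG_apply, co_fr_self, co_fr_ne _ (fun h' => h (Sum.inr_injective h').symm),
    co_fr_ne _ (by simp), co_fr_ne _ (by simp)]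
  module

lemma tauG_f_right (i k : Fin m) (h : i ≠ k) : toOG Q (Φ.tauG i k h) (Φ.f k) = Φ.f i := by
  rw [tauG_apply, co_fr_self, co_fr_ne _ (fun h' => h (Sum.inr_injective h')),
    co_fr_ne _ (by simp), co_fr_ne _ (by simp)]
  module

lemma tauG_fr_ne (i k : Fin m) (h : i ≠ k) {a : Fin m ⊕ Fin m} (h1 : idx a ≠ i) (h2 : idx a ≠ k) :
    toOG Q (Φ.tauG i k h) (Φ.fr a) = Φ.fr a := by
  apply tauG_fix
  · rw [co_fr_ne, co_fr_ne]
    · intro h'; apply h2; rw [← h']; rfl
    · intro h'; apply h1; rw [← h']; rfl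
  · rw [co_fr_ne, co_fr_ne]
    · intro h'; apply h2; rw [← h']; rfl
    · intro h'; apply h1; rw [← h']; rfl

/-- the index permutation attached to a permutation of `Fin m` -/
def reidx (π : Equiv.Perm (Fin m)) : Equiv.Perm (Fin m ⊕ Fin m) := Equiv.sumCongr π π

lemma tauG_fr (i k : Fin m) (h : i ≠ k) (a : Fin m ⊕ Fin m) :
    toOG Q (Φ.tauG i k h) (Φ.fr a) = Φ.fr (reidx (Equiv.swap i k) a) := by
  cases a with
  | inl j =>
    show _ = Φ.fr (Sum.inl (Equiv.swap i k j))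
    by_cases h1 : j = i
    · subst h1; rw [Equiv.swap_apply_left]; exact Φ.tauG_e_left j k h
    · by_cases h2 : j = k
      · subst h2; rw [Equiv.swap_apply_right]; exact Φ.tauG_e_right i j h
      · rw [Equiv.swap_apply_of_ne_of_ne h1 h2]
        exact Φ.tauG_fr_ne i k h (a := Sum.inl j) h1 h2
  | inr j =>
    show _ = Φ.fr (Sum.inr (Equiv.swap i k j))
    by_cases h1 : j = i
    · subst h1; rw [Equiv.swap_apply_left]; exact Φ.tauG_f_left j k h
    · by_cases h2 : j = k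
      · subst h2; rw [Equiv.swap_apply_right]; exact Φ.tauG_f_right i j h
      · rw [Equiv.swap_apply_of_ne_of_ne h1 h2]
        exact Φ.tauG_fr_ne i k h (a := Sum.inr j) h1 h2

lemma tauG_mul_self (i k : Fin m) (h : i ≠ k) : Φ.tauG i k h * Φ.tauG i k h = 1 :=
  swapM_mul_self Q _ _ _ _ _

lemma tauG_inv (i k : Fin m) (h : i ≠ k) : (Φ.tauG i k h)⁻¹ = Φ.tauG i k h :=
  inv_eq_of_mul_eq_one_left (Φ.tauG_mul_self i k h)

/-- two isometries agreeing on the frame and on the anisotropic part are equal -/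
lemma ext_frame {g h : ↥(Cfsg.isometryGroup F ⇑Q)}
    (h1 : ∀ a, toOG Q g (Φ.fr a) = toOG Q h (Φ.fr a))
    (h2 : ∀ w ∈ Φ.V0, toOG Q g w = toOG Q h w) : g = h := by
  apply toOG_injective Q
  ext1 x
  rw [Φ.decomp x, map_add, map_add, h2 _ (Φ.p0_mem x)]
  congr 1
  unfold pf
  rw [map_sum, map_sum]
  exact Finset.sum_congr rfl (fun a _ => by rw [map_smul, map_smul, h1])

end Frame

end Cfsg.Agent.Lib.Helper1.OrthBN
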