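import Cfsg.Agent.Lib.Helper1.OrthBN0
import Cfsg.Agent.Lib.Helper1.OrthBN2

/-!
helper1: the subgroups `T` (diagonal), `N` (monomial, generated by the simple reflections and `T`)
and `B` (stabiliser of the flag) of the isometry group of a quadratic space with a hyperbolic
frame.
-/

set_option autoImplicit false
set_option linter.unusedSectionVars false
set_option linter.unusedVariables false

namespace Cfsg.Agent.Lib.Helper1.OrthBN

open Module QuadraticMap Matrix Cfsg.Agent.Lib.Helper25.CD Cfsg.Agent.Lib.Helper25.PS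
  Cfsg.Agent.Lib.Helper18.OrthAut

namespace Frame

variable {ι : Type} [Fintype ι] [DecidableEq ι] {F : Type*} [Field F]
  {Q : QuadraticForm F (ι → F)} {m : ℕ} (Φ : Frame Q m)

/-- the monomial isometries -/
def Mono : Subgroup ↥(Cfsg.isometryGroup F ⇑Q) where
  carrier := {g | ∃ π : Equiv.Perm (Fin m ⊕ Fin m), ∀ a, ∃ c : F,
    toOG Q g (Φ.fr a) = c • Φ.fr (π a)}
  mul_mem' := by
    rintro g h ⟨π, hπ⟩ ⟨π', hπ'⟩
    refine ⟨π * π', fun a => ?_⟩
    obtain ⟨c', hc'⟩ := hπ' a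
    obtain ⟨c, hc⟩ := hπ (π' a)
    exact ⟨c' * c, by rw [toOG_mul_apply, hc', map_smul, hc, smul_smul]; rfl⟩
  one_mem' := ⟨1, fun a => ⟨1, by rw [toOG_one_apply, one_smul]; rfl⟩⟩
  inv_mem' := by
    rintro g ⟨π, hπ⟩
    refine ⟨π⁻¹, fun a => ?_⟩
    obtain ⟨c, hc⟩ := hπ (π⁻¹ a)
    have hc0 : c ≠ 0 := by
      intro h
      rw [h, zero_smul] at hc
      have := toOG_apply_injective Q g (hc.trans (map_zero _).symm)
      exact Φ.fr_ne_zero _ this
    refine ⟨c⁻¹, ?_⟩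
    have hππ : π (π⁻¹ a) = a := by simp
    have : Φ.fr a = c⁻¹ • toOG Q g (Φ.fr (π⁻¹ a)) := by
      rw [hc, smul_smul, inv_mul_cancel₀ hc0, one_smul, hππ]
    conv_lhs => rw [this]
    rw [map_smul, toOG_inv_apply_apply]

lemma mem_Mono {g : ↥(Cfsg.isometryGroup F ⇑Q)} : g ∈ Φ.Mono ↔
    ∃ π : Equiv.Perm (Fin m ⊕ Fin m), ∀ a, ∃ c : F, toOG Q g (Φ.fr a) = c • Φ.fr (π a) := Iff.rfl

/-- the diagonal isometries -/
def TT : Subgroup ↥(Cfsg.isometryGroup F ⇑Q) where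
  carrier := {g | ∀ a, ∃ c : F, toOG Q g (Φ.fr a) = c • Φ.fr a}
  mul_mem' := by
    intro g h hg hh a
    obtain ⟨c', hc'⟩ := hh a
    obtain ⟨c, hc⟩ := hg a
    exact ⟨c' * c, by rw [toOG_mul_apply, hc', map_smul, hc, smul_smul]⟩
  one_mem' := fun a => ⟨1, by rw [toOG_one_apply, one_smul]⟩
  inv_mem' := by
    intro g hg a
    obtain ⟨c, hc⟩ := hg a
    have hc0 : c ≠ 0 := by
      intro h
      rw [h, zero_smul] at hc
      have := toOG_apply_injective Q g (hc.trans (map_zero _).symm)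
      exact Φ.fr_ne_zero _ this
    refine ⟨c⁻¹, ?_⟩
    have : Φ.fr a = c⁻¹ • toOG Q g (Φ.fr a) := by
      rw [hc, smul_smul, inv_mul_cancel₀ hc0, one_smul]
    conv_lhs => rw [this]
    rw [map_smul, toOG_inv_apply_apply]

lemma mem_TT {g : ↥(Cfsg.isometryGroup F ⇑Q)} : g ∈ Φ.TT ↔
    ∀ a, ∃ c : F, toOG Q g (Φ.fr a) = c • Φ.fr a := Iff.rfl

lemma TT_le_Mono : Φ.TT ≤ Φ.Mono := fun g hg => ⟨1, fun a => hg a⟩

/-- monomial isometries preserve the anisotropic part -/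
lemma Mono_V0 {g : ↥(Cfsg.isometryGroup F ⇑Q)} (hg : g ∈ Φ.Mono) {w : ι → F} (hw : w ∈ Φ.V0) :
    toOG Q g w ∈ Φ.V0 := by
  obtain ⟨π, hπ⟩ := Φ.Mono.inv_mem hg
  intro a
  obtain ⟨c, hc⟩ := hπ a.swap
  unfold co
  rw [polar_toOG_left, hc, polar_smul_right, Φ.polar_V0_fr hw, smul_zero]

/-- the scalar of a monomial isometry is nonzero -/
lemma smul_ne_zero_of_apply {g : ↥(Cfsg.isometryGroup F ⇑Q)} {v w : ι → F} {c : F} (hv : v ≠ 0)
    (h : toOG Q g v = c • w) : c ≠ 0 := by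
  intro h0
  rw [h0, zero_smul] at h
  exact hv (toOG_apply_injective Q g (h.trans (map_zero _).symm))

/-- the permutation of a monomial isometry commutes with the swap -/
lemma Mono_swap {g : ↥(Cfsg.isometryGroup F ⇑Q)} {π : Equiv.Perm (Fin m ⊕ Fin m)}
    (hπ : ∀ a, ∃ c : F, toOG Q g (Φ.fr a) = c • Φ.fr (π a)) (a : Fin m ⊕ Fin m) :
    π a.swap = (π a).swap := by
  obtain ⟨c, hc⟩ := hπ a
  obtain ⟨c', hc'⟩ := hπ a.swap
  have h1 := polar_toOG Q g (Φ.fr a) (Φ.fr a.swap)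
  rw [hc, hc', polar_smul_left, polar_smul_right, Φ.polar_fr_swap, Φ.pol] at h1
  by_contra hne
  rw [if_neg hne] at h1
  simp at h1

/-- the simple reflections: `τ_{j,j+1}` for `j + 1 < m`, and `ε_{m-1}` -/
noncomputable def sgen (j : Fin m) : ↥(Cfsg.isometryGroup F ⇑Q) :=
  if h : j.val + 1 < m then Φ.tauG j ⟨j.val + 1, h⟩ (by intro h'; have := congrArg Fin.val h'; simp at this)
  else Φ.epsG j

lemma sgen_of_lt {j : Fin m} (h : j.val + 1 < m) :
    Φ.sgen j = Φ.tauG j ⟨j.val + 1, h⟩ (by intro h'; have := congrArg Fin.val h'; simp at this) := by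
  unfold sgen; rw [dif_pos h]

lemma sgen_of_not_lt {j : Fin m} (h : ¬ j.val + 1 < m) : Φ.sgen j = Φ.epsG j := by
  unfold sgen; rw [dif_neg h]

lemma sgen_mul_self (j : Fin m) : Φ.sgen j * Φ.sgen j = 1 := by
  by_cases h : j.val + 1 < m
  · rw [sgen_of_lt _ h]; exact Φ.tauG_mul_self _ _ _
  · rw [sgen_of_not_lt _ h]; exact Φ.epsG_mul_self _

lemma sgen_inv (j : Fin m) : (Φ.sgen j)⁻¹ = Φ.sgen j :=
  inv_eq_of_mul_eq_one_left (Φ.sgen_mul_self j)

/-- the group `N` -/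
def NN : Subgroup ↥(Cfsg.isometryGroup F ⇑Q) :=
  Subgroup.closure (Set.range Φ.sgen) ⊔ Φ.TT

lemma sgen_mem_NN (j : Fin m) : Φ.sgen j ∈ Φ.NN :=
  (le_sup_left : _ ≤ Φ.NN) (Subgroup.subset_closure ⟨j, rfl⟩)

lemma TT_le_NN : Φ.TT ≤ Φ.NN := le_sup_right

/-- the index permutation of `ε_i` -/
def epsPerm (i : Fin m) : Equiv.Perm (Fin m ⊕ Fin m) :=
  Function.Involutive.toPerm (fun a => if idx a = i then a.swap else a) (by
    intro a
    by_cases h : idx a = i
    · simp only [h, if_true, idx_swap, Sum.swap_swap]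
    · simp only [h, if_false])

lemma epsG_mem_Mono (i : Fin m) : Φ.epsG i ∈ Φ.Mono :=
  ⟨epsPerm i, fun a => ⟨1, by rw [epsG_fr, one_smul]; rfl⟩⟩

lemma tauG_mem_Mono (i k : Fin m) (h : i ≠ k) : Φ.tauG i k h ∈ Φ.Mono :=
  ⟨reidx (Equiv.swap i k), fun a => ⟨1, by rw [tauG_fr, one_smul]⟩⟩

lemma NN_le_Mono : Φ.NN ≤ Φ.Mono := by
  unfold NN
  rw [sup_le_iff]
  refine ⟨?_, Φ.TT_le_Mono⟩
  rw [Subgroup.closure_le]
  rintro _ ⟨j, rfl⟩
  by_cases h : j.val + 1 < m
  · rw [sgen_of_lt _ h]; exact Φ.tauG_mem_Mono _ _ _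
  · rw [sgen_of_not_lt _ h]; exact Φ.epsG_mem_Mono _

/-- `ε_i ∈ N` -/
lemma epsG_mem_NN (i : Fin m) : Φ.epsG i ∈ Φ.NN := by
  -- downward induction on `i`
  obtain ⟨d, hd⟩ : ∃ d : ℕ, i.val + 1 + d = m := ⟨m - (i.val + 1), by have := i.2; omega⟩
  induction d generalizing i with
  | zero =>
    have h : ¬ i.val + 1 < m := by omega
    rw [← sgen_of_not_lt _ h]
    exact Φ.sgen_mem_NN i
  | succ d ih =>
    have h : i.val + 1 < m := by omega
    set k : Fin m := ⟨i.val + 1, h⟩ with hk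
    have hik : i ≠ k := by intro h'; have := congrArg Fin.val h'; simp [hk] at this
    have h1 := ih k (by simp [hk]; omega)
    have h2 : Φ.tauG i k hik ∈ Φ.NN := by
      have := Φ.sgen_mem_NN i
      rwa [sgen_of_lt _ h] at this
    have h3 : Φ.tauG i k hik * Φ.epsG k * (Φ.tauG i k hik)⁻¹ = Φ.epsG i := by
      unfold epsG
      rw [conj_reflM, map_sub, tauG_e_right, tauG_f_right]
    rw [← h3]
    exact Subgroup.mul_mem _ (Subgroup.mul_mem _ h2 h1) (Subgroup.inv_mem _ h2)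

/-- `τ_{ik} ∈ N` for `i < k` -/
lemma tauG_mem_NN_of_lt (i k : Fin m) (h : i.val < k.val) :
    Φ.tauG i k (fun h' => by rw [h'] at h; exact lt_irrefl _ h) ∈ Φ.NN := by
  obtain ⟨d, hd⟩ : ∃ d : ℕ, i.val + 1 + d = k.val := ⟨k.val - (i.val + 1), by omega⟩
  induction d generalizing k with
  | zero =>
    have hlt : i.val + 1 < m := by have := k.2; omega
    have hk : k = ⟨i.val + 1, hlt⟩ := Fin.ext (by simp; omega)
    subst hk
    have := Φ.sgen_mem_NN i
    rwa [sgen_of_lt _ hlt] at this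
  | succ d ih =>
    have hk1 : k.val - 1 < m := by have := k.2; omega
    set k' : Fin m := ⟨k.val - 1, hk1⟩ with hk'
    have hik' : i.val < k'.val := by simp [hk']; omega
    have h1 := ih k' hik' (by simp [hk']; omega)
    have hlt : k'.val + 1 < m := by simp [hk']; have := k.2; omega
    have hkk : k = ⟨k'.val + 1, hlt⟩ := Fin.ext (by simp [hk']; omega)
    have hne : k' ≠ k := by intro h'; have := congrArg Fin.val h'; simp [hk'] at this; omega
    have h2 : Φ.tauG k' k hne ∈ Φ.NN := by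
      have := Φ.sgen_mem_NN k'
      rw [sgen_of_lt _ hlt] at this
      convert this using 2
    have hi1 : i ≠ k' := fun h' => by rw [h'] at hik'; exact lt_irrefl _ hik'
    have hi2 : i ≠ k := fun h' => by rw [h'] at h; exact lt_irrefl _ h
    have h3 : Φ.tauG k' k hne * Φ.tauG i k' hi1 * (Φ.tauG k' k hne)⁻¹ = Φ.tauG i k hi2 := by
      unfold tauG
      rw [conj_swapM]
      apply swapM_congr
      · rw [map_sub]
        have e1 : toOG Q (Φ.tauG k' k hne) (Φ.e i) = Φ.e i :=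
          Φ.tauG_fr_ne k' k hne (a := Sum.inl i) hi1 hi2
        have e2 := Φ.tauG_e_left k' k hne
        unfold tauG at e1 e2
        rw [e1, e2]
      · rw [map_sub]
        have e1 : toOG Q (Φ.tauG k' k hne) (Φ.f i) = Φ.f i :=
          Φ.tauG_fr_ne k' k hne (a := Sum.inr i) hi1 hi2
        have e2 := Φ.tauG_f_left k' k hne
        unfold tauG at e1 e2
        rw [e1, e2]
    rw [← h3]
    exact Subgroup.mul_mem _ (Subgroup.mul_mem _ h2 h1) (Subgroup.inv_mem _ h2)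

end Frame

end Cfsg.Agent.Lib.Helper1.OrthBN
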