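import Cfsg.Agent.Lib.Helper1.OrthBN3

/-!
helper1: the Borel subgroup `B` (stabiliser of the flag) of the isometry group of a quadratic space
with a hyperbolic frame; `B ∩ N = T`.
-/

set_option autoImplicit false
set_option linter.unusedSectionVars false
set_option linter.unusedVariables false

namespace Cfsg.Agent.Lib.Helper1.OrthBN

open Module QuadraticMap Matrix Cfsg.Agent.Lib.Helper25.CD Cfsg.Agent.Lib.Helper25.PS
  Cfsg.Agent.Lib.Helper18.OrthAut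

namespace Frame

variable {ι : Type} [Fintype ι] [DecidableEq ι] {F : Type*} [Field F] [Fintype F]
  {Q : QuadraticForm F (ι → F)} {m : ℕ} (Φ : Frame Q m)

lemma toOG_map_E {g : ↥(Cfsg.isometryGroup F ⇑Q)} {k k' : ℕ}
    (h : ∀ i : Fin m, i.val < k → toOG Q g (Φ.e i) ∈ Φ.E k') {v : ι → F} (hv : v ∈ Φ.E k) :
    toOG Q g v ∈ Φ.E k' :=
  Φ.map_E (g := (toOG Q g).toLinearMap) h v hv

/-- the flag stabiliser as a submonoid -/
def BBm : Submonoid ↥(Cfsg.isometryGroup F ⇑Q) where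
  carrier := {g | ∀ j : Fin m, toOG Q g (Φ.e j) ∈ Φ.E (j.val + 1)}
  mul_mem' := by
    intro g h hg hh j
    rw [toOG_mul_apply]
    apply Φ.toOG_map_E _ (hh j)
    intro i hi
    exact Φ.E_mono (by omega) (hg i)
  one_mem' := fun j => by rw [toOG_one_apply]; exact Φ.e_mem_E (Nat.lt_succ_self _)

/-- the Borel subgroup: the stabiliser of the flag -/
def BB : Subgroup ↥(Cfsg.isometryGroup F ⇑Q) where
  toSubmonoid := Φ.BBm
  inv_mem' := fun {g} hg => inv_mem_of_submonoid Φ.BBm hg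

lemma mem_BB {g : ↥(Cfsg.isometryGroup F ⇑Q)} :
    g ∈ Φ.BB ↔ ∀ j : Fin m, toOG Q g (Φ.e j) ∈ Φ.E (j.val + 1) := Iff.rfl

lemma BB_map_E {g : ↥(Cfsg.isometryGroup F ⇑Q)} (hg : g ∈ Φ.BB) {k : ℕ} {v : ι → F}
    (hv : v ∈ Φ.E k) : toOG Q g v ∈ Φ.E k := by
  apply Φ.toOG_map_E _ hv
  intro i hi
  exact Φ.E_mono (by omega) (hg i)

lemma BB_diag_ne_zero {g : ↥(Cfsg.isometryGroup F ⇑Q)} (hg : g ∈ Φ.BB) (j : Fin m) :
    Φ.co (Sum.inl j) (toOG Q g (Φ.e j)) ≠ 0 := by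
  intro h
  have h1 := Φ.sub_mem_E_of_mem_succ (hg j) j rfl
  rw [h, zero_smul, sub_zero] at h1
  have h2 := Φ.BB_map_E (Φ.BB.inv_mem hg) h1
  rw [toOG_inv_apply_apply] at h2
  exact Φ.e_not_mem_E j h2

lemma TT_le_BB : Φ.TT ≤ Φ.BB := by
  intro g hg j
  obtain ⟨c, hc⟩ := hg (Sum.inl j)
  rw [hc]
  exact Submodule.smul_mem _ _ (Φ.e_mem_E (Nat.lt_succ_self _))

lemma fr_mem_E_iff {a : Fin m ⊕ Fin m} {k : ℕ} :
    Φ.fr a ∈ Φ.E k ↔ ∃ l : Fin m, a = Sum.inl l ∧ l.val < k := by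
  constructor
  · intro h
    cases a with
    | inl l =>
      refine ⟨l, rfl, ?_⟩
      by_contra hl
      have := Φ.co_e_of_mem_E h (not_lt.mp hl)
      rw [co_fr_self] at this
      exact one_ne_zero this
    | inr l =>
      have := Φ.co_f_of_mem_E h l
      rw [co_fr_self] at this
      exact absurd this one_ne_zero
  · rintro ⟨l, rfl, hl⟩
    exact Φ.e_mem_E hl

lemma BB_inf_Mono_le_TT : Φ.BB ⊓ Φ.Mono ≤ Φ.TT := by
  rintro g ⟨hB, π, hπ⟩
  have key : ∀ n : ℕ, ∀ j : Fin m, j.val = n → π (Sum.inl j) = Sum.inl j := by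
    intro n
    induction n using Nat.strong_induction_on with
    | _ n ih =>
      intro j hj
      obtain ⟨c, hc⟩ := hπ (Sum.inl j)
      have hc0 := smul_ne_zero_of_apply (Φ.fr_ne_zero _) hc
      have h1 : Φ.fr (π (Sum.inl j)) ∈ Φ.E (j.val + 1) := by
        have := Submodule.smul_mem _ c⁻¹ (hB j)
        rwa [hc, smul_smul, inv_mul_cancel₀ hc0, one_smul] at this
      obtain ⟨l, hl, hlt⟩ := Φ.fr_mem_E_iff.mp h1
      by_cases hlj : l = j
      · rw [hl, hlj]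
      · exfalso
        have hl' : l.val < n := by
          have : l.val ≠ j.val := fun h => hlj (Fin.ext h)
          omega
        have := ih l.val hl' l rfl
        rw [← hl] at this
        have h5 := π.injective this
        rw [hl] at h5
        exact hlj (Sum.inl_injective h5)
  intro a
  obtain ⟨c, hc⟩ := hπ a
  refine ⟨c, ?_⟩
  rw [hc]
  congr 2
  cases a with
  | inl j => exact key j.val j rfl
  | inr j =>
    have := Φ.Mono_swap hπ (Sum.inl j)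
    rw [key j.val j rfl] at this
    exact this

lemma BB_inf_NN : Φ.BB ⊓ Φ.NN = Φ.TT := by
  apply le_antisymm
  · exact le_trans (inf_le_inf_left _ Φ.NN_le_Mono) Φ.BB_inf_Mono_le_TT
  · exact le_inf Φ.TT_le_BB Φ.TT_le_NN

lemma Mono_conj_TT {n t : ↥(Cfsg.isometryGroup F ⇑Q)} (hn : n ∈ Φ.Mono) (ht : t ∈ Φ.TT) :
    n * t * n⁻¹ ∈ Φ.TT := by
  obtain ⟨π, hπ⟩ := Φ.Mono.inv_mem hn
  intro a
  obtain ⟨c₁, hc₁⟩ := hπ a
  obtain ⟨c₂, hc₂⟩ := ht (π a)
  have hc0 := smul_ne_zero_of_apply (Φ.fr_ne_zero _) hc₁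
  have h3 : toOG Q n (Φ.fr (π a)) = c₁⁻¹ • Φ.fr a := by
    have : Φ.fr (π a) = c₁⁻¹ • toOG Q n⁻¹ (Φ.fr a) := by
      rw [hc₁, smul_smul, inv_mul_cancel₀ hc0, one_smul]
    rw [this, map_smul, toOG_apply_inv_apply]
  refine ⟨c₂, ?_⟩
  rw [toOG_mul_apply, toOG_mul_apply, hc₁, map_smul, hc₂, map_smul, map_smul, h3, smul_smul,
    smul_smul]
  congr 1
  field_simp

/-! ### the simple reflections on the flag -/

lemma sgen_e_of_lt {i j : Fin m} (h : i.val < j.val) : toOG Q (Φ.sgen j) (Φ.e i) = Φ.e i := by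
  have hij : i ≠ j := fun h' => by rw [h'] at h; exact lt_irrefl _ h
  by_cases hj : j.val + 1 < m
  · rw [sgen_of_lt _ hj]
    apply Φ.tauG_fr_ne _ _ _ (a := Sum.inl i) hij
    intro h'
    have := congrArg Fin.val h'
    simp at this
    omega
  · rw [sgen_of_not_lt _ hj]
    exact Φ.epsG_fr_ne j (a := Sum.inl i) hij

lemma sgen_e_self {i : Fin m} (h : i.val + 1 < m) :
    toOG Q (Φ.sgen i) (Φ.e i) = Φ.e ⟨i.val + 1, h⟩ := by
  rw [sgen_of_lt _ h]
  exact Φ.tauG_e_left _ _ _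

lemma sgen_e_succ {i : Fin m} (h : i.val + 1 < m) :
    toOG Q (Φ.sgen i) (Φ.e ⟨i.val + 1, h⟩) = Φ.e i := by
  rw [sgen_of_lt _ h]
  exact Φ.tauG_e_right _ _ _

lemma sgen_e_last {i : Fin m} (h : ¬ i.val + 1 < m) :
    toOG Q (Φ.sgen i) (Φ.e i) = Φ.f i := by
  rw [sgen_of_not_lt _ h]
  exact Φ.epsG_e _

lemma f_not_mem_E (i : Fin m) (k : ℕ) : Φ.f i ∉ Φ.E k := by
  intro h
  obtain ⟨l, hl, -⟩ := Φ.fr_mem_E_iff.mp h
  simp at hl

lemma sgen_e_not_mem (i : Fin m) : toOG Q (Φ.sgen i) (Φ.e i) ∉ Φ.E (i.val + 1) := by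
  by_cases h : i.val + 1 < m
  · rw [sgen_e_self _ h]
    exact Φ.e_not_mem_E' (le_refl _)
  · rw [sgen_e_last _ h]
    exact Φ.f_not_mem_E _ _

lemma sgen_inj (i j : Fin m) (h : (Φ.sgen i)⁻¹ * Φ.sgen j ∈ Φ.BB) : i = j := by
  by_contra hne
  rcases lt_or_gt_of_ne (fun h' => hne (Fin.ext h')) with hlt | hlt
  · have := h i
    rw [toOG_mul_apply, sgen_e_of_lt _ hlt, sgen_inv] at this
    exact Φ.sgen_e_not_mem i this
  · have h' := Φ.BB.inv_mem h
    rw [_root_.mul_inv_rev, inv_inv] at h'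
    have := h' j
    rw [toOG_mul_apply, sgen_e_of_lt _ hlt, sgen_inv] at this
    exact Φ.sgen_e_not_mem j this

end Frame

end Cfsg.Agent.Lib.Helper1.OrthBN
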