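import Cfsg.Agent.Lib.Helper1.OrthBN4

/-!
helper1: root subgroups of the isometry group of a quadratic space with a hyperbolic frame, and
the rank-one relations.
-/

set_option autoImplicit false
set_option linter.unusedSectionVars false
set_option linter.unusedVariables false

namespace Cfsg.Agent.Lib.Helper1.OrthBN

open Module QuadraticMap Matrix Cfsg.Agent.Lib.Helper25.CD Cfsg.Agent.Lib.Helper25.PS
  Cfsg.Agent.Lib.Helper18.OrthAut

section matrix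

variable {ι : Type} [Fintype ι] [DecidableEq ι] {F : Type*} [Field F]
  (Q : QuadraticForm F (ι → F))

theorem TG_congr2 {u u' w w' : ι → F} (hu : Q u = 0) (huw : polar Q u w = 0) (h1 : u = u')
    (h2 : w = w') :
    TG Q u w hu huw = TG Q u' w' (h1 ▸ hu) (by subst h1; subst h2; exact huw) := by
  subst h1; subst h2; rfl

theorem TG_eq_one_iff_of {u w : ι → F} (hu : Q u = 0) (huw : polar Q u w = 0) {x : ι → F}
    (hx : polar Q u x = 1) (hwx : polar Q w x = 0) (h : TG Q u w hu huw = 1) :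
    ∃ c : F, w = c • u := by
  have h1 := toOG_TG' Q u w hu huw x
  rw [h, toOG_one_apply, hx, hwx, one_smul] at h1
  refine ⟨Q w * 1, ?_⟩
  have : w - (0 + Q w * 1) • u = 0 := by
    have e : x + w - (0 + Q w * 1) • u = x + (w - (0 + Q w * 1) • u) := by abel
    rw [e] at h1
    exact left_eq_add.mp h1
  rw [zero_add] at this
  exact sub_eq_zero.mp this

/-- the root subgroup `{T_{u,w} : w ∈ W}` -/
def rootX (u : ι → F) (hu : Q u = 0) (W : Submodule F (ι → F)) (hW : ∀ w ∈ W, polar Q u w = 0) :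
    Subgroup ↥(Cfsg.isometryGroup F ⇑Q) where
  carrier := {g | ∃ w, ∃ hw : w ∈ W, g = TG Q u w hu (hW w hw)}
  mul_mem' := by
    rintro _ _ ⟨w, hw, rfl⟩ ⟨w', hw', rfl⟩
    exact ⟨w + w', W.add_mem hw hw', TG_mul Q hu _ _⟩
  one_mem' := ⟨0, W.zero_mem, (TG_zero Q hu).symm⟩
  inv_mem' := by
    rintro _ ⟨w, hw, rfl⟩
    exact ⟨-w, W.neg_mem hw, TG_inv Q hu _⟩

theorem mem_rootX {u : ι → F} {hu : Q u = 0} {W : Submodule F (ι → F)}
    {hW : ∀ w ∈ W, polar Q u w = 0} {g : ↥(Cfsg.isometryGroup F ⇑Q)} :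
    g ∈ rootX Q u hu W hW ↔ ∃ w, ∃ hw : w ∈ W, g = TG Q u w hu (hW w hw) := Iff.rfl

end matrix

namespace Frame

variable {ι : Type} [Fintype ι] [DecidableEq ι] {F : Type*} [Field F] [Fintype F]
  {Q : QuadraticForm F (ι → F)} {m : ℕ} (Φ : Frame Q m)

/-- the action of `T_{e_k,w}` on the vectors `e_l` -/
lemma TG_e_apply_e (k l : Fin m) (w : ι → F) (hw : polar Q (Φ.e k) w = 0) :
    toOG Q (TG Q (Φ.e k) w (Φ.Qfr _) hw) (Φ.e l) = Φ.e l - Φ.co (Sum.inr l) w • Φ.e k := by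
  rw [toOG_TG', Φ.polar_e_e, polar_fr]
  simp only [zero_smul, mul_zero, add_zero]
  rfl

/-- the action of `T_{e_k,w}` on `f_k` -/
lemma TG_e_apply_f (k : Fin m) (w : ι → F) (hw : polar Q (Φ.e k) w = 0)
    (hw' : Φ.co (Sum.inl k) w = 0) :
    toOG Q (TG Q (Φ.e k) w (Φ.Qfr _) hw) (Φ.f k) = Φ.f k + w - Q w • Φ.e k := by
  rw [toOG_TG', Φ.polar_e_f_self, polar_fr]
  have : Φ.co (Sum.inr k : Fin m ⊕ Fin m).swap w = 0 := hw'
  rw [this]
  simp

/-- the action of `T_{e_k,w}` on the anisotropic part -/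
lemma TG_e_apply_V0 (k : Fin m) (w : ι → F) (hw : polar Q (Φ.e k) w = 0) {v : ι → F}
    (hv : v ∈ Φ.V0) :
    toOG Q (TG Q (Φ.e k) w (Φ.Qfr _) hw) v = v - polar Q w v • Φ.e k := by
  rw [toOG_TG', Φ.polar_fr_V0 hv]
  simp

/-- a criterion for `T_{e_k,w} ∈ B` -/
lemma TG_e_mem_BB (k : Fin m) (w : ι → F) (hw : polar Q (Φ.e k) w = 0)
    (h : ∀ l : Fin m, l.val ≤ k.val → Φ.co (Sum.inr l) w = 0) :
    TG Q (Φ.e k) w (Φ.Qfr _) hw ∈ Φ.BB := by
  intro l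
  rw [TG_e_apply_e]
  by_cases hl : l.val ≤ k.val
  · rw [h l hl, zero_smul, sub_zero]
    exact Φ.e_mem_E (Nat.lt_succ_self _)
  · exact Submodule.sub_mem _ (Φ.e_mem_E (Nat.lt_succ_self _))
      (Submodule.smul_mem _ _ (Φ.e_mem_E (by omega)))

/-- the parameter space of the root subgroup of the `j`-th simple reflection -/
def Xsp (j : Fin m) : Submodule F (ι → F) :=
  if h : j.val + 1 < m then Submodule.span F {Φ.f ⟨j.val + 1, h⟩} else Φ.V0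

lemma Xsp_of_lt {j : Fin m} (h : j.val + 1 < m) :
    Φ.Xsp j = Submodule.span F {Φ.f ⟨j.val + 1, h⟩} := by
  unfold Xsp; rw [dif_pos h]

lemma Xsp_of_not_lt {j : Fin m} (h : ¬ j.val + 1 < m) : Φ.Xsp j = Φ.V0 := by
  unfold Xsp; rw [dif_neg h]

lemma mem_Xsp_of_lt {j : Fin m} (h : j.val + 1 < m) {w : ι → F} :
    w ∈ Φ.Xsp j ↔ ∃ t : F, w = t • Φ.f ⟨j.val + 1, h⟩ := by
  rw [Xsp_of_lt _ h, Submodule.mem_span_singleton]
  constructor
  · rintro ⟨t, rfl⟩; exact ⟨t, rfl⟩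
  · rintro ⟨t, rfl⟩; exact ⟨t, rfl⟩

lemma co_of_mem_Xsp {j : Fin m} {w : ι → F} (hw : w ∈ Φ.Xsp j) (l : Fin m)
    (hl : l.val ≤ j.val) : Φ.co (Sum.inr l) w = 0 ∧ Φ.co (Sum.inl l) w = 0 := by
  by_cases h : j.val + 1 < m
  · obtain ⟨t, rfl⟩ := (Φ.mem_Xsp_of_lt h).mp hw
    rw [co_smul, co_smul, co_fr_ne, co_fr_ne, mul_zero]
    · exact ⟨rfl, rfl⟩
    · simp
    · intro h'
      have := congrArg Fin.val (Sum.inr_injective h')
      simp at this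
      omega
  · rw [Xsp_of_not_lt _ h] at hw
    exact ⟨hw _, hw _⟩

lemma polar_e_Xsp {j : Fin m} {w : ι → F} (hw : w ∈ Φ.Xsp j) : polar Q (Φ.e j) w = 0 := by
  rw [polar_fr']
  exact (Φ.co_of_mem_Xsp hw j (le_refl _)).1

/-- the root subgroup of the `j`-th simple reflection -/
def XX (j : Fin m) : Subgroup ↥(Cfsg.isometryGroup F ⇑Q) :=
  rootX Q (Φ.e j) (Φ.Qfr _) (Φ.Xsp j) (fun w hw => Φ.polar_e_Xsp hw)

lemma mem_XX {j : Fin m} {g : ↥(Cfsg.isometryGroup F ⇑Q)} :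
    g ∈ Φ.XX j ↔ ∃ w, ∃ hw : w ∈ Φ.Xsp j,
      g = TG Q (Φ.e j) w (Φ.Qfr _) (Φ.polar_e_Xsp hw) := Iff.rfl

lemma XX_le_BB (j : Fin m) : Φ.XX j ≤ Φ.BB := by
  rintro _ ⟨w, hw, rfl⟩
  exact Φ.TG_e_mem_BB j w _ (fun l hl => (Φ.co_of_mem_Xsp hw l hl).1)

end Frame

end Cfsg.Agent.Lib.Helper1.OrthBN
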