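import Cfsg.Agent.Lib.Helper1.OrthBN5

/-!
helper1: the rank-one relations `s X s ⊆ B ∪ B s X` and `s B s ≠ B` for the simple reflections of the
isometry group of a quadratic space with a hyperbolic frame.
-/

set_option autoImplicit false
set_option linter.unusedSectionVars false
set_option linter.unusedVariables false

namespace Cfsg.Agent.Lib.Helper1.OrthBN

open Module QuadraticMap Matrix Cfsg.Agent.Lib.Helper25.CD Cfsg.Agent.Lib.Helper25.PS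
  Cfsg.Agent.Lib.Helper18.OrthAut

namespace Frame

variable {ι : Type} [Fintype ι] [DecidableEq ι] {F : Type*} [Field F] [Fintype F]
  {Q : QuadraticForm F (ι → F)} {m : ℕ} (Φ : Frame Q m)

lemma toOG_mul5 (a b c d e : ↥(Cfsg.isometryGroup F ⇑Q)) (v : ι → F) :
    toOG Q (a * b * c * d * e) v = toOG Q a (toOG Q b (toOG Q c (toOG Q d (toOG Q e v)))) := by
  rw [toOG_mul_apply, toOG_mul_apply, toOG_mul_apply, toOG_mul_apply]

lemma toOG_mul3 (a b c : ↥(Cfsg.isometryGroup F ⇑Q)) (v : ι → F) :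
    toOG Q (a * b * c) v = toOG Q a (toOG Q b (toOG Q c v)) := by
  rw [toOG_mul_apply, toOG_mul_apply]

/-- `s B s ≠ B`, long case -/
lemma hne_lt {j : Fin m} (h : j.val + 1 < m) :
    ∃ b ∈ Φ.XX j, Φ.sgen j * b * Φ.sgen j ∉ Φ.BB := by
  set k : Fin m := ⟨j.val + 1, h⟩ with hk
  have hjk : j ≠ k := by intro h'; have := congrArg Fin.val h'; simp [hk] at this
  have hw : Φ.f k ∈ Φ.Xsp j := (Φ.mem_Xsp_of_lt h).mpr ⟨1, (one_smul _ _).symm⟩
  refine ⟨TG Q (Φ.e j) (Φ.f k) (Φ.Qfr _) (Φ.polar_e_Xsp hw), ⟨_, hw, rfl⟩, ?_⟩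
  intro hB
  have h1 := hB j
  rw [toOG_mul3, sgen_e_self _ h, TG_e_apply_e, co_fr_self, one_smul, map_sub, sgen_e_succ _ h,
    sgen_e_self _ h] at h1
  have h2 := Φ.co_e_of_mem_E h1 (i := k) (by simp [hk])
  rw [co_sub, co_fr_ne _ (fun h' => hjk (Sum.inl_injective h').symm), co_fr_self] at h2
  simp at h2

/-- `s B s ≠ B`, short case -/
lemma hne_last {j : Fin m} (h : ¬ j.val + 1 < m) (hV0 : ∃ w ∈ Φ.V0, w ≠ 0) :
    ∃ b ∈ Φ.XX j, Φ.sgen j * b * Φ.sgen j ∉ Φ.BB := by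
  obtain ⟨w, hw0, hwne⟩ := hV0
  have hw : w ∈ Φ.Xsp j := by rw [Xsp_of_not_lt _ h]; exact hw0
  refine ⟨TG Q (Φ.e j) w (Φ.Qfr _) (Φ.polar_e_Xsp hw), ⟨_, hw, rfl⟩, ?_⟩
  intro hB
  have h1 := hB j
  rw [toOG_mul3, sgen_e_last _ h, TG_e_apply_f _ _ _ _ (hw0 _), map_sub, map_add, map_smul,
    sgen_of_not_lt _ h, epsG_f, epsG_e, epsG_V0 _ _ hw0] at h1
  have h2 := Φ.p0_of_mem_E h1
  rw [p0_sub, p0_add, p0_smul, p0_fr, p0_fr, p0_of_mem_V0 _ hw0] at h2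
  simp at h2
  exact hwne h2

/-- the action of the elements of a long root subgroup on the `e_l` -/
lemma TG_long_e {j : Fin m} (h : j.val + 1 < m) (t : F) (hw : polar Q (Φ.e j) (t • Φ.f ⟨j.val + 1, h⟩) = 0)
    (l : Fin m) :
    toOG Q (TG Q (Φ.e j) (t • Φ.f ⟨j.val + 1, h⟩) (Φ.Qfr _) hw) (Φ.e l) =
      Φ.e l - (if l = ⟨j.val + 1, h⟩ then t else 0) • Φ.e j := by
  rw [TG_e_apply_e, co_smul, co_fr]
  congr 2
  by_cases hl : l = ⟨j.val + 1, h⟩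
  · rw [if_pos hl, if_pos (by rw [hl]), mul_one]
  · rw [if_neg hl, if_neg (fun h' => hl (Sum.inr_injective h')), mul_zero]

/-- the rank-one relation, long case -/
lemma hR_lt {j : Fin m} (h : j.val + 1 < m) (x : ↥(Cfsg.isometryGroup F ⇑Q)) (hx : x ∈ Φ.XX j)
    (hx1 : x ≠ 1) :
    ∃ x' ∈ Φ.XX j, Φ.sgen j * x * Φ.sgen j * x'⁻¹ * Φ.sgen j ∈ Φ.BB := by
  set k : Fin m := ⟨j.val + 1, h⟩ with hk
  have hjk : j ≠ k := by intro h'; have := congrArg Fin.val h'; simp [hk] at this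
  obtain ⟨w, hw, rfl⟩ := hx
  obtain ⟨t, rfl⟩ := (Φ.mem_Xsp_of_lt h).mp hw
  have ht : t ≠ 0 := by
    intro h0
    apply hx1
    rw [← TG_zero Q (Φ.Qfr (Sum.inl j))]
    exact TG_congr Q _ _ (by rw [h0, zero_smul])
  have hw' : t⁻¹ • Φ.f k ∈ Φ.Xsp j := (Φ.mem_Xsp_of_lt h).mpr ⟨t⁻¹, rfl⟩
  refine ⟨TG Q (Φ.e j) (t⁻¹ • Φ.f k) (Φ.Qfr _) (Φ.polar_e_Xsp hw'), ⟨_, hw', rfl⟩, ?_⟩
  rw [TG_inv]
  have hy : TG Q (Φ.e j) (-(t⁻¹ • Φ.f k)) (Φ.Qfr _)
      (by rw [polar_neg_right, Φ.polar_e_Xsp hw', neg_zero]) =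
      TG Q (Φ.e j) ((-t⁻¹) • Φ.f k) (Φ.Qfr _)
        (Φ.polar_e_Xsp ((Φ.mem_Xsp_of_lt h).mpr ⟨-t⁻¹, rfl⟩)) :=
    TG_congr Q _ _ (by rw [neg_smul])
  rw [hy]
  have s_ej : toOG Q (Φ.sgen j) (Φ.e j) = Φ.e k := Φ.sgen_e_self h
  have s_ek : toOG Q (Φ.sgen j) (Φ.e k) = Φ.e j := Φ.sgen_e_succ h
  have x_e : ∀ (t : F) hw l, toOG Q (TG Q (Φ.e j) (t • Φ.f k) (Φ.Qfr _) hw) (Φ.e l) =
      Φ.e l - (if l = k then t else 0) • Φ.e j := fun t hw l => Φ.TG_long_e h t hw l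
  intro l
  rw [toOG_mul5]
  by_cases hlj : l = j
  · rw [hlj, s_ej, x_e, if_pos rfl, map_sub, map_smul, s_ek, s_ej, map_sub, map_smul, x_e, x_e,
      if_pos rfl, if_neg hjk, zero_smul, sub_zero, map_sub, map_smul, map_sub, map_smul, s_ej, s_ek]
    have e' : Φ.e k - -t⁻¹ • (Φ.e j - t • Φ.e k) = t⁻¹ • Φ.e j := by
      rw [smul_sub, smul_smul, neg_mul, inv_mul_cancel₀ ht]
      module
    rw [e']
    exact Submodule.smul_mem _ _ (Φ.e_mem_E (Nat.lt_succ_self _))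
  · by_cases hlk : l = k
    · rw [hlk, s_ek, x_e, if_neg hjk, zero_smul, sub_zero, s_ej, x_e, if_pos rfl, map_sub, map_smul,
        s_ej, s_ek]
      exact Submodule.sub_mem _ (Φ.e_mem_E (by simp [hk]))
        (Submodule.smul_mem _ _ (Φ.e_mem_E (Nat.lt_succ_self _)))
    · have s_el : toOG Q (Φ.sgen j) (Φ.e l) = Φ.e l := by
        rw [sgen_of_lt _ h]
        exact Φ.tauG_fr_ne _ _ _ (a := Sum.inl l) hlj hlk
      rw [s_el, x_e, if_neg hlk, zero_smul, sub_zero, s_el, x_e, if_neg hlk, zero_smul, sub_zero,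
        s_el]
      exact Φ.e_mem_E (Nat.lt_succ_self _)

/-- the rank-one relation, short case -/
lemma hR_last {j : Fin m} (h : ¬ j.val + 1 < m) (x : ↥(Cfsg.isometryGroup F ⇑Q))
    (hx : x ∈ Φ.XX j) (hx1 : x ≠ 1) :
    ∃ x' ∈ Φ.XX j, Φ.sgen j * x * Φ.sgen j * x'⁻¹ * Φ.sgen j ∈ Φ.BB := by
  obtain ⟨w, hw, rfl⟩ := hx
  have hw0 : w ∈ Φ.V0 := by rw [Xsp_of_not_lt _ h] at hw; exact hw
  have hwne : w ≠ 0 := by
    intro h0
    apply hx1
    rw [← TG_zero Q (Φ.Qfr (Sum.inl j))]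
    exact TG_congr Q _ _ h0
  have hQ : Q w ≠ 0 := Φ.Q_ne_zero hw0 hwne
  have hw' : (-(Q w)⁻¹) • w ∈ Φ.Xsp j := Submodule.smul_mem _ _ hw
  have hw'0 : (-(Q w)⁻¹) • w ∈ Φ.V0 := Submodule.smul_mem _ _ hw0
  refine ⟨TG Q (Φ.e j) ((-(Q w)⁻¹) • w) (Φ.Qfr _) (Φ.polar_e_Xsp hw'), ⟨_, hw', rfl⟩, ?_⟩
  rw [TG_inv]
  have hw''0 : -((-(Q w)⁻¹) • w) ∈ Φ.V0 := Submodule.neg_mem _ hw'0
  intro l
  rw [toOG_mul5, sgen_of_not_lt _ h]
  by_cases hlj : l = j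
  · rw [hlj, epsG_e, TG_e_apply_f _ _ _ _ (hw''0 _), map_sub, map_add, map_smul, epsG_f, epsG_e,
      epsG_V0 _ _ hw''0, map_sub, map_add, map_smul, TG_e_apply_e, TG_e_apply_f _ _ _ _ (hw0 _),
      TG_e_apply_V0 _ _ _ _ hw''0, hw0 (Sum.inr j), zero_smul, sub_zero]
    simp only [map_sub, map_add, map_smul, map_neg, epsG_e, epsG_f, epsG_V0 _ _ hw0,
      QuadraticMap.map_neg, QuadraticMap.map_smul, polar_neg_right, polar_smul_right, smul_eq_mul,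
      Cfsg.Agent.Lib.Helper18.OrthAut.polar_self2]
    have e : Φ.f j + (-(-(Q w)⁻¹ • w) - -(-(Q w)⁻¹ * (2 * Q w)) • Φ.f j) -
        (-(Q w)⁻¹ * -(Q w)⁻¹ * Q w) • (Φ.e j + w - Q w • Φ.f j) = (-(Q w)⁻¹) • Φ.e j := by
      match_scalars <;> field_simp <;> ring
    rw [e]
    exact Submodule.smul_mem _ _ (Φ.e_mem_E (Nat.lt_succ_self _))
  · have hlt : l.val < j.val := by
      have : l.val ≠ j.val := fun h' => hlj (Fin.ext h')
      have := l.2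
      omega
    have s_el : toOG Q (Φ.epsG j) (Φ.e l) = Φ.e l := Φ.epsG_fr_ne j (a := Sum.inl l) hlj
    rw [s_el, TG_e_apply_e, hw''0 (Sum.inr l), zero_smul, sub_zero, s_el, TG_e_apply_e,
      hw0 (Sum.inr l), zero_smul, sub_zero, s_el]
    exact Φ.e_mem_E (Nat.lt_succ_self _)

/-! ### the factorisation `B = (B ∩ sBs) X` -/

lemma Q_of_mem_E {k : ℕ} {v : ι → F} (hv : v ∈ Φ.E k) : Q v = 0 := by
  induction k generalizing v with
  | zero => rw [Φ.E_zero hv, map_zero]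
  | succ k ih =>
    by_cases hk : k < m
    · have h1 := Φ.sub_mem_E_of_mem_succ hv ⟨k, hk⟩ rfl
      have e : v = (v - Φ.co (Sum.inl ⟨k, hk⟩) v • Φ.e ⟨k, hk⟩) +
          Φ.co (Sum.inl ⟨k, hk⟩) v • Φ.e ⟨k, hk⟩ := by abel
      rw [e, Cfsg.Agent.Lib.Helper25.MaxTS.Q_add_smul, ih h1, Φ.Qfr, Φ.polar_E_fr_inl h1]
      ring
    · apply ih
      refine ⟨hv.1, hv.2.1, fun i hi => ?_⟩
      exfalso
      have := i.2
      omega

lemma sgen_fix_E {j : Fin m} {v : ι → F} (hv : v ∈ Φ.E j.val) : toOG Q (Φ.sgen j) v = v := by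
  by_cases h : j.val + 1 < m
  · rw [sgen_of_lt _ h]
    apply tauG_fix
    · rw [Φ.co_e_of_mem_E hv (le_refl _), Φ.co_e_of_mem_E hv (by simp)]
    · rw [Φ.co_f_of_mem_E hv, Φ.co_f_of_mem_E hv]
  · rw [sgen_of_not_lt _ h]
    apply epsG_fix
    rw [Φ.co_e_of_mem_E hv (le_refl _), Φ.co_f_of_mem_E hv]

lemma sgen_map_E_of_ne {j : Fin m} (h : j.val + 1 < m) {n : ℕ} (hn : n ≠ j.val + 1) {v : ι → F}
    (hv : v ∈ Φ.E n) : toOG Q (Φ.sgen j) v ∈ Φ.E n := by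
  apply Φ.toOG_map_E _ hv
  intro i hi
  by_cases hij : i = j
  · rw [hij, sgen_e_self _ h]
    apply Φ.e_mem_E
    rw [hij] at hi
    simp only
    omega
  · by_cases hik : i = ⟨j.val + 1, h⟩
    · rw [hik, sgen_e_succ _ h]
      apply Φ.e_mem_E
      rw [hik] at hi
      simp only at hi
      omega
    · rw [sgen_of_lt _ h, Φ.tauG_fr_ne _ _ _ (a := Sum.inl i) hij hik]
      exact Φ.e_mem_E hi

lemma sgen_map_E_succ {j : Fin m} (h : j.val + 1 < m) {v : ι → F}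
    (hv : v ∈ Φ.E (j.val + 1)) : toOG Q (Φ.sgen j) v ∈ Φ.E (j.val + 2) := by
  apply Φ.toOG_map_E _ hv
  intro i hi
  by_cases hij : i = j
  · rw [hij, sgen_e_self _ h]
    exact Φ.e_mem_E (by simp)
  · have hik : i ≠ ⟨j.val + 1, h⟩ := by
      intro h'
      rw [h'] at hi
      simp only at hi
      omega
    rw [sgen_of_lt _ h, Φ.tauG_fr_ne _ _ _ (a := Sum.inl i) hij hik]
    exact Φ.e_mem_E (by omega)

/-- the factorisation, long case -/
lemma hF_lt {j : Fin m} (h : j.val + 1 < m) (b : ↥(Cfsg.isometryGroup F ⇑Q)) (hb : b ∈ Φ.BB) :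
    ∃ x ∈ Φ.XX j, Φ.sgen j * (b * x⁻¹) * Φ.sgen j ∈ Φ.BB := by
  set k : Fin m := ⟨j.val + 1, h⟩ with hk
  have hjk : j ≠ k := by intro h'; have := congrArg Fin.val h'; simp [hk] at this
  set α := Φ.co (Sum.inl j) (toOG Q b (Φ.e j)) with hα
  have hα0 : α ≠ 0 := Φ.BB_diag_ne_zero hb j
  set β := Φ.co (Sum.inl j) (toOG Q b (Φ.e k)) with hβ
  set t := -β / α with ht
  have hw : t • Φ.f k ∈ Φ.Xsp j := (Φ.mem_Xsp_of_lt h).mpr ⟨t, rfl⟩
  refine ⟨TG Q (Φ.e j) (t • Φ.f k) (Φ.Qfr _) (Φ.polar_e_Xsp hw), ⟨_, hw, rfl⟩, ?_⟩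
  rw [TG_inv]
  have hy : TG Q (Φ.e j) (-(t • Φ.f k)) (Φ.Qfr _)
      (by rw [polar_neg_right, Φ.polar_e_Xsp hw, neg_zero]) =
      TG Q (Φ.e j) ((-t) • Φ.f k) (Φ.Qfr _)
        (Φ.polar_e_Xsp ((Φ.mem_Xsp_of_lt h).mpr ⟨-t, rfl⟩)) :=
    TG_congr Q _ _ (by rw [neg_smul])
  rw [hy]
  have s_ej : toOG Q (Φ.sgen j) (Φ.e j) = Φ.e k := Φ.sgen_e_self h
  have s_ek : toOG Q (Φ.sgen j) (Φ.e k) = Φ.e j := Φ.sgen_e_succ h
  have x_e : ∀ (t : F) hw l, toOG Q (TG Q (Φ.e j) (t • Φ.f k) (Φ.Qfr _) hw) (Φ.e l) =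
      Φ.e l - (if l = k then t else 0) • Φ.e j := fun t hw l => Φ.TG_long_e h t hw l
  intro l
  rw [toOG_mul3, toOG_mul_apply]
  by_cases hlj : l = j
  · rw [hlj, s_ej, x_e, if_pos rfl, map_sub, map_smul]
    set z := toOG Q b (Φ.e k) - -t • toOG Q b (Φ.e j) with hz
    have hz2 : z ∈ Φ.E (k.val + 1) :=
      Submodule.sub_mem _ (hb k) (Submodule.smul_mem _ _ (Φ.E_mono (by simp [hk]) (hb j)))
    have hzj : Φ.co (Sum.inl j) z = 0 := by
      rw [hz, co_sub, co_smul, ← hα, ← hβ, ht]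
      field_simp
      ring
    have h1 := Φ.sub_mem_E_of_mem_succ hz2 k rfl
    set z₁ := z - Φ.co (Sum.inl k) z • Φ.e k with hz₁
    have h2 := Φ.sub_mem_E_of_mem_succ (k := j.val) h1 j rfl
    have h3 : Φ.co (Sum.inl j) z₁ = 0 := by
      rw [hz₁, co_sub, co_smul, hzj, co_fr_ne _ (fun h' => hjk (Sum.inl_injective h')), mul_zero,
        sub_zero]
    rw [h3, zero_smul, sub_zero] at h2
    have e : z = z₁ + Φ.co (Sum.inl k) z • Φ.e k := by rw [hz₁]; abel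
    rw [e, map_add, map_smul, s_ek, Φ.sgen_fix_E h2]
    exact Submodule.add_mem _ (Φ.E_mono (Nat.le_succ _) h2)
      (Submodule.smul_mem _ _ (Φ.e_mem_E (Nat.lt_succ_self _)))
  · by_cases hlk : l = k
    · rw [hlk, s_ek, x_e, if_neg hjk, zero_smul, sub_zero]
      exact Φ.sgen_map_E_succ h (hb j)
    · have s_el : toOG Q (Φ.sgen j) (Φ.e l) = Φ.e l := by
        rw [sgen_of_lt _ h]
        exact Φ.tauG_fr_ne _ _ _ (a := Sum.inl l) hlj hlk
      rw [s_el, x_e, if_neg hlk, zero_smul, sub_zero]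
      apply Φ.sgen_map_E_of_ne h _ (hb l)
      intro h'
      apply hlk
      apply Fin.ext
      simp only [hk]
      omega

/-- elements of `B` preserve `E_m ⊕ V0` modulo `E_m`: the anisotropic part of the image of an
anisotropic vector -/
lemma BB_p0_surj {b : ↥(Cfsg.isometryGroup F ⇑Q)} (hb : b ∈ Φ.BB) {w0 : ι → F} (hw0 : w0 ∈ Φ.V0) :
    ∃ w ∈ Φ.V0, ∃ u ∈ Φ.E m, toOG Q b w = w0 - u := by
  have hbi := Φ.BB.inv_mem hb
  set y := toOG Q b⁻¹ w0 with hy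
  have hco : ∀ i, Φ.co (Sum.inr i) y = 0 := by
    intro i
    unfold co
    rw [hy, polar_toOG_left, inv_inv]
    have := Φ.polar_E_V0 (hb i) hw0
    rw [polar_comm] at this
    exact this
  have hpf : Φ.pf y ∈ Φ.E m := by
    unfold pf
    rw [Fintype.sum_sum_type]
    apply Submodule.add_mem
    · apply Submodule.sum_mem
      intro i _
      exact Submodule.smul_mem _ _ (Φ.e_mem_E i.2)
    · apply Submodule.sum_mem
      intro i _
      rw [hco i, zero_smul]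
      exact Submodule.zero_mem _
  refine ⟨Φ.p0 y, Φ.p0_mem y, toOG Q b (Φ.pf y), Φ.BB_map_E hb hpf, ?_⟩
  unfold p0
  rw [map_sub, hy, toOG_apply_inv_apply]

/-- the factorisation, short case -/
lemma hF_last {j : Fin m} (h : ¬ j.val + 1 < m) (b : ↥(Cfsg.isometryGroup F ⇑Q))
    (hb : b ∈ Φ.BB) :
    ∃ x ∈ Φ.XX j, Φ.sgen j * (b * x⁻¹) * Φ.sgen j ∈ Φ.BB := by
  have hjm : j.val + 1 = m := by have := j.2; omega
  obtain ⟨w, hw0, u, hu, hbw⟩ := Φ.BB_p0_surj hb (Φ.p0_mem (toOG Q b (Φ.f j)))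
  have hw : w ∈ Φ.Xsp j := by rw [Xsp_of_not_lt _ h]; exact hw0
  refine ⟨TG Q (Φ.e j) w (Φ.Qfr _) (Φ.polar_e_Xsp hw), ⟨_, hw, rfl⟩, ?_⟩
  rw [TG_inv]
  have hnw0 : -w ∈ Φ.V0 := Submodule.neg_mem _ hw0
  intro l
  rw [toOG_mul3, toOG_mul_apply, sgen_of_not_lt _ h]
  by_cases hlj : l = j
  · rw [hlj, epsG_e, TG_e_apply_f _ _ _ _ (hnw0 _), QuadraticMap.map_neg]
    set y := Φ.f j + -w - Q w • Φ.e j with hy
    set z := toOG Q b y with hz
    have hbi := Φ.BB.inv_mem hb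
    -- the anisotropic part of `z` vanishes
    have h1 : Φ.p0 z = 0 := by
      rw [hz, hy, map_sub, map_add, map_neg, map_smul, hbw, p0_sub, p0_add, p0_neg, p0_sub,
        p0_smul, Φ.p0_of_mem_E hu, Φ.p0_of_mem_E (hb j), Φ.p0_of_mem_V0 (Φ.p0_mem _)]
      simp
    -- `y` is orthogonal to `E_j`
    have hyE : ∀ v ∈ Φ.E j.val, polar Q y v = 0 := by
      intro v hv
      rw [hy, polar_sub_left, polar_add_left, polar_neg_left, polar_smul_left,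
        polar_comm Q _ v, polar_comm Q w v, polar_comm Q _ v, Φ.polar_E_fr_inr hv (le_refl _),
        Φ.polar_E_V0 hv hw0, Φ.polar_E_fr_inl hv]
      simp
    have h2 : ∀ i : Fin m, i ≠ j → Φ.co (Sum.inr i) z = 0 := by
      intro i hi
      unfold co
      rw [hz, polar_toOG_left]
      apply hyE
      have hlt : i.val < j.val := by
        have : i.val ≠ j.val := fun h' => hi (Fin.ext h')
        have := i.2
        omega
      exact Φ.E_mono (by omega) (hbi i)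
    -- the coefficient of `f_j`
    set γ := Φ.co (Sum.inr j) z with hγ
    have hγ0 : γ ≠ 0 := by
      have h3 := Φ.sub_mem_E_of_mem_succ (hbi j) j rfl
      have e : toOG Q b⁻¹ (Φ.e j) = (toOG Q b⁻¹ (Φ.e j) -
          Φ.co (Sum.inl j) (toOG Q b⁻¹ (Φ.e j)) • Φ.e j) +
          Φ.co (Sum.inl j) (toOG Q b⁻¹ (Φ.e j)) • Φ.e j := by abel
      have : γ = Φ.co (Sum.inl j) (toOG Q b⁻¹ (Φ.e j)) := by
        rw [hγ]
        unfold co
        show polar Q z (Φ.e j) = _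
        rw [hz, polar_toOG_left, e, polar_add_right, hyE _ h3, polar_smul_right, hy, polar_sub_left,
          polar_add_left, polar_neg_left, polar_smul_left, Φ.polar_f_e_self, Φ.polar_e_e,
          Φ.polar_V0_fr hw0]
        simp
        rfl
      rw [this]
      exact Φ.BB_diag_ne_zero hbi j
    set η := Φ.co (Sum.inl j) z with hη
    -- `z = z₁ + η e_j + γ f_j` with `z₁ ∈ E_j`
    set z₁ := z - η • Φ.e j - γ • Φ.f j with hz₁
    have hz₁E : z₁ ∈ Φ.E j.val := by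
      refine ⟨?_, fun i => ?_, fun i hi => ?_⟩
      · rw [hz₁, p0_sub, p0_sub, p0_smul, p0_smul, p0_fr, p0_fr, h1]
        simp
      · rw [hz₁, co_sub, co_sub, co_smul, co_smul, co_fr_ne _ (by simp)]
        by_cases hij : i = j
        · rw [hij, co_fr_self, ← hγ]
          ring
        · rw [h2 i hij, co_fr_ne _ (fun h' => hij (Sum.inr_injective h'))]
          ring
      · have hij : i = j := Fin.ext (by have := i.2; omega)
        rw [hij, hz₁, co_sub, co_sub, co_smul, co_smul, co_fr_self, co_fr_ne _ (by simp), ← hη]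
        ring
    have hQz : Q z = 0 := by
      rw [hz, Q_toOG, hy]
      have : Φ.f j + -w - Q w • Φ.e j = (Φ.f j + (-Q w) • Φ.e j) + (-1 : F) • w := by module
      rw [this, Cfsg.Agent.Lib.Helper25.MaxTS.Q_add_smul, Cfsg.Agent.Lib.Helper25.MaxTS.Q_add_smul,
        Φ.Qfr, Φ.Qfr, polar_add_left, polar_smul_left, Φ.polar_fr_V0 hw0, Φ.polar_fr_V0 hw0,
        Φ.polar_f_e_self]
      simp
    have hη0 : η = 0 := by
      have e : z = (z₁ + η • Φ.e j) + γ • Φ.f j := by rw [hz₁]; abel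
      have hE : z₁ + η • Φ.e j ∈ Φ.E (j.val + 1) :=
        Submodule.add_mem _ (Φ.E_mono (Nat.le_succ _) hz₁E)
          (Submodule.smul_mem _ _ (Φ.e_mem_E (Nat.lt_succ_self _)))
      rw [e, Cfsg.Agent.Lib.Helper25.MaxTS.Q_add_smul, Φ.Q_of_mem_E hE, Φ.Qfr, polar_add_left,
        Φ.polar_E_fr_inr hz₁E (le_refl _), polar_smul_left, Φ.polar_e_f_self] at hQz
      simp at hQz
      rcases hQz with h' | h'
      · exact absurd h' hγ0
      · exact h'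
    rw [epsG_apply, ← hγ, ← hη, hη0, sub_zero]
    have e : z + γ • (Φ.e j - Φ.f j) = z₁ + γ • Φ.e j := by
      rw [hz₁, hη0]; module
    rw [e]
    exact Submodule.add_mem _ (Φ.E_mono (Nat.le_succ _) hz₁E)
      (Submodule.smul_mem _ _ (Φ.e_mem_E (Nat.lt_succ_self _)))
  · have hlt : l.val < j.val := by
      have : l.val ≠ j.val := fun h' => hlj (Fin.ext h')
      have := l.2
      omega
    have s_el : toOG Q (Φ.epsG j) (Φ.e l) = Φ.e l := Φ.epsG_fr_ne j (a := Sum.inl l) hlj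
    rw [s_el, TG_e_apply_e, hnw0 (Sum.inr l), zero_smul, sub_zero]
    have hE : toOG Q b (Φ.e l) ∈ Φ.E j.val := Φ.E_mono (by omega) (hb l)
    have := Φ.sgen_fix_E hE
    rw [sgen_of_not_lt _ h] at this
    rw [this]
    exact hb l

end Frame

end Cfsg.Agent.Lib.Helper1.OrthBN
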