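import Cfsg.Agent.Lib.Helper1.OrthBN6

/-!
helper1: the dichotomy `n⁻¹ X n ≤ B` or `n⁻¹ (s X s) n ≤ B` for the root subgroups of the isometry
group of a quadratic space with a hyperbolic frame.
-/

set_option autoImplicit false
set_option linter.unusedSectionVars false
set_option linter.unusedVariables false

namespace Cfsg.Agent.Lib.Helper1.OrthBN

open Module QuadraticMap Matrix Cfsg.Agent.Lib.Helper25.CD Cfsg.Agent.Lib.Helper25.PS
  Cfsg.Agent.Lib.Helper18.OrthAut

namespace Frame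

variable {ι : Type} [Fintype ι] [DecidableEq ι] {F : Type*} [Field F] [Fintype F]
  {Q : QuadraticForm F (ι → F)} {m : ℕ} (Φ : Frame Q m)

/-- the pair `(a, b)` is positive: `T_{fr a, fr b}` is upper triangular -/
def Low (a b : Fin m ⊕ Fin m) : Prop :=
  ∀ l : Fin m, (a = Sum.inr l → ∃ l' : Fin m, b = Sum.inl l' ∧ l'.val < l.val) ∧
    (b = Sum.inr l → ∃ l' : Fin m, a = Sum.inl l' ∧ l'.val < l.val)

lemma low_or {a b : Fin m ⊕ Fin m} (hab : b ≠ a.swap) : Low a b ∨ Low b.swap a.swap := by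
  cases a with
  | inl i =>
    cases b with
    | inl k =>
      left
      intro l
      exact ⟨fun h => by simp at h, fun h => by simp at h⟩
    | inr k =>
      have hik : i ≠ k := by
        intro h; apply hab; rw [h]; rfl
      rcases lt_or_gt_of_ne (fun h => hik (Fin.ext h)) with h | h
      · left
        intro l
        refine ⟨fun h' => by simp at h', fun h' => ?_⟩
        have : k = l := Sum.inr_injective h'
        exact ⟨i, rfl, by rw [← this]; exact h⟩
      · right
        intro l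
        refine ⟨fun h' => by simp at h', fun h' => ?_⟩
        have : i = l := Sum.inr_injective h'
        exact ⟨k, rfl, by rw [← this]; exact h⟩
  | inr i =>
    cases b with
    | inl k =>
      have hik : i ≠ k := by
        intro h; apply hab; rw [h]; rfl
      rcases lt_or_gt_of_ne (fun h => hik (Fin.ext h)) with h | h
      · right
        intro l
        refine ⟨fun h' => ?_, fun h' => by simp at h'⟩
        have : k = l := Sum.inr_injective h'
        exact ⟨i, rfl, by rw [← this]; exact h⟩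
      · left
        intro l
        refine ⟨fun h' => ?_, fun h' => by simp at h'⟩
        have : i = l := Sum.inr_injective h'
        exact ⟨k, rfl, by rw [← this]; exact h⟩
    | inr k =>
      right
      intro l
      exact ⟨fun h => by simp at h, fun h => by simp at h⟩

/-- long root elements attached to a positive pair lie in `B` -/
lemma TG_long_mem_BB {u w : ι → F} (hu : Q u = 0) (huw : polar Q u w = 0) {a b : Fin m ⊕ Fin m}
    {c s : F} (hua : u = c • Φ.fr a) (hwb : w = s • Φ.fr b) (hlow : Low a b) :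
    TG Q u w hu huw ∈ Φ.BB := by
  intro l
  rw [toOG_TG']
  have hQw : Q w = 0 := by rw [hwb, QuadraticMap.map_smul, Φ.Qfr, smul_zero]
  rw [hQw, zero_mul, add_zero]
  have hl := Φ.e_mem_E (i := l) (Nat.lt_succ_self _)
  have h1 : polar Q u (Φ.e l) • w ∈ Φ.E (l.val + 1) := by
    by_cases ha : a = Sum.inr l
    · obtain ⟨l', hb, hlt⟩ := (hlow l).1 ha
      rw [hwb, hb]
      exact Submodule.smul_mem _ _ (Submodule.smul_mem _ _ (Φ.e_mem_E (by omega)))
    · have : polar Q u (Φ.e l) = 0 := by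
        rw [hua, polar_smul_left, Φ.pol, if_neg, smul_zero]
        intro h'
        apply ha
        have := congrArg Sum.swap h'
        simpa using this.symm
      rw [this, zero_smul]
      exact Submodule.zero_mem _
  have h2 : polar Q w (Φ.e l) • u ∈ Φ.E (l.val + 1) := by
    by_cases hb : b = Sum.inr l
    · obtain ⟨l', ha, hlt⟩ := (hlow l).2 hb
      rw [hua, ha]
      exact Submodule.smul_mem _ _ (Submodule.smul_mem _ _ (Φ.e_mem_E (by omega)))
    · have : polar Q w (Φ.e l) = 0 := by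
        rw [hwb, polar_smul_left, Φ.pol, if_neg, smul_zero]
        intro h'
        apply hb
        have := congrArg Sum.swap h'
        simpa using this.symm
      rw [this, zero_smul]
      exact Submodule.zero_mem _
  exact Submodule.sub_mem _ (Submodule.add_mem _ hl h1) h2

/-- short root elements attached to some `e_i` lie in `B` -/
lemma TG_short_mem_BB {u w : ι → F} (hu : Q u = 0) (huw : polar Q u w = 0) {i : Fin m}
    {c : F} (hua : u = c • Φ.e i) (hw : w ∈ Φ.V0) : TG Q u w hu huw ∈ Φ.BB := by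
  intro l
  rw [toOG_TG', Φ.polar_V0_fr hw, hua, polar_smul_left, Φ.polar_e_e]
  simp
  exact Φ.e_mem_E (Nat.lt_succ_self _)

/-- the dichotomy -/
lemma hD (j : Fin m) (n : ↥(Cfsg.isometryGroup F ⇑Q)) (hn : n ∈ Φ.NN) :
    (∀ x ∈ Φ.XX j, n⁻¹ * x * n ∈ Φ.BB) ∨
      (∀ x ∈ Φ.XX j, n⁻¹ * (Φ.sgen j * x * Φ.sgen j) * n ∈ Φ.BB) := by
  obtain ⟨π, hπ⟩ := Φ.Mono.inv_mem (Φ.NN_le_Mono hn)
  have hconj : ∀ x : ↥(Cfsg.isometryGroup F ⇑Q), n⁻¹ * x * n = n⁻¹ * x * (n⁻¹)⁻¹ := by
    intro x; rw [inv_inv]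
  have hsconj : ∀ x : ↥(Cfsg.isometryGroup F ⇑Q),
      Φ.sgen j * x * Φ.sgen j = Φ.sgen j * x * (Φ.sgen j)⁻¹ := by
    intro x; rw [sgen_inv]
  by_cases h : j.val + 1 < m
  · set k : Fin m := ⟨j.val + 1, h⟩ with hk
    have hjk : j ≠ k := by intro h'; have := congrArg Fin.val h'; simp [hk] at this
    set a := π (Sum.inl j) with ha
    set b := π (Sum.inr k) with hb
    have hab : b ≠ a.swap := by
      rw [ha, hb, ← Φ.Mono_swap hπ]
      intro h'
      exact hjk (Sum.inr_injective (π.injective h')).symm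
    obtain ⟨c₁, hc₁⟩ := hπ (Sum.inl j)
    obtain ⟨c₂, hc₂⟩ := hπ (Sum.inr k)
    obtain ⟨c₃, hc₃⟩ := hπ (Sum.inl k)
    obtain ⟨c₄, hc₄⟩ := hπ (Sum.inr j)
    rcases low_or hab with hlow | hlow
    · left
      rintro _ ⟨w, hw, rfl⟩
      obtain ⟨t, rfl⟩ := (Φ.mem_Xsp_of_lt h).mp hw
      rw [hconj, conj_TG]
      exact Φ.TG_long_mem_BB _ _ hc₁ (by rw [map_smul, hc₂, smul_smul]) hlow
    · right
      rintro _ ⟨w, hw, rfl⟩
      obtain ⟨t, rfl⟩ := (Φ.mem_Xsp_of_lt h).mp hw
      rw [hsconj, conj_TG, hconj, conj_TG]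
      have e1 : π (Sum.inl k) = b.swap := by
        rw [hb, ← Φ.Mono_swap hπ]; rfl
      have e2 : π (Sum.inr j) = a.swap := by
        rw [ha, ← Φ.Mono_swap hπ]; rfl
      rw [e1] at hc₃
      rw [e2] at hc₄
      refine Φ.TG_long_mem_BB _ _ (c := c₃) (s := t * c₄) ?_ ?_ hlow
      · rw [Φ.sgen_e_self h, hc₃]
      · rw [map_smul, sgen_of_lt _ h, Φ.tauG_f_right, map_smul, hc₄, smul_smul]
  · have hX : Φ.Xsp j = Φ.V0 := Φ.Xsp_of_not_lt h
    obtain ⟨c₁, hc₁⟩ := hπ (Sum.inl j)
    obtain ⟨c₂, hc₂⟩ := hπ (Sum.inr j)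
    have hV : ∀ w ∈ Φ.V0, toOG Q n⁻¹ w ∈ Φ.V0 :=
      fun w hw => Φ.Mono_V0 (Φ.Mono.inv_mem (Φ.NN_le_Mono hn)) hw
    cases hπj : π (Sum.inl j) with
    | inl i =>
      left
      rintro _ ⟨w, hw, rfl⟩
      rw [hX] at hw
      rw [hconj, conj_TG]
      rw [hπj] at hc₁
      exact Φ.TG_short_mem_BB _ _ hc₁ (hV w hw)
    | inr i =>
      right
      rintro _ ⟨w, hw, rfl⟩
      rw [hX] at hw
      rw [hsconj, conj_TG, hconj, conj_TG]
      have e2 : π (Sum.inr j) = Sum.inl i := by
        have := Φ.Mono_swap hπ (Sum.inl j)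
        rw [hπj] at this
        exact this
      rw [e2] at hc₂
      refine Φ.TG_short_mem_BB _ _ (c := c₂) (i := i) ?_ ?_
      · rw [sgen_of_not_lt _ h, Φ.epsG_e, hc₂]
      · rw [sgen_of_not_lt _ h, Φ.epsG_V0 _ hw]
        exact hV w hw

end Frame

end Cfsg.Agent.Lib.Helper1.OrthBN
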