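import Cfsg.Agent.Lib.Helper1.OrthBN7

/-!
helper1: the isometry group of a quadratic space with a hyperbolic frame (and anisotropic
complement) is generated by `B` and `N`; the resulting `(B,N)`-pair.
-/

set_option autoImplicit false
set_option linter.unusedSectionVars false
set_option linter.unusedVariables false

namespace Cfsg.Agent.Lib.Helper1.OrthBN

open Module QuadraticMap Matrix Cfsg.Agent.Lib.Helper25.CD Cfsg.Agent.Lib.Helper25.PS
  Cfsg.Agent.Lib.Helper18.OrthAut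

namespace Frame

variable {ι : Type} [Fintype ι] [DecidableEq ι] {F : Type*} [Field F] [Fintype F]
  {Q : QuadraticForm F (ι → F)} {m : ℕ} (Φ : Frame Q m)

/-- the vectors orthogonal to `e_i, f_i` for `i < k` -/
def Wk (k : ℕ) : Submodule F (ι → F) where
  carrier := {w | ∀ a : Fin m ⊕ Fin m, (idx a).val < k → Φ.co a w = 0}
  add_mem' := by
    intro v w hv hw a ha
    rw [co_add, hv a ha, hw a ha, add_zero]
  zero_mem' := fun a _ => Φ.co_zero a
  smul_mem' := by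
    intro c v hv a ha
    rw [co_smul, hv a ha, mul_zero]

lemma mem_Wk {k : ℕ} {w : ι → F} :
    w ∈ Φ.Wk k ↔ ∀ a : Fin m ⊕ Fin m, (idx a).val < k → Φ.co a w = 0 := Iff.rfl

lemma fr_mem_Wk {k : ℕ} {a : Fin m ⊕ Fin m} (ha : k ≤ (idx a).val) : Φ.fr a ∈ Φ.Wk k := by
  intro b hb
  apply co_fr_ne
  intro h
  rw [h] at hb
  omega

/-- the isometries acting diagonally on `e_i, f_i` for `i < k` -/
def PP (k : ℕ) : Subgroup ↥(Cfsg.isometryGroup F ⇑Q) where
  carrier := {g | ∀ a : Fin m ⊕ Fin m, (idx a).val < k → ∃ c : F, toOG Q g (Φ.fr a) = c • Φ.fr a}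
  mul_mem' := by
    intro g h hg hh a ha
    obtain ⟨c', hc'⟩ := hh a ha
    obtain ⟨c, hc⟩ := hg a ha
    exact ⟨c' * c, by rw [toOG_mul_apply, hc', map_smul, hc, smul_smul]⟩
  one_mem' := fun a _ => ⟨1, by rw [toOG_one_apply, one_smul]⟩
  inv_mem' := by
    intro g hg a ha
    obtain ⟨c, hc⟩ := hg a ha
    have hc0 : c ≠ 0 := smul_ne_zero_of_apply (Φ.fr_ne_zero _) hc
    refine ⟨c⁻¹, ?_⟩
    have : Φ.fr a = c⁻¹ • toOG Q g (Φ.fr a) := by
      rw [hc, smul_smul, inv_mul_cancel₀ hc0, one_smul]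
    conv_lhs => rw [this]
    rw [map_smul, toOG_inv_apply_apply]

lemma mem_PP {k : ℕ} {g : ↥(Cfsg.isometryGroup F ⇑Q)} : g ∈ Φ.PP k ↔
    ∀ a : Fin m ⊕ Fin m, (idx a).val < k → ∃ c : F, toOG Q g (Φ.fr a) = c • Φ.fr a := Iff.rfl

lemma PP_top_le_TT : Φ.PP m ≤ Φ.TT := fun g hg a => hg a (idx a).2

lemma PP_map_Wk {k : ℕ} {g : ↥(Cfsg.isometryGroup F ⇑Q)} (hg : g ∈ Φ.PP k) {v : ι → F}
    (hv : v ∈ Φ.Wk k) : toOG Q g v ∈ Φ.Wk k := by
  intro a ha
  obtain ⟨c, hc⟩ := (Φ.PP k).inv_mem hg a.swap (by rw [idx_swap]; exact ha)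
  unfold co
  rw [polar_toOG_left, hc, polar_smul_right, polar_fr, Sum.swap_swap, hv a ha, smul_zero]

lemma eq_zero_of_Wk_top {v : ι → F} (hv : v ∈ Φ.Wk m) (hQ : Q v = 0) : v = 0 :=
  Φ.aniso' (fun a => hv a (idx a).2) hQ

/-- clearing a singular vector with nonzero `f_k`-coordinate by a Siegel transformation -/
lemma clearV (k : Fin m) {v : ι → F} (hQ : Q v = 0) (hv : v ∈ Φ.Wk k.val)
    (hc : Φ.co (Sum.inr k) v ≠ 0) :
    ∃ w ∈ Φ.Wk (k.val + 1), ∃ hw : polar Q (Φ.e k) w = 0,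
      toOG Q (TG Q (Φ.e k) w (Φ.Qfr _) hw) (Φ.co (Sum.inr k) v • Φ.f k) = v := by
  set c := Φ.co (Sum.inr k) v with hcdef
  set d := Φ.co (Sum.inl k) v with hddef
  set v' := v - c • Φ.f k - d • Φ.e k with hv'
  have hv'W : v' ∈ Φ.Wk (k.val + 1) := by
    intro a ha
    rw [hv', co_sub, co_sub, co_smul, co_smul]
    by_cases hak : (idx a).val < k.val
    · rw [hv a hak, co_fr_ne, co_fr_ne]
      · ring
      · intro h; rw [h] at hak; exact lt_irrefl _ hak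
      · intro h; rw [h] at hak; exact lt_irrefl _ hak
    · have hidx : idx a = k := Fin.ext (by omega)
      cases a with
      | inl i =>
        have : i = k := hidx
        rw [this, co_fr_self, co_fr_ne _ (by simp), ← hddef]
        ring
      | inr i =>
        have : i = k := hidx
        rw [this, co_fr_self, co_fr_ne _ (by simp), ← hcdef]
        ring
  have hQv' : Q v' = -(c * d) := by
    have e : v = (v' + c • Φ.f k) + d • Φ.e k := by rw [hv']; abel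
    have h1 : polar Q v' (Φ.f k) = 0 := by
      rw [polar_fr]; exact hv'W _ (by simp)
    have h2 : polar Q v' (Φ.e k) = 0 := by
      rw [polar_fr]; exact hv'W _ (by simp)
    rw [e, Cfsg.Agent.Lib.Helper25.MaxTS.Q_add_smul, Cfsg.Agent.Lib.Helper25.MaxTS.Q_add_smul,
      Φ.Qfr, Φ.Qfr, polar_add_left, polar_smul_left, h1, h2, Φ.polar_f_e_self] at hQ
    simp at hQ
    linear_combination hQ
  refine ⟨c⁻¹ • v', Submodule.smul_mem _ _ hv'W, ?_, ?_⟩
  · rw [polar_fr']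
    exact (Submodule.smul_mem _ c⁻¹ hv'W) _ (by simp)
  · rw [map_smul, TG_e_apply_f _ _ _ _ ((Submodule.smul_mem _ c⁻¹ hv'W) _ (by simp)),
      QuadraticMap.map_smul, hQv', hv', smul_eq_mul]
    match_scalars <;> field_simp <;> ring

/-- Siegel transformations `T_{e_k,w}` with `w ⊥ e_i, f_i` (`i ≤ k`) fix `e_i, f_i` for `i < k` -/
lemma TG_e_mem_PP (k : Fin m) {w : ι → F} (hwW : w ∈ Φ.Wk (k.val + 1))
    (hw : polar Q (Φ.e k) w = 0) : TG Q (Φ.e k) w (Φ.Qfr _) hw ∈ Φ.PP k.val := by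
  intro a ha
  refine ⟨1, ?_⟩
  rw [one_smul]
  apply TG_fix
  · rw [Φ.pol, if_neg]
    intro h
    rw [h] at ha
    simp at ha
  · rw [polar_fr]
    exact hwW _ (by rw [idx_swap]; omega)

lemma TG_e_fix_e (k : Fin m) {w : ι → F} (hwW : w ∈ Φ.Wk (k.val + 1))
    (hw : polar Q (Φ.e k) w = 0) : toOG Q (TG Q (Φ.e k) w (Φ.Qfr _) hw) (Φ.e k) = Φ.e k := by
  rw [TG_e_apply_e, hwW _ (by simp), zero_smul, sub_zero]

lemma TG_e_mem_BB' (k : Fin m) {w : ι → F} (hwW : w ∈ Φ.Wk (k.val + 1))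
    (hw : polar Q (Φ.e k) w = 0) : TG Q (Φ.e k) w (Φ.Qfr _) hw ∈ Φ.BB :=
  Φ.TG_e_mem_BB k w hw (fun l hl => hwW _ (by simp; omega))

/-- clearing the image of `f_k` -/
lemma clearF (k : Fin m) {g : ↥(Cfsg.isometryGroup F ⇑Q)} (hg : g ∈ Φ.PP k.val) {c : F}
    (hc : toOG Q g (Φ.e k) = c • Φ.e k) :
    ∃ w ∈ Φ.Wk (k.val + 1), ∃ hw : polar Q (Φ.e k) w = 0,
      (TG Q (Φ.e k) w (Φ.Qfr _) hw)⁻¹ * g ∈ Φ.PP (k.val + 1) := by
  have hc0 : c ≠ 0 := smul_ne_zero_of_apply (Φ.fr_ne_zero _) hc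
  set u := toOG Q g (Φ.f k) with hu
  have huW : u ∈ Φ.Wk k.val := Φ.PP_map_Wk hg (Φ.fr_mem_Wk (le_refl _))
  have hQu : Q u = 0 := by rw [hu, Q_toOG, Φ.Qfr]
  have hco : Φ.co (Sum.inr k) u = c⁻¹ := by
    unfold co
    show polar Q u (Φ.e k) = _
    have : Φ.e k = c⁻¹ • toOG Q g (Φ.e k) := by
      rw [hc, smul_smul, inv_mul_cancel₀ hc0, one_smul]
    rw [this, polar_smul_right, hu, polar_toOG, Φ.polar_f_e_self, smul_eq_mul, mul_one]
  obtain ⟨w, hwW, hw, hx⟩ := Φ.clearV k hQu huW (by rw [hco]; exact inv_ne_zero hc0)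
  refine ⟨w, hwW, hw, ?_⟩
  set x := TG Q (Φ.e k) w (Φ.Qfr _) hw with hxdef
  have hxP : x ∈ Φ.PP k.val := Φ.TG_e_mem_PP k hwW hw
  have hgP : x⁻¹ * g ∈ Φ.PP k.val := (Φ.PP k.val).mul_mem ((Φ.PP k.val).inv_mem hxP) hg
  intro a ha
  by_cases hak : (idx a).val < k.val
  · exact hgP a hak
  · have hidx : idx a = k := Fin.ext (by omega)
    cases a with
    | inl i =>
      have : i = k := hidx
      rw [this]
      refine ⟨c, ?_⟩
      rw [toOG_mul_apply, hc, map_smul]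
      congr 1
      have := Φ.TG_e_fix_e k hwW hw
      rw [← hxdef] at this
      conv_lhs => rw [← this]
      rw [toOG_inv_apply_apply]
    | inr i =>
      have : i = k := hidx
      rw [this]
      refine ⟨c⁻¹, ?_⟩
      rw [toOG_mul_apply, ← hu, ← hx, hco, toOG_inv_apply_apply]

/-- a monomial element of `N` moving a given frame vector to `e_k` -/
lemma exists_move (k : Fin m) (a : Fin m ⊕ Fin m) (ha : k.val ≤ (idx a).val) :
    ∃ n ∈ Φ.NN, n ∈ Φ.PP k.val ∧ toOG Q n⁻¹ (Φ.e k) = Φ.fr a := by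
  have epsPP : ∀ i : Fin m, k.val ≤ i.val → Φ.epsG i ∈ Φ.PP k.val := by
    intro i hi b hb
    refine ⟨1, ?_⟩
    rw [one_smul]
    apply Φ.epsG_fr_ne
    intro h
    rw [h] at hb
    omega
  have tauPP : ∀ (i : Fin m) (hki : k ≠ i), k.val ≤ i.val → Φ.tauG k i hki ∈ Φ.PP k.val := by
    intro i hki hi b hb
    refine ⟨1, ?_⟩
    rw [one_smul]
    apply Φ.tauG_fr_ne
    · intro h; rw [h] at hb; exact lt_irrefl _ hb
    · intro h; rw [h] at hb; omega
  by_cases hak : idx a = k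
  · cases a with
    | inl i =>
      have : i = k := hak
      rw [this]
      exact ⟨1, Subgroup.one_mem _, Subgroup.one_mem _, by rw [inv_one, toOG_one_apply]⟩
    | inr i =>
      have : i = k := hak
      rw [this]
      exact ⟨Φ.epsG k, Φ.epsG_mem_NN k, epsPP k (le_refl _), by rw [epsG_inv, epsG_e]⟩
  · have hlt : k.val < (idx a).val := by
      have : (idx a).val ≠ k.val := fun h => hak (Fin.ext h)
      omega
    cases a with
    | inl i =>
      have hki : k ≠ i := fun h => hak h.symm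
      have hlt' : k.val < i.val := hlt
      refine ⟨Φ.tauG k i hki, Φ.tauG_mem_NN_of_lt k i hlt', tauPP i hki (le_of_lt hlt'), ?_⟩
      rw [tauG_inv, tauG_e_left]
    | inr i =>
      have hki : k ≠ i := fun h => hak h.symm
      have hlt' : k.val < i.val := hlt
      refine ⟨Φ.tauG k i hki * Φ.epsG i,
        Subgroup.mul_mem _ (Φ.tauG_mem_NN_of_lt k i hlt') (Φ.epsG_mem_NN i),
        Subgroup.mul_mem _ (tauPP i hki (le_of_lt hlt')) (epsPP i (le_of_lt hlt')), ?_⟩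
      rw [_root_.mul_inv_rev, toOG_mul_apply, tauG_inv, tauG_e_left, epsG_inv, epsG_e]

/-- `B` and `N` generate the isometry group -/
theorem BB_sup_NN : Φ.BB ⊔ Φ.NN = ⊤ := by
  rw [eq_top_iff]
  intro g _
  have key : ∀ d k : ℕ, k + d = m → ∀ g ∈ Φ.PP k, g ∈ Φ.BB ⊔ Φ.NN := by
    intro d
    induction d with
    | zero =>
      intro k hk g hg
      have : k = m := by omega
      rw [this] at hg
      exact (le_sup_left : Φ.BB ≤ _) (Φ.TT_le_BB (Φ.PP_top_le_TT hg))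
    | succ d ih =>
      intro k hk g hg
      have hkm : k < m := by omega
      set kk : Fin m := ⟨k, hkm⟩ with hkk
      have hB : Φ.BB ≤ Φ.BB ⊔ Φ.NN := le_sup_left
      have hN : Φ.NN ≤ Φ.BB ⊔ Φ.NN := le_sup_right
      -- the image of `e_k`
      set v := toOG Q g (Φ.e kk) with hv
      have hvW : v ∈ Φ.Wk k := Φ.PP_map_Wk hg (Φ.fr_mem_Wk (le_refl _))
      have hQv : Q v = 0 := by rw [hv, Q_toOG, Φ.Qfr]
      have hv0 : v ≠ 0 := by
        intro h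
        have := toOG_apply_injective Q g (h.trans (map_zero _).symm)
        exact Φ.fr_ne_zero _ this
      obtain ⟨a, ha⟩ : ∃ a, Φ.co a v ≠ 0 := by
        by_contra hcon
        push Not at hcon
        exact hv0 (Φ.aniso' hcon hQv)
      have hak : k ≤ (idx a).val := by
        by_contra h
        exact ha (hvW a (not_le.mp h))
      obtain ⟨n, hnN, hnP, hn⟩ := Φ.exists_move kk a.swap (by rw [idx_swap]; exact hak)
      set g₁ := n * g with hg₁
      have hg₁P : g₁ ∈ Φ.PP k := (Φ.PP k).mul_mem hnP hg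
      set v' := toOG Q g₁ (Φ.e kk) with hv'
      have hv'W : v' ∈ Φ.Wk k := Φ.PP_map_Wk hg₁P (Φ.fr_mem_Wk (le_refl _))
      have hQv' : Q v' = 0 := by rw [hv', Q_toOG, Φ.Qfr]
      have hc : Φ.co (Sum.inr kk) v' ≠ 0 := by
        unfold co
        show polar Q v' (Φ.e kk) ≠ 0
        rw [hv', hg₁, toOG_mul_apply, polar_toOG_left, hn, ← hv, polar_fr, Sum.swap_swap]
        exact ha
      obtain ⟨w, hwW, hw, hx⟩ := Φ.clearV kk hQv' hv'W hc
      set c := Φ.co (Sum.inr kk) v' with hcdef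
      set x := TG Q (Φ.e kk) w (Φ.Qfr _) hw with hxdef
      set g₂ := Φ.epsG kk * (x⁻¹ * g₁) with hg₂
      have hxP : x ∈ Φ.PP k := Φ.TG_e_mem_PP kk hwW hw
      have hεP : Φ.epsG kk ∈ Φ.PP k := by
        intro b hb
        refine ⟨1, ?_⟩
        rw [one_smul]
        apply Φ.epsG_fr_ne
        intro h
        rw [h] at hb
        exact lt_irrefl _ hb
      have hg₂P : g₂ ∈ Φ.PP k :=
        (Φ.PP k).mul_mem hεP ((Φ.PP k).mul_mem ((Φ.PP k).inv_mem hxP) hg₁P)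
      have hg₂e : toOG Q g₂ (Φ.e kk) = c • Φ.e kk := by
        rw [hg₂, toOG_mul_apply, toOG_mul_apply, ← hv', ← hx, toOG_inv_apply_apply, map_smul,
          epsG_f]
      obtain ⟨w', hw'W, hw', hy⟩ := Φ.clearF kk hg₂P hg₂e
      set y := TG Q (Φ.e kk) w' (Φ.Qfr _) hw' with hydef
      have h3 := ih (k + 1) (by omega) _ hy
      have hxB : x ∈ Φ.BB := Φ.TG_e_mem_BB' kk hwW hw
      have hyB : y ∈ Φ.BB := Φ.TG_e_mem_BB' kk hw'W hw'
      have e : g = n⁻¹ * (x * ((Φ.epsG kk)⁻¹ * (y * (y⁻¹ * g₂)))) := by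
        rw [hg₂, hg₁]; group
      rw [e]
      exact Subgroup.mul_mem _ (Subgroup.inv_mem _ (hN hnN))
        (Subgroup.mul_mem _ (hB hxB) (Subgroup.mul_mem _
          (Subgroup.inv_mem _ (hN (Φ.epsG_mem_NN kk))) (Subgroup.mul_mem _ (hB hyB) h3)))
  exact key m 0 (by omega) g (fun a ha => absurd ha (Nat.not_lt_zero _))

/-- the `(B,N)`-pair of the isometry group -/
noncomputable def bnPair (hV0 : ∃ w ∈ Φ.V0, w ≠ 0) : Cfsg.BNPair ↥(Cfsg.isometryGroup F ⇑Q) :=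
  mkBN Φ.BB Φ.NN Φ.sgen Φ.BB_sup_NN
    (by
      intro n hn t ht
      rw [Φ.BB_inf_NN] at ht
      exact Φ.TT_le_BB (Φ.Mono_conj_TT (Φ.NN_le_Mono hn) ht))
    Φ.sgen_mem_NN Φ.sgen_mul_self Φ.sgen_inj
    (by rw [Φ.BB_inf_NN]; rfl)
    Φ.XX
    (by
      intro j b hb
      by_cases h : j.val + 1 < m
      · exact Φ.hF_lt h b hb
      · exact Φ.hF_last h b hb)
    Φ.hD
    (by
      intro j x hx hx1
      by_cases h : j.val + 1 < m
      · exact Φ.hR_lt h x hx hx1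
      · exact Φ.hR_last h x hx hx1)
    (by
      intro j
      by_cases h : j.val + 1 < m
      · obtain ⟨b, hb, hnb⟩ := Φ.hne_lt h
        exact ⟨b, Φ.XX_le_BB j hb, hnb⟩
      · obtain ⟨b, hb, hnb⟩ := Φ.hne_last h hV0
        exact ⟨b, Φ.XX_le_BB j hb, hnb⟩)

/-- the root subgroups are nontrivial -/
lemma exists_XX_ne_one (hV0 : ∃ w ∈ Φ.V0, w ≠ 0) (j : Fin m) :
    ∃ x ∈ Φ.XX j, x ≠ 1 ∧ Φ.sgen j * x * Φ.sgen j ∉ Φ.BB := by
  have : ∃ b ∈ Φ.XX j, Φ.sgen j * b * Φ.sgen j ∉ Φ.BB := by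
    by_cases h : j.val + 1 < m
    · exact Φ.hne_lt h
    · exact Φ.hne_last h hV0
  obtain ⟨b, hb, hnb⟩ := this
  refine ⟨b, hb, ?_, hnb⟩
  intro h1
  apply hnb
  rw [h1, mul_one, Φ.sgen_mul_self]
  exact Subgroup.one_mem _

lemma bnPair_B (hV0 : ∃ w ∈ Φ.V0, w ≠ 0) : (Φ.bnPair hV0).B = Φ.BB := rfl
lemma bnPair_N (hV0 : ∃ w ∈ Φ.V0, w ≠ 0) : (Φ.bnPair hV0).N = Φ.NN := rfl
lemma bnPair_S (hV0 : ∃ w ∈ Φ.V0, w ≠ 0) : (Φ.bnPair hV0).S = Set.range Φ.sgen := rfl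

end Frame

end Cfsg.Agent.Lib.Helper1.OrthBN
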