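import Cfsg.Agent.Lib.Helper1.OrthBN8

/-!
helper1: the unipotent radical `U` of the Borel subgroup of the isometry group of a quadratic space
with a hyperbolic frame: `B = U T`, `U ∩ T = 1`, `U ⊴ B`, `U` is a `p`-group.
-/

set_option autoImplicit false
set_option linter.unusedSectionVars false
set_option linter.unusedVariables false

namespace Cfsg.Agent.Lib.Helper1.OrthBN

open Module QuadraticMap Matrix Cfsg.Agent.Lib.Helper25.CD Cfsg.Agent.Lib.Helper25.PS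
  Cfsg.Agent.Lib.Helper18.OrthAut

namespace Frame

variable {ι : Type} [Fintype ι] [DecidableEq ι] {F : Type*} [Field F] [Fintype F]
  {Q : QuadraticForm F (ι → F)} {m : ℕ} (Φ : Frame Q m)

/-- the frame part of the image of an anisotropic vector under an element of `B` lies in `E_m` -/
lemma BB_pf_mem {b : ↥(Cfsg.isometryGroup F ⇑Q)} (hb : b ∈ Φ.BB) {w : ι → F} (hw : w ∈ Φ.V0) :
    Φ.pf (toOG Q b w) ∈ Φ.E m := by
  have hbi := Φ.BB.inv_mem hb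
  have hco : ∀ i, Φ.co (Sum.inr i) (toOG Q b w) = 0 := by
    intro i
    unfold co
    rw [polar_toOG_left]
    have := Φ.polar_E_V0 (hbi i) hw
    rw [polar_comm] at this
    exact this
  unfold pf
  rw [Fintype.sum_sum_type]
  apply Submodule.add_mem
  · apply Submodule.sum_mem
    intro i _
    exact Submodule.smul_mem _ _ (Φ.e_mem_E i.2)
  · apply Submodule.sum_mem
    intro i _
    rw [hco i, zero_smul]
    exact Submodule.zero_mem _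

/-- the unipotent radical of `B` -/
def UU : Subgroup ↥(Cfsg.isometryGroup F ⇑Q) where
  carrier := {g | g ∈ Φ.BB ∧ (∀ j : Fin m, toOG Q g (Φ.e j) - Φ.e j ∈ Φ.E j.val) ∧
    ∀ w ∈ Φ.V0, toOG Q g w - w ∈ Φ.E m}
  mul_mem' := by
    rintro g h ⟨hgB, hg1, hg2⟩ ⟨hhB, hh1, hh2⟩
    refine ⟨Φ.BB.mul_mem hgB hhB, fun j => ?_, fun w hw => ?_⟩
    · have e : toOG Q (g * h) (Φ.e j) - Φ.e j =
          toOG Q g (toOG Q h (Φ.e j) - Φ.e j) + (toOG Q g (Φ.e j) - Φ.e j) := by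
        rw [toOG_mul_apply, map_sub]; abel
      rw [e]
      exact Submodule.add_mem _ (Φ.BB_map_E hgB (hh1 j)) (hg1 j)
    · have e : toOG Q (g * h) w - w =
          toOG Q g (toOG Q h w - w) + (toOG Q g w - w) := by
        rw [toOG_mul_apply, map_sub]; abel
      rw [e]
      exact Submodule.add_mem _ (Φ.BB_map_E hgB (hh2 w hw)) (hg2 w hw)
  one_mem' := by
    refine ⟨Φ.BB.one_mem, fun j => ?_, fun w _ => ?_⟩
    · rw [toOG_one_apply, sub_self]; exact Submodule.zero_mem _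
    · rw [toOG_one_apply, sub_self]; exact Submodule.zero_mem _
  inv_mem' := by
    rintro g ⟨hgB, hg1, hg2⟩
    have hgi := Φ.BB.inv_mem hgB
    refine ⟨hgi, fun j => ?_, fun w hw => ?_⟩
    · have e : toOG Q g⁻¹ (Φ.e j) - Φ.e j = -toOG Q g⁻¹ (toOG Q g (Φ.e j) - Φ.e j) := by
        rw [map_sub, toOG_inv_apply_apply]; abel
      rw [e]
      exact Submodule.neg_mem _ (Φ.BB_map_E hgi (hg1 j))
    · have e : toOG Q g⁻¹ w - w = -toOG Q g⁻¹ (toOG Q g w - w) := by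
        rw [map_sub, toOG_inv_apply_apply]; abel
      rw [e]
      exact Submodule.neg_mem _ (Φ.BB_map_E hgi (hg2 w hw))

lemma mem_UU {g : ↥(Cfsg.isometryGroup F ⇑Q)} : g ∈ Φ.UU ↔
    g ∈ Φ.BB ∧ (∀ j : Fin m, toOG Q g (Φ.e j) - Φ.e j ∈ Φ.E j.val) ∧
      ∀ w ∈ Φ.V0, toOG Q g w - w ∈ Φ.E m := Iff.rfl

lemma UU_le_BB : Φ.UU ≤ Φ.BB := fun _ hg => hg.1

/-- elements of `U` act trivially on `E_{k+1}/E_k` -/
lemma UU_sub_mem {u : ↥(Cfsg.isometryGroup F ⇑Q)} (hu : u ∈ Φ.UU) {k : ℕ} {v : ι → F}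
    (hv : v ∈ Φ.E (k + 1)) : toOG Q u v - v ∈ Φ.E k := by
  have := Φ.map_E (g := (toOG Q u).toLinearMap - LinearMap.id) (k := k + 1) (k' := k) (by
    intro i hi
    rw [LinearMap.sub_apply, LinearMap.id_apply, LinearEquiv.coe_coe]
    exact Φ.E_mono (by omega) (hu.2.1 i)) v hv
  rwa [LinearMap.sub_apply, LinearMap.id_apply, LinearEquiv.coe_coe] at this

lemma UU_sub_mem' {u : ↥(Cfsg.isometryGroup F ⇑Q)} (hu : u ∈ Φ.UU) {k : ℕ} {v : ι → F}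
    (hv : v ∈ Φ.E k) : toOG Q u v - v ∈ Φ.E k :=
  Φ.UU_sub_mem hu (Φ.E_mono (Nat.le_succ k) hv)

/-- `U ∩ T = 1` -/
lemma UU_inf_TT {g : ↥(Cfsg.isometryGroup F ⇑Q)} (hU : g ∈ Φ.UU) (hT : g ∈ Φ.TT) : g = 1 := by
  have he : ∀ j : Fin m, toOG Q g (Φ.e j) = Φ.e j := by
    intro j
    obtain ⟨c, hc⟩ := hT (Sum.inl j)
    have h1 := Φ.co_e_of_mem_E (hU.2.1 j) (le_refl _)
    rw [hc, co_sub, co_smul, co_fr_self, mul_one] at h1
    rw [hc, sub_eq_zero.mp h1, one_smul]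
  apply Φ.ext_frame
  · intro a
    rw [toOG_one_apply]
    cases a with
    | inl j => exact he j
    | inr j =>
      obtain ⟨c, hc⟩ := hT (Sum.inr j)
      have h1 := polar_toOG Q g (Φ.e j) (Φ.f j)
      rw [he j, hc, polar_smul_right, Φ.polar_e_f_self, smul_eq_mul, mul_one] at h1
      rw [hc, h1, one_smul]
  · intro w hw
    rw [toOG_one_apply]
    have h1 := hU.2.2 w hw
    have h2 : toOG Q g w - w ∈ Φ.V0 :=
      Submodule.sub_mem _ (Φ.Mono_V0 (Φ.TT_le_Mono hT) hw) hw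
    exact sub_eq_zero.mp (Φ.eq_zero_of_mem_E_of_mem_V0 h1 h2)

/-- `U` is normal in `B` -/
lemma UU_conj {b u : ↥(Cfsg.isometryGroup F ⇑Q)} (hb : b ∈ Φ.BB) (hu : u ∈ Φ.UU) :
    b * u * b⁻¹ ∈ Φ.UU := by
  have hbi := Φ.BB.inv_mem hb
  refine ⟨Φ.BB.mul_mem (Φ.BB.mul_mem hb hu.1) hbi, fun j => ?_, fun w hw => ?_⟩
  · have e : toOG Q (b * u * b⁻¹) (Φ.e j) - Φ.e j =
        toOG Q b (toOG Q u (toOG Q b⁻¹ (Φ.e j)) - toOG Q b⁻¹ (Φ.e j)) := by
      rw [toOG_mul_apply, toOG_mul_apply, map_sub, toOG_apply_inv_apply]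
    rw [e]
    exact Φ.BB_map_E hb (Φ.UU_sub_mem hu (hbi j))
  · have e : toOG Q (b * u * b⁻¹) w - w =
        toOG Q b (toOG Q u (toOG Q b⁻¹ w) - toOG Q b⁻¹ w) := by
      rw [toOG_mul_apply, toOG_mul_apply, map_sub, toOG_apply_inv_apply]
    rw [e]
    apply Φ.BB_map_E hb
    set y := toOG Q b⁻¹ w with hy
    have hpf : Φ.pf y ∈ Φ.E m := Φ.BB_pf_mem hbi hw
    have e2 : toOG Q u y - y = (toOG Q u (Φ.pf y) - Φ.pf y) + (toOG Q u (Φ.p0 y) - Φ.p0 y) := by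
      conv_lhs => rw [Φ.decomp y]
      rw [map_add]; abel
    rw [e2]
    exact Submodule.add_mem _ (Φ.UU_sub_mem' hu hpf) (hu.2.2 _ (Φ.p0_mem y))

/-- the generators of `U` -/
lemma TG_e_mem_UU (k : Fin m) {w : ι → F} (hwW : w ∈ Φ.Wk (k.val + 1))
    (hw : polar Q (Φ.e k) w = 0) : TG Q (Φ.e k) w (Φ.Qfr _) hw ∈ Φ.UU := by
  refine ⟨Φ.TG_e_mem_BB' k hwW hw, fun j => ?_, fun v hv => ?_⟩
  · rw [TG_e_apply_e]
    have e : Φ.e j - Φ.co (Sum.inr j) w • Φ.e k - Φ.e j = -(Φ.co (Sum.inr j) w • Φ.e k) := by abel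
    rw [e]
    apply Submodule.neg_mem
    by_cases hjk : j.val ≤ k.val
    · rw [hwW _ (by simp; omega), zero_smul]
      exact Submodule.zero_mem _
    · exact Submodule.smul_mem _ _ (Φ.e_mem_E (by omega))
  · rw [TG_e_apply_V0 _ _ _ _ hv]
    have e : v - polar Q w v • Φ.e k - v = -(polar Q w v • Φ.e k) := by abel
    rw [e]
    exact Submodule.neg_mem _ (Submodule.smul_mem _ _ (Φ.e_mem_E k.2))

/-- an element of `B` fixing `e_i, f_i` (`i < k`) up to scalars maps `e_k` to a multiple -/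
lemma BB_PP_apply_e {b : ↥(Cfsg.isometryGroup F ⇑Q)} (hb : b ∈ Φ.BB) (k : Fin m)
    (hP : b ∈ Φ.PP k.val) : ∃ c : F, toOG Q b (Φ.e k) = c • Φ.e k := by
  have h1 := hb k
  have h2 : toOG Q b (Φ.e k) ∈ Φ.Wk k.val := Φ.PP_map_Wk hP (Φ.fr_mem_Wk (le_refl _))
  refine ⟨Φ.co (Sum.inl k) (toOG Q b (Φ.e k)), ?_⟩
  conv_lhs => rw [Φ.eq_sum_of_mem_E h1]
  rw [Finset.sum_eq_single k]
  · intro i _ hik
    by_cases hlt : i.val < k.val
    · rw [h2 _ (by simpa using hlt), zero_smul]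
    · have : k.val + 1 ≤ i.val := by
        have : i.val ≠ k.val := fun h => hik (Fin.ext h)
        omega
      rw [Φ.co_e_of_mem_E h1 this, zero_smul]
  · intro h; exact absurd (Finset.mem_univ k) h

/-- `B = U T`, with `U` replaced by its intersection with any subgroup containing the generators -/
theorem BB_eq_UU_TT (H : Subgroup ↥(Cfsg.isometryGroup F ⇑Q))
    (hH : ∀ (k : Fin m) (w : ι → F) (_ : w ∈ Φ.Wk (k.val + 1)) (hw : polar Q (Φ.e k) w = 0),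
      TG Q (Φ.e k) w (Φ.Qfr _) hw ∈ H) (b : ↥(Cfsg.isometryGroup F ⇑Q)) (hb : b ∈ Φ.BB) :
    ∃ u ∈ Φ.UU ⊓ H, ∃ t ∈ Φ.TT, b = u * t := by
  have key : ∀ d k : ℕ, k + d = m → ∀ b ∈ Φ.BB, b ∈ Φ.PP k →
      ∃ u ∈ Φ.UU ⊓ H, ∃ t ∈ Φ.TT, b = u * t := by
    intro d
    induction d with
    | zero =>
      intro k hk b hb hP
      have : k = m := by omega
      rw [this] at hP
      exact ⟨1, Subgroup.one_mem _, b, Φ.PP_top_le_TT hP, (one_mul b).symm⟩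
    | succ d ih =>
      intro k hk b hb hP
      have hkm : k < m := by omega
      set kk : Fin m := ⟨k, hkm⟩ with hkk
      obtain ⟨c, hc⟩ := Φ.BB_PP_apply_e hb kk hP
      obtain ⟨w, hwW, hw, hx⟩ := Φ.clearF kk hP hc
      set x := TG Q (Φ.e kk) w (Φ.Qfr _) hw with hxdef
      have hxU : x ∈ Φ.UU := Φ.TG_e_mem_UU kk hwW hw
      have hxB : x⁻¹ * b ∈ Φ.BB := Φ.BB.mul_mem (Φ.BB.inv_mem hxU.1) hb
      obtain ⟨u, hu, t, ht, he⟩ := ih (k + 1) (by omega) _ hxB hx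
      refine ⟨x * u, Subgroup.mul_mem _ ⟨hxU, hH kk w hwW hw⟩ hu, t, ht, ?_⟩
      rw [mul_assoc, ← he]
      group
  exact key m 0 (by omega) b hb (fun a ha => absurd ha (Nat.not_lt_zero _))

/-- `U` lies in any subgroup containing its generators -/
theorem UU_le_of_gen (H : Subgroup ↥(Cfsg.isometryGroup F ⇑Q))
    (hH : ∀ (k : Fin m) (w : ι → F) (_ : w ∈ Φ.Wk (k.val + 1)) (hw : polar Q (Φ.e k) w = 0),
      TG Q (Φ.e k) w (Φ.Qfr _) hw ∈ H) : Φ.UU ≤ H := by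
  intro g hg
  obtain ⟨u, hu, t, ht, he⟩ := Φ.BB_eq_UU_TT H hH g hg.1
  have ht1 : t = 1 := by
    apply Φ.UU_inf_TT _ ht
    have : t = u⁻¹ * g := by rw [he]; group
    rw [this]
    exact Φ.UU.mul_mem (Φ.UU.inv_mem hu.1) hg
  rw [he, ht1, mul_one]
  exact hu.2

/-! ### `U` is a `p`-group -/

section pgroup

variable (p : ℕ) [Fact p.Prime] [CharP F p]

lemma TG_pow_char {u w : ι → F} (hu : Q u = 0) (huw : polar Q u w = 0) :
    (TG Q u w hu huw) ^ p = 1 := by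
  rw [TG_pow, ← TG_zero Q hu]
  exact TG_congr Q hu _ (by rw [CharP.cast_eq_zero F p, zero_smul])

lemma UU_PP_apply_e {g : ↥(Cfsg.isometryGroup F ⇑Q)} (hU : g ∈ Φ.UU) (k : Fin m)
    (hP : g ∈ Φ.PP k.val) : toOG Q g (Φ.e k) = Φ.e k := by
  obtain ⟨c, hc⟩ := Φ.BB_PP_apply_e hU.1 k hP
  have h1 := Φ.co_e_of_mem_E (hU.2.1 k) (le_refl _)
  rw [hc, co_sub, co_smul, co_fr_self, mul_one] at h1
  rw [hc, sub_eq_zero.mp h1, one_smul]

lemma pow_decomp (k : Fin m) {w : ι → F} (hwW : w ∈ Φ.Wk (k.val + 1))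
    (hw : polar Q (Φ.e k) w = 0) {g' : ↥(Cfsg.isometryGroup F ⇑Q)} (hg'U : g' ∈ Φ.UU)
    (hg'P : g' ∈ Φ.PP (k.val + 1)) (n : ℕ) :
    ∃ wn ∈ Φ.Wk (k.val + 1), ∃ hwn : polar Q (Φ.e k) wn = 0,
      (TG Q (Φ.e k) w (Φ.Qfr _) hw * g') ^ n = TG Q (Φ.e k) wn (Φ.Qfr _) hwn * g' ^ n := by
  induction n with
  | zero =>
    refine ⟨0, Submodule.zero_mem _, by simp, ?_⟩
    rw [pow_zero, pow_zero, mul_one, TG_zero]
  | succ n ih =>
    obtain ⟨wn, hwnW, hwn, he⟩ := ih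
    have hgnU : g' ^ n ∈ Φ.UU := Φ.UU.pow_mem hg'U n
    have hgnP : g' ^ n ∈ Φ.PP (k.val + 1) := (Φ.PP _).pow_mem hg'P n
    have hfix : toOG Q (g' ^ n) (Φ.e k) = Φ.e k :=
      Φ.UU_PP_apply_e hgnU k (fun a ha => hgnP a (by omega))
    have hW : toOG Q (g' ^ n) w ∈ Φ.Wk (k.val + 1) := Φ.PP_map_Wk hgnP hwW
    have hw2 : polar Q (Φ.e k) (toOG Q (g' ^ n) w) = 0 := by
      rw [polar_fr']; exact hW _ (by simp)
    refine ⟨wn + toOG Q (g' ^ n) w, Submodule.add_mem _ hwnW hW,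
      by rw [polar_add_right, hwn, hw2, add_zero], ?_⟩
    have hc : g' ^ n * TG Q (Φ.e k) w (Φ.Qfr _) hw * (g' ^ n)⁻¹ =
        TG Q (Φ.e k) (toOG Q (g' ^ n) w) (Φ.Qfr _) hw2 := by
      rw [conj_TG]
      exact TG_congr2 Q _ _ hfix rfl
    rw [pow_succ, he, ← TG_mul Q (Φ.Qfr _) hwn hw2, ← hc, pow_succ]
    group

lemma UU_pow (d k : ℕ) (hk : k + d = m) (g : ↥(Cfsg.isometryGroup F ⇑Q)) (hU : g ∈ Φ.UU)
    (hP : g ∈ Φ.PP k) : g ^ (p ^ d) = 1 := by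
  induction d generalizing k g with
  | zero =>
    have : k = m := by omega
    rw [this] at hP
    rw [pow_zero, pow_one]
    exact Φ.UU_inf_TT hU (Φ.PP_top_le_TT hP)
  | succ d ih =>
    have hkm : k < m := by omega
    set kk : Fin m := ⟨k, hkm⟩ with hkk
    have hc : toOG Q g (Φ.e kk) = (1 : F) • Φ.e kk := by
      rw [one_smul]; exact Φ.UU_PP_apply_e hU kk hP
    obtain ⟨w, hwW, hw, hx⟩ := Φ.clearF kk hP hc
    set x := TG Q (Φ.e kk) w (Φ.Qfr _) hw with hxdef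
    have hxU : x ∈ Φ.UU := Φ.TG_e_mem_UU kk hwW hw
    have hg'U : x⁻¹ * g ∈ Φ.UU := Φ.UU.mul_mem (Φ.UU.inv_mem hxU) hU
    have h1 := ih (k + 1) (by omega) _ hg'U hx
    obtain ⟨wn, hwnW, hwn, he⟩ := Φ.pow_decomp kk hwW hw hg'U hx (p ^ d)
    have e : x * (x⁻¹ * g) = g := by group
    rw [← hxdef, e, h1, mul_one] at he
    rw [pow_succ, pow_mul, he]
    exact TG_pow_char p _ _

theorem isPGroup_UU : IsPGroup p Φ.UU := by
  intro g
  refine ⟨m, ?_⟩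
  apply Subtype.ext
  rw [Subgroup.coe_pow, Subgroup.coe_one]
  exact Φ.UU_pow p m 0 (by omega) g.1 g.2 (fun a ha => absurd ha (Nat.not_lt_zero _))

end pgroup

end Frame

end Cfsg.Agent.Lib.Helper1.OrthBN
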