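/-
helper1: leaf (U) of S4711 (planner helper6).  Let `H` be a normal subgroup of `G` containing
`P C_G(P)` for a Sylow `p`-subgroup `P`.  Then every irreducible character of `G` lying over a
member of the principal block of `H` lies in the principal block of `G`.

Proof: the block `B` of `χ` covers `B₀(H)`, so (S4438, S4652) it has a defect group `D` with
`D ⊓ H = P`, i.e. `D = P`; by S0929 the central character of `χ` lies in the local ideal at every
element outside `H`; on `H` the sum over the `p`-regular elements is computed by Clifford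
(`omega_restrict_eq`) from `θ`, where it is a unit (`mem_principalBlock_iff`).
-/
import Mathlib
import Cfsg.Agent.S4438
import Cfsg.Agent.S4652
import Cfsg.Agent.S0929
import Cfsg.Agent.Lib.Helper6.ThirdMain
import Cfsg.Agent.Lib.Lead.OddIndexBlock
import Cfsg.Agent.Lib.Helper23.DefectRadical

set_option autoImplicit false

namespace Cfsg.Agent.Lib.Helper1.PLenBlkU

open Cfsg Cfsg.Agent.CharLib Cfsg.Agent.Lib.Helper24 Cfsg.Agent.Lib.Helper6

universe u

variable {G : Type u} [Group G] [Finite G]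

/-- Outside `H ⊇ P C_G(P)` the central character of a character lying over the principal block
of `H` lies in the local ideal. -/
theorem memLocalIdeal_centralChar_of_not_mem (p : ℕ) [Fact p.Prime] (M : Ideal AlgInt)
    (hM : IsPModular p M) (P : Sylow p G) (H : Subgroup G) [hH : H.Normal] [Fintype ↥H]
    (hPH : (P : Subgroup G) ≤ H)
    (hCH : Subgroup.centralizer ((P : Subgroup G) : Set G) ≤ H)
    (χ : IrrCharacter G) (θ : IrrCharacter ↥H) (hθ : θ ∈ principalBlock M ↥H)
    (hχθ : classInner (fun h : ↥H => (χ : G → ℂ) h) (θ : ↥H → ℂ) ≠ 0) (g : G) (hg : g ∉ H) :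
    MemLocalIdeal M (centralChar (χ : G → ℂ) g) := by
  classical
  by_contra hcon
  have hprime : M.IsPrime := isPrime_of_isPModular hM
  let _ : Fintype G := Fintype.ofFinite G
  have hB : IsPBlock M (blockOf M (χ : G → ℂ)) := ⟨χ, rfl⟩
  have hχB : χ ∈ blockOf M (χ : G → ℂ) := mem_blockOf_self χ
  have hb : IsPBlock M (principalBlock M ↥H) := ⟨Cfsg.Agent.CharLib.trivIrr ↥H, rfl⟩
  have hQ : IsDefectGroup p M (principalBlock M ↥H) ((P : Subgroup G).subgroupOf H) := by
    rw [Cfsg.Agent.S4652.result p M hM]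
    exact ⟨P.subtype hPH, Sylow.coe_subtype ..⟩
  obtain ⟨D, hD, hDH⟩ := Cfsg.Agent.S4438.result p M hM H (principalBlock M ↥H) hb
    (P : Subgroup G) hPH hQ (blockOf M (χ : G → ℂ)) hB ⟨χ, hχB, θ, hθ, hχθ⟩
  have hDp : IsPGroup p D :=
    Cfsg.Agent.Lib.Helper23.isPGroup_of_isDefectGroup' p M _ D hD
  have hPD : (P : Subgroup G) ≤ D := by
    rw [← hDH]
    exact inf_le_left
  have hDP : D = (P : Subgroup G) := P.is_maximal' hDp hPD
  obtain ⟨x, hgx, hxC, -⟩ := Cfsg.Agent.S0929.result p M hM _ hB D hD g ⟨χ, hχB, hcon⟩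
  rw [hDP] at hxC
  have hxH : x ∈ H := hCH hxC
  obtain ⟨c, hc⟩ := isConj_iff.mp hgx
  apply hg
  have h1 : g = c⁻¹ * x * c⁻¹⁻¹ := by
    rw [← hc]
    group
  rw [h1]
  exact hH.conj_mem x hxH c⁻¹

/-- **Leaf (U) of S4711.** -/
theorem mem_principalBlock_of_lies_over (p : ℕ) [Fact p.Prime] (M : Ideal AlgInt)
    (hM : IsPModular p M) (P : Sylow p G) (H : Subgroup G) [hH : H.Normal] [Fintype ↥H]
    (hPH : (P : Subgroup G) ≤ H)
    (hCH : Subgroup.centralizer ((P : Subgroup G) : Set G) ≤ H)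
    (χ : IrrCharacter G) (θ : IrrCharacter ↥H) (hθ : θ ∈ principalBlock M ↥H)
    (hχθ : classInner (fun h : ↥H => (χ : G → ℂ) h) (θ : ↥H → ℂ) ≠ 0) :
    χ ∈ principalBlock M G := by
  classical
  have hprime : M.IsPrime := isPrime_of_isPModular hM
  let _ : Fintype G := Fintype.ofFinite G
  rw [mem_principalBlock_iff hM χ]
  have hainv : ∀ (g : G) (n : ↥H), (pRegInd p : ↥H → ℂ) (conjN H g n) = pRegInd p n := by
    intro g n
    have h1 : orderOf (conjN H g n) = orderOf n := by
      rw [← Subgroup.orderOf_coe, ← Subgroup.orderOf_coe]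
      exact orderOf_conj_eq g (n : G)
    unfold pRegInd
    rw [h1]
  have hAcls : IsClassFunction G (extN H (pRegInd p : ↥H → ℂ)) := extN_isClassFunction H hainv
  have hRcls : IsClassFunction G ((pRegInd p : G → ℂ) - extN H (pRegInd p : ↥H → ℂ)) := by
    intro g h
    rw [Pi.sub_apply, Pi.sub_apply, pRegInd_isClassFunction p g h, hAcls g h]
  have hsplit : omegaFun (χ : G → ℂ) (pRegInd p) =
      omegaFun (χ : G → ℂ) (extN H (pRegInd p : ↥H → ℂ)) +
        omegaFun (χ : G → ℂ) ((pRegInd p : G → ℂ) - extN H (pRegInd p : ↥H → ℂ)) := by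
    rw [← omegaFun_add]
    congr 1
    funext g
    simp
  have hA : omegaFun (χ : G → ℂ) (extN H (pRegInd p : ↥H → ℂ)) =
      omegaFun (θ : ↥H → ℂ) (pRegInd p) := by
    rw [omegaFun_extN, omega_restrict_eq H χ.2 θ.2 hχθ (pRegInd p) hainv]
    rfl
  have hunit : ¬ MemLocalIdeal M (omegaFun (θ : ↥H → ℂ) (pRegInd p)) :=
    (mem_principalBlock_iff hM θ).mp hθ
  have hR : MemLocalIdeal M
      (omegaFun (χ : G → ℂ) ((pRegInd p : G → ℂ) - extN H (pRegInd p : ↥H → ℂ))) := by
    let _ : Fintype (ConjClasses G) := Fintype.ofFinite _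
    rw [omegaFun_eq_sum_conjClasses χ hRcls]
    apply sum_memLocalIdeal
    intro C _
    by_cases hC : Quotient.out C ∈ H
    · have h0 : ((pRegInd p : G → ℂ) - extN H (pRegInd p : ↥H → ℂ)) (Quotient.out C) = 0 := by
        have h1 := extN_apply_mem H (pRegInd p : ↥H → ℂ) ⟨Quotient.out C, hC⟩
        rw [Pi.sub_apply]
        have h2 : extN H (pRegInd p : ↥H → ℂ) (Quotient.out C) =
            (pRegInd p : ↥H → ℂ) ⟨Quotient.out C, hC⟩ := h1
        rw [h2]
        unfold pRegInd
        rw [← Subgroup.orderOf_coe]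
        exact sub_self _
      rw [h0, zero_mul]
      exact memLocalIdeal_zero hprime.one_notMem
    · apply memLocalIdeal_mul_left
      · rw [Pi.sub_apply, extN_apply_not_mem H _ hC, sub_zero]
        exact memLocalRing_pRegInd p _
      · exact memLocalIdeal_centralChar_of_not_mem p M hM P H hPH hCH χ θ hθ hχθ _ hC
  intro hmem
  apply hunit
  rw [← hA]
  have h3 := memLocalIdeal_sub hmem hR
  rwa [hsplit, add_sub_cancel_right] at h3

end Cfsg.Agent.Lib.Helper1.PLenBlkU
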