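/-
helper1: leaf L2 of S4711 (planner helper6).  For a normal subgroup `H` of `G` containing
`P C_G(P)` (`P` a Sylow `p`-subgroup), `λ(G) = |G : H| λ(H)`, where `λ(X)` is the sum of the
squares of the degrees of the characters in the principal `p`-block of `X`.

Proof: the Frobenius reciprocity count of S4708 (helper6), where the inequality
`λ(G) ≤ |G : H| λ(H)` becomes an equality because every character of `G` lying over a member of
`B₀(H)` lies in `B₀(G)` (leaf (U), `PLenBlkU.mem_principalBlock_of_lies_over`).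
-/
import Mathlib
import Cfsg.Agent.S4708
import Cfsg.Agent.Lib.Helper1.PLenBlkU

set_option autoImplicit false

namespace Cfsg.Agent.Lib.Helper1.PLenBlkL2

open Cfsg Cfsg.Agent.CharLib Cfsg.Agent.Lib.Helper24 Cfsg.Agent.Lib.Helper6
open scoped ComplexConjugate

universe u

/-- the combinatorial part, equality version -/
theorem comb_eq {A B : Type*} [Fintype A] [Fintype B] (D : A → ℕ) (d : B → ℕ)
    (c : A → B → ℕ)
    (sA : Finset A) (sB : Finset B) (n : ℕ)
    (F1 : ∀ a, D a = ∑ b, c a b * d b)
    (F2 : ∀ b, ∑ a, c a b * D a = n * d b)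
    (F4 : ∀ a ∈ sA, ∀ b, c a b ≠ 0 → b ∈ sB)
    (F5 : ∀ b ∈ sB, ∀ a, c a b ≠ 0 → a ∈ sA) :
    ∑ a ∈ sA, D a ^ 2 = n * ∑ b ∈ sB, d b ^ 2 := by
  classical
  have h1 : ∀ a ∈ sA, D a ^ 2 = ∑ b ∈ sB, D a * (c a b * d b) := by
    intro a ha
    rw [sq, ← Finset.mul_sum]
    congr 1
    rw [F1 a]
    symm
    apply Finset.sum_subset (Finset.subset_univ _)
    intro b _ hb
    have : c a b = 0 := by
      by_contra hc
      exact hb (F4 a ha b hc)
    rw [this, zero_mul]
  calc ∑ a ∈ sA, D a ^ 2 = ∑ a ∈ sA, ∑ b ∈ sB, D a * (c a b * d b) :=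
        Finset.sum_congr rfl h1
    _ = ∑ b ∈ sB, ∑ a ∈ sA, D a * (c a b * d b) := Finset.sum_comm
    _ = ∑ b ∈ sB, d b * ∑ a ∈ sA, c a b * D a := by
        apply Finset.sum_congr rfl
        intro b _
        rw [Finset.mul_sum]
        apply Finset.sum_congr rfl
        intro a _
        ring
    _ = ∑ b ∈ sB, d b * (n * d b) := by
        apply Finset.sum_congr rfl
        intro b hb
        congr 1
        rw [← F2 b]
        apply Finset.sum_subset (Finset.subset_univ _)
        intro a _ ha
        have : c a b = 0 := by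
          by_contra hc
          exact ha (F5 b hb a hc)
        rw [this, zero_mul]
    _ = n * ∑ b ∈ sB, d b ^ 2 := by
        rw [Finset.mul_sum]
        apply Finset.sum_congr rfl
        intro b _
        ring

/-- **Leaf L2 of S4711**: `λ(G) = |G : H| λ(H)` for `H` normal containing `P C_G(P)`. -/
theorem lambda_eq {G : Type u} [Group G] [Finite G] (p : ℕ) [Fact p.Prime]
    (M : Ideal AlgInt) (hM : IsPModular p M) (P : Sylow p G) (H : Subgroup G) [hH : H.Normal]
    (hPH : (P : Subgroup G) ≤ H)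
    (hCH : Subgroup.centralizer ((P : Subgroup G) : Set G) ≤ H) :
    (∑ᶠ χ ∈ principalBlock M G, charDegree (χ : G → ℂ) ^ 2) =
      H.index * ∑ᶠ θ ∈ principalBlock M ↥H, charDegree (θ : ↥H → ℂ) ^ 2 := by
  classical
  let _ : Fintype G := Fintype.ofFinite G
  let _ : Fintype H := Fintype.ofFinite H
  let _ : Fintype (IrrCharacter G) := fintypeIrr G
  let _ : Fintype (IrrCharacter H) := fintypeIrr H
  have hc : ∀ (χ : IrrCharacter G) (θ : IrrCharacter H), ∃ n : ℕ,
      classInner (resFun H (χ : G → ℂ)) (θ : H → ℂ) = n := fun χ θ =>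
    IsCharacter.classInner_nat (isCharacter_resFun H (IsIrrCharacter.isCharacter χ.2))
      (IsIrrCharacter.isCharacter θ.2)
  choose c hc using hc
  rw [finsum_mem_eq_sum_ite, finsum_mem_eq_sum_ite, ← Finset.sum_filter, ← Finset.sum_filter]
  apply comb_eq (fun χ : IrrCharacter G => charDegree (χ : G → ℂ))
    (fun θ : IrrCharacter H => charDegree (θ : H → ℂ)) c
  · -- F1
    intro χ
    have hcls : IsClassFunction H (resFun H (χ : G → ℂ)) :=
      IsCharacter.isClassFunction (isCharacter_resFun H (IsIrrCharacter.isCharacter χ.2))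
    have h1 := congrFun (classFunction_eq_sum hcls) 1
    rw [resFun_apply] at h1
    simp only [Finset.sum_apply, Pi.smul_apply, smul_eq_mul, hc, irr_apply_one] at h1
    have h2 : ((1 : H) : G) = 1 := rfl
    rw [h2, irr_apply_one] at h1
    exact_mod_cast h1
  · -- F2
    intro θ
    have hcls : IsClassFunction G (indFun H (θ : H → ℂ)) := indFun_isClassFunction H _
    have h1 := congrFun (classFunction_eq_sum hcls) 1
    rw [indFun_apply_one] at h1
    have hfr : ∀ χ : IrrCharacter G, classInner (indFun H (θ : H → ℂ)) (χ : G → ℂ) = c χ θ := by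
      intro χ
      rw [frobenius_reciprocity H (θ : H → ℂ)
        (IsCharacter.isClassFunction (IsIrrCharacter.isCharacter χ.2)), ← classInner_conj_symm]
      change conj (classInner (resFun H (χ : G → ℂ)) (θ : H → ℂ)) = _
      rw [hc, Complex.conj_natCast]
    simp only [Finset.sum_apply, Pi.smul_apply, smul_eq_mul, hfr, irr_apply_one] at h1
    have hG : (Nat.card G : ℂ) = (Nat.card H : ℂ) * (H.index : ℂ) := by
      rw [← Nat.cast_mul, Subgroup.card_mul_index]
    have hH' : (Nat.card H : ℂ) ≠ 0 := Nat.cast_ne_zero.mpr Nat.card_pos.ne'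
    rw [hG, ← mul_assoc, inv_mul_cancel₀ hH', one_mul] at h1
    exact_mod_cast h1.symm
  · -- F4
    intro χ hχ θ hne
    rw [Finset.mem_filter] at hχ
    refine Finset.mem_filter.mpr ⟨Finset.mem_univ _, ?_⟩
    apply Cfsg.Agent.S4708.constituent_mem_principal H p M hM χ hχ.2 θ
    rw [hc]
    exact_mod_cast hne
  · -- F5
    intro θ hθ χ hne
    rw [Finset.mem_filter] at hθ
    refine Finset.mem_filter.mpr ⟨Finset.mem_univ _, ?_⟩
    apply Cfsg.Agent.Lib.Helper1.PLenBlkU.mem_principalBlock_of_lies_over p M hM P H hPH hCH χ θ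
      hθ.2
    change classInner (resFun H (χ : G → ℂ)) (θ : H → ℂ) ≠ 0
    rw [hc]
    exact_mod_cast hne

end Cfsg.Agent.Lib.Helper1.PLenBlkL2
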