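/-
helper1: glue leaf for S4711 (planner helper6).  If `S` is a set of irreducible characters of `G`
all of which have the subgroup `H` in their kernel, then `∑_{χ ∈ S} χ(1)² ≤ |G : H|`.

Proof: `∑_χ χ(1) χ(h)` is the regular character, so `∑_χ χ(1) ∑_{h ∈ H} χ(h) = |G|`; each inner sum
is `|H| [χ_H, 1_H]`, a nonnegative multiple of `|H|`, equal to `|H| χ(1)` when `H ≤ ker χ`.
-/
import Mathlib
import Cfsg.Agent.Lib.Helper6.Clifford
import Cfsg.Agent.Lib.Lead.CharMain
import Cfsg.Agent.Lib.Lead.CharEquiv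
import Cfsg.Agent.Lib.Lead.CharDecomp
import Cfsg.Agent.Lib.Helper24.IrrFacts

set_option autoImplicit false

namespace Cfsg.Agent.Lib.Helper1.PLenBlkL9

open Cfsg Cfsg.Agent.CharLib Cfsg.Agent.Lib.Helper24 Cfsg.Agent.Lib.Helper6
open scoped ComplexConjugate

universe u

variable {G : Type u} [Group G] [Finite G]

theorem sum_degree_sq_le_index (H : Subgroup G) (S : Finset (IrrCharacter G))
    (hS : ∀ χ ∈ S, ∀ h ∈ H, (χ : G → ℂ) h = (χ : G → ℂ) 1) :
    ∑ χ ∈ S, charDegree (χ : G → ℂ) ^ 2 ≤ H.index := by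
  classical
  let _ : Fintype G := Fintype.ofFinite G
  let _ : Fintype H := Fintype.ofFinite H
  let _ : Fintype (IrrCharacter G) := fintypeIrr G
  -- multiplicities of the trivial character
  have hc : ∀ χ : IrrCharacter G, ∃ n : ℕ,
      classInner (resFun H (χ : G → ℂ)) (1 : H → ℂ) = n := fun χ =>
    IsCharacter.classInner_nat (isCharacter_resFun H (IsIrrCharacter.isCharacter χ.2))
      isCharacter_one
  choose c hc using hc
  have hH0 : (Nat.card H : ℂ) ≠ 0 := Nat.cast_ne_zero.mpr Nat.card_pos.ne'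
  have hsumH : ∀ χ : IrrCharacter G, ∑ h : H, (χ : G → ℂ) h = (Nat.card H : ℂ) * (c χ : ℂ) := by
    intro χ
    rw [← hc χ]
    unfold classInner
    rw [← mul_assoc, mul_inv_cancel₀ hH0, one_mul]
    apply Finset.sum_congr rfl
    intro h _
    rw [resFun_apply, Pi.one_apply, map_one, mul_one]
  -- the regular character
  have hreg : ∀ g : G, ∑ χ : IrrCharacter G, (χ : G → ℂ) 1 * (χ : G → ℂ) g =
      if g = 1 then (Nat.card G : ℂ) else 0 := by
    intro g
    have h := congrFun (leftRegular_character_eq_finsum (G := G)) g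
    rw [leftRegular_character, finsum_eq_sum_of_fintype, Finset.sum_apply] at h
    rw [h]
    apply Finset.sum_congr rfl
    intro χ _
    rw [Pi.smul_apply, smul_eq_mul]
  have htot : ∑ χ : IrrCharacter G, (charDegree (χ : G → ℂ) : ℂ) *
      ((Nat.card H : ℂ) * (c χ : ℂ)) = (Nat.card G : ℂ) := by
    have h1 : ∑ χ : IrrCharacter G, (charDegree (χ : G → ℂ) : ℂ) *
        ((Nat.card H : ℂ) * (c χ : ℂ)) =
        ∑ h : H, ∑ χ : IrrCharacter G, (χ : G → ℂ) 1 * (χ : G → ℂ) h := by
      rw [Finset.sum_comm]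
      apply Finset.sum_congr rfl
      intro χ _
      rw [← hsumH χ, ← irr_apply_one, Finset.mul_sum]
    rw [h1]
    have h2 : ∀ h : H, ∑ χ : IrrCharacter G, (χ : G → ℂ) 1 * (χ : G → ℂ) h =
        if h = 1 then (Nat.card G : ℂ) else 0 := by
      intro h
      rw [hreg (h : G)]
      have : ((h : G) = 1) ↔ h = 1 := by
        constructor
        · intro hh; exact Subtype.ext hh
        · intro hh; rw [hh]; rfl
      simp only [this]
    rw [Finset.sum_congr rfl (fun h _ => h2 h), Finset.sum_ite_eq' Finset.univ (1 : H),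
      if_pos (Finset.mem_univ _)]
  -- natural number version
  have htotN : ∑ χ : IrrCharacter G, charDegree (χ : G → ℂ) * (Nat.card H * c χ) = Nat.card G := by
    have : ((∑ χ : IrrCharacter G, charDegree (χ : G → ℂ) * (Nat.card H * c χ) : ℕ) : ℂ) =
        (Nat.card G : ℂ) := by
      rw [← htot]
      push_cast
      rfl
    exact_mod_cast this
  have hcS : ∀ χ ∈ S, c χ = charDegree (χ : G → ℂ) := by
    intro χ hχ
    have h0 : ∀ h : H, (χ : G → ℂ) h = (χ : G → ℂ) 1 := fun h => hS χ hχ (h : G) h.2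
    have h1 : ∑ h : H, (χ : G → ℂ) h = (Nat.card H : ℂ) * (χ : G → ℂ) 1 := by
      rw [Finset.sum_congr rfl (fun h _ => h0 h), Finset.sum_const,
        Finset.card_univ, nsmul_eq_mul, Nat.card_eq_fintype_card]
    rw [hsumH χ, irr_apply_one] at h1
    have h2 := mul_left_cancel₀ hH0 h1
    exact_mod_cast h2
  have hle : Nat.card H * ∑ χ ∈ S, charDegree (χ : G → ℂ) ^ 2 ≤ Nat.card H * H.index := by
    rw [Subgroup.card_mul_index, ← htotN, Finset.mul_sum]
    calc ∑ χ ∈ S, Nat.card H * charDegree (χ : G → ℂ) ^ 2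
        = ∑ χ ∈ S, charDegree (χ : G → ℂ) * (Nat.card H * c χ) := by
          apply Finset.sum_congr rfl
          intro χ hχ
          rw [hcS χ hχ]
          ring
      _ ≤ ∑ χ : IrrCharacter G, charDegree (χ : G → ℂ) * (Nat.card H * c χ) :=
          Finset.sum_le_sum_of_subset (Finset.subset_univ _)
  exact Nat.le_of_mul_le_mul_left hle Nat.card_pos

/-- finsum / `Set` version -/
theorem finsum_degree_sq_le_index (H : Subgroup G) (T : Set (IrrCharacter G))
    (hT : ∀ χ ∈ T, ∀ h ∈ H, (χ : G → ℂ) h = (χ : G → ℂ) 1) :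
    ∑ᶠ χ ∈ T, charDegree (χ : G → ℂ) ^ 2 ≤ H.index := by
  classical
  let _ : Fintype G := Fintype.ofFinite G
  let _ : Fintype (IrrCharacter G) := fintypeIrr G
  rw [finsum_mem_eq_sum_ite, ← Finset.sum_filter]
  apply sum_degree_sq_le_index H
  intro χ hχ
  rw [Finset.mem_filter] at hχ
  exact hT χ hχ.2

end Cfsg.Agent.Lib.Helper1.PLenBlkL9
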