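/-
helper1: assembly of the (⇐) direction of S4711 (planner helper6; Isaacs–Smith): if every member of
the principal `p`-block restricts irreducibly to `N_G(P)`, then `G` has `p`-length at most one.
Leaves: (U), L2, L9 (helper1), L3/L4 (helper8), L5, L6 (helper17), L7 (helper15).
-/
import Mathlib
import Cfsg.Agent.Lib.Helper1.PLenBlkU
import Cfsg.Agent.Lib.Helper1.PLenBlkL2
import Cfsg.Agent.Lib.Helper1.PLenBlkL9
import Cfsg.Agent.Lib.Helper8.PLenBlkL4
import Cfsg.Agent.Lib.Helper17.PLenBlkL5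
import Cfsg.Agent.Lib.Helper17.PLenBlkL6
import Cfsg.Agent.Lib.Helper15.PLenNormal
import Cfsg.Agent.Lib.Helper6.Osima2

set_option autoImplicit false

namespace Cfsg.Agent.Lib.Helper1.PLenBlkBwd

open Cfsg Cfsg.Agent.CharLib Cfsg.Agent.Lib.Helper24 Cfsg.Agent.Lib.Helper6
  Cfsg.Agent.Lib.Helper25
open scoped ComplexConjugate

universe u

variable {G : Type u} [Group G] [Finite G]

/-- `Σ_{χ ∈ B₀} χ(1) χ(x) = 0` at a `p`-singular element. -/
theorem sum_principal_mul_eq_zero (p : ℕ) [Fact p.Prime] (M : Ideal AlgInt)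
    (hM : IsPModular p M) [Fintype (IrrCharacter G)] [DecidablePred (· ∈ principalBlock M G)]
    (x : G) (hx : p ∣ orderOf x) :
    ∑ χ ∈ (Finset.univ : Finset (IrrCharacter G)).filter (· ∈ principalBlock M G),
      (χ : G → ℂ) 1 * (χ : G → ℂ) x = 0 := by
  classical
  let _ : Fintype G := Fintype.ofFinite G
  have h := blockCoeff_eq_zero_of_dvd_orderOf hM (Cfsg.Agent.CharLib.trivIrr G) x hx
  have hB : blockOf M ((Cfsg.Agent.CharLib.trivIrr G : IrrCharacter G) : G → ℂ) =
      principalBlock M G := rfl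
  rw [hB] at h
  unfold blockCoeff at h
  have hG0 : (Nat.card G : ℂ)⁻¹ ≠ 0 := inv_ne_zero (Nat.cast_ne_zero.mpr Nat.card_pos.ne')
  have h1 := (mul_eq_zero.mp h).resolve_left hG0
  rw [finsum_mem_eq_sum_ite, ← Finset.sum_filter] at h1
  have h2 := congrArg conj h1
  rw [map_sum, map_zero] at h2
  rw [← h2]
  apply Finset.sum_congr rfl
  intro χ _
  rw [map_mul, Complex.conj_conj,
    IsCharacter.conj_apply_one (IsIrrCharacter.isCharacter χ.2)]

omit [Finite G] in
theorem dvd_orderOf_of_mem_sylow (p : ℕ) [Fact p.Prime] (P : Sylow p G) (x : G)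
    (hx : x ∈ (P : Subgroup G)) (hx1 : x ≠ 1) : p ∣ orderOf x := by
  obtain ⟨k, hk⟩ := (IsPGroup.iff_orderOf.mp P.isPGroup') ⟨x, hx⟩
  rw [Subgroup.orderOf_mk] at hk
  rw [hk]
  cases k with
  | zero =>
    exfalso
    rw [pow_zero, orderOf_eq_one_iff] at hk
    exact hx1 hk
  | succ k => exact dvd_pow_self p (Nat.succ_ne_zero k)

/-- **(⇐) of S4711**, with leaf L6 as a hypothesis. -/
theorem backward_of (p : ℕ) [Fact p.Prime] (M : Ideal AlgInt) (hM : IsPModular p M)
    (P : Sylow p G)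
    (hL6 : ∀ (H : Subgroup G) (Q : Sylow p ↥H),
      (∑ᶠ θ ∈ principalBlock M ↥H, charDegree (θ : ↥H → ℂ) ^ 2) ≤ Nat.card Q →
        HasNormalPComplement p ↥H)
    (hres : ∀ χ ∈ principalBlock M G,
      IsIrrCharacter ↥(Subgroup.normalizer ((P : Subgroup G) : Set G))
        (fun n : ↥(Subgroup.normalizer ((P : Subgroup G) : Set G)) => (χ : G → ℂ) n)) :
    PLengthLE p 1 G := by
  classical
  let _ : Fintype G := Fintype.ofFinite G
  let _ : Fintype (IrrCharacter G) := fintypeIrr G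
  -- the normal subgroup `H`
  set H : Subgroup G := Subgroup.normalClosure
    (((P : Subgroup G) : Set G) ∪ (Subgroup.centralizer ((P : Subgroup G) : Set G) : Set G))
    with hHdef
  have hHn : H.Normal := Subgroup.normalClosure_normal
  have hPH : (P : Subgroup G) ≤ H := fun x hx =>
    Subgroup.subset_normalClosure (Or.inl hx)
  have hCH : Subgroup.centralizer ((P : Subgroup G) : Set G) ≤ H := fun x hx =>
    Subgroup.subset_normalClosure (Or.inr hx)
  -- the principal block as a finset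
  set sB : Finset (IrrCharacter G) :=
    (Finset.univ : Finset (IrrCharacter G)).filter (· ∈ principalBlock M G) with hsB
  set T : Finset (IrrCharacter G) :=
    sB.filter (fun χ => ∀ x ∈ (P : Subgroup G), (χ : G → ℂ) x = (χ : G → ℂ) 1) with hT
  -- helper8's count
  have hcoe : Function.Injective (fun χ : IrrCharacter G => (χ : G → ℂ)) := Subtype.val_injective
  have hL34 := Cfsg.Agent.Lib.Helper8.PLenBlk.lambda_eq (P : Subgroup G)
    (Subgroup.normalizer ((P : Subgroup G) : Set G)) Subgroup.le_normalizer le_rfl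
    (sB.image (fun χ : IrrCharacter G => (χ : G → ℂ)))
    (by
      intro f hf
      obtain ⟨χ, hχ, rfl⟩ := Finset.mem_image.mp hf
      exact hres χ (Finset.mem_filter.mp hχ).2)
    (by
      intro x hx hx1
      rw [Finset.sum_image (fun a _ b _ h => hcoe h)]
      exact sum_principal_mul_eq_zero p M hM x (dvd_orderOf_of_mem_sylow p P x hx hx1))
  have e2 : ∀ (inst : DecidablePred (fun f : G → ℂ => ∀ x ∈ (P : Subgroup G), f x = f 1)),
      ∑ f ∈ @Finset.filter _ (fun f : G → ℂ => ∀ x ∈ (P : Subgroup G), f x = f 1) inst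
        (sB.image (fun χ : IrrCharacter G => (χ : G → ℂ))), f 1 * f 1 =
      ∑ χ ∈ T, (χ : G → ℂ) 1 * (χ : G → ℂ) 1 := by
    intro inst
    have hset : @Finset.filter _ (fun f : G → ℂ => ∀ x ∈ (P : Subgroup G), f x = f 1) inst
        (sB.image (fun χ : IrrCharacter G => (χ : G → ℂ))) =
        T.image (fun χ : IrrCharacter G => (χ : G → ℂ)) := by
      ext f
      simp only [Finset.mem_filter, Finset.mem_image, hT]
      constructor
      · rintro ⟨⟨χ, hχ, rfl⟩, hf⟩
        exact ⟨χ, ⟨hχ, hf⟩, rfl⟩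
      · rintro ⟨χ, ⟨hχ, hf⟩, rfl⟩
        exact ⟨⟨χ, hχ, rfl⟩, hf⟩
    rw [hset, Finset.sum_image (fun a _ b _ h => hcoe h)]
  rw [Finset.sum_image (fun a _ b _ h => hcoe h), e2] at hL34
  -- to natural numbers
  have hlamN : ∑ χ ∈ sB, charDegree (χ : G → ℂ) ^ 2 =
      Nat.card (P : Subgroup G) * ∑ χ ∈ T, charDegree (χ : G → ℂ) ^ 2 := by
    have : ((∑ χ ∈ sB, charDegree (χ : G → ℂ) ^ 2 : ℕ) : ℂ) =
        ((Nat.card (P : Subgroup G) * ∑ χ ∈ T, charDegree (χ : G → ℂ) ^ 2 : ℕ) : ℂ) := by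
      push_cast
      have e1 : ∀ χ : IrrCharacter G, ((charDegree (χ : G → ℂ) : ℂ)) ^ 2 =
          (χ : G → ℂ) 1 * (χ : G → ℂ) 1 := by
        intro χ
        rw [irr_apply_one, sq]
      rw [Finset.sum_congr rfl (fun χ _ => e1 χ), Finset.sum_congr rfl (fun χ _ => e1 χ)]
      exact hL34
    exact_mod_cast this
  -- the characters in `T` have `H` in their kernel
  have hTker : ∀ χ ∈ T, ∀ h ∈ H, (χ : G → ℂ) h = (χ : G → ℂ) 1 := by
    intro χ hχ h hh
    rw [hT, Finset.mem_filter] at hχ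
    have hχB : χ ∈ principalBlock M G := (Finset.mem_filter.mp hχ.1).2
    have hPk : (P : Subgroup G) ≤ irrKer χ := fun x hx => (mem_irrKer χ x).mpr (hχ.2 x hx)
    have hCk := Cfsg.Agent.Lib.Helper17.PLenBlkL5.centralizer_le_irrKer p M hM P χ hχB hPk
    have hHk : H ≤ irrKer χ := by
      apply Subgroup.normalClosure_le_normal
      intro x hx
      rcases hx with hx | hx
      · exact hPk hx
      · exact hCk hx
    exact (mem_irrKer χ h).mp (hHk hh)
  have hTle : ∑ χ ∈ T, charDegree (χ : G → ℂ) ^ 2 ≤ H.index :=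
    Cfsg.Agent.Lib.Helper1.PLenBlkL9.sum_degree_sq_le_index H T hTker
  -- L2
  have hL2 := Cfsg.Agent.Lib.Helper1.PLenBlkL2.lambda_eq p M hM P H hPH hCH
  have hlamG : (∑ᶠ χ ∈ principalBlock M G, charDegree (χ : G → ℂ) ^ 2) =
      ∑ χ ∈ sB, charDegree (χ : G → ℂ) ^ 2 := by
    rw [finsum_mem_eq_sum_ite, ← Finset.sum_filter]
  rw [hlamG, hlamN] at hL2
  have hidx : 0 < H.index := Nat.pos_of_ne_zero Subgroup.index_ne_zero_of_finite
  have hlamH : (∑ᶠ θ ∈ principalBlock M ↥H, charDegree (θ : ↥H → ℂ) ^ 2) ≤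
      Nat.card (P.subtype hPH) := by
    have hcard : Nat.card (P.subtype hPH) = Nat.card (P : Subgroup G) := by
      have h1 : ((P.subtype hPH : Sylow p ↥H) : Subgroup ↥H) = (P : Subgroup G).subgroupOf H :=
        Sylow.coe_subtype ..
      change Nat.card ((P.subtype hPH : Sylow p ↥H) : Subgroup ↥H) = _
      rw [h1]
      exact Nat.card_congr (Subgroup.subgroupOfEquivOfLe hPH).toEquiv
    rw [hcard]
    apply Nat.le_of_mul_le_mul_left _ hidx
    rw [← hL2, mul_comm H.index]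
    exact Nat.mul_le_mul_left _ hTle
  have hnpc := hL6 H (P.subtype hPH) hlamH
  have hnd : ¬ p ∣ H.index := by
    intro hdvd
    exact P.not_dvd_index (dvd_trans hdvd (Subgroup.index_dvd_of_le hPH))
  exact Cfsg.Agent.Lib.Helper15.PLenBlk.pLengthLE_one_of_normal p H hnd hnpc

/-- **(⇐) of S4711** (Isaacs–Smith). -/
theorem backward (p : ℕ) [Fact p.Prime] (M : Ideal AlgInt) (hM : IsPModular p M)
    (P : Sylow p G)
    (hres : ∀ χ ∈ principalBlock M G,
      IsIrrCharacter ↥(Subgroup.normalizer ((P : Subgroup G) : Set G))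
        (fun n : ↥(Subgroup.normalizer ((P : Subgroup G) : Set G)) => (χ : G → ℂ) n)) :
    PLengthLE p 1 G :=
  backward_of p M hM P
    (fun _ Q hle =>
      Cfsg.Agent.Lib.Helper17.PLenBlkL6.hasNormalPComplement_of_lambda_le p M hM Q hle) hres

end Cfsg.Agent.Lib.Helper1.PLenBlkBwd
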