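import Mathlib

/-!
# Vocabulary for market "PR" (S3612: prime degree, `|N_G(P)| = p (p - 1) / 2`, `p > 7`:
the point stabilizer is primitive on the remaining points)

* `PR.ABlock G a B` : `B` is a block of the stabilizer of `a` on the points other than `a`
  (every `g` fixing `a` maps `B` into `B` or off `B`).
* `PR.NontrivABlock G a B` : such a block with at least two points, missing a point other than `a`.
* `PR.Coord G e` : in the coordinates `e : ZMod p ≃ Ω` every map `j ↦ u j + b` with `u` a non-zero
  square is induced by an element of `G`.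
* `PR.TwoTrans G Ω`, `PR.FewOrbits G Ω` : two-transitivity and "the two-point stabilizers have at
  most two orbits on the remaining points", in pointwise form.
* `PR.Star G star` : a `G`-equivariant symmetric "third point" map (Steiner triple system) whose
  two-point stabilizers are transitive off the line.
-/

set_option autoImplicit false

namespace Cfsg.Agent.Lib.Helper1.PR

/-- `B` is a block of the stabilizer of `a` on the points other than `a` -/
def ABlock (G : Type*) {Ω : Type*} [Group G] [MulAction G Ω] (a : Ω) (B : Set Ω) : Prop :=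
  a ∉ B ∧ ∀ g : G, g • a = a → (∀ y ∈ B, g • y ∈ B) ∨ (∀ y ∈ B, g • y ∉ B)

/-- a block of the stabilizer of `a` with at least two points that misses a point other than `a` -/
def NontrivABlock (G : Type*) {Ω : Type*} [Group G] [MulAction G Ω] (a : Ω) (B : Set Ω) : Prop :=
  ABlock G a B ∧ (∃ y ∈ B, ∃ y' ∈ B, y ≠ y') ∧ ∃ z : Ω, z ≠ a ∧ z ∉ B

/-- every map `j ↦ u j + b` with `u` a non-zero square is induced by an element of `G` -/
def Coord (G : Type*) {Ω : Type*} [Group G] [MulAction G Ω] {p : ℕ} (e : ZMod p ≃ Ω) : Prop :=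
  ∀ u b : ZMod p, u ≠ 0 → IsSquare u → ∃ n : G, ∀ j : ZMod p, n • e j = e (u * j + b)

/-- two-transitivity, pointwise -/
def TwoTrans (G : Type*) (Ω : Type*) [Group G] [MulAction G Ω] : Prop :=
  ∀ a b a' b' : Ω, a ≠ b → a' ≠ b' → ∃ g : G, g • a = a' ∧ g • b = b'

/-- the stabilizer of two points `α ≠ β` is transitive on every invariant set of points that
misses `α`, `β` and a third point -/
def FewOrbits (G : Type*) (Ω : Type*) [Group G] [MulAction G Ω] : Prop :=
  ∀ α β : Ω, α ≠ β → ∀ S : Set Ω,
    (∀ g : G, g • α = α → g • β = β → ∀ y ∈ S, g • y ∈ S) → α ∉ S → β ∉ S →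
    (∃ z : Ω, z ∉ S ∧ z ≠ α ∧ z ≠ β) →
    ∀ y ∈ S, ∀ y' ∈ S, ∃ g : G, g • α = α ∧ g • β = β ∧ g • y = y'

/-- an equivariant symmetric third-point map with two-point stabilizers transitive off the line -/
structure Star (G : Type*) {Ω : Type*} [Group G] [MulAction G Ω] (star : Ω → Ω → Ω) : Prop where
  equiv : ∀ (g : G) (a b : Ω), a ≠ b → g • star a b = star (g • a) (g • b)
  symm : ∀ a b : Ω, a ≠ b → star a b = star b a
  invol : ∀ a b : Ω, a ≠ b → star a (star a b) = b
  ne_left : ∀ a b : Ω, a ≠ b → star a b ≠ a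
  ne_right : ∀ a b : Ω, a ≠ b → star a b ≠ b
  trans : ∀ a b : Ω, a ≠ b → ∀ y y' : Ω, y ≠ a → y ≠ b → y ≠ star a b →
    y' ≠ a → y' ≠ b → y' ≠ star a b → ∃ g : G, g • a = a ∧ g • b = b ∧ g • y = y'

end Cfsg.Agent.Lib.Helper1.PR
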