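import Mathlib
import Cfsg.Agent.Lib.Helper1.PRDefs

set_option autoImplicit false

namespace Cfsg.Agent.Lib.Helper1.PRORB

open MulAction Cfsg.Agent.Lib.Helper1.PR

theorem PRORB {G Ω : Type*} [Group G] [MulAction G Ω] [Finite Ω]
    (h4 : ∀ α β : Ω, α ≠ β →
      Nat.card (MulAction.orbitRel.Quotient ↥(stabilizer G α ⊓ stabilizer G β) Ω) ≤ 4) :
    FewOrbits G Ω := by
  classical
  intro α β hαβ S hS hα hβ ⟨z, hz, hzα, hzβ⟩ y hy y' hy'
  by_contra hcon
  push Not at hcon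
  set H : Subgroup G := stabilizer G α ⊓ stabilizer G β with hH
  haveI : Fintype (MulAction.orbitRel.Quotient ↥H Ω) := Fintype.ofFinite _
  -- relation in the quotient
  have hrel : ∀ a b : Ω, (Quotient.mk'' a : MulAction.orbitRel.Quotient ↥H Ω) = Quotient.mk'' b →
      ∃ h : G, h • α = α ∧ h • β = β ∧ h • b = a := by
    intro a b hab
    rw [Quotient.eq''] at hab
    change a ∈ orbit ↥H b at hab
    obtain ⟨⟨h, hh⟩, hhb⟩ := hab
    rw [hH, Subgroup.mem_inf, mem_stabilizer_iff, mem_stabilizer_iff] at hh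
    exact ⟨h, hh.1, hh.2, hhb⟩
  have hfixα : ∀ b : Ω, (Quotient.mk'' α : MulAction.orbitRel.Quotient ↥H Ω) = Quotient.mk'' b →
      b = α := by
    intro b hb
    obtain ⟨h, h1, -, h3⟩ := hrel α b hb
    rw [← h1] at h3
    exact smul_left_cancel h h3
  have hfixβ : ∀ b : Ω, (Quotient.mk'' β : MulAction.orbitRel.Quotient ↥H Ω) = Quotient.mk'' b →
      b = β := by
    intro b hb
    obtain ⟨h, -, h2, h3⟩ := hrel β b hb
    rw [← h2] at h3
    exact smul_left_cancel h h3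
  have hzS : ∀ b ∈ S, (Quotient.mk'' z : MulAction.orbitRel.Quotient ↥H Ω) ≠ Quotient.mk'' b := by
    intro b hb hzb
    obtain ⟨h, h1, h2, h3⟩ := hrel z b hzb
    exact hz (h3 ▸ hS h h1 h2 b hb)
  have hyy' : (Quotient.mk'' y' : MulAction.orbitRel.Quotient ↥H Ω) ≠ Quotient.mk'' y := by
    intro h
    obtain ⟨h, h1, h2, h3⟩ := hrel y' y h
    exact hcon h h1 h2 h3
  have hnd : ([Quotient.mk'' α, Quotient.mk'' β, Quotient.mk'' z, Quotient.mk'' y,
      Quotient.mk'' y'] : List (MulAction.orbitRel.Quotient ↥H Ω)).Nodup := by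
    simp only [List.nodup_cons, List.mem_cons, List.not_mem_nil, or_false, not_or, List.nodup_nil,
      and_true]
    refine ⟨⟨?_, ?_, ?_, ?_⟩, ⟨?_, ?_, ?_⟩, ⟨?_, ?_⟩, ?_⟩
    · exact fun h => hαβ (hfixα β h).symm
    · exact fun h => hzα (hfixα z h)
    · exact fun h => hα (hfixα y h ▸ hy)
    · exact fun h => hα (hfixα y' h ▸ hy')
    · exact fun h => hzβ (hfixβ z h)
    · exact fun h => hβ (hfixβ y h ▸ hy)
    · exact fun h => hβ (hfixβ y' h ▸ hy')
    · exact hzS y hy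
    · exact hzS y' hy'
    · exact ⟨fun h => hyy' (Eq.symm h), not_false⟩
  have h5 := hnd.length_le_card
  have h6 : Nat.card (MulAction.orbitRel.Quotient ↥H Ω) ≤ 4 := h4 α β hαβ
  rw [Nat.card_eq_fintype_card] at h6
  simp only [List.length_cons, List.length_nil] at h5
  omega

end Cfsg.Agent.Lib.Helper1.PRORB
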