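import Mathlib
import Cfsg.Agent.Lib.Helper1.PRDefs

set_option autoImplicit false

namespace Cfsg.Agent.Lib.Helper1.PRSTAR

open MulAction Cfsg.Agent.Lib.Helper1.PR

section

variable {G Ω : Type*} [Group G] [MulAction G Ω]

/-- conjugation of blocks -/
theorem nontriv_conj (g : G) (a : Ω) (B : Set Ω) (hB : NontrivABlock G a B) :
    NontrivABlock G (g • a) ((fun y => g • y) '' B) := by
  obtain ⟨⟨haB, hblk⟩, ⟨y, hy, y', hy', hyy'⟩, ⟨z, hza, hzB⟩⟩ := hB
  refine ⟨⟨?_, ?_⟩, ⟨g • y, ⟨y, hy, rfl⟩, g • y', ⟨y', hy', rfl⟩, ?_⟩, ⟨g • z, ?_, ?_⟩⟩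
  · rintro ⟨y, hy, hya⟩
    exact haB (smul_left_cancel g hya ▸ hy)
  · intro k hk
    have hk' : (g⁻¹ * k * g) • a = a := by
      rw [mul_smul, mul_smul, hk, inv_smul_smul]
    have key : ∀ y : Ω, k • (g • y) = g • ((g⁻¹ * k * g) • y) := by
      intro y
      rw [mul_smul, mul_smul, smul_inv_smul]
    rcases hblk _ hk' with h | h
    · left
      rintro _ ⟨y, hy, rfl⟩
      exact ⟨_, h y hy, (key y).symm⟩
    · right
      rintro _ ⟨y, hy, rfl⟩ ⟨y2, hy2, he⟩
      simp only at he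
      rw [key y] at he
      exact h y hy (smul_left_cancel g he ▸ hy2)
  · exact fun h => hyy' (smul_left_cancel g h)
  · exact fun h => hza (smul_left_cancel g h)
  · rintro ⟨y, hy, he⟩
    exact hzB (smul_left_cancel g he ▸ hy)

/-- the partner relation -/
def P (G : Type*) {Ω : Type*} [Group G] [MulAction G Ω] (a b c : Ω) : Prop :=
  c ≠ b ∧ ∃ B : Set Ω, NontrivABlock G a B ∧ b ∈ B ∧ c ∈ B

theorem P_ne_left {a b c : Ω} (h : P G a b c) : c ≠ a := by
  obtain ⟨-, B, hB, -, hc⟩ := h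
  rintro rfl
  exact hB.1.1 hc

theorem P_ne_base {a b c : Ω} (h : P G a b c) : a ≠ b := by
  obtain ⟨-, B, hB, hb, -⟩ := h
  rintro rfl
  exact hB.1.1 hb

theorem P_smul (g : G) {a b c : Ω} (h : P G a b c) : P G (g • a) (g • b) (g • c) := by
  obtain ⟨hcb, B, hB, hb, hc⟩ := h
  exact ⟨fun h => hcb (smul_left_cancel g h), _, nontriv_conj g a B hB, ⟨b, hb, rfl⟩, ⟨c, hc, rfl⟩⟩

theorem P_swap {a b c : Ω} (h : P G a b c) : P G a c b := by
  obtain ⟨hcb, B, hB, hb, hc⟩ := h
  exact ⟨Ne.symm hcb, B, hB, hc, hb⟩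

end

theorem PRSTAR {G Ω : Type*} [Group G] [MulAction G Ω] [Finite Ω] (hcard : 4 < Nat.card Ω)
    (h2 : TwoTrans G Ω) (h4 : FewOrbits G Ω)
    (hsize : ∀ (a : Ω) (B : Set Ω), NontrivABlock G a B → ∀ b ∈ B, ∀ y ∈ B, ∀ y' ∈ B,
      y ≠ b → y' ≠ b → y = y')
    (hsym : ∀ (a b : Ω) (B : Set Ω), NontrivABlock G a B → b ∈ B →
      ABlock G b (insert a (B \ {b})))
    (a₀ : Ω) (B₀ : Set Ω) (hB₀ : NontrivABlock G a₀ B₀) :
    ∃ star : Ω → Ω → Ω, Star G star := by
  classical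
  haveI : Fintype Ω := Fintype.ofFinite Ω
  -- a point off any three points
  have hfour : ∀ a b c : Ω, ∃ z : Ω, z ≠ a ∧ z ≠ b ∧ z ≠ c := by
    intro a b c
    by_contra hcon
    push Not at hcon
    have hsub : (Finset.univ : Finset Ω) ⊆ {a, b, c} := by
      intro z _
      simp only [Finset.mem_insert, Finset.mem_singleton]
      by_cases h1 : z = a
      · exact Or.inl h1
      by_cases h2 : z = b
      · exact Or.inr (Or.inl h2)
      exact Or.inr (Or.inr (hcon z h1 h2))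
    have := Finset.card_le_card hsub
    rw [Finset.card_univ, ← Nat.card_eq_fintype_card] at this
    have h3 : ({a, b, c} : Finset Ω).card ≤ 3 := Finset.card_le_three
    omega
  -- existence
  have hex : ∀ a b : Ω, a ≠ b → ∃ c, P G a b c := by
    intro a b hab
    obtain ⟨y, hy, y', hy', hyy'⟩ := hB₀.2.1
    have ha₀y : a₀ ≠ y := fun h => hB₀.1.1 (h ▸ hy)
    obtain ⟨g, hga, hgb⟩ := h2 a₀ y a b ha₀y hab
    have := P_smul g (⟨Ne.symm hyy', B₀, hB₀, hy, hy'⟩ : P G a₀ y y')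
    rw [hga, hgb] at this
    exact ⟨_, this⟩
  -- two-point stabilizers fix the partner
  have hfix : ∀ a b c : Ω, P G a b c → ∀ h : G, h • a = a → h • b = b → h • c = c := by
    rintro a b c ⟨hcb, B, hB, hb, hc⟩ h ha hb'
    rcases hB.1.2 h ha with hin | hout
    · have h1 : h • c ∈ B := hin c hc
      have h2' : h • c ≠ b := by
        intro he
        rw [← hb'] at he
        exact hcb (smul_left_cancel h he)
      exact hsize a B hB b hb _ h1 _ hc h2' hcb
    · exact absurd (hb'.symm ▸ hb) (hout b hb)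
  -- the invariant set off a line
  have hinv : ∀ a b c : Ω, P G a b c → ∀ g : G, g • a = a → g • b = b →
      ∀ y ∈ {y : Ω | y ≠ a ∧ y ≠ b ∧ y ≠ c}, g • y ∈ {y : Ω | y ≠ a ∧ y ≠ b ∧ y ≠ c} := by
    intro a b c hP g ga gb y hy
    have gc := hfix a b c hP g ga gb
    refine ⟨?_, ?_, ?_⟩
    · intro h; rw [← ga] at h; exact hy.1 (smul_left_cancel g h)
    · intro h; rw [← gb] at h; exact hy.2.1 (smul_left_cancel g h)
    · intro h; rw [← gc] at h; exact hy.2.2 (smul_left_cancel g h)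
  have htrans : ∀ a b c : Ω, P G a b c → ∀ y y' : Ω, y ≠ a → y ≠ b → y ≠ c →
      y' ≠ a → y' ≠ b → y' ≠ c → ∃ g : G, g • a = a ∧ g • b = b ∧ g • y = y' := by
    intro a b c hP y y' h1 h2' h3 h1' h2'' h3'
    exact h4 a b (P_ne_base hP) {y : Ω | y ≠ a ∧ y ≠ b ∧ y ≠ c} (hinv a b c hP)
      (fun h => h.1 rfl) (fun h => h.2.1 rfl) ⟨c, fun h => h.2.2 rfl, P_ne_left hP, hP.1⟩
      y ⟨h1, h2', h3⟩ y' ⟨h1', h2'', h3'⟩
  -- uniqueness
  have huniq : ∀ a b c c' : Ω, P G a b c → P G a b c' → c = c' := by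
    intro a b c c' hP hP'
    by_contra hne
    have hall : ∀ y : Ω, y ≠ a → y ≠ b → y ≠ c → y = c' := by
      intro y h1 h2' h3
      obtain ⟨g, ga, gb, gy⟩ := htrans a b c hP c' y (P_ne_left hP') hP'.1 (Ne.symm hne) h1 h2' h3
      rw [← gy, hfix a b c' hP' g ga gb]
    have hsub : (Finset.univ : Finset Ω) ⊆ {a, b, c, c'} := by
      intro z _
      simp only [Finset.mem_insert, Finset.mem_singleton]
      by_cases h1 : z = a
      · exact Or.inl h1
      by_cases h2' : z = b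
      · exact Or.inr (Or.inl h2')
      by_cases h3 : z = c
      · exact Or.inr (Or.inr (Or.inl h3))
      exact Or.inr (Or.inr (Or.inr (hall z h1 h2' h3)))
    have := Finset.card_le_card hsub
    rw [Finset.card_univ, ← Nat.card_eq_fintype_card] at this
    have h4' : ({a, b, c, c'} : Finset Ω).card ≤ 4 := Finset.card_le_four
    omega
  -- the map
  let star : Ω → Ω → Ω := fun a b => if h : a ≠ b then Classical.choose (hex a b h) else a
  have hspec : ∀ a b : Ω, a ≠ b → P G a b (star a b) := by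
    intro a b hab
    simp only [star, dif_pos hab]
    exact Classical.choose_spec (hex a b hab)
  have heq : ∀ a b c : Ω, P G a b c → star a b = c :=
    fun a b c hP => huniq a b _ _ (hspec a b (P_ne_base hP)) hP
  refine ⟨star, ?_, ?_, ?_, ?_, ?_, ?_⟩
  · intro g a b hab
    exact (heq _ _ _ (P_smul g (hspec a b hab))).symm
  · intro a b hab
    obtain ⟨hcb, B, hB, hb, hc⟩ := hspec a b hab
    have hca : star a b ≠ a := P_ne_left (hspec a b hab)
    obtain ⟨z, hza, hzb, hzc⟩ := hfour a b (star a b)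
    have hB' : NontrivABlock G b (insert a (B \ {b})) := by
      refine ⟨hsym a b B hB hb, ⟨a, Set.mem_insert _ _, star a b,
        Set.mem_insert_of_mem _ ⟨hc, hcb⟩, Ne.symm hca⟩, ⟨z, hzb, ?_⟩⟩
      rintro (h | ⟨h, h'⟩)
      · exact hza h
      · exact hzc (hsize a B hB b hb z h _ hc h' hcb)
    exact (heq b a (star a b) ⟨hca, _, hB', Set.mem_insert _ _,
      Set.mem_insert_of_mem _ ⟨hc, hcb⟩⟩).symm
  · intro a b hab
    exact heq _ _ _ (P_swap (hspec a b hab))
  · intro a b hab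
    exact P_ne_left (hspec a b hab)
  · intro a b hab
    exact (hspec a b hab).1
  · intro a b hab y y' h1 h2' h3 h1' h2'' h3'
    exact htrans a b _ (hspec a b hab) y y' h1 h2' h3 h1' h2'' h3'

end Cfsg.Agent.Lib.Helper1.PRSTAR
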