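import Mathlib
import Cfsg.Agent.Lib.Helper1.PRDefs
import Cfsg.Agent.Lib.Helper1.Netto
import Cfsg.Agent.Lib.Helper1.PRSTAR
import Cfsg.Agent.Lib.Helper1.PRORB
import Cfsg.Agent.Lib.Helper10.PRNETTO
import Cfsg.Agent.Lib.Helper15.PRTWO
import Cfsg.Agent.Lib.Helper22.PR2T
import Cfsg.Agent.Lib.Helper22.PRBLK
import Cfsg.Agent.Lib.Helper22.PRRECOORD
import Cfsg.Agent.Lib.Helper22.PRWIRE
import Cfsg.Agent.Lib.Helper25.PRSQ
import Cfsg.Agent.Lib.Helper25.PRSYM

/-!
# S3612 - assembly of the "PR" market (planner: helper1)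

`G` insoluble, faithful and transitive on `Ω`, `|Ω| = p` prime, `2 |N_G(P)| = p (p - 1)`, `p > 7`
⟹ `G_α` is primitive on `Ω \ {α}`.  See `notes/S3612_leaves.lean` for the mathematics.
-/

set_option autoImplicit false

namespace Cfsg.Agent.Lib.Helper1.PRAsm

open MulAction Cfsg.Agent.Lib.Helper1.PR Cfsg.Agent.Lib.Helper1.Netto

/-- all non-trivial blocks have two points -/
theorem size_two {G Ω : Type*} [Group G] [MulAction G Ω] [Finite Ω] {p : ℕ} [Fact p.Prime]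
    (hodd : Odd (Nat.card Ω)) (h2 : TwoTrans G Ω) (h4 : FewOrbits G Ω)
    (e : ZMod p ≃ Ω) (hC : Coord G e) (a : Ω) (B : Set Ω) (hB : NontrivABlock G a B) :
    ∀ b ∈ B, ∀ y ∈ B, ∀ y' ∈ B, y ≠ b → y' ≠ b → y = y' := by
  intro b hb
  have hab : a ≠ b := fun h => hB.1.1 (h ▸ hb)
  obtain ⟨e', hC', h0, h1⟩ := Cfsg.Agent.Lib.Helper22.PRRECOORD.PRRECOORD e hC a b hab
  have hsym := Cfsg.Agent.Lib.Helper25.PRSYM.PRSYM hodd h2 h4 a b B hB hb
  rw [← h0] at hB hsym
  rw [← h1] at hb hsym ⊢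
  exact Cfsg.Agent.Lib.Helper15.PRTWO.PRTWO e' hC' B hB hb hsym

/-- the final contradiction from a `Star` -/
theorem star_absurd {G Ω : Type*} [Group G] [MulAction G Ω] {p : ℕ} [Fact p.Prime] (hp : 7 < p)
    (e : ZMod p ≃ Ω) (hC : Coord G e) (star : Ω → Ω → Ω) (hs : Star G star) : False := by
  obtain ⟨w, hw, h12, hop⟩ :=
    Cfsg.Agent.Lib.Helper10.PRNETTO.PRNETTO (by omega) e hC star hs
  have hstar : ∀ a b : ZMod p, a ≠ b → star (e a) (e b) = e (op w a b) := by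
    intro a b hab
    rw [← hop a b hab, Equiv.apply_symm_apply]
  have h01 : (0 : ZMod p) ≠ 1 := zero_ne_one
  have hw01 : star (e 0) (e 1) = e w := by rw [hstar 0 1 h01, op_zero_one]
  refine netto_absurd h12 hp w hw
    {f | ∃ h : G, h • e 0 = e 0 ∧ h • e 1 = e 1 ∧ f = fun j => e.symm (h • e j)} ?_ ?_ ?_ ?_
  · rintro f ⟨h, h0, -, rfl⟩
    simp only [h0, Equiv.symm_apply_apply]
  · rintro f ⟨h, -, h1, rfl⟩
    simp only [h1, Equiv.symm_apply_apply]
  · rintro f ⟨h, -, -, rfl⟩ a b hab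
    simp only
    have hne : e a ≠ e b := fun h => hab (e.injective h)
    have hne' : e.symm (h • e a) ≠ e.symm (h • e b) := by
      intro h'
      exact hne (smul_left_cancel h (e.symm.injective h'))
    rw [← hstar a b hab, hs.equiv h _ _ hne]
    have := hstar _ _ hne'
    rw [Equiv.apply_symm_apply, Equiv.apply_symm_apply] at this
    rw [this, Equiv.symm_apply_apply]
  · intro x y hx0 hx1 hxw hy0 hy1 hyw
    have hne : e 0 ≠ e 1 := fun h => h01 (e.injective h)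
    obtain ⟨g, g0, g1, gxy⟩ := hs.trans (e 0) (e 1) hne (e x) (e y)
      (fun h => hx0 (e.injective h)) (fun h => hx1 (e.injective h))
      (by rw [hw01]; exact fun h => hxw (e.injective h))
      (fun h => hy0 (e.injective h)) (fun h => hy1 (e.injective h))
      (by rw [hw01]; exact fun h => hyw (e.injective h))
    exact ⟨_, ⟨g, g0, g1, rfl⟩, by simp only [gxy, Equiv.symm_apply_apply]⟩

/-- **S3612**. -/
theorem main {G Ω : Type*} [Group G] [Finite G] [MulAction G Ω] [FaithfulSMul G Ω] [Finite Ω]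
    (p : ℕ) (hp : p.Prime) (hΩ : Nat.card Ω = p) (htrans : MulAction.IsPretransitive G Ω)
    (hins : ¬ Group.IsSolvable G) (P : Sylow p G)
    (hN : 2 * Nat.card ↥(Subgroup.normalizer ((P : Subgroup G) : Set G)) = p * (p - 1))
    (hp7 : 7 < p) (α : Ω) :
    MulAction.IsPreprimitive ↥(MulAction.stabilizer G α) ↥(SubMulAction.ofStabilizer G α) := by
  classical
  have : Fact p.Prime := ⟨hp⟩
  have : Fintype Ω := Fintype.ofFinite Ω
  have hΩ' : Fintype.card Ω = p := by rw [← Nat.card_eq_fintype_card, hΩ]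
  obtain ⟨h2', h4', x, e, hxN, hx, hNaff⟩ :=
    Cfsg.Agent.Lib.Helper22.PRWIRE.PRWIRE (by omega) hΩ' htrans hins P hN
  have hC : Coord G e := Cfsg.Agent.Lib.Helper25.PRSQ.PRSQ (by omega) e x hx _ hxN hNaff hN
  have h2 : TwoTrans G Ω := Cfsg.Agent.Lib.Helper22.PR2T.PR2T h2'
  have h4 : FewOrbits G Ω := Cfsg.Agent.Lib.Helper1.PRORB.PRORB h4'
  have hodd : Odd (Nat.card Ω) := by
    rw [hΩ]
    exact hp.odd_of_ne_two (by omega)
  apply Cfsg.Agent.Lib.Helper22.PRBLK.PRBLK α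
  · intro b b' hb hb'
    exact h2 α b α b' (Ne.symm hb) (Ne.symm hb')
  · intro B hB
    obtain ⟨star, hs⟩ := Cfsg.Agent.Lib.Helper1.PRSTAR.PRSTAR (by omega) h2 h4
      (fun a B hB => size_two hodd h2 h4 e hC a B hB)
      (fun a b B hB hb => Cfsg.Agent.Lib.Helper25.PRSYM.PRSYM hodd h2 h4 a b B hB hb) α B hB
    exact star_absurd hp7 e hC star hs

end Cfsg.Agent.Lib.Helper1.PRAsm
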