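import Mathlib
import Cfsg.Agent.Lib.Helper1.PRDefs

set_option autoImplicit false

namespace Cfsg.Agent.Lib.Helper1.PRSYM

open MulAction Cfsg.Agent.Lib.Helper1.PR

theorem PRSYM {G Ω : Type*} [Group G] [MulAction G Ω] [Finite Ω] (hodd : Odd (Nat.card Ω))
    (h2 : TwoTrans G Ω) (h4 : FewOrbits G Ω) (a b : Ω) (B : Set Ω)
    (hB : NontrivABlock G a B) (hb : b ∈ B) : ABlock G b (insert a (B \ {b})) := by
  classical
  obtain ⟨⟨haB, hblk⟩, ⟨y₁, hy₁, y₂, hy₂, hy₁₂⟩, ⟨z, hza, hzB⟩⟩ := hB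
  have hab : a ≠ b := fun h => haB (h ▸ hb)
  have hzb : z ≠ b := fun h => hzB (h ▸ hb)
  -- a point of `B` other than `b`
  obtain ⟨y₀, hy₀B, hy₀b⟩ : ∃ y₀ ∈ B, y₀ ≠ b := by
    by_cases h : y₁ = b
    · exact ⟨y₂, hy₂, fun h' => hy₁₂ (h.trans h'.symm)⟩
    · exact ⟨y₁, hy₁, h⟩
  have hy₀a : y₀ ≠ a := fun h => haB (h ▸ hy₀B)
  -- the two-point stabilizer preserves `B`
  have hHB : ∀ h : G, h • a = a → h • b = b → ∀ y ∈ B, h • y ∈ B := by
    intro h ha hb' y hy
    rcases hblk h ha with hin | hout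
    · exact hin y hy
    · exact absurd (hb'.symm ▸ hb) (hout b hb)
  have hinv : ∀ h : G, h • a = a → h • b = b → h⁻¹ • a = a ∧ h⁻¹ • b = b := by
    intro h ha hb'
    exact ⟨by rw [inv_smul_eq_iff, ha], by rw [inv_smul_eq_iff, hb']⟩
  -- invariance of the two sets
  have hO1 : ∀ h : G, h • a = a → h • b = b → ∀ y ∈ B \ {b}, h • y ∈ B \ {b} := by
    rintro h ha hb' y ⟨hy, hyb⟩
    refine ⟨hHB h ha hb' y hy, ?_⟩
    intro he
    apply hyb
    have : h • y = h • b := by rw [hb']; exact he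
    exact smul_left_cancel h this
  have hO2 : ∀ h : G, h • a = a → h • b = b → ∀ y ∈ {y : Ω | y ≠ a ∧ y ∉ B},
      h • y ∈ {y : Ω | y ≠ a ∧ y ∉ B} := by
    rintro h ha hb' y ⟨hya, hyB⟩
    refine ⟨?_, ?_⟩
    · intro he
      apply hya
      have : h • y = h • a := by rw [ha]; exact he
      exact smul_left_cancel h this
    · intro he
      apply hyB
      obtain ⟨ha', hb''⟩ := hinv h ha hb'
      have := hHB h⁻¹ ha' hb'' _ he
      rwa [inv_smul_smul] at this
  -- transitivity on the two sets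
  have ht1 := h4 a b hab (B \ {b}) hO1 (fun h => haB h.1) (fun h => h.2 rfl)
    ⟨z, fun h => hzB h.1, hza, hzb⟩
  have ht2 := h4 a b hab {y : Ω | y ≠ a ∧ y ∉ B} hO2 (fun h => h.1 rfl) (fun h => h.2 hb)
    ⟨y₀, fun h => h.2 hy₀B, hy₀a, hy₀b⟩
  -- the key claim
  have hkey : ∀ s : G, s • a = b → s • b = a → ∀ y ∈ B \ {b}, s • y ∈ B \ {b} := by
    intro s hsa hsb
    have hsa' : s⁻¹ • a = b := by rw [inv_smul_eq_iff, hsb]
    have hsb' : s⁻¹ • b = a := by rw [inv_smul_eq_iff, hsa]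
    by_contra hcon
    push Not at hcon
    obtain ⟨y₃, hy₃, hsy₃⟩ := hcon
    have hsy₃a : s • y₃ ≠ a := by
      intro he
      rw [← hsb] at he
      exact hy₃.2 (smul_left_cancel s he)
    have hsy₃b : s • y₃ ≠ b := by
      intro he
      rw [← hsa] at he
      exact haB (smul_left_cancel s he ▸ hy₃.1)
    have hsy₃O2 : s • y₃ ∈ {y : Ω | y ≠ a ∧ y ∉ B} :=
      ⟨hsy₃a, fun h => hsy₃ ⟨h, hsy₃b⟩⟩
    -- `s` maps `O1` onto `O2`
    have himg : (fun y => s • y) '' (B \ {b}) = {y : Ω | y ≠ a ∧ y ∉ B} := by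
      apply Set.Subset.antisymm
      · rintro _ ⟨y, hy, rfl⟩
        obtain ⟨h, ha, hb', hy'⟩ := ht1 y₃ hy₃ y hy
        have h1 : (s * h * s⁻¹) • a = a := by
          rw [mul_smul, mul_smul, hsa', hb', hsb]
        have h2' : (s * h * s⁻¹) • b = b := by
          rw [mul_smul, mul_smul, hsb', ha, hsa]
        have := hO2 _ h1 h2' _ hsy₃O2
        rwa [mul_smul, mul_smul, inv_smul_smul, hy'] at this
      · intro z' hz'
        obtain ⟨h, ha, hb', hy'⟩ := ht2 (s • y₃) hsy₃O2 z' hz'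
        have h1 : (s⁻¹ * h * s) • a = a := by
          rw [mul_smul, mul_smul, hsa, hb', hsb']
        have h2' : (s⁻¹ * h * s) • b = b := by
          rw [mul_smul, mul_smul, hsb, ha, hsa']
        refine ⟨(s⁻¹ * h * s) • y₃, hO1 _ h1 h2' _ hy₃, ?_⟩
        simp only
        rw [mul_smul, mul_smul, smul_inv_smul, hy']
    have hcard : ({y : Ω | y ≠ a ∧ y ∉ B}).ncard = (B \ {b}).ncard := by
      rw [← himg]
      exact Set.ncard_image_of_injective _ (MulAction.injective s)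
    have huniv : (Set.univ : Set Ω) = insert a (insert b ((B \ {b}) ∪ {y : Ω | y ≠ a ∧ y ∉ B})) := by
      ext y
      simp only [Set.mem_univ, Set.mem_insert_iff, Set.mem_union, Set.mem_sdiff,
        Set.mem_singleton_iff, Set.mem_ofPred_eq, true_iff]
      by_cases h1 : y = a
      · exact Or.inl h1
      by_cases h2' : y = b
      · exact Or.inr (Or.inl h2')
      by_cases h3 : y ∈ B
      · exact Or.inr (Or.inr (Or.inl ⟨h3, h2'⟩))
      · exact Or.inr (Or.inr (Or.inr ⟨h1, h3⟩))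
    have hdisj : Disjoint (B \ {b}) {y : Ω | y ≠ a ∧ y ∉ B} := by
      rw [Set.disjoint_left]
      rintro y ⟨hy, -⟩ ⟨-, hy'⟩
      exact hy' hy
    have hcount : Nat.card Ω = 2 * (B \ {b}).ncard + 2 := by
      rw [← Set.ncard_univ, huniv, Set.ncard_insert_of_notMem, Set.ncard_insert_of_notMem,
        Set.ncard_union_eq hdisj, hcard]
      · ring
      · rintro (⟨-, h⟩ | ⟨-, h⟩)
        · exact h rfl
        · exact h hb
      · rintro (h | ⟨h, -⟩ | ⟨h, -⟩)
        · exact hab h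
        · exact haB h
        · exact h rfl
    obtain ⟨k, hk⟩ := hodd
    omega
  -- the swap
  obtain ⟨s, hsa, hsb⟩ := h2 a b b a hab (Ne.symm hab)
  have hsa' : s⁻¹ • a = b := by rw [inv_smul_eq_iff, hsb]
  have hsb' : s⁻¹ • b = a := by rw [inv_smul_eq_iff, hsa]
  have hs1 : ∀ y ∈ B, s • y ∈ insert a (B \ {b}) := by
    intro y hy
    by_cases hyb : y = b
    · rw [hyb, hsb]; exact Set.mem_insert _ _
    · exact Set.mem_insert_of_mem _ (hkey s hsa hsb y ⟨hy, hyb⟩)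
  have hs2 : ∀ y ∈ insert a (B \ {b}), s⁻¹ • y ∈ B := by
    rintro y (rfl | hy)
    · rw [hsa']; exact hb
    · exact (hkey s⁻¹ hsa' hsb' y hy).1
  refine ⟨?_, ?_⟩
  · rintro (h | ⟨-, h⟩)
    · exact hab h.symm
    · exact h rfl
  · intro g hg
    have hk : (s⁻¹ * g * s) • a = a := by
      rw [mul_smul, mul_smul, hsa, hg, hsb']
    have key : ∀ y : Ω, g • y = s • ((s⁻¹ * g * s) • (s⁻¹ • y)) := by
      intro y
      rw [mul_smul, mul_smul, smul_inv_smul, smul_inv_smul]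
    rcases hblk _ hk with hin | hout
    · left
      intro y hy
      rw [key y]
      exact hs1 _ (hin _ (hs2 y hy))
    · right
      intro y hy hgy
      have h1 := hs2 _ hgy
      rw [key y, inv_smul_smul] at h1
      exact hout _ (hs2 y hy) h1

end Cfsg.Agent.Lib.Helper1.PRSYM
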