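import Mathlib
import Cfsg.Prelude.Def_Solvable
import Cfsg.Agent.Lib.Helper1.SZConj

/-!
helper1: leaf QBB3 of S4125: if `Q` is a normal Sylow `q`-subgroup with complement `N` and `u ∈ Q`
has a class of `q`-power size, then some `Q`-conjugate of `u` is centralised by `N`.
-/

set_option autoImplicit false
set_option linter.unusedVariables false
open Cfsg

namespace Cfsg.Agent.Lib.Helper1.QBLeaf

variable {G : Type*} [Group G] [Finite G]

/-- QBB3. -/
theorem exists_conj_commute_complement (q : ℕ) [Fact q.Prime] (Q : Sylow q G)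
    (hQ : (Q : Subgroup G).Normal) (N : Subgroup G) (hN : N.IsComplement' (Q : Subgroup G))
    (u : G) (hu : u ∈ (Q : Subgroup G)) (a : ℕ)
    (hui : (Subgroup.centralizer ({u} : Set G)).index = q ^ a) :
    ∃ v ∈ (Q : Subgroup G), ∀ n ∈ N, n * (v * u * v⁻¹) = (v * u * v⁻¹) * n := by
  classical
  have hq : q.Prime := Fact.out
  have := hQ
  set C : Subgroup G := Subgroup.centralizer ({u} : Set G) with hC
  -- `Q.relIndex C = Q.index`
  have hQi : (Q : Subgroup G).index ≠ 0 := Subgroup.index_ne_zero_of_finite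
  have hcopQ : ((Q : Subgroup G).index).Coprime q :=
    (Nat.Coprime.symm ((Nat.Prime.coprime_iff_not_dvd hq).mpr Q.not_dvd_index))
  have hrel : (Q : Subgroup G).relIndex C = (Q : Subgroup G).index := by
    apply Nat.dvd_antisymm (Subgroup.relIndex_dvd_index_of_normal (Q : Subgroup G) C)
    have h1 : (Q : Subgroup G).relIndex C * C.index = ((Q : Subgroup G) ⊓ C).index := by
      rw [← Subgroup.inf_relIndex_right, Subgroup.relIndex_mul_index inf_le_right]
    have h2 : (Q : Subgroup G).index ∣ ((Q : Subgroup G) ⊓ C).index :=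
      Subgroup.index_dvd_of_le inf_le_left
    rw [← h1, hui] at h2
    exact (Nat.Coprime.pow_right a hcopQ).dvd_of_dvd_mul_right h2
  -- Schur–Zassenhaus inside `C`
  set K : Subgroup C := (Q : Subgroup G).subgroupOf C with hK
  have hKn : K.Normal := Subgroup.normal_subgroupOf
  have hKp : IsPGroup q K := Q.isPGroup'.comap_subtype
  obtain ⟨j, hj⟩ := IsPGroup.iff_card.mp hKp
  have hKidx : K.index = (Q : Subgroup G).index := hrel
  have hKcop : (Nat.card K).Coprime K.index := by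
    rw [hj, hKidx]
    exact Nat.Coprime.pow_left j hcopQ.symm
  obtain ⟨Nu', hNu'⟩ := Subgroup.exists_right_complement'_of_coprime hKcop
  have hNu'card : Nat.card Nu' = (Q : Subgroup G).index := by
    rw [← hKidx]
    exact (hNu'.symm.index_eq_card).symm
  set Nu : Subgroup G := Nu'.map C.subtype with hNu
  have hNule : Nu ≤ C := Subgroup.map_subtype_le Nu'
  have hNucard : Nat.card Nu = (Q : Subgroup G).index := by
    rw [← hNu'card]
    exact (Nat.card_congr (Nu'.equivMapOfInjective C.subtype C.subtype_injective).toEquiv).symm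
  -- `Nu` is a complement of `Q` in `G`
  have hcompNu : Subgroup.IsComplement' (Q : Subgroup G) Nu := by
    apply Subgroup.isComplement'_of_coprime
    · rw [hNucard, Subgroup.card_mul_index]
    · rw [hNucard]; exact Q.card_coprime_index
  -- conjugacy
  have hsolv : Group.IsSolvable (Q : Subgroup G) := by
    have : Group.IsNilpotent (Q : Subgroup G) := Q.isPGroup'.isNilpotent
    infer_instance
  obtain ⟨g, hg⟩ := Cfsg.Agent.Lib.Helper1.sz_conj (Q : Subgroup G) Q.card_coprime_index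
    (Or.inl hsolv) N Nu hN.symm hcompNu
  -- `N` centralises `g⁻¹ u g`
  have hcent : ∀ n ∈ N, n * (g⁻¹ * u * g) = (g⁻¹ * u * g) * n := by
    intro n hn
    have h1 : g * n * g⁻¹ ∈ Nu := by
      rw [← hg]
      rw [Subgroup.mem_pointwise_smul_iff_inv_smul_mem]
      simp only [← map_inv, MulAut.smul_def, MulAut.conj_apply, inv_inv]
      have : g⁻¹ * (g * n * g⁻¹) * g = n := by group
      rw [this]; exact hn
    have h2 := Subgroup.mem_centralizer_iff.mp (hNule h1) u (Set.mem_singleton u)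
    -- h2 : u * (g n g⁻¹) = (g n g⁻¹) * u
    calc n * (g⁻¹ * u * g) = g⁻¹ * ((g * n * g⁻¹) * u) * g := by group
      _ = g⁻¹ * (u * (g * n * g⁻¹)) * g := by rw [h2]
      _ = (g⁻¹ * u * g) * n := by group
  -- write `g⁻¹ = n₀ v`
  obtain ⟨⟨n₀, v⟩, hnv⟩ := hN.2 g⁻¹
  have hnv' : (n₀ : G) * (v : G) = g⁻¹ := hnv
  refine ⟨v, v.2, ?_⟩
  intro n hn
  have hn' : (n₀ : G) * n * (n₀ : G)⁻¹ ∈ N := N.mul_mem (N.mul_mem n₀.2 hn) (N.inv_mem n₀.2)
  have h3 := hcent _ hn'
  have hg' : g = ((n₀ : G) * (v : G))⁻¹ := by rw [hnv', inv_inv]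
  rw [hg'] at h3
  -- h3 : (n₀ n n₀⁻¹) * ((n₀ v) u (n₀ v)⁻¹) = ((n₀ v) u (n₀ v)⁻¹) * (n₀ n n₀⁻¹)
  have h4 : (n₀ : G) * (n * ((v : G) * u * (v : G)⁻¹)) * (n₀ : G)⁻¹ =
      (n₀ : G) * (((v : G) * u * (v : G)⁻¹) * n) * (n₀ : G)⁻¹ := by
    calc (n₀ : G) * (n * ((v : G) * u * (v : G)⁻¹)) * (n₀ : G)⁻¹
        = ((n₀ : G) * n * (n₀ : G)⁻¹) * ((((n₀ : G) * (v : G))⁻¹)⁻¹ * u * ((n₀ : G) * (v : G))⁻¹) := by
          group
      _ = ((((n₀ : G) * (v : G))⁻¹)⁻¹ * u * ((n₀ : G) * (v : G))⁻¹) * ((n₀ : G) * n * (n₀ : G)⁻¹) := h3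
      _ = (n₀ : G) * (((v : G) * u * (v : G)⁻¹) * n) * (n₀ : G)⁻¹ := by group
  exact mul_left_cancel (mul_right_cancel h4)

end Cfsg.Agent.Lib.Helper1.QBLeaf
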