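import Mathlib
import Cfsg.Prelude.Def_Solvable
import Cfsg.Agent.Lib.Helper1.Fitting

/-!
helper1: leaf QBW of S4125 (Wielandt): an element of `q`-power order whose class has `q`-power
size lies in `O_q(G)`.  By-product: factorisation `G = H K` for subgroups of coprime indices.
-/

set_option autoImplicit false
open Cfsg

namespace Cfsg.Agent.Lib.Helper1.QBLeaf

variable {G : Type*} [Group G] [Finite G]

/-- subgroups of coprime indices factorise the group: `G = H K` -/
theorem exists_mul_of_coprime_index (H K : Subgroup G) (h : H.index.Coprime K.index) (g : G) :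
    ∃ a ∈ H, ∃ b ∈ K, g = a * b := by
  classical
  -- `H` acts on `G ⧸ K`; the orbit of the trivial coset has `K.relIndex H` elements
  have hHi : H.index ≠ 0 := Subgroup.index_ne_zero_of_finite
  have hKi : K.index ≠ 0 := Subgroup.index_ne_zero_of_finite
  have h1 : K.relIndex H * H.index = (K ⊓ H).index := by
    rw [← Subgroup.inf_relIndex_right, Subgroup.relIndex_mul_index inf_le_right]
  have h2 : K.index ∣ (K ⊓ H).index := Subgroup.index_dvd_of_le inf_le_left
  have h3 : H.index ∣ (K ⊓ H).index := Subgroup.index_dvd_of_le inf_le_right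
  have h4 : K.index * H.index ∣ K.relIndex H * H.index := by
    rw [h1]
    exact Nat.Coprime.mul_dvd_of_dvd_of_dvd h.symm h2 h3
  have h5 : K.index ∣ K.relIndex H := Nat.dvd_of_mul_dvd_mul_right (Nat.pos_of_ne_zero hHi) h4
  -- the orbit map
  let f : H → G ⧸ K := fun a => QuotientGroup.mk (a : G)
  -- the stabiliser of the trivial coset
  have hstab : MulAction.stabilizer H (QuotientGroup.mk (1 : G) : G ⧸ K) = K.subgroupOf H := by
    ext a
    rw [MulAction.mem_stabilizer_iff, Subgroup.mem_subgroupOf]
    have : a • (QuotientGroup.mk (1 : G) : G ⧸ K) = QuotientGroup.mk ((a : G) * 1) := rfl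
    rw [this, mul_one, QuotientGroup.eq, mul_one]
    constructor
    · intro h; simpa using K.inv_mem h
    · intro h; exact K.inv_mem h
  have horb : (MulAction.orbit H (QuotientGroup.mk (1 : G) : G ⧸ K)).ncard = K.relIndex H := by
    rw [← MulAction.index_stabilizer, hstab]
    rfl
  have hcard : Nat.card (G ⧸ K) = K.index := (Subgroup.index_eq_card K).symm
  have hle : (MulAction.orbit H (QuotientGroup.mk (1 : G) : G ⧸ K)).ncard ≤ Nat.card (G ⧸ K) :=
    Set.ncard_le_card _
  have hrel0 : K.relIndex H ≠ 0 := by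
    intro h0
    rw [h0, zero_mul] at h1
    exact (Subgroup.index_ne_zero_of_finite (H := K ⊓ H)) h1.symm
  have hge : K.index ≤ K.relIndex H := Nat.le_of_dvd (Nat.pos_of_ne_zero hrel0) h5
  have huniv : MulAction.orbit H (QuotientGroup.mk (1 : G) : G ⧸ K) = Set.univ := by
    rw [Set.eq_univ_iff_ncard, horb, hcard]
    rw [horb, hcard] at hle
    omega
  have hg : (QuotientGroup.mk g : G ⧸ K) ∈ MulAction.orbit H (QuotientGroup.mk (1 : G) : G ⧸ K) := by
    rw [huniv]; exact Set.mem_univ _
  obtain ⟨a, ha⟩ := hg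
  have ha' : (QuotientGroup.mk ((a : G) * 1) : G ⧸ K) = QuotientGroup.mk g := ha
  rw [mul_one, QuotientGroup.eq] at ha'
  exact ⟨a, a.2, (a : G)⁻¹ * g, ha', by group⟩

/-- QBW (Wielandt). -/
theorem mem_pCore_of_index_pow (q : ℕ) [Fact q.Prime] (x : G) (hx : ∃ k : ℕ, orderOf x = q ^ k)
    (a : ℕ) (hidx : (Subgroup.centralizer ({x} : Set G)).index = q ^ a) : x ∈ Cfsg.pCore q G := by
  classical
  have hq : q.Prime := Fact.out
  -- a Sylow subgroup containing `x`
  have hzp : IsPGroup q (Subgroup.zpowers x) := by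
    obtain ⟨k, hk⟩ := hx
    apply IsPGroup.of_card (n := k)
    rw [Nat.card_zpowers, hk]
  obtain ⟨S, hS⟩ := hzp.exists_le_sylow
  have hxS : x ∈ (S : Subgroup G) := hS (Subgroup.mem_zpowers x)
  -- coprime indices
  have hcop : (S : Subgroup G).index.Coprime (Subgroup.centralizer ({x} : Set G)).index := by
    rw [hidx]
    apply Nat.Coprime.pow_right
    exact (Nat.Coprime.symm ((Nat.Prime.coprime_iff_not_dvd hq).mpr S.not_dvd_index))
  -- every conjugate of `x` lies in `S`
  have hconj : ∀ g : G, g * x * g⁻¹ ∈ (S : Subgroup G) := by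
    intro g
    obtain ⟨s, hs, c, hc, rfl⟩ := exists_mul_of_coprime_index _ _ hcop g
    have hcx : c * x = x * c := by
      have := Subgroup.mem_centralizer_iff.mp hc x (Set.mem_singleton x)
      exact this.symm
    have : s * c * x * (s * c)⁻¹ = s * x * s⁻¹ := by
      rw [mul_assoc s c x, hcx]; group
    rw [this]
    exact (S : Subgroup G).mul_mem ((S : Subgroup G).mul_mem hs hxS) ((S : Subgroup G).inv_mem hs)
  have hle : Subgroup.normalClosure ({x} : Set G) ≤ (S : Subgroup G) := by
    unfold Subgroup.normalClosure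
    rw [Subgroup.closure_le]
    intro y hy
    rw [Group.mem_conjugatesOfSet_iff] at hy
    obtain ⟨b, hb, hby⟩ := hy
    rw [Set.mem_singleton_iff] at hb
    subst hb
    rw [isConj_iff] at hby
    obtain ⟨c, rfl⟩ := hby
    exact hconj c
  have hN : IsPGroup q (Subgroup.normalClosure ({x} : Set G)) := S.isPGroup'.to_le hle
  exact Cfsg.Agent.Lib.Helper1.le_pCore Subgroup.normalClosure_normal hN
    (Subgroup.subset_normalClosure (Set.mem_singleton x))

end Cfsg.Agent.Lib.Helper1.QBLeaf
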