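import Mathlib
import Cfsg.Agent.S5194
import Cfsg.Agent.Lib.Helper26.GT5
import Cfsg.Agent.Lib.Helper27.FMFactor5
import Cfsg.Agent.Lib.Helper27.SectionLift
import Cfsg.Agent.Lib.Helper27.FSCentric
import Cfsg.Agent.Lib.Helper26.FSFactorExists
import Cfsg.Agent.Lib.Helper1.GlaubF4

/-!
helper1: sparse fusion systems are constrained (`p` odd or `S₄`-free), after Glesser, via Thompson's normal
`p`-complement theorem for fusion systems (S5194) applied to the factor system modulo the core and helper26's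
`Bad`-subgroup machinery.
-/

set_option autoImplicit false
set_option linter.unusedSectionVars false
set_option linter.unusedVariables false

namespace Cfsg.Agent.Lib.Helper1.Sparse

open Cfsg Cfsg.FusionSystem Cfsg.Agent.Lib.Helper26 Cfsg.Agent.Lib.Helper26.GT

universe u u' v

/-- `H`-freeness passes to factor systems (generic version of helper27's S5241). -/
theorem sectionFree_factor (H : Type v) [Group H] {Ω : Type u} [Group Ω] {S : Subgroup Ω} [Finite S] (p : ℕ)
    [Fact p.Prime] (hS : IsPGroup p S) (F : FusionSystem S) (hF : F.IsSaturated p) (Q : Subgroup Ω)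
    (hQ : F.IsNormal Q) (hfree : F.IsSectionFree p H) {Ω' : Type u'} [Group Ω'] {S' : Subgroup Ω'}
    (θ : ↥S →* Ω') (E : FusionSystem S') (hE : F.IsFactorSystem Q θ E) : E.IsSectionFree p H := by
  have hsc := stronglyClosed_of_isNormal F hQ
  have hθ : F.IsSurjectiveMorphism E θ := factorSystem_isSurjectiveMorphism hS F hF Q hsc θ E hE
  obtain ⟨-, hker, -, -⟩ := hE
  intro V hVfn hVc Nb hNb L' _ ι' hM' hinv
  obtain ⟨hUfn, hUc, N, hN, L, instL, ι, hM, f, hf⟩ :=
    Cfsg.Agent.Lib.Helper27.FM.exists_surjective_of_factor_model hS F hF hQ θ E hθ hker hVfn hVc Nb hNb ι' hM'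
  exact hfree _ hUfn hUc N hN L ι hM
    (Cfsg.Agent.Lib.Helper27.SectionLift.involves_of_surjective f hf hinv)

/-- transport of a saturated system along an equality of the underlying subgroups -/
theorem exists_system_of_eq {Ω : Type u} [Group Ω] {T S : Subgroup Ω} (h : T = S) (N : FusionSystem T) (p : ℕ)
    (hN : N.IsSaturated p) : ∃ E : FusionSystem S, (∀ P, E.Hom P = N.Hom P) ∧ E.IsSaturated p := by
  subst h
  exact ⟨N, fun _ => rfl, hN⟩

variable {Ω : Type u} [Group Ω] {S : Subgroup Ω}

theorem normalizerIn_center_eq : normalizerIn S (S ⊓ Subgroup.centralizer (S : Set Ω)) = S := by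
  apply le_antisymm (normalizerIn_le S _)
  intro s hs
  refine ⟨hs, ?_⟩
  apply mem_normalizer_of_conj_mem
  · intro z hz
    have hz2 : z ∈ Subgroup.centralizer (S : Set Ω) := hz.2
    rw [Subgroup.mem_centralizer_iff] at hz2
    have e : s * z * s⁻¹ = z := by
      rw [hz2 s hs]; group
    rw [e]; exact hz
  · intro z hz
    have hz2 : z ∈ Subgroup.centralizer (S : Set Ω) := hz.2
    rw [Subgroup.mem_centralizer_iff] at hz2
    have e : s⁻¹ * z * s = z := by
      rw [mul_assoc, ← hz2 s hs]; group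
    rw [e]; exact hz

theorem center_ne_bot [Finite S] {p : ℕ} [Fact p.Prime] (hS : IsPGroup p S) (hne : S ≠ ⊥) :
    S ⊓ Subgroup.centralizer (S : Set Ω) ≠ ⊥ := by
  haveI : Nontrivial ↥S := (Subgroup.nontrivial_iff_ne_bot S).mpr hne
  haveI := hS.center_nontrivial
  obtain ⟨z, hz⟩ := exists_ne (1 : Subgroup.center ↥S)
  intro h
  apply hz
  have hzc : (z : ↥S) ∈ Subgroup.center ↥S := z.2
  have h1 : ((z : ↥S) : Ω) ∈ S ⊓ Subgroup.centralizer (S : Set Ω) := by
    refine ⟨(z : ↥S).2, ?_⟩
    show ((z : ↥S) : Ω) ∈ Subgroup.centralizer (S : Set Ω)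
    rw [Subgroup.mem_centralizer_iff]
    intro y hy
    have := Subgroup.mem_center_iff.mp hzc ⟨y, hy⟩
    exact congrArg Subtype.val this
  rw [h, Subgroup.mem_bot] at h1
  apply Subtype.ext
  apply Subtype.ext
  exact h1

theorem normalizerIn_thompson_eq [Finite S] {p : ℕ} [Fact p.Prime] (hS : IsPGroup p S) :
    normalizerIn S (Cfsg.thompsonSubgroupAOf S) = S := by
  have hJS : Cfsg.thompsonSubgroupAOf S ≤ S := Subgroup.map_subtype_le _
  apply le_antisymm inf_le_left
  intro s hs
  haveI : Finite ↥(Cfsg.thompsonSubgroupAOf S) :=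
    Finite.of_injective (Subgroup.inclusion hJS) (Subgroup.inclusion_injective _)
  refine ⟨hs, mem_normalizer_of_conj_mem_finite (fun u hu => ?_)⟩
  exact (Cfsg.Agent.Lib.Helper1.GlaubF.posChar_JA p).conj_mem hS (Subgroup.le_normalizer hs) hu

/-- Contrapositive of Thompson's theorem: a saturated system that is not inner (`p` odd or `S₄`-free) has a bad
nontrivial subgroup that is normal in `S`. -/
theorem exists_bad_normal_of_not_inner [Finite S] (p : ℕ) [Fact p.Prime]
    (hS : IsPGroup p S) (hSne : S ≠ ⊥) (F : FusionSystem S) (hF : F.IsSaturated p)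
    (hp : p ≠ 2 ∨ F.IsSectionFree p (Equiv.Perm (Fin 4)))
    (hne : ¬ ∀ P : Subgroup Ω, F.Hom P = (innerFusionSystem S).Hom P) :
    ∃ W : Subgroup Ω, W ≤ S ∧ W ≠ ⊥ ∧ normalizerIn S W = S ∧ Bad F p W := by
  by_contra hcon
  push Not at hcon
  apply hne
  have key : ∀ W : Subgroup Ω, W ≤ S → W ≠ ⊥ → normalizerIn S W = S →
      ∀ N : FusionSystem (normalizerIn S W), F.IsNormalizerSystem W N →
      ∀ P, N.Hom P = (innerFusionSystem (normalizerIn S W)).Hom P := by
    intro W hWS hWne hWN N hN
    by_contra hnot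
    exact hcon W hWS hWne hWN
      (bad_of_not_inner hS F hF (isFullyNormalized_of_normalizerIn_eq F hWS hWN) N hN hnot)
  have hZS : S ⊓ Subgroup.centralizer (S : Set Ω) ≤ S := inf_le_left
  have hZN := normalizerIn_center_eq (S := S)
  have hZne := center_ne_bot hS hSne
  have hJS : Cfsg.thompsonSubgroupAOf S ≤ S := Subgroup.map_subtype_le _
  have hJN := normalizerIn_thompson_eq hS
  have hJne : Cfsg.thompsonSubgroupAOf S ≠ ⊥ :=
    (Cfsg.Agent.Lib.Helper1.GlaubF.posChar_JA p).WS_ne_bot hS hSne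
  apply Cfsg.Agent.S5194.result p hS F hF hp
  · intro C hC P
    have hNZ := key _ hZS hZne hZN (normalizerSystem F _ hZS) (normalizerSystem_isNormalizerSystem F _ hZS)
    ext φ
    constructor
    · intro hφ
      rw [hC P] at hφ
      obtain ⟨hφF, hPC, hval, ψ, hψ, hext, hfix⟩ := hφ
      have h1 : φ ∈ (normalizerSystem F _ hZS).Hom P := by
        rw [normalizerSystem_isNormalizerSystem F _ hZS P]
        refine ⟨hφF, hZN.symm ▸ (F.le_of_mem hφF).1, fun x => hZN.symm ▸ (F.le_of_mem hφF).2 x, ψ, hψ, hext, ?_⟩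
        ext z
        constructor
        · rintro ⟨y, hy, rfl⟩
          have hy' : (y : Ω) ∈ S ⊓ Subgroup.centralizer (S : Set Ω) := Subgroup.mem_subgroupOf.mp hy
          have := hfix ⟨(y : Ω), hy'⟩
          have e : Subgroup.inclusion le_sup_right (⟨(y : Ω), hy'⟩ : ↥(S ⊓ Subgroup.centralizer (S : Set Ω))) = y :=
            Subtype.ext rfl
          rw [e] at this
          rw [this]
          exact hy'
        · intro hz
          refine ⟨Subgroup.inclusion le_sup_right ⟨z, hz⟩, ?_, hfix ⟨z, hz⟩⟩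
          exact Subgroup.mem_subgroupOf.mpr hz
      rw [hNZ P] at h1
      obtain ⟨hPT, g, hgT, hg⟩ := h1
      refine ⟨hPC, g, ⟨hgT.1, ?_⟩, hg⟩
      show g ∈ Subgroup.centralizer _
      rw [Subgroup.mem_centralizer_iff]
      intro z hz
      have hz2 : z ∈ Subgroup.centralizer (S : Set Ω) := hz.2
      rw [Subgroup.mem_centralizer_iff] at hz2
      exact (hz2 g hgT.1).symm
    · rintro ⟨hPC, g, hgC, hg⟩
      rw [hC P]
      have hPS : P ≤ S := hPC.trans inf_le_left
      have hφF : φ ∈ F.Hom P := by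
        have := F.conj_mem hPS hgC.1
        convert this using 1
        ext x
        exact hg x
      refine ⟨hφF, hPC, fun x => ?_, Cfsg.conjHom (P ⊔ (S ⊓ Subgroup.centralizer (S : Set Ω))) g,
        F.conj_mem (sup_le hPS hZS) hgC.1, fun x => ?_, fun x => ?_⟩
      · rw [hg x]
        exact Subgroup.mul_mem _ (Subgroup.mul_mem _ hgC (hPC x.2)) (Subgroup.inv_mem _ hgC)
      · rw [hg x]
        rfl
      · have hgc : g ∈ Subgroup.centralizer ((S ⊓ Subgroup.centralizer (S : Set Ω) : Subgroup Ω) : Set Ω) := hgC.2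
        rw [Subgroup.mem_centralizer_iff] at hgc
        have := hgc x x.2
        show g * (x : Ω) * g⁻¹ = x
        rw [← this]; group
  · intro N hN
    exact key _ hJS hJne hJN N hN

/-- **Sparse fusion systems are constrained** (`p` odd or `S₄`-free). -/
theorem sparse_constrained [Finite S] (p : ℕ) [Fact p.Prime] (hS : IsPGroup p S) (F : FusionSystem S)
    (hF : F.IsSaturated p)
    (hsp : ∀ E : FusionSystem S, E.IsSaturated p → E.IsSubsystemOf F →
      (∀ P : Subgroup Ω, E.Hom P = F.Hom P) ∨ (∀ P : Subgroup Ω, E.Hom P = (innerFusionSystem S).Hom P))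
    (hp : p ≠ 2 ∨ F.IsSectionFree p (Equiv.Perm (Fin 4))) : F.IsConstrained p := by
  have hQ := core_isNormal F
  refine ⟨hF, F.core, hQ, ?_⟩
  have hQS : F.core ≤ S := hQ.1
  have hsc := stronglyClosed_of_isNormal F hQ
  by_contra hQc
  haveI : Finite ↥F.core := finite_of_le hQS
  have hSN : S ≤ Subgroup.normalizer (F.core : Set Ω) := le_normalizer_of_stronglyClosed F hsc
  have hQn : ∀ s ∈ S, ∀ q ∈ F.core, s * q * s⁻¹ ∈ F.core := fun s hs q hq =>
    (Subgroup.mem_normalizer_iff.mp (hSN hs) q).mp hq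
  haveI hnorm : (F.core.subgroupOf S).Normal := by
    constructor
    intro q hq s
    rw [Subgroup.mem_subgroupOf] at hq ⊢
    exact hQn s s.2 q hq
  obtain ⟨E, hE⟩ := exists_factorSystem_quotient F F.core hsc
  have hθ := factorSystem_isSurjectiveMorphism hS F hF F.core hsc _ E hE
  have hEsat := surj_saturated p hS F hF E _ hθ
  have hker := hE.2.1
  have hpTop : IsPGroup p (⊤ : Subgroup (↥S ⧸ F.core.subgroupOf S)) :=
    (hS.to_quotient (F.core.subgroupOf S)).to_subgroup ⊤
  have hEp : p ≠ 2 ∨ E.IsSectionFree p (Equiv.Perm (Fin 4)) :=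
    hp.imp id (fun h => sectionFree_factor _ p hS F hF F.core hQ h _ E hE)
  have hQneS : F.core ≠ S := by
    intro h
    apply hQc
    rw [h]
    exact Cfsg.Agent.Lib.Helper27.isCentric_self F
  have htop : (⊤ : Subgroup (↥S ⧸ F.core.subgroupOf S)) ≠ ⊥ := by
    intro h
    apply hQneS
    apply le_antisymm hQS
    intro s hs
    have h1 : (QuotientGroup.mk' (F.core.subgroupOf S) ⟨s, hs⟩) ∈
        (⊤ : Subgroup (↥S ⧸ F.core.subgroupOf S)) := Subgroup.mem_top _
    rw [h, Subgroup.mem_bot, QuotientGroup.mk'_apply, QuotientGroup.eq_one_iff] at h1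
    exact h1
  have hEinner : ∀ P, E.Hom P = (innerFusionSystem (⊤ : Subgroup (↥S ⧸ F.core.subgroupOf S))).Hom P := by
    by_contra hEne
    obtain ⟨W', hW'S, hW'ne, hW'N, hbad'⟩ := exists_bad_normal_of_not_inner p hpTop htop E hEsat hEp hEne
    have hbad : Bad F p (preimageAlong (QuotientGroup.mk' (F.core.subgroupOf S)) W') :=
      Bad.lift F E _ hθ hbad'
    have hWS : preimageAlong (QuotientGroup.mk' (F.core.subgroupOf S)) W' ≤ S := preimageAlong_le _ W'
    have hWN : normalizerIn S (preimageAlong (QuotientGroup.mk' (F.core.subgroupOf S)) W') = S := by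
      apply le_antisymm (normalizerIn_le S _)
      intro s hs
      refine ⟨hs, mem_normalizer_preimageAlong _ hs ?_⟩
      have : QuotientGroup.mk' (F.core.subgroupOf S) ⟨s, hs⟩ ∈
          normalizerIn (⊤ : Subgroup (↥S ⧸ F.core.subgroupOf S)) W' := by
        rw [hW'N]; exact Subgroup.mem_top _
      exact this.2
    have hWfn := isFullyNormalized_of_normalizerIn_eq F hWS hWN
    have hNW := normalizerSystem_isNormalizerSystem F _ hWS
    have hNsat := normalizerSystem_saturated hS F hF hWfn _ hNW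
    obtain ⟨E₁, hE₁, hE₁sat⟩ := exists_system_of_eq hWN (normalizerSystem F _ hWS) p hNsat
    have hsub : E₁.IsSubsystemOf F := by
      intro P φ hφ
      rw [hE₁ P] at hφ
      exact hφ.1
    rcases hsp E₁ hE₁sat hsub with h1 | h1
    · have hWn : F.IsNormal (preimageAlong (QuotientGroup.mk' (F.core.subgroupOf S)) W') := by
        refine ⟨hWS, fun P φ hφ => ?_⟩
        have h2 : φ ∈ (normalizerSystem F _ hWS).Hom P := by
          rw [← hE₁ P, h1 P]; exact hφ
        exact h2.2.2.2
      have hWQ : preimageAlong (QuotientGroup.mk' (F.core.subgroupOf S)) W' ≤ F.core := le_sSup hWn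
      apply hW'ne
      rw [eq_bot_iff]
      intro w hw
      obtain ⟨s, rfl⟩ := QuotientGroup.mk'_surjective (F.core.subgroupOf S) w
      have hsW : (s : Ω) ∈ preimageAlong (QuotientGroup.mk' (F.core.subgroupOf S)) W' :=
        (mem_preimageAlong_iff _ W' (s : Ω)).mpr ⟨s.2, by rw [Subtype.coe_eta]; exact hw⟩
      rw [Subgroup.mem_bot]
      exact (hker s).mpr (hWQ hsW)
    · apply not_inner_of_bad hS F hbad _ hNW
      intro P
      rw [← hE₁ P, h1 P, hWN]
  exact hQc (core_isCentric_of_factor_inner hS hpTop F hF E _ hθ hEinner hker)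

end Cfsg.Agent.Lib.Helper1.Sparse
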