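import Mathlib
import Cfsg.Agent.S0653
import Cfsg.Agent.S5240
import Cfsg.Agent.Lib.Helper27.KL14
import Cfsg.Agent.Lib.Helper27.ZJFun
import Cfsg.Agent.Lib.Helper29.QdTheoremQ
import Cfsg.Agent.Lib.Helper26.FSSolvableConstrained
import Cfsg.Agent.Lib.Helper1.Sparse1

/-!
helper1: a saturated `Qd(p)`-free fusion system (`p` odd) is solvable, hence constrained. The factor systems
`F/R` (`R` strongly closed) are factor systems of the normalizer systems `N_F(R)`, which are `Qd(p)`-free
(helper27, S5240/S5241); helper27's `Z(J)`-theorem for `Qd(p)`-free systems then gives a nontrivial normal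
subgroup of `F/R`, and helper26's `constrained_of_solvable` finishes.
-/

set_option autoImplicit false
set_option linter.unusedSectionVars false
set_option linter.unusedVariables false

namespace Cfsg.Agent.Lib.Helper1.QdSolv

open Cfsg Cfsg.FusionSystem Cfsg.Agent.Lib.Helper26 Cfsg.Agent.Lib.Helper26.GT Cfsg.Agent.Lib.Helper27.KL

universe u v

/-- Glauberman's property for the functor `Z(J)` (`p` odd): Glauberman's `ZJ`-theorem. -/
theorem glaubProp_zjA {p : ℕ} [Fact p.Prime] (hp : p ≠ 2) :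
    GlaubProp.{u} p (fun (Q : Type u) [Group Q] => Cfsg.Agent.Lib.Helper27.ZJFun.zjA Q) := by
  intro L _ _ P hC hfree
  have hC' : Subgroup.centralizer ((Cfsg.pCore p L : Subgroup L) : Set L) ≤ Cfsg.pCore p L := by
    rw [hC]; exact inf_le_left
  haveI := Cfsg.Agent.S0653.result hp hC' (fun Q _ hQ =>
    Cfsg.Agent.Lib.Helper29.Qd.isPStableOn_of_not_involves_qd_pGroup hp hfree Q hQ) P
  have e := Cfsg.Agent.Lib.Helper27.ZJFun.inducedFunctor_zjA (P : Subgroup L)
  unfold Cfsg.inducedFunctor at e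
  rw [e]
  exact Subgroup.normal_of_characteristic _

theorem posChar_zjA (p : ℕ) [Fact p.Prime] :
    PosChar.{u} p (fun (Q : Type u) [Group Q] => Cfsg.Agent.Lib.Helper27.ZJFun.zjA Q) := by
  obtain ⟨h1, h2⟩ := Cfsg.Agent.Lib.Helper27.ZJFun.isCharPFunctor_zjA.{u} p
  exact ⟨h1, h2⟩

/-- transport along an equality of the underlying subgroups -/
theorem exists_system_of_eq' {Ω : Type u} [Group Ω] {T S : Subgroup Ω} (h : T = S) (N : FusionSystem T) (p : ℕ)
    (H : Type v) [Group H] (R : Subgroup Ω)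
    (hN : N.IsSaturated p) (hfree : N.IsSectionFree p H) (hR : N.IsNormal R) :
    ∃ E : FusionSystem S, (∀ P, E.Hom P = N.Hom P) ∧ E.IsSaturated p ∧ E.IsSectionFree p H ∧ E.IsNormal R := by
  subst h
  exact ⟨N, fun _ => rfl, hN, hfree, hR⟩

variable {Ω : Type u} [Group Ω] {S : Subgroup Ω}

/-- a map of `F` whose source contains the strongly closed subgroup `R` is a map of `N_F(R)` -/
theorem mem_normalizerSystem_of_le [Finite S] (F : FusionSystem S) {R : Subgroup Ω} (hR : F.StronglyClosed R)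
    {A : Subgroup Ω} (hRA : R ≤ A) {φ : A →* Ω} (hφ : φ ∈ F.Hom A) :
    φ ∈ (normalizerSystem F R hR.1).Hom A := by
  have hRS : R ≤ S := hR.1
  have hSN : S ≤ Subgroup.normalizer (R : Set Ω) := le_normalizer_of_stronglyClosed F hR
  have hRN : normalizerIn S R = S := normalizerIn_eq_of_le_normalizer hSN
  have hAS : A ≤ S := hom_le F hφ
  haveI : Finite ↥R := finite_of_le hRS
  have hle : A ⊔ R ≤ A := sup_le le_rfl hRA
  refine ⟨hφ, hRN.symm ▸ hAS, fun x => ?_, φ.comp (Subgroup.inclusion hle), inclusion_comp_mem F hle hφ,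
    fun x => ?_, ?_⟩
  · rw [hRN]; exact hom_apply_mem F hφ x
  · show φ _ = φ x
    congr 1
  · have hinj : Function.Injective (φ.comp (Subgroup.inclusion hle)) :=
      (F.injective_of_mem hφ).comp (Subgroup.inclusion_injective hle)
    have h1 : (R.subgroupOf (A ⊔ R)).map (φ.comp (Subgroup.inclusion hle)) ≤ R := by
      rintro _ ⟨x, hx, rfl⟩
      have hxR : (x : Ω) ∈ R := hx
      have := hR.2 R le_rfl (φ.comp (Subgroup.inclusion hRA)) (inclusion_comp_mem F hRA hφ) ⟨x, hxR⟩
      exact this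
    apply Subgroup.eq_of_le_of_card_ge h1
    have e1 : Nat.card ↥((R.subgroupOf (A ⊔ R)).map (φ.comp (Subgroup.inclusion hle))) =
        Nat.card ↥(R.subgroupOf (A ⊔ R)) := Subgroup.card_map_of_injective hinj
    have e2 : Nat.card ↥(R.subgroupOf (A ⊔ R)) = Nat.card ↥R :=
      Nat.card_congr (Subgroup.subgroupOfEquivOfLe (le_sup_right : R ≤ A ⊔ R)).toEquiv
    rw [e1, e2]

/-- **`Qd(p)`-free saturated fusion systems are solvable** (`p` odd). -/
theorem qdFree_solvable [Finite S] (p : ℕ) [Fact p.Prime] (hp : p ≠ 2) (hS : IsPGroup p S) (F : FusionSystem S)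
    (hF : F.IsSaturated p) (hfree : F.IsSectionFree p ↥(Cfsg.qd p)) : F.IsSolvableSystem := by
  intro R hR hne hnorm E hE
  have hRS : R ≤ S := hR.1
  have hSN : S ≤ Subgroup.normalizer (R : Set Ω) := le_normalizer_of_stronglyClosed F hR
  have hRN : normalizerIn S R = S := normalizerIn_eq_of_le_normalizer hSN
  have hRfn := isFullyNormalized_of_normalizerIn_eq F hRS hRN
  have hN₀ := normalizerSystem_isNormalizerSystem F R hRS
  have hN₀sat := normalizerSystem_saturated hS F hF hRfn _ hN₀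
  have hN₀free := Cfsg.Agent.S5240.result p hS F hF hfree R hRfn _ hN₀
  have hN₀norm := isNormal_of_isNormalizerSystem F hRS _ hN₀
  obtain ⟨E₁, hE₁, hE₁sat, hE₁free, hE₁R⟩ :=
    exists_system_of_eq' hRN (normalizerSystem F R hRS) p ↥(Cfsg.qd p) R hN₀sat hN₀free hN₀norm
  obtain ⟨-, hker, hrange, hHom⟩ := hE
  have hfac : E₁.IsFactorSystem R (QuotientGroup.mk' (R.subgroupOf S)) E := by
    refine ⟨hRS, hker, hrange, fun P' φ' => ?_⟩
    rw [hHom P' φ']
    have hRA : R ≤ preimageAlong (QuotientGroup.mk' (R.subgroupOf S)) P' := by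
      intro y hy
      rw [mem_preimageAlong_iff]
      refine ⟨hRS hy, ?_⟩
      have : (QuotientGroup.mk' (R.subgroupOf S)) ⟨y, hRS hy⟩ = 1 := (hker ⟨y, hRS hy⟩).mpr hy
      rw [this]
      exact one_mem _
    constructor
    · rintro ⟨h1, φ, hφ, hind⟩
      refine ⟨h1, φ, ?_, hind⟩
      rw [hE₁]
      exact mem_normalizerSystem_of_le F hR hRA hφ
    · rintro ⟨h1, φ, hφ, hind⟩
      refine ⟨h1, φ, ?_, hind⟩
      rw [hE₁] at hφ
      exact hφ.1
  have hsc₁ := stronglyClosed_of_isNormal E₁ hE₁R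
  have hθ := factorSystem_isSurjectiveMorphism hS E₁ hE₁sat R hsc₁ _ E hfac
  have hEsat := surj_saturated p hS E₁ hE₁sat E _ hθ
  have hEfree := Cfsg.Agent.Lib.Helper1.Sparse.sectionFree_factor ↥(Cfsg.qd p) p hS E₁ hE₁sat R hE₁R hE₁free _ E hfac
  have hpTop : IsPGroup p (⊤ : Subgroup (↥S ⧸ R.subgroupOf S)) :=
    (hS.to_quotient (R.subgroupOf S)).to_subgroup ⊤
  have htop : (⊤ : Subgroup (↥S ⧸ R.subgroupOf S)) ≠ ⊥ := by
    intro h
    apply hne
    apply le_antisymm hRS
    intro s hs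
    have h1 : (QuotientGroup.mk' (R.subgroupOf S) ⟨s, hs⟩) ∈
        (⊤ : Subgroup (↥S ⧸ R.subgroupOf S)) := Subgroup.mem_top _
    rw [h, Subgroup.mem_bot, QuotientGroup.mk'_apply, QuotientGroup.eq_one_iff] at h1
    exact h1
  have hW := posChar_zjA.{u} p
  have hnormal := zj_isNormal hW (glaubProp_zjA hp) hpTop E hEsat hEfree
  have hWne := hW.WS_ne_bot hpTop htop
  intro hcore
  apply hWne
  rw [eq_bot_iff, ← hcore]
  exact le_sSup hnormal

/-- **`Qd(p)`-free saturated fusion systems are constrained** (`p` odd). -/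
theorem qdFree_constrained [Finite S] (p : ℕ) [Fact p.Prime] (hp : p ≠ 2) (hS : IsPGroup p S) (F : FusionSystem S)
    (hF : F.IsSaturated p) (hfree : F.IsSectionFree p ↥(Cfsg.qd p)) : F.IsConstrained p :=
  constrained_of_solvable p hS F hF (qdFree_solvable p hp hS F hF hfree)

end Cfsg.Agent.Lib.Helper1.QdSolv
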