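import Mathlib
import Cfsg.Agent.Lib.Helper1.QuaternionSylow
import Cfsg.Agent.Lib.Helper1.Fitting
import Cfsg.Agent.Lib.Helper9.PComponent
import Cfsg.Agent.Lib.Helper12.PNilpotent
import Cfsg.Agent.Lib.Helper18.UniqueInvolution
import Cfsg.Agent.S0044

/-! Finite solvable groups with generalized quaternion Sylow `2`-subgroups of order at least `32`
have a normal `2`-complement. -/

namespace Cfsg.Agent.Lib.Helper1

open Subgroup

/-- if all odd-order elements are trivial the group is a `2`-group -/
theorem isPGroup_two_of_odd_order_trivial {G : Type*} [Group G] [Finite G]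
    (h : ∀ g : G, Odd (orderOf g) → g = 1) : IsPGroup 2 G := by
  intro g
  have hpos : orderOf g ≠ 0 := (orderOf_pos g).ne'
  obtain ⟨k, m, hm, hkm⟩ := Nat.exists_eq_two_pow_mul_odd hpos
  refine ⟨k, ?_⟩
  apply h
  have h1 : (g ^ 2 ^ k) ^ m = 1 := by rw [← pow_mul, ← hkm, pow_orderOf_eq_one]
  have hd := orderOf_dvd_of_pow_eq_one h1
  exact Odd.of_dvd_nat hm hd

/-- a finite solvable group with `O_{2'}(G) = 1` and generalized quaternion Sylow `2`-subgroups
of order at least `32` is a `2`-group -/
theorem isPGroup_two_of_quaternion_sylow {G : Type*} [Group G] [Finite G]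
    [hsol : Group.IsSolvable G] (hcore : Cfsg.pPrimeCore 2 G = ⊥) (T : Sylow 2 G) {N : ℕ}
    [NeZero N] (hN : ¬ (2 * N ∣ 8)) (e : ↥(T : Subgroup G) ≃* QuaternionGroup N) :
    IsPGroup 2 G := by
  have : Fact (Nat.Prime 2) := ⟨Nat.prime_two⟩
  set Q := Cfsg.pCore 2 G with hQ
  have hQn : Q.Normal := pCore_normal 2 G
  have hQT : Q ≤ T := pCore_le_sylow T
  have hQp : IsPGroup 2 Q := pCore_isPGroup 2 G
  have hF : Cfsg.fittingSubgroup G = Q :=
    Cfsg.Agent.Lib.Helper9.fittingSubgroup_eq_pCore_of_pPrimeCore_eq_bot 2 hcore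
  have hCQ : centralizer (Q : Set G) ≤ Q := by
    have := Cfsg.Agent.S0044.result (G := G)
    rwa [hF] at this
  -- unique involution
  have huniq : ∀ s t : Q, orderOf s = 2 → orderOf t = 2 → s = t := by
    intro s t hs ht
    have h1 := eq_of_orderOf_eq_two_of_quaternion e ⟨s, hQT s.2⟩ ⟨t, hQT t.2⟩
      (by rw [Subgroup.orderOf_mk, Subgroup.orderOf_coe, hs])
      (by rw [Subgroup.orderOf_mk, Subgroup.orderOf_coe, ht])
    have h2 : ((⟨s, hQT s.2⟩ : (T : Subgroup G)) : G) = ((⟨t, hQT t.2⟩ : (T : Subgroup G)) : G) :=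
      congrArg Subtype.val h1
    exact Subtype.ext h2
  have hodd : ∀ g : G, Odd (orderOf g) → g ∈ centralizer (Q : Set G) := by
    rcases Cfsg.Agent.Lib.Helper18.cyclic_or_quaternion_data hQp huniq with
      hcyc | ⟨a, x, m, hm, hord, hxnot, hxa, hx2, hall⟩
    · intro g hg
      exact mem_centralizer_of_mem_normalizer_cyclic_two Q hQp g
        (mem_normalizer_of_forall_conj_mem Q g (fun q hq => hQn.conj_mem q hq g)) hg
    · by_cases hm3 : 3 ≤ m
      · intro g hg
        have hxnot' : (x : G) ∉ zpowers (a : G) := by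
          intro h
          obtain ⟨k, hk⟩ := mem_zpowers_iff.mp h
          apply hxnot
          rw [mem_zpowers_iff]
          exact ⟨k, Subtype.ext (by rw [← hk]; simp)⟩
        have hxa' : (x : G) * (a : G) * (x : G)⁻¹ = (a : G)⁻¹ := by
          have := congrArg Subtype.val hxa
          simpa using this
        have hx2' : (x : G) ^ 2 = (a : G) ^ (2 ^ (m - 1)) := by
          have := congrArg Subtype.val hx2
          simpa using this
        have hall' : ∀ q ∈ Q, q ∈ zpowers (a : G) ∨ ∃ h ∈ zpowers (a : G), q = (x : G) * h := by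
          intro q hq
          rcases hall ⟨q, hq⟩ with h | ⟨h, hh, heq⟩
          · left
            obtain ⟨k, hk⟩ := mem_zpowers_iff.mp h
            rw [mem_zpowers_iff]
            exact ⟨k, by have := congrArg Subtype.val hk; simpa using this⟩
          · right
            obtain ⟨k, hk⟩ := mem_zpowers_iff.mp hh
            refine ⟨(h : G), ?_, ?_⟩
            · rw [mem_zpowers_iff]
              exact ⟨k, by have := congrArg Subtype.val hk; simpa using this⟩
            · have := congrArg Subtype.val heq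
              simpa using this
        exact mem_centralizer_of_quaternion_data Q (a : G) (x : G) m hm3
          (by rw [Subgroup.orderOf_coe, hord]) hxnot' hxa' hx2' hall' a.2 x.2 g
          (fun q hq => hQn.conj_mem q hq g) hg
      · exfalso
        have hm2 : m = 2 := by omega
        subst hm2
        have ha4 : a ^ 4 = 1 := by
          rw [show 4 = 2 ^ 2 from rfl, ← hord]; exact pow_orderOf_eq_one a
        have h4 : ∀ q : Q, q ^ 4 = 1 := by
          intro q
          rcases hall q with hq | ⟨h, hh, rfl⟩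
          · obtain ⟨k, rfl⟩ := mem_zpowers_iff.mp hq
            rw [← zpow_natCast, ← zpow_mul, mul_comm, zpow_mul, zpow_natCast, ha4, one_zpow]
          · exact mul_pow_four_of_quaternion_data a x 2 (by norm_num) hord hxa hx2 h hh
        have h4' : ∀ s ∈ Q.subgroupOf T, s ^ 4 = 1 := by
          intro s hs
          rw [mem_subgroupOf] at hs
          have h5 := h4 ⟨s, hs⟩
          apply Subtype.ext
          have := congrArg Subtype.val h5
          simpa using this
        have hcomm := comm_of_normal_exponent_four hN e (Q.subgroupOf T) h4'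
          ⟨a, hQT a.2⟩ ⟨x, hQT x.2⟩ (by rw [mem_subgroupOf]; exact a.2)
          (by rw [mem_subgroupOf]; exact x.2)
        have hcomm' : a * x = x * a := by
          apply Subtype.ext
          have := congrArg Subtype.val hcomm
          simpa using this
        have h6 : a = a⁻¹ := by
          rw [← hxa, ← hcomm']; group
        have h2 : a ^ 2 = 1 := by
          rw [pow_two]
          nth_rewrite 2 [h6]
          exact mul_inv_cancel a
        have := orderOf_dvd_of_pow_eq_one h2
        rw [hord] at this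
        norm_num at this
  apply isPGroup_two_of_odd_order_trivial
  intro g hg
  have hgQ : g ∈ Q := hCQ (hodd g hg)
  obtain ⟨k, hk⟩ := hQp ⟨g, hgQ⟩
  have hk' : g ^ 2 ^ k = 1 := by simpa using congrArg Subtype.val hk
  have hd := orderOf_dvd_of_pow_eq_one hk'
  have hcop : Nat.Coprime (orderOf g) (2 ^ k) :=
    Nat.Coprime.pow_right k (Nat.coprime_two_right.mpr hg)
  exact orderOf_eq_one_iff.mp (Nat.Coprime.eq_one_of_dvd hcop hd)

/-- a Sylow subgroup maps isomorphically into the quotient by a normal `p'`-subgroup -/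
theorem sylow_mulEquiv_map_mk' {G : Type*} [Group G] [Finite G] {p : ℕ} [Fact p.Prime]
    (T : Sylow p G) (D : Subgroup G) [D.Normal] (hD : (Nat.card D).Coprime p) :
    Nonempty (↥(T : Subgroup G) ≃* ↥((T : Subgroup G).map (QuotientGroup.mk' D))) := by
  refine ⟨MulEquiv.ofBijective ((QuotientGroup.mk' D).subgroupMap T)
    ⟨?_, MonoidHom.subgroupMap_surjective _ _⟩⟩
  rw [injective_iff_map_eq_one]
  intro t ht
  have h1 : (QuotientGroup.mk' D) (t : G) = 1 := by
    have := congrArg Subtype.val ht
    simpa using this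
  have h2 : (t : G) ∈ D := by
    rwa [QuotientGroup.mk'_apply, QuotientGroup.eq_one_iff] at h1
  have h3 : orderOf (t : G) ∣ Nat.card D := by
    have := orderOf_dvd_natCard (⟨(t : G), h2⟩ : D)
    rwa [Subgroup.orderOf_mk] at this
  obtain ⟨k, hk⟩ := T.isPGroup' t
  have hk' : (t : G) ^ p ^ k = 1 := by simpa using congrArg Subtype.val hk
  have h4 := orderOf_dvd_of_pow_eq_one hk'
  have hcop : Nat.Coprime (Nat.card D) (p ^ k) := Nat.Coprime.pow_right k hD
  have h5 : orderOf (t : G) = 1 := Nat.eq_one_of_dvd_coprimes hcop h3 h4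
  exact Subtype.ext (orderOf_eq_one_iff.mp h5)

/-- a finite solvable group with generalized quaternion Sylow `2`-subgroups of order at least
`32` has a normal `2`-complement -/
theorem hasNormalPComplement_of_solvable_quaternion_sylow {G : Type*} [Group G] [Finite G]
    (hsol : Group.IsSolvable G) (T : Sylow 2 G) {N : ℕ} [NeZero N] (hN : ¬ (2 * N ∣ 8))
    (hT : Nonempty (↥(T : Subgroup G) ≃* QuaternionGroup N)) :
    Cfsg.HasNormalPComplement 2 G := by
  have : Fact (Nat.Prime 2) := ⟨Nat.prime_two⟩
  obtain ⟨e⟩ := hT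
  set D := Cfsg.pPrimeCore 2 G with hD
  have hDn : D.Normal := pPrimeCore_normal 2 G
  have hDc : (Nat.card D).Coprime 2 := Cfsg.Agent.Lib.Helper12.pPrimeCore_coprime 2
  apply Cfsg.Agent.Lib.Helper12.hasNormalPComplement_of_quotient D hDc
  apply Cfsg.Agent.Lib.Helper12.hasNormalPComplement_of_isPGroup
  have hcore : Cfsg.pPrimeCore 2 (G ⧸ D) = ⊥ :=
    Cfsg.Agent.Lib.Helper9.pPrimeCore_quotient_eq_bot 2
  set Tb : Sylow 2 (G ⧸ D) := T.mapSurjective (QuotientGroup.mk'_surjective D) with hTb
  obtain ⟨e1⟩ := sylow_mulEquiv_map_mk' T D hDc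
  have hcoe : (Tb : Subgroup (G ⧸ D)) = (T : Subgroup G).map (QuotientGroup.mk' D) :=
    Sylow.coe_mapSurjective _ _
  have e2 : ↥(Tb : Subgroup (G ⧸ D)) ≃* QuaternionGroup N :=
    (MulEquiv.subgroupCongr hcoe).trans (e1.symm.trans e)
  have := hsol
  exact isPGroup_two_of_quaternion_sylow hcore Tb hN e2

end Cfsg.Agent.Lib.Helper1
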