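import Mathlib
import Cfsg.Prelude.Def_Transfer
import Cfsg.Prelude.Def_Solvable
import Cfsg.Prelude.Def_Local
import Cfsg.Prelude.Def_OddOrderLocal
import Cfsg.Prelude.Def_CaseTheorems
import Cfsg.Agent.Lib.Helper13.R3Defs2

/-!
# S4404 wave 2, leaf FIXPT `mem_fixB_of_fixed` (helper1)
-/

set_option autoImplicit false

namespace Cfsg.Agent.Lib.Helper1.R3FIXPT

open Pointwise Cfsg.Agent.Lib.Helper13.R3
open scoped commutatorElement

section act

variable {H : Type*} [Group H] [Finite H] {M : Type*} [CommGroup M] [Finite M]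
  [MulDistribMulAction H M]

omit [Finite H] [Finite M] in
/-- conjugating a pointwise fixer: `g ∈ C(P)` gives `e g e⁻¹ ∈ C(e • P)`. -/
lemma conj_mem_fixer_smul (e g : H) (P : Subgroup M) (hg : g ∈ fixer P) :
    e * g * e⁻¹ ∈ fixer (e • P) := by
  intro m hm
  obtain ⟨m', hm', rfl⟩ := hm
  have h1 : g • m' = m' := hg m' hm'
  change (e * g * e⁻¹) • (e • m') = e • m'
  rw [mul_smul, inv_smul_smul, mul_smul, h1]

/-- FIXPT `mem_fixB_of_fixed`: an element fixed by `e` modulo `fixB` and trivial on `b₀` is trivial on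
all three blocks. (`g ∈ C(b_i)` gives `e g e⁻¹ ∈ C(b_(i+1))`, and `g = (e g e⁻¹) k⁻¹`, `k ∈ fixB`.) -/
theorem mem_fixB_of_fixed (e : H) (b₀ : Subgroup M) (g : H)
    (hfix : g⁻¹ * (e * g * e⁻¹) ∈ fixB e b₀ 3) (hg0 : g ∈ fixer b₀) : g ∈ fixB e b₀ 3 := by
  -- step: `g ∈ C(e^i • b₀)` gives `g ∈ C(e^(i+1) • b₀)` for `i + 1 < 3`
  have step : ∀ i : ℕ, (hi : i + 1 < 3) → g ∈ fixer (e ^ i • b₀) → g ∈ fixer (e ^ (i + 1) • b₀) := by
    intro i hi hgi
    have h1 : e * g * e⁻¹ ∈ fixer (e • (e ^ i • b₀)) := conj_mem_fixer_smul e g _ hgi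
    have h2 : e • (e ^ i • b₀) = e ^ (i + 1) • b₀ := by
      rw [← mul_smul, ← pow_succ']
    rw [h2] at h1
    have h3 : g⁻¹ * (e * g * e⁻¹) ∈ fixer (e ^ (i + 1) • b₀) := by
      have := (mem_fixB.mp hfix) ⟨i + 1, hi⟩
      simpa using this
    have h4 : g = (e * g * e⁻¹) * (g⁻¹ * (e * g * e⁻¹))⁻¹ := by group
    rw [h4]
    exact Subgroup.mul_mem _ h1 (Subgroup.inv_mem _ h3)
  have h0 : g ∈ fixer (e ^ 0 • b₀) := by simpa using hg0
  have h1 : g ∈ fixer (e ^ 1 • b₀) := step 0 (by norm_num) h0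
  have h2 : g ∈ fixer (e ^ 2 • b₀) := step 1 (by norm_num) h1
  rw [mem_fixB]
  intro i
  fin_cases i
  · simpa using h0
  · simpa using h1
  · simpa using h2

end act

end Cfsg.Agent.Lib.Helper1.R3FIXPT
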