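import Mathlib
import Cfsg.Prelude.Def_Transfer
import Cfsg.Prelude.Def_Solvable
import Cfsg.Prelude.Def_Local
import Cfsg.Prelude.Def_OddOrderLocal
import Cfsg.Prelude.Def_CaseTheorems
import Cfsg.Agent.Lib.Helper13.R3Defs2
import Cfsg.Agent.Lib.Helper1.R3FIXPT

/-!
# S4404 wave 2, leaf QUOT `quotient_facts` (helper1)

A `3`-group normalizing a subgroup `b` of `M` with at most `8` elements acts on `b` through an
abelian group of exponent `3`: every orbit on `b \ {1}` has `1` or `3` points, the point stabilizer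
has index `1` or `3` in the `3`-group, so it is normal with a quotient of order `≤ 3`.
-/

set_option autoImplicit false

namespace Cfsg.Agent.Lib.Helper1.R3QUOT

open Pointwise Cfsg.Agent.Lib.Helper13.R3
open scoped commutatorElement

/-- In a finite `3`-group a subgroup of index `≤ 7` contains all cubes and all commutators. -/
lemma cube_comm_mem_of_index_le {P : Type*} [Group P] [Finite P] (hP : IsPGroup 3 P)
    (N : Subgroup P) (hN : N.index ≤ 7) :
    (∀ g : P, g ^ 3 ∈ N) ∧ ∀ g h : P, ⁅g, h⁆ ∈ N := by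
  have : Fact (Nat.Prime 3) := ⟨Nat.prime_three⟩
  obtain ⟨n, hn⟩ := hP.index N
  have hn1 : n ≤ 1 := by
    by_contra hcon
    push Not at hcon
    have : 3 ^ 2 ≤ 3 ^ n := Nat.pow_le_pow_right (by norm_num) hcon
    omega
  interval_cases n
  · -- index 1
    have htop : N = ⊤ := Subgroup.index_eq_one.mp (by simpa using hn)
    subst htop
    exact ⟨fun _ => Subgroup.mem_top _, fun _ _ => Subgroup.mem_top _⟩
  · -- index 3
    have hidx : N.index = 3 := by simpa using hn
    obtain ⟨k, hk⟩ := IsPGroup.iff_card.mp hP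
    have hk0 : k ≠ 0 := by
      rintro rfl
      have h1 : Nat.card P = 1 := by simpa using hk
      have : N.index ∣ Nat.card P := Subgroup.index_dvd_card N
      rw [h1, hidx] at this
      omega
    have hnorm : N.Normal := by
      apply Subgroup.normal_of_index_eq_minFac_card
      rw [hidx, hk, Nat.Prime.pow_minFac Nat.prime_three hk0]
    refine ⟨fun g => ?_, fun g h => ?_⟩
    · have := Subgroup.pow_index_mem N g
      rwa [hidx] at this
    · have hcard : Nat.card (P ⧸ N) = 3 := by rw [← Subgroup.index_eq_card, hidx]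
      have : IsCyclic (P ⧸ N) := isCyclic_of_prime_card hcard
      have hcomm : ∀ a b : P ⧸ N, a * b = b * a := fun a b => by
        let _ := IsCyclic.commGroup (α := P ⧸ N)
        exact mul_comm a b
      rw [← QuotientGroup.eq_one_iff]
      have : ((⁅g, h⁆ : P) : P ⧸ N) = ⁅(g : P ⧸ N), (h : P ⧸ N)⁆ := by
        simp [commutatorElement_def]
      rw [this, commutatorElement_eq_one_iff_mul_comm]
      exact hcomm _ _

section act

variable {H : Type*} [Group H] [Finite H] {M : Type*} [CommGroup M] [Finite M]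
  [MulDistribMulAction H M]

/-- A `3`-subgroup normalizing `b`, `|b| ≤ 8`: cubes and commutators centralize `b`. -/
lemma cube_comm_mem_fixer (b : Subgroup M) (hb8 : Nat.card b ≤ 8) (P : Subgroup H)
    (hP3 : IsPGroup 3 P) (hPb : ∀ g ∈ P, g • b = b) :
    (∀ g ∈ P, g ^ 3 ∈ fixer b) ∧ ∀ g ∈ P, ∀ h ∈ P, ⁅g, h⁆ ∈ fixer b := by
  -- for every `m ∈ b` the stabilizer of `m` in `P` has index `≤ 7`
  have key : ∀ m ∈ b, m ≠ 1 → (MulAction.stabilizer (↥P) m).index ≤ 7 := by
    intro m hm hm1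
    rw [MulAction.index_stabilizer]
    have hsub : MulAction.orbit (↥P) m ⊆ (b : Set M) \ {1} := by
      rintro _ ⟨g, rfl⟩
      refine ⟨?_, ?_⟩
      · have h1 : (g : H) • m ∈ (g : H) • b := Subgroup.smul_mem_pointwise_smul m (g : H) b hm
        rw [hPb g g.2] at h1
        exact h1
      · intro h1
        apply hm1
        have h2 : (g : H) • m = 1 := h1
        have h3 : (g : H)⁻¹ • ((g : H) • m) = (g : H)⁻¹ • (1 : M) := by rw [h2]
        rwa [inv_smul_smul, smul_one] at h3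
    have hfin : ((b : Set M) \ {1}).Finite := Set.toFinite _
    have h1 := Set.ncard_le_ncard hsub hfin
    have h2 : ((b : Set M) \ {1}).ncard = (b : Set M).ncard - 1 :=
      Set.ncard_sdiff_singleton_of_mem (Subgroup.one_mem b)
    have h3 : (b : Set M).ncard = Nat.card b := by
      rw [← Nat.card_coe_set_eq]; rfl
    omega
  have hP3' : IsPGroup 3 (↥P) := hP3
  refine ⟨fun g hg m hm => ?_, fun g hg h hh m hm => ?_⟩
  · by_cases hm1 : m = 1
    · subst hm1; exact smul_one _
    · have := (cube_comm_mem_of_index_le hP3' _ (key m hm hm1)).1 ⟨g, hg⟩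
      rw [MulAction.mem_stabilizer_iff] at this
      exact this
  · by_cases hm1 : m = 1
    · subst hm1; exact smul_one _
    · have := (cube_comm_mem_of_index_le hP3' _ (key m hm hm1)).2 ⟨g, hg⟩ ⟨h, hh⟩
      rw [MulAction.mem_stabilizer_iff] at this
      exact this

/-- QUOT `quotient_facts`: `P/(P ⊓ fixB)` is elementary abelian of exponent 3. (For each `i`,
`P ⊓ C(b_i)` is normal in `P` of index `≤ 3` by AUTR, so it contains cubes and commutators.) -/
theorem quotient_facts (hM2 : ∀ m : M, m ^ 2 = 1) (b₀ : Subgroup M) (hb8 : Nat.card b₀ ≤ 8)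
    (p : ℕ) (e : H) (P : Subgroup H) (hP3 : IsPGroup 3 P) (hPT : P ≤ kerB e b₀ p) :
    (∀ g ∈ P, ∀ k ∈ P ⊓ fixB e b₀ p, g * k * g⁻¹ ∈ P ⊓ fixB e b₀ p) ∧
    (∀ g ∈ P, g ^ 3 ∈ P ⊓ fixB e b₀ p) ∧ (∀ g ∈ P, ∀ h ∈ P, ⁅g, h⁆ ∈ P ⊓ fixB e b₀ p) := by
  have hstab : ∀ i : Fin p, ∀ g ∈ P, g • (e ^ (i : ℕ) • b₀) = e ^ (i : ℕ) • b₀ :=
    fun i g hg => (mem_kerB.mp (hPT hg)) i
  have hcard : ∀ i : Fin p, Nat.card ↥(e ^ (i : ℕ) • b₀) ≤ 8 := by
    intro i
    rw [← Nat.card_congr (Subgroup.equivSMul (e ^ (i : ℕ)) b₀).toEquiv]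
    exact hb8
  have hL := fun i : Fin p => cube_comm_mem_fixer (e ^ (i : ℕ) • b₀) (hcard i) P hP3 (hstab i)
  refine ⟨fun g hg k hk => ⟨?_, ?_⟩, fun g hg => ⟨?_, ?_⟩, fun g hg h hh => ⟨?_, ?_⟩⟩
  · exact P.mul_mem (P.mul_mem hg hk.1) (P.inv_mem hg)
  · refine mem_fixB.mpr fun i => ?_
    have h1 := Cfsg.Agent.Lib.Helper1.R3FIXPT.conj_mem_fixer_smul g k _ ((mem_fixB.mp hk.2) i)
    rwa [hstab i g hg] at h1
  · exact P.pow_mem hg 3
  · exact mem_fixB.mpr fun i => (hL i).1 g hg
  · rw [commutatorElement_def]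
    exact P.mul_mem (P.mul_mem (P.mul_mem hg hh) (P.inv_mem hg)) (P.inv_mem hh)
  · exact mem_fixB.mpr fun i => (hL i).2 g hg h hh

end act

end Cfsg.Agent.Lib.Helper1.R3QUOT
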