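import Mathlib
import Cfsg.Prelude.Def_Transfer
import Cfsg.Prelude.Def_Solvable
import Cfsg.Prelude.Def_Local
import Cfsg.Prelude.Def_OddOrderLocal
import Cfsg.Prelude.Def_CaseTheorems
import Cfsg.Agent.Lib.Helper13.R3Defs2
import Cfsg.Agent.Lib.Helper1.R3FIXPT
import Cfsg.Agent.Lib.Helper1.R3QUOT
import Cfsg.Agent.Lib.Helper17.R3AUTR

/-!
# S4404 wave 2, leaf FINAL3 `final_three` (helper1): `_of` form over AUTR (`r = 3`) and the exact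
leaf (AUTR = `Cfsg.Agent.Lib.Helper17.R3AUTR.relIndex_fixer_le`)
-/

set_option autoImplicit false

namespace Cfsg.Agent.Lib.Helper1.R3FINAL3

open Pointwise Cfsg.Agent.Lib.Helper13.R3
open scoped commutatorElement

/-- In a finite `3`-group, a subgroup `N` of index `≤ 3` and `a ∉ N`: every element is congruent to
a power of `a⁻¹` modulo `N`. -/
lemma exists_mul_pow_mem {P : Type*} [Group P] [Finite P] (hP : IsPGroup 3 P)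
    (N : Subgroup P) (hN : N.index ≤ 3) (a : P) (ha : a ∉ N) (c : P) :
    ∃ k : ℕ, c * a ^ k ∈ N := by
  have : Fact (Nat.Prime 3) := ⟨Nat.prime_three⟩
  obtain ⟨n, hn⟩ := hP.index N
  have hn1 : n ≤ 1 := by
    by_contra hcon
    push Not at hcon
    have : 3 ^ 2 ≤ 3 ^ n := Nat.pow_le_pow_right (by norm_num) hcon
    omega
  interval_cases n
  · have htop : N = ⊤ := Subgroup.index_eq_one.mp (by simpa using hn)
    exact absurd (htop ▸ Subgroup.mem_top a) ha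
  · have hidx : N.index = 3 := by simpa using hn
    obtain ⟨k, hk⟩ := IsPGroup.iff_card.mp hP
    have hk0 : k ≠ 0 := by
      rintro rfl
      have h1 : Nat.card P = 1 := by simpa using hk
      have : N.index ∣ Nat.card P := Subgroup.index_dvd_card N
      rw [h1, hidx] at this
      omega
    have hnorm : N.Normal := by
      apply Subgroup.normal_of_index_eq_minFac_card
      rw [hidx, hk, Nat.Prime.pow_minFac Nat.prime_three hk0]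
    have hcard : Nat.card (P ⧸ N) = 3 := by rw [← Subgroup.index_eq_card, hidx]
    have ha1 : (a : P ⧸ N) ≠ 1 := by
      intro h
      exact ha ((QuotientGroup.eq_one_iff a).mp h)
    obtain ⟨k, hk⟩ := mem_powers_of_prime_card (p := 3) hcard ha1 (g' := ((c : P ⧸ N))⁻¹)
    refine ⟨k, ?_⟩
    rw [← QuotientGroup.eq_one_iff]
    have hk' : (a : P ⧸ N) ^ k = ((c : P ⧸ N))⁻¹ := hk
    rw [QuotientGroup.mk_mul, QuotientGroup.mk_pow, hk', mul_inv_cancel]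

section act

variable {H : Type*} [Group H] [Finite H] {M : Type*} [CommGroup M] [Finite M]
  [MulDistribMulAction H M]

/-- FINAL3 in `_of` form: the only input is AUTR for `r = 3`, `R = P`, `b = b₀`. -/
theorem final_three_of (hM2 : ∀ m : M, m ^ 2 = 1) (b₀ : Subgroup M) (hb8 : Nat.card b₀ ≤ 8) (e : H)
    (P : Subgroup H) (hP3 : IsPGroup 3 P) (hPT : P ≤ kerB e b₀ 3)
    (hAUTR : (P ⊓ fixer b₀).relIndex P ≤ 3)
    (hPe : ∀ g ∈ P, e * g * e⁻¹ ∈ P) (g₁ g₂ : H) (hg₁ : g₁ ∈ P) (hg₂ : g₂ ∈ P)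
    (h₁ : g₁⁻¹ * (e * g₁ * e⁻¹) ∈ fixB e b₀ 3) (h₂ : g₂⁻¹ * (e * g₂ * e⁻¹) ∈ fixB e b₀ 3)
    (hn₁ : g₁ ∉ fixB e b₀ 3) : ∃ k : ℕ, g₂ * g₁ ^ k ∈ fixB e b₀ 3 := by
  -- `K = P ⊓ fixB` is normalized by `P`
  have hK := (Cfsg.Agent.Lib.Helper1.R3QUOT.quotient_facts hM2 b₀ hb8 3 e P hP3 hPT).1
  -- `g₁ ∉ C(b₀)` by FIXPT
  have hg₁0 : g₁ ∉ fixer b₀ := fun h =>
    hn₁ (Cfsg.Agent.Lib.Helper1.R3FIXPT.mem_fixB_of_fixed e b₀ g₁ h₁ h)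
  -- choose `k`
  have hidx : ((fixer b₀).subgroupOf P).index ≤ 3 := by
    have : (P ⊓ fixer b₀).subgroupOf P = (fixer b₀).subgroupOf P := Subgroup.inf_subgroupOf_left _ _
    rw [Subgroup.relIndex, this] at hAUTR
    exact hAUTR
  have hP3' : IsPGroup 3 (↥P) := hP3
  obtain ⟨k, hk⟩ := exists_mul_pow_mem hP3' _ hidx ⟨g₁, hg₁⟩
    (by rw [Subgroup.mem_subgroupOf]; exact hg₁0) ⟨g₂, hg₂⟩
  rw [Subgroup.mem_subgroupOf] at hk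
  have hx0 : g₂ * g₁ ^ k ∈ fixer b₀ := by simpa using hk
  refine ⟨k, Cfsg.Agent.Lib.Helper1.R3FIXPT.mem_fixB_of_fixed e b₀ _ ?_ hx0⟩
  -- the product is again fixed modulo `K`
  have hk₁ : g₁⁻¹ * (e * g₁ * e⁻¹) ∈ P ⊓ fixB e b₀ 3 :=
    ⟨P.mul_mem (P.inv_mem hg₁) (hPe g₁ hg₁), h₁⟩
  have hk₂ : g₂⁻¹ * (e * g₂ * e⁻¹) ∈ P ⊓ fixB e b₀ 3 :=
    ⟨P.mul_mem (P.inv_mem hg₂) (hPe g₂ hg₂), h₂⟩
  have hpow : ∀ n : ℕ, (g₁ ^ n)⁻¹ * (e * g₁ * e⁻¹) ^ n ∈ P ⊓ fixB e b₀ 3 := by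
    intro n
    induction n with
    | zero => simp
    | succ n ih =>
      have h1 := hK g₁⁻¹ (P.inv_mem hg₁) _ ih
      have h2 := Subgroup.mul_mem _ h1 hk₁
      have h3 : (g₁ ^ (n + 1))⁻¹ * (e * g₁ * e⁻¹) ^ (n + 1) =
          g₁⁻¹ * ((g₁ ^ n)⁻¹ * (e * g₁ * e⁻¹) ^ n) * g₁⁻¹⁻¹ * (g₁⁻¹ * (e * g₁ * e⁻¹)) := by
        rw [pow_succ g₁ n, pow_succ (e * g₁ * e⁻¹) n]
        group
      rw [h3]
      exact h2
  have hconj : e * (g₂ * g₁ ^ k) * e⁻¹ = (e * g₂ * e⁻¹) * (e * g₁ * e⁻¹) ^ k := by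
    rw [conj_pow]
    group
  rw [hconj]
  have h4 := hK (g₁ ^ k)⁻¹ (P.inv_mem (P.pow_mem hg₁ k)) _ hk₂
  have h5 := Subgroup.mul_mem _ h4 (hpow k)
  have h6 : (g₂ * g₁ ^ k)⁻¹ * ((e * g₂ * e⁻¹) * (e * g₁ * e⁻¹) ^ k) =
      (g₁ ^ k)⁻¹ * (g₂⁻¹ * (e * g₂ * e⁻¹)) * (g₁ ^ k)⁻¹⁻¹ * ((g₁ ^ k)⁻¹ * (e * g₁ * e⁻¹) ^ k) := by
    group
  rw [h6]
  exact h5.2

/-- FINAL3 `final_three`: the `e`-fixed points of `P/K` form a group of order `≤ 3`.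
(FIXPT: `g₁ ∉ C(b₀)`. `L := P ⊓ C(b₀)` is normal in `P` of index 3 (AUTR), so `g₂ g₁^k ∈ L` for some `k`;
`g₂ g₁^k` is again fixed mod `K` (`K = P ⊓ fixB` normal in `P`); FIXPT.) -/
theorem final_three (hM2 : ∀ m : M, m ^ 2 = 1) (b₀ : Subgroup M) (hb8 : Nat.card b₀ ≤ 8) (e : H)
    (he3 : e ^ 3 = 1) (P : Subgroup H) (hP3 : IsPGroup 3 P) (hPT : P ≤ kerB e b₀ 3)
    (hPe : ∀ g ∈ P, e * g * e⁻¹ ∈ P) (g₁ g₂ : H) (hg₁ : g₁ ∈ P) (hg₂ : g₂ ∈ P)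
    (h₁ : g₁⁻¹ * (e * g₁ * e⁻¹) ∈ fixB e b₀ 3) (h₂ : g₂⁻¹ * (e * g₂ * e⁻¹) ∈ fixB e b₀ 3)
    (hn₁ : g₁ ∉ fixB e b₀ 3) : ∃ k : ℕ, g₂ * g₁ ^ k ∈ fixB e b₀ 3 := by
  have hstab : ∀ f ∈ P, f • b₀ = b₀ := by
    intro f hf
    have := (mem_kerB.mp (hPT hf)) ⟨0, by norm_num⟩
    simpa using this
  have hAUTR := Cfsg.Agent.Lib.Helper17.R3AUTR.relIndex_fixer_le hM2 b₀ hb8 3 Nat.prime_three
    (by norm_num) P hP3 hstab
  exact final_three_of hM2 b₀ hb8 e P hP3 hPT hAUTR hPe g₁ g₂ hg₁ hg₂ h₁ h₂ hn₁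

end act

end Cfsg.Agent.Lib.Helper1.R3FINAL3
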