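import Mathlib
import Cfsg.Prelude.Def_Transfer
import Cfsg.Prelude.Def_Solvable
import Cfsg.Prelude.Def_Local
import Cfsg.Prelude.Def_OddOrderLocal
import Cfsg.Prelude.Def_CaseTheorems
import Cfsg.Agent.Lib.Helper13.R3Defs2
import Cfsg.Agent.Lib.Helper2.R3ROOT

/-!
# S4404 wave 2, leaf ZROOT `exists_indep_elements` (helper1)

Self-contained: local versions of ORBIT / CONJ1 / CONJ2 / CONJ3 (primed names) are proved here.
-/

set_option autoImplicit false

namespace Cfsg.Agent.Lib.Helper1.R3ZROOT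

open Pointwise Cfsg.Agent.Lib.Helper13.R3
open scoped commutatorElement

section act

variable {H : Type*} [Group H] [Finite H] {M : Type*} [CommGroup M] [Finite M]
  [MulDistribMulAction H M]

omit [Finite H] [Finite M] in
/-- a pointwise fixed subgroup is stabilized -/
lemma smul_eq_of_fixes (g : H) (B : Subgroup M) (hg : ∀ m ∈ B, g • m = m) : g • B = B := by
  ext m
  rw [Subgroup.mem_pointwise_smul_iff_inv_smul_mem]
  constructor
  · intro hm
    have := hg _ hm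
    rw [smul_inv_smul] at this
    rw [this]; exact hm
  · intro hm
    have : g⁻¹ • m = m := by
      have h1 := hg m hm
      calc g⁻¹ • m = g⁻¹ • (g • m) := by rw [h1]
        _ = m := inv_smul_smul g m
    rw [this]; exact hm

omit [Finite H] [Finite M] in
/-- ORBIT', the direction needed: distinct residues give distinct blocks. -/
lemma smul_ne_of_lt (p : ℕ) (hp : p.Prime) (e : H) (he : e ^ p = 1) (b₀ : Subgroup M)
    (hne : e • b₀ ≠ b₀) (i j : ℕ) (hi : i < p) (hj : j < p) (hij : i ≠ j) :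
    e ^ i • b₀ ≠ e ^ j • b₀ := by
  intro heq
  -- `e ^ (j - i : ℤ)` stabilizes `b₀`
  have h1 : (e ^ ((j : ℤ) - (i : ℤ))) • b₀ = b₀ := by
    have h0 : e ^ ((j : ℤ) - (i : ℤ)) = (e ^ i)⁻¹ * e ^ j := by
      rw [sub_eq_neg_add, zpow_add, zpow_neg, zpow_natCast, zpow_natCast]
    rw [h0, mul_smul, ← heq, inv_smul_smul]
  -- Bezout
  have hcop : IsCoprime ((j : ℤ) - (i : ℤ)) (p : ℤ) := by
    have hpz : Prime (p : ℤ) := Nat.prime_iff_prime_int.mp hp
    rw [isCoprime_comm]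
    refine (Prime.coprime_iff_not_dvd hpz).mpr ?_
    intro hdvd
    have : i ≡ j [MOD p] := (Nat.modEq_iff_dvd).mpr hdvd
    rw [Nat.ModEq, Nat.mod_eq_of_lt hi, Nat.mod_eq_of_lt hj] at this
    exact hij this
  obtain ⟨a, b, hab⟩ := hcop
  have hstab : ∀ n : ℤ, (e ^ ((j : ℤ) - (i : ℤ))) ^ n • b₀ = b₀ := by
    intro n
    have hmem : e ^ ((j : ℤ) - (i : ℤ)) ∈ MulAction.stabilizer H b₀ := h1
    exact (Subgroup.zpow_mem _ hmem n)
  have h2 : e = (e ^ ((j : ℤ) - (i : ℤ))) ^ a * (e ^ (p : ℤ)) ^ b := by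
    rw [← zpow_mul, ← zpow_mul, ← zpow_add]
    have : ((j : ℤ) - (i : ℤ)) * a + (p : ℤ) * b = 1 := by linarith
    rw [this, zpow_one]
  apply hne
  rw [h2, zpow_natCast, he, one_zpow, mul_one]
  exact hstab a

omit [Finite H] [Finite M] in
/-- CONJ1': `g x g⁻¹` fixes every block other than `g • b₀` pointwise. -/
lemma conj_fixes' (x : H) (b₀ : Subgroup M) (hb : Blk x b₀) (g h : H) (hne : h • b₀ ≠ g • b₀)
    (m : M) (hm : m ∈ h • b₀) : (g * x * g⁻¹) • m = m := by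
  have h1 : g⁻¹ • m ∈ (g⁻¹ * h) • b₀ := by
    rw [mul_smul]
    exact Subgroup.smul_mem_pointwise_smul m g⁻¹ _ hm
  have h2 : (g⁻¹ * h) • b₀ ≠ b₀ := by
    intro h3
    apply hne
    rw [mul_smul] at h3
    calc h • b₀ = g • (g⁻¹ • (h • b₀)) := by rw [smul_inv_smul]
      _ = g • b₀ := by rw [h3]
  have h3 := hb.2.2.2 (g⁻¹ * h) h2 _ h1
  rw [mul_smul, mul_smul, h3, smul_inv_smul]

omit [Finite H] [Finite M] in
/-- CONJ2': `g x g⁻¹` stabilizes `g • b₀`. -/
lemma conj_stabilizes' (x : H) (b₀ : Subgroup M) (hb : Blk x b₀) (g : H) :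
    (g * x * g⁻¹) • (g • b₀) = g • b₀ := by
  rw [← mul_smul, inv_mul_cancel_right, mul_smul, hb.2.2.1]

omit [Finite H] [Finite M] in
/-- CONJ3': `g x g⁻¹` moves some element of `g • b₀`. -/
lemma conj_moves' (hM2 : ∀ m : M, m ^ 2 = 1) (x : H) (hx : IsRoot M x) (b₀ : Subgroup M)
    (hb : Blk x b₀) (g : H) : ∃ m ∈ g • b₀, (g * x * g⁻¹) • m ≠ m := by
  -- a nontrivial element of `[M,x]`
  have hcard : Nat.card (cSub M x) = 4 := hx.2
  have hnt : ∃ v ∈ cSub M x, v ≠ 1 := by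
    by_contra hcon
    push Not at hcon
    have : cSub M x = ⊥ := (Subgroup.eq_bot_iff_forall _).mpr hcon
    rw [this] at hcard
    simp at hcard
  obtain ⟨v, hv, hv1⟩ := hnt
  refine ⟨g • v, Subgroup.smul_mem_pointwise_smul v g _ (hb.1 hv), ?_⟩
  intro hfix
  rw [mul_smul, mul_smul, inv_smul_smul] at hfix
  have h1 : x • v = v := by
    have := congrArg (fun m => g⁻¹ • m) hfix
    simpa using this
  exact hv1 (Cfsg.Agent.Lib.Helper2.R3ROOT.eq_one_of_fixed hM2 x hx.1 v hv h1)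

/-- ZROOT `exists_indep_elements`: for each block a conjugate (inside `P`) of the root `e^i x e^-i`.
(`y_i := e^i x e^-i ∈ kerB` by CONJ1/CONJ2 and ORBIT; it is a 3-element; `z_i := t y_i t⁻¹ ∈ P` with
`t ∈ kerB`; `t` stabilizes every block, so `z_i` is still trivial on `b_j` (`j ≠ i`, CONJ1 + ORBIT),
nontrivial on `b_i` (CONJ3), and `z_i^3 = t y_i^3 t⁻¹` acts trivially on `M`.) -/
theorem exists_indep_elements (hM2 : ∀ m : M, m ^ 2 = 1) (x : H) (hx : IsRoot M x)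
    (hx3 : ∃ k : ℕ, x ^ 3 ^ k = 1) (b₀ : Subgroup M) (hb : Blk x b₀) (p : ℕ) (hp : p.Prime)
    (e : H) (hep : e ^ p = 1) (hne : e • b₀ ≠ b₀) (P : Subgroup H) (hPT : P ≤ kerB e b₀ p)
    (hPconj : ∀ g ∈ kerB e b₀ p, (∃ k : ℕ, g ^ 3 ^ k = 1) → ∃ t ∈ kerB e b₀ p, t * g * t⁻¹ ∈ P) :
    ∃ z : Fin p → H, (∀ i, z i ∈ P) ∧ (∀ i j : Fin p, i ≠ j → z i ∈ fixer (e ^ (j : ℕ) • b₀)) ∧
      (∀ i : Fin p, z i ∉ fixer (e ^ (i : ℕ) • b₀)) ∧
      (∀ i : Fin p, z i ^ 3 ∈ fixer (e ^ (i : ℕ) • b₀)) := by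
  classical
  -- the roots `y i`
  set y : Fin p → H := fun i => e ^ (i : ℕ) * x * (e ^ (i : ℕ))⁻¹ with hy
  have hblk_ne : ∀ i j : Fin p, i ≠ j → e ^ (j : ℕ) • b₀ ≠ e ^ (i : ℕ) • b₀ := by
    intro i j hij
    exact smul_ne_of_lt p hp e hep b₀ hne j i j.2 i.2 (fun h => hij (Fin.ext h.symm))
  -- `y i` fixes `b_j` pointwise for `j ≠ i`
  have hyfix : ∀ i j : Fin p, i ≠ j → ∀ m ∈ e ^ (j : ℕ) • b₀, y i • m = m := by
    intro i j hij m hm
    exact conj_fixes' x b₀ hb (e ^ (i : ℕ)) (e ^ (j : ℕ)) (hblk_ne i j hij) m hm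
  -- `y i ∈ kerB`
  have hyker : ∀ i : Fin p, y i ∈ kerB e b₀ p := by
    intro i
    rw [mem_kerB]
    intro j
    by_cases hij : i = j
    · subst hij
      exact conj_stabilizes' x b₀ hb (e ^ (i : ℕ))
    · exact smul_eq_of_fixes _ _ (hyfix i j hij)
  -- `y i` is a 3-element
  have hy3 : ∀ i : Fin p, ∃ k : ℕ, y i ^ 3 ^ k = 1 := by
    intro i
    obtain ⟨k, hk⟩ := hx3
    refine ⟨k, ?_⟩
    rw [hy]
    simp only
    rw [conj_pow, hk, mul_one, mul_inv_cancel]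
  -- conjugate into `P`
  choose t htker htP using fun i : Fin p => hPconj (y i) (hyker i) (hy3 i)
  have htstab : ∀ i j : Fin p, t i • (e ^ (j : ℕ) • b₀) = e ^ (j : ℕ) • b₀ :=
    fun i j => (mem_kerB.mp (htker i)) j
  have htstab' : ∀ i j : Fin p, (t i)⁻¹ • (e ^ (j : ℕ) • b₀) = e ^ (j : ℕ) • b₀ := by
    intro i j
    have := (Subgroup.inv_mem _ (htker i))
    exact (mem_kerB.mp this) j
  refine ⟨fun i => t i * y i * (t i)⁻¹, htP, ?_, ?_, ?_⟩
  · -- trivial on the other blocks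
    intro i j hij m hm
    have h1 : (t i)⁻¹ • m ∈ e ^ (j : ℕ) • b₀ := by
      have := Subgroup.smul_mem_pointwise_smul m (t i)⁻¹ _ hm
      rwa [htstab' i j] at this
    change (t i * y i * (t i)⁻¹) • m = m
    rw [mul_smul, mul_smul, hyfix i j hij _ h1, smul_inv_smul]
  · -- nontrivial on its own block
    intro i hfix
    obtain ⟨m, hm, hmne⟩ := conj_moves' hM2 x hx b₀ hb (e ^ (i : ℕ))
    have h1 : t i • m ∈ e ^ (i : ℕ) • b₀ := by
      have := Subgroup.smul_mem_pointwise_smul m (t i) _ hm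
      rwa [htstab i i] at this
    have h2 := hfix (t i • m) h1
    change (t i * y i * (t i)⁻¹) • (t i • m) = t i • m at h2
    rw [mul_smul, mul_smul, inv_smul_smul] at h2
    apply hmne
    have := congrArg (fun m => (t i)⁻¹ • m) h2
    simpa using this
  · -- cubes act trivially on `M`
    intro i m _
    change (t i * y i * (t i)⁻¹) ^ 3 • m = m
    rw [conj_pow, hy]
    simp only
    rw [conj_pow, mul_smul, mul_smul, mul_smul, mul_smul, hx.1, smul_inv_smul, smul_inv_smul]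

end act

end Cfsg.Agent.Lib.Helper1.R3ZROOT
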