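import Mathlib
import Cfsg.Prelude.Def_CaseTheorems
import Cfsg.Prelude.Def_OddOrderLocal
import Cfsg.Agent.Lib.Helper26.OrderPCubeA
import Cfsg.Agent.Lib.Helper1.OmegaRankTwo
import Cfsg.Agent.Lib.Helper1.ClassThreePow

/-!
helper1: leaf R5E of S5289 (the order `p⁴` engine).
-/

set_option autoImplicit false
open scoped commutatorElement

namespace Cfsg.Agent.Lib.Helper1.R5Leaf

open Cfsg.Agent.Lib.Helper1

section
variable {S : Type*} [Group S] [Finite S] {p : ℕ} [Fact p.Prime]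

/-- structure of a group of order `p⁴` with a subgroup of order `p³` and exponent `p` -/
theorem r5e_setup (hp : 3 < p) (hS : Nat.card S = p ^ 4) (T : Subgroup S)
    (hT : Nat.card T = p ^ 3) (hTexp : ∀ x ∈ T, x ^ p = 1) :
    T.Normal ∧ commutator S ≤ T ∧ (∀ x y : S, (x * y) ^ p = x ^ p * y ^ p) ∧
      (∀ x : S, x ^ p ∈ T) := by
  have hpp : p.Prime := Fact.out
  have hidx : T.index = p := by
    have h1 := T.index_mul_card
    rw [hS, hT] at h1
    have h2 : T.index * p ^ 3 = p * p ^ 3 := by rw [h1]; ring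
    exact Nat.eq_of_mul_eq_mul_right (pow_pos hpp.pos 3) h2
  have hTn : T.Normal := by
    apply Subgroup.normal_of_index_eq_minFac_card
    rw [hidx, hS, Nat.Prime.pow_minFac hpp (by norm_num)]
  have hcardq : Nat.card (S ⧸ T) = p := by rw [← Subgroup.index_eq_card, hidx]
  have hcyc : IsCyclic (S ⧸ T) := isCyclic_of_prime_card hcardq
  have hder : commutator S ≤ T := by
    rw [← Subgroup.Normal.quotient_commutative_iff_commutator_le]
    exact ⟨⟨fun a b => (IsCyclic.commGroup (α := S ⧸ T)).mul_comm a b⟩⟩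
  have hSp : IsPGroup p S := IsPGroup.of_card hS
  have hcl := class_three_of_card_le hSp (le_of_eq hS)
  have hder2 : commutator S ≤ Subgroup.closure {x : S | x ^ p = 1} := by
    intro x hx
    exact Subgroup.subset_closure (hTexp x (hder hx))
  refine ⟨hTn, hder, mul_pow_prime_of_small_class (Or.inr ⟨hp, hcl⟩) hder2, ?_⟩
  intro x
  have h1 : ((QuotientGroup.mk x : S ⧸ T)) ^ p = 1 := by
    have := pow_card_eq_one' (G := S ⧸ T) (x := QuotientGroup.mk x)
    rwa [hcardq] at this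
  rw [← QuotientGroup.mk_pow, QuotientGroup.eq_one_iff] at h1
  exact h1

/-- the centre of a non-abelian subgroup of order `p³` is generated by any of its non-trivial
elements -/
theorem r5e_center (T : Subgroup S) (hT : Nat.card T = p ^ 3) (w₁ w₂ : S) (hw₁ : w₁ ∈ T)
    (hw₂ : w₂ ∈ T) (hw₁1 : w₁ ≠ 1) (hw₁c : ∀ x ∈ T, x * w₁ = w₁ * x)
    (hw₂c : ∃ x ∈ T, x * w₂ ≠ w₂ * x) :
    (∀ x ∈ T, (∀ y ∈ T, y * x = x * y) → x ∈ Subgroup.zpowers w₁) ∧
      (∀ a ∈ T, ∀ b ∈ T, ⁅a, b⁆ ∈ Subgroup.zpowers w₁) := by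
  have hna : ¬ ∀ a b : T, a * b = b * a := by
    intro h
    obtain ⟨x, hx, hxw⟩ := hw₂c
    apply hxw
    have := h ⟨x, hx⟩ ⟨w₂, hw₂⟩
    exact congrArg Subtype.val this
  have hZ := Cfsg.Agent.Lib.Helper26.card_center_of_cube hT hna
  have key : ∀ x ∈ T, (∀ y ∈ T, y * x = x * y) → x ∈ Subgroup.zpowers w₁ := by
    intro x hx hxc
    have hw₁Z : (⟨w₁, hw₁⟩ : T) ∈ Subgroup.center T := by
      rw [Subgroup.mem_center_iff]
      intro g
      exact Subtype.ext (hw₁c g g.2)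
    have hxZ : (⟨x, hx⟩ : T) ∈ Subgroup.center T := by
      rw [Subgroup.mem_center_iff]
      intro g
      exact Subtype.ext (hxc g g.2)
    have hne : (⟨⟨w₁, hw₁⟩, hw₁Z⟩ : Subgroup.center T) ≠ 1 := by
      intro h
      apply hw₁1
      have := congrArg (fun t : Subgroup.center T => ((t : T) : S)) h
      exact this
    have htop := zpowers_eq_top_of_prime_card hZ hne
    have hmem : (⟨⟨x, hx⟩, hxZ⟩ : Subgroup.center T) ∈
        Subgroup.zpowers (⟨⟨w₁, hw₁⟩, hw₁Z⟩ : Subgroup.center T) := by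
      rw [htop]; exact Subgroup.mem_top _
    obtain ⟨k, hk⟩ := Subgroup.mem_zpowers_iff.mp hmem
    refine Subgroup.mem_zpowers_iff.mpr ⟨k, ?_⟩
    have := congrArg (fun t : Subgroup.center T => ((t : T) : S)) hk
    simpa using this
  refine ⟨key, ?_⟩
  intro a ha b hb
  obtain ⟨h1, -, -⟩ := Cfsg.Agent.Lib.Helper26.cube_structure hT hna
  have h2 := h1 ⟨a, ha⟩ ⟨b, hb⟩
  rw [Subgroup.mem_center_iff] at h2
  apply key
  · exact T.mul_mem (T.mul_mem (T.mul_mem ha hb) (T.inv_mem ha)) (T.inv_mem hb)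
  · intro y hy
    have := congrArg Subtype.val (h2 ⟨y, hy⟩)
    simpa [commutatorElement_def] using this

/-- bilinearity of a central commutator -/
theorem r5e_bilin {G : Type*} [Group G] {x c a : G} (hcx : c * x = a * x * c)
    (ha : ∀ g : G, Commute a g) (k m : ℕ) : c ^ k * x ^ m = a ^ (k * m) * x ^ m * c ^ k := by
  have h1 := pow_mul_of_central_comm hcx ha k
  have ha' : ∀ g : G, Commute (a ^ k) g := fun g => (ha g).pow_left k
  have h2 := mul_pow_of_central_comm h1 ha' m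
  rw [h2, ← pow_mul]


/-- computation in a quotient: the conjugation action of `R^m * t` on `W` -/
theorem r5e_quot {Q : Type*} [Group Q] (R W V Tt : Q) (hV : V = ⁅W, R⁆) (hRV : R * V = V * R)
    (hVW : V * W = W * V) (hTW : Tt * W = W * Tt) (m n : ℕ) :
    ⁅W ^ n, R ^ m * Tt⁆ = V ^ (m * n) := by
  -- `R * W = V⁻¹ * W * R`
  have h1 : R * W = V⁻¹ * W * R := by
    rw [hV, commutatorElement_def]; group
  have hRV' : R * V⁻¹ = V⁻¹ * R := (Commute.inv_right (show Commute R V from hRV)).eq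
  have h2 : ∀ k : ℕ, R ^ k * W = (V⁻¹) ^ k * W * R ^ k := by
    intro k
    induction k with
    | zero => simp
    | succ k ih =>
      have hc : R * (V⁻¹) ^ k = (V⁻¹) ^ k * R := by
        have : Commute R V⁻¹ := hRV'
        exact (this.pow_right k)
      calc R ^ (k + 1) * W = R * (R ^ k * W) := by rw [pow_succ']; group
        _ = R * ((V⁻¹) ^ k * W * R ^ k) := by rw [ih]
        _ = (R * (V⁻¹) ^ k) * W * R ^ k := by group
        _ = (V⁻¹) ^ k * (R * W) * R ^ k := by rw [hc]; group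
        _ = (V⁻¹) ^ k * (V⁻¹ * W * R) * R ^ k := by rw [h1]
        _ = (V⁻¹) ^ (k + 1) * W * R ^ (k + 1) := by rw [pow_succ, pow_succ']; group
  -- conjugation by `g = R^m * Tt`
  have h3 : (R ^ m * Tt) * W = ((V⁻¹) ^ m * W) * (R ^ m * Tt) := by
    calc (R ^ m * Tt) * W = R ^ m * (Tt * W) := by group
      _ = R ^ m * (W * Tt) := by rw [hTW]
      _ = (R ^ m * W) * Tt := by group
      _ = ((V⁻¹) ^ m * W * R ^ m) * Tt := by rw [h2 m]
      _ = ((V⁻¹) ^ m * W) * (R ^ m * Tt) := by group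
  have h4 : ∀ k : ℕ, (R ^ m * Tt) * W ^ k = ((V⁻¹) ^ m * W) ^ k * (R ^ m * Tt) := by
    intro k
    induction k with
    | zero => simp
    | succ k ih =>
      calc (R ^ m * Tt) * W ^ (k + 1) = ((R ^ m * Tt) * W ^ k) * W := by rw [pow_succ]; group
        _ = ((V⁻¹) ^ m * W) ^ k * ((R ^ m * Tt) * W) := by rw [ih]; group
        _ = ((V⁻¹) ^ m * W) ^ k * (((V⁻¹) ^ m * W) * (R ^ m * Tt)) := by rw [h3]
        _ = ((V⁻¹) ^ m * W) ^ (k + 1) * (R ^ m * Tt) := by rw [pow_succ]; group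
  have hVW' : Commute ((V⁻¹) ^ m) W := by
    have h0 : Commute V W := hVW
    exact (h0.inv_left.pow_left m)
  have h5 : ((V⁻¹) ^ m * W) ^ n = (V⁻¹) ^ (m * n) * W ^ n := by
    rw [hVW'.mul_pow, ← pow_mul]
  have h6 : (R ^ m * Tt) * W ^ n * (R ^ m * Tt)⁻¹ = (V⁻¹) ^ (m * n) * W ^ n := by
    rw [h4 n, h5]; group
  have hVWn : Commute (V ^ (m * n)) (W ^ n) := by
    have h0 : Commute V W := hVW
    exact (h0.pow_pow _ _)
  -- the commutator
  calc ⁅W ^ n, R ^ m * Tt⁆ = W ^ n * ((R ^ m * Tt) * W ^ n * (R ^ m * Tt)⁻¹)⁻¹ := by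
        rw [commutatorElement_def]; group
    _ = W ^ n * ((V⁻¹) ^ (m * n) * W ^ n)⁻¹ := by rw [h6]
    _ = W ^ n * ((W ^ n)⁻¹ * V ^ (m * n)) := by
        congr 1
        rw [mul_inv_rev, inv_pow, inv_inv]
    _ = V ^ (m * n) := by group


/-- R5E: the order `p⁴` engine. -/
theorem beta_engine {S : Type*} [Group S] [Finite S] {p : ℕ} [Fact p.Prime] (hp : 3 < p)
    (hS : Nat.card S = p ^ 4)
    (T : Subgroup S) (hT : Nat.card T = p ^ 3) (hTexp : ∀ x ∈ T, x ^ p = 1)
    (hΩ : ∀ x : S, x ^ p = 1 → x ∈ T)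
    (w₁ w₂ : S) (hw₁ : w₁ ∈ T) (hw₂ : w₂ ∈ T) (hw₁1 : w₁ ≠ 1)
    (hw₁c : ∀ x ∈ T, x * w₁ = w₁ * x) (hw₂c : ∃ x ∈ T, x * w₂ ≠ w₂ * x)
    (hN : ∀ s : S, s * w₂ * s⁻¹ ∈ Subgroup.closure ({w₁, w₂} : Set S) → s ∈ T)
    (σ : MulAut S) (u u' : ℕ) (huu : u * u' ≡ 1 [MOD p])
    (hσ₁ : σ w₁ = w₁ ^ u) (hσ₂ : σ w₂ = w₂ ^ u') : u * u ≡ 1 [MOD p] := by
  classical
  have hpp : p.Prime := Fact.out
  obtain ⟨hTn, hder, hpow, hpT⟩ := r5e_setup hp hS T hT hTexp
  obtain ⟨hcen, hcomm⟩ := r5e_center T hT w₁ w₂ hw₁ hw₂ hw₁1 hw₁c hw₂c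
  -- an element outside `T`
  have hTne : T ≠ ⊤ := by
    intro h
    rw [h, Subgroup.card_top, hS] at hT
    have := Nat.pow_right_injective hpp.two_le hT
    omega
  obtain ⟨r, hr⟩ : ∃ r, r ∉ T := by
    by_contra hcon
    apply hTne
    rw [eq_top_iff]
    intro x _
    by_contra hx
    exact hcon ⟨x, hx⟩
  set z := r ^ p with hz
  have hz1 : z ≠ 1 := fun h => hr (hΩ r h)
  have hzT : z ∈ T := hpT r
  -- `z` is central in `S`
  have hzc : ∀ g : S, g * z = z * g := by
    intro g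
    have h1 : g * r * g⁻¹ = ⁅g, r⁆ * r := by rw [commutatorElement_def]; group
    have h2 : (g * r * g⁻¹) ^ p = z := by
      rw [h1, hpow, hTexp _ (hder (Subgroup.commutator_mem_commutator (Subgroup.mem_top g)
        (Subgroup.mem_top r))), one_mul]
    rw [conj_pow] at h2
    have h3 : g * z * g⁻¹ = z := h2
    calc g * z = (g * z * g⁻¹) * g := by group
      _ = z * g := by rw [h3]
  have hzw : z ∈ Subgroup.zpowers w₁ := hcen z hzT (fun y _ => hzc y)
  have hw₁p : w₁ ^ p = 1 := hTexp w₁ hw₁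
  have how₁ : orderOf w₁ = p := orderOf_eq_prime hw₁p hw₁1
  have hcardZ : Nat.card (Subgroup.zpowers w₁) = p := by rw [Nat.card_zpowers, how₁]
  -- every non-trivial element of `zpowers w₁` generates it
  have hgen : ∀ y ∈ Subgroup.zpowers w₁, y ≠ 1 → ∀ c ∈ Subgroup.zpowers w₁,
      c ∈ Subgroup.zpowers y := by
    intro y hy hy1 c hc
    have hne : (⟨y, hy⟩ : Subgroup.zpowers w₁) ≠ 1 := by
      intro h; exact hy1 (congrArg Subtype.val h)
    have htop := zpowers_eq_top_of_prime_card hcardZ hne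
    have hmem : (⟨c, hc⟩ : Subgroup.zpowers w₁) ∈ Subgroup.zpowers (⟨y, hy⟩ : Subgroup.zpowers w₁) := by
      rw [htop]; exact Subgroup.mem_top _
    obtain ⟨k, hk⟩ := Subgroup.mem_zpowers_iff.mp hmem
    refine Subgroup.mem_zpowers_iff.mpr ⟨k, ?_⟩
    have := congrArg Subtype.val hk
    simpa using this
  -- `zpowers w₁` is central in `S`
  have hZS : ∀ c ∈ Subgroup.zpowers w₁, ∀ g : S, Commute c g := by
    intro c hc g
    obtain ⟨k, hk⟩ := Subgroup.mem_zpowers_iff.mp (hgen z hzw hz1 c hc)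
    rw [← hk]
    exact (Commute.zpow_left (show Commute z g from (hzc g).symm) k)
  have hZT : Subgroup.zpowers w₁ ≤ T := by
    rw [Subgroup.zpowers_le]; exact hw₁
  -- `σ` preserves `T`
  have hσT : ∀ x : S, x ∈ T → σ x ∈ T := by
    intro x hx
    apply hΩ
    rw [← map_pow, hTexp x hx, map_one]
  have hσT' : ∀ x : S, σ x ∈ T → x ∈ T := by
    intro x hx
    apply hΩ
    have h1 : σ (x ^ p) = 1 := by rw [map_pow, hTexp _ hx]
    have h2 : σ (x ^ p) = σ 1 := by rw [h1, map_one]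
    exact σ.injective h2
  -- `σ` acts on `zpowers w₁` as the `u`-th power
  have hσZ : ∀ c ∈ Subgroup.zpowers w₁, σ c = c ^ u := by
    intro c hc
    obtain ⟨k, hk⟩ := Subgroup.mem_zpowers_iff.mp hc
    rw [← hk, map_zpow, hσ₁, ← zpow_natCast, ← zpow_natCast, ← zpow_mul, ← zpow_mul, mul_comm]
  -- `σ r = r ^ m * t`
  have hcardq : Nat.card (S ⧸ T) = p := by
    rw [← Subgroup.index_eq_card]
    have h1 := T.index_mul_card
    rw [hS, hT] at h1
    have h2 : T.index * p ^ 3 = p * p ^ 3 := by rw [h1]; ring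
    exact Nat.eq_of_mul_eq_mul_right (pow_pos hpp.pos 3) h2
  have hmkr : (QuotientGroup.mk r : S ⧸ T) ≠ 1 := by
    intro h
    rw [QuotientGroup.eq_one_iff] at h
    exact hr h
  have htopq := zpowers_eq_top_of_prime_card hcardq hmkr
  obtain ⟨m, t, ht, hσr⟩ : ∃ (m : ℕ) (t : S), t ∈ T ∧ σ r = r ^ m * t := by
    have hmem : (QuotientGroup.mk (σ r) : S ⧸ T) ∈ Subgroup.zpowers (QuotientGroup.mk r : S ⧸ T) := by
      rw [htopq]; exact Subgroup.mem_top _
    rw [← mem_powers_iff_mem_zpowers] at hmem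
    obtain ⟨m, hm⟩ := (Submonoid.mem_powers_iff _ _).mp hmem
    refine ⟨m, (r ^ m)⁻¹ * σ r, ?_, by group⟩
    rw [← QuotientGroup.mk_pow] at hm
    exact QuotientGroup.eq.mp hm
  -- first congruence: `m ≡ u`
  have hzp : z ^ p = 1 := hTexp z hzT
  have hoz : orderOf z = p := orderOf_eq_prime hzp hz1
  have hmu : m ≡ u [MOD p] := by
    have h1 : (σ r) ^ p = z ^ m := by
      rw [hσr, hpow, hTexp t ht, mul_one, ← pow_mul, mul_comm, pow_mul]
    have h2 : (σ r) ^ p = z ^ u := by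
      rw [← map_pow, hσZ z hzw]
    have h3 : z ^ m = z ^ u := by rw [← h1, h2]
    rw [pow_eq_pow_iff_modEq, hoz] at h3
    exact h3
  -- the element `v`
  set v := ⁅w₂, r⁆ with hv
  have hvT : v ∈ T :=
    hder (Subgroup.commutator_mem_commutator (Subgroup.mem_top w₂) (Subgroup.mem_top r))
  have hvE : v ∉ Subgroup.closure ({w₁, w₂} : Set S) := by
    intro hvE
    apply hr
    apply hN
    have hw₂E : w₂ ∈ Subgroup.closure ({w₁, w₂} : Set S) :=
      Subgroup.subset_closure (by simp)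
    have h1 : r * w₂ * r⁻¹ = v⁻¹ * w₂ := by rw [hv, commutatorElement_def]; group
    rw [h1]
    exact Subgroup.mul_mem _ (Subgroup.inv_mem _ hvE) hw₂E
  -- `y₀ = ⁅w₂, v⁆ ≠ 1`
  set y₀ := ⁅w₂, v⁆ with hy₀
  have hy₀Z : y₀ ∈ Subgroup.zpowers w₁ := hcomm w₂ hw₂ v hvT
  have hy₀1 : y₀ ≠ 1 := by
    intro h1
    have hwv : Commute w₂ v := commutatorElement_eq_one_iff_commute.mp h1
    -- `w₂ ∉ zpowers w₁`
    have hw₂Z : w₂ ∉ Subgroup.zpowers w₁ := by
      intro h
      obtain ⟨x, hx, hxw⟩ := hw₂c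
      exact hxw ((hZS w₂ h x).eq.symm)
    set E := Subgroup.closure ({w₁, w₂} : Set S) with hE
    have hw₁E : w₁ ∈ E := Subgroup.subset_closure (by simp)
    have hw₂E : w₂ ∈ E := Subgroup.subset_closure (by simp)
    have hET : E ≤ T := by
      rw [hE, Subgroup.closure_le]
      intro x hx
      rcases hx with rfl | rfl
      · exact hw₁
      · exact hw₂
    set K := E ⊔ Subgroup.zpowers v with hK
    have hKT : K ≤ T := sup_le hET (by rw [Subgroup.zpowers_le]; exact hvT)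
    have hTp : IsPGroup p T := IsPGroup.of_card hT
    have hlt1 : Subgroup.zpowers w₁ < E := by
      refine lt_of_le_of_ne (by rw [Subgroup.zpowers_le]; exact hw₁E) ?_
      intro h
      exact hw₂Z (h ▸ hw₂E)
    have hlt2 : E < K := by
      refine lt_of_le_of_ne le_sup_left ?_
      intro h
      apply hvE
      have : v ∈ K := (le_sup_right : Subgroup.zpowers v ≤ K) (Subgroup.mem_zpowers v)
      rw [h]; exact this
    have hSp : IsPGroup p S := IsPGroup.of_card hS
    have hEp : IsPGroup p E := hSp.to_subgroup E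
    have hKp : IsPGroup p K := hSp.to_subgroup K
    obtain ⟨e, he⟩ := IsPGroup.iff_card.mp hEp
    obtain ⟨k, hk⟩ := IsPGroup.iff_card.mp hKp
    have hlt : ∀ (A B : Subgroup S) (a b : ℕ), A < B → Nat.card A = p ^ a → Nat.card B = p ^ b →
        a < b := by
      intro A B a b hAB hA hB
      have hd : Nat.card A ∣ Nat.card B := Subgroup.card_dvd_of_le hAB.le
      rw [hA, hB] at hd
      have hle : a ≤ b := (Nat.pow_dvd_pow_iff_le_right hpp.one_lt).mp hd
      rcases Nat.lt_or_ge a b with h | h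
      · exact h
      · exfalso
        have hab : a = b := le_antisymm hle h
        have : A = B := Subgroup.eq_of_le_of_card_ge hAB.le (by rw [hA, hB, hab])
        exact hAB.ne this
    have he2 : 1 < e := hlt _ _ 1 e hlt1 (by rw [hcardZ, pow_one]) he
    have hk3 : e < k := hlt _ _ e k hlt2 he hk
    have hKcard : Nat.card T ≤ Nat.card K := by
      rw [hT, hk]
      exact Nat.pow_le_pow_right hpp.pos (by omega)
    have hKeq : K = T := Subgroup.eq_of_le_of_card_ge hKT hKcard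
    -- everything in `K` commutes with `w₂`
    have hKc : K ≤ Subgroup.centralizer ({w₂} : Set S) := by
      rw [hK]
      apply sup_le
      · rw [hE, Subgroup.closure_le]
        intro x hx
        rw [SetLike.mem_coe, Subgroup.mem_centralizer_iff]
        intro y hy
        rw [Set.mem_singleton_iff] at hy
        subst hy
        rcases hx with rfl | rfl
        · exact hw₁c y hw₂
        · rfl
      · rw [Subgroup.zpowers_le, Subgroup.mem_centralizer_iff]
        intro y hy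
        rw [Set.mem_singleton_iff] at hy
        subst hy
        exact hwv.eq
    obtain ⟨x, hx, hxw⟩ := hw₂c
    apply hxw
    have hxK : x ∈ K := by rw [hKeq]; exact hx
    have := Subgroup.mem_centralizer_iff.mp (hKc hxK) w₂ (Set.mem_singleton w₂)
    exact this.symm
  have hy₀p : y₀ ^ p = 1 := hTexp y₀ (hZT hy₀Z)
  have hoy₀ : orderOf y₀ = p := orderOf_eq_prime hy₀p hy₀1
  have hy₀c : ∀ g : S, Commute y₀ g := hZS y₀ hy₀Z
  -- the quotient by `zpowers w₁`
  have hZn : (Subgroup.zpowers w₁).Normal := by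
    constructor
    intro n hn g
    have := (hZS n hn g).eq
    have h2 : g * n * g⁻¹ = n := by
      calc g * n * g⁻¹ = n * g * g⁻¹ := by rw [this]
        _ = n := by group
    rw [h2]; exact hn
  let π : S →* S ⧸ Subgroup.zpowers w₁ := QuotientGroup.mk' (Subgroup.zpowers w₁)
  have hπ1 : ∀ x : S, x ∈ Subgroup.zpowers w₁ → π x = 1 := by
    intro x hx
    exact (QuotientGroup.eq_one_iff x).mpr hx
  have hπcomm : ∀ a ∈ T, ∀ b ∈ T, π a * π b = π b * π a := by
    intro a ha b hb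
    have h1 := hπ1 _ (hcomm a ha b hb)
    rw [map_commutatorElement, commutatorElement_eq_one_iff_commute] at h1
    exact h1.eq
  have hπrv : π r * π v = π v * π r := by
    -- `⁅v, r⁆` is central in `S` and lies in `T`
    have hSp : IsPGroup p S := IsPGroup.of_card hS
    have hcl := class_three_of_card_le hSp (le_of_eq hS)
    obtain ⟨-, -, -, ha, -⟩ := class_three_setup hcl r w₂
    have hvr : ⁅v, r⁆ ∈ T :=
      hder (Subgroup.commutator_mem_commutator (Subgroup.mem_top v) (Subgroup.mem_top r))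
    have hvrZ : ⁅v, r⁆ ∈ Subgroup.zpowers w₁ := hcen _ hvr (fun y _ => ((ha y).eq).symm)
    have h1 := hπ1 _ hvrZ
    rw [map_commutatorElement, commutatorElement_eq_one_iff_commute] at h1
    exact h1.eq.symm
  -- `σ v ≡ v ^ (m * u')` modulo `zpowers w₁`
  have hσv : π (σ v) = π v ^ (m * u') := by
    have h1 : σ v = ⁅w₂ ^ u', r ^ m * t⁆ := by
      rw [hv, map_commutatorElement, hσ₂, hσr]
    rw [h1, map_commutatorElement, map_pow, map_mul, map_pow]
    apply r5e_quot (π r) (π w₂) (π v) (π t)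
    · rw [hv, map_commutatorElement]
    · exact hπrv
    · exact hπcomm v hvT w₂ hw₂
    · exact hπcomm t ht w₂ hw₂
  obtain ⟨c, hcZ, hσvc⟩ : ∃ c ∈ Subgroup.zpowers w₁, σ v = v ^ (m * u') * c := by
    refine ⟨(v ^ (m * u'))⁻¹ * σ v, ?_, by group⟩
    have h1 : π (v ^ (m * u')) = π (σ v) := by rw [hσv, map_pow]
    exact QuotientGroup.eq.mp h1
  -- second congruence
  have hbil : ∀ k n : ℕ, ⁅w₂ ^ k, v ^ n⁆ = y₀ ^ (k * n) := by
    intro k n
    have hcx : w₂ * v = y₀ * v * w₂ := by rw [hy₀, commutatorElement_def]; group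
    have h1 := r5e_bilin hcx hy₀c k n
    rw [commutatorElement_def, h1]; group
  have hsecond : u ≡ u' * (m * u') [MOD p] := by
    have h1 : σ y₀ = y₀ ^ u := hσZ y₀ hy₀Z
    have h2 : σ y₀ = y₀ ^ (u' * (m * u')) := by
      rw [hy₀, map_commutatorElement, hσ₂, hσvc]
      have hcc : ∀ g : S, Commute c g := hZS c hcZ
      have h3 : ⁅w₂ ^ u', v ^ (m * u') * c⁆ = ⁅w₂ ^ u', v ^ (m * u')⁆ := by
        rw [commutatorElement_def, commutatorElement_def]
        have e1 : w₂ ^ u' * (v ^ (m * u') * c) = w₂ ^ u' * v ^ (m * u') * c := by group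
        have e2 : (v ^ (m * u') * c)⁻¹ = c⁻¹ * (v ^ (m * u'))⁻¹ := by group
        rw [e1, e2]
        have e3 : w₂ ^ u' * v ^ (m * u') * c * (w₂ ^ u')⁻¹ * (c⁻¹ * (v ^ (m * u'))⁻¹) =
            w₂ ^ u' * v ^ (m * u') * (c * ((w₂ ^ u')⁻¹ * c⁻¹)) * (v ^ (m * u'))⁻¹ := by group
        rw [e3, (hcc ((w₂ ^ u')⁻¹ * c⁻¹)).eq]
        group
      rw [h3, hbil]
    have h3 : y₀ ^ u = y₀ ^ (u' * (m * u')) := by rw [← h1, h2]
    rw [pow_eq_pow_iff_modEq, hoy₀] at h3
    exact h3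
  -- arithmetic
  have h1 : u' * (m * u') ≡ u' * (u * u') [MOD p] := (hmu.mul_right u').mul_left u'
  have h2 : u' * (u * u') ≡ u' * 1 [MOD p] := huu.mul_left u'
  have h3 : u ≡ u' [MOD p] := by
    have := hsecond.trans (h1.trans h2)
    simpa using this
  exact (h3.mul_left u).trans huu

end

end Cfsg.Agent.Lib.Helper1.R5Leaf
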