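/-
helper1: S4581 leaf (FR) `commutator_eq_frattini_iff`: for a Sylow 2-subgroup `P`,
`P' = Φ(P)` iff all squares of elements of `P` lie in `P'` (via the done rows S0012, S0013).
-/
import Mathlib
import Cfsg.Prelude.Def_Blocks
import Cfsg.Agent.Lib.Helper6.Clifford
import Cfsg.Agent.Lib.Helper5.RODefs
import Cfsg.Agent.S0012
import Cfsg.Agent.S0013

set_option autoImplicit false

namespace Cfsg.Agent.Lib.Helper1.RO

open Cfsg Cfsg.Agent.Lib.Helper6 Cfsg.Agent.Lib.Helper5.RO

universe u

/-- (FR) via the done rows S0012, S0013. -/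
theorem commutator_eq_frattini_iff {G : Type u} [Group G] [Finite G] (P : Sylow 2 G) :
    commutator (P : Subgroup G) = frattini (P : Subgroup G) ↔ SqComm (P : Subgroup G) := by
  have hP2 : IsPGroup 2 (P : Subgroup G) := P.isPGroup'
  have h12 := Cfsg.Agent.S0012.result (G := (P : Subgroup G)) 2 hP2
  have hmap : (commutator (P : Subgroup G)).map (P : Subgroup G).subtype =
      ⁅(P : Subgroup G), (P : Subgroup G)⁆ := Subgroup.map_subtype_commutator _
  constructor
  · intro h x hx
    have h1 : (⟨x, hx⟩ : (P : Subgroup G)) ^ 2 ∈ commutator (P : Subgroup G) := by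
      rw [h]; exact h12.2 ⟨x, hx⟩
    rw [← hmap]
    exact ⟨_, h1, rfl⟩
  · intro hsq
    refine le_antisymm h12.1 ?_
    refine Cfsg.Agent.S0013.result (G := (P : Subgroup G)) 2 hP2 (commutator (P : Subgroup G))
      le_rfl ?_
    intro x
    have h1 : ((x : G)) ^ 2 ∈ ⁅(P : Subgroup G), (P : Subgroup G)⁆ := hsq x x.2
    rw [← hmap] at h1
    obtain ⟨y, hy, hyx⟩ := h1
    have : y = x ^ 2 := by
      apply Subtype.ext
      rw [Subgroup.coe_pow]
      exact hyx
    rw [← this]
    exact hy

end Cfsg.Agent.Lib.Helper1.RO
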