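/-
helper1: S4581 leaf (GTC2) `two_lt_card_of_selfcentralizing` (pure group theory):
a self-centralizing normal subgroup of order `≤ 2` is central, hence everything.
-/
import Mathlib
import Cfsg.Prelude.Def_Blocks
import Cfsg.Agent.Lib.Helper6.Clifford
import Cfsg.Agent.Lib.Helper5.RODefs

set_option autoImplicit false

namespace Cfsg.Agent.Lib.Helper1.RO

open Cfsg Cfsg.Agent.Lib.Helper6 Cfsg.Agent.Lib.Helper5.RO

universe u

/-- a normal subgroup of order `≤ 2` is central -/
theorem le_center_of_normal_card_le_two {G : Type u} [Group G] [Finite G]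
    (V : Subgroup G) [hVn : V.Normal] (hcard : Nat.card V ≤ 2) :
    V ≤ Subgroup.center G := by
  intro v hv
  rw [Subgroup.mem_center_iff]
  intro g
  by_cases hv1 : v = 1
  · subst hv1; simp
  · by_contra hne
    have hconj : g * v * g⁻¹ ∈ V := hVn.conj_mem v hv g
    have hc1 : g * v * g⁻¹ ≠ 1 := by
      intro h
      apply hv1
      have : v = g⁻¹ * (g * v * g⁻¹) * g := by group
      rw [this, h]; group
    have hcv : g * v * g⁻¹ ≠ v := by
      intro h
      apply hne
      have : g * v = (g * v * g⁻¹) * g := by group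
      rw [this, h]
    -- three distinct elements of `V`
    let f : Fin 3 → V := ![⟨1, V.one_mem⟩, ⟨v, hv⟩, ⟨g * v * g⁻¹, hconj⟩]
    have hf : Function.Injective f := by
      intro i j hij
      have e0 : (f 0 : G) = 1 := rfl
      have e1 : (f 1 : G) = v := rfl
      have e2 : (f 2 : G) = g * v * g⁻¹ := rfl
      have hij' : (f i : G) = (f j : G) := congrArg Subtype.val hij
      fin_cases i <;> fin_cases j
      · rfl
      · exfalso; change (f 0 : G) = (f 1 : G) at hij'; rw [e0, e1] at hij'; exact hv1 hij'.symm
      · exfalso; change (f 0 : G) = (f 2 : G) at hij'; rw [e0, e2] at hij'; exact hc1 hij'.symm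
      · exfalso; change (f 1 : G) = (f 0 : G) at hij'; rw [e0, e1] at hij'; exact hv1 hij'
      · rfl
      · exfalso; change (f 1 : G) = (f 2 : G) at hij'; rw [e1, e2] at hij'; exact hcv hij'.symm
      · exfalso; change (f 2 : G) = (f 0 : G) at hij'; rw [e0, e2] at hij'; exact hc1 hij'
      · exfalso; change (f 2 : G) = (f 1 : G) at hij'; rw [e1, e2] at hij'; exact hcv hij'
      · rfl
    have := Nat.card_le_card_of_injective f hf
    rw [Nat.card_fin] at this
    omega

/-- (GTC2) a self-centralizing normal subgroup of order `≤ 2` is everything. -/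
theorem two_lt_card_of_selfcentralizing {G : Type u} [Group G] [Finite G] (P : Sylow 2 G)
    (V : Subgroup G) [V.Normal] (hVP : V ≤ (P : Subgroup G))
    (hcent : Subgroup.centralizer (V : Set G) ≤ V) (hP : (P : Subgroup G) ≠ ⊤) :
    2 < Nat.card V := by
  by_contra hle
  rw [not_lt] at hle
  apply hP
  rw [eq_top_iff]
  have hcen : V ≤ Subgroup.center G := le_center_of_normal_card_le_two V hle
  have htop : Subgroup.centralizer (V : Set G) = ⊤ := by
    rw [Subgroup.centralizer_eq_top_iff_subset]
    exact hcen
  rw [htop] at hcent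
  exact hcent.trans hVP

end Cfsg.Agent.Lib.Helper1.RO
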