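/-
helper1: S4581 leaf (T3B) `normalizer_eq_of_two_normal` (pure group theory):
`V ⊴ G` a 2-group, every Sylow 2-subgroup of `G ⧸ V` self-normalizing ⟹ `N_G(P) = P`.
-/
import Mathlib
import Cfsg.Prelude.Def_Blocks
import Cfsg.Agent.Lib.Helper6.Clifford
import Cfsg.Agent.Lib.Helper5.RODefs

set_option autoImplicit false

namespace Cfsg.Agent.Lib.Helper1.RO

open Cfsg Cfsg.Agent.Lib.Helper6 Cfsg.Agent.Lib.Helper5.RO

universe u

/-- a normal `p`-subgroup lies in every Sylow `p`-subgroup -/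
theorem le_sylow_of_normal_pGroup {G : Type u} [Group G] [Finite G] {p : ℕ} [Fact p.Prime]
    (P : Sylow p G) (V : Subgroup G) [hVn : V.Normal] (hV : IsPGroup p V) :
    V ≤ (P : Subgroup G) := by
  obtain ⟨Q, hQ⟩ := hV.exists_le_sylow
  obtain ⟨g, hg⟩ := MulAction.exists_smul_eq G Q P
  intro v hv
  have h1 : g⁻¹ * v * g⁻¹⁻¹ ∈ V := hVn.conj_mem v hv g⁻¹
  have h2 : g⁻¹ * v * g⁻¹⁻¹ ∈ (Q : Subgroup G) := hQ h1
  have h3 : v ∈ ((g • Q : Sylow p G) : Subgroup G) := by
    rw [Sylow.coe_subgroup_smul, Subgroup.mem_pointwise_smul_iff_inv_smul_mem]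
    rw [← map_inv, MulAut.smul_def, MulAut.conj_apply]
    exact h2
  rw [hg] at h3
  exact h3

/-- (T3B) step for a normal 2-subgroup (pure group theory: `V ≤ P`, `N_G(P)/V ≤ N_{G/V}(P/V)`). -/
theorem normalizer_eq_of_two_normal {G : Type u} [Group G] [Finite G] (P : Sylow 2 G)
    (V : Subgroup G) [V.Normal] (hV : IsPGroup 2 V) (ih : SelfNorm (G ⧸ V)) :
    Subgroup.normalizer ((P : Subgroup G) : Set G) = (P : Subgroup G) := by
  have hVP : V ≤ (P : Subgroup G) := le_sylow_of_normal_pGroup P V hV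
  refine le_antisymm ?_ Subgroup.le_normalizer
  intro n hn
  have hsurj : Function.Surjective (QuotientGroup.mk' V) := QuotientGroup.mk'_surjective V
  have hih := ih (P.mapSurjective hsurj)
  have hcoe : ((P.mapSurjective hsurj : Sylow 2 (G ⧸ V)) : Subgroup (G ⧸ V)) =
      (P : Subgroup G).map (QuotientGroup.mk' V) := rfl
  rw [hcoe] at hih
  have h1 : (QuotientGroup.mk' V) n ∈
      Subgroup.normalizer (((P : Subgroup G).map (QuotientGroup.mk' V) : Subgroup (G ⧸ V)) :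
        Set (G ⧸ V)) :=
    Subgroup.le_normalizer_map (QuotientGroup.mk' V) (Subgroup.mem_map_of_mem _ hn)
  rw [hih] at h1
  obtain ⟨p, hp, hpn⟩ := Subgroup.mem_map.mp h1
  have h2 : p⁻¹ * n ∈ V := by
    have := QuotientGroup.eq.mp hpn
    exact this
  have h3 : p⁻¹ * n ∈ (P : Subgroup G) := hVP h2
  have : n = p * (p⁻¹ * n) := by group
  rw [this]
  exact Subgroup.mul_mem _ hp h3

end Cfsg.Agent.Lib.Helper1.RO
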