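/-
helper1: S4581 leaf (T4C) `sqComm_of_odd_generated`: the step via the done row S4582 (transfer).
-/
import Mathlib
import Cfsg.Prelude.Def_Blocks
import Cfsg.Agent.Lib.Helper6.Clifford
import Cfsg.Agent.Lib.Helper5.RODefs
import Cfsg.Agent.S4582

set_option autoImplicit false

namespace Cfsg.Agent.Lib.Helper1.RO

open Cfsg Cfsg.Agent.Lib.Helper6 Cfsg.Agent.Lib.Helper5.RO

universe u

/-- (T4C) step via the done row S4582 (`Cfsg.Agent.S4582.result`, transfer). -/
theorem sqComm_of_odd_generated {G : Type u} [Group G] [Finite G] (P : Sylow 2 G)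
    (N₀ : Subgroup G) [N₀.Normal] (hodd : Odd (Nat.card (Abelianization N₀)))
    (hexp : ∀ x ∈ (P : Subgroup G) ⊓ N₀, x ^ 2 = 1) (ih : AllSqComm (G ⧸ N₀)) :
    SqComm (P : Subgroup G) := by
  have hsurj : Function.Surjective (QuotientGroup.mk' N₀) := QuotientGroup.mk'_surjective N₀
  have hih := ih (P.mapSurjective hsurj)
  have hcoe : ((P.mapSurjective hsurj : Sylow 2 (G ⧸ N₀)) : Subgroup (G ⧸ N₀)) =
      (P : Subgroup G).map (QuotientGroup.mk' N₀) := rfl
  rw [hcoe] at hih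
  unfold SqComm at hih ⊢
  refine Cfsg.Agent.S4582.result N₀ P ?_ ?_ hodd
  · intro x hx
    have h1 : (QuotientGroup.mk' N₀ x) ^ 2 ∈
        ⁅(P : Subgroup G).map (QuotientGroup.mk' N₀), (P : Subgroup G).map (QuotientGroup.mk' N₀)⁆ :=
      hih _ (Subgroup.mem_map_of_mem _ hx)
    rw [← Subgroup.map_commutator] at h1
    obtain ⟨c, hc, hcx⟩ := Subgroup.mem_map.mp h1
    have hle : ⁅(P : Subgroup G), (P : Subgroup G)⁆ ≤ (P : Subgroup G) := by
      rw [Subgroup.commutator_le]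
      intro a ha b hb
      rw [commutatorElement_def]
      exact Subgroup.mul_mem _ (Subgroup.mul_mem _ (Subgroup.mul_mem _ ha hb)
        (Subgroup.inv_mem _ ha)) (Subgroup.inv_mem _ hb)
    have hcP : c ∈ (P : Subgroup G) := hle hc
    have h2 : c⁻¹ * x ^ 2 ∈ N₀ := by
      rw [← map_pow] at hcx
      exact QuotientGroup.eq.mp hcx
    have h3 : c⁻¹ * x ^ 2 ∈ (P : Subgroup G) ⊓ N₀ :=
      ⟨Subgroup.mul_mem _ (Subgroup.inv_mem _ hcP) (Subgroup.pow_mem _ hx 2), h2⟩
    have h4 : x ^ 2 = c * (c⁻¹ * x ^ 2) := by group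
    rw [h4]
    exact Subgroup.mul_mem _ (Subgroup.mem_sup_right hc) (Subgroup.mem_sup_left h3)
  · intro x hx
    rw [hexp x hx]
    exact Subgroup.one_mem _

end Cfsg.Agent.Lib.Helper1.RO
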