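import Mathlib
import Cfsg.Agent.Lib.Helper1.Basic
import Cfsg.Agent.Lib.Helper1.Transport
import Cfsg.Agent.Lib.Helper1.Coprime
import Cfsg.Agent.Lib.Helper4.SubnormalJoin

/-!
Relative subnormality `SubIn A K` (for subgroups of one ambient group), Wielandt's zipper lemma and
Wielandt's subnormality criterion.
-/

set_option autoImplicit false

namespace Cfsg.Agent.Lib.Helper1

open Subgroup
open scoped Pointwise

universe u

variable {G : Type u} [Group G]

/-- `A` is a subnormal subgroup of `K`. -/
def SubIn (A K : Subgroup G) : Prop := A ≤ K ∧ (A.subgroupOf K).IsSubnormal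

theorem SubIn.of_le_normalizer {A K : Subgroup G} (h : A ≤ K)
    (hn : K ≤ normalizer (A : Set G)) : SubIn A K :=
  ⟨h, ((normal_subgroupOf_iff_le_normalizer h).mpr hn).isSubnormal⟩

theorem SubIn.refl (A : Subgroup G) : SubIn A A := SubIn.of_le_normalizer le_rfl le_normalizer

theorem SubIn.restrict {A K L : Subgroup G} (h : SubIn A K) (hAL : A ≤ L) (hLK : L ≤ K) :
    SubIn A L := by
  refine ⟨hAL, ?_⟩
  have h2 := h.2.comap (Subgroup.inclusion hLK)
  convert h2 using 1
  ext x
  exact Iff.rfl

theorem SubIn.trans {A B K : Subgroup G} (h1 : SubIn A B) (h2 : SubIn B K) : SubIn A K := by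
  refine ⟨h1.1.trans h2.1, ?_⟩
  have hle : A.subgroupOf K ≤ B.subgroupOf K := fun x hx => h1.1 hx
  apply IsSubnormal.trans hle ?_ h2.2
  have h3 := h1.2.comap (subgroupOfEquivOfLe h2.1).toMonoidHom
  convert h3 using 1
  ext x
  exact Iff.rfl

theorem SubIn.conj {A K : Subgroup G} (h : SubIn A K) (g : G) :
    SubIn (MulAut.conj g • A) (MulAut.conj g • K) := by
  have hle : MulAut.conj g • A ≤ MulAut.conj g • K :=
    pointwise_smul_le_pointwise_smul_iff.mpr h.1
  refine ⟨hle, ?_⟩
  let ψ : (MulAut.conj g • K : Subgroup G) →* K :=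
    ((MulAut.conj g⁻¹).toMonoidHom.comp (MulAut.conj g • K : Subgroup G).subtype).codRestrict K
      (by
        intro x
        have hx := x.2
        rw [mem_conj_smul_iff] at hx
        simpa [MulAut.conj_apply] using hx)
  have h3 := h.2.comap ψ
  convert h3 using 1
  ext x
  rw [mem_subgroupOf, mem_comap, mem_subgroupOf, mem_conj_smul_iff]
  simp [ψ, MulAut.conj_apply]

theorem SubIn.sup [Finite G] {A B K : Subgroup G} (hA : SubIn A K) (hB : SubIn B K) :
    SubIn (A ⊔ B) K := by
  refine ⟨sup_le hA.1 hB.1, ?_⟩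
  rw [subgroupOf_sup hA.1 hB.1]
  exact Cfsg.Agent.Lib.Helper4.isSubnormal_sup _ _ hA.2 hB.2

theorem SubIn.isSubnormal {A : Subgroup G} (h : SubIn A ⊤) : A.IsSubnormal :=
  IsSubnormal.trans le_top h.2 IsSubnormal.top

theorem SubIn.exists_normal {A K : Subgroup G} (h : SubIn A K) (hne : A ≠ K) :
    ∃ L : Subgroup G, A ≤ L ∧ L ≤ K ∧ L ≠ K ∧ K ≤ normalizer (L : Set G) := by
  rcases h.2.lt_normal with htop | ⟨L', hL'n, hAL', hL'lt⟩
  · exfalso
    rw [subgroupOf_eq_top] at htop
    exact hne (le_antisymm h.1 htop)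
  · refine ⟨L'.map K.subtype, ?_, map_subtype_le L', ?_, ?_⟩
    · intro a ha
      exact ⟨⟨a, h.1 ha⟩, hAL' (mem_subgroupOf.mpr ha), rfl⟩
    · intro heq
      apply hL'lt.ne
      rw [eq_top_iff]
      intro k _
      have hk : (k : G) ∈ L'.map K.subtype := by rw [heq]; exact k.2
      obtain ⟨l, hl, hlk⟩ := hk
      have : l = k := Subtype.ext hlk
      rwa [← this]
    · rw [← normal_subgroupOf_iff_le_normalizer (map_subtype_le L')]
      have : (L'.map K.subtype).subgroupOf K = L' :=
        comap_map_eq_self_of_injective K.subtype_injective L'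
      rw [this]
      exact hL'n

theorem card_lt_card_of_le_of_ne [Finite G] {A B : Subgroup G} (h : A ≤ B) (hne : A ≠ B) :
    Nat.card A < Nat.card B := by
  by_contra hcon
  exact hne (Subgroup.eq_of_le_of_card_ge h (not_lt.mp hcon))

theorem conj_smul_le_of_mem {A K : Subgroup G} (h : A ≤ K) {x : G} (hx : x ∈ K) :
    MulAut.conj x • A ≤ K := by
  intro y hy
  rw [mem_conj_smul_iff] at hy
  have h1 : y = x * (x⁻¹ * y * x) * x⁻¹ := by group
  rw [h1]
  exact K.mul_mem (K.mul_mem hx (h hy)) (K.inv_mem hx)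

/-- A subnormal, non-normal subgroup has a conjugate different from it that normalizes it. -/
theorem SubIn.exists_conj_le_normalizer [Finite G] (A : Subgroup G) :
    ∀ (n : ℕ) (K : Subgroup G), Nat.card K = n → SubIn A K → ¬ K ≤ normalizer (A : Set G) →
      ∃ x ∈ K, MulAut.conj x • A ≠ A ∧ MulAut.conj x • A ≤ normalizer (A : Set G) := by
  intro n
  induction n using Nat.strong_induction_on with
  | _ n ih =>
    intro K hn hAK hnn
    have hne : A ≠ K := by
      intro he
      apply hnn
      rw [← he]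
      exact le_normalizer
    obtain ⟨L, hAL, hLK, hLne, hKL⟩ := hAK.exists_normal hne
    by_cases hL : L ≤ normalizer (A : Set G)
    · obtain ⟨x, hxK, hxN⟩ := SetLike.not_le_iff_exists.mp hnn
      refine ⟨x, hxK, ?_, ?_⟩
      · intro he
        exact hxN (mem_normalizer_iff_map_conj_eq.mpr he)
      · have h1 : MulAut.conj x • A ≤ MulAut.conj x • L :=
          pointwise_smul_le_pointwise_smul_iff.mpr hAL
        have h2 : MulAut.conj x • L = L := mem_normalizer_iff_map_conj_eq.mp (hKL hxK)
        rw [h2] at h1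
        exact h1.trans hL
    · have hcard : Nat.card L < n := by
        rw [← hn]
        exact card_lt_card_of_le_of_ne hLK hLne
      obtain ⟨x, hxL, h1, h2⟩ := ih _ hcard L rfl (hAK.restrict hAL hLK) hL
      exact ⟨x, hLK hxL, h1, h2⟩

/-- `M` is a maximal subgroup of `K`. -/
def IsMaxIn (M K : Subgroup G) : Prop :=
  M ≤ K ∧ M ≠ K ∧ ∀ L : Subgroup G, M ≤ L → L ≤ K → L = M ∨ L = K

theorem exists_isMaxIn [Finite G] {N K : Subgroup G} (hNK : N ≤ K) (hne : N ≠ K) :
    ∃ M : Subgroup G, IsMaxIn M K ∧ N ≤ M := by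
  classical
  let S : Set (Subgroup G) := {L | N ≤ L ∧ L ≤ K ∧ L ≠ K}
  have hSne : S.Nonempty := ⟨N, le_rfl, hNK, hne⟩
  obtain ⟨M, ⟨hNM, hMK, hMne⟩, hmax⟩ := (wellFounded_gt (α := Subgroup G)).has_min S hSne
  refine ⟨M, ⟨hMK, hMne, fun L hML hLK => ?_⟩, hNM⟩
  by_cases hLK' : L = K
  · exact Or.inr hLK'
  · left
    by_contra hLM
    exact hmax L ⟨hNM.trans hML, hLK, hLK'⟩ (lt_of_le_of_ne hML (Ne.symm hLM))

/-- **Wielandt's zipper lemma** (relative form). -/
theorem zipper [Finite G] (K : Subgroup G) :
    ∀ (n : ℕ) (A : Subgroup G), Nat.card K - Nat.card A = n → A ≤ K →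
      (∀ H : Subgroup G, A ≤ H → H ≤ K → H ≠ K → SubIn A H) → ¬ SubIn A K →
      ∀ M₁ M₂ : Subgroup G, IsMaxIn M₁ K → IsMaxIn M₂ K → A ≤ M₁ → A ≤ M₂ → M₁ = M₂ := by
  intro n
  induction n using Nat.strong_induction_on with
  | _ n ih =>
    intro A hn hAK hyp hns
    have hNne : normalizer (A : Set G) ⊓ K ≠ K := by
      intro he
      apply hns
      apply SubIn.of_le_normalizer hAK
      rw [← he]
      exact inf_le_left
    obtain ⟨M, hM, hNM⟩ := exists_isMaxIn (inf_le_right : normalizer (A : Set G) ⊓ K ≤ K) hNne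
    have key : ∀ M' : Subgroup G, IsMaxIn M' K → A ≤ M' → M' = M := by
      intro M' hM' hAM'
      by_contra hne
      have hA' : SubIn A M' := hyp M' hAM' hM'.1 hM'.2.1
      have hnn : ¬ M' ≤ normalizer (A : Set G) := by
        intro hle
        have h1 : M' ≤ M := (le_inf hle hM'.1).trans hNM
        rcases hM'.2.2 M h1 hM.1 with h2 | h2
        · exact hne h2.symm
        · exact hM.2.1 h2
      obtain ⟨x, hxM', hxne, hxN⟩ := SubIn.exists_conj_le_normalizer A _ M' rfl hA' hnn
      obtain ⟨B, hB⟩ : ∃ B : Subgroup G, B = A ⊔ MulAut.conj x • A := ⟨_, rfl⟩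
      have hAB : A ≤ B := hB ▸ le_sup_left
      have hxAB : MulAut.conj x • A ≤ B := hB ▸ le_sup_right
      have hxK : x ∈ K := hM'.1 hxM'
      have hABne : A ≠ B := by
        intro he
        have hle : MulAut.conj x • A ≤ A := le_of_le_of_eq hxAB he.symm
        apply hxne
        apply Subgroup.eq_of_le_of_card_ge hle
        exact le_of_eq (card_conj_smul A x).symm
      have hBN : B ≤ normalizer (A : Set G) := hB ▸ sup_le le_normalizer hxN
      have hBM' : B ≤ M' := hB ▸ sup_le hAM' (conj_smul_le_of_mem hAM' hxM')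
      have hBK : B ≤ K := hBM'.trans hM'.1
      have hBM : B ≤ M := (le_inf hBN hBK).trans hNM
      have hypB : ∀ H : Subgroup G, B ≤ H → H ≤ K → H ≠ K → SubIn B H := by
        intro H hBH hHK hHne
        have h1 : SubIn A H := hyp H (hAB.trans hBH) hHK hHne
        have h2 : SubIn (MulAut.conj x • A) H := by
          obtain ⟨H', hH'⟩ : ∃ H' : Subgroup G, H' = MulAut.conj x⁻¹ • H := ⟨_, rfl⟩
          have hAH' : A ≤ H' := by
            intro a ha
            rw [hH', mem_conj_smul_iff]
            have h3 : x * a * x⁻¹ ∈ MulAut.conj x • A := by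
              rw [mem_conj_smul_iff]
              convert ha using 1
              group
            have h4 := hBH (hxAB h3)
            simpa using h4
          have hH'K : H' ≤ K := hH' ▸ conj_smul_le_of_mem hHK (K.inv_mem hxK)
          have hH'ne : H' ≠ K := by
            intro he
            apply hHne
            apply Subgroup.eq_of_le_of_card_ge hHK
            rw [← he, hH', card_conj_smul]
          have h5 := (hyp H' hAH' hH'K hH'ne).conj x
          have h6 : MulAut.conj x • H' = H := by
            rw [hH', map_inv, smul_inv_smul]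
          rwa [h6] at h5
        rw [hB]
        exact h1.sup h2
      have hnsB : ¬ SubIn B K := by
        intro h
        exact hns ((SubIn.of_le_normalizer hAB hBN).trans h)
      have hcard : Nat.card K - Nat.card B < n := by
        have h1 := card_lt_card_of_le_of_ne hAB hABne
        have h2 : Nat.card B ≤ Nat.card K := Subgroup.card_le_of_le hBK
        omega
      exact hne (ih _ hcard B rfl hBK hypB hnsB M' M hM' hM hBM' hBM)
    intro M₁ M₂ h1 h2 hA1 hA2
    rw [key M₁ h1 hA1, key M₂ h2 hA2]

/-- **Wielandt's subnormality criterion** (relative form). -/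
theorem wielandt_rel [Finite G] (A : Subgroup G) :
    ∀ (n : ℕ) (K : Subgroup G), Nat.card K = n → A ≤ K →
      (∀ x ∈ K, SubIn A (A ⊔ MulAut.conj x • A)) → SubIn A K := by
  intro n
  induction n using Nat.strong_induction_on with
  | _ n ih =>
    intro K hn hAK hyp
    have hyp_i : ∀ H : Subgroup G, A ≤ H → H ≤ K → H ≠ K → SubIn A H := by
      intro H hAH hHK hHne
      have hcard : Nat.card H < n := by
        rw [← hn]
        exact card_lt_card_of_le_of_ne hHK hHne
      exact ih _ hcard H rfl hAH (fun x hx => hyp x (hHK hx))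
    by_contra hns
    have hne : A ≠ K := by
      intro he
      apply hns
      rw [← he]
      exact SubIn.refl A
    obtain ⟨M, hM, hAM⟩ := exists_isMaxIn hAK hne
    have hconjM : ∀ x ∈ K, MulAut.conj x • A ≤ M := by
      intro x hx
      have hJK : A ⊔ MulAut.conj x • A ≤ K := sup_le hAK (conj_smul_le_of_mem hAK hx)
      have hJne : A ⊔ MulAut.conj x • A ≠ K := by
        intro he
        apply hns
        have := hyp x hx
        rwa [he] at this
      obtain ⟨Mx, hMx, hJMx⟩ := exists_isMaxIn hJK hJne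
      have := zipper K _ A rfl hAK hyp_i hns Mx M hMx hM (le_sup_left.trans hJMx) hAM
      rw [← this]
      exact le_sup_right.trans hJMx
    -- the normal closure of `A` in `K`
    obtain ⟨C, hC⟩ : ∃ C : Subgroup G,
        C = Subgroup.closure {y | ∃ x ∈ K, ∃ a ∈ A, y = x * a * x⁻¹} := ⟨_, rfl⟩
    have hAC : A ≤ C := by
      intro a ha
      rw [hC]
      apply Subgroup.subset_closure
      exact ⟨1, K.one_mem, a, ha, by group⟩
    have hCM : C ≤ M := by
      rw [hC, Subgroup.closure_le]
      rintro y ⟨x, hx, a, ha, rfl⟩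
      apply hconjM x hx
      rw [mem_conj_smul_iff]
      convert ha using 1
      group
    have hKC : K ≤ normalizer (C : Set G) := by
      intro k hk
      apply mem_normalizer_of_forall_conj_mem
      intro y hy
      rw [hC] at hy ⊢
      induction hy using Subgroup.closure_induction with
      | mem y hy =>
        obtain ⟨x, hx, a, ha, rfl⟩ := hy
        apply Subgroup.subset_closure
        exact ⟨k * x, K.mul_mem hk hx, a, ha, by group⟩
      | one => simp
      | mul y z _ _ hy hz =>
        have : k * (y * z) * k⁻¹ = (k * y * k⁻¹) * (k * z * k⁻¹) := by group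
        rw [this]
        exact Subgroup.mul_mem _ hy hz
      | inv y _ hy =>
        have : k * y⁻¹ * k⁻¹ = (k * y * k⁻¹)⁻¹ := by group
        rw [this]
        exact Subgroup.inv_mem _ hy
    have hCK : C ≤ K := hCM.trans hM.1
    have hCne : C ≠ K := by
      intro he
      apply hM.2.1
      exact le_antisymm hM.1 (he ▸ hCM)
    exact hns ((hyp_i C hAC hCK hCne).trans (SubIn.of_le_normalizer hCK hKC))

/-- **Wielandt's subnormality criterion.** -/
theorem wielandt_criterion [Finite G] (A : Subgroup G)
    (h : ∀ g : G, (A.subgroupOf (A ⊔ MulAut.conj g • A)).IsSubnormal) : A.IsSubnormal :=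
  (wielandt_rel A _ ⊤ rfl le_top (fun x _ => ⟨le_sup_left, h x⟩)).isSubnormal

end Cfsg.Agent.Lib.Helper1
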