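import Mathlib
import Cfsg.Agent.Lib.Helper18.Sims3Defs
import Cfsg.Agent.Lib.Helper29.SIMSBase

set_option autoImplicit false

/-!
Helper1: SIMS market (S3385, planner helper18), leaf L4 (`le_add_mu`, inequality B: `n ≤ l + mu`).
-/

namespace Cfsg.Agent.Lib.Helper1.SIMSL4

open Cfsg Cfsg.Agent.Lib.Helper29.TWPair Cfsg.Agent.Lib.Helper18.Sims3 MulAction
open Cfsg.Agent.Lib.Helper29.SIMSBase

variable {G : Type*} [Group G]

/-- iterated shift. -/
theorem shift_pow {g : G} {x : ℕ → G} (hs : ∀ i, g * x i * g⁻¹ = x (i + 1)) (k i : ℕ) :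
    g ^ k * x i * (g ^ k)⁻¹ = x (i + k) := by
  induction k with
  | zero => simp
  | succ k ih =>
    have e : g ^ (k + 1) * x i * (g ^ (k + 1))⁻¹ = g * (g ^ k * x i * (g ^ k)⁻¹) * g⁻¹ := by
      rw [pow_succ']; group
    rw [e, ih, hs]
    congr 1

/-- pure group identity: involutions `a, b, y` with `y` commuting with `b` and
`[a, y] = a y a⁻¹ y⁻¹` commuting with `b`; then `y` commutes with `[a, b]`. -/
theorem commute_cm_of {a b y : G} (ha : a * a = 1) (hy : y * y = 1)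
    (hyb : y * b = b * y) (hdb : cm a y * b = b * cm a y) :
    y * cm a b = cm a b * y := by
  have ha' : a⁻¹ = a := inv_eq_of_mul_eq_one_left ha
  have hy' : y⁻¹ = y := inv_eq_of_mul_eq_one_left hy
  set d := cm a y with hd
  have hdef : d = a * y * a⁻¹ * y⁻¹ := rfl
  -- `y a y⁻¹ = a d`
  have e1 : y * a * y⁻¹ = a * d := by
    rw [hdef]
    have : a * (a * y * a⁻¹ * y⁻¹) = (a * a) * y * a⁻¹ * y⁻¹ := by group
    rw [this, ha, one_mul, ha']
  -- `(y a y⁻¹)⁻¹ = d⁻¹ a`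
  have e2 : (y * a * y⁻¹)⁻¹ = d⁻¹ * a := by
    have h1 : (y * a * y⁻¹)⁻¹ = y * a⁻¹ * y⁻¹ := by group
    rw [h1, ha', hdef]
    group
  have hb' : y * b * y⁻¹ = b := by
    rw [hyb]; group
  have hdb' : d * b * d⁻¹ = b := by
    rw [hdb]; group
  have key : y * cm a b * y⁻¹ = cm a b := by
    have h1 : y * cm a b * y⁻¹ =
        (y * a * y⁻¹) * (y * b * y⁻¹) * (y * a * y⁻¹)⁻¹ * (y * b * y⁻¹)⁻¹ := by
      unfold cm; group
    rw [h1, e2, e1, hb']
    have h2 : a * d * b * (d⁻¹ * a) * b⁻¹ = a * (d * b * d⁻¹) * a * b⁻¹ := by group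
    rw [h2, hdb']
    unfold cm
    rw [ha']
  have : y * cm a b = (y * cm a b * y⁻¹) * y := by group
  rw [this, key]

/-- LEAF L4 (inequality B: `n ≤ l + mu`). -/
theorem le_add_mu {g : G} {x : ℕ → G} {n : ℕ} (h : TSData g x n)
    (hsq : ∀ i, x i * x i = 1)
    (hcm : ∀ i j, i < j → j < i + n → cm (x i) (x j) ∈ Hx x (i + 1) (j - 1))
    (l : ℕ) (hl2 : 2 ≤ l) (hln : l + 1 ≤ n) (hl : CommLt x l) (hnc : ¬ Commute (x 0) (x l))
    (mu : ℕ) (hmu1 : 1 ≤ mu) (hmu : mu + 1 ≤ l)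
    (hc : cm (x 0) (x l) ∈ Hx x mu (l - 1)) (hc' : cm (x 0) (x l) ∉ Hx x (mu + 1) (l - 1)) :
    n ≤ l + mu := by
  by_contra hcon
  have hn : l + mu + 1 ≤ n := by omega
  set c := cm (x 0) (x l) with hcdef
  set y := x (l + mu) with hydef
  -- `y` commutes with `x l`
  have hyl : y * x l = x l * y :=
    commLt_comm hl ⟨by omega, by omega, by omega, by omega⟩
  -- `d = [x 0, y] ∈ H[1, l+mu-1]` commutes with `x l`
  have hd : cm (x 0) y ∈ Hx x 1 (l + mu - 1) := by
    have := hcm 0 (l + mu) (by omega) (by omega)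
    simpa using this
  have hcent : Hx x 1 (l + mu - 1) ≤ Subgroup.centralizer {x l} := by
    rw [Hx_le_iff]
    intro k hk1 hk2
    rw [Subgroup.mem_centralizer_iff]
    intro z hz
    rw [Set.mem_singleton_iff] at hz
    subst hz
    exact commLt_comm hl ⟨by omega, by omega, by omega, by omega⟩
  have hdl : cm (x 0) y * x l = x l * cm (x 0) y := by
    have := hcent hd
    rw [Subgroup.mem_centralizer_iff] at this
    exact (this (x l) rfl).symm
  -- hence `y` commutes with `c`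
  have hyc : y * c = c * y := commute_cm_of (hsq 0) (hsq (l + mu)) hyl hdl
  -- `y` commutes with `K = H[mu+1, l-1]`
  have hK : Hx x (mu + 1) (l - 1) ≤ Subgroup.centralizer {y} := by
    rw [Hx_le_iff]
    intro k hk1 hk2
    rw [Subgroup.mem_centralizer_iff]
    intro z hz
    rw [Set.mem_singleton_iff] at hz
    subst hz
    exact commLt_comm hl ⟨by omega, by omega, by omega, by omega⟩
  have hcy : c ∈ Subgroup.centralizer {y} := by
    rw [Subgroup.mem_centralizer_iff]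
    intro z hz
    rw [Set.mem_singleton_iff] at hz
    subst hz
    exact hyc
  -- `K ⊔ ⟨c⟩ = H[mu, l-1]` by orders
  set K := Hx x (mu + 1) (l - 1) with hKdef
  set H := Hx x mu (l - 1) with hHdef
  set M := K ⊔ Subgroup.zpowers c with hMdef
  have hKH : K ≤ H := Hx_mono (by omega) le_rfl
  have hMH : M ≤ H := sup_le hKH (by rw [Subgroup.zpowers_le]; exact hc)
  have hKM : K ≤ M := le_sup_left
  have hcM : c ∈ M := Subgroup.mem_sup_right (Subgroup.mem_zpowers c)
  have hcardH : Nat.card ↥H = 2 ^ (l - 1 - mu + 1) := h.card mu (l - 1) (by omega) (by omega)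
  have hcardK : Nat.card ↥K = 2 ^ (l - 1 - mu) := by
    rcases Nat.lt_or_ge (l - 1) (mu + 1) with hlt | hge
    · have hbot : K = ⊥ := Hx_eq_bot hlt
      rw [hbot, Subgroup.card_bot]
      have : l - 1 - mu = 0 := by omega
      rw [this, pow_zero]
    · have := h.card (mu + 1) (l - 1) hge (by omega)
      rw [this]
      congr 1
      omega
  have : Finite ↥H := Nat.finite_of_card_ne_zero (by rw [hcardH]; positivity)
  have : Finite ↥M := Finite.of_injective (Subgroup.inclusion hMH) (Subgroup.inclusion_injective hMH)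
  have : Finite ↥K := Finite.of_injective (Subgroup.inclusion hKH) (Subgroup.inclusion_injective hKH)
  have hKltM : K < M := lt_of_le_of_ne hKM (fun e => hc' (by rw [e]; exact hcM))
  have hd1 : Nat.card ↥K ∣ Nat.card ↥M := Subgroup.card_dvd_of_le hKM
  have hd2 : Nat.card ↥M ∣ Nat.card ↥H := Subgroup.card_dvd_of_le hMH
  have hlt : Nat.card ↥K < Nat.card ↥M := by
    rcases Nat.lt_or_ge (Nat.card ↥K) (Nat.card ↥M) with h1 | h1
    · exact h1
    · exfalso
      exact hKltM.ne (Subgroup.eq_of_le_of_card_ge hKM h1)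
  have hMcard : Nat.card ↥H ≤ Nat.card ↥M := by
    obtain ⟨a, ha⟩ := hd1
    have hH2 : Nat.card ↥H = 2 * Nat.card ↥K := by
      rw [hcardH, hcardK, pow_succ, mul_comm]
    have hKpos : 0 < Nat.card ↥K := Nat.card_pos
    have ha2 : 2 ≤ a := by
      by_contra ha2
      have : a = 0 ∨ a = 1 := by omega
      rcases this with rfl | rfl
      · rw [mul_zero] at ha; omega
      · rw [mul_one] at ha; omega
    rw [hH2, ha]
    calc 2 * Nat.card ↥K = Nat.card ↥K * 2 := mul_comm _ _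
      _ ≤ Nat.card ↥K * a := Nat.mul_le_mul_left _ ha2
  have hMeq : M = H := Subgroup.eq_of_le_of_card_ge hMH hMcard
  -- so `x mu ∈ M ≤ C(y)`
  have hMcent : M ≤ Subgroup.centralizer {y} :=
    sup_le hK (by rw [Subgroup.zpowers_le]; exact hcy)
  have hxmu : x mu ∈ Subgroup.centralizer {y} := by
    apply hMcent
    rw [hMeq]
    exact mem_Hx le_rfl (by omega)
  have hcomm : y * x mu = x mu * y := by
    rw [Subgroup.mem_centralizer_iff] at hxmu
    exact hxmu y rfl
  -- conjugate back by `g ^ mu`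
  apply hnc
  have e0 : g ^ mu * x 0 * (g ^ mu)⁻¹ = x mu := by
    have := shift_pow h.shift mu 0
    simpa using this
  have el : g ^ mu * x l * (g ^ mu)⁻¹ = x (l + mu) := shift_pow h.shift mu l
  show x 0 * x l = x l * x 0
  have h3 : g ^ mu * (x 0 * x l) * (g ^ mu)⁻¹ = g ^ mu * (x l * x 0) * (g ^ mu)⁻¹ := by
    have h4 : g ^ mu * (x 0 * x l) * (g ^ mu)⁻¹ =
        (g ^ mu * x 0 * (g ^ mu)⁻¹) * (g ^ mu * x l * (g ^ mu)⁻¹) := by group
    have h5 : g ^ mu * (x l * x 0) * (g ^ mu)⁻¹ =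
        (g ^ mu * x l * (g ^ mu)⁻¹) * (g ^ mu * x 0 * (g ^ mu)⁻¹) := by group
    rw [h4, h5, e0, el]
    exact hcomm.symm
  have h6 : (g ^ mu)⁻¹ * (g ^ mu * (x 0 * x l) * (g ^ mu)⁻¹) * g ^ mu =
      (g ^ mu)⁻¹ * (g ^ mu * (x l * x 0) * (g ^ mu)⁻¹) * g ^ mu := by rw [h3]
  have h7 : (g ^ mu)⁻¹ * (g ^ mu * (x 0 * x l) * (g ^ mu)⁻¹) * g ^ mu = x 0 * x l := by group
  have h8 : (g ^ mu)⁻¹ * (g ^ mu * (x l * x 0) * (g ^ mu)⁻¹) * g ^ mu = x l * x 0 := by group
  rw [h7, h8] at h6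
  exact h6

end Cfsg.Agent.Lib.Helper1.SIMSL4
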