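import Mathlib
import Cfsg.Agent.Lib.Helper18.Sims3Defs
import Cfsg.Agent.Lib.Helper29.TWIndex

set_option autoImplicit false

/-!
Helper1: SIMS market (S3385, planner helper18), leaf R5 (`red_p5`) and the shared key lemma
`coreX_eq_bot_of_not_dvd`: if `X = core_A(core_B(A ⊓ B))` is a `p`-group and `p` does not divide
`|A : X|`, then `X = 1` (for a Thompson–Wielandt pair `A, B`).
-/

namespace Cfsg.Agent.Lib.Helper1.SIMSR5

open Cfsg Cfsg.Agent.Lib.Helper29.TWPair Cfsg.Agent.Lib.Helper18.Sims3 MulAction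
open Cfsg.Agent.Lib.Helper16

variable {G : Type*} [Group G]

/-- If `X ≤ A` is normalized by `A`, `p ∤ |A : X|`, then every element of `A` of `p`-power order
lies in `X`. -/
theorem mem_of_pow_eq_one_of_not_dvd [Finite G] {A X : Subgroup G} (hXA : X ≤ A)
    (hAX : A ≤ Subgroup.normalizer (X : Set G)) {p : ℕ} (hp : p.Prime)
    (hnd : ¬ p ∣ X.relIndex A) {y : G} (hyA : y ∈ A) {k : ℕ} (hy : y ^ (p ^ k) = 1) : y ∈ X := by
  have hn : (X.subgroupOf A).Normal :=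
    (Subgroup.normal_subgroupOf_iff_le_normalizer hXA).mpr hAX
  set yb : ↥A ⧸ X.subgroupOf A := QuotientGroup.mk ⟨y, hyA⟩ with hyb
  have h1 : yb ^ (p ^ k) = 1 := by
    rw [hyb, ← QuotientGroup.mk_pow]
    have : (⟨y, hyA⟩ : ↥A) ^ (p ^ k) = 1 := by
      apply Subtype.ext
      simpa using hy
    rw [this]; rfl
  have h2 : yb ^ (X.relIndex A) = 1 := by
    have := pow_card_eq_one' (G := ↥A ⧸ X.subgroupOf A) (x := yb)
    rwa [← Subgroup.index_eq_card] at this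
  have hc : Nat.Coprime (p ^ k) (X.relIndex A) :=
    Nat.Coprime.pow_left k ((Nat.Prime.coprime_iff_not_dvd hp).mpr hnd)
  have h3 : yb ^ Nat.gcd (p ^ k) (X.relIndex A) = 1 := pow_gcd_eq_one.mpr ⟨h1, h2⟩
  rw [hc, pow_one] at h3
  have h4 : (⟨y, hyA⟩ : ↥A) ∈ X.subgroupOf A := (QuotientGroup.eq_one_iff _).mp h3
  simpa [Subgroup.mem_subgroupOf] using h4

/-- Key lemma of Part R: `X = core_A(core_B(A ⊓ B))` a `p`-group with `p ∤ |A : X|` is trivial. -/
theorem coreX_eq_bot_of_not_dvd [Finite G] {A B : Subgroup G} (h : Pair A B)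
    (p : ℕ) (hp : p.Prime)
    (hX : IsPGroup p ↥(coreIn A (coreIn B (A ⊓ B))))
    (hnd : ¬ p ∣ (coreIn A (coreIn B (A ⊓ B))).relIndex A) :
    coreIn A (coreIn B (A ⊓ B)) = ⊥ := by
  have : Fact p.Prime := ⟨hp⟩
  set K := coreIn B (A ⊓ B) with hK
  set X := coreIn A K with hXdef
  have hXA : X ≤ A := coreIn_le_left A K
  have hXK : X ≤ K := coreIn_le_right A K
  have hKA : K ≤ A := (coreIn_le_right B (A ⊓ B)).trans inf_le_left
  have hAX : A ≤ Subgroup.normalizer (X : Set G) := le_normalizer_coreIn A K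
  have hBK : B ≤ Subgroup.normalizer (K : Set G) := le_normalizer_coreIn B (A ⊓ B)
  refine h.eq_bot_of_le_normalizer hXA hAX ?_
  intro b hb
  apply mem_normalizer_of_map_conj_le
  rintro _ ⟨x, hx, rfl⟩
  have hxX : x ∈ X := hx
  show b * x * b⁻¹ ∈ X
  have hyK : b * x * b⁻¹ ∈ K := (Subgroup.mem_normalizer_iff.mp (hBK hb) x).mp (hXK hxX)
  obtain ⟨k, hk⟩ := (IsPGroup.iff_orderOf.mp hX) ⟨x, hxX⟩
  have hxk : x ^ (p ^ k) = 1 := by
    have h1 : orderOf x = p ^ k := by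
      rw [← hk]; exact (Subgroup.orderOf_mk x hxX).symm
    rw [← h1]; exact pow_orderOf_eq_one x
  have hyk : (b * x * b⁻¹) ^ (p ^ k) = 1 := by
    rw [conj_pow, hxk]; group
  exact mem_of_pow_eq_one_of_not_dvd hXA hAX hp hnd (hKA hyK) hyk

/-- `|A : X|` divides `48` when `|A : A ⊓ B| = |B : A ⊓ B| = 3`. -/
theorem relIndex_coreX_dvd [Finite G] {A B : Subgroup G}
    (hA : (A ⊓ B).relIndex A = 3) (hB : (A ⊓ B).relIndex B = 3) :
    (coreIn A (coreIn B (A ⊓ B))).relIndex A ∣ 48 := by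
  have h := relIndex_coreIn_coreIn_dvd A B
  rw [hA, hB] at h
  have e : Nat.factorial 3 * Nat.factorial (3 - 1) ^ 3 = 48 := by decide
  rwa [e] at h


/-- Variant of the key lemma with the index taken in `A ⊓ B`: `X = core_A(core_B(A ⊓ B))` a
`p`-group with `p ∤ |A ⊓ B : X|` is trivial. -/
theorem coreX_eq_bot_of_not_dvd_inf [Finite G] {A B : Subgroup G} (h : Pair A B)
    (p : ℕ) (hp : p.Prime)
    (hX : IsPGroup p ↥(coreIn A (coreIn B (A ⊓ B))))
    (hnd : ¬ p ∣ (coreIn A (coreIn B (A ⊓ B))).relIndex (A ⊓ B)) :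
    coreIn A (coreIn B (A ⊓ B)) = ⊥ := by
  have : Fact p.Prime := ⟨hp⟩
  set K := coreIn B (A ⊓ B) with hK
  set X := coreIn A K with hXdef
  have hXA : X ≤ A := coreIn_le_left A K
  have hXK : X ≤ K := coreIn_le_right A K
  have hKD : K ≤ A ⊓ B := coreIn_le_right B (A ⊓ B)
  have hAX : A ≤ Subgroup.normalizer (X : Set G) := le_normalizer_coreIn A K
  have hBK : B ≤ Subgroup.normalizer (K : Set G) := le_normalizer_coreIn B (A ⊓ B)
  refine h.eq_bot_of_le_normalizer hXA hAX ?_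
  intro b hb
  apply mem_normalizer_of_map_conj_le
  rintro _ ⟨x, hx, rfl⟩
  have hxX : x ∈ X := hx
  show b * x * b⁻¹ ∈ X
  have hyK : b * x * b⁻¹ ∈ K := (Subgroup.mem_normalizer_iff.mp (hBK hb) x).mp (hXK hxX)
  obtain ⟨k, hk⟩ := (IsPGroup.iff_orderOf.mp hX) ⟨x, hxX⟩
  have hxk : x ^ (p ^ k) = 1 := by
    have h1 : orderOf x = p ^ k := by
      rw [← hk]; exact (Subgroup.orderOf_mk x hxX).symm
    rw [← h1]; exact pow_orderOf_eq_one x
  have hyk : (b * x * b⁻¹) ^ (p ^ k) = 1 := by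
    rw [conj_pow, hxk]; group
  exact mem_of_pow_eq_one_of_not_dvd (hXK.trans hKD) (inf_le_left.trans hAX) hp hnd
    (hKD hyK) hyk

/-- `|A ⊓ B : X|` divides `16` when `|A : A ⊓ B| = |B : A ⊓ B| = 3`. -/
theorem relIndex_coreX_inf_dvd [Finite G] {A B : Subgroup G}
    (hA : (A ⊓ B).relIndex A = 3) (hB : (A ⊓ B).relIndex B = 3) :
    (coreIn A (coreIn B (A ⊓ B))).relIndex (A ⊓ B) ∣ 16 := by
  have h48 := relIndex_coreX_dvd hA hB
  have hXD : coreIn A (coreIn B (A ⊓ B)) ≤ A ⊓ B :=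
    (coreIn_le_right A _).trans (coreIn_le_right B (A ⊓ B))
  have hmul := Subgroup.relIndex_mul_relIndex (coreIn A (coreIn B (A ⊓ B))) (A ⊓ B) A hXD
    inf_le_left
  rw [hA] at hmul
  rw [← hmul] at h48
  have e : (48 : ℕ) = 16 * 3 := by norm_num
  rw [e] at h48
  exact Nat.dvd_of_mul_dvd_mul_right (by norm_num) h48

/-- LEAF R5. -/
theorem red_p5 [Finite G] {A B : Subgroup G} (h : Pair A B)
    (hA : (A ⊓ B).relIndex A = 3) (hB : (A ⊓ B).relIndex B = 3)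
    (p : ℕ) (hp : p.Prime) (hp5 : 5 ≤ p)
    (hX : IsPGroup p ↥(coreIn A (coreIn B (A ⊓ B)))) :
    coreIn A (coreIn B (A ⊓ B)) = ⊥ := by
  refine coreX_eq_bot_of_not_dvd h p hp hX ?_
  intro hd
  have h48 : p ∣ 48 := hd.trans (relIndex_coreX_dvd hA hB)
  have e : (48 : ℕ) = 2 ^ 4 * 3 := by norm_num
  rw [e] at h48
  rcases (Nat.Prime.dvd_mul hp).mp h48 with h2 | h3
  · have := (Nat.prime_dvd_prime_iff_eq hp Nat.prime_two).mp (hp.dvd_of_dvd_pow h2)
    omega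
  · have := (Nat.prime_dvd_prime_iff_eq hp Nat.prime_three).mp h3
    omega

end Cfsg.Agent.Lib.Helper1.SIMSR5
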