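import Mathlib
import Cfsg.Agent.Lib.Helper1.SIMSR5

set_option autoImplicit false

/-!
Helper1: SIMS market (S3385, planner helper18), leaf R3 (`red_p3`).  Since `|A ⊓ B : X|` divides
`16`, `X` is the set of `3`-elements of `A ⊓ B`, hence of `core_B(A ⊓ B)`, so `B` normalizes `X`
(no case distinction on `O_3(A)` is needed).
-/

namespace Cfsg.Agent.Lib.Helper1.SIMSR3

open Cfsg Cfsg.Agent.Lib.Helper29.TWPair Cfsg.Agent.Lib.Helper18.Sims3 MulAction

variable {G : Type*} [Group G]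

/-- LEAF R3. -/
theorem red_p3 [Finite G] {A B : Subgroup G} (h : Pair A B)
    (hA : (A ⊓ B).relIndex A = 3) (hB : (A ⊓ B).relIndex B = 3)
    (hX : IsPGroup 3 ↥(coreIn A (coreIn B (A ⊓ B)))) :
    coreIn A (coreIn B (A ⊓ B)) = ⊥ := by
  refine Cfsg.Agent.Lib.Helper1.SIMSR5.coreX_eq_bot_of_not_dvd_inf h 3 Nat.prime_three hX ?_
  intro hd
  have h16 : 3 ∣ 16 := hd.trans (Cfsg.Agent.Lib.Helper1.SIMSR5.relIndex_coreX_inf_dvd hA hB)
  omega

end Cfsg.Agent.Lib.Helper1.SIMSR3
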