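import Mathlib

set_option autoImplicit false

namespace Cfsg.Agent.Lib.Helper1.SLBlkCount

open Matrix

variable {F : Type*} [Field F] {n : ℕ}

/-- the set of matrices which agree with the identity outside row `i0` and have `1` at `(i0,i0)` -/
def RowLike (i0 : Fin n) (A : Matrix (Fin n) (Fin n) F) : Prop :=
  (∀ i j, i ≠ i0 → A i j = (1 : Matrix (Fin n) (Fin n) F) i j) ∧ A i0 i0 = 1

theorem rowLike_one (i0 : Fin n) : RowLike i0 (1 : Matrix (Fin n) (Fin n) F) :=
  ⟨fun _ _ _ => rfl, one_apply_eq i0⟩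

theorem RowLike.mul {i0 : Fin n} {A B : Matrix (Fin n) (Fin n) F} (hA : RowLike i0 A)
    (hB : RowLike i0 B) : RowLike i0 (A * B) := by
  constructor
  · intro i j hi
    rw [Matrix.mul_apply, Finset.sum_eq_single i]
    · rw [hA.1 i i hi, one_apply_eq, one_mul, hB.1 i j hi]
    · intro k _ hk
      rw [hA.1 i k hi, one_apply_ne (Ne.symm hk), zero_mul]
    · intro h; exact absurd (Finset.mem_univ i) h
  · rw [Matrix.mul_apply, Finset.sum_eq_single i0]
    · rw [hA.2, hB.2, one_mul]
    · intro k _ hk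
      rw [hB.1 k i0 hk, one_apply_ne hk, mul_zero]
    · intro h; exact absurd (Finset.mem_univ i0) h

/-- `N = A - 1` squares to zero -/
theorem RowLike.sub_one_sq {i0 : Fin n} {A : Matrix (Fin n) (Fin n) F} (hA : RowLike i0 A) :
    (A - 1) * (A - 1) = 0 := by
  ext i k
  rw [Matrix.mul_apply, Matrix.zero_apply]
  apply Finset.sum_eq_zero
  intro l _
  have e : ∀ a b, (A - 1) a b = A a b - (1 : Matrix (Fin n) (Fin n) F) a b := fun a b => rfl
  by_cases hi : i = i0
  · by_cases hl : l = i0
    · rw [hi, hl, e i0 i0, hA.2, one_apply_eq, sub_self, zero_mul]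
    · rw [e l k, hA.1 l k hl, sub_self, mul_zero]
  · rw [e i l, hA.1 i l hi, sub_self, zero_mul]

theorem one_add_pow_of_sq_zero {N : Matrix (Fin n) (Fin n) F} (h : N * N = 0) (k : ℕ) :
    (1 + N) ^ k = 1 + (k : F) • N := by
  induction k with
  | zero => simp
  | succ k ih =>
    have e : ((k : F) • N) * N = 0 := by rw [smul_mul_assoc, h, smul_zero]
    rw [pow_succ, ih, Matrix.mul_add, Matrix.add_mul, Matrix.add_mul, e,
      Matrix.one_mul, Matrix.mul_one, add_zero]
    push_cast
    rw [Matrix.one_mul]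
    module

theorem pow_of_sub_one_sq {A : Matrix (Fin n) (Fin n) F} (h : (A - 1) * (A - 1) = 0) (k : ℕ) :
    A ^ k = 1 + (k : F) • (A - 1) := by
  have hA : A = 1 + (A - 1) := by abel
  calc A ^ k = (1 + (A - 1)) ^ k := by rw [← hA]
    _ = _ := one_add_pow_of_sq_zero h k


section grp

variable [Finite F]

/-- the subgroup of `SL_n(F)` of matrices agreeing with `1` outside row `i0`, with `1` at `(i0,i0)` -/
def rowGroup (i0 : Fin n) : Subgroup (Matrix.SpecialLinearGroup (Fin n) F) where
  carrier := {g | RowLike i0 (g : Matrix (Fin n) (Fin n) F)}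
  one_mem' := rowLike_one i0
  mul_mem' := by
    intro a b ha hb
    show RowLike i0 ((a * b : Matrix.SpecialLinearGroup (Fin n) F) : Matrix (Fin n) (Fin n) F)
    rw [Matrix.SpecialLinearGroup.coe_mul]
    exact ha.mul hb
  inv_mem' := by
    intro a ha
    have hpow : ∀ k : ℕ, RowLike i0 ((a ^ k : Matrix.SpecialLinearGroup (Fin n) F) :
        Matrix (Fin n) (Fin n) F) := by
      intro k
      induction k with
      | zero => rw [pow_zero]; exact rowLike_one i0
      | succ k ih =>
        rw [pow_succ, Matrix.SpecialLinearGroup.coe_mul]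
        exact ih.mul ha
    have h1 : a ^ (orderOf a - 1) * a = 1 := by
      rw [← pow_succ, Nat.sub_add_cancel (orderOf_pos a), pow_orderOf_eq_one]
    have h2 : a⁻¹ = a ^ (orderOf a - 1) := (eq_inv_of_mul_eq_one_left h1).symm
    show RowLike i0 ((a⁻¹ : Matrix.SpecialLinearGroup (Fin n) F) : Matrix (Fin n) (Fin n) F)
    rw [h2]
    exact hpow _

theorem mem_rowGroup {i0 : Fin n} {g : Matrix.SpecialLinearGroup (Fin n) F} :
    g ∈ rowGroup (F := F) i0 ↔ RowLike i0 (g : Matrix (Fin n) (Fin n) F) := Iff.rfl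

theorem isPGroup_rowGroup (p : ℕ) [Fact p.Prime] [CharP F p] (i0 : Fin n) :
    IsPGroup p (rowGroup (F := F) i0) := by
  rintro ⟨g, hg⟩
  refine ⟨1, ?_⟩
  apply Subtype.ext
  apply Subtype.ext
  rw [pow_one]
  show ((g ^ p : Matrix.SpecialLinearGroup (Fin n) F) : Matrix (Fin n) (Fin n) F) = 1
  rw [Matrix.SpecialLinearGroup.coe_pow, pow_of_sub_one_sq (mem_rowGroup.mp hg).sub_one_sq,
    CharP.cast_eq_zero, zero_smul, add_zero]

/-- the transvection `1 + E_{i0 j}` as an element of `SL_n(F)` -/
def tv (i0 j : Fin n) (h : i0 ≠ j) : Matrix.SpecialLinearGroup (Fin n) F :=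
  ⟨Matrix.transvection i0 j (1 : F), Matrix.det_transvection_of_ne i0 j h 1⟩

theorem tv_mem (i0 j : Fin n) (h : i0 ≠ j) : tv (F := F) i0 j h ∈ rowGroup (F := F) i0 := by
  rw [mem_rowGroup]
  constructor
  · intro i k hi
    show (Matrix.transvection i0 j (1 : F)) i k = _
    rw [Matrix.transvection, Matrix.add_apply, Matrix.single_apply_of_ne, add_zero]
    intro hh
    exact hi hh.1.symm
  · show (Matrix.transvection i0 j (1 : F)) i0 i0 = 1
    rw [Matrix.transvection, Matrix.add_apply, Matrix.single_apply_of_ne, add_zero, one_apply_eq]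
    intro hh
    exact h hh.2.symm

/-- a matrix supported on row `i0`, off the diagonal, squares to zero -/
theorem sq_zero_of_rows {i0 : Fin n} {N : Matrix (Fin n) (Fin n) F}
    (h1 : ∀ j k, j ≠ i0 → N j k = 0) (h2 : N i0 i0 = 0) : N * N = 0 := by
  ext i k
  rw [Matrix.mul_apply, Matrix.zero_apply]
  apply Finset.sum_eq_zero
  intro l _
  by_cases hi : i = i0
  · by_cases hl : l = i0
    · rw [hi, hl, h2, zero_mul]
    · rw [h1 l k hl, mul_zero]
  · rw [h1 i l hi, zero_mul]

theorem smul_one_add_pow {N : Matrix (Fin n) (Fin n) F} (h : N * N = 0) (c : F) (m : ℕ) :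
    (c • (1 : Matrix (Fin n) (Fin n) F) + N) ^ (m + 1) =
      c ^ (m + 1) • (1 : Matrix (Fin n) (Fin n) F) + (((m + 1 : ℕ) : F) * c ^ m) • N := by
  induction m with
  | zero => simp
  | succ m ih =>
    have e : ((((m + 1 : ℕ) : F) * c ^ m) • N) * N = 0 := by rw [smul_mul_assoc, h, smul_zero]
    rw [pow_succ, ih, Matrix.mul_add, Matrix.add_mul, Matrix.add_mul, e, add_zero]
    simp only [Matrix.smul_mul, Matrix.mul_smul, Matrix.one_mul, Matrix.mul_one]
    push_cast
    module

/-- a `p`-regular element of `SL_n(F)` commuting with all the transvections `1 + E_{i0 j}` is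
central -/
theorem mem_center_of_commute_tv (p : ℕ) [Fact p.Prime] [CharP F p] (i0 : Fin n)
    (x : Matrix.SpecialLinearGroup (Fin n) F) (hreg : ¬ p ∣ orderOf x)
    (hcomm : ∀ j (h : i0 ≠ j), tv (F := F) i0 j h * x = x * tv (F := F) i0 j h) :
    x ∈ Subgroup.center (Matrix.SpecialLinearGroup (Fin n) F) := by
  set X : Matrix (Fin n) (Fin n) F := (x : Matrix (Fin n) (Fin n) F) with hX
  have hc : ∀ j, i0 ≠ j → Commute (Matrix.single i0 j (1 : F)) X := by
    intro j h
    have h1 := congrArg Subtype.val (hcomm j h)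
    have h2 : Matrix.transvection i0 j (1 : F) * X = X * Matrix.transvection i0 j (1 : F) := h1
    unfold Matrix.transvection at h2
    rw [Matrix.add_mul, Matrix.mul_add, Matrix.one_mul, Matrix.mul_one] at h2
    exact add_left_cancel h2
  set lam : F := X i0 i0 with hlam
  have hrow : ∀ j k, j ≠ i0 → k ≠ j → X j k = 0 := fun j k hj hk =>
    Matrix.row_eq_zero_of_commute_single (hc j (Ne.symm hj)) hk
  have hdiag : ∀ j, j ≠ i0 → X j j = lam := fun j hj =>
    (Matrix.diag_eq_of_commute_single (hc j (Ne.symm hj))).symm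
  set N : Matrix (Fin n) (Fin n) F := X - lam • (1 : Matrix (Fin n) (Fin n) F) with hN
  have eN : ∀ a b, N a b = X a b - lam * (1 : Matrix (Fin n) (Fin n) F) a b := fun a b => rfl
  have hN1 : ∀ j k, j ≠ i0 → N j k = 0 := by
    intro j k hj
    by_cases hk : k = j
    · rw [eN, hk, hdiag j hj, Matrix.one_apply_eq, mul_one, sub_self]
    · rw [eN, hrow j k hj hk, Matrix.one_apply_ne (Ne.symm hk), mul_zero, sub_zero]
  have hN2 : N i0 i0 = 0 := by
    rw [eN, Matrix.one_apply_eq, mul_one, sub_self]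
  have hNN : N * N = 0 := sq_zero_of_rows hN1 hN2
  have hXN : X = lam • (1 : Matrix (Fin n) (Fin n) F) + N := by rw [hN]; abel
  -- the order
  obtain ⟨m, hm⟩ : ∃ m, orderOf x = m + 1 := ⟨orderOf x - 1, (Nat.sub_add_cancel (orderOf_pos x)).symm⟩
  have hpow : X ^ (m + 1) = 1 := by
    have h1 : x ^ (m + 1) = 1 := by rw [← hm]; exact pow_orderOf_eq_one x
    have h2 := congrArg Subtype.val h1
    rw [Matrix.SpecialLinearGroup.coe_pow] at h2
    exact h2
  rw [hXN, smul_one_add_pow hNN] at hpow
  have hm0 : ((m + 1 : ℕ) : F) ≠ 0 := by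
    intro h0
    rw [CharP.cast_eq_zero_iff F p] at h0
    rw [hm] at hreg
    exact hreg h0
  have hentry : ∀ a b, lam ^ (m + 1) * (1 : Matrix (Fin n) (Fin n) F) a b +
      (((m + 1 : ℕ) : F) * lam ^ m) * N a b = (1 : Matrix (Fin n) (Fin n) F) a b := by
    intro a b
    have := congrFun (congrFun hpow a) b
    simpa [Matrix.add_apply, Matrix.smul_apply] using this
  have hlam0 : lam ≠ 0 := by
    intro h0
    have h := hentry i0 i0
    rw [hN2, mul_zero, add_zero, Matrix.one_apply_eq, mul_one, h0, zero_pow (Nat.succ_ne_zero m)] at h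
    exact zero_ne_one h
  have hNz : N = 0 := by
    ext a b
    rw [Matrix.zero_apply]
    by_cases ha : a = i0
    · by_cases hb : b = i0
      · rw [ha, hb, hN2]
      · have h := hentry a b
        have hab : a ≠ b := by rw [ha]; exact Ne.symm hb
        rw [Matrix.one_apply_ne hab, mul_zero, zero_add] at h
        rcases mul_eq_zero.mp h with h | h
        · rcases mul_eq_zero.mp h with h | h
          · exact absurd h hm0
          · exact absurd h (pow_ne_zero m hlam0)
        · exact h
    · exact hN1 a b ha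
  rw [hNz, add_zero] at hXN
  rw [Subgroup.mem_center_iff]
  intro g
  apply Subtype.ext
  show (g : Matrix (Fin n) (Fin n) F) * X = X * (g : Matrix (Fin n) (Fin n) F)
  rw [hXN, Matrix.mul_smul, Matrix.smul_mul, Matrix.mul_one, Matrix.one_mul]

/-- central elements of `SL_n(F)` are `p`-regular (`p = char F`) -/
theorem pregular_of_mem_center (p : ℕ) [Fact p.Prime] [CharP F p] (i0 : Fin n)
    {x : Matrix.SpecialLinearGroup (Fin n) F}
    (hx : x ∈ Subgroup.center (Matrix.SpecialLinearGroup (Fin n) F)) : ¬ p ∣ orderOf x := by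
  intro hdiv
  have hp : p.Prime := Fact.out
  set y := x ^ (orderOf x / p) with hy
  have hord : orderOf y = p := orderOf_pow_orderOf_div (orderOf_pos x).ne' hdiv
  have hyc : y ∈ Subgroup.center (Matrix.SpecialLinearGroup (Fin n) F) :=
    Subgroup.pow_mem _ hx _
  obtain ⟨r, -, hr⟩ := Matrix.SpecialLinearGroup.mem_center_iff.mp hyc
  have h1 : y ^ p = 1 := by rw [← hord]; exact pow_orderOf_eq_one y
  have h2 := congrArg Subtype.val h1
  rw [Matrix.SpecialLinearGroup.coe_pow, ← hr, ← map_pow] at h2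
  have h3 : r ^ p = 1 := by
    have := congrFun (congrFun h2 i0) i0
    simpa using this
  have h4 : r = 1 := by
    apply frobenius_inj F p
    rw [frobenius_def, frobenius_def, h3, one_pow]
  have h5 : y = 1 := by
    apply Subtype.ext
    rw [← hr, h4, map_one]
    rfl
  rw [h5, orderOf_one] at hord
  exact hp.one_lt.ne hord

/-- **the `p`-regular elements centralizing a Sylow `p`-subgroup containing the row group are
exactly the central elements** -/
theorem pregular_centralizer_iff (p : ℕ) [Fact p.Prime] [CharP F p] (i0 : Fin n)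
    (P : Sylow p (Matrix.SpecialLinearGroup (Fin n) F)) (hP : rowGroup (F := F) i0 ≤ P)
    (x : Matrix.SpecialLinearGroup (Fin n) F) :
    (¬ p ∣ orderOf x ∧ x ∈ Subgroup.centralizer ((P : Subgroup (Matrix.SpecialLinearGroup (Fin n) F)) :
      Set (Matrix.SpecialLinearGroup (Fin n) F))) ↔
      x ∈ Subgroup.center (Matrix.SpecialLinearGroup (Fin n) F) := by
  constructor
  · rintro ⟨hreg, hc⟩
    apply mem_center_of_commute_tv p i0 x hreg
    intro j h
    exact Subgroup.mem_centralizer_iff.mp hc _ (hP (tv_mem i0 j h))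
  · intro hx
    exact ⟨pregular_of_mem_center p i0 hx, Subgroup.center_le_centralizer _ hx⟩

/-- the `N_G(P)`-classes of `p`-regular elements of `C_G(P)` are in bijection with the centre -/
theorem card_classes_eq_card_center (p : ℕ) [Fact p.Prime] [CharP F p] (i0 : Fin n)
    (P : Sylow p (Matrix.SpecialLinearGroup (Fin n) F)) (hP : rowGroup (F := F) i0 ≤ P) :
    Nat.card {C : ConjClasses (Subgroup.normalizer
        ((P : Subgroup (Matrix.SpecialLinearGroup (Fin n) F)) : Set (Matrix.SpecialLinearGroup (Fin n) F))) //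
      ∀ m : Subgroup.normalizer
        ((P : Subgroup (Matrix.SpecialLinearGroup (Fin n) F)) : Set (Matrix.SpecialLinearGroup (Fin n) F)),
        ConjClasses.mk m = C → ¬ p ∣ orderOf m ∧
          (m : Matrix.SpecialLinearGroup (Fin n) F) ∈ Subgroup.centralizer
            ((P : Subgroup (Matrix.SpecialLinearGroup (Fin n) F)) : Set (Matrix.SpecialLinearGroup (Fin n) F))} =
      Nat.card (Subgroup.center (Matrix.SpecialLinearGroup (Fin n) F)) := by
  set G := Matrix.SpecialLinearGroup (Fin n) F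
  set Nn := Subgroup.normalizer ((P : Subgroup G) : Set G) with hNn
  have hcN : Subgroup.center G ≤ Nn := by
    intro z hz
    rw [hNn, Subgroup.mem_normalizer_iff]
    intro h
    have : z * h * z⁻¹ = h := by
      rw [Subgroup.mem_center_iff] at hz
      rw [← hz h, mul_inv_cancel_right]
    rw [this]
  -- conjugates (in `N`) of a central element
  have hconj : ∀ (z : G) (hz : z ∈ Subgroup.center G) (m : Nn),
      ConjClasses.mk m = ConjClasses.mk (⟨z, hcN hz⟩ : Nn) → (m : G) = z := by
    intro z hz m hm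
    rw [ConjClasses.mk_eq_mk_iff_isConj, isConj_iff] at hm
    obtain ⟨c, hc⟩ := hm
    have h1 := congrArg Subtype.val hc
    have h2 : (c : G) * (m : G) * (c : G)⁻¹ = z := h1
    rw [Subgroup.mem_center_iff] at hz
    calc (m : G) = (c : G)⁻¹ * ((c : G) * (m : G) * (c : G)⁻¹) * (c : G) := by
          simp only [mul_assoc, inv_mul_cancel, mul_one, inv_mul_cancel_left]
      _ = (c : G)⁻¹ * z * (c : G) := by rw [h2]
      _ = z := by rw [mul_assoc, ← hz (c : G), inv_mul_cancel_left]
  symm
  refine Nat.card_congr (Equiv.ofBijective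
    (fun z : Subgroup.center G => ⟨ConjClasses.mk (⟨z.1, hcN z.2⟩ : Nn), ?_⟩) ⟨?_, ?_⟩)
  · intro m hm
    have hmz := hconj z.1 z.2 m hm
    have h := (pregular_centralizer_iff p i0 P hP z.1).mpr z.2
    rw [← Subgroup.orderOf_coe, hmz]
    exact h
  · intro z z' hzz'
    have h1 := congrArg Subtype.val hzz'
    have h2 := hconj z'.1 z'.2 ⟨z.1, hcN z.2⟩ h1
    exact Subtype.ext h2
  · rintro ⟨C, hC⟩
    obtain ⟨m₀, rfl⟩ := ConjClasses.mk_surjective C
    have h := hC m₀ rfl
    rw [← Subgroup.orderOf_coe] at h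
    have hz := (pregular_centralizer_iff p i0 P hP (m₀ : G)).mp h
    refine ⟨⟨(m₀ : G), hz⟩, ?_⟩
    apply Subtype.ext
    rfl

end grp

/-- the number of `k`-th roots of unity in a finite cyclic unit group -/
theorem card_rootsOfUnity_zmod (p : ℕ) [Fact p.Prime] (k : ℕ) :
    Nat.card (rootsOfUnity k (ZMod p)) = Nat.gcd k (p - 1) := by
  have h1 : rootsOfUnity k (ZMod p) = (powMonoidHom k : (ZMod p)ˣ →* (ZMod p)ˣ).ker := by
    ext ζ
    rw [mem_rootsOfUnity, MonoidHom.mem_ker, powMonoidHom_apply]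
  rw [h1, IsCyclic.card_powMonoidHom_ker, Nat.card_eq_fintype_card, ZMod.card_units, Nat.gcd_comm]

theorem card_center_SL_zmod (p : ℕ) [Fact p.Prime] {n : ℕ} (hn : 0 < n) :
    Nat.card (Subgroup.center (Matrix.SpecialLinearGroup (Fin n) (ZMod p))) = Nat.gcd n (p - 1) := by
  have e := Matrix.SpecialLinearGroup.center_equiv_rootsOfUnity' (R := ZMod p) (⟨0, hn⟩ : Fin n)
  rw [Nat.card_congr e.toEquiv, Fintype.card_fin, card_rootsOfUnity_zmod]

end Cfsg.Agent.Lib.Helper1.SLBlkCount
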