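/-
helper1: the number of `p`-blocks of `SL_n(F_p)` is `gcd(n, p - 1) + 1`, GIVEN the two conjuncts of
S4538 (exactly one block of defect zero; every block has defect zero or full defect).
Ingredients: S0953 (helper6: blocks with Sylow defect group `P` are counted by the
`N_G(P)`-classes of `p`-regular elements of `C_G(P)`), S0906, `card_defectGroup_eq` (S0908),
helper23 `isDefectGroup_conj`, and the linear algebra of `SLBlkA`.
-/
import Mathlib
import Cfsg.Agent.S0953
import Cfsg.Agent.S0906
import Cfsg.Agent.Lib.Helper23.QuotDefectAux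
import Cfsg.Agent.Lib.Helper1.SLBlkA

set_option autoImplicit false

namespace Cfsg.Agent.Lib.Helper1.SLBlkCount

open Cfsg Cfsg.Agent.Lib.Helper6 Cfsg.Agent.Lib.Helper23

section general

variable {G : Type*} [Group G] [Finite G]

/-- a defect group which is a Sylow subgroup forces full defect -/
theorem full_of_isDefectGroup_sylow (p : ℕ) [Fact p.Prime] (M : Ideal AlgInt)
    (hM : IsPModular p M) (B : Set (IrrCharacter G)) (hB : IsPBlock M B) (P : Sylow p G)
    (hD : IsDefectGroup p M B (P : Subgroup G)) :
    blockDefect p B = (Nat.card G).factorization p := by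
  have h1 := card_defectGroup_eq hM B hB _ hD
  have h2 := P.card_eq_multiplicity
  rw [h1] at h2
  exact Nat.pow_right_injective (Fact.out : p.Prime).two_le h2

/-- a block of full defect has every Sylow `p`-subgroup as a defect group -/
theorem isDefectGroup_sylow_of_full (p : ℕ) [Fact p.Prime] (M : Ideal AlgInt)
    (hM : IsPModular p M) (B : Set (IrrCharacter G)) (hB : IsPBlock M B)
    (hfull : blockDefect p B = (Nat.card G).factorization p) (P : Sylow p G) :
    IsDefectGroup p M B (P : Subgroup G) := by
  obtain ⟨g, hg⟩ := Cfsg.Agent.S0906.result p M hM B hB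
  let Q : Sylow p (Subgroup.centralizer ({g} : Set G)) := default
  set D : Subgroup G := (Q : Subgroup (Subgroup.centralizer ({g} : Set G))).map
    (Subgroup.centralizer ({g} : Set G)).subtype with hDdef
  have hD : IsDefectGroup p M B D := ⟨g, hg, Q, rfl⟩
  have hcard : Nat.card D = p ^ (Nat.card G).factorization p := by
    rw [card_defectGroup_eq hM B hB D hD, hfull]
  let D' : Sylow p G := Sylow.ofCard D hcard
  obtain ⟨c, hc⟩ := MulAction.exists_smul_eq G D' P
  have h3 := isDefectGroup_conj hM hB hD c
  have h4 : D.map (MulAut.conj c).toMonoidHom = (P : Subgroup G) := by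
    rw [← hc]
    rfl
  rw [h4] at h3
  exact h3

/-- counting blocks through the dichotomy defect zero / full defect -/
theorem card_blocks_split (p : ℕ) [Fact p.Prime] (M : Ideal AlgInt) (hM : IsPModular p M)
    (P : Sylow p G) (hpos : 0 < (Nat.card G).factorization p)
    (h2 : ∀ B : Set (IrrCharacter G), IsPBlock M B →
      blockDefect p B = 0 ∨ blockDefect p B = (Nat.card G).factorization p) :
    Nat.card {B : Set (IrrCharacter G) // IsPBlock M B} =
      Nat.card {B : Set (IrrCharacter G) // IsPBlock M B ∧ blockDefect p B = 0} +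
      Nat.card {B : Set (IrrCharacter G) // IsPBlock M B ∧ IsDefectGroup p M B (P : Subgroup G)} := by
  have e1 := (Equiv.sumCompl
    (fun x : {B : Set (IrrCharacter G) // IsPBlock M B} => blockDefect p x.1 = 0))
  have e2 := Equiv.subtypeSubtypeEquivSubtypeInter
    (fun B : Set (IrrCharacter G) => IsPBlock M B) (fun B => blockDefect p B = 0)
  have e3 := Equiv.subtypeSubtypeEquivSubtypeInter
    (fun B : Set (IrrCharacter G) => IsPBlock M B) (fun B => ¬ blockDefect p B = 0)
  have e4 : {B : Set (IrrCharacter G) // IsPBlock M B ∧ ¬ blockDefect p B = 0} ≃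
      {B : Set (IrrCharacter G) // IsPBlock M B ∧ IsDefectGroup p M B (P : Subgroup G)} := by
    apply Equiv.subtypeEquivRight
    intro B
    apply and_congr_right
    intro hB
    constructor
    · intro h0
      rcases h2 B hB with h | h
      · exact absurd h h0
      · exact isDefectGroup_sylow_of_full p M hM B hB h P
    · intro hD
      rw [full_of_isDefectGroup_sylow p M hM B hB P hD]
      exact hpos.ne'
  rw [← Nat.card_congr e1, Nat.card_sum, Nat.card_congr e2, Nat.card_congr e3, Nat.card_congr e4]

end general

/-- **S2440 from S4538**: if `SL_n(F_p)` has exactly one `p`-block of defect zero and every block has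
defect zero or full defect, then it has exactly `gcd(n, p - 1) + 1` blocks. -/
theorem card_blocks_of_dichotomy (p : ℕ) [Fact p.Prime] (n : ℕ) (hn : 2 ≤ n) (M : Ideal AlgInt)
    (hM : IsPModular p M)
    (h1 : Nat.card {B : Set (IrrCharacter (Matrix.SpecialLinearGroup (Fin n) (ZMod p))) //
      IsPBlock M B ∧ blockDefect p B = 0} = 1)
    (h2 : ∀ B : Set (IrrCharacter (Matrix.SpecialLinearGroup (Fin n) (ZMod p))), IsPBlock M B →
      blockDefect p B = 0 ∨
        blockDefect p B = (Nat.card (Matrix.SpecialLinearGroup (Fin n) (ZMod p))).factorization p) :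
    Nat.card {B : Set (IrrCharacter (Matrix.SpecialLinearGroup (Fin n) (ZMod p))) // IsPBlock M B} =
      Nat.gcd n (p - 1) + 1 := by
  have hp : p.Prime := Fact.out
  have : NeZero p := ⟨hp.ne_zero⟩
  set G := Matrix.SpecialLinearGroup (Fin n) (ZMod p) with hG
  let i0 : Fin n := ⟨0, by omega⟩
  let j0 : Fin n := ⟨1, by omega⟩
  have hij : i0 ≠ j0 := by
    intro h
    have := congrArg Fin.val h
    simp [i0, j0] at this
  obtain ⟨P, hP⟩ := (isPGroup_rowGroup (F := ZMod p) p i0).exists_le_sylow
  -- `p` divides the order
  have hpos : 0 < (Nat.card G).factorization p := by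
    rcases Nat.eq_zero_or_pos ((Nat.card G).factorization p) with h0 | h0
    · exfalso
      have hc := P.card_eq_multiplicity
      rw [h0, pow_zero] at hc
      have hbot : (P : Subgroup G) = ⊥ := Subgroup.card_eq_one.mp hc
      have ht : tv (F := ZMod p) i0 j0 hij ∈ (P : Subgroup G) := hP (tv_mem i0 j0 hij)
      rw [hbot, Subgroup.mem_bot] at ht
      have h3 := congrArg Subtype.val ht
      have h4 : Matrix.transvection i0 j0 (1 : ZMod p) = 1 := h3
      have h5 := congrFun (congrFun h4 i0) j0
      rw [Matrix.transvection, Matrix.add_apply, Matrix.single_apply_same,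
        Matrix.one_apply_ne hij, zero_add] at h5
      exact one_ne_zero h5
    · exact h0
  rw [card_blocks_split p M hM P hpos h2, h1, Cfsg.Agent.S0953.result p M hM P,
    card_classes_eq_card_center p i0 P hP, card_center_SL_zmod p (by omega : 0 < n), add_comm]

end Cfsg.Agent.Lib.Helper1.SLBlkCount
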