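import Mathlib
import Cfsg.Prelude.Def_LocalEven

/-!
helper1: `SL₂(p)` has no nontrivial normal `p`-subgroup; consequences for sections isomorphic to `SL₂(p)`.
-/

set_option autoImplicit false
set_option linter.unusedSectionVars false
set_option linter.unusedVariables false

namespace Cfsg.Agent.Lib.Helper1.SLFree

open Matrix

variable {p : ℕ} [hpF : Fact p.Prime]

theorem sl2_smul_apply (A : SpecialLinearGroup (Fin 2) (ZMod p)) (v : Fin 2 → ZMod p) (i : Fin 2) :
    (A • v) i = A.1 i 0 * v 0 + A.1 i 1 * v 1 := by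
  show (A.1 *ᵥ v) i = _
  simp [Matrix.mulVec, dotProduct, Fin.sum_univ_two]

/-- every nonzero vector of `𝔽_p²` is the first column of a matrix of `SL₂(p)` -/
theorem exists_sl2_smul_e1 (v : Fin 2 → ZMod p) (hv : v ≠ 0) :
    ∃ A : SpecialLinearGroup (Fin 2) (ZMod p), A • (![1, 0] : Fin 2 → ZMod p) = v := by
  by_cases ha : v 0 = 0
  · have hb : v 1 ≠ 0 := by
      intro hb
      apply hv
      ext i
      fin_cases i
      · exact ha
      · exact hb
    have hdet : (!![0, -(v 1)⁻¹; v 1, 0] : Matrix (Fin 2) (Fin 2) (ZMod p)).det = 1 := by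
      rw [Matrix.det_fin_two_of, neg_mul, inv_mul_cancel₀ hb]
      ring
    let A : SpecialLinearGroup (Fin 2) (ZMod p) := ⟨!![0, -(v 1)⁻¹; v 1, 0], hdet⟩
    refine ⟨A, ?_⟩
    have key : ∀ i : Fin 2, (A • (![1, 0] : Fin 2 → ZMod p)) i = v i := by
      intro i
      rw [sl2_smul_apply]
      fin_cases i
      · simp [A, ha]
      · simp [A]
    exact funext key
  · have hdet : (!![v 0, 0; v 1, (v 0)⁻¹] : Matrix (Fin 2) (Fin 2) (ZMod p)).det = 1 := by
      rw [Matrix.det_fin_two_of, mul_inv_cancel₀ ha]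
      ring
    let A : SpecialLinearGroup (Fin 2) (ZMod p) := ⟨!![v 0, 0; v 1, (v 0)⁻¹], hdet⟩
    refine ⟨A, ?_⟩
    have key : ∀ i : Fin 2, (A • (![1, 0] : Fin 2 → ZMod p)) i = v i := by
      intro i
      rw [sl2_smul_apply]
      fin_cases i
      · simp [A]
      · simp [A]
    exact funext key

/-- **`O_p(SL₂(p)) = 1`.** -/
theorem sl2_normal_pGroup_eq_bot (M : Subgroup (SpecialLinearGroup (Fin 2) (ZMod p))) [hMn : M.Normal]
    (hM : IsPGroup p M) : M = ⊥ := by
  classical
  have hcard : Nat.card (Fin 2 → ZMod p) = p ^ 2 := by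
    rw [Nat.card_eq_fintype_card, Fintype.card_fun, ZMod.card, Fintype.card_fin]
  have h0 : (0 : Fin 2 → ZMod p) ∈ MulAction.fixedPoints M (Fin 2 → ZMod p) := fun g => smul_zero g
  obtain ⟨v, hvfix, hv0⟩ := hM.exists_fixed_point_of_prime_dvd_card_of_fixed_point (Fin 2 → ZMod p)
    (by rw [hcard]; exact dvd_pow_self p two_ne_zero) h0
  have hall : ∀ (g m' : SpecialLinearGroup (Fin 2) (ZMod p)), m' ∈ M → m' • (g • v) = g • v := by
    intro g m' hm'
    have h1 : g⁻¹ * m' * g ∈ M := by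
      have := hMn.conj_mem m' hm' g⁻¹
      rwa [inv_inv] at this
    have h2 : (g⁻¹ * m' * g) • v = v := hvfix ⟨g⁻¹ * m' * g, h1⟩
    calc m' • (g • v) = g • ((g⁻¹ * m' * g) • v) := by
          rw [← mul_smul, ← mul_smul]
          congr 1
          group
      _ = g • v := by rw [h2]
  obtain ⟨A, hA⟩ := exists_sl2_smul_e1 v (Ne.symm hv0)
  have he1 : A⁻¹ • v = ![1, 0] := by rw [← hA, inv_smul_smul]
  set J : SpecialLinearGroup (Fin 2) (ZMod p) := ⟨!![0, -1; 1, 0], by rw [Matrix.det_fin_two_of]; ring⟩ with hJ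
  have he2 : (J * A⁻¹) • v = ![0, 1] := by
    rw [mul_smul, he1]
    have key : ∀ i : Fin 2, (J • (![1, 0] : Fin 2 → ZMod p)) i = (![0, 1] : Fin 2 → ZMod p) i := by
      intro i
      rw [sl2_smul_apply]
      fin_cases i
      · simp [hJ]
      · simp [hJ]
    exact funext key
  rw [eq_bot_iff]
  intro m hm
  rw [Subgroup.mem_bot]
  have f1 := hall A⁻¹ m hm
  have f2 := hall (J * A⁻¹) m hm
  rw [he1] at f1
  rw [he2] at f2
  have g00 := congrFun f1 0
  have g10 := congrFun f1 1
  have g01 := congrFun f2 0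
  have g11 := congrFun f2 1
  rw [sl2_smul_apply] at g00 g10 g01 g11
  apply Subtype.ext
  ext i j
  fin_cases i <;> fin_cases j
  · simpa using g00
  · simpa using g01
  · simpa using g10
  · simpa using g11

/-- a surjection onto `SL₂(p)` kills every normal `p`-subgroup -/
theorem le_ker_of_surjective_sl2 {H : Type*} [Group H] (f : H →* SpecialLinearGroup (Fin 2) (ZMod p))
    (hf : Function.Surjective f) (M : Subgroup H) [M.Normal] (hM : IsPGroup p M) : M ≤ f.ker := by
  haveI : (M.map f).Normal := Subgroup.Normal.map inferInstance f hf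
  have h1 : M.map f = ⊥ := sl2_normal_pGroup_eq_bot (M.map f) (hM.map f)
  intro x hx
  rw [MonoidHom.mem_ker, ← Subgroup.mem_bot, ← h1]
  exact Subgroup.mem_map_of_mem f hx

end Cfsg.Agent.Lib.Helper1.SLFree
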