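import Mathlib
import Cfsg.Agent.Lib.Helper1.SLFree1
import Cfsg.Agent.Lib.Helper27.Involves
import Cfsg.Agent.Lib.Helper27.SectionLift
import Cfsg.Agent.Lib.Helper27.GroupModel
import Cfsg.Agent.Lib.Helper27.QuotCent
import Cfsg.Agent.Lib.Helper12.LocalZJ
import Cfsg.Prelude.Def_FusionReduction

/-!
helper1: if no `N_G(Q)/C_G(Q)` (`Q` a `p`-subgroup) involves `SL₂(p)`, the fusion system of `G` on a Sylow
`p`-subgroup is `Qd(p)`-free.
-/

set_option autoImplicit false
set_option linter.unusedSectionVars false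
set_option linter.unusedVariables false

namespace Cfsg.Agent.Lib.Helper1.SLFree

open Matrix Cfsg Cfsg.FusionSystem

universe u

variable {p : ℕ} [hpF : Fact p.Prime]

/-- `SL₂(p)`-involvement survives passing to the quotient by a normal `p`-subgroup -/
theorem involves_sl2_quotient {Y : Type*} [Group Y] (M : Subgroup Y) [M.Normal] (hM : IsPGroup p M)
    (h : Cfsg.Involves (SpecialLinearGroup (Fin 2) (ZMod p)) Y) :
    Cfsg.Involves (SpecialLinearGroup (Fin 2) (ZMod p)) (Y ⧸ M) := by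
  obtain ⟨K, R, hn, ⟨e⟩⟩ := h
  let f : ↥K →* SpecialLinearGroup (Fin 2) (ZMod p) :=
    e.toMonoidHom.comp (QuotientGroup.mk' (R.subgroupOf K))
  have hf : Function.Surjective f := by
    intro a
    obtain ⟨x, hx⟩ := QuotientGroup.mk'_surjective (R.subgroupOf K) (e.symm a)
    refine ⟨x, ?_⟩
    show e ((QuotientGroup.mk' (R.subgroupOf K)) x) = a
    rw [hx, MulEquiv.apply_symm_apply]
  have hker : M.subgroupOf K ≤ f.ker := le_ker_of_surjective_sl2 f hf _ hM.comap_subtype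
  let φ : ↥K →* Y ⧸ M := (QuotientGroup.mk' M).comp K.subtype
  have hφker : φ.rangeRestrict.ker ≤ f.ker := by
    intro x hx
    rw [MonoidHom.ker_rangeRestrict] at hx
    apply hker
    rw [Subgroup.mem_subgroupOf]
    have h1 : (QuotientGroup.mk' M) (x : Y) = 1 := hx
    rwa [QuotientGroup.mk'_apply, QuotientGroup.eq_one_iff] at h1
  let f' : φ.range →* SpecialLinearGroup (Fin 2) (ZMod p) :=
    (φ.rangeRestrict).liftOfSurjective φ.rangeRestrict_surjective ⟨f, hφker⟩
  have hf' : ∀ x, f' (φ.rangeRestrict x) = f x := fun x =>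
    MonoidHom.liftOfRightInverse_comp_apply _ _ _ ⟨f, hφker⟩ x
  refine Cfsg.Agent.Lib.Helper27.involves_of_surjective_on_subgroup φ.range f' ?_
  intro a
  obtain ⟨x, hx⟩ := hf a
  exact ⟨φ.rangeRestrict x, by rw [hf', hx]⟩

/-- `Qd(p)` has `SL₂(p)` as a quotient -/
theorem involves_sl2_of_involves_qd {Y : Type*} [Group Y] (h : Cfsg.Involves ↥(Cfsg.qd p) Y) :
    Cfsg.Involves (SpecialLinearGroup (Fin 2) (ZMod p)) Y := by
  obtain ⟨K, R, hn, ⟨e⟩⟩ := h
  refine Cfsg.Agent.Lib.Helper27.involves_of_surjective_on_subgroup K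
    ((Cfsg.Agent.Lib.Helper12.qdLin (p := p)).comp
      (e.toMonoidHom.comp (QuotientGroup.mk' (R.subgroupOf K)))) ?_
  intro a
  obtain ⟨q, hq⟩ := Cfsg.Agent.Lib.Helper12.qdLin_surjective (p := p) a
  obtain ⟨x, hx⟩ := QuotientGroup.mk'_surjective (R.subgroupOf K) (e.symm q)
  refine ⟨x, ?_⟩
  show Cfsg.Agent.Lib.Helper12.qdLin (e ((QuotientGroup.mk' (R.subgroupOf K)) x)) = a
  rw [hx, MulEquiv.apply_symm_apply, hq]

/-- a section of `N/C` as a section `H/K` of `G` with `C ≤ K ≤ H ≤ N` -/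
theorem exists_section_of_involves_quotient {G : Type*} [Group G] {L : Type*} [Group L] (N C : Subgroup G)
    (hCN : C ≤ N) [hn : (C.subgroupOf N).Normal] (h : Cfsg.Involves L (↥N ⧸ C.subgroupOf N)) :
    ∃ (H K : Subgroup G) (_ : (K.subgroupOf H).Normal), C ≤ K ∧ K ≤ H ∧ H ≤ N ∧
      Nonempty ((↥H ⧸ K.subgroupOf H) ≃* L) := by
  obtain ⟨Kb, Rb, hnb, ⟨e⟩⟩ := h
  let π : ↥N →* ↥N ⧸ C.subgroupOf N := QuotientGroup.mk' (C.subgroupOf N)
  let g₀ : ↥(Kb.comap π) →* L :=
    (e.toMonoidHom.comp (QuotientGroup.mk' (Rb.subgroupOf Kb))).comp (π.subgroupComap Kb)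
  have hg₀ : Function.Surjective g₀ := by
    intro a
    obtain ⟨y, hy⟩ := QuotientGroup.mk'_surjective (Rb.subgroupOf Kb) (e.symm a)
    obtain ⟨z, hz⟩ := MonoidHom.subgroupComap_surjective_of_surjective π Kb
      (QuotientGroup.mk'_surjective _) y
    refine ⟨z, ?_⟩
    show e ((QuotientGroup.mk' (Rb.subgroupOf Kb)) (π.subgroupComap Kb z)) = a
    rw [hz, hy, MulEquiv.apply_symm_apply]
  let H : Subgroup G := (Kb.comap π).map N.subtype
  let iso : ↥(Kb.comap π) ≃* ↥H := (Kb.comap π).equivMapOfInjective N.subtype N.subtype_injective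
  let g : ↥H →* L := g₀.comp iso.symm.toMonoidHom
  have hg : Function.Surjective g := by
    intro a
    obtain ⟨x, hx⟩ := hg₀ a
    exact ⟨iso x, by simp [g, hx]⟩
  have hker : ((g.ker).map H.subtype).subgroupOf H = g.ker := by
    show ((g.ker).map H.subtype).comap H.subtype = g.ker
    exact Subgroup.comap_map_eq_self_of_injective H.subtype_injective _
  have hn' : (((g.ker).map H.subtype).subgroupOf H).Normal := by
    rw [hker]; infer_instance
  refine ⟨H, (g.ker).map H.subtype, hn', ?_, Subgroup.map_subtype_le _, Subgroup.map_subtype_le _,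
    ⟨(QuotientGroup.quotientMulEquivOfEq hker).trans (QuotientGroup.quotientKerEquivOfSurjective g hg)⟩⟩
  intro c hc
  have hcN : c ∈ N := hCN hc
  have hπ : π ⟨c, hcN⟩ = 1 := by
    show (QuotientGroup.mk' (C.subgroupOf N)) ⟨c, hcN⟩ = 1
    rw [QuotientGroup.mk'_apply, QuotientGroup.eq_one_iff, Subgroup.mem_subgroupOf]
    exact hc
  have hmem : (⟨c, hcN⟩ : ↥N) ∈ Kb.comap π := by
    rw [Subgroup.mem_comap, hπ]
    exact one_mem _
  have hcH : c ∈ H := ⟨⟨c, hcN⟩, hmem, rfl⟩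
  refine ⟨⟨c, hcH⟩, ?_, rfl⟩
  show (⟨c, hcH⟩ : ↥H) ∈ g.ker
  rw [MonoidHom.mem_ker]
  have hiso : iso ⟨⟨c, hcN⟩, hmem⟩ = ⟨c, hcH⟩ := Subtype.ext rfl
  have h1 : g ⟨c, hcH⟩ = g₀ ⟨⟨c, hcN⟩, hmem⟩ := by
    show g₀ (iso.symm ⟨c, hcH⟩) = _
    rw [← hiso, MulEquiv.symm_apply_apply]
  rw [h1]
  show e ((QuotientGroup.mk' (Rb.subgroupOf Kb)) (π.subgroupComap Kb ⟨⟨c, hcN⟩, hmem⟩)) = 1
  have h2 : π.subgroupComap Kb ⟨⟨c, hcN⟩, hmem⟩ = 1 := by
    apply Subtype.ext
    exact hπ
  rw [h2, map_one, map_one]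

variable {G : Type u} [Group G] [Finite G]

/-- **local `SL₂(p)`-freeness of the automizers gives a `Qd(p)`-free fusion system** -/
theorem groupFS_sectionFree_of_automizers (P : Sylow p G)
    (hfree : ∀ Q : Subgroup G, IsPGroup p ↥Q → ¬ ∃ (H K : Subgroup G) (_ : (K.subgroupOf H).Normal),
      Subgroup.centralizer (Q : Set G) ≤ K ∧ K ≤ H ∧ H ≤ Subgroup.normalizer (Q : Set G) ∧
      Nonempty ((↥H ⧸ K.subgroupOf H) ≃* SpecialLinearGroup (Fin 2) (ZMod p))) :
    (groupFusionSystem (P : Subgroup G)).IsSectionFree p ↥(Cfsg.qd p) := by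
  classical
  intro Q hfn hc N hN L _ ι hL hinvL
  have hQP : Q ≤ (P : Subgroup G) := hfn.1
  have hle : normalizerIn (P : Subgroup G) Q ≤ Subgroup.normalizer (Q : Set G) := inf_le_right
  have hmodel := Cfsg.Agent.Lib.Helper27.FM.groupFS_normalizer_model P hfn hc N hN
    (Subgroup.inclusion hle) (fun x => rfl)
  haveI hKn := Cfsg.Agent.Lib.Helper24.pPrimeCore_normal' (G := ↥(Subgroup.normalizer (Q : Set G))) p
  have hTp : IsPGroup p ↥(normalizerIn (P : Subgroup G) Q) := P.isPGroup'.to_le inf_le_left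
  obtain ⟨φ, -⟩ := Cfsg.Agent.Lib.Helper26.ModelThm.model_unique hTp ι _ hL hmodel
  have h1 := Cfsg.Agent.Lib.Helper27.involves_of_injective φ.toMonoidHom φ.injective hinvL
  have h2 := involves_sl2_of_involves_qd h1
  -- the image of `Q`
  set X := ↥(Subgroup.normalizer (Q : Set G)) with hX
  set A : Subgroup X := Q.subgroupOf (Subgroup.normalizer (Q : Set G)) with hA
  haveI hAn : A.Normal := Subgroup.normal_in_normalizer
  have hAp : IsPGroup p A := (P.isPGroup'.to_le hQP).comap_subtype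
  obtain ⟨R, hR⟩ := (Cfsg.Agent.Lib.Helper26.groupFS_fullyNormalized_iff P hQP).mp hfn
  have hTA : (R : Subgroup X) ⊓ Subgroup.centralizer (A : Set X) ≤ A := by
    rintro x ⟨hxR, hxC⟩
    have hxR : x ∈ (R : Subgroup X) := hxR
    rw [hR, Subgroup.mem_subgroupOf] at hxR
    rw [hA, Subgroup.mem_subgroupOf]
    apply hc.2 Q (Cfsg.Agent.Lib.Helper26.isConj_refl _ hQP)
    refine ⟨hxR.1, ?_⟩
    show (x : G) ∈ Subgroup.centralizer (Q : Set G)
    rw [Subgroup.mem_centralizer_iff]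
    intro q hq
    have h1 := Subgroup.mem_centralizer_iff.mp hxC ⟨q, Subgroup.le_normalizer hq⟩ hq
    exact congrArg Subtype.val h1
  have hCle := Cfsg.Agent.Lib.Helper27.QuotCent.centralizer_le_sup A hAp R hTA
  set Ab : Subgroup (X ⧸ pPrimeCore p X) := A.map (QuotientGroup.mk' (pPrimeCore p X)) with hAb
  haveI hAbn : Ab.Normal := Subgroup.Normal.map hAn _ (QuotientGroup.mk'_surjective _)
  have hAbp : IsPGroup p Ab := hAp.map _
  have h3 := involves_sl2_quotient Ab hAbp h2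
  -- the centralizer
  have hCN : Subgroup.centralizer (Q : Set G) ≤ Subgroup.normalizer (Q : Set G) :=
    Subgroup.centralizer_le_normalizer _
  haveI hCn : ((Subgroup.centralizer (Q : Set G)).subgroupOf (Subgroup.normalizer (Q : Set G))).Normal :=
    Subgroup.normal_subgroupOf_of_le_normalizer
      (Cfsg.Agent.Lib.Helper26.normalizer_le_normalizer_centralizer Q)
  let ψ₀ : X →* (X ⧸ pPrimeCore p X) ⧸ Ab := (QuotientGroup.mk' Ab).comp (QuotientGroup.mk' (pPrimeCore p X))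
  have hψ₀ : ∀ x ∈ (Subgroup.centralizer (Q : Set G)).subgroupOf (Subgroup.normalizer (Q : Set G)), ψ₀ x = 1 := by
    intro x hx
    rw [Subgroup.mem_subgroupOf] at hx
    have hxC : x ∈ Subgroup.centralizer (A : Set X) := by
      rw [Subgroup.mem_centralizer_iff]
      intro a ha
      apply Subtype.ext
      exact Subgroup.mem_centralizer_iff.mp hx (a : G) ha
    have h4 := hCle hxC
    have h5 : QuotientGroup.mk' (pPrimeCore p X) x ∈ (A ⊔ pPrimeCore p X).map (QuotientGroup.mk' (pPrimeCore p X)) :=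
      ⟨x, h4, rfl⟩
    rw [Subgroup.map_sup] at h5
    rw [QuotientGroup.map_mk'_self, sup_bot_eq] at h5
    show (QuotientGroup.mk' Ab) ((QuotientGroup.mk' (pPrimeCore p X)) x) = 1
    rw [QuotientGroup.mk'_apply, QuotientGroup.eq_one_iff]
    exact h5
  let ψ : X ⧸ (Subgroup.centralizer (Q : Set G)).subgroupOf (Subgroup.normalizer (Q : Set G)) →*
      (X ⧸ pPrimeCore p X) ⧸ Ab := QuotientGroup.lift _ ψ₀ hψ₀
  have hψ : Function.Surjective ψ := by
    intro y
    obtain ⟨y₁, rfl⟩ := QuotientGroup.mk'_surjective Ab y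
    obtain ⟨x, rfl⟩ := QuotientGroup.mk'_surjective (pPrimeCore p X) y₁
    exact ⟨QuotientGroup.mk x, rfl⟩
  have h4 := Cfsg.Agent.Lib.Helper27.SectionLift.involves_of_surjective ψ hψ h3
  exact hfree Q (P.isPGroup'.to_le hQP)
    (exists_section_of_involves_quotient (Subgroup.normalizer (Q : Set G)) (Subgroup.centralizer (Q : Set G)) hCN h4)

end Cfsg.Agent.Lib.Helper1.SLFree
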