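import Cfsg.Agent.Lib.Helper17.SLMDefs
import Cfsg.Agent.Lib.Helper9.FieldNorm

/-!
# SL_n maximal subgroups market (helper17), block N: N1 `mdec_card`, N2 `field_dvd` (helper1).
Exact signatures of `notes/SLnMax_leaves.lean`.
-/

set_option autoImplicit false
set_option linter.unusedSectionVars false
set_option linter.unusedVariables false
set_option linter.style.haveILetI false

namespace Cfsg.Agent.Lib.Helper1.SLMLeaf

open Cfsg.Geo Matrix Module Cfsg.Agent.Lib.Helper17.SLM

variable {n : ℕ} {F : Type*} [Field F] [Fintype F]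

section anyfield
variable {n : ℕ} {K : Type*} [Field K]

/-- N1 over any field. -/
theorem mdec_card' {t m : ℕ} {D : Fin t → Submodule K (Fin n → K)} (hD : IsMDecomposition m D) :
    t * m = n := by
  classical
  have hint : DirectSum.IsInternal D :=
    DirectSum.isInternal_submodule_of_iSupIndep_of_iSup_eq_top hD.indep hD.iSup_eq_top
  have e : (DirectSum (Fin t) fun i => ↥(D i)) ≃ₗ[K] (Fin n → K) :=
    LinearEquiv.ofBijective (DirectSum.coeLinearMap D) hint
  have h1 := e.finrank_eq
  rw [Module.finrank_directSum, Module.finrank_fin_fun] at h1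
  rw [← h1]
  simp [hD.finrank_eq]

end anyfield

/-- N1.  `n = finrank (⨆ D i) = Σ finrank (D i) = t m`. -/
theorem mdec_card {t m : ℕ} {D : Fin t → Submodule F (Fin n → F)} (hD : IsMDecomposition m D) : t * m = n :=
  mdec_card' hD

/-- N2.  `F^n` is a vector space over the field `K`: `n = r · dim_K`. -/
theorem field_dvd (hn : 1 ≤ n) {r : ℕ} {K : Subalgebra F (Matrix (Fin n) (Fin n) F)} (hK : IsFieldSubalgebra r K) :
    r ∣ n := by
  haveI : Nonempty (Fin n) := ⟨⟨0, by omega⟩⟩
  letI := Cfsg.Agent.Lib.Helper9.FieldNorm.fieldOf K hK.comm hK.inv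
  letI := Cfsg.Agent.Lib.Helper9.FieldNorm.modOf (E := ↥K) K.val
  haveI := Cfsg.Agent.Lib.Helper9.FieldNorm.isScalarTower (E := ↥K) K.val
  haveI : Module.Finite ↥K (Fin n → F) := Module.Finite.of_restrictScalars_finite F ↥K (Fin n → F)
  have hfr := Module.finrank_mul_finrank F ↥K (Fin n → F)
  rw [Module.finrank_fin_fun, hK.finrank_eq] at hfr
  exact ⟨_, hfr.symm⟩

end Cfsg.Agent.Lib.Helper1.SLMLeaf
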