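import Cfsg.Agent.Lib.Helper17.SLMDefs

/-!
# SL_n maximal subgroups market (helper17), block N4: `c6_three`, `c6_five`, `c6_seven`, `c6_eleven`, `c6_two`
(helper1).  Exact signatures of `notes/SLnMax_leaves.lean`.  Pure arithmetic from `IsMinimalFieldFor`.
-/

set_option autoImplicit false
set_option linter.unusedSectionVars false
set_option linter.unusedVariables false

namespace Cfsg.Agent.Lib.Helper1.SLMLeaf

open Cfsg.Geo Matrix Module Cfsg.Agent.Lib.Helper17.SLM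

variable {n : ℕ} {F : Type*} [Field F] [Fintype F]

/-- `r ∣ p ^ d - 1` in terms of `ZMod r` -/
theorem dvd_pow_sub_one_iff (r p d : ℕ) : r ∣ p ^ d - 1 ↔ p = 0 ∧ d ≠ 0 ∨ ((p : ZMod r) ^ d = 1) := by
  by_cases hp : p = 0
  · subst hp
    by_cases hd : d = 0
    · subst hd
      simp
    · simp [hd]
  · have h1 : 1 ≤ p ^ d := Nat.one_le_pow _ _ (Nat.pos_of_ne_zero hp)
    rw [← ZMod.natCast_eq_zero_iff, Nat.cast_sub h1, Nat.cast_pow, Nat.cast_one, sub_eq_zero]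
    simp [hp]

/-- the degree `e` of the minimal field is the order of `p` modulo `r`, so it divides `r - 1` -/
theorem minfield_dvd {r p e : ℕ} (hr : r.Prime) (hp : p.Prime) (hne : r ≠ p) (he : 0 < e)
    (hdiv : r ∣ p ^ e - 1) (hmin : ∀ d : ℕ, 0 < d → d < e → ¬ r ∣ p ^ d - 1) : e ∣ r - 1 := by
  have : Fact r.Prime := ⟨hr⟩
  have hp0 : p ≠ 0 := hp.ne_zero
  have hx : (p : ZMod r) ≠ 0 := by
    rw [Ne, ZMod.natCast_eq_zero_iff]
    intro h
    exact hne ((Nat.prime_dvd_prime_iff_eq hr hp).mp h)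
  have h1 : (p : ZMod r) ^ e = 1 := by
    rcases (dvd_pow_sub_one_iff r p e).mp hdiv with h | h
    · exact absurd h.1 hp0
    · exact h
  have h2 : ∀ m < e, 0 < m → (p : ZMod r) ^ m ≠ 1 := by
    intro m hm hm0 h
    exact hmin m hm0 hm ((dvd_pow_sub_one_iff r p m).mpr (Or.inr h))
  have hord : orderOf (p : ZMod r) = e := (orderOf_eq_iff he).mpr ⟨h1, h2⟩
  rw [← hord]
  exact orderOf_dvd_of_pow_eq_one (ZMod.pow_card_sub_one_eq_one hx)

/-- extraction of the arithmetic data for odd `r` -/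
theorem c6_odd_data {r : ℕ} (hr2 : r ≠ 2) {R : Subgroup (GL (Fin n) F)} (hR : IsLinearSymplecticTypeData r R) :
    ∃ p e : ℕ, p.Prime ∧ CharP F p ∧ Fintype.card F = p ^ e ∧ r ∣ p ^ e - 1 ∧
      (∀ d : ℕ, 0 < d → d < e → ¬ r ∣ p ^ d - 1) ∧ Odd e ∧ e ∣ r - 1 := by
  obtain ⟨p, e, hne, ⟨hp, hchar, hcard, hdiv, hmin⟩, hcases⟩ := hR.field
  rcases hcases with ⟨hodd, hoe, hz, -⟩ | ⟨h2, -⟩ | ⟨h2, -⟩
  · rw [hz] at hdiv hmin
    exact ⟨p, e, hp, hchar, hcard, hdiv, hmin, hoe,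
      minfield_dvd hR.symplecticType.prime hp hne hoe.pos hdiv hmin⟩
  · exact absurd h2 hr2
  · exact absurd h2 hr2

theorem mod_eq_one_of_dvd_sub_one {r p : ℕ} (hr : 2 ≤ r) (hp : 1 ≤ p) (h : r ∣ p - 1) : p % r = 1 := by
  obtain ⟨k, hk⟩ := h
  have : p = r * k + 1 := by omega
  rw [this, Nat.mul_add_mod]
  exact Nat.mod_eq_of_lt hr

/-- N4a, `r = 3`. -/
theorem c6_three {R : Subgroup (GL (Fin n) F)} (hn : 3 ≤ n) (hR : IsLinearSymplecticTypeData 3 R) :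
    ∃ p : ℕ, p.Prime ∧ Fintype.card F = p ∧ p % 3 = 1 := by
  obtain ⟨p, e, hp, hchar, hcard, hdiv, hmin, hoe, hdvd⟩ := c6_odd_data (by norm_num) hR
  have he : e = 1 := by
    have h2 : e ≤ 2 := Nat.le_of_dvd (by norm_num) hdvd
    obtain ⟨k, hk⟩ := hoe
    omega
  subst he
  rw [pow_one] at hcard hdiv
  exact ⟨p, hp, hcard, mod_eq_one_of_dvd_sub_one (by norm_num) hp.one_le hdiv⟩

/-- N4a, `r = 5`. -/
theorem c6_five {R : Subgroup (GL (Fin n) F)} (hn : 3 ≤ n) (hR : IsLinearSymplecticTypeData 5 R) :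
    ∃ p : ℕ, p.Prime ∧ Fintype.card F = p ∧ p % 5 = 1 := by
  obtain ⟨p, e, hp, hchar, hcard, hdiv, hmin, hoe, hdvd⟩ := c6_odd_data (by norm_num) hR
  have he : e = 1 := by
    have h2 : e ≤ 4 := Nat.le_of_dvd (by norm_num) hdvd
    obtain ⟨k, hk⟩ := hoe
    have h3 : e ≠ 3 := by
      intro h
      rw [h] at hdvd
      norm_num at hdvd
    omega
  subst he
  rw [pow_one] at hcard hdiv
  exact ⟨p, hp, hcard, mod_eq_one_of_dvd_sub_one (by norm_num) hp.one_le hdiv⟩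

/-- `r ∣ p ^ e - 1` gives `(p % r) ^ e % r = 1` -/
theorem pow_mod_of_dvd {r p e : ℕ} (hr : 2 ≤ r) (hp : 1 ≤ p) (h : r ∣ p ^ e - 1) :
    (p % r) ^ e % r = 1 := by
  rw [← Nat.pow_mod]
  exact mod_eq_one_of_dvd_sub_one hr (Nat.one_le_pow _ _ hp) h

/-- N4a, `r = 7`. -/
theorem c6_seven {R : Subgroup (GL (Fin n) F)} (hn : 3 ≤ n) (hR : IsLinearSymplecticTypeData 7 R) :
    ∃ p : ℕ, p.Prime ∧ CharP F p ∧ ((Fintype.card F = p ∧ p % 7 = 1) ∨
      (Fintype.card F = p ^ 3 ∧ (p % 7 = 2 ∨ p % 7 = 4))) := by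
  obtain ⟨p, e, hp, hchar, hcard, hdiv, hmin, hoe, hdvd⟩ := c6_odd_data (by norm_num) hR
  have he : e = 1 ∨ e = 3 := by
    have h2 : e ≤ 6 := Nat.le_of_dvd (by norm_num) hdvd
    obtain ⟨k, hk⟩ := hoe
    have h5 : e ≠ 5 := by
      intro h
      rw [h] at hdvd
      norm_num at hdvd
    omega
  refine ⟨p, hp, hchar, ?_⟩
  rcases he with he | he
  · subst he
    rw [pow_one] at hcard hdiv
    exact Or.inl ⟨hcard, mod_eq_one_of_dvd_sub_one (by norm_num) hp.one_le hdiv⟩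
  · subst he
    refine Or.inr ⟨hcard, ?_⟩
    have h1 := pow_mod_of_dvd (by norm_num) hp.one_le hdiv
    have h2 : p % 7 ≠ 1 := by
      intro h
      apply hmin 1 (by norm_num) (by norm_num)
      rw [pow_one]
      exact (Nat.modEq_iff_dvd' hp.one_le).mp (by rw [Nat.ModEq, h])
    have h3 : p % 7 < 7 := Nat.mod_lt _ (by norm_num)
    generalize p % 7 = a at h1 h2 h3
    interval_cases a <;> simp_all

/-- N4a, `r = 11`. -/
theorem c6_eleven {R : Subgroup (GL (Fin n) F)} (hn : 3 ≤ n) (hR : IsLinearSymplecticTypeData 11 R) :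
    ∃ p : ℕ, p.Prime ∧ CharP F p ∧ ((Fintype.card F = p ∧ p % 11 = 1) ∨
      (Fintype.card F = p ^ 5 ∧ (p % 11 = 3 ∨ p % 11 = 4 ∨ p % 11 = 5 ∨ p % 11 = 9))) := by
  obtain ⟨p, e, hp, hchar, hcard, hdiv, hmin, hoe, hdvd⟩ := c6_odd_data (by norm_num) hR
  have he : e = 1 ∨ e = 5 := by
    have h2 : e ≤ 10 := Nat.le_of_dvd (by norm_num) hdvd
    obtain ⟨k, hk⟩ := hoe
    have h3 : e ≠ 3 := by
      intro h
      rw [h] at hdvd
      norm_num at hdvd
    have h7 : e ≠ 7 := by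
      intro h
      rw [h] at hdvd
      norm_num at hdvd
    have h9 : e ≠ 9 := by
      intro h
      rw [h] at hdvd
      norm_num at hdvd
    omega
  refine ⟨p, hp, hchar, ?_⟩
  rcases he with he | he
  · subst he
    rw [pow_one] at hcard hdiv
    exact Or.inl ⟨hcard, mod_eq_one_of_dvd_sub_one (by norm_num) hp.one_le hdiv⟩
  · subst he
    refine Or.inr ⟨hcard, ?_⟩
    have h1 := pow_mod_of_dvd (by norm_num) hp.one_le hdiv
    have h2 : p % 11 ≠ 1 := by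
      intro h
      apply hmin 1 (by norm_num) (by norm_num)
      rw [pow_one]
      exact (Nat.modEq_iff_dvd' hp.one_le).mp (by rw [Nat.ModEq, h])
    have h3 : p % 11 < 11 := Nat.mod_lt _ (by norm_num)
    generalize p % 11 = a at h1 h2 h3
    interval_cases a <;> simp_all

/-- N4b.  `r = 2`, `n ≥ 3`: the second alternative: `e = 1`, `|Z(R)| = 4 ∣ p - 1`. -/
theorem c6_two {R : Subgroup (GL (Fin n) F)} (hn : 3 ≤ n) (hR : IsLinearSymplecticTypeData 2 R) :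
    ∃ p : ℕ, p.Prime ∧ Fintype.card F = p ∧ p % 4 = 1 := by
  obtain ⟨p, e, hne, ⟨hp, hchar, hcard, hdiv, hmin⟩, hcases⟩ := hR.field
  rcases hcases with ⟨hodd, -⟩ | ⟨-, he, hz, -⟩ | ⟨-, -, hcardι, -⟩
  · exact absurd hodd (by decide)
  · subst he
    rw [hz] at hdiv
    rw [pow_one] at hcard hdiv
    exact ⟨p, hp, hcard, mod_eq_one_of_dvd_sub_one (by norm_num) hp.one_le hdiv⟩
  · rw [Fintype.card_fin] at hcardι
    omega

end Cfsg.Agent.Lib.Helper1.SLMLeaf
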