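import Cfsg.Agent.Lib.Helper17.SLMDefs
import Cfsg.Agent.Lib.Helper15.SLTrans

/-!
# SL_n maximal subgroups market (helper17), block T: T1 `exists_sl_map_vec`, T2 `exists_sl_map_pair`,
T3 `transvection_mem_sl`, T4 `scalar_of_commute_transvections` (helper1).
Exact signatures of `notes/SLnMax_leaves.lean`.  Uses helper15's `SLTrans` (transitivity of `Matrix.SpecialLinearGroup`).
-/

set_option autoImplicit false
set_option linter.unusedSectionVars false
set_option linter.unusedVariables false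

namespace Cfsg.Agent.Lib.Helper1.SLMLeaf

open Cfsg.Geo Matrix Module Cfsg.Agent.Lib.Helper17.SLM

variable {n : ℕ} {F : Type*} [Field F] [Fintype F]

/-! ### by-products (any field) -/

section anyfield
variable {n : ℕ} {K : Type*} [Field K]

/-- an element of Mathlib's `SL` as an element of the frozen `specialLinear` -/
theorem toGL_mem_specialLinear (x : Matrix.SpecialLinearGroup (Fin n) K) :
    (Matrix.SpecialLinearGroup.toGL x : GL (Fin n) K) ∈ specialLinear (Fin n) K := by
  unfold specialLinear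
  rw [MonoidHom.mem_ker]
  apply Units.ext
  rw [Matrix.GeneralLinearGroup.val_det_apply]
  show (x.1).det = 1
  exact x.2

theorem coe_toGL (x : Matrix.SpecialLinearGroup (Fin n) K) :
    ((Matrix.SpecialLinearGroup.toGL x : GL (Fin n) K) : Matrix (Fin n) (Fin n) K) = x.1 := rfl

theorem mem_specialLinear_iff (g : GL (Fin n) K) :
    g ∈ specialLinear (Fin n) K ↔ (g : Matrix (Fin n) (Fin n) K).det = 1 := by
  unfold specialLinear
  rw [MonoidHom.mem_ker]
  constructor
  · intro h
    have := congrArg Units.val h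
    rwa [Matrix.GeneralLinearGroup.val_det_apply] at this
  · intro h
    apply Units.ext
    rw [Matrix.GeneralLinearGroup.val_det_apply]
    exact h

/-- T1 over any field. -/
theorem exists_sl_map_vec' (hn : 2 ≤ n) {u v : Fin n → K} (hu : u ≠ 0) (hv : v ≠ 0) :
    ∃ g ∈ specialLinear (Fin n) K, (g : Matrix (Fin n) (Fin n) K) *ᵥ u = v := by
  obtain ⟨k, rfl⟩ : ∃ k, n = k + 2 := ⟨n - 2, by omega⟩
  obtain ⟨x, hx⟩ := Cfsg.Agent.Lib.Helper15.SLTrans.exists_mulVec_eq hu
  obtain ⟨y, hy⟩ := Cfsg.Agent.Lib.Helper15.SLTrans.exists_mulVec_eq hv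
  refine ⟨Matrix.SpecialLinearGroup.toGL (y * x⁻¹), toGL_mem_specialLinear _, ?_⟩
  rw [coe_toGL, Cfsg.Agent.Lib.Helper15.SLTrans.mulVec_mul, ← hx,
    Cfsg.Agent.Lib.Helper15.SLTrans.inv_mulVec, hy]

/-- a pair `(u, v)` of independent vectors is the image of `(e₀, e₁)` under an element of `SL_n`, `n ≥ 3` -/
theorem exists_sl_std_pair {k : ℕ} {u v : Fin (k + 3) → K} (h : LinearIndependent K ![u, v]) :
    ∃ x : Matrix.SpecialLinearGroup (Fin (k + 3)) K,
      x.1 *ᵥ (Pi.single 0 1) = u ∧ x.1 *ᵥ (Pi.single 1 1) = v := by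
  have hu : u ≠ 0 := by
    have := h.ne_zero 0
    simpa using this
  obtain ⟨x, hx⟩ := Cfsg.Agent.Lib.Helper15.SLTrans.exists_mulVec_eq (k := k + 1) hu
  set w : Fin (k + 3) → K := (x⁻¹).1 *ᵥ v with hw
  have hxw : x.1 *ᵥ w = v := by
    rw [hw, Cfsg.Agent.Lib.Helper15.SLTrans.mulVec_inv]
  have hw' : ∃ i, i ≠ 0 ∧ w i ≠ 0 := by
    by_contra hcon
    simp only [not_exists, not_and, not_not] at hcon
    have hw0 : w = w 0 • Pi.single 0 1 := by
      funext i
      by_cases hi : i = 0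
      · subst hi
        simp
      · rw [hcon i hi]
        simp [hi]
    have hv : v = w 0 • u := by
      rw [← hxw, hw0, Matrix.mulVec_smul, hx]
      simp
    have := LinearIndependent.pair_iff.mp h (w 0) (-1) (by rw [← hv]; simp)
    exact one_ne_zero (neg_eq_zero.mp this.2)
  obtain ⟨y, hy0, hy1⟩ := Cfsg.Agent.Lib.Helper15.SLTrans.exists_mulVec_eq_pair hw'
  refine ⟨x * y, ?_, ?_⟩
  · rw [Cfsg.Agent.Lib.Helper15.SLTrans.mulVec_mul, hy0, hx]
  · rw [Cfsg.Agent.Lib.Helper15.SLTrans.mulVec_mul, hy1, hxw]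

/-- T2 over any field. -/
theorem exists_sl_map_pair' (hn : 3 ≤ n) {u v u' v' : Fin n → K} (h : LinearIndependent K ![u, v])
    (h' : LinearIndependent K ![u', v']) :
    ∃ g ∈ specialLinear (Fin n) K, (g : Matrix (Fin n) (Fin n) K) *ᵥ u = u' ∧
      (g : Matrix (Fin n) (Fin n) K) *ᵥ v = v' := by
  obtain ⟨k, rfl⟩ : ∃ k, n = k + 3 := ⟨n - 3, by omega⟩
  obtain ⟨x, hx0, hx1⟩ := exists_sl_std_pair h
  obtain ⟨y, hy0, hy1⟩ := exists_sl_std_pair h'
  refine ⟨Matrix.SpecialLinearGroup.toGL (y * x⁻¹), toGL_mem_specialLinear _, ?_, ?_⟩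
  · rw [coe_toGL, Cfsg.Agent.Lib.Helper15.SLTrans.mulVec_mul, ← hx0,
      Cfsg.Agent.Lib.Helper15.SLTrans.inv_mulVec, hy0]
  · rw [coe_toGL, Cfsg.Agent.Lib.Helper15.SLTrans.mulVec_mul, ← hx1,
      Cfsg.Agent.Lib.Helper15.SLTrans.inv_mulVec, hy1]

/-- T3 over any field. -/
theorem transvection_mem_sl' {i j : Fin n} (hij : i ≠ j) (c : K) :
    ∃ g ∈ specialLinear (Fin n) K, (g : Matrix (Fin n) (Fin n) K) = Matrix.transvection i j c := by
  have hdet : (Matrix.transvection i j c).det = 1 := Matrix.det_transvection_of_ne i j hij c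
  refine ⟨Matrix.GeneralLinearGroup.mkOfDetNeZero (Matrix.transvection i j c) (by rw [hdet]; exact one_ne_zero),
    ?_, rfl⟩
  rw [mem_specialLinear_iff]
  exact hdet

/-- T4 over any field. -/
theorem scalar_of_commute_transvections' (X : Matrix (Fin n) (Fin n) K)
    (h : ∀ i j : Fin n, i ≠ j → X * Matrix.transvection i j (1 : K) = Matrix.transvection i j (1 : K) * X) :
    ∃ c : K, X = c • (1 : Matrix (Fin n) (Fin n) K) := by
  have hX : X ∈ Set.range (Matrix.scalar (Fin n)) := by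
    apply Matrix.mem_range_scalar_of_commute_single
    intro i j hij
    have := h i j hij
    unfold Matrix.transvection at this
    rw [mul_add, add_mul, mul_one, one_mul] at this
    exact (add_left_cancel this).symm
  obtain ⟨c, hc⟩ := hX
  refine ⟨c, ?_⟩
  rw [← hc, Matrix.smul_one_eq_diagonal]
  rfl

end anyfield

/-! ### the leaves, exact signatures -/

/-- T1.  `SL_n` is transitive on the non-zero vectors (`n ≥ 2`). -/
theorem exists_sl_map_vec (hn : 2 ≤ n) {u v : Fin n → F} (hu : u ≠ 0) (hv : v ≠ 0) :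
    ∃ g ∈ specialLinear (Fin n) F, (g : Matrix (Fin n) (Fin n) F) *ᵥ u = v :=
  exists_sl_map_vec' hn hu hv

/-- T2.  `SL_n` is transitive on the linearly independent pairs (`n ≥ 3`). -/
theorem exists_sl_map_pair (hn : 3 ≤ n) {u v u' v' : Fin n → F} (h : LinearIndependent F ![u, v])
    (h' : LinearIndependent F ![u', v']) :
    ∃ g ∈ specialLinear (Fin n) F, (g : Matrix (Fin n) (Fin n) F) *ᵥ u = u' ∧
      (g : Matrix (Fin n) (Fin n) F) *ᵥ v = v' :=
  exists_sl_map_pair' hn h h'

/-- T3.  The transvections `1 + c E_ij` (`i ≠ j`) lie in `SL_n`. -/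
theorem transvection_mem_sl {i j : Fin n} (hij : i ≠ j) (c : F) :
    ∃ g ∈ specialLinear (Fin n) F, (g : Matrix (Fin n) (Fin n) F) = Matrix.transvection i j c :=
  transvection_mem_sl' hij c

/-- T4.  A matrix commuting with all transvections `1 + E_ij` (`i ≠ j`) is scalar (`n` arbitrary). -/
theorem scalar_of_commute_transvections (X : Matrix (Fin n) (Fin n) F)
    (h : ∀ i j : Fin n, i ≠ j → X * Matrix.transvection i j (1 : F) = Matrix.transvection i j (1 : F) * X) :
    ∃ c : F, X = c • (1 : Matrix (Fin n) (Fin n) F) :=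
  scalar_of_commute_transvections' X h

end Cfsg.Agent.Lib.Helper1.SLMLeaf
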