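import Cfsg.Agent.Lib.Helper17.SLMDefs
import Cfsg.Agent.Lib.Helper1.SLMTools

/-!
# SL_n maximal subgroups market (helper17), block P: P1 `not_sl_le_subspace`, P2 `not_sl_le_dec` (helper1).
Exact signatures of `notes/SLnMax_leaves.lean`.
-/

set_option autoImplicit false
set_option linter.unusedSectionVars false
set_option linter.unusedVariables false

namespace Cfsg.Agent.Lib.Helper1.SLMLeaf

open Cfsg.Geo Matrix Module Cfsg.Agent.Lib.Helper17.SLM

variable {n : ℕ} {F : Type*} [Field F] [Fintype F]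

section anyfield
variable {n : ℕ} {K : Type*} [Field K]

theorem mem_subspaceStabilizer_iff (W : Submodule K (Fin n → K)) (g : GL (Fin n) K) :
    g ∈ subspaceStabilizer W ↔ ∀ v, v ∈ W ↔ (g : Matrix (Fin n) (Fin n) K) *ᵥ v ∈ W := Iff.rfl

/-- P1 over any field. -/
theorem not_sl_le_subspace' {W : Submodule K (Fin n → K)} (h0 : W ≠ ⊥) (h1 : W ≠ ⊤) :
    ¬ specialLinear (Fin n) K ≤ subspaceStabilizer W := by
  intro hle
  obtain ⟨u, huW, hu⟩ := (Submodule.ne_bot_iff W).mp h0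
  obtain ⟨v, hvW⟩ : ∃ v, v ∉ W := by
    by_contra hcon
    simp only [not_exists, not_not] at hcon
    exact h1 (eq_top_iff.mpr fun x _ => hcon x)
  have hv : v ≠ 0 := fun h => hvW (h ▸ W.zero_mem)
  have hn : 2 ≤ n := by
    have hlt : Module.finrank K W < Module.finrank K (Fin n → K) := Submodule.finrank_lt h1
    have hpos : 0 < Module.finrank K W := by
      rw [Module.finrank_pos_iff_exists_ne_zero]
      exact ⟨⟨u, huW⟩, fun h => hu (congrArg Subtype.val h)⟩
    rw [Module.finrank_fin_fun] at hlt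
    omega
  obtain ⟨g, hg, hguv⟩ := exists_sl_map_vec' hn hu hv
  have := (mem_subspaceStabilizer_iff W g).mp (hle hg) u
  rw [hguv] at this
  exact hvW (this.mp huW)

theorem exists_ne_zero_of_mdec {t m : ℕ} {D : Fin t → Submodule K (Fin n → K)} (hD : IsMDecomposition m D)
    (i : Fin t) : ∃ d ∈ D i, d ≠ 0 := by
  have hpos : 0 < Module.finrank K (D i) := by rw [hD.finrank_eq i]; exact hD.pos
  rw [Module.finrank_pos_iff_exists_ne_zero] at hpos
  obtain ⟨⟨d, hd⟩, hne⟩ := hpos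
  exact ⟨d, hd, fun h => hne (Subtype.ext h)⟩

/-- P2 over any field. -/
theorem not_sl_le_dec' {t m : ℕ} {D : Fin t → Submodule K (Fin n → K)} (hD : IsMDecomposition m D) :
    ¬ specialLinear (Fin n) K ≤ decompositionStabilizer D := by
  intro hle
  have ht := hD.two_le
  set i0 : Fin t := ⟨0, by omega⟩ with hi0
  set i1 : Fin t := ⟨1, by omega⟩ with hi1
  have h01 : i0 ≠ i1 := by
    intro h
    have := congrArg Fin.val h
    simp [hi0, hi1] at this
  obtain ⟨d₁, hd₁, hd₁0⟩ := exists_ne_zero_of_mdec hD i0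
  obtain ⟨d₂, hd₂, hd₂0⟩ := exists_ne_zero_of_mdec hD i1
  -- `d₁ + d₂` lies in no `D j`
  have hdisj : ∀ j : Fin t, ∀ x ∈ D j, ∀ k : Fin t, k ≠ j → x ∈ D k → x = 0 := by
    intro j x hxj k hkj hxk
    have := (hD.indep.pairwiseDisjoint hkj.symm)
    exact (Submodule.disjoint_def.mp this) x hxj hxk
  have hnot : ∀ j : Fin t, d₁ + d₂ ∉ D j := by
    intro j hj
    by_cases hj0 : j = i0
    · subst hj0
      have h2 : d₂ ∈ D i0 := by
        have := (D i0).sub_mem hj hd₁
        simpa using this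
      exact hd₂0 (hdisj i1 d₂ hd₂ i0 h01 h2)
    · -- `d₁ ∈ D i0 ⊓ ⨆ k ≠ i0, D k`
      have h1 : d₁ ∈ ⨆ k, ⨆ (_ : k ≠ i0), D k := by
        have e : d₁ = (d₁ + d₂) - d₂ := by simp
        rw [e]
        refine Submodule.sub_mem _ ?_ ?_
        · exact Submodule.mem_iSup_of_mem j (Submodule.mem_iSup_of_mem hj0 hj)
        · exact Submodule.mem_iSup_of_mem i1 (Submodule.mem_iSup_of_mem (Ne.symm h01) hd₂)
      have := Submodule.disjoint_def.mp (hD.indep i0) d₁ hd₁ h1
      exact hd₁0 this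
  have hn : 2 ≤ n := by
    have hinf : D i0 ⊓ D i1 = ⊥ := disjoint_iff.mp (hD.indep.pairwiseDisjoint h01)
    have h1 := Submodule.finrank_sup_add_finrank_inf_eq (D i0) (D i1)
    rw [hinf, finrank_bot, hD.finrank_eq, hD.finrank_eq] at h1
    have h2 : Module.finrank K ↥(D i0 ⊔ D i1) ≤ Module.finrank K (Fin n → K) := Submodule.finrank_le _
    rw [Module.finrank_fin_fun] at h2
    have := hD.pos
    omega
  have hsum : d₁ + d₂ ≠ 0 := by
    intro h
    exact hnot i0 (h ▸ (D i0).zero_mem)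
  obtain ⟨g, hg, hgd⟩ := exists_sl_map_vec' hn hd₁0 hsum
  obtain ⟨σ, hσ⟩ := hle hg
  have hmem : (g : Matrix (Fin n) (Fin n) K) *ᵥ d₁ ∈ D (σ i0) := by
    rw [← hσ i0]
    exact ⟨d₁, hd₁, by rw [Matrix.toLin'_apply]⟩
  rw [hgd] at hmem
  exact hnot _ hmem

end anyfield

/-- P1.  T1 with `u ∈ W`, `v ∉ W`. -/
theorem not_sl_le_subspace {W : Submodule F (Fin n → F)} (h0 : W ≠ ⊥) (h1 : W ≠ ⊤) :
    ¬ specialLinear (Fin n) F ≤ subspaceStabilizer W :=
  not_sl_le_subspace' h0 h1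

/-- P2. -/
theorem not_sl_le_dec {t m : ℕ} {D : Fin t → Submodule F (Fin n → F)} (hD : IsMDecomposition m D) :
    ¬ specialLinear (Fin n) F ≤ decompositionStabilizer D :=
  not_sl_le_dec' hD

end Cfsg.Agent.Lib.Helper1.SLMLeaf
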