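import Cfsg.Agent.Lib.Helper17.SLMDefs
import Cfsg.Agent.Lib.Helper1.SLMTools

/-!
# SL_n maximal subgroups market (helper17), block P: P5 `not_sl_le_subfield` (helper1).
Exact signature of `notes/SLnMax_leaves.lean`.
-/

set_option autoImplicit false
set_option linter.unusedSectionVars false
set_option linter.unusedVariables false

namespace Cfsg.Agent.Lib.Helper1.SLMLeaf

open Cfsg.Geo Matrix Module Cfsg.Agent.Lib.Helper17.SLM

variable {n : ℕ} {F : Type*} [Field F] [Fintype F]

section anyfield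
variable {n : ℕ} {K : Type*} [Field K]

/-- the `K`-multiples of the vectors with entries in `K₀` -/
def ratSet (n : ℕ) (K₀ : Subfield K) : Set (Fin n → K) :=
  {v | ∃ (c : K) (w : Fin n → K₀), v = c • (fun i => (w i : K))}

theorem map_mulVec_mem_ratSet (K₀ : Subfield K) (a : GL (Fin n) K₀) {v : Fin n → K} (hv : v ∈ ratSet n K₀) :
    ((Matrix.GeneralLinearGroup.map (K₀.subtype : K₀ →+* K) a : GL (Fin n) K) : Matrix (Fin n) (Fin n) K) *ᵥ v
      ∈ ratSet n K₀ := by
  obtain ⟨c, w, rfl⟩ := hv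
  refine ⟨c, (a : Matrix (Fin n) (Fin n) K₀) *ᵥ w, ?_⟩
  rw [Matrix.mulVec_smul]
  congr 1
  funext i
  have := RingHom.map_mulVec (K₀.subtype : K₀ →+* K) (a : Matrix (Fin n) (Fin n) K₀) w i
  exact this.symm

theorem range_map_le_stabilizing (K₀ : Subfield K) :
    (Matrix.GeneralLinearGroup.map (K₀.subtype : K₀ →+* K) : GL (Fin n) K₀ →* GL (Fin n) K).range
      ≤ Cfsg.stabilizing (Cfsg.glToMat (Fin n) K) (ratSet n K₀) := by
  rintro _ ⟨a, rfl⟩ v
  constructor
  · intro hv
    exact map_mulVec_mem_ratSet K₀ a hv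
  · intro hv
    have h := map_mulVec_mem_ratSet K₀ a⁻¹ hv
    have e : ((Matrix.GeneralLinearGroup.map (K₀.subtype : K₀ →+* K) a⁻¹ : GL (Fin n) K) :
        Matrix (Fin n) (Fin n) K) *ᵥ
        ((Cfsg.glToMat (Fin n) K) (Matrix.GeneralLinearGroup.map (K₀.subtype : K₀ →+* K) a) *ᵥ v) = v := by
      show ((Matrix.GeneralLinearGroup.map (K₀.subtype : K₀ →+* K) a⁻¹ : GL (Fin n) K) :
        Matrix (Fin n) (Fin n) K) *ᵥ
        (((Matrix.GeneralLinearGroup.map (K₀.subtype : K₀ →+* K) a : GL (Fin n) K) :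
          Matrix (Fin n) (Fin n) K) *ᵥ v) = v
      rw [Matrix.mulVec_mulVec, ← Units.val_mul, ← map_mul, inv_mul_cancel, map_one, Units.val_one,
        Matrix.one_mulVec]
    rw [e] at h
    exact h

theorem scalars_le_stabilizing (K₀ : Subfield K) :
    scalars (Fin n) K ≤ Cfsg.stabilizing (Cfsg.glToMat (Fin n) K) (ratSet n K₀) := by
  intro g hg v
  rw [mem_scalars_iff] at hg
  obtain ⟨c, hc⟩ := hg
  have hgv : (Cfsg.glToMat (Fin n) K) g *ᵥ v = (c : K) • v := by
    show (g : Matrix (Fin n) (Fin n) K) *ᵥ v = (c : K) • v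
    rw [hc, Matrix.smul_mulVec, Matrix.one_mulVec]
  rw [hgv]
  constructor
  · rintro ⟨d, w, rfl⟩
    exact ⟨(c : K) * d, w, by rw [smul_smul]⟩
  · rintro ⟨d, w, hw⟩
    refine ⟨(c : K)⁻¹ * d, w, ?_⟩
    rw [← smul_smul, ← hw, smul_smul, inv_mul_cancel₀ c.ne_zero, one_smul]

/-- P5 over any field: only `K₀ ≠ K` is needed. -/
theorem not_sl_le_subfield' (hn : 2 ≤ n) (K₀ : Subfield K) {α : K} (hα : α ∉ K₀) (P : GL (Fin n) K) :
    ¬ specialLinear (Fin n) K ≤ subfieldSubgroup K₀ P := by
  intro hle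
  -- `SL ≤ X := range ⊔ scalars`
  have hX : specialLinear (Fin n) K ≤
      (Matrix.GeneralLinearGroup.map (K₀.subtype : K₀ →+* K) : GL (Fin n) K₀ →* GL (Fin n) K).range
        ⊔ scalars (Fin n) K := by
    intro g hg
    have hg' : P * g * P⁻¹ ∈ specialLinear (Fin n) K := by
      rw [mem_specialLinear_iff] at hg ⊢
      rw [Units.val_mul, Units.val_mul, Matrix.det_mul, Matrix.det_mul, hg, mul_one, ← Matrix.det_mul,
        ← Units.val_mul, mul_inv_cancel, Units.val_one, Matrix.det_one]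
    obtain ⟨x, hx, hxg⟩ := hle hg'
    have : x = g := by
      have h1 : P * x * P⁻¹ = P * g * P⁻¹ := hxg
      have h2 := congrArg (fun y => P⁻¹ * y * P) h1
      simpa [mul_assoc] using h2
    rw [← this]
    exact hx
  have hstab : specialLinear (Fin n) K ≤ Cfsg.stabilizing (Cfsg.glToMat (Fin n) K) (ratSet n K₀) :=
    hX.trans (sup_le (range_map_le_stabilizing K₀) (scalars_le_stabilizing K₀))
  set i0 : Fin n := ⟨0, by omega⟩ with hi0
  set i1 : Fin n := ⟨1, by omega⟩ with hi1
  have h01 : i0 ≠ i1 := by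
    intro h
    have := congrArg Fin.val h
    simp [hi0, hi1] at this
  set u : Fin n → K := Pi.single i0 1 with hu
  set v : Fin n → K := Pi.single i0 1 + α • Pi.single i1 1 with hv
  have hu0 : u ≠ 0 := by
    intro h
    have := congrFun h i0
    simp [hu] at this
  have hv0i : v i0 = 1 := by simp [hv, h01]
  have hv1i : v i1 = α := by simp [hv, h01.symm]
  have hv0 : v ≠ 0 := by
    intro h
    have := congrFun h i0
    rw [hv0i] at this
    exact one_ne_zero this
  have huS : u ∈ ratSet n K₀ := by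
    refine ⟨1, Pi.single i0 1, ?_⟩
    rw [one_smul]
    funext i
    by_cases hi : i = i0
    · subst hi; simp [hu]
    · simp [hu, hi]
  have hvS : v ∉ ratSet n K₀ := by
    rintro ⟨c, w, hw⟩
    have e0 : c * (w i0 : K) = 1 := by
      have := congrFun hw i0
      rw [hv0i] at this
      simpa using this.symm
    have e1 : c * (w i1 : K) = α := by
      have := congrFun hw i1
      rw [hv1i] at this
      simpa using this.symm
    have hw0 : (w i0 : K) ≠ 0 := by
      intro h
      rw [h, mul_zero] at e0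
      exact zero_ne_one e0
    have hc : c = (w i0 : K)⁻¹ := eq_inv_of_mul_eq_one_left e0
    apply hα
    rw [← e1, hc]
    exact K₀.mul_mem (K₀.inv_mem (w i0).2) (w i1).2
  obtain ⟨g, hg, hguv⟩ := exists_sl_map_vec' hn hu0 hv0
  have := (hstab hg u).mp huS
  change (g : Matrix (Fin n) (Fin n) K) *ᵥ u ∈ ratSet n K₀ at this
  rw [hguv] at this
  exact hvS this

end anyfield

/-- P5.  The subfield group preserves the set `{c • P v₀ | v₀ with entries in F₀}`; for `n ≥ 2` and `F₀ ≠ F` it is not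
everything; T1. -/
theorem not_sl_le_subfield (hn : 2 ≤ n) (F₀ : Subfield F) {r : ℕ} (hr : r.Prime)
    (hcard : Fintype.card F = Nat.card F₀ ^ r) (P : GL (Fin n) F) :
    ¬ specialLinear (Fin n) F ≤ subfieldSubgroup F₀ P := by
  obtain ⟨α, hα⟩ : ∃ α : F, α ∉ F₀ := by
    by_contra hcon
    simp only [not_exists, not_not] at hcon
    have h1 : Nat.card F₀ = Fintype.card F := by
      rw [← Nat.card_eq_fintype_card]
      exact Nat.card_congr ⟨fun x => x.1, fun x => ⟨x, hcon x⟩, fun x => rfl, fun x => rfl⟩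
    rw [h1] at hcard
    have h2 : 1 < Fintype.card F := Fintype.one_lt_card
    have h3 : Fintype.card F ^ 1 < Fintype.card F ^ r := Nat.pow_lt_pow_right h2 hr.one_lt
    rw [pow_one] at h3
    omega
  exact not_sl_le_subfield' hn F₀ hα P

end Cfsg.Agent.Lib.Helper1.SLMLeaf
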