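import Mathlib
import Cfsg.Prelude.Def_ClassicalGeometry
import Cfsg.Prelude.Def_GeometricClasses
import Cfsg.Agent.Lib.Helper2.SOTDefs
import Cfsg.Agent.Lib.Helper2.SOTGDefs
import Cfsg.Agent.Lib.Helper25.SpTK

/-!
helper1, S5666 (GA): small toolkit for the leaves X2, A2, A3, A5 (fibres `Rs x`, images `gim`,
orthogonality for `fV G`, the nilpotents `NA x`).
-/

set_option autoImplicit false
set_option linter.unusedSectionVars false
set_option linter.unusedVariables false

namespace Cfsg.Agent.Lib.Helper1.SOTLeaf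
open Matrix Module
open Cfsg.Agent.Lib.Helper25.Tens Cfsg.Agent.Lib.Helper25.SpT Cfsg.Agent.Lib.Helper19.OSub
open Cfsg.Agent.Lib.Helper2.SOT
open scoped Kronecker

variable {F : Type*} [Field F] {a b : ℕ} {G : Matrix (Fin b) (Fin b) F}

/-! ### fibres and images -/

lemma pt_mem_Rs (x : Fin a → F) (y : Fin b → F) : pt x y ∈ Rs (b := b) x := mem_Rs.2 ⟨y, rfl⟩

lemma ptR_injective {x : Fin a → F} (hx : x ≠ 0) : Function.Injective (ptR (b := b) x) := by
  rw [← LinearMap.ker_eq_bot, LinearMap.ker_eq_bot']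
  intro y hy
  rcases (pt_eq_zero_iff x y).1 hy with h | h
  · exact absurd h hx
  · exact h

lemma finrank_Rs {x : Fin a → F} (hx : x ≠ 0) : finrank F (Rs (b := b) x) = b := by
  unfold Rs
  rw [LinearMap.finrank_range_of_inj (ptR_injective hx)]
  simp

lemma toLin'_gl_injective (g : GL (Idx a b) F) :
    Function.Injective (Matrix.toLin' (g : Matrix (Idx a b) (Idx a b) F)) := by
  intro v w hvw
  simp only [Matrix.toLin'_apply] at hvw
  exact mv_injective g hvw

lemma finrank_gim (g : GL (Idx a b) F) (W : Submodule F (Idx a b → F)) :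
    finrank F (gim g W) = finrank F W := by
  unfold gim
  have h1 : W.map (Matrix.toLin' (g : Matrix (Idx a b) (Idx a b) F)) =
      LinearMap.range ((Matrix.toLin' (g : Matrix (Idx a b) (Idx a b) F)).comp W.subtype) := by
    rw [LinearMap.range_comp, Submodule.range_subtype]
  rw [h1, LinearMap.finrank_range_of_inj]
  exact (toLin'_gl_injective g).comp (Submodule.injective_subtype W)

lemma mv_mem_gim {g : GL (Idx a b) F} {W : Submodule F (Idx a b → F)} {v : Idx a b → F}
    (hv : v ∈ W) : mv g v ∈ gim g W := mem_gim.2 ⟨v, hv, rfl⟩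

lemma mv_mem_gim_iff {g : GL (Idx a b) F} {W : Submodule F (Idx a b → F)} {v : Idx a b → F} :
    mv g v ∈ gim g W ↔ v ∈ W := by
  constructor
  · intro h
    obtain ⟨w, hw, e⟩ := mem_gim.1 h
    rwa [← mv_injective g e]
  · exact mv_mem_gim

lemma mv_inv_mem_of_mem_gim {g : GL (Idx a b) F} {W : Submodule F (Idx a b → F)} {v : Idx a b → F}
    (hv : v ∈ gim g W) : mv g⁻¹ v ∈ W := by
  obtain ⟨w, hw, rfl⟩ := mem_gim.1 hv
  rwa [mv_inv_mv]

lemma finrank_Rpp (g : GL (Idx a b) F) {x' : Fin a → F} (hx' : x' ≠ 0) :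
    finrank F (Rpp g x') = b := by
  unfold Rpp
  rw [finrank_gim, finrank_Rs hx']

/-! ### the form `fV G` -/

lemma fV_zero_left (G : Matrix (Fin b) (Fin b) F) (w : Idx a b → F) : fV G (0 : Idx a b → F) w = 0 := by
  simp [fV]

lemma fV_zero_right (G : Matrix (Fin b) (Fin b) F) (v : Idx a b → F) : fV G v (0 : Idx a b → F) = 0 := by
  simp [fV]

lemma fV_skew (hG : Gᵀ = G) (v w : Idx a b → F) : fV G v w = - fV G w v := by
  revert v
  apply pt_induction
  · rw [fV_zero_left, fV_zero_right, neg_zero]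
  · intro v v' hv hv'
    rw [fV_add_left, fV_add_right, hv, hv']
    ring
  · intro x y
    revert w
    apply pt_induction
    · rw [fV_zero_left, fV_zero_right, neg_zero]
    · intro w w' hw hw'
      rw [fV_add_left, fV_add_right, hw, hw']
      ring
    · intro x' y'
      rw [fV_pt, fV_pt, sf_skew x x', fB_comm G hG y y']
      ring

lemma fV_mv {g : GL (Idx a b) F} (hg : g ∈ SpV G) (v w : Idx a b → F) :
    fV G (mv g v) (mv g w) = fV G v w := mem_SpV.1 hg v w

lemma fV_mv_inv_right {g : GL (Idx a b) F} (hg : g ∈ SpV G) (v w : Idx a b → F) :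
    fV G v (mv g⁻¹ w) = fV G (mv g v) w := by
  rw [← fV_mv hg v (mv g⁻¹ w), mv_mv_inv]

lemma fV_neg_left (G : Matrix (Fin b) (Fin b) F) (v w : Idx a b → F) :
    fV G (-v) w = - fV G v w := by
  have := fV_smul_left G (-1) v w
  simpa using this

lemma fV_sub_left (G : Matrix (Fin b) (Fin b) F) (v v' w : Idx a b → F) :
    fV G (v - v') w = fV G v w - fV G v' w := by
  rw [sub_eq_add_neg, fV_add_left, fV_neg_left, ← sub_eq_add_neg]

/-- `R_x` is totally isotropic -/
lemma Rs_le_perpV (G : Matrix (Fin b) (Fin b) F) (x : Fin a → F) :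
    Rs (b := b) x ≤ perpV G (Rs x) := by
  intro v hv
  obtain ⟨y, rfl⟩ := mem_Rs.1 hv
  rw [mem_perpV]
  intro w hw
  obtain ⟨y', rfl⟩ := mem_Rs.1 hw
  rw [fV_pt, sf_self, zero_mul]

/-- the image of a totally isotropic subspace under an isometry is totally isotropic -/
lemma gim_le_perpV {g : GL (Idx a b) F} (hg : g ∈ SpV G) {W : Submodule F (Idx a b → F)}
    (hW : W ≤ perpV G W) : gim g W ≤ perpV G (gim g W) := by
  intro v hv
  obtain ⟨v', hv', rfl⟩ := mem_gim.1 hv
  rw [mem_perpV]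
  intro w hw
  obtain ⟨w', hw', rfl⟩ := mem_gim.1 hw
  rw [fV_mv hg]
  exact hW hv' w' hw'

lemma Rpp_le_perpV {g : GL (Idx a b) F} (hg : g ∈ SpV G) (x' : Fin a → F) :
    Rpp g x' ≤ perpV G (Rpp g x') := gim_le_perpV hg (Rs_le_perpV G x')

lemma perpV_symm (hG : Gᵀ = G) {W W' : Submodule F (Idx a b → F)} (h : W ≤ perpV G W') :
    W' ≤ perpV G W := by
  intro v hv
  rw [mem_perpV]
  intro w hw
  rw [fV_skew hG, h hw v hv, neg_zero]

lemma perpV_anti {W W' : Submodule F (Idx a b → F)} (h : W ≤ W') : perpV G W' ≤ perpV G W := by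
  intro v hv w hw
  exact hv w (h hw)

/-- nondegeneracy of `fB G` -/
lemma eq_zero_of_fB (hnd : G.det ≠ 0) (y : Fin b → F) (h : ∀ y' : Fin b → F, fB G y' y = 0) :
    y = 0 := by
  have h1 : G *ᵥ y = 0 := by
    ext l
    have := h (Pi.single l 1)
    unfold fB at this
    rw [single_dotProduct, one_mul] at this
    exact this
  have hunit : IsUnit G := (Matrix.isUnit_iff_isUnit_det G).2 (isUnit_iff_ne_zero.2 hnd)
  exact Matrix.mulVec_injective_of_isUnit hunit (by rw [h1, Matrix.mulVec_zero])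

/-! ### the nilpotent `NA x` -/

/-- `NA x v = x ⊗ w` with `fV G v (x ⊗ y) = fB G w y` -/
lemma NA_repr (G : Matrix (Fin b) (Fin b) F) (x : Fin a → F) (v : Idx a b → F) :
    ∃ w : Fin b → F, (NA x : Matrix (Idx a b) (Idx a b) F) *ᵥ v = pt x w ∧
      ∀ y : Fin b → F, fV G v (pt x y) = fB G w y := by
  revert v
  apply pt_induction
  · refine ⟨0, by simp, fun y => ?_⟩
    rw [fV_zero_left]
    simp [fB]
  · rintro v v' ⟨w, hw1, hw2⟩ ⟨w', hw'1, hw'2⟩
    refine ⟨w + w', ?_, fun y => ?_⟩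
    · rw [Matrix.mulVec_add, hw1, hw'1, pt_add_right]
    · rw [fV_add_left, hw2, hw'2, fB_add_left]
  · intro x' y'
    refine ⟨sf x' x • y', ?_, fun y => ?_⟩
    · rw [NA_mulVec_pt, pt_smul_right]
    · rw [fV_pt, fB_smul_left]

lemma NA_mulVec_mem_Rs (x : Fin a → F) (v : Idx a b → F) :
    (NA x : Matrix (Idx a b) (Idx a b) F) *ᵥ v ∈ Rs (b := b) x := by
  obtain ⟨w, hw, -⟩ := NA_repr (1 : Matrix (Fin b) (Fin b) F) x v
  rw [hw]
  exact pt_mem_Rs x w

/-- `NA x` vanishes on `R_x^⊥` -/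
lemma NA_mulVec_eq_zero (hG : Gᵀ = G) (hnd : G.det ≠ 0) (x : Fin a → F) {v : Idx a b → F}
    (hv : v ∈ perpV G (Rs x)) : (NA x : Matrix (Idx a b) (Idx a b) F) *ᵥ v = 0 := by
  obtain ⟨w, hw1, hw2⟩ := NA_repr G x v
  have : w = 0 := by
    apply eq_zero_of_fB hnd
    intro y'
    rw [fB_comm G hG, ← hw2]
    exact hv _ (pt_mem_Rs x y')
  rw [hw1, this, pt_zero_right]

end Cfsg.Agent.Lib.Helper1.SOTLeaf
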