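import Mathlib
import Cfsg.Agent.Lib.Helper1.SOTTools
import Cfsg.Agent.Lib.Helper9.SOTA1
import Cfsg.Agent.Lib.Helper9.SOTA3abs

/-!
helper1, S5666 (GA) leaf A3 `exists_b0` (with the K-lemma).
-/

set_option autoImplicit false
set_option linter.unusedSectionVars false
set_option linter.unusedVariables false

namespace Cfsg.Agent.Lib.Helper1.SOTLeaf
open Matrix Module
open Cfsg.Agent.Lib.Helper25.Tens Cfsg.Agent.Lib.Helper25.SpT Cfsg.Agent.Lib.Helper19.OSub
open Cfsg.Agent.Lib.Helper2.SOT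
open Cfsg.Agent.Lib.Helper9.SOTLeaf (Lx_action exists_b0_abstract)
open scoped Kronecker

variable {F : Type*} [Field F] [Fintype F] {a b : ℕ} {G : Matrix (Fin b) (Fin b) F}
  {M : Subgroup (GL (Idx a b) F)}

/-- (A3) -/
theorem exists_b0 (h : MCtx a b G M) (x x' : Fin a → F) (hx : x ≠ 0) (hx' : x' ≠ 0)
    (g : GL (Idx a b) F) (hg : g ∈ M) (x₀ : GL (Idx a b) F) (hx₀ : x₀ ∈ Lx x g x')
    (hmap : ∀ y : Fin b → F, mv x₀ (pt x y) ∈ Rpp g x') :
    Rpp g x' ⊓ perpV G (Rs x) ≤ Rs x ∧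
    ∃ b₀ ∈ Lx x g x', (∀ v ∈ Yp G x g x', mv b₀ v = v) ∧
      ∀ y : Fin b → F, mv b₀ (pt x y) + pt x y ∈ Kp x g x' := by
  have hgS : g ∈ SpV G := h.le_sp hg
  have hRppt : Rpp g x' ≤ perpV G (Rpp g x') := Rpp_le_perpV hgS x'
  have hRst : Rs (b := b) x ≤ perpV G (Rs x) := Rs_le_perpV G x
  -- `x₀ R_x = R''`
  have himg : gim x₀ (Rs x) = Rpp g x' := by
    apply Submodule.eq_of_le_of_finrank_eq
    · intro v hv
      obtain ⟨w, hw, rfl⟩ := mem_gim.1 hv
      obtain ⟨y, rfl⟩ := mem_Rs.1 hw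
      exact hmap y
    · rw [finrank_gim, finrank_Rs hx, finrank_Rpp g hx']
  refine ⟨?_, ?_⟩
  · -- second half of the K-lemma
    intro v hv
    have hvY : v ∈ Yp G x g x' := ⟨hv.2, hRppt hv.1⟩
    have hfix := (Lx_action h x x' g hg x₀⁻¹ ((Lx x g x').inv_mem hx₀)).2 v hvY
    have hv' : v ∈ gim x₀ (Rs x) := by rw [himg]; exact hv.1
    have := mv_inv_mem_of_mem_gim hv'
    rwa [hfix] at this
  · -- the K-lemma
    have hRK : Rs x ⊓ (Rpp g x' ⊔ Yp G x g x') ≤ Kp x g x' := by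
      intro v hv
      obtain ⟨hv1, hv2⟩ := hv
      have hvp : v ∈ perpV G (Rpp g x') :=
        (sup_le hRppt (inf_le_right : Yp G x g x' ≤ perpV G (Rpp g x'))) hv2
      have hvY : v ∈ Yp G x g x' := ⟨hRst hv1, hvp⟩
      have hfix := (Lx_action h x x' g hg x₀ hx₀).2 v hvY
      obtain ⟨y, rfl⟩ := mem_Rs.1 hv1
      refine ⟨hv1, ?_⟩
      rw [← hfix]
      exact hmap y
    obtain ⟨N'', hN''⟩ : ∃ N'' : Matrix (Idx a b) (Idx a b) F,
        N'' = (g : Matrix (Idx a b) (Idx a b) F) * NA x' *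
          ((g⁻¹ : GL (Idx a b) F) : Matrix (Idx a b) (Idx a b) F) := ⟨_, rfl⟩
    have hN''v : ∀ v, N'' *ᵥ v = mv g ((NA x' : Matrix (Idx a b) (Idx a b) F) *ᵥ mv g⁻¹ v) := by
      intro v
      rw [hN'']
      unfold mv
      rw [Matrix.mulVec_mulVec, Matrix.mulVec_mulVec]
    have hclos : Lx x g x' = Subgroup.closure
        ({t | ∃ c, t = (fun c => (kA x c : GL (Idx a b) F)) c} ∪
          {t | ∃ c, t = (fun c => g * (kA x' c : GL (Idx a b) F) * g⁻¹) c}) := by
      rw [Subgroup.closure_union]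
      rfl
    obtain ⟨b₀, hb₀, hb1, hb2⟩ := exists_b0_abstract (NA x) N'' (Rs x) (Rpp g x') (Yp G x g x')
      (Kp x g x') (NA_mulVec_mem_Rs x)
      (by
        intro v
        rw [hN''v]
        exact mv_mem_gim (NA_mulVec_mem_Rs x' _))
      (by
        intro v hv
        apply NA_mulVec_eq_zero h.symm h.nd x
        exact (sup_le hRst (inf_le_left : Yp G x g x' ≤ perpV G (Rs x))) hv)
      (by
        intro v hv
        have hvp : v ∈ perpV G (Rpp g x') :=
          (sup_le hRppt (inf_le_right : Yp G x g x' ≤ perpV G (Rpp g x'))) hv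
        have : mv g⁻¹ v ∈ perpV G (Rs x') := by
          rw [mem_perpV]
          intro w hw
          rw [← fV_mv hgS, mv_mv_inv]
          exact hvp _ (mv_mem_gim hw)
        rw [hN''v, NA_mulVec_eq_zero h.symm h.nd x' this, mv_zero])
      inf_le_left inf_le_right
      (le_inf (inf_le_left.trans hRst) (inf_le_right.trans hRppt)) hRK
      (fun c => (kA x c : GL (Idx a b) F)) (fun c => g * (kA x' c : GL (Idx a b) F) * g⁻¹)
      (fun c => kA_val x c)
      (by
        intro c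
        rw [Units.val_mul, Units.val_mul, kA_val, hN'', Matrix.mul_add, Matrix.add_mul,
          Matrix.mul_one, ← Units.val_mul, mul_inv_cancel, Units.val_one, Matrix.mul_smul,
          Matrix.smul_mul])
      x₀ (by rw [← hclos]; exact hx₀)
      (by
        intro v hv
        obtain ⟨y, rfl⟩ := mem_Rs.1 hv
        exact hmap y)
    refine ⟨b₀, by rw [hclos]; exact hb₀, hb1, fun y => hb2 _ (pt_mem_Rs x y)⟩

end Cfsg.Agent.Lib.Helper1.SOTLeaf
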