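import Mathlib
import Cfsg.Agent.Lib.Helper1.SOTTools
import Cfsg.Agent.Lib.Helper1.SOTX2
import Cfsg.Agent.Lib.Helper1.SOTA3
import Cfsg.Agent.Lib.Helper1.SOTA2

/-!
helper1, S5666 (GA) leaf A5 `exists_opp`, as a CORE taking the statement of (A4) `kp_trivial` (helper2's own leaf)
as the hypothesis `hkp`: `exists_opp h h4 h1 h2 x' hx' g hg hgK = exists_opp_core h h4 h1 h2 x' hx' g hg hgK (kp_trivial h h4)`.
-/

set_option autoImplicit false
set_option linter.unusedSectionVars false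
set_option linter.unusedVariables false

namespace Cfsg.Agent.Lib.Helper1.SOTLeaf
open Matrix Module
open Cfsg.Agent.Lib.Helper25.Tens Cfsg.Agent.Lib.Helper25.SpT Cfsg.Agent.Lib.Helper19.OSub
open Cfsg.Agent.Lib.Helper2.SOT
open scoped Kronecker

variable {F : Type*} [Field F] [Fintype F] {a b : ℕ} {G : Matrix (Fin b) (Fin b) F}
  {M : Subgroup (GL (Idx a b) F)}

/-- (A5), core: `hkp` is the statement of (A4) `kp_trivial h h4`. -/
theorem exists_opp_core (h : MCtx a b G M) (h4 : 4 ≤ a) (h1 : L1 M) (h2 : L2 M) (x' : Fin a → F)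
    (hx' : x' ≠ 0) (g : GL (Idx a b) F) (hg : g ∈ M) (hgK : g ∉ KG a b F)
    (hkp : ∀ (x x' : Fin a → F), x ≠ 0 → x' ≠ 0 → ∀ (g : GL (Idx a b) F), g ∈ M →
      ∀ (b₀ : GL (Idx a b) F), b₀ ∈ Lx x g x' → b₀ ∈ KG a b F →
      Rpp g x' ⊓ perpV G (Rs x) ≤ Rs x → (∀ v ∈ Yp G x g x', mv b₀ v = v) →
      (∀ y : Fin b → F, mv b₀ (pt x y) + pt x y ∈ Kp x g x') →
      Kp x g x' = ⊥ ∨ Rs x ≤ Rpp g x') :
    ∃ x : Fin a → F, x ≠ 0 ∧ Kp x g x' = ⊥ ∧ ∃ b₀ ∈ M, (∀ v ∈ Yp G x g x', mv b₀ v = v) ∧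
      ∀ y : Fin b → F, mv b₀ (pt x y) = - pt x y := by
  obtain ⟨x₀, hx₀L, hx₀K, hmap⟩ := exists_x0_maps h h1 h2 x' x' hx' hx' g hg hgK
  obtain ⟨hKl, b₀, hb₀L, hfix, hneg⟩ := exists_b0 h x' x' hx' hx' g hg x₀ hx₀L hmap
  have hb₀M : b₀ ∈ M := Lx_le' h x' x' g hg hb₀L
  have hb₀K : b₀ ∈ KG a b F := by
    apply h1 x' hx' b₀ hb₀M
    intro y
    obtain ⟨y'', hy''⟩ := mem_Rs.1 (hneg y).1
    refine ⟨y'' - y, ?_⟩
    have e : mv b₀ (pt x' y) = pt x' y'' - pt x' y := by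
      rw [hy'']
      abel
    rw [e, sub_eq_add_neg y'' y, pt_add_right, ← neg_one_smul F y, pt_smul_right, neg_one_smul,
      ← sub_eq_add_neg]
  rcases hkp x' x' hx' hx' g hg b₀ hb₀L hb₀K hKl hfix hneg with hK | hR
  · refine ⟨x', hx', hK, b₀, hb₀M, hfix, fun y => ?_⟩
    have := hneg y
    rw [hK, Submodule.mem_bot] at this
    exact eq_neg_of_add_eq_zero_left this
  · exfalso
    apply hgK
    have heq : Rs (b := b) x' = Rpp g x' := by
      apply Submodule.eq_of_le_of_finrank_eq hR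
      rw [finrank_Rs hx', finrank_Rpp g hx']
    apply h1 x' hx' g hg
    intro y
    have : mv g (pt x' y) ∈ Rpp g x' := mv_mem_gim (pt_mem_Rs x' y)
    rw [← heq] at this
    obtain ⟨y', hy'⟩ := mem_Rs.1 this
    exact ⟨y', hy'.symm⟩

end Cfsg.Agent.Lib.Helper1.SOTLeaf
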