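import Mathlib
import Cfsg.Agent.Lib.Helper1.SOTA5
import Cfsg.Agent.Lib.Helper2.SOTA4

/-!
helper1, S5666 (GA) leaf A5 `exists_opp`, exact signature: `exists_opp_core` on helper2's (A4) `kp_trivial`.
-/

set_option autoImplicit false
set_option linter.unusedSectionVars false
set_option linter.unusedVariables false

namespace Cfsg.Agent.Lib.Helper1.SOTLeaf
open Matrix Module
open Cfsg.Agent.Lib.Helper25.Tens Cfsg.Agent.Lib.Helper25.SpT Cfsg.Agent.Lib.Helper19.OSub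
open Cfsg.Agent.Lib.Helper2.SOT
open scoped Kronecker

variable {F : Type*} [Field F] [Fintype F] {a b : ℕ} {G : Matrix (Fin b) (Fin b) F}
  {M : Subgroup (GL (Idx a b) F)}

/-- (A5) -/
theorem exists_opp (h : MCtx a b G M) (h4 : 4 ≤ a) (h1 : L1 M) (h2 : L2 M) (x' : Fin a → F)
    (hx' : x' ≠ 0) (g : GL (Idx a b) F) (hg : g ∈ M) (hgK : g ∉ KG a b F) :
    ∃ x : Fin a → F, x ≠ 0 ∧ Kp x g x' = ⊥ ∧ ∃ b₀ ∈ M, (∀ v ∈ Yp G x g x', mv b₀ v = v) ∧
      ∀ y : Fin b → F, mv b₀ (pt x y) = - pt x y :=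
  exists_opp_core h h4 h1 h2 x' hx' g hg hgK (Cfsg.Agent.Lib.Helper2.SOTLeaf.kp_trivial h h4)

end Cfsg.Agent.Lib.Helper1.SOTLeaf
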