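import Mathlib
import Cfsg.Agent.Lib.Helper12.NseA

/-!
# S3996 (owner helper22), leaf C2 `C2_ppart` (helper1, spare)

`N` odd, primes `p ≠ q` of `N` with the same count `v = s p = s q`: then `w := s (p q) ≡ 1 (mod p)` is the second value, `s (p²) = 0`
(Frobenius at `p²`), hence `s (p^i) = 0` for `i ≥ 2` (`closed`), and Frobenius at the full `p`-part `p^a` of `N` reads `p^a ∣ 1 + v`.
(The third prime `r` of the signature is not needed.)
-/

set_option autoImplicit false
set_option linter.unusedVariables false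

namespace Cfsg.Agent.Lib.Helper1.SOT
open Cfsg.Agent.Lib.Helper12.Nse

theorem sum_divisors_mul_coprime1 {a b : ℕ} (hab : a.Coprime b) (f : ℕ → ℕ) :
    ∑ d ∈ (a * b).divisors, f d = ∑ x ∈ a.divisors, ∑ y ∈ b.divisors, f (x * y) := by
  rw [hab.divisors_mul, Finset.sum_map]
  show ∑ x ∈ (a.divisors ×ˢ b.divisors).attach, f (x.1.1 * x.1.2) = _
  rw [Finset.sum_attach (a.divisors ×ˢ b.divisors) (fun p => f (p.1 * p.2)), Finset.sum_product]

/-- Frobenius at `p q` -/
theorem frob_pq1 {N : ℕ} {s : ℕ → ℕ} (h : NseSys N s) {p q : ℕ} (hp : p.Prime) (hq : q.Prime) (hpq : p ≠ q)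
    (hN : p * q ∣ N) : p * q ∣ s (p * q) + s p + (s q + 1) := by
  have := h.frob (p * q) hN
  rw [sum_divisors_mul_coprime1 ((Nat.coprime_primes hp hq).mpr hpq), Nat.Prime.sum_divisors hp] at this
  simp only [Nat.Prime.sum_divisors hq, one_mul, mul_one, h.m_one] at this
  exact this

/-- **C2**: `N` odd, three distinct primes with the same count `v`: the full `p`-part of `N` divides `1 + v` -/
theorem C2_ppart {N : ℕ} {s : ℕ → ℕ} (h : NseSys N s) (hodd : Odd N) (m n : ℕ)
    (hV : ∀ d, 3 ≤ d → s d = 0 ∨ s d = m ∨ s d = n)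
    (p q r : ℕ) (hp : p.Prime) (hq : q.Prime) (hr : r.Prime) (hpq : p ≠ q) (hpr : p ≠ r) (hqr : q ≠ r)
    (hpN : p ∣ N) (hqN : q ∣ N) (hrN : r ∣ N) (v : ℕ) (hvp : s p = v) (hvq : s q = v) (hvr : s r = v) :
    p ^ N.factorization p ∣ 1 + v := by
  have hN0 : N ≠ 0 := h.Npos.ne'
  have hp2 : p ≠ 2 := by
    rintro rfl
    exact (Nat.not_even_iff_odd.2 hodd) (even_iff_two_dvd.2 hpN)
  have hp3 : 3 ≤ p := by
    have := hp.two_le
    omega
  have hq2 : 2 ≤ q := hq.two_le
  have hpv : p ∣ v + 1 := by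
    have hf := h.frob p hpN
    rw [Nat.Prime.sum_divisors hp, h.m_one, hvp] at hf
    exact hf
  have hp1 : ¬ p ∣ 1 := fun hd => hp.one_lt.ne' (Nat.dvd_one.1 hd)
  have hv0 : v ≠ 0 := by
    rw [← hvp]
    exact h.cauchy p hp hpN
  -- the second value
  have hpqN : p * q ∣ N := Nat.Coprime.mul_dvd_of_dvd_of_dvd ((Nat.coprime_primes hp hq).2 hpq) hpN hqN
  have hF := frob_pq1 h hp hq hpq hpqN
  rw [hvp, hvq] at hF
  set w := s (p * q) with hw
  have hpw : p ∣ w + v := by
    have h1 : p ∣ w + v + (v + 1) := dvd_trans (dvd_mul_right p q) hF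
    exact (Nat.dvd_add_left hpv).1 h1
  have hw0 : w ≠ 0 := by
    intro h0
    rw [h0, zero_add] at hpw
    exact hp1 ((Nat.dvd_add_right hpw).1 hpv)
  have hwv : w ≠ v := by
    intro h0
    rw [h0] at hpw
    have h1 : p ∣ (v + 1) + (v + 1) := dvd_add hpv hpv
    have h2 : (v + 1) + (v + 1) = (v + v) + 2 := by ring
    rw [h2] at h1
    have h3 : p ∣ 2 := (Nat.dvd_add_right hpw).1 h1
    have h4 := (Nat.prime_dvd_prime_iff_eq hp Nat.prime_two).1 h3
    exact hp2 h4
  have hvmn : v = m ∨ v = n := by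
    rcases hV p hp3 with h0 | h0 | h0
    · exact absurd (hvp ▸ h0) hv0
    · exact Or.inl (hvp ▸ h0)
    · exact Or.inr (hvp ▸ h0)
  have hwmn : w = m ∨ w = n := by
    have h6 : 3 ≤ p * q := by nlinarith
    rcases hV (p * q) h6 with h0 | h0 | h0
    · exact absurd h0 hw0
    · exact Or.inl h0
    · exact Or.inr h0
  have hV' : ∀ d, 3 ≤ d → s d = 0 ∨ s d = v ∨ s d = w := by
    intro d hd
    rcases hV d hd with h0 | h0 | h0
    · exact Or.inl h0
    · rcases hvmn with h1 | h1
      · exact Or.inr (Or.inl (by rw [h0, h1]))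
      · rcases hwmn with h2 | h2
        · exact Or.inr (Or.inr (by rw [h0, h2]))
        · exact absurd (h2.trans h1.symm) hwv
    · rcases hvmn with h1 | h1
      · rcases hwmn with h2 | h2
        · exact absurd (h2.trans h1.symm) hwv
        · exact Or.inr (Or.inr (by rw [h0, h2]))
      · exact Or.inr (Or.inl (by rw [h0, h1]))
  -- no elements of order `p²`
  have hsq : s (p ^ 2) = 0 := by
    by_cases hd : p ^ 2 ∣ N
    · have hf := h.frob (p ^ 2) hd
      rw [Nat.sum_divisors_prime_pow hp] at hf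
      simp only [Finset.sum_range_succ, Finset.sum_range_zero, pow_zero, pow_one, zero_add, h.m_one, hvp] at hf
      have h1 : p ∣ 1 + v + s (p ^ 2) := dvd_trans (dvd_pow_self p (by norm_num)) hf
      have h2 : p ∣ s (p ^ 2) := by
        have e : 1 + v + s (p ^ 2) = s (p ^ 2) + (v + 1) := by ring
        rw [e] at h1
        exact (Nat.dvd_add_left hpv).1 h1
      have h9 : 3 ≤ p ^ 2 := by nlinarith
      rcases hV' (p ^ 2) h9 with h0 | h0 | h0
      · exact h0
      · rw [h0] at h2
        exact absurd ((Nat.dvd_add_right h2).1 hpv) hp1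
      · rw [h0] at h2
        have h3 : p ∣ v := (Nat.dvd_add_right h2).1 hpw
        exact absurd ((Nat.dvd_add_right h3).1 hpv) hp1
    · by_contra h0
      exact hd (h.dvd _ h0)
  have hpow : ∀ i, 2 ≤ i → s (p ^ i) = 0 := by
    intro i hi
    by_contra h0
    exact h.closed (p ^ i) (p ^ 2) h0 (pow_dvd_pow p hi) hsq
  -- Frobenius at the full `p`-part
  have ha : 0 < N.factorization p := hp.factorization_pos_of_dvd hN0 hpN
  have hf := h.frob (p ^ N.factorization p) (Nat.ordProj_dvd N p)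
  rw [Nat.sum_divisors_prime_pow hp] at hf
  have hsum : ∑ i ∈ Finset.range (N.factorization p + 1), s (p ^ i) = 1 + v := by
    have hsub : Finset.range 2 ⊆ Finset.range (N.factorization p + 1) :=
      Finset.range_subset_range.2 (by omega)
    rw [← Finset.sum_subset hsub]
    · rw [Finset.sum_range_succ, Finset.sum_range_one, pow_zero, pow_one, h.m_one, hvp]
    · intro i _ hi
      rw [Finset.mem_range, not_lt] at hi
      exact hpow i hi
  rw [hsum] at hf
  exact hf

end Cfsg.Agent.Lib.Helper1.SOT
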