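import Mathlib
import Cfsg.Agent.Lib.Helper1.SOTLATools

/-!
helper1, S5666 (LA) leaf A10 `exists_zv`.
-/

set_option autoImplicit false
set_option linter.unusedSectionVars false
set_option linter.unusedVariables false

namespace Cfsg.Agent.Lib.Helper1.SOTLALeaf
open Matrix
open Cfsg.Agent.Lib.Helper25.Tens Cfsg.Agent.Lib.Helper25.SpT Cfsg.Agent.Lib.Helper19.OSub
open Cfsg.Agent.Lib.Helper2.SOT Cfsg.Agent.Lib.Helper27.SOTLA
open scoped Kronecker

variable {F : Type*} [Field F] [Fintype F] {a b : ℕ} {G : Matrix (Fin b) (Fin b) F}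
  {M : Subgroup (GL (Idx a b) F)}

/-- (A10) -/
theorem exists_zv (hG : Gᵀ = G) (hnd : G.det ≠ 0) (h2 : (2 : F) ≠ 0)
    {ν : Matrix (Fin b) (Fin b) F} (hν : IsSkewAdj G ν) (hν2 : ν * ν = 0) (hν0 : ν ≠ 0)
    (hker : ∃ y : Fin b → F, ν *ᵥ y = 0 ∧ ∀ y' : Fin b → F, y ≠ ν *ᵥ y') :
    ∃ z v : Fin b → F, z ≠ 0 ∧ (∃ y₀ : Fin b → F, z = ν *ᵥ y₀) ∧ ν *ᵥ v = 0 ∧ fB G v v ≠ 0 := by
  have h1 : ∃ y₀ : Fin b → F, ν *ᵥ y₀ ≠ 0 := by
    by_contra hcon
    push Not at hcon
    apply hν0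
    apply mat_ext_mulVec
    intro y
    rw [hcon y, Matrix.zero_mulVec]
  obtain ⟨y₀, hy₀⟩ := h1
  by_contra hall
  have hsing : ∀ v : Fin b → F, ν *ᵥ v = 0 → fB G v v = 0 := by
    intro v hv
    by_contra hne
    exact hall ⟨ν *ᵥ y₀, v, hy₀, ⟨y₀, rfl⟩, hv, hne⟩
  have hpol : ∀ v w : Fin b → F, ν *ᵥ v = 0 → ν *ᵥ w = 0 → fB G v w = 0 := by
    intro v w hv hw
    have hvw : ν *ᵥ (v + w) = 0 := by rw [Matrix.mulVec_add, hv, hw, add_zero]
    have e := hsing (v + w) hvw
    rw [fB_add_left, fB_add_right, fB_add_right, hsing v hv, hsing w hw, fB_comm G hG w v] at e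
    have e2 : (2 : F) * fB G v w = 0 := by
      rw [two_mul]
      linear_combination e
    rcases mul_eq_zero.1 e2 with h | h
    · exact absurd h h2
    · exact h
  obtain ⟨y, hy, hyn⟩ := hker
  set B : LinearMap.BilinForm F (Fin b → F) := Matrix.toBilin' G with hB
  have hBa : ∀ v w, B v w = fB G v w := by
    intro v w
    rw [hB, Matrix.toBilin'_apply']
    rfl
  have hBnd : B.Nondegenerate := by
    rw [hB, Matrix.nondegenerate_toBilin'_iff]
    exact Matrix.nondegenerate_of_det_ne_zero hnd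
  set K : Submodule F (Fin b → F) := LinearMap.ker (Matrix.toLin' ν) with hK
  set I : Submodule F (Fin b → F) := LinearMap.range (Matrix.toLin' ν) with hI
  have hIK : I ≤ B.orthogonal K := by
    rintro u ⟨y', rfl⟩
    rw [LinearMap.BilinForm.mem_orthogonal_iff]
    intro w hw
    rw [hK, LinearMap.mem_ker, Matrix.toLin'_apply] at hw
    show B w (Matrix.toLin' ν y') = 0
    rw [hBa, Matrix.toLin'_apply, fB_comm G hG, skewAdj_fB hν, hw, fB_zero_right, neg_zero]
  have hKK : K ≤ B.orthogonal K := by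
    intro u hu
    rw [LinearMap.BilinForm.mem_orthogonal_iff]
    intro w hw
    rw [hK, LinearMap.mem_ker, Matrix.toLin'_apply] at hw hu
    show B w u = 0
    rw [hBa]
    exact hpol w u hw hu
  have hrn : Module.finrank F I + Module.finrank F K = Module.finrank F (Fin b → F) :=
    LinearMap.finrank_range_add_finrank_ker (Matrix.toLin' ν)
  have hfo := LinearMap.BilinForm.finrank_orthogonal hBnd K
  have heq : I = B.orthogonal K := by
    apply Submodule.eq_of_le_of_finrank_eq hIK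
    rw [hfo]
    omega
  have hyI : y ∈ I := by
    rw [heq]
    apply hKK
    rw [hK, LinearMap.mem_ker, Matrix.toLin'_apply]
    exact hy
  obtain ⟨y', hy'⟩ := hyI
  rw [Matrix.toLin'_apply] at hy'
  exact hyn y' hy'.symm

end Cfsg.Agent.Lib.Helper1.SOTLALeaf
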