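import Mathlib
import Cfsg.Agent.Lib.Helper1.SOTLATools
import Cfsg.Agent.Lib.Helper1.SOTLAA3
import Cfsg.Agent.Lib.Helper18.SOTLAA2
import Cfsg.Agent.Lib.Helper4.SOTLAA4

/-!
helper1, S5666 (LA) leaf A6 `lemmaSA` (core: the conclusion of (A5) `exists_noneigen` for `σ` as hypothesis `hA5`).
-/

set_option autoImplicit false
set_option linter.unusedSectionVars false
set_option linter.unusedVariables false

namespace Cfsg.Agent.Lib.Helper1.SOTLALeaf
open Matrix
open Cfsg.Agent.Lib.Helper25.Tens Cfsg.Agent.Lib.Helper25.SpT Cfsg.Agent.Lib.Helper19.OSub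
open Cfsg.Agent.Lib.Helper2.SOT Cfsg.Agent.Lib.Helper27.SOTLA
open Cfsg.Agent.Lib.Helper18.SOTLALeaf (refl_conj_rk1)
open Cfsg.Agent.Lib.Helper4.SOTLALeaf (refl_irred)
open scoped Kronecker

variable {F : Type*} [Field F] [Fintype F] {a b : ℕ} {G : Matrix (Fin b) (Fin b) F}
  {M : Subgroup (GL (Idx a b) F)}

/-- `q` odd, `q ≠ 3` ⟹ `q ≥ 5` -/
lemma five_le_card (h2 : (2 : F) ≠ 0) (h3 : Fintype.card F ≠ 3) : 5 ≤ Fintype.card F := by
  have hc : ((Fintype.card F : ℕ) : F) = 0 := Nat.cast_card_eq_zero F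
  have h1 : 1 < Fintype.card F := Fintype.one_lt_card
  have hn2 : Fintype.card F ≠ 2 := by
    intro h
    rw [h] at hc
    exact h2 (by exact_mod_cast hc)
  have hn4 : Fintype.card F ≠ 4 := by
    intro h
    rw [h] at hc
    have : (2 : F) * 2 = 0 := by
      have e : ((4 : ℕ) : F) = 2 * 2 := by norm_num
      rw [← e]
      exact hc
    rcases mul_eq_zero.1 this with h' | h' <;> exact h2 h'
  omega

/-- (A6), core: `hA5` is the conclusion of (A5) `exists_noneigen hG hnd h2 hb (hsa σ hσ) hns`. -/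
theorem lemmaSA_core (hG : Gᵀ = G) (hnd : G.det ≠ 0) (h2 : (2 : F) ≠ 0) (hb : 3 ≤ b)
    (hex : ¬ (Fintype.card F = 3 ∧ b = 3))
    (S : Submodule F (Matrix (Fin b) (Fin b) F)) (hsa : ∀ σ ∈ S, IsSelfAdj G σ)
    (hrefl : ∀ d : Fin b → F, fB G d d ≠ 0 → ∀ σ ∈ S, refl G d * σ * refl G d ∈ S)
    {σ : Matrix (Fin b) (Fin b) F} (hσ : σ ∈ S) (hns : ¬ IsScal σ)
    (hA5 : ∃ d : Fin b → F, fB G d d ≠ 0 ∧ (∀ c : F, σ *ᵥ d ≠ c • d) ∧
      ∃ z : Fin b → F, z ≠ 0 ∧ fB G z z = 0 ∧ fB G z d = 0) :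
    ∃ z : Fin b → F, z ≠ 0 ∧ fB G z z = 0 ∧ rk1 G z z ∈ S := by
  obtain ⟨d, hd, hne, z, hz0, hzz, hzd⟩ := hA5
  have hdz : fB G d z = 0 := by rw [fB_comm G hG]; exact hzd
  set e : Fin b → F := σ *ᵥ d - (fB G (σ *ᵥ d) d / fB G d d) • d with he
  have he0 : e ≠ 0 := by
    intro h
    exact hne (fB G (σ *ᵥ d) d / fB G d d) (sub_eq_zero.1 h)
  have hed : fB G e d = 0 := by
    rw [he, fB_sub_left, fB_smul_left]
    field_simp
    ring
  -- `δ(d,e) ∈ S`
  have hδe : rk1 G d e + rk1 G e d ∈ S := by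
    have h3 := refl_conj_selfadj hG hd (hsa σ hσ)
    have h4 : rk1 G d e + rk1 G e d = -(fB G d d / 2) • (refl G d * σ * refl G d - σ) := by
      rw [h3, smul_smul]
      have : -(fB G d d / 2) * -(2 / fB G d d) = 1 := by
        field_simp
      rw [this, one_smul]
    rw [h4]
    exact S.smul_mem _ (S.sub_mem (hrefl d hd σ hσ) hσ)
  -- the subspace `E`
  let E : Submodule F (Fin b → F) :=
    { carrier := {e' | fB G e' d = 0 ∧ rk1 G d e' + rk1 G e' d ∈ S}
      add_mem' := by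
        rintro u v ⟨hu1, hu2⟩ ⟨hv1, hv2⟩
        refine ⟨by rw [fB_add_left, hu1, hv1, add_zero], ?_⟩
        have : rk1 G d (u + v) + rk1 G (u + v) d =
            (rk1 G d u + rk1 G u d) + (rk1 G d v + rk1 G v d) := by
          rw [rk1_add_right, rk1_add_left]
          abel
        rw [this]
        exact S.add_mem hu2 hv2
      zero_mem' := by
        refine ⟨fB_zero_left G d, ?_⟩
        rw [rk1_zero_right, rk1_zero_left, add_zero]
        exact S.zero_mem
      smul_mem' := by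
        rintro c u ⟨hu1, hu2⟩
        refine ⟨by rw [fB_smul_left, hu1, mul_zero], ?_⟩
        have : rk1 G d (c • u) + rk1 G (c • u) d = c • (rk1 G d u + rk1 G u d) := by
          rw [rk1_smul_right, rk1_smul_left, smul_add]
        rw [this]
        exact S.smul_mem c hu2 }
  have hEmem : ∀ e', e' ∈ E ↔ (fB G e' d = 0 ∧ rk1 G d e' + rk1 G e' d ∈ S) := fun e' => Iff.rfl
  have hEd : ∀ e' ∈ E, fB G e' d = 0 := fun e' h => ((hEmem e').1 h).1
  have hE0 : E ≠ ⊥ := by
    intro h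
    have : e ∈ E := (hEmem e).2 ⟨hed, hδe⟩
    rw [h, Submodule.mem_bot] at this
    exact he0 this
  have hinv : ∀ d' : Fin b → F, fB G d' d = 0 → fB G d' d' ≠ 0 → ∀ e' ∈ E,
      refl G d' *ᵥ e' ∈ E := by
    intro d' hd'd hd' e' he'
    obtain ⟨he'd, he'S⟩ := (hEmem e').1 he'
    have hrd : refl G d' *ᵥ d = d := by
      rw [refl_mulVec', fB_comm G hG d d', hd'd, mul_zero, zero_div, zero_smul, sub_zero]
    rw [hEmem]
    constructor
    · rw [refl_mulVec', fB_sub_left, fB_smul_left, he'd, hd'd, mul_zero, sub_zero]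
    · have := hrefl d' hd' _ he'S
      rw [Matrix.mul_add, Matrix.add_mul, refl_conj_rk1 hG hd', refl_conj_rk1 hG hd', hrd] at this
      exact this
  have hq : 5 ≤ Fintype.card F ∨ 4 ≤ b := by
    by_cases h3 : Fintype.card F = 3
    · right
      have : b ≠ 3 := fun hb3 => hex ⟨h3, hb3⟩
      omega
    · left
      exact five_le_card h2 h3
  have hall := refl_irred hG hnd h2 hb hd hq E hEd hE0 hinv
  have hδz : rk1 G d z + rk1 G z d ∈ S := ((hEmem z).1 (hall z hzd)).2
  -- the reflection in `w = 2d + z`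
  set w : Fin b → F := d + (d + z) with hw
  have hdw : fB G d w = 2 * fB G d d := by
    rw [hw, fB_add_right, fB_add_right, hdz]
    ring
  have hzw : fB G z w = 0 := by
    rw [hw, fB_add_right, fB_add_right, hzd, hzz]
    ring
  have hQw : fB G w w = 4 * fB G d d := by
    have e1 : fB G w w = fB G d w + (fB G d w + fB G z w) := by
      nth_rewrite 1 [hw]
      rw [fB_add_left, fB_add_left]
    rw [e1, hdw, hzw]
    ring
  have h4 : (4 : F) ≠ 0 := by
    have : (4 : F) = 2 * 2 := by norm_num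
    rw [this]
    exact mul_ne_zero h2 h2
  have hw0 : fB G w w ≠ 0 := by
    rw [hQw]
    exact mul_ne_zero h4 hd
  have hrd : refl G w *ᵥ d = -(d + z) := by
    rw [refl_mulVec', hdw, hQw]
    have : 2 * (2 * fB G d d) / (4 * fB G d d) = 1 := by
      field_simp
      ring
    rw [this, one_smul, hw]
    abel
  have hrz : refl G w *ᵥ z = z := by
    rw [refl_mulVec', hzw, mul_zero, zero_div, zero_smul, sub_zero]
  have hmem := hrefl w hw0 _ hδz
  rw [Matrix.mul_add, Matrix.add_mul, refl_conj_rk1 hG hw0, refl_conj_rk1 hG hw0, hrd, hrz] at hmem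
  have h5 : rk1 G z z = (1 / 2 : F) •
      (-(rk1 G (-(d + z)) z + rk1 G z (-(d + z))) - (rk1 G d z + rk1 G z d)) := by
    rw [rk1_neg_left, rk1_neg_right, rk1_add_left, rk1_add_right]
    have : -(-(rk1 G d z + rk1 G z z) + -(rk1 G z d + rk1 G z z)) - (rk1 G d z + rk1 G z d) =
        (2 : F) • rk1 G z z := by
      rw [two_smul]
      abel
    rw [this, smul_smul]
    have : (1 / 2 : F) * 2 = 1 := by
      field_simp
    rw [this, one_smul]
  refine ⟨z, hz0, hzz, ?_⟩
  rw [h5]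
  exact S.smul_mem _ (S.sub_mem (S.neg_mem hmem) hδz)

end Cfsg.Agent.Lib.Helper1.SOTLALeaf
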