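import Mathlib
import Cfsg.Agent.Lib.Helper1.SOTLATools
import Cfsg.Agent.Lib.Helper1.SOTLAA3

/-!
helper1, S5666 (LA) leaf A7 `lemmaSK` (core: the statement of (A1c) `eq_add_nonsing` as hypothesis `hsum`).
-/

set_option autoImplicit false
set_option linter.unusedSectionVars false
set_option linter.unusedVariables false

namespace Cfsg.Agent.Lib.Helper1.SOTLALeaf
open Matrix
open Cfsg.Agent.Lib.Helper25.Tens Cfsg.Agent.Lib.Helper25.SpT Cfsg.Agent.Lib.Helper19.OSub
open Cfsg.Agent.Lib.Helper2.SOT Cfsg.Agent.Lib.Helper27.SOTLA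
open scoped Kronecker

section anyfield
variable {F : Type*} [Field F] {b : ℕ} {G : Matrix (Fin b) (Fin b) F}

/-- vector form of the adjoint -/
lemma adjB_fB (hG : Gᵀ = G) (hnd : G.det ≠ 0) (A : Matrix (Fin b) (Fin b) F) (y y' : Fin b → F) :
    fB G (adjB G A *ᵥ y) y' = fB G y (A *ᵥ y') := by
  have hu : IsUnit G.det := Ne.isUnit hnd
  unfold fB adjB
  rw [dotProduct_comm, Matrix.dotProduct_mulVec, ← Matrix.mulVec_transpose, Matrix.transpose_mul,
    Matrix.transpose_mul, Matrix.transpose_transpose, Matrix.transpose_nonsing_inv, hG,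
    Matrix.mulVec_mulVec, Matrix.mul_assoc, Matrix.mul_assoc, Matrix.nonsing_inv_mul _ hu,
    Matrix.mul_one, dotProduct_comm, ← Matrix.mulVec_mulVec]

lemma adjB_eq_of_fB (hG : Gᵀ = G) (hnd : G.det ≠ 0) {A A' : Matrix (Fin b) (Fin b) F}
    (h : ∀ y y', fB G (A' *ᵥ y) y' = fB G y (A *ᵥ y')) : adjB G A = A' := by
  apply mat_ext_mulVec
  intro y
  rw [← sub_eq_zero]
  apply eq_zero_of_fB_left hG hnd
  intro y'
  rw [fB_sub_left, adjB_fB hG hnd, h, sub_self]

lemma adjB_one (hnd : G.det ≠ 0) : adjB G (1 : Matrix (Fin b) (Fin b) F) = 1 := by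
  unfold adjB
  rw [Matrix.transpose_one, Matrix.mul_one, Matrix.nonsing_inv_mul _ (Ne.isUnit hnd)]

lemma adjB_sub (A B : Matrix (Fin b) (Fin b) F) : adjB G (A - B) = adjB G A - adjB G B := by
  unfold adjB
  rw [Matrix.transpose_sub, Matrix.mul_sub, Matrix.sub_mul]

lemma adjB_smul (c : F) (A : Matrix (Fin b) (Fin b) F) : adjB G (c • A) = c • adjB G A := by
  unfold adjB
  rw [Matrix.transpose_smul, Matrix.mul_smul, Matrix.smul_mul]

lemma adjB_rk1 (hG : Gᵀ = G) (hnd : G.det ≠ 0) (u v : Fin b → F) :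
    adjB G (rk1 G u v) = rk1 G v u := by
  apply adjB_eq_of_fB hG hnd
  intro y y'
  rw [rk1_mulVec, rk1_mulVec, fB_smul_left, fB_smul_right, fB_comm G hG v y', fB_comm G hG y u,
    mul_comm]

lemma isSkewAdj_of_adjB (hnd : G.det ≠ 0) {A : Matrix (Fin b) (Fin b) F} (h : adjB G A = -A) :
    IsSkewAdj G A := by
  unfold IsSkewAdj
  unfold adjB at h
  have h' : G * (G⁻¹ * Aᵀ * G) = G * -A := by rw [h]
  rw [← Matrix.mul_assoc, ← Matrix.mul_assoc, Matrix.mul_nonsing_inv _ (Ne.isUnit hnd),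
    Matrix.one_mul, Matrix.mul_neg] at h'
  rw [h', neg_neg]

/-- a non-zero vector orthogonal to two given vectors (`b ≥ 3`) -/
lemma exists_perp_two (G : Matrix (Fin b) (Fin b) F) (hb : 3 ≤ b) (z z' : Fin b → F) :
    ∃ v : Fin b → F, v ≠ 0 ∧ fB G v z = 0 ∧ fB G v z' = 0 := by
  let φ : (Fin b → F) →ₗ[F] (Fin 2 → F) :=
    { toFun := fun v => ![fB G v z, fB G v z']
      map_add' := by
        intro v w
        ext i
        fin_cases i <;> simp [fB_add_left]
      map_smul' := by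
        intro c v
        ext i
        fin_cases i <;> simp [fB_smul_left] }
  have hlt : Module.finrank F (Fin 2 → F) < Module.finrank F (Fin b → F) := by
    rw [Module.finrank_fin_fun, Module.finrank_fin_fun]
    omega
  obtain ⟨v, hv, hv0⟩ := Submodule.exists_mem_ne_zero_of_ne_bot (φ.ker_ne_bot_of_finrank_lt hlt)
  rw [LinearMap.mem_ker] at hv
  refine ⟨v, hv0, ?_, ?_⟩
  · exact congrFun hv 0
  · exact congrFun hv 1

end anyfield

variable {F : Type*} [Field F] [Fintype F] {a b : ℕ} {G : Matrix (Fin b) (Fin b) F}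
  {M : Subgroup (GL (Idx a b) F)}

/-- (A7), core: `hsum` is the statement of (A1c) `eq_add_nonsing hG hnd h2 (by omega)`. -/
theorem lemmaSK_core (hG : Gᵀ = G) (hnd : G.det ≠ 0) (h2 : (2 : F) ≠ 0) (hb : 3 ≤ b)
    (hsum : ∀ y : Fin b → F, ∃ d d' : Fin b → F, fB G d d ≠ 0 ∧ fB G d' d' ≠ 0 ∧ y = d + d')
    (S : Submodule F (Matrix (Fin b) (Fin b) F)) (h1 : (1 : Matrix (Fin b) (Fin b) F) ∈ S)
    (hrefl : ∀ d : Fin b → F, fB G d d ≠ 0 → ∀ κ ∈ S, refl G d * κ * refl G d ∈ S)
    (hq : ∀ κ ∈ S, ∀ κ' ∈ S, IsScal (adjB G κ * κ' + adjB G κ' * κ)) :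
    ∀ κ ∈ S, IsScal κ := by
  intro κ hκ
  obtain ⟨c', hc'⟩ := hq κ hκ 1 h1
  rw [Matrix.mul_one, adjB_one hnd, Matrix.one_mul] at hc'
  set κ₀ : Matrix (Fin b) (Fin b) F := κ - (c' / 2) • 1 with hκ₀
  have hκ₀S : κ₀ ∈ S := S.sub_mem hκ (S.smul_mem _ h1)
  have hadj : adjB G κ₀ = -κ₀ := by
    have e : adjB G κ = c' • 1 - κ := eq_sub_of_add_eq hc'
    rw [hκ₀, adjB_sub, adjB_smul, adjB_one hnd, e]
    have e2 : c' • (1 : Matrix (Fin b) (Fin b) F) = (c' / 2) • 1 + (c' / 2) • 1 := by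
      rw [← add_smul]
      congr 1
      field_simp
      ring
    rw [e2]
    abel
  have hskew : IsSkewAdj G κ₀ := isSkewAdj_of_adjB hnd hadj
  have hkill : ∀ d : Fin b → F, fB G d d ≠ 0 → κ₀ *ᵥ d = 0 := by
    intro d hd
    set e : Fin b → F := κ₀ *ᵥ d with he
    have hde : fB G d e = 0 := by
      have e1 := skewAdj_fB hskew d d
      rw [fB_comm G hG (κ₀ *ᵥ d) d] at e1
      have e2 : (2 : F) * fB G d e = 0 := by
        rw [two_mul, he]
        nth_rewrite 1 [e1]
        ring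
      rcases mul_eq_zero.1 e2 with h | h
      · exact absurd h h2
      · exact h
    have hed : fB G e d = 0 := by rw [fB_comm G hG]; exact hde
    have hd0 : d ≠ 0 := by
      rintro rfl
      exact hd (fB_zero_left G 0)
    set κ'' : Matrix (Fin b) (Fin b) F := rk1 G d e - rk1 G e d with hκ''
    have hκ''S : κ'' ∈ S := by
      have h3 := refl_conj_skew hG h2 hd hskew
      have h4 : κ'' = (fB G d d / 2) • (refl G d * κ₀ * refl G d - κ₀) := by
        rw [h3, smul_smul]
        have : fB G d d / 2 * (2 / fB G d d) = 1 := by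
          field_simp
        rw [this, one_smul]
      rw [h4]
      exact S.smul_mem _ (S.sub_mem (hrefl d hd κ₀ hκ₀S) hκ₀S)
    have hadj'' : adjB G κ'' = -κ'' := by
      rw [hκ'', adjB_sub, adjB_rk1 hG hnd, adjB_rk1 hG hnd]
      abel
    -- the square of `κ''`
    have hsq : ∀ y : Fin b → F, (κ'' * κ'') *ᵥ y =
        -((fB G d d * fB G y e) • e) - (fB G e e * fB G y d) • d := by
      intro y
      have hk : ∀ y : Fin b → F, κ'' *ᵥ y = fB G y e • d - fB G y d • e := by
        intro y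
        rw [hκ'', Matrix.sub_mulVec, rk1_mulVec, rk1_mulVec]
      rw [← Matrix.mulVec_mulVec, hk y, hk, fB_sub_left, fB_sub_left, fB_smul_left, fB_smul_left,
        fB_smul_left, fB_smul_left, hde, hed, mul_zero, mul_zero, zero_sub, sub_zero, neg_smul]
      rw [mul_comm (fB G y e), mul_comm (fB G y d)]
      abel
    obtain ⟨s, hs⟩ := hq κ'' hκ''S κ'' hκ''S
    rw [hadj'', Matrix.neg_mul] at hs
    have hs0 : s = 0 := by
      obtain ⟨y₁, hy₁, hy₁e, hy₁d⟩ := exists_perp_two G hb e d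
      have e1 := congrArg (fun X => X *ᵥ y₁) hs
      simp only [Matrix.add_mulVec, Matrix.neg_mulVec, Matrix.smul_mulVec, Matrix.one_mulVec] at e1
      rw [hsq y₁, hy₁e, hy₁d, mul_zero, mul_zero, zero_smul, zero_smul, neg_zero, sub_zero, neg_zero,
        add_zero] at e1
      by_contra hne
      exact hy₁ ((smul_eq_zero.1 e1.symm).resolve_left hne)
    have hsq0 : ∀ y : Fin b → F, (κ'' * κ'') *ᵥ y = 0 := by
      intro y
      have e1 := congrArg (fun X => X *ᵥ y) hs
      simp only [Matrix.add_mulVec, Matrix.neg_mulVec, Matrix.smul_mulVec, Matrix.one_mulVec] at e1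
      rw [hs0, zero_smul, ← two_smul F, smul_eq_zero] at e1
      rcases e1 with h | h
      · exact absurd h h2
      · exact neg_eq_zero.1 h
    have hQe : fB G e e = 0 := by
      have e1 := hsq0 d
      rw [hsq d, hde, mul_zero, zero_smul, neg_zero, zero_sub, neg_eq_zero, smul_eq_zero] at e1
      rcases e1 with h | h
      · rcases mul_eq_zero.1 h with h' | h'
        · exact h'
        · exact absurd h' hd
      · exact absurd h hd0
    by_contra hne
    have hex : ∃ y : Fin b → F, fB G y e ≠ 0 := by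
      by_contra hcon
      push Not at hcon
      exact hne (eq_zero_of_fB_right hnd hcon)
    obtain ⟨y, hy⟩ := hex
    have e1 := hsq0 y
    rw [hsq y, hQe, zero_mul, zero_smul, sub_zero, neg_eq_zero, smul_eq_zero] at e1
    rcases e1 with h | h
    · exact (mul_ne_zero hd hy) h
    · exact hne h
  have hzero : κ₀ = 0 := by
    apply mat_ext_mulVec
    intro y
    obtain ⟨d, d', hd, hd', rfl⟩ := hsum y
    rw [Matrix.mulVec_add, hkill d hd, hkill d' hd', add_zero, Matrix.zero_mulVec]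
  exact ⟨c' / 2, sub_eq_zero.1 hzero⟩

end Cfsg.Agent.Lib.Helper1.SOTLALeaf
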