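import Mathlib
import Cfsg.Agent.Lib.Helper1.SOTLAA7core
import Cfsg.Agent.Lib.Helper18.SOTLAA1

/-!
helper1, S5666 (LA) leaf A7 `lemmaSK`, exact signature (`lemmaSK_core` on helper18's (A1c) `eq_add_nonsing`).
-/

set_option autoImplicit false
set_option linter.unusedSectionVars false
set_option linter.unusedVariables false

namespace Cfsg.Agent.Lib.Helper1.SOTLALeaf
open Matrix
open Cfsg.Agent.Lib.Helper25.Tens Cfsg.Agent.Lib.Helper25.SpT Cfsg.Agent.Lib.Helper19.OSub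
open Cfsg.Agent.Lib.Helper2.SOT Cfsg.Agent.Lib.Helper27.SOTLA
open scoped Kronecker

variable {F : Type*} [Field F] [Fintype F] {a b : ℕ} {G : Matrix (Fin b) (Fin b) F}
  {M : Subgroup (GL (Idx a b) F)}

/-- (A7) LEMMA SK -/
theorem lemmaSK (hG : Gᵀ = G) (hnd : G.det ≠ 0) (h2 : (2 : F) ≠ 0) (hb : 3 ≤ b)
    (S : Submodule F (Matrix (Fin b) (Fin b) F)) (h1 : (1 : Matrix (Fin b) (Fin b) F) ∈ S)
    (hrefl : ∀ d : Fin b → F, fB G d d ≠ 0 → ∀ κ ∈ S, refl G d * κ * refl G d ∈ S)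
    (hq : ∀ κ ∈ S, ∀ κ' ∈ S, IsScal (adjB G κ * κ' + adjB G κ' * κ)) :
    ∀ κ ∈ S, IsScal κ :=
  lemmaSK_core hG hnd h2 hb
    (fun y => Cfsg.Agent.Lib.Helper18.SOTLALeaf.eq_add_nonsing hG hnd h2 (by omega) y) S h1 hrefl hq

end Cfsg.Agent.Lib.Helper1.SOTLALeaf
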