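import Mathlib
import Cfsg.Agent.Lib.Helper1.SOTLATools
import Cfsg.Agent.Lib.Helper1.SOTLAR1
import Cfsg.Agent.Lib.Helper18.SOTLAA2
import Cfsg.Agent.Lib.Helper6.SOTLAU1
import Cfsg.Agent.Lib.Helper27.SOTLAU5
import Cfsg.Agent.Lib.Helper11.SOTLAU4

/-!
helper1, S5666 (LA) unit P3: `SX_submodule`.
-/

set_option autoImplicit false
set_option linter.unusedSectionVars false
set_option linter.unusedVariables false

namespace Cfsg.Agent.Lib.Helper1.SOTLALeaf
open Matrix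
open Cfsg.Agent.Lib.Helper25.Tens Cfsg.Agent.Lib.Helper25.SpT Cfsg.Agent.Lib.Helper19.OSub
open Cfsg.Agent.Lib.Helper2.SOT Cfsg.Agent.Lib.Helper27.SOTLA
open Cfsg.Agent.Lib.Helper18.SOTLALeaf (refl_orth refl_mul_self)
open Cfsg.Agent.Lib.Helper6.SOTLALeaf (uMat_zero inM_uMat_mul inM_uMat_inv)
open Cfsg.Agent.Lib.Helper27.SOTLALeaf (kel_mem_M exists_kel_one_orth uAel_eq uAel_mem_M)
open Cfsg.Agent.Lib.Helper11.SOTLALeaf (torA_conj_uMat exists_torA kel_conj_uMat)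
open scoped Kronecker

variable {F : Type*} [Field F] [Fintype F] {a b : ℕ} {G : Matrix (Fin b) (Fin b) F}
  {M : Subgroup (GL (Idx a b) F)}

lemma mid_smul_w {o o' : Fin a} (w : Fin a → F) (hw : w o = 0 ∧ w o' = 0)
    (κ : Matrix (Fin b) (Fin b) F) : Mid o o' (fun i => w i • κ) := by
  constructor
  · show w o • κ = 0
    rw [hw.1, zero_smul]
  · show w o' • κ = 0
    rw [hw.2, zero_smul]

lemma pr_o {o o' : Fin a} (ea : Even a) (ho : o.val = 0) (ho' : o'.val = 1) : pr ea o = o' := by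
  apply Fin.ext
  rw [pr_val_even ea o (by omega), ho, ho']

lemma pr_o' {o o' : Fin a} (ea : Even a) (ho : o.val = 0) (ho' : o'.val = 1) : pr ea o' = o := by
  apply Fin.ext
  rw [pr_val_odd ea o' (by omega), ho, ho']

/-- the unit `1 ⊗ r_d` in `M`, with its inverse -/
lemma exists_refl_unit (h : MCtx a b G M) {d : Fin b → F} (hd : fB G d d ≠ 0) :
    ∃ β' : GL (Fin b) F, (β' : Matrix (Fin b) (Fin b) F) = refl G d ∧
      ((β'⁻¹ : GL (Fin b) F) : Matrix (Fin b) (Fin b) F) = refl G d ∧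
      (kel (1 : GL (Fin a) F) β' : GL (Idx a b) F) ∈ M := by
  obtain ⟨β', hβ', hkM⟩ := exists_kel_one_orth h (refl_orth h.symm hd)
  refine ⟨β', hβ', ?_, hkM⟩
  have e1 : (β' : Matrix (Fin b) (Fin b) F) * ((β'⁻¹ : GL (Fin b) F) : Matrix (Fin b) (Fin b) F) = 1 := by
    rw [← Units.val_mul, mul_inv_cancel, Units.val_one]
  rw [hβ'] at e1
  calc ((β'⁻¹ : GL (Fin b) F) : Matrix (Fin b) (Fin b) F)
      = (refl G d * refl G d) * ((β'⁻¹ : GL (Fin b) F) : Matrix (Fin b) (Fin b) F) := by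
        rw [refl_mul_self h.symm hd, Matrix.one_mul]
    _ = refl G d * (refl G d * ((β'⁻¹ : GL (Fin b) F) : Matrix (Fin b) (Fin b) F)) := by
        rw [Matrix.mul_assoc]
    _ = refl G d := by rw [e1, Matrix.mul_one]

lemma blockDiag_one {o o' : Fin a} (hoo' : o ≠ o') :
    BlockDiag o o' ((1 : GL (Fin a) F) : Matrix (Fin a) (Fin a) F) := by
  unfold BlockDiag
  rw [Units.val_one]
  refine ⟨Matrix.one_apply_eq o, Matrix.one_apply_eq o', Matrix.one_apply_ne hoo',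
    Matrix.one_apply_ne (Ne.symm hoo'), fun i hi hi' => ?_⟩
  exact ⟨Matrix.one_apply_ne hi, Matrix.one_apply_ne hi', Matrix.one_apply_ne (Ne.symm hi),
    Matrix.one_apply_ne (Ne.symm hi')⟩

/-- (P3) -/
theorem SX_submodule (h : MCtx a b G M) {o o' : Fin a} (ho : o.val = 0) (ho' : o'.val = 1)
    (w : Fin a → F) (hw : w o = 0 ∧ w o' = 0) (hw0 : w ≠ 0) :
    ∃ S : Submodule F (Matrix (Fin b) (Fin b) F),
      (∀ κ : Matrix (Fin b) (Fin b) F, κ ∈ S ↔ κ ∈ SX o o' M w) ∧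
      (1 : Matrix (Fin b) (Fin b) F) ∈ S ∧
      ∀ d : Fin b → F, fB G d d ≠ 0 → ∀ κ ∈ S, refl G d * κ * refl G d ∈ S := by
  have hoo' : o ≠ o' := ne_of_val ho ho'
  have hmid0 := mid_zero (F := F) (b := b) o o'
  have hzero : (0 : Matrix (Fin b) (Fin b) F) ∈ SX o o' M w := by
    refine ⟨0, 0, hmid0, ?_⟩
    have e : (fun i => w i • (0 : Matrix (Fin b) (Fin b) F)) = 0 := by
      funext i
      rw [smul_zero]
      rfl
    rw [e, uMat_zero]
    exact ⟨1, M.one_mem, rfl⟩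
  have hadd : ∀ κ κ' : Matrix (Fin b) (Fin b) F, κ ∈ SX o o' M w → κ' ∈ SX o o' M w →
      κ + κ' ∈ SX o o' M w := by
    rintro κ κ' ⟨ρ, Ξ, hρ, h1⟩ ⟨ρ', Ξ', hρ', h2⟩
    have := inM_uMat_mul hoo' (mid_smul_w w hw κ) hρ (mid_smul_w w hw κ') hρ' h1 h2
    refine ⟨ρ + ρ', Ξ + Ξ' + ∑ j, ρ j * (w j • κ'), ?_, ?_⟩
    · exact ⟨by rw [Pi.add_apply, hρ.1, hρ'.1, add_zero], by rw [Pi.add_apply, hρ.2, hρ'.2, add_zero]⟩
    · have e : (fun i => w i • (κ + κ')) = (fun i => w i • κ) + (fun i => w i • κ') := by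
        funext i
        rw [Pi.add_apply, smul_add]
      rw [e]
      exact this
  have hsmul : ∀ (t : F) (κ : Matrix (Fin b) (Fin b) F), κ ∈ SX o o' M w → t • κ ∈ SX o o' M w := by
    intro t κ hκ
    by_cases ht : t = 0
    · rw [ht, zero_smul]
      exact hzero
    · obtain ⟨ρ, Ξ, hρ, g, hgM, hg⟩ := hκ
      obtain ⟨T, hT, hTsf⟩ := exists_torA h.ea ho ho' ht
      have hk : (kel T (1 : GL (Fin b) F) : GL (Idx a b) F) ∈ M := by
        apply kel_mem_M h T 1 1 1 (one_mul 1)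
        · intro x x'
          rw [hTsf, one_mul]
        · intro y y'
          rw [Units.val_one, Matrix.one_mulVec, Matrix.one_mulVec, one_mul]
      have hc := torA_conj_uMat hoo' ht T hT (mid_smul_w w hw κ) hρ (Ξ := Ξ)
      refine ⟨t • ρ, t ^ 2 • Ξ, ?_, kel T 1 * g * (kel T 1)⁻¹,
        M.mul_mem (M.mul_mem hk hgM) (M.inv_mem hk), ?_⟩
      · exact ⟨by rw [Pi.smul_apply, hρ.1, smul_zero], by rw [Pi.smul_apply, hρ.2, smul_zero]⟩
      · rw [Units.val_mul, Units.val_mul, hg, hc]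
        congr 1
        funext i
        rw [Pi.smul_apply, smul_comm]
  have hone : (1 : Matrix (Fin b) (Fin b) F) ∈ SX o o' M w := by
    have hu := uAel_eq (b := b) h.ea ho ho' (-w) (by rw [Pi.neg_apply, hw.1, neg_zero])
      (by rw [Pi.neg_apply, hw.2, neg_zero])
    refine ⟨fun j => ((Jm a j (pr h.ea j) : F) * (-w) (pr h.ea j)) • (1 : Matrix (Fin b) (Fin b) F), 0,
      ?_, uAel o (-w), uAel_mem_M h o (-w), ?_⟩
    · constructor
      · show ((Jm a o (pr h.ea o) : F) * (-w) (pr h.ea o)) • (1 : Matrix (Fin b) (Fin b) F) = 0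
        rw [pr_o h.ea ho ho', Pi.neg_apply, hw.2, neg_zero, mul_zero, zero_smul]
      · show ((Jm a o' (pr h.ea o') : F) * (-w) (pr h.ea o')) • (1 : Matrix (Fin b) (Fin b) F) = 0
        rw [pr_o' h.ea ho ho', Pi.neg_apply, hw.1, neg_zero, mul_zero, zero_smul]
    · rw [hu]
      congr 1
      funext i
      rw [Pi.neg_apply, neg_neg]
  have hrefl : ∀ d : Fin b → F, fB G d d ≠ 0 → ∀ κ ∈ SX o o' M w,
      refl G d * κ * refl G d ∈ SX o o' M w := by
    rintro d hd κ ⟨ρ, Ξ, hρ, g, hgM, hg⟩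
    obtain ⟨β', hβ', hinv, hkM⟩ := exists_refl_unit h hd
    obtain ⟨-, hρn, hc⟩ := kel_conj_uMat hoo' (1 : GL (Fin a) F) β' (blockDiag_one hoo')
      (mid_smul_w w hw κ) hρ (Ξ := Ξ)
    refine ⟨_, (β' : Matrix (Fin b) (Fin b) F) * Ξ * ((β'⁻¹ : GL (Fin b) F) : Matrix (Fin b) (Fin b) F),
      hρn, kel 1 β' * g * (kel 1 β')⁻¹, M.mul_mem (M.mul_mem hkM hgM) (M.inv_mem hkM), ?_⟩
    rw [Units.val_mul, Units.val_mul, hg, hc]
    congr 1
    funext k
    rw [Units.val_one, hβ', hinv]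
    rw [Finset.sum_eq_single k]
    · rw [Matrix.one_apply_eq, one_smul, Matrix.mul_smul, Matrix.smul_mul]
    · intro i _ hi
      rw [Matrix.one_apply_ne (Ne.symm hi), zero_smul]
    · intro hk
      exact absurd (Finset.mem_univ k) hk
  exact ⟨{ carrier := SX o o' M w
           add_mem' := fun h1 h2 => hadd _ _ h1 h2
           zero_mem' := hzero
           smul_mem' := fun t κ h1 => hsmul t κ h1 }, fun κ => Iff.rfl, hone, hrefl⟩

end Cfsg.Agent.Lib.Helper1.SOTLALeaf
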