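import Mathlib
import Cfsg.Agent.Lib.Helper1.SOTLATools
import Cfsg.Agent.Lib.Helper1.SOTLAA7core
import Cfsg.Agent.Lib.Helper1.SOTLAR1
import Cfsg.Agent.Lib.Helper1.SOTLAP3
import Cfsg.Agent.Lib.Helper6.SOTLAU1
import Cfsg.Agent.Lib.Helper11.SOTLAU3

/-!
helper1, S5666 (LA) unit P4: `SX_comm`.
-/

set_option autoImplicit false
set_option linter.unusedSectionVars false
set_option linter.unusedVariables false

namespace Cfsg.Agent.Lib.Helper1.SOTLALeaf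
open Matrix
open Cfsg.Agent.Lib.Helper25.Tens Cfsg.Agent.Lib.Helper25.SpT Cfsg.Agent.Lib.Helper19.OSub
open Cfsg.Agent.Lib.Helper2.SOT Cfsg.Agent.Lib.Helper27.SOTLA
open Cfsg.Agent.Lib.Helper6.SOTLALeaf (inM_uMat_comm)
open Cfsg.Agent.Lib.Helper11.SOTLALeaf (rho_of_symp)
open scoped Kronecker

variable {F : Type*} [Field F] [Fintype F] {a b : ℕ} {G : Matrix (Fin b) (Fin b) F}
  {M : Subgroup (GL (Idx a b) F)}

lemma sf_eq_sum_pr (ea : Even a) (w w' : Fin a → F) :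
    sf w w' = ∑ j, (Jm a j (pr ea j) : F) * w j * w' (pr ea j) := by
  rw [sf_eq_sum]
  apply Finset.sum_congr rfl
  intro i _
  rw [Finset.sum_eq_single (pr ea i)]
  · ring
  · intro j _ hj
    rw [Jm_eq_zero_of_ne ea i j hj]
    ring
  · intro hn
    exact absurd (Finset.mem_univ _) hn

lemma sf_eq_sum_pr' (ea : Even a) (w w' : Fin a → F) :
    sf w w' = ∑ j, -(Jm a j (pr ea j) : F) * w (pr ea j) * w' j := by
  rw [sf_eq_sum_pr ea, ← Equiv.sum_comp (Function.Involutive.toPerm (pr ea) (pr_pr ea))]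
  apply Finset.sum_congr rfl
  intro j _
  show (Jm a (pr ea j) (pr ea (pr ea j)) : F) * w (pr ea j) * w' (pr ea (pr ea j)) = _
  rw [pr_pr, Jm_swap a j (pr ea j)]

lemma isScal_of_smul {s : F} (hs : s ≠ 0) {X : Matrix (Fin b) (Fin b) F} (h : IsScal (s • X)) :
    IsScal X := by
  obtain ⟨c, hc⟩ := h
  refine ⟨s⁻¹ * c, ?_⟩
  rw [← smul_smul, ← hc, smul_smul, inv_mul_cancel₀ hs, one_smul]

/-- (P4) -/
theorem SX_comm (h : MCtx a b G M) (hno : ¬ HasTv G M) {o o' : Fin a} (ho : o.val = 0)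
    (ho' : o'.val = 1) (w w' : Fin a → F) (hw : w o = 0 ∧ w o' = 0) (hw' : w' o = 0 ∧ w' o' = 0)
    (hww' : sf w w' ≠ 0) {κ κ' : Matrix (Fin b) (Fin b) F} (hκ : κ ∈ SX o o' M w)
    (hκ' : κ' ∈ SX o o' M w') : IsScal (adjB G κ * κ' + adjB G κ' * κ) := by
  have hoo' : o ≠ o' := ne_of_val ho ho'
  obtain ⟨ρ, Ξ, hρ, hM1⟩ := hκ
  obtain ⟨ρ', Ξ', hρ', hM2⟩ := hκ'
  have hθ := mid_smul_w (o := o) (o' := o') w hw κ
  have hθ' := mid_smul_w (o := o) (o' := o') w' hw' κ'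
  have hcomm := inM_uMat_comm hoo' hθ hρ hθ' hρ' hM1 hM2
  have hS1 : ∀ v v' : Idx a b → F, fV G (uMat o o' (fun i => w i • κ) ρ Ξ *ᵥ v)
      (uMat o o' (fun i => w i • κ) ρ Ξ *ᵥ v') = fV G v v' := by
    obtain ⟨g, hgM, hg⟩ := hM1
    intro v v'
    rw [← hg]
    exact mem_SpV.1 (h.le_sp hgM) v v'
  have hS2 : ∀ v v' : Idx a b → F, fV G (uMat o o' (fun i => w' i • κ') ρ' Ξ' *ᵥ v)
      (uMat o o' (fun i => w' i • κ') ρ' Ξ' *ᵥ v') = fV G v v' := by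
    obtain ⟨g, hgM, hg⟩ := hM2
    intro v v'
    rw [← hg]
    exact mem_SpV.1 (h.le_sp hgM) v v'
  have hr1 := rho_of_symp h.ea h.symm h.nd ho ho' hθ hρ hS1
  have hr2 := rho_of_symp h.ea h.symm h.nd ho ho' hθ' hρ' hS2
  have hρall : ∀ j, ρ j = (-(Jm a j (pr h.ea j) : F) * w (pr h.ea j)) • adjB G κ := by
    intro j
    by_cases hjo : j = o
    · rw [hjo, hρ.1, pr_o h.ea ho ho', hw.2, mul_zero, zero_smul]
    · by_cases hjo' : j = o'
      · rw [hjo', hρ.2, pr_o' h.ea ho ho', hw.1, mul_zero, zero_smul]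
      · rw [hr1 j hjo hjo']
        show -(Jm a j (pr h.ea j) : F) • adjB G (w (pr h.ea j) • κ) = _
        rw [adjB_smul, smul_smul]
  have hρ'all : ∀ j, ρ' j = (-(Jm a j (pr h.ea j) : F) * w' (pr h.ea j)) • adjB G κ' := by
    intro j
    by_cases hjo : j = o
    · rw [hjo, hρ'.1, pr_o h.ea ho ho', hw'.2, mul_zero, zero_smul]
    · by_cases hjo' : j = o'
      · rw [hjo', hρ'.2, pr_o' h.ea ho ho', hw'.1, mul_zero, zero_smul]
      · rw [hr2 j hjo hjo']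
        show -(Jm a j (pr h.ea j) : F) • adjB G (w' (pr h.ea j) • κ') = _
        rw [adjB_smul, smul_smul]
  have hsum : ∑ j, (ρ j * (w' j • κ') - ρ' j * (w j • κ)) =
      sf w w' • (adjB G κ * κ' + adjB G κ' * κ) := by
    have e1 : ∀ j, ρ j * (w' j • κ') - ρ' j * (w j • κ) =
        (-(Jm a j (pr h.ea j) : F) * w (pr h.ea j) * w' j) • (adjB G κ * κ') +
          ((Jm a j (pr h.ea j) : F) * w j * w' (pr h.ea j)) • (adjB G κ' * κ) := by
      intro j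
      rw [hρall j, hρ'all j, Matrix.smul_mul, Matrix.mul_smul, Matrix.smul_mul, Matrix.mul_smul,
        smul_smul, smul_smul, sub_eq_add_neg, ← neg_smul]
      congr 2 <;> ring
    rw [Finset.sum_congr rfl (fun j _ => e1 j), Finset.sum_add_distrib, ← Finset.sum_smul,
      ← Finset.sum_smul, ← sf_eq_sum_pr' h.ea, ← sf_eq_sum_pr h.ea, smul_add]
  have hscal := R1 h hno ho ho' hcomm
  have e : (∑ j, (ρ j * (fun i => w' i • κ') j - ρ' j * (fun i => w i • κ) j)) =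
      sf w w' • (adjB G κ * κ' + adjB G κ' * κ) := hsum
  rw [e] at hscal
  exact isScal_of_smul hww' hscal

end Cfsg.Agent.Lib.Helper1.SOTLALeaf
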