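import Mathlib
import Cfsg.Agent.Lib.Helper1.SOTLATools
import Cfsg.Agent.Lib.Helper1.SOTLAA7
import Cfsg.Agent.Lib.Helper1.SOTLAR1
import Cfsg.Agent.Lib.Helper1.SOTLAP3
import Cfsg.Agent.Lib.Helper1.SOTLAP4
import Cfsg.Agent.Lib.Helper6.SOTLAU1
import Cfsg.Agent.Lib.Helper11.SOTLAU3
import Cfsg.Agent.Lib.Helper27.SOTLAU5
import Cfsg.Agent.Lib.Helper26.SOTLAP1
import Cfsg.Agent.Lib.Helper26.SOTLAP2

/-!
helper1, S5666 (LA) unit P5: `SX_scalar`, `R1plus`.
-/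

set_option autoImplicit false
set_option linter.unusedSectionVars false
set_option linter.unusedVariables false

namespace Cfsg.Agent.Lib.Helper1.SOTLALeaf
open Matrix
open Cfsg.Agent.Lib.Helper25.Tens Cfsg.Agent.Lib.Helper25.SpT Cfsg.Agent.Lib.Helper19.OSub
open Cfsg.Agent.Lib.Helper2.SOT Cfsg.Agent.Lib.Helper27.SOTLA
open Cfsg.Agent.Lib.Helper6.SOTLALeaf (inM_uMat_mul)
open Cfsg.Agent.Lib.Helper11.SOTLALeaf (rho_of_symp)
open Cfsg.Agent.Lib.Helper27.SOTLALeaf (uAel_eq uAel_mem_M)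
open Cfsg.Agent.Lib.Helper26.SOTLALeaf (isolate SX_mono)
open scoped Kronecker

variable {F : Type*} [Field F] [Fintype F] {a b : ℕ} {G : Matrix (Fin b) (Fin b) F}
  {M : Subgroup (GL (Idx a b) F)}

lemma isScal_add {X Y : Matrix (Fin b) (Fin b) F} (hX : IsScal X) (hY : IsScal Y) : IsScal (X + Y) := by
  obtain ⟨c, rfl⟩ := hX
  obtain ⟨c', rfl⟩ := hY
  exact ⟨c + c', by rw [add_smul]⟩

lemma isScal_sub {X Y : Matrix (Fin b) (Fin b) F} (hX : IsScal X) (hY : IsScal Y) : IsScal (X - Y) := by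
  obtain ⟨c, rfl⟩ := hX
  obtain ⟨c', rfl⟩ := hY
  exact ⟨c - c', by rw [sub_smul]⟩

lemma isScal_mul {X Y : Matrix (Fin b) (Fin b) F} (hX : IsScal X) (hY : IsScal Y) : IsScal (X * Y) := by
  obtain ⟨c, rfl⟩ := hX
  obtain ⟨c', rfl⟩ := hY
  exact ⟨c * c', by rw [Matrix.smul_mul, Matrix.mul_smul, Matrix.one_mul, smul_smul]⟩

lemma isScal_smul' (t : F) {X : Matrix (Fin b) (Fin b) F} (hX : IsScal X) : IsScal (t • X) := by
  obtain ⟨c, rfl⟩ := hX
  exact ⟨t * c, by rw [smul_smul]⟩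

lemma isScal_sum {ι : Type*} (s : Finset ι) (f : ι → Matrix (Fin b) (Fin b) F)
    (hf : ∀ i ∈ s, IsScal (f i)) : IsScal (∑ i ∈ s, f i) := by
  classical
  induction s using Finset.induction_on with
  | empty => rw [Finset.sum_empty]; exact isScal_zero
  | insert k s hk ih =>
    rw [Finset.sum_insert hk]
    exact isScal_add (hf k (Finset.mem_insert_self k s))
      (ih fun i hi => hf i (Finset.mem_insert_of_mem hi))

lemma isScal_adjB (hnd : G.det ≠ 0) {X : Matrix (Fin b) (Fin b) F} (hX : IsScal X) :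
    IsScal (adjB G X) := by
  obtain ⟨c, rfl⟩ := hX
  exact ⟨c, by rw [adjB_smul, adjB_one hnd]⟩

/-- partner of a middle index is a middle index -/
lemma pr_mid (ea : Even a) {o o' : Fin a} (ho : o.val = 0) (ho' : o'.val = 1) {k : Fin a}
    (hk : k ≠ o) (hk' : k ≠ o') : pr ea k ≠ o ∧ pr ea k ≠ o' := by
  constructor
  · intro e
    apply hk'
    rw [← pr_pr ea k, e, pr_o ea ho ho']
  · intro e
    apply hk
    rw [← pr_pr ea k, e, pr_o' ea ho ho']

/-- (P5a) -/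
theorem SX_scalar (h : MCtx a b G M) (h4 : 4 ≤ a) (hno : ¬ HasTv G M) {o o' : Fin a}
    (ho : o.val = 0) (ho' : o'.val = 1) (w : Fin a → F) (hw : w o = 0 ∧ w o' = 0) (hw0 : w ≠ 0)
    {κ : Matrix (Fin b) (Fin b) F} (hκ : κ ∈ SX o o' M w) : IsScal κ := by
  obtain ⟨S, hS, h1S, hrefl⟩ := SX_submodule h ho ho' w hw hw0
  -- a partner `w'`
  obtain ⟨i, hi⟩ := Function.ne_iff.mp hw0
  have hio : i ≠ o := fun e => hi (by rw [e]; exact hw.1)
  have hio' : i ≠ o' := fun e => hi (by rw [e]; exact hw.2)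
  obtain ⟨hpo, hpo'⟩ := pr_mid h.ea ho ho' hio hio'
  set w' : Fin a → F := Pi.single (pr h.ea i) 1 with hw'def
  have hw' : w' o = 0 ∧ w' o' = 0 :=
    ⟨by rw [hw'def, Pi.single_eq_of_ne (Ne.symm hpo)], by rw [hw'def, Pi.single_eq_of_ne (Ne.symm hpo')]⟩
  have hw'0 : w' ≠ 0 := by
    intro e
    have := congrFun e (pr h.ea i)
    rw [hw'def, Pi.single_eq_same] at this
    exact one_ne_zero this
  have hww' : sf w w' ≠ 0 := by
    rw [sf_skew, hw'def, sf_single_left' h.ea, pr_pr]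
    have hJ := Jm_pr_ne_zero (F := F) h.ea (pr h.ea i)
    rw [pr_pr] at hJ
    exact neg_ne_zero.2 (mul_ne_zero hJ hi)
  have hq : ∀ κ₁ ∈ S, ∀ κ₂ ∈ S, IsScal (adjB G κ₁ * κ₂ + adjB G κ₂ * κ₁) := by
    intro κ₁ hκ₁ κ₂ hκ₂
    have h2 : κ₂ ∈ SX o o' M w' := SX_mono h h4 ho ho' w w' hw hw' hw0 hw'0 ((hS κ₂).1 hκ₂)
    exact SX_comm h hno ho ho' w w' hw hw' hww' ((hS κ₁).1 hκ₁) h2
  exact lemmaSK h.symm h.nd h.two h.hb S h1S hrefl hq κ ((hS κ).2 hκ)

/-- (R1+) -/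
theorem R1plus (h : MCtx a b G M) (h4 : 4 ≤ a) (hno : ¬ HasTv G M) {o o' : Fin a} (ho : o.val = 0)
    (ho' : o'.val = 1) {θ ρ : Fin a → Matrix (Fin b) (Fin b) F} {Ξ : Matrix (Fin b) (Fin b) F}
    (hθ : Mid o o' θ) (hρ : Mid o o' ρ) (hM : InM M (uMat o o' θ ρ Ξ)) :
    (∀ i, IsScal (θ i)) ∧ (∀ j, IsScal (ρ j)) ∧ IsScal Ξ := by
  have hoo' : o ≠ o' := ne_of_val ho ho'
  have hθs : ∀ i, IsScal (θ i) := by
    intro i
    by_cases hio : i = o
    · rw [hio, hθ.1]; exact isScal_zero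
    · by_cases hio' : i = o'
      · rw [hio', hθ.2]; exact isScal_zero
      · obtain ⟨hpo, hpo'⟩ := pr_mid h.ea ho ho' hio hio'
        have h1 := isolate h ho ho' hθ hρ hM (pr h.ea i) hpo hpo'
        rw [pr_pr] at h1
        refine SX_scalar h h4 hno ho ho' (Pi.single (pr h.ea i) 1) ?_ ?_ h1
        · exact ⟨by rw [Pi.single_eq_of_ne (Ne.symm hpo)], by rw [Pi.single_eq_of_ne (Ne.symm hpo')]⟩
        · intro e
          have := congrFun e (pr h.ea i)
          rw [Pi.single_eq_same] at this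
          exact one_ne_zero this
  have hS1 : ∀ v v' : Idx a b → F, fV G (uMat o o' θ ρ Ξ *ᵥ v) (uMat o o' θ ρ Ξ *ᵥ v') = fV G v v' := by
    obtain ⟨g, hgM, hg⟩ := hM
    intro v v'
    rw [← hg]
    exact mem_SpV.1 (h.le_sp hgM) v v'
  have hr1 := rho_of_symp h.ea h.symm h.nd ho ho' hθ hρ hS1
  have hρs : ∀ j, IsScal (ρ j) := by
    intro j
    by_cases hjo : j = o
    · rw [hjo, hρ.1]; exact isScal_zero
    · by_cases hjo' : j = o'
      · rw [hjo', hρ.2]; exact isScal_zero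
      · rw [hr1 j hjo hjo']
        exact isScal_smul' _ (isScal_adjB h.nd (hθs _))
  refine ⟨hθs, hρs, ?_⟩
  -- the scalars of `θ`
  choose t ht using hθs
  set w : Fin a → F := fun i => if i = o ∨ i = o' then 0 else t i with hwdef
  have hwo : w o = 0 := by rw [hwdef]; simp
  have hwo' : w o' = 0 := by rw [hwdef]; simp
  have hu := uAel_eq (b := b) h.ea ho ho' w hwo hwo'
  have huM : InM M (uMat o o' (fun i => -(w i) • (1 : Matrix (Fin b) (Fin b) F))
      (fun j => ((Jm a j (pr h.ea j) : F) * w (pr h.ea j)) • (1 : Matrix (Fin b) (Fin b) F)) 0) :=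
    ⟨uAel o w, uAel_mem_M h o w, hu⟩
  have hθu : Mid o o' (fun i => -(w i) • (1 : Matrix (Fin b) (Fin b) F)) :=
    ⟨by show -(w o) • (1 : Matrix (Fin b) (Fin b) F) = 0; rw [hwo, neg_zero, zero_smul],
     by show -(w o') • (1 : Matrix (Fin b) (Fin b) F) = 0; rw [hwo', neg_zero, zero_smul]⟩
  have hρu : Mid o o' (fun j => ((Jm a j (pr h.ea j) : F) * w (pr h.ea j)) •
      (1 : Matrix (Fin b) (Fin b) F)) :=
    ⟨by show ((Jm a o (pr h.ea o) : F) * w (pr h.ea o)) • (1 : Matrix (Fin b) (Fin b) F) = 0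
        rw [pr_o h.ea ho ho', hwo', mul_zero, zero_smul],
     by show ((Jm a o' (pr h.ea o') : F) * w (pr h.ea o')) • (1 : Matrix (Fin b) (Fin b) F) = 0
        rw [pr_o' h.ea ho ho', hwo, mul_zero, zero_smul]⟩
  have hprod := inM_uMat_mul hoo' hθ hρ hθu hρu hM huM
  -- the new `θ` vanishes
  have e1 : θ + (fun i => -(w i) • (1 : Matrix (Fin b) (Fin b) F)) = 0 := by
    funext i
    rw [Pi.add_apply, Pi.zero_apply]
    by_cases hio : i = o
    · rw [hio, hθ.1, hwo, neg_zero, zero_smul, add_zero]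
    · by_cases hio' : i = o'
      · rw [hio', hθ.2, hwo', neg_zero, zero_smul, add_zero]
      · have : w i = t i := by rw [hwdef]; simp [hio, hio']
        rw [this, neg_smul, ← ht i, add_neg_cancel]
  rw [e1] at hprod
  -- the new `ρ` vanishes by symplecticity
  have hρ'' : Mid o o' (ρ + fun j => ((Jm a j (pr h.ea j) : F) * w (pr h.ea j)) •
      (1 : Matrix (Fin b) (Fin b) F)) :=
    ⟨by rw [Pi.add_apply, hρ.1, zero_add]; exact hρu.1,
     by rw [Pi.add_apply, hρ.2, zero_add]; exact hρu.2⟩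
  have hS2 : ∀ v v' : Idx a b → F, fV G (uMat o o' 0 (ρ + fun j => ((Jm a j (pr h.ea j) : F) *
      w (pr h.ea j)) • (1 : Matrix (Fin b) (Fin b) F)) (Ξ + 0 + ∑ j, ρ j * (fun i => -(w i) •
      (1 : Matrix (Fin b) (Fin b) F)) j) *ᵥ v) (uMat o o' 0 (ρ + fun j => ((Jm a j (pr h.ea j) : F) *
      w (pr h.ea j)) • (1 : Matrix (Fin b) (Fin b) F)) (Ξ + 0 + ∑ j, ρ j * (fun i => -(w i) •
      (1 : Matrix (Fin b) (Fin b) F)) j) *ᵥ v') = fV G v v' := by
    obtain ⟨g, hgM, hg⟩ := hprod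
    intro v v'
    rw [← hg]
    exact mem_SpV.1 (h.le_sp hgM) v v'
  have hr2 := rho_of_symp h.ea h.symm h.nd ho ho' (mid_zero o o') hρ'' hS2
  have e2 : (ρ + fun j => ((Jm a j (pr h.ea j) : F) * w (pr h.ea j)) •
      (1 : Matrix (Fin b) (Fin b) F)) = 0 := by
    funext j
    by_cases hjo : j = o
    · rw [hjo, hρ''.1]; rfl
    · by_cases hjo' : j = o'
      · rw [hjo', hρ''.2]; rfl
      · rw [hr2 j hjo hjo']
        show -(Jm a j (pr h.ea j) : F) • adjB G (0 : Matrix (Fin b) (Fin b) F) = 0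
        have : adjB G (0 : Matrix (Fin b) (Fin b) F) = 0 := by
          unfold adjB
          rw [Matrix.transpose_zero, Matrix.mul_zero, Matrix.zero_mul]
        rw [this, smul_zero]
  rw [e2] at hprod
  have hΞ'' := R1 h hno ho ho' hprod
  have hsum : IsScal (∑ j, ρ j * (fun i => -(w i) • (1 : Matrix (Fin b) (Fin b) F)) j) := by
    apply isScal_sum
    intro j _
    exact isScal_mul (hρs j) ⟨-(w j), rfl⟩
  have e3 : Ξ = (Ξ + 0 + ∑ j, ρ j * (fun i => -(w i) • (1 : Matrix (Fin b) (Fin b) F)) j) -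
      ∑ j, ρ j * (fun i => -(w i) • (1 : Matrix (Fin b) (Fin b) F)) j := by
    rw [add_zero, add_sub_cancel_right]
  rw [e3]
  exact isScal_sub hΞ'' hsum

end Cfsg.Agent.Lib.Helper1.SOTLALeaf
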