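import Mathlib

set_option autoImplicit false

/-!
# `3^{1+2} : Q_8 < 3.M_10 < SU_3(5)` (SUnMax stage 2, leaf E5), part A: the model of `GF(25)`

`K = 𝔽₅[ω]/(ω² + ω + 1)` as `QuadraticAlgebra (ZMod 5) 4 4`; the Heisenberg group `⟨X, Z⟩` of order 27,
generators `q0, q1, -J` of a complement `Q_8` in `N_{SU}(R₀)`, the extra involution `g` of `3.M_10`
and an element `h` of `SU_3(5)` outside `3.M_10`; all closed identities are checked by `decide`.
-/

namespace Cfsg.Agent.Lib.Helper1.SU3C6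

open Matrix

/-- the model of `GF(25)`: `ω² = 4 + 4 ω`, that is `ω² + ω + 1 = 0` -/
abbrev K : Type := QuadraticAlgebra (ZMod 5) 4 4

abbrev MK : Type := Matrix (Fin 3) (Fin 3) K

/-- `ω` -/
def wK : K := ⟨0, 1⟩

def XK : MK := !![0, 0, 1; 1, 0, 0; 0, 1, 0]
def ZK : MK := !![1, 0, 0; 0, ⟨0, 1⟩, 0; 0, 0, ⟨4, 4⟩]
/-- the 27 elements of the Heisenberg group -/
def HK (a i j : Fin 3) : MK := (wK ^ a.val) • (XK ^ i.val * ZK ^ j.val)

def q0K : MK := !![⟨2, 4⟩, ⟨2, 4⟩, ⟨2, 4⟩; ⟨2, 4⟩, ⟨2, 3⟩, ⟨1, 3⟩; ⟨2, 4⟩, ⟨1, 3⟩, ⟨2, 3⟩]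
def q1K : MK := !![⟨2, 3⟩, ⟨2, 4⟩, ⟨2, 4⟩; ⟨2, 3⟩, ⟨2, 3⟩, ⟨1, 3⟩; ⟨2, 4⟩, ⟨2, 3⟩, ⟨2, 4⟩]
/-- `-J` -/
def JK : MK := !![4, 0, 0; 0, 0, 4; 0, 4, 0]
/-- the involution with centre `(1, 1, -1)` -/
def gK : MK := !![3, 4, 1; 4, 3, 1; 1, 1, 3]
def hK : MK := !![4, 0, 0; 0, 4, 0; 0, 0, 1]

set_option maxRecDepth 100000

theorem det_XK : XK.det = 1 := by rw [Matrix.det_fin_three]; decide +kernel
theorem det_q0K : q0K.det = 1 := by rw [Matrix.det_fin_three]; decide +kernel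
theorem det_q1K : q1K.det = 1 := by rw [Matrix.det_fin_three]; decide +kernel
theorem det_JK : JK.det = 1 := by rw [Matrix.det_fin_three]; decide +kernel
theorem det_gK : gK.det = 1 := by rw [Matrix.det_fin_three]; decide +kernel
theorem det_hK : hK.det = 1 := by rw [Matrix.det_fin_three]; decide +kernel

theorem uni_XK : XK.transpose * XK.map (fun x => x ^ 5) = 1 := by decide +kernel
theorem uni_q0K : q0K.transpose * q0K.map (fun x => x ^ 5) = 1 := by decide +kernel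
theorem uni_q1K : q1K.transpose * q1K.map (fun x => x ^ 5) = 1 := by decide +kernel
theorem uni_JK : JK.transpose * JK.map (fun x => x ^ 5) = 1 := by decide +kernel
theorem uni_gK : gK.transpose * gK.map (fun x => x ^ 5) = 1 := by decide +kernel
theorem uni_hK : hK.transpose * hK.map (fun x => x ^ 5) = 1 := by decide +kernel

theorem HK_mul : ∀ a i j b k l : Fin 3, HK a i j * HK b k l = HK (a + b + j * k) (i + k) (j + l) := by
  decide +kernel

theorem HK_entry' : ∀ (a i j : Fin 3) (st : Fin 3 × Fin 3),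
    HK a i j st.1 st.2 = 0 ∨ (HK a i j st.1 st.2) ^ 3 = 1 := by
  decide +kernel

theorem HK_entry (a i j s t : Fin 3) : HK a i j s t = 0 ∨ (HK a i j s t) ^ 3 = 1 :=
  HK_entry' a i j (s, t)

theorem HK_cube : ∀ a i j : Fin 3, HK a i j * HK a i j * HK a i j = 1 := by decide +kernel

theorem HK_zero : ∀ a : Fin 3, HK a 0 0 * HK 0 0 0 = HK a 0 0 := by decide +kernel

theorem normR_XK : ∀ a i j : Fin 3, ∃ a' i' j' : Fin 3, HK a i j * XK = XK * HK a' i' j' := by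
  decide +kernel
theorem normR_JK : ∀ a i j : Fin 3, ∃ a' i' j' : Fin 3, HK a i j * JK = JK * HK a' i' j' := by
  decide +kernel
theorem normR_q0K : ∀ a i j : Fin 3, ∃ a' i' j' : Fin 3, HK a i j * q0K = q0K * HK a' i' j' := by
  decide +kernel
theorem normR_q1K : ∀ a i j : Fin 3, ∃ a' i' j' : Fin 3, HK a i j * q1K = q1K * HK a' i' j' := by
  decide +kernel

theorem word01 : XK ^ 0 * ZK ^ 1 * 1 = 1 * ZK := by decide +kernel
theorem word02 : XK ^ 0 * ZK ^ 2 * JK = JK * ZK := by decide +kernel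
theorem word10 : XK ^ 1 * ZK ^ 0 * q0K = q0K * ZK := by decide +kernel
theorem word11 : XK ^ 1 * ZK ^ 1 * q1K = q1K * ZK := by decide +kernel
theorem word12 : XK ^ 1 * ZK ^ 2 * (JK * q1K * q0K) = (JK * q1K * q0K) * ZK := by decide +kernel
theorem word20 : XK ^ 2 * ZK ^ 0 * (q0K * JK) = (q0K * JK) * ZK := by decide +kernel
theorem word21 : XK ^ 2 * ZK ^ 1 * (q1K * q0K) = (q1K * q0K) * ZK := by decide +kernel
theorem word22 : XK ^ 2 * ZK ^ 2 * (JK * q1K) = (JK * q1K) * ZK := by decide +kernel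

theorem scalK : ∀ a : Fin 3, ∃ t : Fin 3, (wK ^ a.val • ZK) * XK ^ t.val = XK ^ t.val * ZK := by
  decide +kernel

theorem g_not_normK : ∀ a i j : Fin 3, gK * ZK ≠ HK a i j * gK := by decide +kernel

theorem HK_scalar : ∀ a : Fin 3, HK a 0 0 = (wK ^ a.val) • (1 : MK) := by decide +kernel

theorem ZK_ne_scalar : ∀ a : Fin 3, ZK ≠ (wK ^ a.val) • (1 : MK) := by decide +kernel

end Cfsg.Agent.Lib.Helper1.SU3C6
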