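import Mathlib

set_option autoImplicit false
set_option linter.unusedSectionVars false
set_option linter.unusedVariables false

/-!
# `3^{1+2} : Q_8 < 3.M_10 < SU_3(5)` (leaf E5), part B: the invariant of degree 12 and its polynomial identities

`PhiP = φ₄(σ₁, σ₂) + 2 (x⁶ + y⁶ + z⁶) ψ₂(σ₁, σ₂)`, `σ₁ = x³ + y³ + z³`, `σ₂ = xyz`; certificates generated by
`scratch/su3/cert.py` (division by `ω² + ω + 1` and by `5`).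
-/

namespace Cfsg.Agent.Lib.Helper1.SU3C6

section

variable {F : Type*} [Field F]

def s1' (x y z : F) : F := x ^ 3 + y ^ 3 + z ^ 3
def s2' (x y z : F) : F := x * y * z
def b1' (x y z : F) : F := x ^ 6 + y ^ 6 + z ^ 6
def phi4 (s t : F) : F := s ^ 4 + s ^ 3 * t - s ^ 2 * t ^ 2 + 2 * s * t ^ 3 - t ^ 4
def psi2 (s t : F) : F := s ^ 2 - s * t + 2 * t ^ 2
def PhiP' (x y z : F) : F :=
  phi4 (s1' x y z) (s2' x y z) + 2 * b1' x y z * psi2 (s1' x y z) (s2' x y z)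

theorem s1_q0 (ω : F) (hω : ω ^ 2 + ω + 1 = 0) (h5 : (5 : F) = 0) (x y z : F) :
    s1' (((2 + 4 * ω)) * x + ((2 + 4 * ω)) * y + ((2 + 4 * ω)) * z) (((2 + 4 * ω)) * x + ((2 + 3 * ω)) * y + ((1 + 3 * ω)) * z) (((2 + 4 * ω)) * x + ((1 + 3 * ω)) * y + ((2 + 3 * ω)) * z) =
      (3 + 1 * ω) * s1' x y z + (3 + 1 * ω) * s2' x y z := by
  unfold s1' s2'
  linear_combination ((192)*x^3*ω + (96)*x^3 + (480)*x^2*y*ω + (240)*x^2*y + (480)*x^2*z*ω + (240)*x^2*z + (408)*x*y^2*ω + (204)*x*y^2 + (816)*x*y*z*ω + (408)*x*y*z + (408)*x*z^2*ω + (204)*x*z^2 + (118)*y^3*ω + (59)*y^3 + (354)*y^2*z*ω + (177)*y^2*z + (354)*y*z^2*ω + (177)*y*z^2 + (118)*z^3*ω + (59)*z^3) * hω + ((-29)*x^3*ω + (-15)*x^3 + (-72)*x^2*y*ω + (-36)*x^2*y + (-72)*x^2*z*ω + (-36)*x^2*z + (-60)*x*y^2*ω + (-30)*x*y^2 + (-125)*x*y*z*ω + (-63)*x*y*z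 + (-60)*x*z^2*ω + (-30)*x*z^2 + (-17)*y^3*ω + (-9)*y^3 + (-54)*y^2*z*ω + (-27)*y^2*z + (-54)*y*z^2*ω + (-27)*y*z^2 + (-17)*z^3*ω + (-9)*z^3) * h5

theorem s2_q0 (ω : F) (hω : ω ^ 2 + ω + 1 = 0) (h5 : (5 : F) = 0) (x y z : F) :
    s2' (((2 + 4 * ω)) * x + ((2 + 4 * ω)) * y + ((2 + 4 * ω)) * z) (((2 + 4 * ω)) * x + ((2 + 3 * ω)) * y + ((1 + 3 * ω)) * z) (((2 + 4 * ω)) * x + ((1 + 3 * ω)) * y + ((2 + 3 * ω)) * z) =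
      (1 + 2 * ω) * s1' x y z + (2 + 4 * ω) * s2' x y z := by
  unfold s1' s2'
  linear_combination ((64)*x^3*ω + (32)*x^3 + (160)*x^2*y*ω + (80)*x^2*y + (160)*x^2*z*ω + (80)*x^2*z + (132)*x*y^2*ω + (66)*x*y^2 + (264)*x*y*z*ω + (132)*x*y*z + (132)*x*z^2*ω + (66)*x*z^2 + (36)*y^3*ω + (18)*y^3 + (108)*y^2*z*ω + (54)*y^2*z + (108)*y*z^2*ω + (54)*y*z^2 + (36)*z^3*ω + (18)*z^3) * hω + ((-10)*x^3*ω + (-5)*x^3 + (-24)*x^2*y*ω + (-12)*x^2*y + (-24)*x^2*z*ω + (-12)*x^2*z + (-20)*x*y^2*ω + (-10)*x*y^2 + (-40)*x*y*z*ω + (-20)*x*y*z + (-20)*x*z^2*ω + (-10)*x*z^2 + (-6)*y^3*ω + (-3)*y^3 + (-16)*y^2*z*ω + (-8)*y^2*z + (-16)*y*z^2*ω + (-8)*y*z^2 + (-6)*z^3*ω + (-3)*z^3) * h5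

theorem phi4_q0 (ω : F) (hω : ω ^ 2 + ω + 1 = 0) (h5 : (5 : F) = 0) (s t : F) :
    phi4 ((3 + 1 * ω) * s + (3 + 1 * ω) * t) ((1 + 2 * ω) * s + (2 + 4 * ω) * t) = phi4 s t := by
  unfold phi4
  linear_combination ((-1)*s^4*ω^2 + (44)*s^4*ω + (73)*s^4 + (-26)*s^3*t*ω^2 + (249)*s^3*t*ω + (338)*s^3*t + (-124)*s^2*t^2*ω^2 + (531)*s^2*t^2*ω + (627)*s^2*t^2 + (-222)*s*t^3*ω^2 + (483)*s*t^3*ω + (576)*s*t^3 + (-139)*t^4*ω^2 + (141)*t^4*ω + (222)*t^4) * hω + ((12)*s^4*ω + (6)*s^4 + (40)*s^3*t*ω + (20)*s^3*t + (33)*s^2*t^2*ω + (14)*s^2*t^2 + (-12)*s*t^3*ω + (-17)*s*t^3 + (-17)*t^4*ω + (-18)*t^4) * h5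

theorem psi2_q0 (ω : F) (hω : ω ^ 2 + ω + 1 = 0) (h5 : (5 : F) = 0) (s t : F) :
    psi2 ((3 + 1 * ω) * s + (3 + 1 * ω) * t) ((1 + 2 * ω) * s + (2 + 4 * ω) * t) = psi2 s t := by
  unfold psi2
  linear_combination ((7)*s^2 + (28)*s*t + (29)*t^2) * hω + ((-1)*s*t*ω + (-2)*s*t + (-1)*t^2*ω + (-4)*t^2) * h5

theorem s1_q1 (ω : F) (hω : ω ^ 2 + ω + 1 = 0) (h5 : (5 : F) = 0) (x y z : F) :
    s1' (((2 + 3 * ω)) * x + ((2 + 4 * ω)) * y + ((2 + 4 * ω)) * z) (((2 + 3 * ω)) * x + ((2 + 3 * ω)) * y + ((1 + 3 * ω)) * z) (((2 + 4 * ω)) * x + ((2 + 3 * ω)) * y + ((2 + 4 * ω)) * z) =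
      (3 + 1 * ω) * s1' x y z + (3 + 2 * ω) * s2' x y z := by
  unfold s1' s2'
  linear_combination ((118)*x^3*ω + (86)*x^3 + (333)*x^2*y*ω + (267)*x^2*y + (381)*x^2*z*ω + (240)*x^2*z + (333)*x*y^2*ω + (267)*x*y^2 + (738)*x*y*z*ω + (492)*x*y*z + (417)*x*z^2*ω + (219)*x*z^2 + (118)*y^3*ω + (86)*y^3 + (381)*y^2*z*ω + (240)*y^2*z + (417)*y*z^2*ω + (219)*y*z^2 + (155)*z^3*ω + (64)*z^3) * hω + ((-17)*x^3*ω + (-13)*x^3 + (-48)*x^2*y*ω + (-39)*x^2*y + (-57)*x^2*z*ω + (-36)*x^2*z + (-48)*x*y^2*ω + (-39)*x*y^2 + (-112)*x*y*z*ω + (-75)*x*y*z + (-63)*x*z^2*ω + (-33)*x*z^2 + (-17)*y^3*ω + (-13)*y^3 + (-57)*y^2*z*ω + (-36)*y^2*z + (-63)*y*z^2*ω + (-33)*y*z^2 + (-23)*z^3*ω + (-10)*z^3) * h5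

theorem s2_q1 (ω : F) (hω : ω ^ 2 + ω + 1 = 0) (h5 : (5 : F) = 0) (x y z : F) :
    s2' (((2 + 3 * ω)) * x + ((2 + 4 * ω)) * y + ((2 + 4 * ω)) * z) (((2 + 3 * ω)) * x + ((2 + 3 * ω)) * y + ((1 + 3 * ω)) * z) (((2 + 4 * ω)) * x + ((2 + 3 * ω)) * y + ((2 + 4 * ω)) * z) =
      (3 + 4 * ω) * s1' x y z + (2 + 4 * ω) * s2' x y z := by
  unfold s1' s2'
  linear_combination ((36)*x^3*ω + (30)*x^3 + (111)*x^2*y*ω + (89)*x^2*y + (120)*x^2*z*ω + (80)*x^2*z + (111)*x*y^2*ω + (89)*x*y^2 + (243)*x*y*z*ω + (158)*x*y*z + (132)*x*z^2*ω + (66)*x*z^2 + (36)*y^3*ω + (30)*y^3 + (120)*y^2*z*ω + (80)*y^2*z + (132)*y*z^2*ω + (66)*y*z^2 + (48)*z^3*ω + (16)*z^3) * hω + ((-6)*x^3*ω + (-5)*x^3 + (-16)*x^2*y*ω + (-13)*x^2*y + (-18)*x^2*z*ω + (-12)*x^2*z + (-16)*x*y^2*ω + (-13)*x*y^2 + (-37)*x*y*z*ω + (-24)*x*y*z + (-20)*x*z^2*ω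 + (-10)*x*z^2 + (-6)*y^3*ω + (-5)*y^3 + (-18)*y^2*z*ω + (-12)*y^2*z + (-20)*y*z^2*ω + (-10)*y*z^2 + (-8)*z^3*ω + (-3)*z^3) * h5

theorem phi4_q1 (ω : F) (hω : ω ^ 2 + ω + 1 = 0) (h5 : (5 : F) = 0) (s t : F) :
    phi4 ((3 + 1 * ω) * s + (3 + 2 * ω) * t) ((3 + 4 * ω) * s + (2 + 4 * ω) * t) = -phi4 s t := by
  unfold phi4
  linear_combination ((-139)*s^4*ω^2 + (-26)*s^4*ω + (273)*s^4 + (-444)*s^3*t*ω^2 + (212)*s^3*t*ω + (1177)*s^3*t + (-496)*s^2*t^2*ω^2 + (764)*s^2*t^2*ω + (1816)*s^2*t^2 + (-208)*s*t^3*ω^2 + (800)*s*t^3*ω + (1192)*s*t^3 + (-16)*t^4*ω^2 + (272)*t^4*ω + (280)*t^4) * hω + ((10)*s^4*ω + (-22)*s^4 + (3)*s^3*t*ω + (-111)*s^3*t + (-51)*s^2*t^2*ω + (-187)*s^2*t^2 + (-68)*s*t^3*ω + (-127)*s*t^3 + (-24)*t^4*ω + (-30)*t^4) * h5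

theorem psi2_q1 (ω : F) (hω : ω ^ 2 + ω + 1 = 0) (h5 : (5 : F) = 0) (s t : F) :
    psi2 ((3 + 1 * ω) * s + (3 + 2 * ω) * t) ((3 + 4 * ω) * s + (2 + 4 * ω) * t) = -psi2 s t := by
  unfold psi2
  linear_combination ((29)*s^2 + (56)*s*t + (28)*t^2) * hω + ((2)*s^2*ω + (-2)*s^2 + (2)*s*t*ω + (-6)*s*t + (-3)*t^2) * h5

theorem PhiP_g (h5 : (5 : F) = 0) (x y z : F) :
    PhiP' (3 * x + 4 * y + z) (4 * x + 3 * y + z) (x + y + 3 * z) = PhiP' x y z := by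
  unfold PhiP' phi4 psi2 s1' s2' b1'
  linear_combination ((30776089)*x^12 + (333784800)*x^11*y + (110182896)*x^11*z + (1689482816)*x^10*y^2 + (1108748937)*x^10*y*z + (208375304)*x^10*z^2 + (5278219984)*x^9*y^3 + (5161541136)*x^9*y^2*z + (1925971512)*x^9*y*z^2 + (284149360)*x^9*z^3 + (11337522544)*x^8*y^4 + (14674979231)*x^8*y^3*z + (8149720988)*x^8*y^2*z^2 + (2381788202)*x^8*y*z^3 + (300364855)*x^8*z^4 + (17641154216)*x^7*y^5 + (28315856811)*x^7*y^4*z + (20794686932)*x^7*y^3*z^2 + (9029750936)*x^7*y^2*z^3 + (2254237959)*x^7*y*z^4 + (255660992)*x^7*z^5 + (20390755102)*x^6*y^6 + (38936733389)*x^6*y^5*z + (35437478662)*x^6*y^4*z^2 + (20326551392)*x^6*y^3*z^3 + (7536535681)*x^6*y^2*z^4 + (1691835914)*x^6*y*z^5 + (183218524)*x^6*z^6 + (17641154216)*x^5*y^7 + (38936733389)*x^5*y^6*z + (42149832964)*x^5*y^5*z^2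 + (29946085322)*x^5*y^4*z^3 + (14663243681)*x^5*y^3*z^4 + (4888487554)*x^5*y^2*z^5 + (1047239726)*x^5*y*z^6 + (112061192)*x^5*z^7 + (11337522544)*x^4*y^8 + (28315856811)*x^4*y^7*z + (35437478662)*x^4*y^6*z^2 + (29946085322)*x^4*y^5*z^3 + (18161163360)*x^4*y^4*z^4 + (7995795644)*x^4*y^3*z^5 + (2543004052)*x^4*y^2*z^6 + (538265064)*x^4*y*z^7 + (58248931)*x^4*z^8 + (5278219984)*x^3*y^9 + (14674979231)*x^3*y^8*z + (20794686932)*x^3*y^7*z^2 + (20326551392)*x^3*y^6*z^3 + (14663243681)*x^3*y^5*z^4 + (7995795644)*x^3*y^4*z^5 + (3357956936)*x^3*y^3*z^6 + (1055156174)*x^3*y^2*z^7 + (225649802)*x^3*y*z^8 + (25061716)*x^3*z^9 + (1689482816)*x^2*y^10 + (5161541136)*x^2*y^9*z + (8149720988)*x^2*y^8*z^2 + (9029750936)*x^2*y^7*z^3 + (7536535681)*x^2*y^6*z^4 + (4888487554)*x^2*y^5*z^5 + (2543004052)*x^2*y^4*z^6 +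 (1055156174)*x^2*y^3*z^7 + (334866080)*x^2*y^2*z^8 + (73312008)*x^2*y*z^9 + (8448797)*x^2*z^10 + (333784800)*x*y^11 + (1108748937)*x*y^10*z + (1925971512)*x*y^9*z^2 + (2381788202)*x*y^8*z^3 + (2254237959)*x*y^7*z^4 + (1691835914)*x*y^6*z^5 + (1047239726)*x*y^5*z^6 + (538265064)*x*y^4*z^7 + (225649802)*x*y^3*z^8 + (73312008)*x*y^2*z^9 + (16663818)*x*y*z^10 + (2222010)*x*z^11 + (30776089)*y^12 + (110182896)*y^11*z + (208375304)*y^10*z^2 + (284149360)*y^9*z^3 + (300364855)*y^8*z^4 + (255660992)*y^7*z^5 + (183218524)*y^6*z^6 + (112061192)*y^5*z^7 + (58248931)*y^4*z^8 + (25061716)*y^3*z^9 + (8448797)*y^2*z^10 + (2222010)*y*z^11 + (380605)*z^12) * h5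

end

end Cfsg.Agent.Lib.Helper1.SU3C6
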