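import Mathlib
import Cfsg.Prelude.Def_GeometricClasses
import Cfsg.Agent.Lib.Helper1.SU3C6A
import Cfsg.Agent.Lib.Helper1.SU3C6B

set_option autoImplicit false
set_option linter.unusedSectionVars false
set_option linter.unusedVariables false

/-!
# `3^{1+2} : Q_8 < 3.M_10 < SU_3(5)` (leaf E5), part C: transfer from the model, the core lemma

`phi ω hω : K →+* F` for a root `ω` of `ω² + ω + 1` in a field of characteristic 5; `tr` transfers matrices.
`core`: a unitary matrix of determinant one normalising the Heisenberg group `⟨X, Z⟩` (mod scalars) stabilises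
the invariant `PhiP` of degree 12 up to a scalar.
-/

namespace Cfsg.Agent.Lib.Helper1.SU3C6

open Matrix

instance fact5 : Fact (Nat.Prime 5) := ⟨by norm_num⟩

instance factK : Fact (∀ r : ZMod 5, r ^ 2 ≠ (4 : ZMod 5) + 4 * r) := ⟨by decide⟩

section

variable {F : Type*} [Field F] [CharP F 5]

theorem five_eq_zero : (5 : F) = 0 := by
  have := CharP.cast_eq_zero F 5
  exact_mod_cast this

/-- unitary matrices for the standard hermitian form -/
def IsU (m : Matrix (Fin 3) (Fin 3) F) : Prop :=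
  ∀ u v, Cfsg.hermForm 3 F 5 (m *ᵥ u) (m *ᵥ v) = Cfsg.hermForm 3 F 5 u v

theorem frob3 (a b c : F) : (a + b + c) ^ 5 = a ^ 5 + b ^ 5 + c ^ 5 := by
  rw [add_pow_char, add_pow_char]

theorem isU_of_gram (m : Matrix (Fin 3) (Fin 3) F) (h : m.transpose * m.map (fun x => x ^ 5) = 1) :
    IsU m := by
  intro u v
  have G : ∀ j k : Fin 3, m 0 j * (m 0 k) ^ 5 + m 1 j * (m 1 k) ^ 5 + m 2 j * (m 2 k) ^ 5 =
      if j = k then 1 else 0 := by
    intro j k
    have := congrFun (congrFun h j) k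
    simpa [Matrix.mul_apply, Fin.sum_univ_three, Matrix.one_apply] using this
  have G00 := G 0 0
  have G01 := G 0 1
  have G02 := G 0 2
  have G10 := G 1 0
  have G11 := G 1 1
  have G12 := G 1 2
  have G20 := G 2 0
  have G21 := G 2 1
  have G22 := G 2 2
  simp only [Fin.isValue, if_true, if_false, Fin.reduceEq] at G00 G01 G02 G10 G11 G12 G20 G21 G22
  unfold Cfsg.hermForm
  simp only [Matrix.mulVec, dotProduct, Fin.sum_univ_three, frob3, mul_pow]
  linear_combination (u 0 * v 0 ^ 5) * G00 + (u 0 * v 1 ^ 5) * G01 + (u 0 * v 2 ^ 5) * G02 +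
    (u 1 * v 0 ^ 5) * G10 + (u 1 * v 1 ^ 5) * G11 + (u 1 * v 2 ^ 5) * G12 +
    (u 2 * v 0 ^ 5) * G20 + (u 2 * v 1 ^ 5) * G21 + (u 2 * v 2 ^ 5) * G22

theorem isU_one : IsU (1 : Matrix (Fin 3) (Fin 3) F) := by
  intro u v; simp

theorem isU_mul {m n : Matrix (Fin 3) (Fin 3) F} (hm : IsU m) (hn : IsU n) : IsU (m * n) := by
  intro u v
  rw [← Matrix.mulVec_mulVec, ← Matrix.mulVec_mulVec, hm, hn]

theorem isU_of_mul_eq_one {m n : Matrix (Fin 3) (Fin 3) F} (hm : IsU m) (h : m * n = 1) : IsU n := by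
  intro u v
  rw [← hm (n *ᵥ u) (n *ᵥ v), Matrix.mulVec_mulVec, Matrix.mulVec_mulVec, h, Matrix.one_mulVec,
    Matrix.one_mulVec]


/-- the invariant of degree 12 on vectors -/
def PhiP (v : Fin 3 → F) : F := PhiP' (v 0) (v 1) (v 2)

/-- `m` stabilises `PhiP` up to a non-zero scalar -/
def StabP (m : Matrix (Fin 3) (Fin 3) F) : Prop := ∃ ε : F, ε ≠ 0 ∧ ∀ v, PhiP (m *ᵥ v) = ε * PhiP v

theorem mulVec3 (m : Matrix (Fin 3) (Fin 3) F) (v : Fin 3 → F) (i : Fin 3) :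
    (m *ᵥ v) i = m i 0 * v 0 + m i 1 * v 1 + m i 2 * v 2 := by
  simp [Matrix.mulVec, dotProduct, Fin.sum_univ_three]

theorem b1_eq_herm (v : Fin 3 → F) : b1' (v 0) (v 1) (v 2) = Cfsg.hermForm 3 F 5 v v := by
  unfold b1' Cfsg.hermForm
  rw [Fin.sum_univ_three]
  ring

theorem stabP_one : StabP (1 : Matrix (Fin 3) (Fin 3) F) := ⟨1, one_ne_zero, fun v => by simp⟩

theorem stabP_mul {m n : Matrix (Fin 3) (Fin 3) F} (hm : StabP m) (hn : StabP n) : StabP (m * n) := by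
  obtain ⟨ε, hε, h1⟩ := hm
  obtain ⟨δ, hδ, h2⟩ := hn
  refine ⟨ε * δ, mul_ne_zero hε hδ, fun v => ?_⟩
  rw [← Matrix.mulVec_mulVec, h1, h2, mul_assoc]

theorem stabP_of_mul_eq_one {m n : Matrix (Fin 3) (Fin 3) F} (hm : StabP m) (h : m * n = 1) : StabP n := by
  obtain ⟨ε, hε, h1⟩ := hm
  refine ⟨ε⁻¹, inv_ne_zero hε, fun v => ?_⟩
  have h2 := h1 (n *ᵥ v)
  rw [Matrix.mulVec_mulVec, h, Matrix.one_mulVec] at h2
  rw [h2, ← mul_assoc, inv_mul_cancel₀ hε, one_mul]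

/-- a unitary matrix acting linearly on `(σ₁, σ₂)` compatibly with `φ₄` and `ψ₂` stabilises `PhiP` -/
theorem stabP_of_lin (m : Matrix (Fin 3) (Fin 3) F) (hU : IsU m) (a b c d ε : F) (hε : ε ≠ 0)
    (h1 : ∀ v : Fin 3 → F, s1' ((m *ᵥ v) 0) ((m *ᵥ v) 1) ((m *ᵥ v) 2) =
      a * s1' (v 0) (v 1) (v 2) + b * s2' (v 0) (v 1) (v 2))
    (h2 : ∀ v : Fin 3 → F, s2' ((m *ᵥ v) 0) ((m *ᵥ v) 1) ((m *ᵥ v) 2) =
      c * s1' (v 0) (v 1) (v 2) + d * s2' (v 0) (v 1) (v 2))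
    (h3 : ∀ s t : F, phi4 (a * s + b * t) (c * s + d * t) = ε * phi4 s t)
    (h4 : ∀ s t : F, psi2 (a * s + b * t) (c * s + d * t) = ε * psi2 s t) : StabP m := by
  refine ⟨ε, hε, fun v => ?_⟩
  unfold PhiP PhiP'
  rw [h1, h2, h3, h4, b1_eq_herm, b1_eq_herm, hU]
  ring

/-- `ZMod 5 → F` -/
def iota : ZMod 5 →+* F := ZMod.castHom (dvd_refl 5) F

/-- the embedding of the model attached to a root of `ω² + ω + 1` -/
def phi (ω : F) (hω : ω ^ 2 + ω + 1 = 0) : K →+* F where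
  toFun z := iota z.re + iota z.im * ω
  map_one' := by simp [QuadraticAlgebra.re_one, QuadraticAlgebra.im_one]
  map_mul' z w := by
    have h4 : (iota (4 : ZMod 5) : F) = 4 := map_ofNat iota 4
    simp only [QuadraticAlgebra.re_mul, QuadraticAlgebra.im_mul, map_add, map_mul, h4]
    linear_combination (-(iota z.im * iota w.im : F)) * hω +
      ((iota z.im * iota w.im : F) * (1 + ω)) * (five_eq_zero (F := F))
  map_zero' := by simp
  map_add' z w := by
    simp only [QuadraticAlgebra.re_add, QuadraticAlgebra.im_add, map_add]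
    ring

theorem phi_mk (ω : F) (hω : ω ^ 2 + ω + 1 = 0) (a b : ZMod 5) :
    phi ω hω ⟨a, b⟩ = iota a + iota b * ω := rfl

theorem phi_wK (ω : F) (hω : ω ^ 2 + ω + 1 = 0) : phi ω hω wK = ω := by
  simp [wK, phi_mk]

theorem phi_injective (ω : F) (hω : ω ^ 2 + ω + 1 = 0) : Function.Injective (phi ω hω) :=
  RingHom.injective _

@[simp] theorem iota_two : (iota (2 : ZMod 5) : F) = 2 := map_ofNat iota 2
@[simp] theorem iota_three : (iota (3 : ZMod 5) : F) = 3 := map_ofNat iota 3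
@[simp] theorem iota_four : (iota (4 : ZMod 5) : F) = 4 := map_ofNat iota 4

variable (ω : F) (hω : ω ^ 2 + ω + 1 = 0)

include hω

/-- transfer of a matrix of the model -/
def tr (A : MK) : Matrix (Fin 3) (Fin 3) F := (phi ω hω).mapMatrix A

theorem tr_mul (A B : MK) : tr ω hω (A * B) = tr ω hω A * tr ω hω B := map_mul _ _ _
theorem tr_one : tr ω hω 1 = 1 := map_one _
theorem tr_pow (A : MK) (n : ℕ) : tr ω hω (A ^ n) = tr ω hω A ^ n := map_pow _ _ _
theorem tr_smul (c : K) (A : MK) : tr ω hω (c • A) = phi ω hω c • tr ω hω A := by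
  ext i j
  simp [tr, RingHom.mapMatrix_apply]
theorem tr_injective : Function.Injective (tr ω hω) := by
  intro A B h
  refine Matrix.ext fun i j => ?_
  have := congrFun (congrFun h i) j
  simp only [tr, RingHom.mapMatrix_apply, Matrix.map_apply] at this
  exact phi_injective ω hω this
theorem tr_det (A : MK) : (tr ω hω A).det = phi ω hω A.det := by
  unfold tr
  rw [← RingHom.map_det]
theorem tr_apply (A : MK) (i j : Fin 3) : tr ω hω A i j = phi ω hω (A i j) := rfl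

theorem omega_cube : ω ^ 3 = 1 := by linear_combination (ω - 1) * hω
theorem omega_ne_one : ω ≠ 1 := by
  rintro rfl
  have h3 : (3 : F) = 0 := by linear_combination hω
  have h1 : (1 : F) = 0 := by linear_combination 2 * h3 - (five_eq_zero (F := F))
  exact one_ne_zero h1
theorem omega_ne_zero : ω ≠ 0 := by
  rintro rfl
  have : (1 : F) = 0 := by linear_combination hω
  exact one_ne_zero this
theorem omega_sq_ne_one : ω ^ 2 ≠ 1 := by
  intro h
  have h1 : ω = 1 := by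
    have : ω * ω ^ 2 = ω * 1 := by rw [h]
    linear_combination (-1 : F) * this + omega_cube ω hω
  exact omega_ne_one ω hω h1
theorem omega_sq_ne : ω ^ 2 ≠ ω := by
  intro h
  have h1 : ω * (ω - 1) = 0 := by linear_combination h
  rcases mul_eq_zero.mp h1 with h0 | h0
  · exact omega_ne_zero ω hω h0
  · exact omega_ne_one ω hω (sub_eq_zero.mp h0)

theorem cube_root_cases {c : F} (hc : c ^ 3 = 1) : c = 1 ∨ c = ω ∨ c = ω ^ 2 := by
  have h : (c - 1) * ((c - ω) * (c - ω ^ 2)) = 0 := by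
    linear_combination hc + (c * ω - c ^ 2 - ω + 1) * hω
  rcases mul_eq_zero.mp h with h | h
  · exact Or.inl (sub_eq_zero.mp h)
  · rcases mul_eq_zero.mp h with h | h
    · exact Or.inr (Or.inl (sub_eq_zero.mp h))
    · exact Or.inr (Or.inr (sub_eq_zero.mp h))

/-- the F-side matrices -/
def Xm : Matrix (Fin 3) (Fin 3) F := tr ω hω XK
def Zm : Matrix (Fin 3) (Fin 3) F := tr ω hω ZK
def HF (a i j : Fin 3) : Matrix (Fin 3) (Fin 3) F := tr ω hω (HK a i j)

theorem Xm_eq : Xm ω hω = !![0, 0, 1; 1, 0, 0; 0, 1, 0] := by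
  ext i j
  fin_cases i <;> fin_cases j <;> simp [Xm, tr_apply, XK]

theorem Zm_eq : Zm ω hω = !![1, 0, 0; 0, ω, 0; 0, 0, ω ^ 2] := by
  ext i j
  fin_cases i <;> fin_cases j <;> simp [Zm, tr_apply, ZK, phi_mk]
  linear_combination (-1 : F) * hω + (1 + ω) * (five_eq_zero (F := F))


/-! ### Transfer of the Heisenberg group -/

theorem HF_mul (a i j b k l : Fin 3) :
    HF ω hω a i j * HF ω hω b k l = HF ω hω (a + b + j * k) (i + k) (j + l) := by
  unfold HF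
  rw [← tr_mul, HK_mul]

theorem HF_entry (a i j s t : Fin 3) : HF ω hω a i j s t = 0 ∨ (HF ω hω a i j s t) ^ 3 = 1 := by
  rcases HK_entry a i j s t with h | h
  · left
    rw [HF, tr_apply, h, map_zero]
  · right
    rw [HF, tr_apply, ← map_pow, h, map_one]

theorem HF_cube (a i j : Fin 3) : HF ω hω a i j * HF ω hω a i j * HF ω hω a i j = 1 := by
  unfold HF
  rw [← tr_mul, ← tr_mul, HK_cube, tr_one]

theorem HF_eq (a i j : Fin 3) :
    HF ω hω a i j = ω ^ a.val • (Xm ω hω ^ i.val * Zm ω hω ^ j.val) := by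
  unfold HF HK Xm Zm
  rw [tr_smul, tr_mul, tr_pow, tr_pow, map_pow, phi_wK]

theorem HF_scalar (a : Fin 3) : HF ω hω a 0 0 = ω ^ a.val • (1 : Matrix (Fin 3) (Fin 3) F) := by
  rw [HF_eq]
  simp

theorem Xm_eq_HF : Xm ω hω = HF ω hω 0 1 0 := by
  rw [HF_eq]; simp

theorem Zm_eq_HF : Zm ω hω = HF ω hω 0 0 1 := by
  rw [HF_eq]; simp

/-! ### Good matrices -/

/-- unitary, determinant one, stabilising `PhiP`, normalising the Heisenberg group -/
structure Good (m : Matrix (Fin 3) (Fin 3) F) : Prop where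
  isU : IsU m
  det : m.det = 1
  stab : StabP m
  norm : ∀ a i j : Fin 3, ∃ a' i' j' : Fin 3, HF ω hω a i j * m = m * HF ω hω a' i' j'

theorem Good.one : Good ω hω (1 : Matrix (Fin 3) (Fin 3) F) :=
  ⟨isU_one, Matrix.det_one, stabP_one, fun a i j => ⟨a, i, j, by simp⟩⟩

theorem Good.mul {m n : Matrix (Fin 3) (Fin 3) F} (hm : Good ω hω m) (hn : Good ω hω n) :
    Good ω hω (m * n) := by
  refine ⟨isU_mul hm.isU hn.isU, by rw [Matrix.det_mul, hm.det, hn.det, one_mul],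
    stabP_mul hm.stab hn.stab, fun a i j => ?_⟩
  obtain ⟨a1, i1, j1, h1⟩ := hm.norm a i j
  obtain ⟨a2, i2, j2, h2⟩ := hn.norm a1 i1 j1
  refine ⟨a2, i2, j2, ?_⟩
  rw [← Matrix.mul_assoc, h1, Matrix.mul_assoc, h2, Matrix.mul_assoc]

theorem Good.pow {m : Matrix (Fin 3) (Fin 3) F} (hm : Good ω hω m) (t : ℕ) : Good ω hω (m ^ t) := by
  induction t with
  | zero => rw [pow_zero]; exact Good.one ω hω
  | succ t ih => rw [pow_succ]; exact Good.mul ω hω ih hm

theorem tr_map_pow (A : MK) : (tr ω hω A).map (fun x => x ^ 5) = tr ω hω (A.map (fun x => x ^ 5)) := by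
  ext i j
  simp [tr, RingHom.mapMatrix_apply]

theorem tr_transpose (A : MK) : (tr ω hω A).transpose = tr ω hω A.transpose := by
  ext i j
  simp [tr, RingHom.mapMatrix_apply]

theorem isU_tr (A : MK) (huni : A.transpose * A.map (fun x => x ^ 5) = 1) : IsU (tr ω hω A) := by
  apply isU_of_gram
  rw [tr_map_pow, tr_transpose, ← tr_mul, huni, tr_one]

theorem det_tr (A : MK) (hdet : A.det = 1) : (tr ω hω A).det = 1 := by
  rw [tr_det, hdet, map_one]

theorem good_tr (A : MK) (hdet : A.det = 1) (huni : A.transpose * A.map (fun x => x ^ 5) = 1)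
    (hnorm : ∀ a i j : Fin 3, ∃ a' i' j' : Fin 3, HK a i j * A = A * HK a' i' j')
    (hstab : StabP (tr ω hω A)) : Good ω hω (tr ω hω A) := by
  refine ⟨isU_tr ω hω A huni, det_tr ω hω A hdet, hstab, fun a i j => ?_⟩
  obtain ⟨a', i', j', h⟩ := hnorm a i j
  refine ⟨a', i', j', ?_⟩
  unfold HF
  rw [← tr_mul, ← tr_mul, h]

/-! ### The generators -/

theorem phi_three : phi ω hω 3 = 3 := map_ofNat _ 3
theorem phi_four : phi ω hω 4 = 4 := map_ofNat _ 4

theorem stabP_X : StabP (tr ω hω XK) := by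
  refine ⟨1, one_ne_zero, fun v => ?_⟩
  have e0 : (tr ω hω XK *ᵥ v) 0 = v 2 := by simp [mulVec3, tr_apply, XK]
  have e1 : (tr ω hω XK *ᵥ v) 1 = v 0 := by simp [mulVec3, tr_apply, XK]
  have e2 : (tr ω hω XK *ᵥ v) 2 = v 1 := by simp [mulVec3, tr_apply, XK]
  unfold PhiP
  rw [e0, e1, e2]
  unfold PhiP' phi4 psi2 s1' s2' b1'
  ring

theorem stabP_J : StabP (tr ω hω JK) := by
  refine ⟨1, one_ne_zero, fun v => ?_⟩
  have e0 : (tr ω hω JK *ᵥ v) 0 = 4 * v 0 := by simp [mulVec3, tr_apply, JK, phi_four]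
  have e1 : (tr ω hω JK *ᵥ v) 1 = 4 * v 2 := by simp [mulVec3, tr_apply, JK, phi_four]
  have e2 : (tr ω hω JK *ᵥ v) 2 = 4 * v 1 := by simp [mulVec3, tr_apply, JK, phi_four]
  unfold PhiP
  rw [e0, e1, e2]
  have h : PhiP' (4 * v 0) (4 * v 2) (4 * v 1) = 16777216 * PhiP' (v 0) (v 1) (v 2) := by
    unfold PhiP' phi4 psi2 s1' s2' b1'
    ring
  rw [h]
  linear_combination (3355443 * PhiP' (v 0) (v 1) (v 2)) * (five_eq_zero (F := F))

theorem stabP_g : StabP (tr ω hω gK) := by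
  refine ⟨1, one_ne_zero, fun v => ?_⟩
  have e0 : (tr ω hω gK *ᵥ v) 0 = 3 * v 0 + 4 * v 1 + v 2 := by simp [mulVec3, tr_apply, gK, phi_three, phi_four]
  have e1 : (tr ω hω gK *ᵥ v) 1 = 4 * v 0 + 3 * v 1 + v 2 := by simp [mulVec3, tr_apply, gK, phi_three, phi_four]
  have e2 : (tr ω hω gK *ᵥ v) 2 = v 0 + v 1 + 3 * v 2 := by simp [mulVec3, tr_apply, gK, phi_three]
  unfold PhiP
  rw [e0, e1, e2, one_mul]
  exact PhiP_g five_eq_zero _ _ _

theorem stabP_q0 : StabP (tr ω hω q0K) := by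
  have e0 : ∀ v : Fin 3 → F, (tr ω hω q0K *ᵥ v) 0 =
      ((2 + 4 * ω)) * v 0 + ((2 + 4 * ω)) * v 1 + ((2 + 4 * ω)) * v 2 := by
    intro v; simp [mulVec3, tr_apply, q0K, phi_mk]
  have e1 : ∀ v : Fin 3 → F, (tr ω hω q0K *ᵥ v) 1 =
      ((2 + 4 * ω)) * v 0 + ((2 + 3 * ω)) * v 1 + ((1 + 3 * ω)) * v 2 := by
    intro v; simp [mulVec3, tr_apply, q0K, phi_mk]
  have e2 : ∀ v : Fin 3 → F, (tr ω hω q0K *ᵥ v) 2 =
      ((2 + 4 * ω)) * v 0 + ((1 + 3 * ω)) * v 1 + ((2 + 3 * ω)) * v 2 := by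
    intro v; simp [mulVec3, tr_apply, q0K, phi_mk]
  refine stabP_of_lin _ (isU_tr ω hω q0K uni_q0K) (3 + 1 * ω) (3 + 1 * ω) (1 + 2 * ω) (2 + 4 * ω) 1
    one_ne_zero ?_ ?_ ?_ ?_
  · intro v
    rw [e0, e1, e2]
    exact s1_q0 ω hω five_eq_zero _ _ _
  · intro v
    rw [e0, e1, e2]
    exact s2_q0 ω hω five_eq_zero _ _ _
  · intro s t
    exact (phi4_q0 ω hω five_eq_zero s t).trans (one_mul _).symm
  · intro s t
    exact (psi2_q0 ω hω five_eq_zero s t).trans (one_mul _).symm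

theorem stabP_q1 : StabP (tr ω hω q1K) := by
  have e0 : ∀ v : Fin 3 → F, (tr ω hω q1K *ᵥ v) 0 =
      ((2 + 3 * ω)) * v 0 + ((2 + 4 * ω)) * v 1 + ((2 + 4 * ω)) * v 2 := by
    intro v; simp [mulVec3, tr_apply, q1K, phi_mk]
  have e1 : ∀ v : Fin 3 → F, (tr ω hω q1K *ᵥ v) 1 =
      ((2 + 3 * ω)) * v 0 + ((2 + 3 * ω)) * v 1 + ((1 + 3 * ω)) * v 2 := by
    intro v; simp [mulVec3, tr_apply, q1K, phi_mk]
  have e2 : ∀ v : Fin 3 → F, (tr ω hω q1K *ᵥ v) 2 =
      ((2 + 4 * ω)) * v 0 + ((2 + 3 * ω)) * v 1 + ((2 + 4 * ω)) * v 2 := by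
    intro v; simp [mulVec3, tr_apply, q1K, phi_mk]
  refine stabP_of_lin _ (isU_tr ω hω q1K uni_q1K) (3 + 1 * ω) (3 + 2 * ω) (3 + 4 * ω) (2 + 4 * ω) (-1)
    (neg_ne_zero.mpr one_ne_zero) ?_ ?_ ?_ ?_
  · intro v
    rw [e0, e1, e2]
    exact s1_q1 ω hω five_eq_zero _ _ _
  · intro v
    rw [e0, e1, e2]
    exact s2_q1 ω hω five_eq_zero _ _ _
  · intro s t
    exact (phi4_q1 ω hω five_eq_zero s t).trans (neg_one_mul _).symm
  · intro s t
    exact (psi2_q1 ω hω five_eq_zero s t).trans (neg_one_mul _).symm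

theorem good_X : Good ω hω (tr ω hω XK) := good_tr ω hω XK det_XK uni_XK normR_XK (stabP_X ω hω)
theorem good_J : Good ω hω (tr ω hω JK) := good_tr ω hω JK det_JK uni_JK normR_JK (stabP_J ω hω)
theorem good_q0 : Good ω hω (tr ω hω q0K) := good_tr ω hω q0K det_q0K uni_q0K normR_q0K (stabP_q0 ω hω)
theorem good_q1 : Good ω hω (tr ω hω q1K) := good_tr ω hω q1K det_q1K uni_q1K normR_q1K (stabP_q1 ω hω)

/-! ### Matrices commuting with `Z` are diagonal -/

omit hω [CharP F 5] in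
theorem eq_zero_of_mul_comm {a p q : F} (h : a * p = q * a) (hpq : p ≠ q) : a = 0 := by
  have h1 : a * (p - q) = 0 := by linear_combination h
  rcases mul_eq_zero.mp h1 with h0 | h0
  · exact h0
  · exact absurd (sub_eq_zero.mp h0) hpq

theorem offdiag_of_comm (m : Matrix (Fin 3) (Fin 3) F) (h : m * Zm ω hω = Zm ω hω * m) :
    m 0 1 = 0 ∧ m 0 2 = 0 ∧ m 1 0 = 0 ∧ m 1 2 = 0 ∧ m 2 0 = 0 ∧ m 2 1 = 0 := by
  rw [Zm_eq] at h
  have e := fun s t => congrFun (congrFun h s) t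
  have h01 := e 0 1
  have h02 := e 0 2
  have h10 := e 1 0
  have h12 := e 1 2
  have h20 := e 2 0
  have h21 := e 2 1
  simp [Matrix.mul_apply, Fin.sum_univ_three] at h01 h02 h10 h12 h20 h21
  have w1 := omega_ne_one ω hω
  have w0 := omega_ne_zero ω hω
  have w2 := omega_sq_ne_one ω hω
  have w3 := omega_sq_ne ω hω
  refine ⟨?_, ?_, ?_, ?_, ?_, ?_⟩
  · exact eq_zero_of_mul_comm (p := ω) (q := 1) (by linear_combination h01) w1
  · exact eq_zero_of_mul_comm (p := ω ^ 2) (q := 1) (by linear_combination h02) w2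
  · exact eq_zero_of_mul_comm (p := 1) (q := ω) (by linear_combination h10) (Ne.symm w1)
  · exact eq_zero_of_mul_comm (p := ω ^ 2) (q := ω) (by linear_combination h12) w3
  · exact eq_zero_of_mul_comm (p := 1) (q := ω ^ 2) (by linear_combination h20) (Ne.symm w2)
  · exact eq_zero_of_mul_comm (p := ω) (q := ω ^ 2) (by linear_combination h21) (Ne.symm w3)


omit hω [CharP F 5] in
theorem matrix_eq_diag (m : Matrix (Fin 3) (Fin 3) F)
    (h : m 0 1 = 0 ∧ m 0 2 = 0 ∧ m 1 0 = 0 ∧ m 1 2 = 0 ∧ m 2 0 = 0 ∧ m 2 1 = 0) :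
    m = !![m 0 0, 0, 0; 0, m 1 1, 0; 0, 0, m 2 2] := by
  obtain ⟨h01, h02, h10, h12, h20, h21⟩ := h
  ext i j
  fin_cases i <;> fin_cases j <;> simp [h01, h02, h10, h12, h20, h21]

/-- the diagonal case of the core lemma -/
theorem core_diag (m : Matrix (Fin 3) (Fin 3) F) (hU : IsU m) (hdet : m.det = 1)
    (hZ : m * Zm ω hω = Zm ω hω * m) (a i j : Fin 3) (hX : m * Xm ω hω = HF ω hω a i j * m) :
    StabP m := by
  have hoff := offdiag_of_comm ω hω m hZ
  have hm := matrix_eq_diag m hoff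
  obtain ⟨h01, h02, h10, h12, h20, h21⟩ := hoff
  set d0 := m 0 0 with hd0
  set d1 := m 1 1 with hd1
  set d2 := m 2 2 with hd2
  set r := HF ω hω a i j with hr
  -- determinant
  have hprod : d0 * d1 * d2 = 1 := by
    have := hdet
    rw [hm, Matrix.det_fin_three] at this
    simpa using this
  have hd0n : d0 ≠ 0 := by
    rintro h; rw [h] at hprod; simp at hprod
  have hd1n : d1 ≠ 0 := by
    rintro h; rw [h] at hprod; simp at hprod
  have hd2n : d2 ≠ 0 := by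
    rintro h; rw [h] at hprod; simp at hprod
  -- the relation with X
  rw [Xm_eq] at hX
  have e := fun s t => congrFun (congrFun hX s) t
  have e02 := e 0 2
  have e10 := e 1 0
  have e21 := e 2 1
  simp only [Matrix.mul_apply, Fin.sum_univ_three] at e02 e10 e21
  rw [hm] at e02 e10 e21
  simp at e02 e10 e21
  -- e02 : d0 = r 0 2 * d2 etc.
  have c02 : (r 0 2) ^ 3 = 1 := by
    rcases HF_entry ω hω a i j 0 2 with h | h
    · exfalso; apply hd0n; rw [← hr] at h; rw [h] at e02; simpa using e02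
    · exact h
  have c10 : (r 1 0) ^ 3 = 1 := by
    rcases HF_entry ω hω a i j 1 0 with h | h
    · exfalso; apply hd1n; rw [← hr] at h; rw [h] at e10; simpa using e10
    · exact h
  have c21 : (r 2 1) ^ 3 = 1 := by
    rcases HF_entry ω hω a i j 2 1 with h | h
    · exfalso; apply hd2n; rw [← hr] at h; rw [h] at e21; simpa using e21
    · exact h
  have q02 : d0 ^ 3 = d2 ^ 3 := by
    rw [e02, mul_pow, c02, one_mul]
  have q10 : d1 ^ 3 = d0 ^ 3 := by
    rw [e10, mul_pow, c10, one_mul]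
  -- unitarity
  have hu0 : d0 * d0 ^ 5 = 1 := by
    have := hU (Pi.single 0 1) (Pi.single 0 1)
    rw [hm] at this
    simp [Cfsg.hermForm, Fin.sum_univ_three, mulVec3] at this
    simpa [hd0] using this
  have hε2 : (d0 ^ 3) ^ 2 = 1 := by linear_combination hu0
  have hε3 : (d0 ^ 3) ^ 3 = 1 := by
    have : (d0 * d1 * d2) ^ 3 = 1 := by rw [hprod, one_pow]
    rw [mul_pow, mul_pow, q10, ← q02] at this
    linear_combination this
  have hε : d0 ^ 3 = 1 := by linear_combination hε3 - (d0 ^ 3) * hε2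
  have hε1 : d1 ^ 3 = 1 := by rw [q10, hε]
  have hε2' : d2 ^ 3 = 1 := by rw [← q02, hε]
  refine ⟨1, one_ne_zero, fun v => ?_⟩
  have f0 : (m *ᵥ v) 0 = d0 * v 0 := by rw [mulVec3, h01, h02]; ring
  have f1 : (m *ᵥ v) 1 = d1 * v 1 := by rw [mulVec3, h10, h12]; ring
  have f2 : (m *ᵥ v) 2 = d2 * v 2 := by rw [mulVec3, h20, h21]; ring
  unfold PhiP
  rw [f0, f1, f2, one_mul]
  have g1 : s1' (d0 * v 0) (d1 * v 1) (d2 * v 2) = s1' (v 0) (v 1) (v 2) := by
    unfold s1'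
    rw [mul_pow, mul_pow, mul_pow, hε, hε1, hε2']
    ring
  have g2 : s2' (d0 * v 0) (d1 * v 1) (d2 * v 2) = s2' (v 0) (v 1) (v 2) := by
    unfold s2'
    linear_combination (v 0 * v 1 * v 2) * hprod
  have g3 : b1' (d0 * v 0) (d1 * v 1) (d2 * v 2) = b1' (v 0) (v 1) (v 2) := by
    unfold b1'
    linear_combination (v 0 ^ 6 * (d0 ^ 3 + 1)) * hε + (v 1 ^ 6 * (d1 ^ 3 + 1)) * hε1 +
      (v 2 ^ 6 * (d2 ^ 3 + 1)) * hε2'
  unfold PhiP'
  rw [g1, g2, g3]


/-! ### Reduction to the diagonal case -/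

theorem key_word (i j : Fin 3) (hij : ¬ (i = 0 ∧ j = 0)) :
    ∃ W : Matrix (Fin 3) (Fin 3) F, Good ω hω W ∧
      Xm ω hω ^ i.val * Zm ω hω ^ j.val * W = W * Zm ω hω := by
  have T : ∀ (WK : MK) (n1 n2 : ℕ), XK ^ n1 * ZK ^ n2 * WK = WK * ZK →
      Xm ω hω ^ n1 * Zm ω hω ^ n2 * tr ω hω WK = tr ω hω WK * Zm ω hω := by
    intro WK n1 n2 h
    have := congrArg (tr ω hω) h
    simpa [tr_mul, tr_pow, Xm, Zm] using this
  have gJ := good_J ω hω
  have g0 := good_q0 ω hω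
  have g1 := good_q1 ω hω
  fin_cases i <;> fin_cases j
  · exact absurd ⟨rfl, rfl⟩ hij
  · exact ⟨tr ω hω 1, by rw [tr_one]; exact Good.one ω hω, T 1 0 1 word01⟩
  · exact ⟨tr ω hω JK, gJ, T JK 0 2 word02⟩
  · exact ⟨tr ω hω q0K, g0, T q0K 1 0 word10⟩
  · exact ⟨tr ω hω q1K, g1, T q1K 1 1 word11⟩
  · refine ⟨tr ω hω (JK * q1K * q0K), ?_, T _ 1 2 word12⟩
    rw [tr_mul, tr_mul]
    exact Good.mul ω hω (Good.mul ω hω gJ g1) g0
  · refine ⟨tr ω hω (q0K * JK), ?_, T _ 2 0 word20⟩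
    rw [tr_mul]
    exact Good.mul ω hω g0 gJ
  · refine ⟨tr ω hω (q1K * q0K), ?_, T _ 2 1 word21⟩
    rw [tr_mul]
    exact Good.mul ω hω g1 g0
  · refine ⟨tr ω hω (JK * q1K), ?_, T _ 2 2 word22⟩
    rw [tr_mul]
    exact Good.mul ω hω gJ g1

theorem key_scal (a : Fin 3) :
    ∃ t : ℕ, (ω ^ a.val • Zm ω hω) * Xm ω hω ^ t = Xm ω hω ^ t * Zm ω hω := by
  obtain ⟨t, ht⟩ := scalK a
  refine ⟨t.val, ?_⟩
  have := congrArg (tr ω hω) ht
  simpa [tr_mul, tr_pow, tr_smul, map_pow, phi_wK, Xm, Zm] using this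

/-- **core lemma**: a unitary matrix of determinant one conjugating `Z` and `X` into the Heisenberg group
stabilises `PhiP` up to a scalar -/
theorem core (n : Matrix (Fin 3) (Fin 3) F) (hU : IsU n) (hdet : n.det = 1) (a i j : Fin 3)
    (hZ : n * Zm ω hω = HF ω hω a i j * n) (b k l : Fin 3) (hX : n * Xm ω hω = HF ω hω b k l * n) :
    StabP n := by
  have hunit : IsUnit n.det := by rw [hdet]; exact isUnit_one
  have hij : ¬ (i = 0 ∧ j = 0) := by
    rintro ⟨rfl, rfl⟩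
    rw [HF_scalar] at hZ
    have h1 : Zm ω hω = ω ^ a.val • (1 : Matrix (Fin 3) (Fin 3) F) := by
      have h2 := congrArg (fun M => n⁻¹ * M) hZ
      simp only [← Matrix.mul_assoc, Matrix.nonsing_inv_mul n hunit, Matrix.one_mul] at h2
      rw [h2]
      simp [Matrix.nonsing_inv_mul n hunit]
    rw [Zm_eq] at h1
    have e00 := congrFun (congrFun h1 0) 0
    have e11 := congrFun (congrFun h1 1) 1
    simp at e00 e11
    exact omega_ne_one ω hω (by rw [e11, ← e00])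
  obtain ⟨W, hW, hWZ⟩ := key_word ω hω i j hij
  obtain ⟨t, ht⟩ := key_scal ω hω a
  have hXt : Good ω hω (Xm ω hω ^ t) := Good.pow ω hω (good_X ω hω) t
  have hqG : Good ω hω (W * Xm ω hω ^ t) := Good.mul ω hω hW hXt
  have hqZ : HF ω hω a i j * (W * Xm ω hω ^ t) = (W * Xm ω hω ^ t) * Zm ω hω := by
    calc HF ω hω a i j * (W * Xm ω hω ^ t)
        = ω ^ a.val • ((Xm ω hω ^ i.val * Zm ω hω ^ j.val * W) * Xm ω hω ^ t) := by
          rw [HF_eq, Matrix.smul_mul, Matrix.mul_assoc, Matrix.mul_assoc, Matrix.mul_assoc]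
      _ = ω ^ a.val • ((W * Zm ω hω) * Xm ω hω ^ t) := by rw [hWZ]
      _ = W * ((ω ^ a.val • Zm ω hω) * Xm ω hω ^ t) := by
          rw [Matrix.smul_mul, Matrix.mul_smul, Matrix.mul_assoc]
      _ = W * (Xm ω hω ^ t * Zm ω hω) := by rw [ht]
      _ = (W * Xm ω hω ^ t) * Zm ω hω := by rw [Matrix.mul_assoc]
  obtain ⟨q, hq⟩ : ∃ q : Matrix (Fin 3) (Fin 3) F, q = W * Xm ω hω ^ t := ⟨_, rfl⟩
  rw [← hq] at hqG hqZ
  have hqu : IsUnit q.det := by rw [hqG.det]; exact isUnit_one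
  have hqi1 : q⁻¹ * q = 1 := Matrix.nonsing_inv_mul q hqu
  have hqi2 : q * q⁻¹ = 1 := Matrix.mul_nonsing_inv q hqu
  have hn : n = q * (q⁻¹ * n) := by rw [← Matrix.mul_assoc, hqi2, Matrix.one_mul]
  have hmU : IsU (q⁻¹ * n) := isU_mul (isU_of_mul_eq_one hqG.isU hqi2) hU
  have hmdet : (q⁻¹ * n).det = 1 := by
    have h1 : (q⁻¹).det * q.det = 1 := by rw [← Matrix.det_mul, hqi1, Matrix.det_one]
    rw [hqG.det, mul_one] at h1
    rw [Matrix.det_mul, h1, hdet, one_mul]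
  have hmZ : (q⁻¹ * n) * Zm ω hω = Zm ω hω * (q⁻¹ * n) := by
    calc (q⁻¹ * n) * Zm ω hω = q⁻¹ * (HF ω hω a i j * n) := by rw [Matrix.mul_assoc, hZ]
      _ = q⁻¹ * (HF ω hω a i j * (q * (q⁻¹ * n))) := by rw [← hn]
      _ = q⁻¹ * ((HF ω hω a i j * q) * (q⁻¹ * n)) := by rw [Matrix.mul_assoc]
      _ = (q⁻¹ * q) * (Zm ω hω * (q⁻¹ * n)) := by rw [hqZ, Matrix.mul_assoc, Matrix.mul_assoc]
      _ = Zm ω hω * (q⁻¹ * n) := by rw [hqi1, Matrix.one_mul]
  obtain ⟨b', k', l', hn'⟩ := hqG.norm b k l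
  have hmX : (q⁻¹ * n) * Xm ω hω = HF ω hω b' k' l' * (q⁻¹ * n) := by
    calc (q⁻¹ * n) * Xm ω hω = q⁻¹ * (HF ω hω b k l * n) := by rw [Matrix.mul_assoc, hX]
      _ = q⁻¹ * (HF ω hω b k l * (q * (q⁻¹ * n))) := by rw [← hn]
      _ = q⁻¹ * ((HF ω hω b k l * q) * (q⁻¹ * n)) := by rw [Matrix.mul_assoc]
      _ = (q⁻¹ * q) * (HF ω hω b' k' l' * (q⁻¹ * n)) := by rw [hn', Matrix.mul_assoc, Matrix.mul_assoc]
      _ = HF ω hω b' k' l' * (q⁻¹ * n) := by rw [hqi1, Matrix.one_mul]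
  have hm := core_diag ω hω (q⁻¹ * n) hmU hmdet hmZ b' k' l' hmX
  rw [hn]
  exact stabP_mul hqG.stab hm

/-! ### The two witnesses -/

theorem g_not_norm : ¬ ∃ a i j : Fin 3, tr ω hω gK * Zm ω hω = HF ω hω a i j * tr ω hω gK := by
  rintro ⟨a, i, j, h⟩
  unfold Zm HF at h
  rw [← tr_mul, ← tr_mul] at h
  exact g_not_normK a i j (tr_injective ω hω h)

theorem h_not_stab : ¬ StabP (tr ω hω hK) := by
  rintro ⟨ε, hε, h⟩
  have h1 := h ![0, 1, 1]
  have e0 : (tr ω hω hK *ᵥ ![0, 1, 1]) 0 = 0 := by simp [mulVec3, tr_apply, hK, phi_four]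
  have e1 : (tr ω hω hK *ᵥ ![0, 1, 1]) 1 = 4 := by simp [mulVec3, tr_apply, hK, phi_four]
  have e2 : (tr ω hω hK *ᵥ ![0, 1, 1]) 2 = 1 := by simp [mulVec3, tr_apply, hK]
  unfold PhiP at h1
  rw [e0, e1, e2] at h1
  have l1 : PhiP' (0 : F) 4 1 = 52470275 := by
    unfold PhiP' phi4 psi2 s1' s2' b1'
    norm_num
  have l2 : PhiP' ((![0, 1, 1] : Fin 3 → F) 0) ((![0, 1, 1] : Fin 3 → F) 1) ((![0, 1, 1] : Fin 3 → F) 2)
      = 32 := by
    unfold PhiP' phi4 psi2 s1' s2' b1'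
    simp
    norm_num
  rw [l1, l2] at h1
  have h5 := five_eq_zero (F := F)
  have h2 : ε * 2 = 0 := by linear_combination (-1 : F) * h1 + (10494055 - ε * 6) * h5
  rcases mul_eq_zero.mp h2 with h3 | h3
  · exact hε h3
  · have : (1 : F) = 0 := by linear_combination (-2 : F) * h3 + h5
    exact one_ne_zero this


end

end Cfsg.Agent.Lib.Helper1.SU3C6
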