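import Mathlib
import Cfsg.Prelude.Def_GeometricClasses
import Cfsg.Agent.Lib.Helper1.SU3C6C

set_option autoImplicit false
set_option linter.unusedSectionVars false
set_option linter.unusedVariables false
set_option linter.style.haveILetI false

/-!
# `3^{1+2} : Q_8 < 3.M_10 < SU_3(5)` (leaf E5), part D: normalisation of the group `R`

Field facts for `|F| = 25`; elements of order 3 of the similarity group are unitary; commutators of `R` are scalar
cube roots of unity; an orthonormal eigenframe `v, yv, y²v`; the shape lemma (a matrix of order 3 commuting with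
`Z`, `X` up to cube roots of unity is in the Heisenberg group).
-/

namespace Cfsg.Agent.Lib.Helper1.SU3C6

open Cfsg.Geo Matrix



section field

variable {F : Type*} [Field F] [Fintype F]

theorem charP5 (hF : Fintype.card F = 5 ^ 2) : CharP F 5 := by
  obtain ⟨p, hp⟩ := CharP.exists F
  haveI := hp
  obtain ⟨n, hpp, hcard⟩ := FiniteField.card F p
  have hdvd : p ∣ 5 ^ 2 := by
    rw [← hF, hcard]
    exact dvd_pow_self p n.ne_zero
  have h5 : p = 5 := (Nat.prime_dvd_prime_iff_eq hpp (by norm_num)).mp (hpp.dvd_of_dvd_pow hdvd)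
  subst h5
  exact hp

theorem pow25 (hF : Fintype.card F = 5 ^ 2) (a : F) : a ^ 25 = a := by
  have h := FiniteField.pow_card a
  rw [hF] at h
  simpa using h

theorem pow6_fixed (hF : Fintype.card F = 5 ^ 2) (a : F) : (a ^ 6) ^ 5 = a ^ 6 := by
  have h := pow25 hF a
  calc (a ^ 6) ^ 5 = a ^ 25 * a ^ 5 := by ring
    _ = a * a ^ 5 := by rw [h]
    _ = a ^ 6 := by ring

/-- the norm `c ↦ c * c ^ 5` is onto the fixed field of `x ↦ x ^ 5` -/
theorem exists_norm_eq (hF : Fintype.card F = 5 ^ 2) {μ : F} (hμ0 : μ ≠ 0) (hμ : μ ^ 5 = μ) :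
    ∃ c : F, c * c ^ 5 = μ := by
  classical
  obtain ⟨g, hg⟩ := IsCyclic.exists_generator (α := Fˣ)
  have hord : orderOf g = 24 := by
    rw [orderOf_eq_card_of_forall_mem_zpowers hg, Nat.card_eq_fintype_card, Fintype.card_units, hF]
    norm_num
  let u : Fˣ := Units.mk0 μ hμ0
  have hu4 : u ^ 4 = 1 := by
    apply Units.ext
    simp only [Units.val_pow_eq_pow_val, Units.val_one, u, Units.val_mk0]
    have h1 : μ * μ ^ 4 = μ * 1 := by rw [mul_one]; linear_combination hμ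
    exact mul_left_cancel₀ hμ0 h1
  obtain ⟨k, hk⟩ := Subgroup.mem_zpowers_iff.mp (hg u)
  have h4k : g ^ (k * 4) = 1 := by rw [_root_.zpow_mul, hk]; exact_mod_cast hu4
  have hdvd : (24 : ℤ) ∣ k * 4 := by
    have := (orderOf_dvd_iff_zpow_eq_one).mpr h4k
    rwa [hord] at this
  obtain ⟨m, hm⟩ : (6 : ℤ) ∣ k := by omega
  refine ⟨((g ^ m : Fˣ) : F), ?_⟩
  have h6 : (g ^ m) ^ 6 = u := by
    rw [← hk, hm, ← zpow_natCast, ← _root_.zpow_mul]
    congr 1
    ring
  have := congrArg (fun x : Fˣ => (x : F)) h6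
  simp only [Units.val_pow_eq_pow_val, u, Units.val_mk0] at this
  rw [← this]
  ring

end field



section herm

variable {F : Type*} [Field F]

theorem herm_smul_smul (c d : F) (u v : Fin 3 → F) :
    Cfsg.hermForm 3 F 5 (c • u) (d • v) = c * d ^ 5 * Cfsg.hermForm 3 F 5 u v := by
  unfold Cfsg.hermForm
  simp only [Fin.sum_univ_three, Pi.smul_apply, smul_eq_mul, mul_pow]
  ring

variable [Fintype F]

theorem herm_self_fixed [CharP F 5] (hF : Fintype.card F = 5 ^ 2) (w : Fin 3 → F) :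
    (Cfsg.hermForm 3 F 5 w w) ^ 5 = Cfsg.hermForm 3 F 5 w w := by
  rw [← b1_eq_herm]
  unfold b1'
  rw [frob3, pow6_fixed hF, pow6_fixed hF, pow6_fixed hF]

/-- an element of order dividing 3 of the similarity group is unitary -/
theorem isU_of_similarity [CharP F 5] (hF : Fintype.card F = 5 ^ 2) (x : GL (Fin 3) F)
    (hx : x ∈ similarityGroup (Cfsg.hermForm 3 F 5))
    (hx3 : (x : Matrix (Fin 3) (Fin 3) F) * (x : Matrix (Fin 3) (Fin 3) F) * (x : Matrix (Fin 3) (Fin 3) F) = 1) :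
    IsU (x : Matrix (Fin 3) (Fin 3) F) := by
  obtain ⟨μ, hμ⟩ := hx
  set A := (x : Matrix (Fin 3) (Fin 3) F) with hA
  let e : Fin 3 → F := Pi.single 0 1
  have he : Cfsg.hermForm 3 F 5 e e = 1 := by
    simp [Cfsg.hermForm, Fin.sum_univ_three, e]
  have hμ0 : (μ : F) ≠ 0 := μ.ne_zero
  have h3 : (μ : F) ^ 3 = 1 := by
    have h1 := hμ (A *ᵥ (A *ᵥ e)) (A *ᵥ (A *ᵥ e))
    rw [hμ (A *ᵥ e) (A *ᵥ e), hμ e e, he] at h1
    rw [Matrix.mulVec_mulVec, Matrix.mulVec_mulVec, hx3, Matrix.one_mulVec, he] at h1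
    linear_combination (-1 : F) * h1
  have h5 : (μ : F) ^ 5 = μ := by
    have h1 := hμ e e
    rw [he, mul_one] at h1
    rw [← h1]
    exact herm_self_fixed hF _
  have h1 : (μ : F) = 1 := by
    have h2 : (μ : F) * ((μ : F) - 1) = 0 := by
      linear_combination h5 - (μ : F) ^ 2 * h3
    rcases mul_eq_zero.mp h2 with h | h
    · exact absurd h hμ0
    · exact sub_eq_zero.mp h
  intro u v
  rw [hμ, h1, one_mul]

end herm



section group

theorem comm_mem_center {G : Type*} [Group G] (hG : Nat.card G = 27)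
    (hZ : Nat.card (Subgroup.center G) = 3) (a b : G) :
    (b * a)⁻¹ * (a * b) ∈ Subgroup.center G := by
  have hQ : Nat.card (G ⧸ Subgroup.center G) = 3 ^ 2 := by
    have := Subgroup.card_eq_card_quotient_mul_card_subgroup (Subgroup.center G)
    rw [hG, hZ] at this
    omega
  haveI : Fact (Nat.Prime 3) := ⟨by norm_num⟩
  have hc := (IsPGroup.isMulCommutative_of_card_eq_prime_sq (p := 3) hQ).is_comm.comm
  have h1 := hc (QuotientGroup.mk a) (QuotientGroup.mk b)
  rw [← QuotientGroup.mk_mul, ← QuotientGroup.mk_mul] at h1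
  exact QuotientGroup.eq.mp h1.symm

theorem exists_noncomm {G : Type*} [Group G] (hG : Nat.card G = 27)
    (hZ : Nat.card (Subgroup.center G) = 3) : ∃ a b : G, a * b ≠ b * a := by
  by_contra h
  push Not at h
  have htop : Subgroup.center G = ⊤ := by
    ext z
    simp only [Subgroup.mem_center_iff, Subgroup.mem_top, iff_true]
    intro g
    exact h g z
  rw [htop, Subgroup.card_top] at hZ
  omega

variable {F : Type*} [Field F] (R : Subgroup (GL (Fin 3) F))

theorem central_scalar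
    (habs2 : ∀ M : Matrix (Fin 3) (Fin 3) F, (∀ s ∈ matrixSet R, M * s = s * M) → ∃ c : F, M = c • 1)
    (z : R) (hz : z ∈ Subgroup.center R) :
    ∃ c : F, ((z : GL (Fin 3) F) : Matrix (Fin 3) (Fin 3) F) = c • 1 := by
  apply habs2
  rintro s ⟨r, hr, rfl⟩
  have h1 := Subgroup.mem_center_iff.mp hz ⟨r, hr⟩
  have h2 := congrArg (fun w : R => ((w : GL (Fin 3) F) : Matrix (Fin 3) (Fin 3) F)) h1
  simpa using h2.symm

theorem comm_scalar (hcard : Nat.card R = 27) (hcen : Nat.card (Subgroup.center R) = 3)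
    (hexp : ∀ r : R, r ^ 3 = 1)
    (habs2 : ∀ M : Matrix (Fin 3) (Fin 3) F, (∀ s ∈ matrixSet R, M * s = s * M) → ∃ c : F, M = c • 1)
    (r s : GL (Fin 3) F) (hr : r ∈ R) (hs : s ∈ R) :
    ∃ c : F, c ^ 3 = 1 ∧ (r : Matrix (Fin 3) (Fin 3) F) * (s : Matrix (Fin 3) (Fin 3) F) =
      c • ((s : Matrix (Fin 3) (Fin 3) F) * (r : Matrix (Fin 3) (Fin 3) F)) := by
  have hz := comm_mem_center hcard hcen (⟨r, hr⟩ : R) ⟨s, hs⟩
  obtain ⟨c, hc⟩ := central_scalar R habs2 _ hz
  have hz' : (((s * r)⁻¹ * (r * s) : GL (Fin 3) F) : Matrix (Fin 3) (Fin 3) F) = c • 1 := hc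
  have h3 := hexp (((⟨s, hs⟩ : R) * ⟨r, hr⟩)⁻¹ * (⟨r, hr⟩ * ⟨s, hs⟩))
  have h4 : (((s * r)⁻¹ * (r * s) : GL (Fin 3) F) : Matrix (Fin 3) (Fin 3) F) ^ 3 = 1 := by
    have := congrArg (fun w : R => ((w : GL (Fin 3) F) : Matrix (Fin 3) (Fin 3) F)) h3
    simpa using this
  rw [hz'] at h4
  refine ⟨c, ?_, ?_⟩
  · have h5 := congrFun (congrFun h4 0) 0
    simpa [smul_pow] using h5
  · have h1 : r * s = (s * r) * ((s * r)⁻¹ * (r * s)) := by group
    calc (r : Matrix (Fin 3) (Fin 3) F) * (s : Matrix (Fin 3) (Fin 3) F)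
        = ((r * s : GL (Fin 3) F) : Matrix (Fin 3) (Fin 3) F) := rfl
      _ = (((s * r) * ((s * r)⁻¹ * (r * s)) : GL (Fin 3) F) : Matrix (Fin 3) (Fin 3) F) := by rw [← h1]
      _ = ((s * r : GL (Fin 3) F) : Matrix (Fin 3) (Fin 3) F) *
            (((s * r)⁻¹ * (r * s) : GL (Fin 3) F) : Matrix (Fin 3) (Fin 3) F) := rfl
      _ = ((s : Matrix (Fin 3) (Fin 3) F) * (r : Matrix (Fin 3) (Fin 3) F)) * (c • 1) := by rw [hz']; rfl
      _ = c • ((s : Matrix (Fin 3) (Fin 3) F) * (r : Matrix (Fin 3) (Fin 3) F)) := by simp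

end group



section frame

variable {F : Type*} [Field F] [CharP F 5] (ω : F) (hω : ω ^ 2 + ω + 1 = 0)

include hω

/-- a fixed vector of `A` -/
theorem exists_fixed_vec (A B : Matrix (Fin 3) (Fin 3) F) (hA3 : A * A * A = 1) (hB3 : B * B * B = 1)
    (hAB : A * B = ω • (B * A)) : ∃ v : Fin 3 → F, v ≠ 0 ∧ A *ᵥ v = v := by
  have hA2B : A * A * B = (ω ^ 2) • (B * (A * A)) := by
    rw [Matrix.mul_assoc, hAB, Matrix.mul_smul, ← Matrix.mul_assoc, hAB, Matrix.smul_mul, smul_smul,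
      Matrix.mul_assoc]
    congr 1
    ring
  have hS : ∀ c : F, (1 + c • A + c ^ 2 • (A * A)) * B =
      B * (1 + (c * ω) • A + (c * ω) ^ 2 • (A * A)) := by
    intro c
    simp only [add_mul, mul_add, Matrix.one_mul, Matrix.mul_one, Matrix.smul_mul, Matrix.mul_smul, hAB, hA2B,
      smul_smul]
    congr 2
    ring
  have hBcancel : ∀ M : Matrix (Fin 3) (Fin 3) F, B * M = 0 → M = 0 := by
    intro M hM
    have : B * B * (B * M) = 0 := by rw [hM, Matrix.mul_zero]
    rw [← Matrix.mul_assoc, hB3, Matrix.one_mul] at this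
    exact this
  by_cases h : (1 + (1 : F) • A + (1 : F) ^ 2 • (A * A)) = 0
  · exfalso
    have h1 : (1 + ((1 : F) * ω) • A + ((1 : F) * ω) ^ 2 • (A * A)) = 0 := by
      apply hBcancel
      rw [← hS 1, h, Matrix.zero_mul]
    have h2 : (1 + ((1 : F) * ω * ω) • A + ((1 : F) * ω * ω) ^ 2 • (A * A)) = 0 := by
      apply hBcancel
      rw [← hS ((1 : F) * ω), h1, Matrix.zero_mul]
    have hsum : (3 : F) • (1 : Matrix (Fin 3) (Fin 3) F) = 0 := by
      have e1 : (1 : F) + 1 * ω + 1 * ω * ω = 0 := by linear_combination hω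
      have e2 : (1 : F) ^ 2 + (1 * ω) ^ 2 + (1 * ω * ω) ^ 2 = 0 := by
        linear_combination (ω ^ 2 - ω + 1) * hω
      calc (3 : F) • (1 : Matrix (Fin 3) (Fin 3) F)
          = (1 + (1 : F) • A + (1 : F) ^ 2 • (A * A)) + (1 + ((1 : F) * ω) • A + ((1 : F) * ω) ^ 2 • (A * A))
            + (1 + ((1 : F) * ω * ω) • A + ((1 : F) * ω * ω) ^ 2 • (A * A))
            - ((1 : F) + 1 * ω + 1 * ω * ω) • A - ((1 : F) ^ 2 + (1 * ω) ^ 2 + (1 * ω * ω) ^ 2) • (A * A) := by
            module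
        _ = 0 := by rw [h, h1, h2, e1, e2]; simp
    have h3 := congrFun (congrFun hsum 0) 0
    simp at h3
    have h5 := five_eq_zero (F := F)
    have : (1 : F) = 0 := by linear_combination 2 * h3 - h5
    exact one_ne_zero this
  · obtain ⟨i, j, hij⟩ : ∃ i j, (1 + (1 : F) • A + (1 : F) ^ 2 • (A * A)) i j ≠ 0 := by
      by_contra hcon
      push Not at hcon
      apply h
      ext i j
      exact hcon i j
    refine ⟨(1 + (1 : F) • A + (1 : F) ^ 2 • (A * A)) *ᵥ Pi.single j 1, ?_, ?_⟩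
    · intro h0
      have := congrFun h0 i
      simp only [Matrix.mulVec_single_one, Pi.zero_apply] at this
      exact hij this
    · rw [Matrix.mulVec_mulVec]
      congr 1
      simp only [one_smul, one_pow, mul_add, Matrix.mul_one]
      rw [← Matrix.mul_assoc, hA3]
      abel

end frame



section frame

variable {F : Type*} [Field F] [CharP F 5] (ω : F) (hω : ω ^ 2 + ω + 1 = 0)

include hω

/-- the matrix of an eigenbasis `v, Bv, B²v` -/
theorem exists_eigen_frame (A B : Matrix (Fin 3) (Fin 3) F) (hA3 : A * A * A = 1) (hB3 : B * B * B = 1)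
    (hAB : A * B = ω • (B * A)) (hAU : IsU A) (hBU : IsU B) (v : Fin 3 → F) (hv0 : v ≠ 0)
    (hv : A *ᵥ v = v) :
    ∃ P : Matrix (Fin 3) (Fin 3) F, IsUnit P ∧ A * P = P * Zm ω hω ∧ B * P = P * Xm ω hω ∧
      P.transpose * P.map (fun x => x ^ 5) = Cfsg.hermForm 3 F 5 v v • (1 : Matrix (Fin 3) (Fin 3) F) := by
  have w3 := omega_cube ω hω
  obtain ⟨v1, hv1d⟩ : ∃ v1 : Fin 3 → F, B *ᵥ v = v1 := ⟨_, rfl⟩
  obtain ⟨v2, hv2d⟩ : ∃ v2 : Fin 3 → F, B *ᵥ v1 = v2 := ⟨_, rfl⟩
  have hv1 : A *ᵥ v1 = ω • v1 := by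
    rw [← hv1d, Matrix.mulVec_mulVec, hAB, Matrix.smul_mulVec, ← Matrix.mulVec_mulVec, hv]
  have hv2 : A *ᵥ v2 = ω ^ 2 • v2 := by
    rw [← hv2d, Matrix.mulVec_mulVec, hAB, Matrix.smul_mulVec, ← Matrix.mulVec_mulVec, hv1, Matrix.mulVec_smul,
      smul_smul]
    congr 1
    ring
  have hB3v : B *ᵥ v2 = v := by
    rw [← hv2d, ← hv1d, Matrix.mulVec_mulVec, Matrix.mulVec_mulVec, hB3, Matrix.one_mulVec]
  have hBinj : ∀ u : Fin 3 → F, B *ᵥ u = 0 → u = 0 := by
    intro u hu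
    have : (B * B * B) *ᵥ u = 0 := by
      rw [← Matrix.mulVec_mulVec, hu, Matrix.mulVec_zero]
    rwa [hB3, Matrix.one_mulVec] at this
  have hv1n : v1 ≠ 0 := fun h => hv0 (hBinj v (hv1d.trans h))
  have hv2n : v2 ≠ 0 := fun h => hv1n (hBinj _ (hv2d.trans h))
  obtain ⟨vs, hvs⟩ : ∃ vs : Fin 3 → (Fin 3 → F), vs = ![v, v1, v2] := ⟨_, rfl⟩
  have hvs0 : vs 0 = v := by rw [hvs]; rfl
  have hvs1 : vs 1 = v1 := by rw [hvs]; rfl
  have hvs2 : vs 2 = v2 := by rw [hvs]; rfl
  obtain ⟨P, hP⟩ : ∃ P : Matrix (Fin 3) (Fin 3) F, P = Matrix.of (fun i k => vs k i) := ⟨_, rfl⟩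
  have hPe : ∀ i k, P i k = vs k i := by intro i k; rw [hP]; rfl
  have hcol : P.col = vs := by
    funext k i
    exact hPe i k
  have hmulcol : ∀ (M : Matrix (Fin 3) (Fin 3) F) (i k : Fin 3), (M * P) i k = (M *ᵥ vs k) i := by
    intro M i k
    simp only [Matrix.mul_apply, Matrix.mulVec, dotProduct, hPe]
  refine ⟨P, ?_, ?_, ?_, ?_⟩
  · -- invertibility: eigenvectors for distinct eigenvalues
    rw [← Matrix.linearIndependent_cols_iff_isUnit, hcol]
    have n1 := omega_ne_one ω hω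
    have n2 := omega_sq_ne_one ω hω
    have n3 := omega_sq_ne ω hω
    have hμ : Function.Injective ![(1 : F), ω, ω ^ 2] := by
      intro a b hab
      fin_cases a <;> fin_cases b
      · rfl
      · exact absurd (show ω = 1 from hab.symm) n1
      · exact absurd (show ω ^ 2 = 1 from hab.symm) n2
      · exact absurd (show ω = 1 from hab) n1
      · rfl
      · exact absurd (show ω ^ 2 = ω from hab.symm) n3
      · exact absurd (show ω ^ 2 = 1 from hab) n2
      · exact absurd (show ω ^ 2 = ω from hab) n3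
      · rfl
    refine Module.End.eigenvectors_linearIndependent' (Matrix.toLin' A) ![(1 : F), ω, ω ^ 2] hμ vs ?_
    intro k
    rw [Module.End.hasEigenvector_iff, Module.End.mem_eigenspace_iff, Matrix.toLin'_apply]
    fin_cases k
    · refine ⟨?_, ?_⟩
      · show A *ᵥ vs 0 = (1 : F) • vs 0
        rw [hvs0, one_smul, hv]
      · show vs 0 ≠ 0
        rw [hvs0]; exact hv0
    · refine ⟨?_, ?_⟩
      · show A *ᵥ vs 1 = ω • vs 1
        rw [hvs1, hv1]
      · show vs 1 ≠ 0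
        rw [hvs1]; exact hv1n
    · refine ⟨?_, ?_⟩
      · show A *ᵥ vs 2 = ω ^ 2 • vs 2
        rw [hvs2, hv2]
      · show vs 2 ≠ 0
        rw [hvs2]; exact hv2n
  · ext i k
    rw [hmulcol, Zm_eq]
    fin_cases k
    · show (A *ᵥ vs 0) i = _
      rw [hvs0, hv]
      simp [Matrix.mul_apply, Fin.sum_univ_three, hPe, hvs0]
    · show (A *ᵥ vs 1) i = _
      rw [hvs1, hv1]
      simp [Matrix.mul_apply, Fin.sum_univ_three, hPe, hvs1]
      ring
    · show (A *ᵥ vs 2) i = _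
      rw [hvs2, hv2]
      simp [Matrix.mul_apply, Fin.sum_univ_three, hPe, hvs2]
      ring
  · ext i k
    rw [hmulcol, Xm_eq]
    fin_cases k
    · show (B *ᵥ vs 0) i = _
      rw [hvs0, hv1d]
      simp [Matrix.mul_apply, Fin.sum_univ_three, hPe, hvs1]
    · show (B *ᵥ vs 1) i = _
      rw [hvs1, hv2d]
      simp [Matrix.mul_apply, Fin.sum_univ_three, hPe, hvs2]
    · show (B *ᵥ vs 2) i = _
      rw [hvs2, hB3v]
      simp [Matrix.mul_apply, Fin.sum_univ_three, hPe, hvs0]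
  · -- the Gram matrix
    have hG : ∀ k l : Fin 3, (P.transpose * P.map (fun x => x ^ 5)) k l = Cfsg.hermForm 3 F 5 (vs k) (vs l) := by
      intro k l
      simp only [Matrix.mul_apply, Cfsg.hermForm, Matrix.transpose_apply, Matrix.map_apply, hPe]
    have horth : ∀ (u w : Fin 3 → F) (a b : F), A *ᵥ u = a • u → A *ᵥ w = b • w → a * b ^ 5 ≠ 1 →
        Cfsg.hermForm 3 F 5 u w = 0 := by
      intro u w a b hu hw hab
      have h1 := hAU u w
      rw [hu, hw, herm_smul_smul] at h1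
      have h2 : (a * b ^ 5 - 1) * Cfsg.hermForm 3 F 5 u w = 0 := by linear_combination h1
      rcases mul_eq_zero.mp h2 with h | h
      · exact absurd (sub_eq_zero.mp h) hab
      · exact h
    have hv0' : A *ᵥ v = (1 : F) • v := by rw [one_smul, hv]
    have n1 := omega_ne_one ω hω
    have n2 := omega_sq_ne_one ω hω
    have p5 : ω ^ 5 = ω ^ 2 := by linear_combination (ω ^ 2) * w3
    have h01 := horth v v1 1 ω hv0' hv1 (by rw [one_mul, p5]; exact n2)
    have h02 := horth v v2 1 (ω ^ 2) hv0' hv2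
      (by rw [one_mul]; intro h; apply n1; linear_combination h - (ω ^ 7 + ω ^ 4 + ω) * w3)
    have h10 := horth v1 v ω 1 hv1 hv0' (by rw [one_pow, mul_one]; exact n1)
    have h12 := horth v1 v2 ω (ω ^ 2) hv1 hv2
      (by intro h; apply n2; linear_combination h - (ω ^ 8 + ω ^ 5 + ω ^ 2) * w3)
    have h20 := horth v2 v (ω ^ 2) 1 hv2 hv0' (by rw [one_pow, mul_one]; exact n2)
    have h21 := horth v2 v1 (ω ^ 2) ω hv2 hv1
      (by intro h; apply n1; linear_combination h - (ω ^ 4 + ω) * w3)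
    have h11 : Cfsg.hermForm 3 F 5 v1 v1 = Cfsg.hermForm 3 F 5 v v := by rw [← hv1d]; exact hBU v v
    have h22 : Cfsg.hermForm 3 F 5 v2 v2 = Cfsg.hermForm 3 F 5 v v := by rw [← hv2d, hBU, h11]
    ext k l
    rw [hG]
    fin_cases k <;> fin_cases l
    · show Cfsg.hermForm 3 F 5 (vs 0) (vs 0) = _
      rw [hvs0]; simp
    · show Cfsg.hermForm 3 F 5 (vs 0) (vs 1) = _
      rw [hvs0, hvs1, h01]; simp
    · show Cfsg.hermForm 3 F 5 (vs 0) (vs 2) = _
      rw [hvs0, hvs2, h02]; simp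
    · show Cfsg.hermForm 3 F 5 (vs 1) (vs 0) = _
      rw [hvs0, hvs1, h10]; simp
    · show Cfsg.hermForm 3 F 5 (vs 1) (vs 1) = _
      rw [hvs1, h11]; simp
    · show Cfsg.hermForm 3 F 5 (vs 1) (vs 2) = _
      rw [hvs1, hvs2, h12]; simp
    · show Cfsg.hermForm 3 F 5 (vs 2) (vs 0) = _
      rw [hvs0, hvs2, h20]; simp
    · show Cfsg.hermForm 3 F 5 (vs 2) (vs 1) = _
      rw [hvs1, hvs2, h21]; simp
    · show Cfsg.hermForm 3 F 5 (vs 2) (vs 2) = _
      rw [hvs2, h22]; simp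

end frame



set_option maxRecDepth 100000 in
theorem ZK_HK : ∀ i j : Fin 3, ZK * HK 0 i j = wK ^ i.val • (HK 0 i j * ZK) := by decide +kernel

set_option maxRecDepth 100000 in
theorem HK_XK : ∀ i j : Fin 3, HK 0 i j * XK = wK ^ j.val • (XK * HK 0 i j) := by decide +kernel

set_option maxRecDepth 100000 in
theorem smul_HK : ∀ a b i j : Fin 3, wK ^ a.val • HK b i j = HK (a + b) i j := by decide +kernel

section shape

variable {F : Type*} [Field F] [CharP F 5] (ω : F) (hω : ω ^ 2 + ω + 1 = 0)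

include hω

theorem Zm_HF (i j : Fin 3) :
    Zm ω hω * HF ω hω 0 i j = ω ^ i.val • (HF ω hω 0 i j * Zm ω hω) := by
  have := congrArg (tr ω hω) (ZK_HK i j)
  simpa [tr_mul, tr_smul, map_pow, phi_wK, Zm, HF] using this

theorem HF_Xm (i j : Fin 3) :
    HF ω hω 0 i j * Xm ω hω = ω ^ j.val • (Xm ω hω * HF ω hω 0 i j) := by
  have := congrArg (tr ω hω) (HK_XK i j)
  simpa [tr_mul, tr_smul, map_pow, phi_wK, Xm, HF] using this

theorem smul_HF (a b i j : Fin 3) : ω ^ a.val • HF ω hω b i j = HF ω hω (a + b) i j := by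
  have := congrArg (tr ω hω) (smul_HK a b i j)
  simpa [tr_smul, map_pow, phi_wK, HF] using this

theorem exists_pow_eq {c : F} (hc : c ^ 3 = 1) : ∃ a : Fin 3, ω ^ a.val = c := by
  rcases cube_root_cases ω hω hc with h | h | h
  · exact ⟨0, by simp [h]⟩
  · exact ⟨1, by simp [h]⟩
  · exact ⟨2, by simp [h]⟩

theorem exists_pow_mul_eq_one {c : F} (hc : c ^ 3 = 1) : ∃ a : Fin 3, ω ^ a.val * c = 1 := by
  have w3 := omega_cube ω hω
  rcases cube_root_cases ω hω hc with h | h | h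
  · exact ⟨0, by simp [h]⟩
  · exact ⟨2, by rw [h]; show ω ^ 2 * ω = 1; linear_combination w3⟩
  · exact ⟨1, by rw [h]; show ω ^ 1 * ω ^ 2 = 1; linear_combination w3⟩

/-- a matrix of order 3 commuting with `Z` and `X` up to cube roots of unity lies in the Heisenberg group -/
theorem shape (C : Matrix (Fin 3) (Fin 3) F) (l1 l2 : F) (h1 : l1 ^ 3 = 1) (h2 : l2 ^ 3 = 1)
    (hZ : C * Zm ω hω = l1 • (Zm ω hω * C)) (hX : C * Xm ω hω = l2 • (Xm ω hω * C))
    (h3 : C * C * C = 1) : ∃ a i j : Fin 3, C = HF ω hω a i j := by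
  obtain ⟨i, hi⟩ := exists_pow_eq ω hω h1
  obtain ⟨j, hj⟩ := exists_pow_mul_eq_one ω hω h2
  obtain ⟨h, hh⟩ : ∃ h : Matrix (Fin 3) (Fin 3) F, h = HF ω hω 0 i j := ⟨_, rfl⟩
  have hhZ : Zm ω hω * h = ω ^ i.val • (h * Zm ω hω) := by rw [hh]; exact Zm_HF ω hω i j
  have hhX : h * Xm ω hω = ω ^ j.val • (Xm ω hω * h) := by rw [hh]; exact HF_Xm ω hω i j
  have hh3 : h * h * h = 1 := by rw [hh]; exact HF_cube ω hω 0 i j
  -- Z C = l1² • C Z
  have hZ' : Zm ω hω * C = l1 ^ 2 • (C * Zm ω hω) := by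
    rw [hZ, smul_smul]
    have : l1 ^ 2 * l1 = 1 := by linear_combination h1
    rw [this, one_smul]
  have hcZ : (C * h) * Zm ω hω = Zm ω hω * (C * h) := by
    symm
    calc Zm ω hω * (C * h) = (Zm ω hω * C) * h := by rw [Matrix.mul_assoc]
      _ = l1 ^ 2 • (C * (Zm ω hω * h)) := by rw [hZ', Matrix.smul_mul, Matrix.mul_assoc]
      _ = (l1 ^ 2 * ω ^ i.val) • (C * h * Zm ω hω) := by
          rw [hhZ, Matrix.mul_smul, smul_smul, Matrix.mul_assoc]
      _ = (C * h) * Zm ω hω := by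
          have : l1 ^ 2 * ω ^ i.val = 1 := by rw [hi]; linear_combination h1
          rw [this, one_smul]
  have hcX : (C * h) * Xm ω hω = Xm ω hω * (C * h) := by
    calc (C * h) * Xm ω hω = C * (h * Xm ω hω) := by rw [Matrix.mul_assoc]
      _ = ω ^ j.val • ((C * Xm ω hω) * h) := by rw [hhX, Matrix.mul_smul, Matrix.mul_assoc]
      _ = (ω ^ j.val * l2) • (Xm ω hω * (C * h)) := by
          rw [hX, Matrix.smul_mul, smul_smul, Matrix.mul_assoc]
      _ = Xm ω hω * (C * h) := by rw [hj, one_smul]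
  obtain ⟨D, hD⟩ : ∃ D : Matrix (Fin 3) (Fin 3) F, D = C * h := ⟨_, rfl⟩
  rw [← hD] at hcZ hcX
  have hoff := offdiag_of_comm ω hω D hcZ
  have hm := matrix_eq_diag D hoff
  rw [Xm_eq] at hcX
  have e10 := congrFun (congrFun hcX 1) 0
  have e21 := congrFun (congrFun hcX 2) 1
  simp only [Matrix.mul_apply, Fin.sum_univ_three] at e10 e21
  simp at e10 e21
  -- e10 : D 1 1 = D 0 0 ; e21 : D 2 2 = D 1 1
  obtain ⟨d, hd⟩ : ∃ d : F, C * h = d • (1 : Matrix (Fin 3) (Fin 3) F) := by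
    refine ⟨D 0 0, ?_⟩
    rw [← hD, hm]
    ext s t
    fin_cases s <;> fin_cases t <;> simp [e10, e21]
  have hC : C = d • (h * h) := by
    calc C = C * (h * h * h) := by rw [hh3, Matrix.mul_one]
      _ = (C * h) * (h * h) := by simp only [Matrix.mul_assoc]
      _ = d • (h * h) := by rw [hd, Matrix.smul_mul, Matrix.one_mul]
  have hhh : h * h = HF ω hω (0 + 0 + j * i) (i + i) (j + j) := by rw [hh]; exact HF_mul ω hω 0 i j 0 i j
  rw [hhh] at hC
  have hd3 : d ^ 3 = 1 := by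
    have h4 := h3
    rw [hC] at h4
    simp only [Matrix.smul_mul, Matrix.mul_smul, smul_smul] at h4
    rw [HF_cube] at h4
    have h5 := congrFun (congrFun h4 0) 0
    simp at h5
    linear_combination h5
  obtain ⟨a, ha⟩ := exists_pow_eq ω hω hd3
  refine ⟨a + (0 + 0 + j * i), i + i, j + j, ?_⟩
  rw [hC, ← ha, smul_HF]

end shape


end Cfsg.Agent.Lib.Helper1.SU3C6
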