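import Mathlib
import Cfsg.Prelude.Def_GeometricClasses
import Cfsg.Agent.Lib.Helper1.SU3C6D

set_option autoImplicit false
set_option linter.unusedSectionVars false
set_option linter.unusedVariables false
set_option linter.style.haveILetI false

/-!
# `3^{1+2} : Q_8 < 3.M_10 < SU_3(5)`: leaf E5 `su3_five_c6_not_max` of the SU_n maximal subgroups market (helper4)
-/

namespace Cfsg.Agent.Lib.Helper1.SU3C6

open Cfsg.Geo Matrix

section final

variable {F : Type*} [Field F]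

theorem mem_SU3_iff (g : GL (Fin 3) F) : g ∈ Cfsg.GU 3 F 5 ⊓ specialLinear (Fin 3) F ↔
    IsU (g : Matrix (Fin 3) (Fin 3) F) ∧ (g : Matrix (Fin 3) (Fin 3) F).det = 1 := by
  rw [Subgroup.mem_inf]
  constructor
  · rintro ⟨h1, h2⟩
    refine ⟨fun x y => h1 x y, ?_⟩
    have := congrArg Units.val (MonoidHom.mem_ker.mp h2)
    simpa using this
  · rintro ⟨h1, h2⟩
    refine ⟨fun x y => h1 x y, ?_⟩
    apply MonoidHom.mem_ker.mpr
    apply Units.ext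
    simpa using h2

theorem conj_mul {Pi Pm : Matrix (Fin 3) (Fin 3) F} (hPPi : Pm * Pi = 1) (X Y : Matrix (Fin 3) (Fin 3) F) :
    Pi * (X * Y) * Pm = (Pi * X * Pm) * (Pi * Y * Pm) := by
  calc Pi * (X * Y) * Pm = Pi * X * (1 * (Y * Pm)) := by simp only [Matrix.mul_assoc, Matrix.one_mul]
    _ = Pi * X * ((Pm * Pi) * (Y * Pm)) := by rw [hPPi]
    _ = (Pi * X * Pm) * (Pi * Y * Pm) := by simp only [Matrix.mul_assoc]

variable [CharP F 5] (ω : F) (hω : ω ^ 2 + ω + 1 = 0)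

include hω

/-- the overgroup: the stabiliser in `SU_3(5)` of the transported invariant -/
def overgroup (PG : GL (Fin 3) F) : Subgroup (GL (Fin 3) F) where
  carrier := {m | m ∈ Cfsg.GU 3 F 5 ⊓ specialLinear (Fin 3) F ∧
    StabP (((PG⁻¹ : GL (Fin 3) F) : Matrix (Fin 3) (Fin 3) F) * (m : Matrix (Fin 3) (Fin 3) F) *
      (PG : Matrix (Fin 3) (Fin 3) F))}
  mul_mem' := by
    rintro m n ⟨h1, h2⟩ ⟨h3, h4⟩
    refine ⟨mul_mem h1 h3, ?_⟩
    have hPPi : (PG : Matrix (Fin 3) (Fin 3) F) * ((PG⁻¹ : GL (Fin 3) F) : Matrix (Fin 3) (Fin 3) F) = 1 := by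
      rw [← Units.val_mul, mul_inv_cancel, Units.val_one]
    rw [Units.val_mul, conj_mul hPPi]
    exact stabP_mul h2 h4
  one_mem' := by
    refine ⟨one_mem _, ?_⟩
    have hPiP : ((PG⁻¹ : GL (Fin 3) F) : Matrix (Fin 3) (Fin 3) F) * (PG : Matrix (Fin 3) (Fin 3) F) = 1 := by
      rw [← Units.val_mul, inv_mul_cancel, Units.val_one]
    rw [Units.val_one, Matrix.mul_one, hPiP]
    exact stabP_one
  inv_mem' := by
    rintro m ⟨h1, h2⟩
    refine ⟨inv_mem h1, ?_⟩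
    have hPPi : (PG : Matrix (Fin 3) (Fin 3) F) * ((PG⁻¹ : GL (Fin 3) F) : Matrix (Fin 3) (Fin 3) F) = 1 := by
      rw [← Units.val_mul, mul_inv_cancel, Units.val_one]
    have hPiP : ((PG⁻¹ : GL (Fin 3) F) : Matrix (Fin 3) (Fin 3) F) * (PG : Matrix (Fin 3) (Fin 3) F) = 1 := by
      rw [← Units.val_mul, inv_mul_cancel, Units.val_one]
    apply stabP_of_mul_eq_one h2
    rw [← conj_mul hPPi, ← Units.val_mul, mul_inv_cancel, Units.val_one, Matrix.mul_one, hPiP]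

theorem mem_overgroup (PG m : GL (Fin 3) F) : m ∈ overgroup PG ↔
    m ∈ Cfsg.GU 3 F 5 ⊓ specialLinear (Fin 3) F ∧
    StabP (((PG⁻¹ : GL (Fin 3) F) : Matrix (Fin 3) (Fin 3) F) * (m : Matrix (Fin 3) (Fin 3) F) *
      (PG : Matrix (Fin 3) (Fin 3) F)) := Iff.rfl

/-- the reduction: a unitary frame `P` for the group `R` gives a subgroup strictly between -/
theorem not_max_of_frame (R : Subgroup (GL (Fin 3) F)) (PG : GL (Fin 3) F)
    (hPU : IsU (PG : Matrix (Fin 3) (Fin 3) F)) (x y : GL (Fin 3) F) (hx : x ∈ R) (hy : y ∈ R)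
    (hxP : (x : Matrix (Fin 3) (Fin 3) F) * (PG : Matrix (Fin 3) (Fin 3) F) =
      (PG : Matrix (Fin 3) (Fin 3) F) * Zm ω hω)
    (hyP : (y : Matrix (Fin 3) (Fin 3) F) * (PG : Matrix (Fin 3) (Fin 3) F) =
      (PG : Matrix (Fin 3) (Fin 3) F) * Xm ω hω)
    (hshape : ∀ r : GL (Fin 3) F, r ∈ R → ∃ a i j : Fin 3,
      (r : Matrix (Fin 3) (Fin 3) F) * (PG : Matrix (Fin 3) (Fin 3) F) =
        (PG : Matrix (Fin 3) (Fin 3) F) * HF ω hω a i j) :
    ¬ IsMaximalIn (Cfsg.GU 3 F 5 ⊓ specialLinear (Fin 3) F)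
      (subgroupNormalizer R ⊓ (Cfsg.GU 3 F 5 ⊓ specialLinear (Fin 3) F)) := by
  obtain ⟨Pm, hPm⟩ : ∃ Pm : Matrix (Fin 3) (Fin 3) F, Pm = (PG : Matrix (Fin 3) (Fin 3) F) := ⟨_, rfl⟩
  obtain ⟨Pi, hPi⟩ : ∃ Pi : Matrix (Fin 3) (Fin 3) F,
    Pi = ((PG⁻¹ : GL (Fin 3) F) : Matrix (Fin 3) (Fin 3) F) := ⟨_, rfl⟩
  have hPPi : Pm * Pi = 1 := by
    rw [hPm, hPi, ← Units.val_mul, mul_inv_cancel, Units.val_one]
  have hPiP : Pi * Pm = 1 := by
    rw [hPm, hPi, ← Units.val_mul, inv_mul_cancel, Units.val_one]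
  have hPiU : IsU Pi := isU_of_mul_eq_one (hPm ▸ hPU) hPPi
  have hPmU : IsU Pm := hPm ▸ hPU
  rw [← hPm] at hxP hyP hshape
  have hdetP : Pi.det * Pm.det = 1 := by rw [← Matrix.det_mul, hPiP, Matrix.det_one]
  -- conjugates of the normaliser
  have hnorm : ∀ (m z : GL (Fin 3) F) (Zz : Matrix (Fin 3) (Fin 3) F), z ∈ R →
      (z : Matrix (Fin 3) (Fin 3) F) * Pm = Pm * Zz → m ∈ subgroupNormalizer R →
      ∃ a i j : Fin 3, (Pi * (m : Matrix (Fin 3) (Fin 3) F) * Pm) * Zz =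
        HF ω hω a i j * (Pi * (m : Matrix (Fin 3) (Fin 3) F) * Pm) := by
    intro m z Zz hz hzP hm
    have hmz : m * z * m⁻¹ ∈ R := (Subgroup.mem_set_normalizer_iff.mp hm z).mp hz
    obtain ⟨a, i, j, hs⟩ := hshape _ hmz
    refine ⟨a, i, j, ?_⟩
    have e1 : ((m * z * m⁻¹ : GL (Fin 3) F) : Matrix (Fin 3) (Fin 3) F) * (m : Matrix (Fin 3) (Fin 3) F) =
        (m : Matrix (Fin 3) (Fin 3) F) * (z : Matrix (Fin 3) (Fin 3) F) := by
      rw [← Units.val_mul, ← Units.val_mul]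
      congr 1
      group
    calc (Pi * (m : Matrix (Fin 3) (Fin 3) F) * Pm) * Zz
        = Pi * ((m : Matrix (Fin 3) (Fin 3) F) * (Pm * Zz)) := by simp only [Matrix.mul_assoc]
      _ = Pi * (((m : Matrix (Fin 3) (Fin 3) F) * (z : Matrix (Fin 3) (Fin 3) F)) * Pm) := by
          rw [← hzP]; simp only [Matrix.mul_assoc]
      _ = Pi * ((((m * z * m⁻¹ : GL (Fin 3) F) : Matrix (Fin 3) (Fin 3) F) *
            (m : Matrix (Fin 3) (Fin 3) F)) * Pm) := by rw [e1]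
      _ = Pi * ((((m * z * m⁻¹ : GL (Fin 3) F) : Matrix (Fin 3) (Fin 3) F) * (Pm * Pi)) *
            (m : Matrix (Fin 3) (Fin 3) F) * Pm) := by rw [hPPi, Matrix.mul_one]
      _ = Pi * ((((m * z * m⁻¹ : GL (Fin 3) F) : Matrix (Fin 3) (Fin 3) F) * Pm) *
            (Pi * (m : Matrix (Fin 3) (Fin 3) F) * Pm)) := by simp only [Matrix.mul_assoc]
      _ = (Pi * Pm) * (HF ω hω a i j * (Pi * (m : Matrix (Fin 3) (Fin 3) F) * Pm)) := by
          rw [hs]; simp only [Matrix.mul_assoc]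
      _ = HF ω hω a i j * (Pi * (m : Matrix (Fin 3) (Fin 3) F) * Pm) := by rw [hPiP, Matrix.one_mul]
  -- H ≤ M
  have hHM : subgroupNormalizer R ⊓ (Cfsg.GU 3 F 5 ⊓ specialLinear (Fin 3) F) ≤ overgroup PG := by
    intro m hm
    obtain ⟨hmN, hmS⟩ := Subgroup.mem_inf.mp hm
    refine (mem_overgroup ω hω PG m).mpr ⟨hmS, ?_⟩
    rw [← hPi, ← hPm]
    obtain ⟨hmU, hmdet⟩ := (mem_SU3_iff m).mp hmS
    obtain ⟨a, i, j, hZ⟩ := hnorm m x (Zm ω hω) hx hxP hmN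
    obtain ⟨b, k, l, hX⟩ := hnorm m y (Xm ω hω) hy hyP hmN
    refine core ω hω _ (isU_mul (isU_mul hPiU hmU) hPmU) ?_ a i j hZ b k l hX
    rw [Matrix.det_mul, Matrix.det_mul, hmdet, mul_one, hdetP]
  have hMS : overgroup PG ≤ Cfsg.GU 3 F 5 ⊓ specialLinear (Fin 3) F := fun m hm =>
    ((mem_overgroup ω hω PG m).mp hm).1
  -- the two witnesses
  have hwit : ∀ (gm : Matrix (Fin 3) (Fin 3) F), IsU gm → gm.det = 1 →
      ∃ g' : GL (Fin 3) F, g' ∈ Cfsg.GU 3 F 5 ⊓ specialLinear (Fin 3) F ∧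
        Pi * (g' : Matrix (Fin 3) (Fin 3) F) * Pm = gm := by
    intro gm hgU hgdet
    have hdet : (Pm * gm * Pi).det = 1 := by
      rw [Matrix.det_mul, Matrix.det_mul, hgdet, mul_one, mul_comm, hdetP]
    have hunit : IsUnit (Pm * gm * Pi) := by
      rw [Matrix.isUnit_iff_isUnit_det, hdet]; exact isUnit_one
    refine ⟨hunit.unit, (mem_SU3_iff _).mpr ⟨?_, ?_⟩, ?_⟩
    · rw [IsUnit.unit_spec]; exact isU_mul (isU_mul hPmU hgU) hPiU
    · rw [IsUnit.unit_spec]; exact hdet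
    · rw [IsUnit.unit_spec]
      calc Pi * (Pm * gm * Pi) * Pm = (Pi * Pm) * gm * (Pi * Pm) := by simp only [Matrix.mul_assoc]
        _ = gm := by rw [hPiP, Matrix.one_mul, Matrix.mul_one]
  obtain ⟨g', hg'S, hg'⟩ := hwit (tr ω hω gK) (isU_tr ω hω gK uni_gK) (det_tr ω hω gK det_gK)
  obtain ⟨h', hh'S, hh'⟩ := hwit (tr ω hω hK) (isU_tr ω hω hK uni_hK) (det_tr ω hω hK det_hK)
  have hg'M : g' ∈ overgroup PG := by
    refine (mem_overgroup ω hω PG g').mpr ⟨hg'S, ?_⟩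
    rw [← hPi, ← hPm, hg']
    exact stabP_g ω hω
  have hg'N : g' ∉ subgroupNormalizer R := by
    intro hN
    obtain ⟨a, i, j, hZ⟩ := hnorm g' x (Zm ω hω) hx hxP hN
    rw [hg'] at hZ
    exact g_not_norm ω hω ⟨a, i, j, hZ⟩
  have hh'M : h' ∉ overgroup PG := by
    intro hM
    have := ((mem_overgroup ω hω PG h').mp hM).2
    rw [← hPi, ← hPm, hh'] at this
    exact h_not_stab ω hω this
  rintro ⟨-, hmax⟩
  rcases hmax (overgroup PG) hHM hMS with h | h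
  · rw [h] at hg'M
    exact hg'N (Subgroup.mem_inf.mp hg'M).1
  · rw [h] at hh'M
    exact hh'M hh'S

end final

section main

variable {F : Type*} [Field F] [Fintype F]

/-- the normalisation: a unitary eigenframe for `R` -/
theorem exists_frame [CharP F 5] (hF : Fintype.card F = 5 ^ 2) (R : Subgroup (GL (Fin 3) F))
    (hexp : ∀ r : R, r ^ 3 = 1)
    (habs2 : ∀ M : Matrix (Fin 3) (Fin 3) F, (∀ s ∈ matrixSet R, M * s = s * M) → ∃ c : F, M = c • 1)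
    (hsim : R ≤ similarityGroup (Cfsg.hermForm 3 F 5))
    (hcard : Nat.card R = 27) (hcen : Nat.card (Subgroup.center R) = 3) :
    ∃ (ω : F) (hω : ω ^ 2 + ω + 1 = 0) (PG x y : GL (Fin 3) F),
      IsU (PG : Matrix (Fin 3) (Fin 3) F) ∧ x ∈ R ∧ y ∈ R ∧
      (x : Matrix (Fin 3) (Fin 3) F) * (PG : Matrix (Fin 3) (Fin 3) F) =
        (PG : Matrix (Fin 3) (Fin 3) F) * Zm ω hω ∧
      (y : Matrix (Fin 3) (Fin 3) F) * (PG : Matrix (Fin 3) (Fin 3) F) =
        (PG : Matrix (Fin 3) (Fin 3) F) * Xm ω hω ∧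
      ∀ r : GL (Fin 3) F, r ∈ R → ∃ a i j : Fin 3,
        (r : Matrix (Fin 3) (Fin 3) F) * (PG : Matrix (Fin 3) (Fin 3) F) =
          (PG : Matrix (Fin 3) (Fin 3) F) * HF ω hω a i j := by
  have hmat3 : ∀ r : GL (Fin 3) F, r ∈ R → (r : Matrix (Fin 3) (Fin 3) F) * (r : Matrix (Fin 3) (Fin 3) F) *
      (r : Matrix (Fin 3) (Fin 3) F) = 1 := by
    intro r hr
    have h := hexp ⟨r, hr⟩
    have h2 := congrArg (fun w : R => ((w : GL (Fin 3) F) : Matrix (Fin 3) (Fin 3) F)) h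
    simp only [Subgroup.coe_pow, Units.val_pow_eq_pow_val, Subgroup.coe_one, Units.val_one] at h2
    rw [← h2, pow_three']
  obtain ⟨a, b, hab⟩ := exists_noncomm hcard hcen
  obtain ⟨ω, hω3, hxy⟩ := comm_scalar R hcard hcen hexp habs2 a b a.2 b.2
  have hω1 : ω ≠ 1 := by
    rintro rfl
    apply hab
    apply Subtype.ext
    apply Units.ext
    rw [one_smul] at hxy
    simpa using hxy
  have hω : ω ^ 2 + ω + 1 = 0 := by
    have h : (ω - 1) * (ω ^ 2 + ω + 1) = 0 := by linear_combination hω3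
    rcases mul_eq_zero.mp h with h | h
    · exact absurd (sub_eq_zero.mp h) hω1
    · exact h
  obtain ⟨A, hA⟩ : ∃ A : Matrix (Fin 3) (Fin 3) F, A = ((a : GL (Fin 3) F) : Matrix (Fin 3) (Fin 3) F) := ⟨_, rfl⟩
  obtain ⟨B, hB⟩ : ∃ B : Matrix (Fin 3) (Fin 3) F, B = ((b : GL (Fin 3) F) : Matrix (Fin 3) (Fin 3) F) := ⟨_, rfl⟩
  have hA3 : A * A * A = 1 := by rw [hA]; exact hmat3 a a.2
  have hB3 : B * B * B = 1 := by rw [hB]; exact hmat3 b b.2
  have hAB : A * B = ω • (B * A) := by rw [hA, hB]; exact hxy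
  have hAU : IsU A := by rw [hA]; exact isU_of_similarity hF a (hsim a.2) (hmat3 a a.2)
  have hBU : IsU B := by rw [hB]; exact isU_of_similarity hF b (hsim b.2) (hmat3 b b.2)
  obtain ⟨v, hv0, hv⟩ := exists_fixed_vec ω hω A B hA3 hB3 hAB
  obtain ⟨P', hP'u, hAP, hBP, hG⟩ := exists_eigen_frame ω hω A B hA3 hB3 hAB hAU hBU v hv0 hv
  obtain ⟨lam, hlam⟩ : ∃ lam : F, lam = Cfsg.hermForm 3 F 5 v v := ⟨_, rfl⟩
  rw [← hlam] at hG
  have hlam5 : lam ^ 5 = lam := by rw [hlam]; exact herm_self_fixed hF v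
  have hP'det : IsUnit P'.det := (Matrix.isUnit_iff_isUnit_det _).mp hP'u
  have hlam0 : lam ≠ 0 := by
    intro h0
    rw [h0, zero_smul] at hG
    have h1 : P'⁻¹ * P' = 1 := Matrix.nonsing_inv_mul P' hP'det
    have h2 : P' * P'⁻¹ = 1 := Matrix.mul_nonsing_inv P' hP'det
    have h3 : P'.map (fun x => x ^ 5) = 0 := by
      have : (P'⁻¹).transpose * (P'.transpose * P'.map (fun x => x ^ 5)) = 0 := by rw [hG, Matrix.mul_zero]
      rw [← Matrix.mul_assoc, ← Matrix.transpose_mul, h2, Matrix.transpose_one, Matrix.one_mul] at this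
      exact this
    have h4 : P' = 0 := by
      ext i k
      have := congrFun (congrFun h3 i) k
      simp only [Matrix.map_apply, Matrix.zero_apply] at this
      exact pow_eq_zero_iff (by norm_num) |>.mp this
    rw [h4, Matrix.mul_zero] at h1
    exact zero_ne_one h1
  obtain ⟨c, hc⟩ := exists_norm_eq hF (inv_ne_zero hlam0) (by rw [inv_pow, hlam5])
  have hc0 : c ≠ 0 := by
    rintro rfl
    rw [zero_mul] at hc
    exact inv_ne_zero hlam0 hc.symm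
  obtain ⟨P, hP⟩ : ∃ P : Matrix (Fin 3) (Fin 3) F, P = c • P' := ⟨_, rfl⟩
  have hPgram : P.transpose * P.map (fun x => x ^ 5) = 1 := by
    have e1 : P.map (fun x => x ^ 5) = c ^ 5 • P'.map (fun x => x ^ 5) := by
      ext i k
      simp [hP, mul_pow]
    rw [e1, hP, Matrix.transpose_smul, Matrix.smul_mul, Matrix.mul_smul, hG, smul_smul, smul_smul]
    have : c * c ^ 5 * lam = 1 := by rw [hc, inv_mul_cancel₀ hlam0]
    rw [this, one_smul]
  have hPU : IsU P := isU_of_gram P hPgram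
  have hPdet : IsUnit P.det := by
    rw [hP, Matrix.det_smul]
    exact IsUnit.mul (IsUnit.pow _ (isUnit_iff_ne_zero.mpr hc0)) hP'det
  have hPunit : IsUnit P := (Matrix.isUnit_iff_isUnit_det _).mpr hPdet
  have hAP' : A * P = P * Zm ω hω := by
    rw [hP, Matrix.mul_smul, Matrix.smul_mul, hAP]
  have hBP' : B * P = P * Xm ω hω := by
    rw [hP, Matrix.mul_smul, Matrix.smul_mul, hBP]
  have hPi1 : P⁻¹ * P = 1 := Matrix.nonsing_inv_mul P hPdet
  have hPi2 : P * P⁻¹ = 1 := Matrix.mul_nonsing_inv P hPdet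
  refine ⟨ω, hω, hPunit.unit, a, b, ?_, a.2, b.2, ?_, ?_, ?_⟩
  · rw [IsUnit.unit_spec]; exact hPU
  · rw [IsUnit.unit_spec, ← hA]; exact hAP'
  · rw [IsUnit.unit_spec, ← hB]; exact hBP'
  · intro r hr
    rw [IsUnit.unit_spec]
    obtain ⟨c1, hc1, hrA⟩ := comm_scalar R hcard hcen hexp habs2 r a hr a.2
    obtain ⟨c2, hc2, hrB⟩ := comm_scalar R hcard hcen hexp habs2 r b hr b.2
    rw [← hA] at hrA
    rw [← hB] at hrB
    obtain ⟨Rm, hRm⟩ : ∃ Rm : Matrix (Fin 3) (Fin 3) F, Rm = (r : Matrix (Fin 3) (Fin 3) F) := ⟨_, rfl⟩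
    rw [← hRm] at hrA hrB ⊢
    have hR3 : Rm * Rm * Rm = 1 := by rw [hRm]; exact hmat3 r hr
    have hPA : P⁻¹ * A = Zm ω hω * P⁻¹ := by
      calc P⁻¹ * A = P⁻¹ * A * (P * P⁻¹) := by rw [hPi2, Matrix.mul_one]
        _ = P⁻¹ * (A * P) * P⁻¹ := by simp only [Matrix.mul_assoc]
        _ = (P⁻¹ * P) * Zm ω hω * P⁻¹ := by rw [hAP']; simp only [Matrix.mul_assoc]
        _ = Zm ω hω * P⁻¹ := by rw [hPi1, Matrix.one_mul]
    have hPB : P⁻¹ * B = Xm ω hω * P⁻¹ := by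
      calc P⁻¹ * B = P⁻¹ * B * (P * P⁻¹) := by rw [hPi2, Matrix.mul_one]
        _ = P⁻¹ * (B * P) * P⁻¹ := by simp only [Matrix.mul_assoc]
        _ = (P⁻¹ * P) * Xm ω hω * P⁻¹ := by rw [hBP']; simp only [Matrix.mul_assoc]
        _ = Xm ω hω * P⁻¹ := by rw [hPi1, Matrix.one_mul]
    have hCZ : (P⁻¹ * Rm * P) * Zm ω hω = c1 • (Zm ω hω * (P⁻¹ * Rm * P)) := by
      calc (P⁻¹ * Rm * P) * Zm ω hω = P⁻¹ * Rm * (A * P) := by rw [hAP']; simp only [Matrix.mul_assoc]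
        _ = P⁻¹ * (Rm * A) * P := by simp only [Matrix.mul_assoc]
        _ = c1 • ((P⁻¹ * A) * Rm * P) := by
            rw [hrA, Matrix.mul_smul, Matrix.smul_mul]; simp only [Matrix.mul_assoc]
        _ = c1 • (Zm ω hω * (P⁻¹ * Rm * P)) := by rw [hPA]; simp only [Matrix.mul_assoc]
    have hCX : (P⁻¹ * Rm * P) * Xm ω hω = c2 • (Xm ω hω * (P⁻¹ * Rm * P)) := by
      calc (P⁻¹ * Rm * P) * Xm ω hω = P⁻¹ * Rm * (B * P) := by rw [hBP']; simp only [Matrix.mul_assoc]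
        _ = P⁻¹ * (Rm * B) * P := by simp only [Matrix.mul_assoc]
        _ = c2 • ((P⁻¹ * B) * Rm * P) := by
            rw [hrB, Matrix.mul_smul, Matrix.smul_mul]; simp only [Matrix.mul_assoc]
        _ = c2 • (Xm ω hω * (P⁻¹ * Rm * P)) := by rw [hPB]; simp only [Matrix.mul_assoc]
    have hC3 : (P⁻¹ * Rm * P) * (P⁻¹ * Rm * P) * (P⁻¹ * Rm * P) = 1 := by
      rw [← conj_mul hPi2, ← conj_mul hPi2, hR3, Matrix.mul_one, hPi1]
    obtain ⟨a', i', j', hsh⟩ := shape ω hω _ c1 c2 hc1 hc2 hCZ hCX hC3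
    refine ⟨a', i', j', ?_⟩
    rw [← hsh]
    calc Rm * P = (P * P⁻¹) * Rm * P := by rw [hPi2, Matrix.one_mul]
      _ = P * (P⁻¹ * Rm * P) := by simp only [Matrix.mul_assoc]

end main

end Cfsg.Agent.Lib.Helper1.SU3C6

namespace Cfsg.Agent.Lib.Helper1.SUMLeaf

open Cfsg.Geo Matrix Module Cfsg.Agent.Lib.Helper1.SU3C6

variable {F : Type*} [Field F] [Fintype F]

/-- E5 (NM).  `3^{1+2} : Q_8 < 3.M_10 < SU_3(5)`. -/
theorem su3_five_c6_not_max (hF : Fintype.card F = 5 ^ 2) {R : Subgroup (GL (Fin 3) F)} (hR : IsSymplecticTypeGroup 3 R)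
    (habs : ActsAbsolutelyIrreducibly (matrixSet R)) (hsim : R ≤ similarityGroup (Cfsg.hermForm 3 F 5))
    (hcard : Nat.card R = 27) (hcen : Nat.card (Subgroup.center R) = 3) :
    ¬ IsMaximalIn (Cfsg.GU 3 F 5 ⊓ specialLinear (Fin 3) F)
      (subgroupNormalizer R ⊓ (Cfsg.GU 3 F 5 ⊓ specialLinear (Fin 3) F)) := by
  haveI := charP5 hF
  have hexp : ∀ r : R, r ^ 3 = 1 := by
    intro r
    have h3 : Monoid.exponent R = 3 := by
      rw [hR.exponent_eq]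
      norm_num
    have h4 := Monoid.pow_exponent_eq_one r
    rw [h3] at h4
    exact h4
  obtain ⟨ω, hω, PG, x, y, hPU, hx, hy, hxP, hyP, hshape⟩ :=
    exists_frame hF R hexp habs.2 hsim hcard hcen
  exact not_max_of_frame ω hω R PG hPU x y hx hy hxP hyP hshape

end Cfsg.Agent.Lib.Helper1.SUMLeaf
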