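import Mathlib
import Cfsg.Prelude.Def_LieClassical
import Cfsg.Agent.Lib.Helper4.SU6FDefs
import Cfsg.Agent.Lib.Helper27.AschKF3
import Cfsg.Agent.Lib.Helper1.AFAdj

/-!
# SU6F market (helper4, S5802 leaf E3d): leaf F2 `exists_hform` + the shared toolkit (helper1)
-/

set_option autoImplicit false
set_option linter.unusedSectionVars false
set_option linter.unusedVariables false

namespace Cfsg.Agent.Lib.Helper1.SU6FLeaf
open Matrix Cfsg.Agent.Lib.Helper4.SU6F

universe u
variable {F : Type u} [Field F] [Fintype F]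

/-! ## the two fields -/

theorem two_eq_zero_F (hcF : Fintype.card F = 4) : (2 : F) = 0 := by
  have h4 : ((4 : ℕ) : F) = 0 := by rw [← hcF]; exact Nat.cast_card_eq_zero F
  have h22 : (2 : F) * 2 = 0 := by
    have : (2 : F) * 2 = ((4 : ℕ) : F) := by norm_num
    rw [this, h4]
  exact mul_self_eq_zero.mp h22

theorem charP_F (hcF : Fintype.card F = 4) : CharP F 2 :=
  CharTwo.of_one_ne_zero_of_two_eq_zero one_ne_zero (two_eq_zero_F hcF)

theorem pow_four_F (hcF : Fintype.card F = 4) (a : F) : a ^ 4 = a := by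
  have := FiniteField.pow_card a
  rwa [hcF] at this

theorem add_sq_F (hcF : Fintype.card F = 4) (a b : F) : (a + b) ^ 2 = a ^ 2 + b ^ 2 := by
  have := two_eq_zero_F hcF
  linear_combination (a * b) * this

variable {E : Type*} [Field E] [Algebra F E]

theorem two_eq_zero_E (hcF : Fintype.card F = 4) : (2 : E) = 0 := by
  have := congrArg (algebraMap F E) (two_eq_zero_F hcF)
  rwa [map_ofNat, map_zero] at this

theorem charP_E (hcF : Fintype.card F = 4) : CharP E 2 :=
  CharTwo.of_one_ne_zero_of_two_eq_zero one_ne_zero (two_eq_zero_E hcF)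

theorem finite_E (hcE : Nat.card E = 64) : Finite E :=
  Nat.finite_of_card_ne_zero (by rw [hcE]; norm_num)

theorem pow_64_E (hcE : Nat.card E = 64) (x : E) : x ^ 64 = x := by
  have : Finite E := finite_E hcE
  have := Fintype.ofFinite E
  have := FiniteField.pow_card x
  rwa [← Nat.card_eq_fintype_card, hcE] at this

theorem add_sq_E (hcF : Fintype.card F = 4) (x y : E) : (x + y) ^ 2 = x ^ 2 + y ^ 2 := by
  have := two_eq_zero_E (E := E) hcF
  linear_combination (x * y) * this

theorem add_pow4_E (hcF : Fintype.card F = 4) (x y : E) : (x + y) ^ 4 = x ^ 4 + y ^ 4 := by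
  calc (x + y) ^ 4 = ((x + y) ^ 2) ^ 2 := by ring
    _ = x ^ 4 + y ^ 4 := by rw [add_sq_E hcF, add_sq_E hcF]; ring

theorem add_pow8_E (hcF : Fintype.card F = 4) (x y : E) : (x + y) ^ 8 = x ^ 8 + y ^ 8 := by
  calc (x + y) ^ 8 = ((x + y) ^ 4) ^ 2 := by ring
    _ = x ^ 8 + y ^ 8 := by rw [add_pow4_E hcF, add_sq_E hcF]; ring

theorem neg_eq_E (hcF : Fintype.card F = 4) (x : E) : -x = x := by
  have := two_eq_zero_E (E := E) hcF
  linear_combination (-x) * this

theorem finrank_E (hcF : Fintype.card F = 4) (hcE : Nat.card E = 64) : Module.finrank F E = 3 := by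
  have : Finite E := finite_E hcE
  have h := Module.natCard_eq_pow_finrank (K := F) (V := E)
  rw [hcE, Nat.card_eq_fintype_card, hcF] at h
  have h3 : (4 : ℕ) ^ 3 = 4 ^ Module.finrank F E := by rw [← h]; norm_num
  exact (Nat.pow_right_injective (by norm_num : 2 ≤ 4) h3).symm

/-- `Tr x = x + x^4 + x^16` -/
theorem algebraMap_trace (hcF : Fintype.card F = 4) (hcE : Nat.card E = 64) (x : E) :
    algebraMap F E (Algebra.trace F E x) = x + x ^ 4 + x ^ 16 := by
  have : Finite E := finite_E hcE
  rw [FiniteField.algebraMap_trace_eq_sum_pow, finrank_E hcF hcE, Nat.card_eq_fintype_card, hcF]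
  simp [Finset.sum_range_succ]

theorem trace_sq (hcF : Fintype.card F = 4) (hcE : Nat.card E = 64) (x : E) :
    Algebra.trace F E x ^ 2 = Algebra.trace F E (x ^ 2) := by
  apply (algebraMap F E).injective
  rw [map_pow, algebraMap_trace hcF hcE, algebraMap_trace hcF hcE, add_sq_E hcF, add_sq_E hcF]
  ring

theorem trace_pow4 (hcF : Fintype.card F = 4) (hcE : Nat.card E = 64) (x : E) :
    Algebra.trace F E (x ^ 4) = Algebra.trace F E x := by
  apply (algebraMap F E).injective
  rw [algebraMap_trace hcF hcE, algebraMap_trace hcF hcE]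
  have h64 : (x ^ 4) ^ 16 = x := by rw [← pow_mul]; exact pow_64_E hcE x
  rw [h64]
  ring

/-- uniqueness of the element representing a functional through the trace form -/
theorem trace_unique (hcE : Nat.card E = 64) {a b : E}
    (hab : ∀ x : E, Algebra.trace F E (x * a) = Algebra.trace F E (x * b)) : a = b := by
  have : Finite E := finite_E hcE
  have hnd := traceForm_nondegenerate F E
  have h0 : a - b = 0 := by
    apply hnd.2
    intro x
    rw [Algebra.traceForm_apply, mul_sub, map_sub, hab, sub_self]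
  exact sub_eq_zero.mp h0

/-! ## the standard hermitian form over `F_4` -/

theorem hermForm_swap (hcF : Fintype.card F = 4) (v v' : Fin 6 → F) :
    Cfsg.hermForm 6 F 2 v' v = Cfsg.hermForm 6 F 2 v v' ^ 2 := by
  have := charP_F hcF
  unfold Cfsg.hermForm
  rw [CharTwo.sum_sq]
  apply Finset.sum_congr rfl
  intro i _
  rw [mul_pow, ← pow_mul, pow_four_F hcF, mul_comm]

theorem hermForm_adj (hcF : Fintype.card F = 4) (M : Matrix (Fin 6) (Fin 6) F) (a b : Fin 6 → F) :
    Cfsg.hermForm 6 F 2 (M *ᵥ a) b = Cfsg.hermForm 6 F 2 a ((M.map (fun x : F => x ^ 2))ᵀ *ᵥ b) := by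
  have := charP_F hcF
  unfold Cfsg.hermForm
  simp only [Matrix.mulVec, dotProduct, Matrix.transpose_apply, Matrix.map_apply]
  simp_rw [CharTwo.sum_sq, mul_pow, ← pow_mul, pow_four_F hcF, Finset.sum_mul, Finset.mul_sum]
  rw [Finset.sum_comm]
  apply Finset.sum_congr rfl
  intro j _
  apply Finset.sum_congr rfl
  intro i _
  ring

theorem hermForm_add_left (a a' b : Fin 6 → F) :
    Cfsg.hermForm 6 F 2 (a + a') b = Cfsg.hermForm 6 F 2 a b + Cfsg.hermForm 6 F 2 a' b := by
  unfold Cfsg.hermForm
  rw [← Finset.sum_add_distrib]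
  apply Finset.sum_congr rfl
  intro i _
  rw [Pi.add_apply]
  ring

theorem hermForm_smul_left (c : F) (a b : Fin 6 → F) :
    Cfsg.hermForm 6 F 2 (c • a) b = c * Cfsg.hermForm 6 F 2 a b := by
  unfold Cfsg.hermForm
  rw [Finset.mul_sum]
  apply Finset.sum_congr rfl
  intro i _
  rw [Pi.smul_apply, smul_eq_mul]
  ring

/-- the standard hermitian form is non-degenerate -/
theorem hermForm_nondeg {a : Fin 6 → F} (h : ∀ b, Cfsg.hermForm 6 F 2 a b = 0) : a = 0 := by
  funext i
  have := h (Pi.single i 1)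
  unfold Cfsg.hermForm at this
  rw [Finset.sum_eq_single i] at this
  · simpa using this
  · intro j _ hj
    simp [Pi.single_eq_of_ne hj]
  · intro hi
    exact absurd (Finset.mem_univ i) hi

variable {ρ : E →ₐ[F] Matrix (Fin 6) (Fin 6) F}
  {h : (Fin 6 → F) → (Fin 6 → F) → E} {u w : Fin 6 → F}

/-- (F2) THE `E`-HERMITIAN FORM -/
theorem exists_hform (hc : FCtx ρ) : ∃ h : (Fin 6 → F) → (Fin 6 → F) → E, HForm ρ h := by
  classical
  have hcF := hc.cardF
  have hcE := hc.cardE
  have : Finite E := finite_E hcE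
  have hnd := traceForm_nondegenerate F E
  -- the functionals
  let φ : (Fin 6 → F) → (Fin 6 → F) → Module.Dual F E := fun v v' =>
    { toFun := fun x => Cfsg.hermForm 6 F 2 (ρ x *ᵥ v) v'
      map_add' := by
        intro x y
        rw [map_add, Matrix.add_mulVec, hermForm_add_left]
      map_smul' := by
        intro c x
        rw [map_smul, Matrix.smul_mulVec, hermForm_smul_left, RingHom.id_apply, smul_eq_mul] }
  let h : (Fin 6 → F) → (Fin 6 → F) → E := fun v v' => ((Algebra.traceForm F E).toDual hnd).symm (φ v v')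
  have htr : ∀ (x : E) (v v' : Fin 6 → F),
      Cfsg.hermForm 6 F 2 (ρ x *ᵥ v) v' = Algebra.trace F E (x * h v v') := by
    intro x v v'
    have h1 := LinearMap.BilinForm.apply_toDual_symm_apply (B := Algebra.traceForm F E) (hB := hnd) (φ v v') x
    rw [Algebra.traceForm_apply] at h1
    rw [mul_comm]
    exact h1.symm
  refine ⟨h, htr, ?_, ?_, ?_⟩
  · intro v₁ v₂ v'
    apply trace_unique (F := F) hcE
    intro x
    rw [← htr, Matrix.mulVec_add, hermForm_add_left, htr, htr, mul_add, map_add]
  · intro y v v'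
    apply trace_unique (F := F) hcE
    intro x
    rw [← htr, Matrix.mulVec_mulVec, ← map_mul, htr, mul_assoc]
  · intro v v'
    apply trace_unique (F := F) hcE
    intro x
    rw [← htr, hermForm_adj hcF, ← hc.adj, hermForm_swap hcF, htr, trace_sq hcF hcE,
      ← trace_pow4 hcF hcE]
    congr 1
    have h64 := pow_64_E hcE x
    calc ((x ^ 8 * h v v') ^ 2) ^ 4 = x ^ 64 * h v v' ^ 8 := by ring
      _ = x * h v v' ^ 8 := by rw [h64]

end Cfsg.Agent.Lib.Helper1.SU6FLeaf
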