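import Mathlib
import Cfsg.Prelude.Def_LieClassical
import Cfsg.Agent.Lib.Helper4.SU6FDefs
import Cfsg.Agent.Lib.Helper27.AschKF3
import Cfsg.Agent.Lib.Helper1.AFAdj
import Cfsg.Agent.Lib.Helper1.SU6FHForm

/-!
# SU6F market (helper4, S5802 leaf E3d): leaves F3 `exists_hyperbolic`, F4 `coords` + calculus of `HForm` (helper1)
-/

set_option autoImplicit false
set_option linter.unusedSectionVars false
set_option linter.unusedVariables false

namespace Cfsg.Agent.Lib.Helper1.SU6FLeaf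
open Matrix Cfsg.Agent.Lib.Helper4.SU6F

universe u
variable {F : Type u} [Field F] [Fintype F]

variable {E : Type*} [Field E] [Algebra F E] {ρ : E →ₐ[F] Matrix (Fin 6) (Fin 6) F}
  {h : (Fin 6 → F) → (Fin 6 → F) → E} {u w : Fin 6 → F}

/-! ## calculus of the `E`-hermitian form -/

omit [Fintype F] in
theorem hh_zero_left (hh : HForm ρ h) (v' : Fin 6 → F) : h 0 v' = 0 := by
  have := hh.add_left 0 0 v'
  rw [add_zero] at this
  linear_combination (-1 : E) * this

omit [Fintype F] in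
theorem hh_sub_left (hh : HForm ρ h) (v₁ v₂ v' : Fin 6 → F) : h (v₁ - v₂) v' = h v₁ v' - h v₂ v' := by
  have := hh.add_left (v₁ - v₂) v₂ v'
  rw [sub_add_cancel] at this
  linear_combination (-1 : E) * this

theorem hh_add_right (hc : FCtx ρ) (hh : HForm ρ h) (v v₁ v₂ : Fin 6 → F) :
    h v (v₁ + v₂) = h v v₁ + h v v₂ := by
  rw [hh.herm (v₁ + v₂) v, hh.add_left, add_pow8_E hc.cardF, ← hh.herm, ← hh.herm]

omit [Fintype F] in
theorem hh_smul_right (hh : HForm ρ h) (x : E) (v v' : Fin 6 → F) :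
    h v (ρ x *ᵥ v') = x ^ 8 * h v v' := by
  rw [hh.herm (ρ x *ᵥ v') v, hh.smul_left, mul_pow, ← hh.herm]

omit [Fintype F] in
theorem hh_zero_right (hh : HForm ρ h) (v : Fin 6 → F) : h v 0 = 0 := by
  rw [hh.herm 0 v, hh_zero_left hh]
  norm_num

omit [Fintype F] in
theorem hh_self (hh : HForm ρ h) (v : Fin 6 → F) : h v v ^ 8 = h v v := (hh.herm v v).symm

/-- `h` is non-degenerate -/
theorem hh_nondeg (hh : HForm ρ h) {v : Fin 6 → F} (hv : ∀ v', h v v' = 0) : v = 0 := by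
  apply hermForm_nondeg
  intro b
  have := hh.tr 1 v b
  rw [map_one, Matrix.one_mulVec, hv, mul_zero, map_zero] at this
  exact this

/-- a primitive cube root of unity in `F_4` -/
theorem exists_omega (hcF : Fintype.card F = 4) : ∃ ω : F, ω ^ 2 + ω + 1 = 0 := by
  classical
  have hlt : ({0, 1} : Finset F).card < (Finset.univ : Finset F).card := by
    rw [Finset.card_univ, hcF]
    exact lt_of_le_of_lt (Finset.card_le_two) (by norm_num)
  obtain ⟨a, -, ha⟩ := Finset.exists_mem_notMem_of_card_lt_card hlt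
  rw [Finset.mem_insert, Finset.mem_singleton, not_or] at ha
  refine ⟨a, ?_⟩
  have h4 := pow_four_F hcF a
  have h2 := two_eq_zero_F hcF
  have hprod : a * ((a - 1) * (a ^ 2 + a + 1)) = 0 := by
    linear_combination h4
  rcases mul_eq_zero.mp hprod with h | h
  · exact absurd h ha.1
  · rcases mul_eq_zero.mp h with h | h
    · exact absurd (sub_eq_zero.mp h) ha.2
    · exact h

/-- the relative trace `E → E₀` takes the value `1` -/
theorem exists_trace_one (hcF : Fintype.card F = 4) : ∃ t : E, t + t ^ 8 = 1 := by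
  obtain ⟨ω, hω⟩ := exists_omega hcF
  refine ⟨algebraMap F E ω, ?_⟩
  have h4 := pow_four_F hcF ω
  have h2 := two_eq_zero_F hcF
  have h8 : ω ^ 8 = ω ^ 2 := by
    calc ω ^ 8 = (ω ^ 4) ^ 2 := by ring
      _ = ω ^ 2 := by rw [h4]
  rw [← map_pow, h8, ← map_add]
  have : ω + ω ^ 2 = 1 := by linear_combination hω - h2
  rw [this, map_one]

theorem card_V (hcF : Fintype.card F = 4) : Fintype.card (Fin 6 → F) = 4096 := by
  rw [Fintype.card_fun, hcF, Fintype.card_fin]
  norm_num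

/-- (F4) COORDINATES -/
theorem coords (hc : FCtx ρ) (hh : HForm ρ h) (hy : Hyp h u w) (v : Fin 6 → F) :
    v = ρ (h v w) *ᵥ u + ρ (h v u) *ᵥ w := by
  classical
  have hcF := hc.cardF
  have hcE := hc.cardE
  have : Finite E := finite_E hcE
  let _ := Fintype.ofFinite E
  have hwu : h w u = 1 := by rw [hh.herm u w, hy.uw, one_pow]
  have hΦw : ∀ a b : E, h (ρ a *ᵥ u + ρ b *ᵥ w) w = a := by
    intro a b
    rw [hh.add_left, hh.smul_left, hh.smul_left, hy.uw, hy.ww, mul_one, mul_zero, add_zero]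
  have hΦu : ∀ a b : E, h (ρ a *ᵥ u + ρ b *ᵥ w) u = b := by
    intro a b
    rw [hh.add_left, hh.smul_left, hh.smul_left, hy.uu, hwu, mul_one, mul_zero, zero_add]
  let Φ : E × E → (Fin 6 → F) := fun p => ρ p.1 *ᵥ u + ρ p.2 *ᵥ w
  have hinj : Function.Injective Φ := by
    rintro ⟨a, b⟩ ⟨a', b'⟩ hab
    have h1 := congrArg (fun z => h z w) hab
    have h2 := congrArg (fun z => h z u) hab
    simp only [Φ] at h1 h2
    rw [hΦw, hΦw] at h1
    rw [hΦu, hΦu] at h2
    rw [h1, h2]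
  have hcard : Fintype.card (E × E) = Fintype.card (Fin 6 → F) := by
    rw [card_V hcF, Fintype.card_prod, ← Nat.card_eq_fintype_card, hcE]
  have hbij := (Fintype.bijective_iff_injective_and_card Φ).mpr ⟨hinj, hcard⟩
  obtain ⟨⟨a, b⟩, hab⟩ := hbij.2 v
  simp only [Φ] at hab
  rw [← hab, hΦw, hΦu]

/-- an isotropic vector -/
theorem exists_isotropic (hc : FCtx ρ) (hh : HForm ρ h) : ∃ u : Fin 6 → F, u ≠ 0 ∧ h u u = 0 := by
  classical
  have hcF := hc.cardF
  have hcE := hc.cardE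
  have : Finite E := finite_E hcE
  let _ := Fintype.ofFinite E
  have h2E := two_eq_zero_E (E := E) hcF
  let v₁ : Fin 6 → F := Pi.single 0 1
  have hv₁ : v₁ ≠ 0 := by
    intro h0
    have := congrFun h0 0
    simp [v₁] at this
  by_cases h11 : h v₁ v₁ = 0
  · exact ⟨v₁, hv₁, h11⟩
  -- a vector orthogonal to `v₁`
  have hlt : Fintype.card E < Fintype.card (Fin 6 → F) := by
    rw [card_V hcF, ← Nat.card_eq_fintype_card, hcE]
    norm_num
  obtain ⟨x, y, hxy, hmap⟩ := Fintype.exists_ne_map_eq_of_card_lt (fun v => h v v₁) hlt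
  have hv₂ : x - y ≠ 0 := sub_ne_zero.mpr hxy
  have h21 : h (x - y) v₁ = 0 := by rw [hh_sub_left hh, hmap, sub_self]
  have h12 : h v₁ (x - y) = 0 := by rw [hh.herm (x - y) v₁, h21]; norm_num
  by_cases h22 : h (x - y) (x - y) = 0
  · exact ⟨x - y, hv₂, h22⟩
  -- combine
  set v₂ := x - y with hv₂def
  set z : E := h v₁ v₁ / h v₂ v₂ with hz
  have hz0 : z ≠ 0 := div_ne_zero h11 h22
  have hz8 : z ^ 8 = z := by rw [hz, div_pow, hh_self hh, hh_self hh]
  have hz7 : z ^ 7 = 1 := by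
    have : z * (z ^ 7 - 1) = 0 := by linear_combination hz8
    rcases mul_eq_zero.mp this with h | h
    · exact absurd h hz0
    · exact sub_eq_zero.mp h
  have hz36 : (z ^ 4) ^ 9 = z := by
    calc (z ^ 4) ^ 9 = (z ^ 7) ^ 5 * z := by ring
      _ = z := by rw [hz7, one_pow, one_mul]
  refine ⟨v₁ + ρ (z ^ 4) *ᵥ v₂, ?_, ?_⟩
  · intro h0
    have := congrArg (fun t => h t v₁) h0
    rw [hh.add_left, hh.smul_left, h21, mul_zero, add_zero, hh_zero_left hh] at this
    exact h11 this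
  · rw [hh.add_left, hh.smul_left, hh_add_right hc hh, hh_add_right hc hh, hh_smul_right hh, hh_smul_right hh,
      h12, h21]
    have hzz : z * h v₂ v₂ = h v₁ v₁ := by rw [hz]; field_simp
    have : z ^ 4 * ((z ^ 4) ^ 8 * h v₂ v₂) = h v₁ v₁ := by
      calc z ^ 4 * ((z ^ 4) ^ 8 * h v₂ v₂) = (z ^ 4) ^ 9 * h v₂ v₂ := by ring
        _ = h v₁ v₁ := by rw [hz36, hzz]
    rw [mul_zero, add_zero, zero_add, this]
    linear_combination (h v₁ v₁) * h2E

/-- (F3) A HYPERBOLIC PAIR -/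
theorem exists_hyperbolic (hc : FCtx ρ) (hh : HForm ρ h) : ∃ u w : Fin 6 → F, Hyp h u w := by
  classical
  have hcF := hc.cardF
  have hcE := hc.cardE
  have h2E := two_eq_zero_E (E := E) hcF
  obtain ⟨u, hu0, huu⟩ := exists_isotropic hc hh
  -- a partner with `h u w' = 1`
  have hex : ∃ w'' : Fin 6 → F, h u w'' ≠ 0 := by
    by_contra hcon
    push Not at hcon
    exact hu0 (hh_nondeg hh hcon)
  obtain ⟨w'', hc0⟩ := hex
  have hex' : ∃ w' : Fin 6 → F, h u w' = 1 := by
    refine ⟨ρ (((h u w'')⁻¹) ^ 8) *ᵥ w'', ?_⟩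
    rw [hh_smul_right hh, ← pow_mul, pow_64_E hcE, inv_mul_cancel₀ hc0]
  obtain ⟨w', huw'⟩ := hex'
  have hw'u : h w' u = 1 := by rw [hh.herm u w', huw', one_pow]
  obtain ⟨t, ht⟩ := exists_trace_one (E := E) hcF
  set s := h w' w' with hs
  have hs8 : s ^ 8 = s := hh_self hh w'
  refine ⟨u, w' + ρ (s * t) *ᵥ u, huu, ?_, ?_⟩
  · rw [hh.add_left, hh.smul_left, hh_add_right hc hh, hh_add_right hc hh, hh_smul_right hh, hh_smul_right hh,
      huu, hw'u, huw', ← hs, mul_pow, hs8]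
    linear_combination s * ht + s * h2E
  · rw [hh_add_right hc hh, hh_smul_right hh, huu, huw', mul_zero, add_zero]

end Cfsg.Agent.Lib.Helper1.SU6FLeaf
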