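import Mathlib
import Cfsg.Prelude.Def_LieClassical
import Cfsg.Agent.Lib.Helper4.SU6FDefs
import Cfsg.Agent.Lib.Helper27.AschKF3
import Cfsg.Agent.Lib.Helper1.AFAdj
import Cfsg.Agent.Lib.Helper1.SU6FHForm

/-!
# SU6F market (helper4, S5802 leaf E3d): leaf F7 `normalizer_semilinear` (helper1)
-/

set_option autoImplicit false
set_option linter.unusedSectionVars false
set_option linter.unusedVariables false

namespace Cfsg.Agent.Lib.Helper1.SU6FLeaf
open Matrix Cfsg.Agent.Lib.Helper4.SU6F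

universe u
variable {F : Type u} [Field F] [Fintype F]

variable {E : Type*} [Field E] [Algebra F E] {ρ : E →ₐ[F] Matrix (Fin 6) (Fin 6) F}
  {h : (Fin 6 → F) → (Fin 6 → F) → E} {u w : Fin 6 → F}

/-- the automorphism of `E` induced by an element of the normaliser of `ρ.range` -/
theorem exists_alpha (hinj : Function.Injective ρ) (g : GL (Fin 6) F)
    (hgK : g ∈ Cfsg.Geo.subalgebraNormalizer ρ.range) :
    ∃ α : E →ₐ[F] E, ∀ x : E,
      ρ (α x) = (g : Matrix (Fin 6) (Fin 6) F) * ρ x * ((g⁻¹ : GL (Fin 6) F) : Matrix (Fin 6) (Fin 6) F) := by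
  classical
  have hgg : (g : Matrix (Fin 6) (Fin 6) F) * ((g⁻¹ : GL (Fin 6) F) : Matrix (Fin 6) (Fin 6) F) = 1 := by
    rw [← Units.val_mul, mul_inv_cancel, Units.val_one]
  have hgg' : ((g⁻¹ : GL (Fin 6) F) : Matrix (Fin 6) (Fin 6) F) * (g : Matrix (Fin 6) (Fin 6) F) = 1 := by
    rw [← Units.val_mul, inv_mul_cancel, Units.val_one]
  have hex : ∀ x : E, ∃ y : E,
      ρ y = (g : Matrix (Fin 6) (Fin 6) F) * ρ x * ((g⁻¹ : GL (Fin 6) F) : Matrix (Fin 6) (Fin 6) F) := by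
    intro x
    have h1 : ρ x ∈ ρ.range := ⟨x, rfl⟩
    have h2 := (hgK (ρ x)).mp h1
    obtain ⟨y, hy⟩ := h2
    exact ⟨y, hy⟩
  choose α₀ hα₀ using hex
  refine ⟨{ toFun := α₀
            map_one' := ?_
            map_mul' := ?_
            map_zero' := ?_
            map_add' := ?_
            commutes' := ?_ }, hα₀⟩
  · apply hinj
    rw [hα₀, map_one, Matrix.mul_one, hgg]
  · intro x y
    apply hinj
    rw [hα₀, map_mul, map_mul, hα₀, hα₀]
    calc (g : Matrix (Fin 6) (Fin 6) F) * (ρ x * ρ y) * ((g⁻¹ : GL (Fin 6) F) : Matrix (Fin 6) (Fin 6) F)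
        = (g : Matrix (Fin 6) (Fin 6) F) * ρ x * 1 * ρ y * ((g⁻¹ : GL (Fin 6) F) : Matrix (Fin 6) (Fin 6) F) := by
          simp only [Matrix.mul_one, Matrix.mul_assoc]
      _ = _ := by
          rw [← hgg']
          simp only [Matrix.mul_assoc]
  · apply hinj
    rw [hα₀, map_zero, Matrix.mul_zero, Matrix.zero_mul]
  · intro x y
    apply hinj
    rw [hα₀, map_add, map_add, hα₀, hα₀, Matrix.mul_add, Matrix.add_mul]
  · intro c
    apply hinj
    rw [hα₀, AlgHom.commutes, Algebra.algebraMap_eq_smul_one, Matrix.mul_smul, Matrix.smul_mul, Matrix.mul_one, hgg]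

/-- (F7) THE NORMALISER ACTS BY SEMI-ISOMETRIES OF `h` -/
theorem normalizer_semilinear (hc : FCtx ρ) (hh : HForm ρ h) (g : GL (Fin 6) F)
    (hgK : g ∈ Cfsg.Geo.subalgebraNormalizer ρ.range) (hgU : g ∈ Cfsg.GU 6 F 2) :
    ∃ α : E →ₐ[F] E,
      (∀ x : E, ρ (α x) = (g : Matrix (Fin 6) (Fin 6) F) * ρ x * ((g⁻¹ : GL (Fin 6) F) : Matrix (Fin 6) (Fin 6) F)) ∧
      ∀ v v' : Fin 6 → F, h ((g : Matrix (Fin 6) (Fin 6) F) *ᵥ v) ((g : Matrix (Fin 6) (Fin 6) F) *ᵥ v') = α (h v v') := by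
  classical
  have hcF := hc.cardF
  have hcE := hc.cardE
  have : Finite E := finite_E hcE
  obtain ⟨α, hα⟩ := exists_alpha hc.inj g hgK
  refine ⟨α, hα, ?_⟩
  have hgg' : ((g⁻¹ : GL (Fin 6) F) : Matrix (Fin 6) (Fin 6) F) * (g : Matrix (Fin 6) (Fin 6) F) = 1 := by
    rw [← Units.val_mul, inv_mul_cancel, Units.val_one]
  have hinjα : Function.Injective α := (α : E →+* E).injective
  have hsurj : Function.Surjective α := Finite.injective_iff_surjective.mp hinjα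
  let αe : E ≃ₐ[F] E := AlgEquiv.ofBijective α ⟨hinjα, hsurj⟩
  have hgU' : ∀ a b : Fin 6 → F, Cfsg.hermForm 6 F 2 ((g : Matrix (Fin 6) (Fin 6) F) *ᵥ a)
      ((g : Matrix (Fin 6) (Fin 6) F) *ᵥ b) = Cfsg.hermForm 6 F 2 a b := fun a b => hgU a b
  intro v v'
  apply trace_unique (F := F) hcE
  intro x
  obtain ⟨x', rfl⟩ := hsurj x
  rw [← hh.tr, hα, Matrix.mulVec_mulVec, Matrix.mul_assoc, Matrix.mul_assoc, hgg', Matrix.mul_one,
    ← Matrix.mulVec_mulVec, hgU', hh.tr, ← map_mul]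
  exact (Algebra.trace_eq_of_algEquiv αe (x' * h v v')).symm

end Cfsg.Agent.Lib.Helper1.SU6FLeaf
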