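import Cfsg.Agent.Lib.Helper4.SUMDefs
import Cfsg.Agent.Lib.Helper1.SLMN4

/-!
# SU_n maximal subgroups market (helper4), block N4: `uc6_three`, `uc6_five`, `uc6_seven`, `uc6_eleven`, `uc6_four`
(helper1).  Exact signatures of `notes/SUnMax_leaves.lean`.  Pure arithmetic from `IsMinimalFieldFor` and `|F| = q²`.
-/

set_option autoImplicit false
set_option linter.unusedSectionVars false
set_option linter.unusedVariables false

namespace Cfsg.Agent.Lib.Helper1.SUMLeaf

open Cfsg.Geo Matrix Module Cfsg.Agent.Lib.Helper4.SUM Cfsg.Agent.Lib.Helper1.SLMLeaf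

variable {n : ℕ} {F : Type*} [Field F] [Fintype F] {q : ℕ}

/-- `q ^ 2 = p ^ e`, `p` prime: `q = p ^ k`, `e = 2 k` -/
theorem sq_eq_prime_pow {q p e : ℕ} (hp : p.Prime) (h : q ^ 2 = p ^ e) : ∃ k, q = p ^ k ∧ e = 2 * k := by
  have hq : q ∣ p ^ e := by
    rw [← h]
    exact dvd_pow_self q (by norm_num)
  obtain ⟨k, -, rfl⟩ := (Nat.dvd_prime_pow hp).mp hq
  refine ⟨k, rfl, ?_⟩
  rw [← pow_mul] at h
  have := Nat.pow_right_injective hp.two_le h
  omega

/-- the data of a minimal field for an odd prime `r` with `|F| = q ^ 2` -/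
theorem uc6_data (hF : Fintype.card F = q ^ 2) {r p e : ℕ} (hr : r.Prime) (h : IsMinimalFieldFor r p e F) :
    ∃ k, 0 < k ∧ q = p ^ k ∧ e = 2 * k ∧ 2 * k ∣ r - 1 ∧ p.Prime ∧ r ∣ p ^ (2 * k) - 1 ∧
      ∀ d : ℕ, 0 < d → d < 2 * k → ¬ r ∣ p ^ d - 1 := by
  obtain ⟨hp, hchar, hcard, hdiv, hmin⟩ := h
  obtain ⟨k, hq, he⟩ := sq_eq_prime_pow hp (hF.symm.trans hcard)
  have hk : 0 < k := by
    rcases Nat.eq_zero_or_pos k with h0 | h0
    · exfalso
      subst h0
      rw [pow_zero] at hq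
      rw [hq, one_pow] at hF
      have := Fintype.one_lt_card (α := F)
      omega
    · exact h0
  subst he
  have hne : r ≠ p := by
    rintro rfl
    have h1 : r ∣ r ^ (2 * k) := dvd_pow_self r (by omega)
    have h2 : 1 ≤ r ^ (2 * k) := Nat.one_le_pow _ _ hr.pos
    have h3 : r ∣ 1 := by
      have := (Nat.dvd_sub h1 hdiv)
      rwa [Nat.sub_sub_self h2] at this
    exact hr.one_lt.ne' (Nat.dvd_one.mp h3)
  exact ⟨k, hk, hq, rfl, minfield_dvd hr hp hne (by omega) hdiv hmin, hp, hdiv, hmin⟩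

theorem not_mod_one {r p e : ℕ} (hp : 1 ≤ p) (he : 1 < e) (hmin : ∀ d : ℕ, 0 < d → d < e → ¬ r ∣ p ^ d - 1) :
    p % r ≠ 1 % r := by
  intro h
  apply hmin 1 (by norm_num) he
  rw [pow_one]
  exact (Nat.modEq_iff_dvd' hp).mp (by rw [Nat.ModEq, h])

theorem uc6_three (hF : Fintype.card F = q ^ 2) {p e : ℕ} (h : IsMinimalFieldFor 3 p e F) : q = p ∧ p % 3 = 2 := by
  obtain ⟨k, hk, hq, he, hdvd, hp, hdiv, hmin⟩ := uc6_data hF (by norm_num) h
  have hk1 : k = 1 := by
    have := Nat.le_of_dvd (by norm_num) hdvd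
    omega
  subst hk1
  rw [pow_one] at hq
  refine ⟨hq, ?_⟩
  have h1 := pow_mod_of_dvd (by norm_num) hp.one_le hdiv
  have h2 := not_mod_one hp.one_le (by norm_num) hmin
  have h3 : p % 3 < 3 := Nat.mod_lt _ (by norm_num)
  generalize p % 3 = a at h1 h2 h3
  interval_cases a <;> simp_all

theorem uc6_five (hF : Fintype.card F = q ^ 2) {p e : ℕ} (h : IsMinimalFieldFor 5 p e F) :
    (q = p ∧ p % 5 = 4) ∨ (q = p ^ 2 ∧ (p % 5 = 2 ∨ p % 5 = 3)) := by
  obtain ⟨k, hk, hq, he, hdvd, hp, hdiv, hmin⟩ := uc6_data hF (by norm_num) h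
  have hk1 : k = 1 ∨ k = 2 := by
    have := Nat.le_of_dvd (by norm_num) hdvd
    omega
  have h3 : p % 5 < 5 := Nat.mod_lt _ (by norm_num)
  rcases hk1 with rfl | rfl
  · rw [pow_one] at hq
    refine Or.inl ⟨hq, ?_⟩
    have h1 := pow_mod_of_dvd (by norm_num) hp.one_le hdiv
    have h2 := not_mod_one hp.one_le (by norm_num) hmin
    generalize p % 5 = a at h1 h2 h3
    interval_cases a <;> simp_all
  · refine Or.inr ⟨hq, ?_⟩
    have h1 := pow_mod_of_dvd (by norm_num) hp.one_le hdiv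
    have h2 := not_mod_one hp.one_le (by norm_num) hmin
    have h4 : (p % 5) ^ 2 % 5 ≠ 1 := by
      intro h
      apply hmin 2 (by norm_num) (by norm_num)
      rw [← Nat.pow_mod] at h
      exact (Nat.modEq_iff_dvd' (Nat.one_le_pow _ _ hp.one_le)).mp (by rw [Nat.ModEq, h])
    generalize p % 5 = a at h1 h2 h3 h4
    interval_cases a <;> simp_all

theorem not_pow_mod_one {r p e : ℕ} (hr : 2 ≤ r) (hp : 1 ≤ p) (d : ℕ) (hd0 : 0 < d) (hd : d < e)
    (hmin : ∀ d : ℕ, 0 < d → d < e → ¬ r ∣ p ^ d - 1) : (p % r) ^ d % r ≠ 1 := by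
  intro h
  apply hmin d hd0 hd
  rw [← Nat.pow_mod] at h
  refine (Nat.modEq_iff_dvd' (Nat.one_le_pow _ _ hp)).mp ?_
  rw [Nat.ModEq, h, Nat.mod_eq_of_lt (by omega)]

theorem uc6_seven (hF : Fintype.card F = q ^ 2) {p e : ℕ} (h : IsMinimalFieldFor 7 p e F) :
    (q = p ∧ p % 7 = 6) ∨ (q = p ^ 3 ∧ (p % 7 = 3 ∨ p % 7 = 5)) := by
  obtain ⟨k, hk, hq, he, hdvd, hp, hdiv, hmin⟩ := uc6_data hF (by norm_num) h
  have hk1 : k = 1 ∨ k = 3 := by
    have := Nat.le_of_dvd (by norm_num) hdvd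
    have h2 : k ≠ 2 := by
      rintro rfl
      norm_num at hdvd
    omega
  have h3 : p % 7 < 7 := Nat.mod_lt _ (by norm_num)
  rcases hk1 with rfl | rfl
  · rw [pow_one] at hq
    refine Or.inl ⟨hq, ?_⟩
    have h1 := pow_mod_of_dvd (by norm_num) hp.one_le hdiv
    have h2 := not_pow_mod_one (by norm_num) hp.one_le 1 (by norm_num) (by norm_num) hmin
    generalize p % 7 = a at h1 h2 h3
    interval_cases a <;> simp_all
  · refine Or.inr ⟨hq, ?_⟩
    have h1 := pow_mod_of_dvd (by norm_num) hp.one_le hdiv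
    have h2 := not_pow_mod_one (by norm_num) hp.one_le 1 (by norm_num) (by norm_num) hmin
    have h4 := not_pow_mod_one (by norm_num) hp.one_le 2 (by norm_num) (by norm_num) hmin
    have h5 := not_pow_mod_one (by norm_num) hp.one_le 3 (by norm_num) (by norm_num) hmin
    generalize p % 7 = a at h1 h2 h3 h4 h5
    interval_cases a <;> simp_all

theorem uc6_eleven (hF : Fintype.card F = q ^ 2) {p e : ℕ} (h : IsMinimalFieldFor 11 p e F) :
    (q = p ∧ p % 11 = 10) ∨ (q = p ^ 5 ∧ (p % 11 = 2 ∨ p % 11 = 6 ∨ p % 11 = 7 ∨ p % 11 = 8)) := by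
  obtain ⟨k, hk, hq, he, hdvd, hp, hdiv, hmin⟩ := uc6_data hF (by norm_num) h
  have hk1 : k = 1 ∨ k = 5 := by
    have := Nat.le_of_dvd (by norm_num) hdvd
    have h2 : k ≠ 2 := by
      rintro rfl
      norm_num at hdvd
    have h3 : k ≠ 3 := by
      rintro rfl
      norm_num at hdvd
    have h4 : k ≠ 4 := by
      rintro rfl
      norm_num at hdvd
    omega
  have h3 : p % 11 < 11 := Nat.mod_lt _ (by norm_num)
  rcases hk1 with rfl | rfl
  · rw [pow_one] at hq
    refine Or.inl ⟨hq, ?_⟩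
    have h1 := pow_mod_of_dvd (by norm_num) hp.one_le hdiv
    have h2 := not_pow_mod_one (by norm_num) hp.one_le 1 (by norm_num) (by norm_num) hmin
    generalize p % 11 = a at h1 h2 h3
    interval_cases a <;> simp_all
  · refine Or.inr ⟨hq, ?_⟩
    have h1 := pow_mod_of_dvd (by norm_num) hp.one_le hdiv
    have h2 := not_pow_mod_one (by norm_num) hp.one_le 1 (by norm_num) (by norm_num) hmin
    have h4 := not_pow_mod_one (by norm_num) hp.one_le 2 (by norm_num) (by norm_num) hmin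
    have h5 := not_pow_mod_one (by norm_num) hp.one_le 5 (by norm_num) (by norm_num) hmin
    generalize p % 11 = a at h1 h2 h3 h4 h5
    interval_cases a <;> simp_all

theorem uc6_four (hF : Fintype.card F = q ^ 2) {p : ℕ} (h : IsMinimalFieldFor 4 p 2 F) : q = p ∧ p % 4 = 3 := by
  obtain ⟨hp, hchar, hcard, hdiv, hmin⟩ := h
  have hq : q = p := by
    have := hF.symm.trans hcard
    exact Nat.pow_left_injective (n := 2) (by norm_num) this
  refine ⟨hq, ?_⟩
  have h1 := pow_mod_of_dvd (by norm_num) hp.one_le hdiv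
  have h2 := not_pow_mod_one (by norm_num) hp.one_le 1 (by norm_num) (by norm_num) hmin
  have h3 : p % 4 < 4 := Nat.mod_lt _ (by norm_num)
  generalize p % 4 = a at h1 h2 h3
  interval_cases a <;> simp_all

end Cfsg.Agent.Lib.Helper1.SUMLeaf
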