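import Cfsg.Agent.Lib.Helper4.SUMDefs
import Cfsg.Agent.Lib.Helper1.SUMN4
import Cfsg.Agent.Lib.Helper14.Unitary

/-!
# SU_n maximal subgroups market (helper4), leaf N5: `uc6_le_GU` (helper1).  Exact signature of `notes/SUnMax_leaves.lean`.
-/

set_option autoImplicit false
set_option linter.unusedSectionVars false
set_option linter.unusedVariables false

namespace Cfsg.Agent.Lib.Helper1.SUMLeaf

open Cfsg.Geo Matrix Module Cfsg.Agent.Lib.Helper4.SUM Cfsg.Agent.Lib.Helper1.SLMLeaf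

variable {n : ℕ} {F : Type*} [Field F] [Fintype F] {q : ℕ}

/-- N5.  `x ∈ R` has `f(x u, x v) = λ f(u, v)`; `λ^q = λ` (`f` is hermitian) and `λ^r = 1` (`x^r = 1`: the exponent is
`r · gcd(2, r) = r`); `r ∤ q - 1` (`q = p^(e/2)` and `e` is minimal), so `λ = 1`. -/
theorem uc6_le_GU (hF : Fintype.card F = q ^ 2) (hn : 1 ≤ n) {r p e : ℕ} {R : Subgroup (GL (Fin n) F)} (hR : IsSymplecticTypeGroup r R)
    (hodd : Odd r) (hsim : R ≤ similarityGroup (Cfsg.hermForm n F q)) (hmin : IsMinimalFieldFor r p e F) :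
    R ≤ Cfsg.GU n F q := by
  classical
  intro x hx
  obtain ⟨c, hc⟩ := hsim hx
  have hexp : Monoid.exponent R = r := by
    rw [hR.exponent_eq]
    have : Nat.gcd 2 r = 1 := by
      rw [Nat.coprime_two_left.mpr hodd]
    rw [this, mul_one]
  have hxr : x ^ r = 1 := by
    have h2 := Monoid.pow_exponent_eq_one (⟨x, hx⟩ : R)
    rw [hexp] at h2
    have h3 := congrArg Subtype.val h2
    simpa using h3
  have hpow : ∀ k : ℕ, ∀ u v : Fin n → F,
      Cfsg.hermForm n F q (((x ^ k : GL (Fin n) F) : Matrix (Fin n) (Fin n) F) *ᵥ u)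
        (((x ^ k : GL (Fin n) F) : Matrix (Fin n) (Fin n) F) *ᵥ v) = (c : F) ^ k * Cfsg.hermForm n F q u v := by
    intro k
    induction k with
    | zero => intro u v; simp
    | succ k ih =>
      intro u v
      rw [pow_succ', Units.val_mul, ← Matrix.mulVec_mulVec, ← Matrix.mulVec_mulVec, hc, ih, pow_succ']
      ring
  set e0 : Fin n → F := Pi.single ⟨0, hn⟩ 1 with he0
  have hf0 : Cfsg.hermForm n F q e0 e0 = 1 := by
    rw [he0, Cfsg.Agent.Lib.Helper14.hermForm_single hF, if_pos rfl]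
  have hcr : (c : F) ^ r = 1 := by
    have h1 := hpow r e0 e0
    rw [hxr, Units.val_one, Matrix.one_mulVec, hf0, mul_one] at h1
    exact h1.symm
  have hcq : (c : F) ^ q = c := by
    have h1 := hc e0 e0
    rw [hf0, mul_one] at h1
    rw [← h1]
    exact Cfsg.Agent.Lib.Helper14.hermForm_self_pow hF _
  obtain ⟨k, hk, hq, he, hdvd, hp, hdiv, hmin'⟩ := uc6_data hF hR.prime hmin
  have hq1 : 1 ≤ q := by
    rw [hq]
    exact Nat.one_le_pow _ _ hp.pos
  have hcq1 : (c : F) ^ (q - 1) = 1 := by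
    have h1 : (c : F) ^ (q - 1) * c = c := by
      rw [← pow_succ, Nat.sub_add_cancel hq1, hcq]
    have hc0 : (c : F) ≠ 0 := c.ne_zero
    exact mul_right_cancel₀ hc0 (by rw [h1, one_mul])
  have hcop : Nat.gcd r (q - 1) = 1 := by
    have : Nat.Coprime r (q - 1) := by
      rw [Nat.Prime.coprime_iff_not_dvd hR.prime, hq]
      exact hmin' k hk (by omega)
    exact this
  have hc1 : (c : F) = 1 := by
    have := (pow_gcd_eq_one (a := (c : F)) (m := r) (n := q - 1)).mpr ⟨hcr, hcq1⟩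
    rwa [hcop, pow_one] at this
  intro u v
  have := hc u v
  rw [hc1, one_mul] at this
  exact this

end Cfsg.Agent.Lib.Helper1.SUMLeaf
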