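import Mathlib
import Cfsg.Agent.Lib.Helper4.SUMDefs
import Cfsg.Agent.Lib.Helper4.SUMT
import Cfsg.Agent.Lib.Helper14.Unitary

/-!
# SU_n maximal subgroups market (helper4), block P: P5a `not_su_le_subfield_odd`, P5b `not_su_le_subfield_orth`,
P5c `not_su_le_subfield_symp` (helper1).  Exact signatures of `notes/SUnMax_leaves.lean`.

`SU = [SU, SU]` lies in `P GL_n(F₀) P⁻¹` (commutators kill the scalars), so it preserves `V₀ = P F₀ⁿ`; then transvections.
-/

set_option autoImplicit false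
set_option linter.unusedSectionVars false
set_option linter.unusedVariables false

open scoped commutatorElement

namespace Cfsg.Agent.Lib.Helper1.SUMLeaf

open Cfsg.Geo Matrix Module Cfsg.Agent.Lib.Helper4.SUM

section core
variable {n : ℕ} {K : Type*} [Field K]

/-- vectors with entries in `K₀` -/
def IsRat (K₀ : Subfield K) (y : Fin n → K) : Prop := ∀ i, y i ∈ K₀

theorem isRat_sub {K₀ : Subfield K} {y z : Fin n → K} (hy : IsRat K₀ y) (hz : IsRat K₀ z) : IsRat K₀ (y - z) :=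
  fun i => K₀.sub_mem (hy i) (hz i)

theorem isRat_add {K₀ : Subfield K} {y z : Fin n → K} (hy : IsRat K₀ y) (hz : IsRat K₀ z) : IsRat K₀ (y + z) :=
  fun i => K₀.add_mem (hy i) (hz i)

theorem isRat_smul {K₀ : Subfield K} {c : K} (hc : c ∈ K₀) {y : Fin n → K} (hy : IsRat K₀ y) : IsRat K₀ (c • y) :=
  fun i => K₀.mul_mem hc (hy i)

theorem isRat_single (K₀ : Subfield K) (i : Fin n) : IsRat K₀ (Pi.single i (1 : K)) := by
  intro j
  by_cases h : j = i
  · subst h
    rw [Pi.single_eq_same]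
    exact K₀.one_mem
  · rw [Pi.single_eq_of_ne h]
    exact K₀.zero_mem

theorem isRat_map_mulVec (K₀ : Subfield K) (a : GL (Fin n) K₀) {y : Fin n → K} (hy : IsRat K₀ y) :
    IsRat K₀ (((Matrix.GeneralLinearGroup.map (K₀.subtype : K₀ →+* K) a : GL (Fin n) K) :
      Matrix (Fin n) (Fin n) K) *ᵥ y) := by
  intro i
  have h1 : ((Matrix.GeneralLinearGroup.map (K₀.subtype : K₀ →+* K) a : GL (Fin n) K) :
      Matrix (Fin n) (Fin n) K) = (a : Matrix (Fin n) (Fin n) K₀).map (K₀.subtype) := rfl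
  rw [h1, Matrix.mulVec, dotProduct]
  refine K₀.sum_mem (fun j _ => K₀.mul_mem ?_ (hy j))
  rw [Matrix.map_apply]
  exact ((a : Matrix (Fin n) (Fin n) K₀) i j).2

/-- `c • y` rational, `y` rational non-zero: `c ∈ K₀` -/
theorem mem_of_smul_rat {K₀ : Subfield K} {y : Fin n → K} (hy : IsRat K₀ y) (hy0 : y ≠ 0) {c : K}
    (hc : IsRat K₀ (c • y)) : c ∈ K₀ := by
  obtain ⟨i, hi⟩ : ∃ i, y i ≠ 0 := by
    by_contra hcon
    push Not at hcon
    exact hy0 (funext hcon)
  have h1 : c * y i ∈ K₀ := hc i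
  have h2 : c = c * y i * (y i)⁻¹ := by
    rw [mul_assoc, mul_inv_cancel₀ hi, mul_one]
  rw [h2]
  exact K₀.mul_mem h1 (K₀.inv_mem (hy i))

/-- commutators kill central factors -/
theorem commutator_sup_scalars_le (A : Subgroup (GL (Fin n) K)) :
    ⁅A ⊔ scalars (Fin n) K, A ⊔ scalars (Fin n) K⁆ ≤ A := by
  have hcent : ∀ z ∈ scalars (Fin n) K, ∀ g : GL (Fin n) K, z * g = g * z := by
    intro z hz g
    obtain ⟨c, hc⟩ := (mem_scalars_iff z).1 hz
    apply Units.ext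
    rw [Units.val_mul, Units.val_mul, hc]
    simp
  have : (scalars (Fin n) K).Normal := by
    constructor
    intro z hz g
    rw [← hcent z hz g, mul_inv_cancel_right]
    exact hz
  rw [Subgroup.commutator_le]
  intro g₁ h₁ g₂ h₂
  obtain ⟨a, ha, z, hz, rfl⟩ := Subgroup.mem_sup_of_normal_right.mp h₁
  obtain ⟨b, hb, w, hw, rfl⟩ := Subgroup.mem_sup_of_normal_right.mp h₂
  have : ⁅a * z, b * w⁆ = ⁅a, b⁆ := by
    rw [commutatorElement_def, commutatorElement_def, _root_.mul_inv_rev, _root_.mul_inv_rev]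
    have e1 : a * z * (b * w) * (z⁻¹ * a⁻¹) * (w⁻¹ * b⁻¹) = a * b * a⁻¹ * b⁻¹ * (z * z⁻¹) * (w * w⁻¹) := by
      have hz' := hcent z hz
      have hw' := hcent w hw
      have hzi : ∀ g : GL (Fin n) K, z⁻¹ * g = g * z⁻¹ := by
        intro g
        rw [inv_mul_eq_iff_eq_mul, ← mul_assoc, hz' g, mul_inv_cancel_right]
      have hwi : ∀ g : GL (Fin n) K, w⁻¹ * g = g * w⁻¹ := by
        intro g
        rw [inv_mul_eq_iff_eq_mul, ← mul_assoc, hw' g, mul_inv_cancel_right]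
      calc a * z * (b * w) * (z⁻¹ * a⁻¹) * (w⁻¹ * b⁻¹)
          = a * (z * (b * w)) * (z⁻¹ * a⁻¹) * (w⁻¹ * b⁻¹) := by group
        _ = a * ((b * w) * z) * (z⁻¹ * a⁻¹) * (w⁻¹ * b⁻¹) := by rw [hz']
        _ = a * b * (w * a⁻¹) * (w⁻¹ * b⁻¹) := by group
        _ = a * b * (a⁻¹ * w) * (w⁻¹ * b⁻¹) := by rw [hw']
        _ = a * b * a⁻¹ * b⁻¹ * (z * z⁻¹) * (w * w⁻¹) := by group
    rw [e1, mul_inv_cancel, mul_inv_cancel, mul_one, mul_one]
  rw [this]
  rw [commutatorElement_def]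
  exact A.mul_mem (A.mul_mem (A.mul_mem ha hb) (A.inv_mem ha)) (A.inv_mem hb)

/-- a perfect subgroup of the subfield group preserves `V₀ = P K₀ⁿ` -/
theorem rat_of_perfect {S : Subgroup (GL (Fin n) K)} (hperf : ⁅S, S⁆ = S) (K₀ : Subfield K) (P : GL (Fin n) K)
    (hle : S ≤ subfieldSubgroup K₀ P) {g : GL (Fin n) K} (hg : g ∈ S) {y : Fin n → K} (hy : IsRat K₀ y) :
    ∃ y', IsRat K₀ y' ∧ (g : Matrix (Fin n) (Fin n) K) *ᵥ ((P : Matrix (Fin n) (Fin n) K) *ᵥ y) =
      (P : Matrix (Fin n) (Fin n) K) *ᵥ y' := by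
  have h1 : S ≤ ((Matrix.GeneralLinearGroup.map (K₀.subtype : K₀ →+* K) :
      GL (Fin n) K₀ →* GL (Fin n) K).range).map (MulAut.conj P).toMonoidHom := by
    calc S = ⁅S, S⁆ := hperf.symm
      _ ≤ ⁅subfieldSubgroup K₀ P, subfieldSubgroup K₀ P⁆ := Subgroup.commutator_mono hle hle
      _ ≤ _ := by
        unfold subfieldSubgroup
        rw [← Subgroup.map_commutator]
        exact Subgroup.map_mono (commutator_sup_scalars_le _)
  obtain ⟨x, ⟨a, rfl⟩, hx⟩ := h1 hg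
  refine ⟨_, isRat_map_mulVec K₀ a hy, ?_⟩
  rw [← hx]
  have e : ((MulAut.conj P).toMonoidHom (Matrix.GeneralLinearGroup.map (K₀.subtype : K₀ →+* K) a) : GL (Fin n) K)
      = P * (Matrix.GeneralLinearGroup.map (K₀.subtype : K₀ →+* K) a) * P⁻¹ := rfl
  rw [e, Matrix.mulVec_mulVec, ← Units.val_mul, inv_mul_cancel_right, Units.val_mul, Matrix.mulVec_mulVec]

/-- `P` is injective on vectors -/
theorem gl_mulVec_injective (P : GL (Fin n) K) {y z : Fin n → K}
    (h : (P : Matrix (Fin n) (Fin n) K) *ᵥ y = (P : Matrix (Fin n) (Fin n) K) *ᵥ z) : y = z := by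
  have := congrArg (fun t => ((P⁻¹ : GL (Fin n) K) : Matrix (Fin n) (Fin n) K) *ᵥ t) h
  simpa [Matrix.mulVec_mulVec, ← Units.val_mul] using this

end core

section unitary
variable {n : ℕ} {F : Type*} [Field F] [Fintype F] {q : ℕ}

open Cfsg.Agent.Lib.Helper14 Cfsg.Agent.Lib.Helper5.HermBridge

/-- the transvection step: `(T_{v,a} - 1) (P y) = a f(P y, v) v ∈ V₀` -/
theorem tv_step (hF : Fintype.card F = q ^ 2) (hperf : ⁅SUg n F q, SUg n F q⁆ = SUg n F q) (F₀ : Subfield F)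
    (P : GL (Fin n) F) (hle : SUg n F q ≤ subfieldSubgroup F₀ P) {v : Fin n → F}
    (hv : Cfsg.hermForm n F q v v = 0) {a : F} (ha : a ^ q = -a) {y : Fin n → F} (hy : IsRat F₀ y) :
    ∃ y', IsRat F₀ y' ∧
      (a * Cfsg.hermForm n F q ((P : Matrix (Fin n) (Fin n) F) *ᵥ y) v) • v = (P : Matrix (Fin n) (Fin n) F) *ᵥ y' := by
  obtain ⟨g, hg, hgm⟩ := Cfsg.Agent.Lib.Helper4.SUMLeaf.tv_mem hF hv ha
  obtain ⟨y', hy', h⟩ := rat_of_perfect hperf F₀ P hle hg hy
  rw [hgm, Cfsg.Agent.Lib.Helper4.SUMLeaf.ut_mulVec] at h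
  refine ⟨y' - y, isRat_sub hy' hy, ?_⟩
  rw [Matrix.mulVec_sub, ← h, add_sub_cancel_left]

/-- some basis vector of `V₀` pairs non-trivially with `v ≠ 0` -/
theorem exists_rat_pairing (hF : Fintype.card F = q ^ 2) (P : GL (Fin n) F) {v : Fin n → F} (hv : v ≠ 0) :
    ∃ i : Fin n, Cfsg.hermForm n F q ((P : Matrix (Fin n) (Fin n) F) *ᵥ Pi.single i 1) v ≠ 0 := by
  classical
  by_contra hcon
  push Not at hcon
  have hf := herm_unitary (n := n) hF
  obtain ⟨x, hx⟩ := (hf.nondegenerate v hv).1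
  apply hx
  set z : Fin n → F := ((P⁻¹ : GL (Fin n) F) : Matrix (Fin n) (Fin n) F) *ᵥ x with hz
  have hxz : x = ∑ i, z i • ((P : Matrix (Fin n) (Fin n) F) *ᵥ Pi.single i 1) := by
    have h1 : x = (P : Matrix (Fin n) (Fin n) F) *ᵥ z := by
      rw [hz, Matrix.mulVec_mulVec, ← Units.val_mul, mul_inv_cancel, Units.val_one, Matrix.one_mulVec]
    have h2 : z = ∑ i, z i • (Pi.single i 1 : Fin n → F) := by
      funext j
      simp [Finset.sum_apply, Pi.single_apply]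
    conv_lhs => rw [h1, h2]
    rw [Matrix.mulVec_sum]
    apply Finset.sum_congr rfl
    intro i _
    rw [Matrix.mulVec_smul]
  rw [hxz, hermForm_sum_left]
  apply Finset.sum_eq_zero
  intro i _
  rw [hermForm_smul_left, hcon i, mul_zero]

/-- isotropic vectors stay isotropic under scaling -/
theorem herm_smul_iso {v : Fin n → F} (hv : Cfsg.hermForm n F q v v = 0) (c : F) :
    Cfsg.hermForm n F q (c • v) (c • v) = 0 := by
  rw [hermForm_smul_left, hermForm_smul_right, hv, mul_zero, mul_zero]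

/-- a non-zero multiple of an isotropic `v ≠ 0` lies in `V₀` -/
theorem exists_mult_rat (hF : Fintype.card F = q ^ 2) (hperf : ⁅SUg n F q, SUg n F q⁆ = SUg n F q) (F₀ : Subfield F)
    (P : GL (Fin n) F) (hle : SUg n F q ≤ subfieldSubgroup F₀ P) {v : Fin n → F} (hv0 : v ≠ 0)
    (hv : Cfsg.hermForm n F q v v = 0) :
    ∃ (l : F) (y : Fin n → F), l ≠ 0 ∧ IsRat F₀ y ∧ l • v = (P : Matrix (Fin n) (Fin n) F) *ᵥ y := by
  obtain ⟨i, hi⟩ := exists_rat_pairing hF P hv0
  obtain ⟨a, ha0, ha⟩ := Cfsg.Agent.Lib.Helper4.SUMLeaf.exists_skew hF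
  obtain ⟨y', hy', h⟩ := tv_step hF hperf F₀ P hle hv ha (isRat_single F₀ i)
  exact ⟨_, y', mul_ne_zero ha0 hi, hy', h⟩

/-- the fixed field of `x ↦ x ^ q` lies in `F₀` as soon as `SU ≤` the subfield group -/
theorem fixed_le_of_su_le (hF : Fintype.card F = q ^ 2) (hn : 2 ≤ n) (hperf : ⁅SUg n F q, SUg n F q⁆ = SUg n F q)
    (F₀ : Subfield F) (P : GL (Fin n) F) (hle : SUg n F q ≤ subfieldSubgroup F₀ P) (x : F) (hx : x ^ q = x) :
    x ∈ F₀ := by
  obtain ⟨v, hv0, hv⟩ := Cfsg.Agent.Lib.Helper4.SUMLeaf.exists_isotropic hF hn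
  obtain ⟨i, hi⟩ := exists_rat_pairing hF P hv0
  obtain ⟨a, ha0, ha⟩ := Cfsg.Agent.Lib.Helper4.SUMLeaf.exists_skew hF
  obtain ⟨y₁, hy₁, h₁⟩ := tv_step hF hperf F₀ P hle hv ha (isRat_single F₀ i)
  have hxa : (x * a) ^ q = -(x * a) := by rw [mul_pow, hx, ha, mul_neg]
  obtain ⟨y₂, hy₂, h₂⟩ := tv_step hF hperf F₀ P hle hv hxa (isRat_single F₀ i)
  have h3 : y₂ = x • y₁ := by
    apply gl_mulVec_injective P
    rw [← h₂, Matrix.mulVec_smul, ← h₁, smul_smul]
    congr 1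
    ring
  have hy₁0 : y₁ ≠ 0 := by
    rintro rfl
    rw [Matrix.mulVec_zero] at h₁
    rcases smul_eq_zero.mp h₁ with h | h
    · exact mul_ne_zero ha0 hi h
    · exact hv0 h
  exact mem_of_smul_rat hy₁ hy₁0 (h3 ▸ hy₂)

theorem exists_not_mem_subfield (F₀ : Subfield F) {r : ℕ} (hr : 2 ≤ r) (hcard : Fintype.card F = Nat.card F₀ ^ r) :
    ∃ d : F, d ∉ F₀ := by
  by_contra hcon
  simp only [not_exists, not_not] at hcon
  have h1 : Nat.card F₀ = Fintype.card F := by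
    rw [← Nat.card_eq_fintype_card]
    exact Nat.card_congr ⟨fun x => x.1, fun x => ⟨x, hcon x⟩, fun x => rfl, fun x => rfl⟩
  rw [h1] at hcard
  have h2 : 1 < Fintype.card F := Fintype.one_lt_card
  have h3 : Fintype.card F ^ 1 < Fintype.card F ^ r := Nat.pow_lt_pow_right h2 (by omega)
  rw [pow_one] at h3
  omega

/-- P5a. -/
theorem not_su_le_subfield_odd (hF : Fintype.card F = q ^ 2) (hn : 3 ≤ n) (h32 : ¬ (n = 3 ∧ q = 2)) (F₀ : Subfield F)
    {r : ℕ} (hr : r.Prime) (hodd : Odd r) (hcard : Fintype.card F = Nat.card F₀ ^ r) (P : GL (Fin n) F) :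
    ¬ SUg n F q ≤ subfieldSubgroup F₀ P := by
  classical
  intro hle
  have hperf := Cfsg.Agent.Lib.Helper4.SUMLeaf.su_perfect hF hn h32
  have hfix := fixed_le_of_su_le hF (by omega) hperf F₀ P hle
  have hq2 := herm_two_le hF
  have h1 : q ≤ Nat.card F₀ := by
    have hc := fixStar_card hF
    have hsub : insert (0 : F) (fixStar F q) ⊆ Finset.univ.filter (fun x => x ∈ F₀) := by
      intro x hx
      rw [Finset.mem_insert] at hx
      rw [Finset.mem_filter]
      refine ⟨Finset.mem_univ _, ?_⟩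
      rcases hx with rfl | hx
      · exact F₀.zero_mem
      · exact hfix x (mem_fixStar.mp hx).2
    have h0 : (0 : F) ∉ fixStar F q := fun h => (mem_fixStar.mp h).1 rfl
    have h2 := Finset.card_le_card hsub
    rw [Finset.card_insert_of_notMem h0, hc] at h2
    have h3 : (Finset.univ.filter (fun x => x ∈ F₀)).card = Nat.card F₀ := by
      rw [Nat.card_eq_fintype_card, Fintype.card_subtype]
    omega
  have hr3 : 3 ≤ r := by
    have := hr.two_le
    obtain ⟨k, hk⟩ := hodd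
    omega
  have h3 : Nat.card F₀ ^ 3 ≤ Nat.card F₀ ^ r := Nat.pow_le_pow_right (by omega) hr3
  have h4 : Nat.card F₀ ^ r = q ^ 2 := by rw [← hcard, hF]
  have h5 : q ^ 2 ≤ Nat.card F₀ ^ 2 := Nat.pow_le_pow_left h1 2
  have h6 : Nat.card F₀ ^ 2 < Nat.card F₀ ^ 3 := Nat.pow_lt_pow_right (by omega) (by norm_num)
  omega

/-- P5b. -/
theorem not_su_le_subfield_orth (hF : Fintype.card F = q ^ 2) (hn : 3 ≤ n) (h32 : ¬ (n = 3 ∧ q = 2)) (F₀ : Subfield F)
    (P : GL (Fin n) F) (hq : Odd q) (hcard : Fintype.card F = Nat.card F₀ ^ 2)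
    (hP : IsFormRationalStructure (Cfsg.hermForm n F q) F₀ 1 P) : ¬ SUg n F q ≤ subfieldSubgroup F₀ P := by
  classical
  intro hle
  have hperf := Cfsg.Agent.Lib.Helper4.SUMLeaf.su_perfect hF hn h32
  obtain ⟨v, hv0, hv⟩ := Cfsg.Agent.Lib.Helper4.SUMLeaf.exists_isotropic hF (by omega : 2 ≤ n)
  obtain ⟨l, y₁, hl0, hy₁, h₁⟩ := exists_mult_rat hF hperf F₀ P hle hv0 hv
  have hv₀0 : l • v ≠ 0 := smul_ne_zero hl0 hv0
  have hv₀ : Cfsg.hermForm n F q (l • v) (l • v) = 0 := herm_smul_iso hv l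
  obtain ⟨i, hi⟩ := exists_rat_pairing hF P hv₀0
  obtain ⟨a, ha0, ha⟩ := Cfsg.Agent.Lib.Helper4.SUMLeaf.exists_skew hF
  obtain ⟨y₂, hy₂, h₂⟩ := tv_step hF hperf F₀ P hle hv₀ ha (isRat_single F₀ i)
  set c := Cfsg.hermForm n F q ((P : Matrix (Fin n) (Fin n) F) *ᵥ Pi.single i 1) (l • v) with hc_def
  have hc : c ∈ F₀ := by
    have := hP (Pi.single i 1) y₁ (isRat_single F₀ i) hy₁
    rw [one_mul, ← h₁] at this
    exact this
  have hy₁0 : y₁ ≠ 0 := by
    rintro rfl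
    rw [Matrix.mulVec_zero] at h₁
    exact hv₀0 h₁
  have hac : a * c ∈ F₀ := by
    apply mem_of_smul_rat hy₁ hy₁0
    have : y₂ = (a * c) • y₁ := by
      apply gl_mulVec_injective P
      rw [← h₂, Matrix.mulVec_smul, ← h₁]
    rw [← this]
    exact hy₂
  have haF : a ∈ F₀ := by
    have : a = a * c * c⁻¹ := by
      rw [mul_assoc, mul_inv_cancel₀ hi, mul_one]
    rw [this]
    exact F₀.mul_mem hac (F₀.inv_mem hc)
  have hcardq : Nat.card F₀ = q := by
    have : Nat.card F₀ ^ 2 = q ^ 2 := by rw [← hcard, hF]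
    exact Nat.pow_left_injective (n := 2) (by norm_num) this
  have haq : a ^ q = a := by
    have := FiniteField.pow_card (⟨a, haF⟩ : F₀)
    rw [← Nat.card_eq_fintype_card, hcardq] at this
    exact congrArg Subtype.val this
  have h2a : (2 : F) * a = 0 := by
    have : a = -a := by rw [← ha, haq]
    linear_combination this
  obtain ⟨p, j, hp, hchar, hqp⟩ := herm_exists_char hF
  have h2 : (2 : F) ≠ 0 := by
    intro h
    have hd : p ∣ 2 := (CharP.cast_eq_zero_iff F p 2).mp (by exact_mod_cast h)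
    have hp2 : p = 2 := (Nat.prime_dvd_prime_iff_eq hp Nat.prime_two).mp hd
    subst hp2
    rcases Nat.eq_zero_or_pos j with rfl | hj
    · have := herm_two_le hF
      simp at hqp
      omega
    · have : Even q := by
        rw [hqp]
        exact (Nat.even_pow.mpr ⟨even_two, hj.ne'⟩)
      exact (Nat.not_odd_iff_even.mpr this) hq
  rcases mul_eq_zero.mp h2a with h | h
  · exact h2 h
  · exact ha0 h

/-- P5c. -/
theorem not_su_le_subfield_symp (hF : Fintype.card F = q ^ 2) (hn : 3 ≤ n) (h32 : ¬ (n = 3 ∧ q = 2)) (F₀ : Subfield F)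
    (P : GL (Fin n) F) (ζ : F) (hcard : Fintype.card F = Nat.card F₀ ^ 2) (hζ0 : ζ ≠ 0) (hζ : ζ + ζ ^ q = 0)
    (hP : IsFormRationalStructure (Cfsg.hermForm n F q) F₀ ζ P)
    (hiso : ∀ u : Fin n → F, (∀ i, u i ∈ F₀) → Cfsg.hermForm n F q ((P : Matrix (Fin n) (Fin n) F) *ᵥ u)
      ((P : Matrix (Fin n) (Fin n) F) *ᵥ u) = 0) : ¬ SUg n F q ≤ subfieldSubgroup F₀ P := by
  classical
  intro hle
  have hperf := Cfsg.Agent.Lib.Helper4.SUMLeaf.su_perfect hF hn h32
  have hq2 := herm_two_le hF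
  set i0 : Fin n := ⟨0, by omega⟩ with hi0
  set i1 : Fin n := ⟨1, by omega⟩ with hi1
  set i2 : Fin n := ⟨2, by omega⟩ with hi2
  have h01 : i0 ≠ i1 := by
    intro h
    have := congrArg Fin.val h
    simp [hi0, hi1] at this
  have h02 : i0 ≠ i2 := by
    intro h
    have := congrArg Fin.val h
    simp [hi0, hi2] at this
  have h12 : i1 ≠ i2 := by
    intro h
    have := congrArg Fin.val h
    simp [hi1, hi2] at this
  set e0 : Fin n → F := Pi.single i0 1 with he0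
  set e1 : Fin n → F := Pi.single i1 1 with he1
  set e2 : Fin n → F := Pi.single i2 1 with he2
  set u : Fin n → F := (P : Matrix (Fin n) (Fin n) F) *ᵥ e0 with hu
  set g1 : F := Cfsg.hermForm n F q ((P : Matrix (Fin n) (Fin n) F) *ᵥ e1) u with hg1d
  set g2 : F := Cfsg.hermForm n F q ((P : Matrix (Fin n) (Fin n) F) *ᵥ e2) u with hg2d
  have hg1 : ζ * g1 ∈ F₀ := hP e1 e0 (isRat_single F₀ i1) (isRat_single F₀ i0)
  have hg2 : ζ * g2 ∈ F₀ := hP e2 e0 (isRat_single F₀ i2) (isRat_single F₀ i0)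
  obtain ⟨s, t, hs, ht, hst, hst0⟩ : ∃ s t : F, s ∈ F₀ ∧ t ∈ F₀ ∧ (s ≠ 0 ∨ t ≠ 0) ∧ s * g1 + t * g2 = 0 := by
    by_cases h : g1 = 0
    · exact ⟨1, 0, F₀.one_mem, F₀.zero_mem, Or.inl one_ne_zero, by rw [h]; ring⟩
    · exact ⟨ζ * g2, -(ζ * g1), hg2, F₀.neg_mem hg1, Or.inr (neg_ne_zero.mpr (mul_ne_zero hζ0 h)), by ring⟩
  set w0 : Fin n → F := s • e1 + t • e2 with hw0d
  have hw0 : IsRat F₀ w0 := isRat_add (isRat_smul hs (isRat_single _ _)) (isRat_smul ht (isRat_single _ _))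
  set w : Fin n → F := (P : Matrix (Fin n) (Fin n) F) *ᵥ w0 with hw
  have hwu : Cfsg.hermForm n F q w u = 0 := by
    rw [hw, hw0d, Matrix.mulVec_add, Matrix.mulVec_smul, Matrix.mulVec_smul, hermForm_add_left, hermForm_smul_left,
      hermForm_smul_left]
    exact hst0
  have huw : Cfsg.hermForm n F q u w = 0 := by
    rw [← hermForm_conj hF w u, hwu, zero_pow (by omega)]
  have huu : Cfsg.hermForm n F q u u = 0 := hiso e0 (isRat_single _ _)
  have hww : Cfsg.hermForm n F q w w = 0 := hiso w0 hw0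
  obtain ⟨d, hd⟩ := exists_not_mem_subfield F₀ (le_refl 2) hcard
  set z0 : Fin n → F := e0 + d • w0 with hz0d
  set z : Fin n → F := (P : Matrix (Fin n) (Fin n) F) *ᵥ z0 with hzd
  have hz : z = u + d • w := by
    rw [hzd, hz0d, Matrix.mulVec_add, Matrix.mulVec_smul]
  have hzz : Cfsg.hermForm n F q z z = 0 := by
    rw [hz, hermForm_add_left, hermForm_add_right hF, hermForm_add_right hF, hermForm_smul_left, hermForm_smul_left,
      hermForm_smul_right, hermForm_smul_right, huu, hwu, huw, hww]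
    ring
  have hz00 : z0 i0 = 1 := by
    simp [hz0d, hw0d, he0, he1, he2, h01, h02]
  have hz01 : z0 i1 = d * s := by
    simp [hz0d, hw0d, he0, he1, he2, h01.symm, h12]
  have hz02 : z0 i2 = d * t := by
    simp [hz0d, hw0d, he0, he1, he2, h02.symm, h12.symm]
  have hz0 : z ≠ 0 := by
    intro h
    have h1 : z0 = 0 := by
      apply gl_mulVec_injective P
      rw [Matrix.mulVec_zero]
      exact h
    rw [h1] at hz00
    simp at hz00
  obtain ⟨l, y, hl0, hy, hly⟩ := exists_mult_rat hF hperf F₀ P hle hz0 hzz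
  have hy' : y = l • z0 := by
    apply gl_mulVec_injective P
    rw [← hly, Matrix.mulVec_smul]
  have hl : l ∈ F₀ := by
    have := hy i0
    rw [hy', Pi.smul_apply, hz00, smul_eq_mul, mul_one] at this
    exact this
  have h1 : l * (d * s) ∈ F₀ := by
    have := hy i1
    rw [hy', Pi.smul_apply, hz01, smul_eq_mul] at this
    exact this
  have h2 : l * (d * t) ∈ F₀ := by
    have := hy i2
    rw [hy', Pi.smul_apply, hz02, smul_eq_mul] at this
    exact this
  apply hd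
  rcases hst with hs0 | ht0
  · have : d = l * (d * s) * (l * s)⁻¹ := by
      field_simp
    rw [this]
    exact F₀.mul_mem h1 (F₀.inv_mem (F₀.mul_mem hl hs))
  · have : d = l * (d * t) * (l * t)⁻¹ := by
      field_simp
    rw [this]
    exact F₀.mul_mem h2 (F₀.inv_mem (F₀.mul_mem hl ht))

end unitary

end Cfsg.Agent.Lib.Helper1.SUMLeaf
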