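import Mathlib

/-!
# S2282: number theory of the mu-triple (helper1)

`F` a finite field with `q ^ 2` elements, `t ≠ 0` with `q + 1 ∣ 3 * orderOf t` (e.g. `t` of order `q + 1`
or `(q + 1) / 3`).  If `q ∉ {2, 5, 8}` then `t` lies in no proper subfield of `F`; consequently an additive
subgroup `M ≠ 0` of `F` stable under multiplication by `t` is all of `F`.
-/

set_option autoImplicit false

namespace Cfsg.Agent.Lib.Helper1.SUMuField

/-- even degree: `r ^ k = q`, `o ∣ r - 1`, `q + 1 ∣ 3 * o` force `q + 1 ∣ 6` -/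
theorem arith_even {q r k o : ℕ} (hq : 1 ≤ q) (hr : r ^ k = q) (ho : o ∣ r - 1)
    (h : q + 1 ∣ 3 * o) : q + 1 ∣ 6 := by
  have h1 : r - 1 ∣ q - 1 := by
    have := Nat.sub_dvd_pow_sub_pow r 1 k
    rwa [one_pow, hr] at this
  have h2 : q + 1 ∣ 3 * (q - 1) := dvd_trans h (Nat.mul_dvd_mul_left 3 (dvd_trans ho h1))
  have h3 : q + 1 ∣ 3 * (q + 1) := dvd_mul_left _ _
  have h4 : q + 1 ∣ 3 * (q + 1) - 3 * (q - 1) := Nat.dvd_sub h3 h2
  have h5 : 3 * (q + 1) - 3 * (q - 1) = 6 := by omega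
  rwa [h5] at h4

/-- odd degree `≥ 3`: `r ^ (2 k + 1) = q ^ 2`, `o ∣ r - 1`, `q + 1 ∣ 3 * o` force `q = 8` -/
theorem arith_odd {q r k o : ℕ} (hr2 : 2 ≤ r) (hk : 1 ≤ k) (hr : r ^ (2 * k + 1) = q ^ 2)
    (ho : o ∣ r - 1) (h : q + 1 ∣ 3 * o) : q = 8 := by
  have hrk_pos : 0 < r ^ k := pow_pos (by omega) k
  -- `r ^ k ∣ q`
  have hdvd : r ^ k ∣ q := by
    have h1 : (r ^ k) ^ 2 ∣ q ^ 2 := by
      rw [← hr, ← pow_mul, pow_succ, mul_comm k 2]
      exact dvd_mul_right _ _
    exact (Nat.pow_dvd_pow_iff (by norm_num)).1 h1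
  obtain ⟨r0, hr0⟩ := hdvd
  -- `r = r0 ^ 2`
  have hrsq : r = r0 ^ 2 := by
    have h1 : r ^ (2 * k) * r = r ^ (2 * k) * r0 ^ 2 := by
      calc r ^ (2 * k) * r = r ^ (2 * k + 1) := by rw [pow_succ]
        _ = q ^ 2 := hr
        _ = (r ^ k * r0) ^ 2 := by rw [hr0]
        _ = r ^ (2 * k) * r0 ^ 2 := by rw [mul_pow, ← pow_mul, mul_comm k 2]
    exact Nat.eq_of_mul_eq_mul_left (pow_pos (by omega) _) h1
  have hr0_2 : 2 ≤ r0 := by
    by_contra hlt
    have : r0 ≤ 1 := by omega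
    have : r0 ^ 2 ≤ 1 := by
      calc r0 ^ 2 ≤ 1 ^ 2 := Nat.pow_le_pow_left this 2
        _ = 1 := one_pow 2
    omega
  -- `q = r0 ^ (2 k + 1)`
  have hq : q = r0 ^ (2 * k + 1) := by
    rw [hr0, hrsq, ← pow_mul, pow_succ]
  -- the bound
  have hpos : 0 < 3 * (r - 1) := by omega
  have hle : q + 1 ≤ 3 * (r - 1) :=
    Nat.le_of_dvd hpos (dvd_trans h (Nat.mul_dvd_mul_left 3 ho))
  have hq3 : r0 ^ 3 ≤ q := by
    rw [hq]
    exact Nat.pow_le_pow_right (by omega) (by omega)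
  rcases Nat.lt_or_ge r0 3 with h3 | h3
  · have hr02 : r0 = 2 := by omega
    subst hr02
    -- `q = 2 ^ (2 k + 1)`, `q + 1 ≤ 9`
    have hr4 : r = 4 := by rw [hrsq]; norm_num
    rw [hr4] at hle
    have hq8 : q ≤ 8 := by omega
    rcases Nat.lt_or_ge k 2 with hk2 | hk2
    · have hk1 : k = 1 := by omega
      subst hk1
      rw [hq]; norm_num
    · exfalso
      have : 2 ^ 5 ≤ 2 ^ (2 * k + 1) := Nat.pow_le_pow_right (by norm_num) (by omega)
      rw [← hq] at this
      omega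
  · exfalso
    have h4 : 3 * r0 ^ 2 ≤ r0 ^ 3 := by
      calc 3 * r0 ^ 2 ≤ r0 * r0 ^ 2 := Nat.mul_le_mul_right _ h3
        _ = r0 ^ 3 := by ring
    rw [hrsq] at hle
    have h5 : 1 ≤ r0 ^ 2 := Nat.one_le_pow _ _ (by omega)
    omega

variable {F : Type*} [Field F] [Fintype F] {q : ℕ}

/-- `t` lies in no proper subfield -/
theorem subfield_eq_top_of_order (hF : Fintype.card F = q ^ 2) (hq2 : q ≠ 2) (hq5 : q ≠ 5)
    (hq8 : q ≠ 8) (t : F) (ht0 : t ≠ 0) (ht : q + 1 ∣ 3 * orderOf t) (K : Subfield F)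
    (htK : t ∈ K) : K = ⊤ := by
  classical
  have hq_2 : 2 ≤ q := by
    have h1 : 1 < Fintype.card F := Fintype.one_lt_card
    rw [hF] at h1
    by_contra hlt
    have : q ≤ 1 := by omega
    have : q ^ 2 ≤ 1 ^ 2 := Nat.pow_le_pow_left this 2
    omega
  set r := Fintype.card K with hr
  set e := Module.finrank K F with he
  have hcard : q ^ 2 = r ^ e := by
    rw [← hF]
    exact Module.card_eq_pow_finrank
  have hr2 : 2 ≤ r := Fintype.one_lt_card
  have he_pos : 0 < e := Module.finrank_pos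
  -- `orderOf t ∣ r - 1`
  have hord : orderOf t ∣ r - 1 := by
    apply orderOf_dvd_of_pow_eq_one
    have h1 : (⟨t, htK⟩ : K) ≠ 0 := by
      intro h0
      exact ht0 (congrArg Subtype.val h0)
    have h2 := FiniteField.pow_card_sub_one_eq_one (⟨t, htK⟩ : K) h1
    have h3 := congrArg (Subtype.val) h2
    simpa using h3
  -- the degree is one
  have he1 : e = 1 := by
    by_contra hne
    rcases Nat.even_or_odd' e with ⟨k, hk | hk⟩
    · -- even degree
      have hk1 : 1 ≤ k := by omega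
      have hrk : r ^ k = q := by
        have h1 : (r ^ k) ^ 2 = q ^ 2 := by rw [hcard, hk, ← pow_mul, mul_comm k 2]
        exact Nat.pow_left_injective (by norm_num : 2 ≠ 0) h1
      have h6 := arith_even (by omega) hrk hord ht
      have h7 : q + 1 ≤ 6 := Nat.le_of_dvd (by norm_num) h6
      have h8 : q ≤ 5 := by omega
      interval_cases q
      · exact hq2 rfl
      · norm_num at h6
      · norm_num at h6
      · exact hq5 rfl
    · -- odd degree
      have hk1 : 1 ≤ k := by omega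
      exact hq8 (arith_odd hr2 hk1 (by rw [← hk]; exact hcard.symm) hord ht)
  -- so `K = ⊤`
  have hcardK : Fintype.card K = Fintype.card F := by
    rw [hF, hcard, he1, pow_one]
  have hbij : Function.Bijective (K.subtype : K → F) :=
    (Fintype.bijective_iff_injective_and_card _).2 ⟨K.subtype_injective, hcardK⟩
  rw [eq_top_iff]
  intro x _
  obtain ⟨y, hy⟩ := hbij.2 x
  rw [← hy]
  exact y.2

/-- the subfield of multipliers of an additive subgroup of a finite field -/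
def mulStab (M : AddSubgroup F) : Subfield F where
  carrier := {r | ∀ x ∈ M, r * x ∈ M}
  mul_mem' := fun {a b} ha hb x hx => by
    rw [mul_assoc]; exact ha _ (hb x hx)
  one_mem' := fun x hx => by rwa [one_mul]
  add_mem' := fun {a b} ha hb x hx => by
    rw [add_mul]; exact M.add_mem (ha x hx) (hb x hx)
  zero_mem' := fun x _ => by rw [zero_mul]; exact M.zero_mem
  neg_mem' := fun {a} ha x hx => by
    rw [neg_mul]; exact M.neg_mem (ha x hx)
  inv_mem' := by
    intro a ha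
    by_cases h0 : a = 0
    · subst h0
      rw [inv_zero]
      exact ha
    · have hpow : ∀ n : ℕ, ∀ x ∈ M, a ^ n * x ∈ M := by
        intro n
        induction n with
        | zero => intro x hx; rwa [pow_zero, one_mul]
        | succ n ih =>
          intro x hx
          rw [pow_succ, mul_assoc]
          exact ih _ (ha x hx)
      have h1 : a ^ (Fintype.card F - 1) = 1 := FiniteField.pow_card_sub_one_eq_one a h0
      have h2 : 2 ≤ Fintype.card F := Fintype.one_lt_card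
      have h3 : a * a ^ (Fintype.card F - 2) = 1 := by
        rw [← pow_succ', show Fintype.card F - 2 + 1 = Fintype.card F - 1 by omega, h1]
      have h4 : a⁻¹ = a ^ (Fintype.card F - 2) := inv_eq_of_mul_eq_one_right h3
      rw [h4]
      exact hpow _

theorem mem_mulStab (M : AddSubgroup F) (r : F) : r ∈ mulStab M ↔ ∀ x ∈ M, r * x ∈ M := Iff.rfl

/-- an additive subgroup `M ≠ 0` stable under multiplication by `t` is everything -/
theorem addSubgroup_eq_top_of_mul_mem (hF : Fintype.card F = q ^ 2) (hq2 : q ≠ 2) (hq5 : q ≠ 5)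
    (hq8 : q ≠ 8) (t : F) (ht0 : t ≠ 0) (ht : q + 1 ∣ 3 * orderOf t) (M : AddSubgroup F) (a : F)
    (ha : a ∈ M) (ha0 : a ≠ 0) (hloop : ∀ x ∈ M, t * x ∈ M) : M = ⊤ := by
  have hK : mulStab M = ⊤ :=
    subfield_eq_top_of_order hF hq2 hq5 hq8 t ht0 ht (mulStab M) hloop
  rw [eq_top_iff]
  intro x _
  have h1 : x * a⁻¹ ∈ mulStab M := by rw [hK]; exact Subfield.mem_top _
  have h2 := h1 a ha
  rwa [mul_assoc, inv_mul_cancel₀ ha0, mul_one] at h2

/-- variant: `a, t a, t² a ∈ M` and `M` stable under multiplication by `t ^ 3` -/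
theorem addSubgroup_eq_top_of_cube_mul_mem (hF : Fintype.card F = q ^ 2) (hq2 : q ≠ 2)
    (hq5 : q ≠ 5) (hq8 : q ≠ 8) (t : F) (ht0 : t ≠ 0) (ht : q + 1 ∣ 3 * orderOf t)
    (M : AddSubgroup F) (a : F) (ha0 : a ≠ 0) (h0 : a ∈ M) (h1 : t * a ∈ M)
    (h2 : t ^ 2 * a ∈ M) (hloop : ∀ x ∈ M, t ^ 3 * x ∈ M) : M = ⊤ := by
  -- `N = {β | β a, β t a, β t² a ∈ M}` is stable under `t`
  let N : AddSubgroup F :=
    { carrier := {β | β * a ∈ M ∧ β * (t * a) ∈ M ∧ β * (t ^ 2 * a) ∈ M}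
      zero_mem' := by
        refine ⟨?_, ?_, ?_⟩ <;> · rw [zero_mul]; exact M.zero_mem
      add_mem' := by
        rintro x y ⟨hx0, hx1, hx2⟩ ⟨hy0, hy1, hy2⟩
        refine ⟨?_, ?_, ?_⟩
        · rw [add_mul]; exact M.add_mem hx0 hy0
        · rw [add_mul]; exact M.add_mem hx1 hy1
        · rw [add_mul]; exact M.add_mem hx2 hy2
      neg_mem' := by
        rintro x ⟨hx0, hx1, hx2⟩
        refine ⟨?_, ?_, ?_⟩
        · rw [neg_mul]; exact M.neg_mem hx0
        · rw [neg_mul]; exact M.neg_mem hx1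
        · rw [neg_mul]; exact M.neg_mem hx2 }
  have hN1 : (1 : F) ∈ N := ⟨by rwa [one_mul], by rwa [one_mul], by rwa [one_mul]⟩
  have hNloop : ∀ x ∈ N, t * x ∈ N := by
    rintro x ⟨hx0, hx1, hx2⟩
    refine ⟨?_, ?_, ?_⟩
    · have : t * x * a = x * (t * a) := by ring
      rw [this]; exact hx1
    · have : t * x * (t * a) = x * (t ^ 2 * a) := by ring
      rw [this]; exact hx2
    · have : t * x * (t ^ 2 * a) = t ^ 3 * (x * a) := by ring
      rw [this]; exact hloop _ hx0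
  have hNtop : N = ⊤ :=
    addSubgroup_eq_top_of_mul_mem hF hq2 hq5 hq8 t ht0 ht N 1 hN1 one_ne_zero hNloop
  rw [eq_top_iff]
  intro x _
  have h3 : x * a⁻¹ ∈ N := by rw [hNtop]; exact AddSubgroup.mem_top _
  have h4 := h3.1
  rwa [mul_assoc, inv_mul_cancel₀ ha0, mul_one] at h4

end Cfsg.Agent.Lib.Helper1.SUMuField
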