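import Mathlib
import Cfsg.Agent.Lib.Helper5.USfG

/-!
# Unitary subfield subgroups of odd prime degree, characteristic two, `n ≥ 6` (helper1)

Even-`q` half of conjunct (9) of S5801 (`SU_6(q)`; proved for all `n ≥ 6`), on top of helper5's `USf` library
(`key`, `l5`, `rat_TV`, ...).  `hard_even`: in characteristic two every element `g` of a proper overgroup `M`
of the subfield group lies in the subfield group.

Proof.  Take a rational isotropic `u` and put `w = g u`.  If `w` is orthogonal to some non-zero rational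
isotropic vector, `key` applies.  Otherwise, for every rational isotropic `c` the transvections `t_c(c₀)`,
`t_w(c₀)` of `M` are involutions (characteristic two) generating a dihedral group; a common central
involution is impossible (it would be the identity), so they are swapped by an involution `s_c` of that
group, which turns out to be a transvection with centre `c + l • w` (`exists_swap`).  For a rational
hyperbolic pair `a`, `b` the element `y = s_b s_a ∈ M` maps `a` to a multiple of `b`, hence lies in the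
subfield group by `l5`; it fixes a subspace of codimension two pointwise, so by Galois descent (`eig_mem`)
it maps rational vectors to rational vectors; the displacement `y e₁ - e₁` of a third rational vector is then a
rational vector `α a + β b + κ w` with `κ ≠ 0`, and a rational isotropic vector orthogonal to `a`, `b` and it
is orthogonal to `w`: contradiction.
-/

set_option autoImplicit false
set_option linter.unusedSectionVars false
set_option linter.unusedVariables false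
set_option linter.unusedSimpArgs false

namespace Cfsg.Agent.Lib.Helper1.SUgSf6E
open Cfsg Matrix Cfsg.Agent.Lib.Helper5.SpMax Cfsg.Agent.Lib.Helper5.TMCalc
  Cfsg.Agent.Lib.Helper5.UForm Cfsg.Agent.Lib.Helper5.USub Cfsg.Agent.Lib.Helper5.HermBridge
  Cfsg.Agent.Lib.Helper5.SUMax Cfsg.Agent.Lib.Helper5.LSub Cfsg.Agent.Lib.Helper5.SUGen
  Cfsg.Agent.Lib.Helper5.USf

section Dihedral

/-- two involutions of a finite group are swapped by an involution of the group they generate, or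
commute with a common non-trivial involution of that group -/
lemma dihedral_inv {G : Type*} [Group G] [Finite G] (i j : G) (hi : i * i = 1) (hj : j * j = 1) :
    (∃ k : ℕ, ((i * j) ^ k * i) * ((i * j) ^ k * i) = 1 ∧
        ((i * j) ^ k * i) * i = j * ((i * j) ^ k * i)) ∨
      ∃ m : ℕ, (i * j) ^ m ≠ 1 ∧ (i * j) ^ m * (i * j) ^ m = 1 ∧
        (i * j) ^ m * i = i * (i * j) ^ m ∧ (i * j) ^ m * j = j * (i * j) ^ m := by
  have hi' : i⁻¹ = i := inv_eq_of_mul_eq_one_right hi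
  have hj' : j⁻¹ = j := inv_eq_of_mul_eq_one_right hj
  obtain ⟨x, hx⟩ : ∃ x : G, x = i * j := ⟨_, rfl⟩
  rw [← hx]
  have hxinv : x⁻¹ = j * i := by rw [hx, _root_.mul_inv_rev, hi', hj']
  have hix : ∀ m : ℕ, i * x ^ m * i = (x ^ m)⁻¹ := by
    intro m
    have h1 : i * x * i⁻¹ = x⁻¹ := by
      rw [hi', hxinv, hx, ← mul_assoc, hi, one_mul]
    have h2 := conj_pow (i := m) (a := i) (b := x)
    rw [h1, hi'] at h2
    rw [← h2, inv_pow]
  have hjx : ∀ m : ℕ, j * x ^ m * j = (x ^ m)⁻¹ := by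
    intro m
    have h1 : j * x * j⁻¹ = x⁻¹ := by
      rw [hj', hxinv, hx, mul_assoc, mul_assoc, hj, mul_one]
    have h2 := conj_pow (i := m) (a := j) (b := x)
    rw [h1, hj'] at h2
    rw [← h2, inv_pow]
  have hpos : 0 < orderOf x := orderOf_pos x
  obtain ⟨k, hk | hk⟩ := Nat.even_or_odd' (orderOf x)
  · right
    have hzz : x ^ k * x ^ k = 1 := by
      rw [← pow_add, ← two_mul, ← hk, pow_orderOf_eq_one]
    have hzinv : (x ^ k)⁻¹ = x ^ k := inv_eq_of_mul_eq_one_right hzz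
    refine ⟨k, ?_, hzz, ?_, ?_⟩
    · exact pow_ne_one_of_lt_orderOf (by omega) (by omega)
    · have h3 := hix k
      rw [hzinv] at h3
      calc x ^ k * i = (i * i) * x ^ k * i := by rw [hi, one_mul]
        _ = i * (i * x ^ k * i) := by simp only [mul_assoc]
        _ = i * x ^ k := by rw [h3]
    · have h3 := hjx k
      rw [hzinv] at h3
      calc x ^ k * j = (j * j) * x ^ k * j := by rw [hj, one_mul]
        _ = j * (j * x ^ k * j) := by simp only [mul_assoc]
        _ = j * x ^ k := by rw [h3]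
  · left
    have hx2k : x ^ (2 * k) = x⁻¹ := by
      apply eq_inv_of_mul_eq_one_left
      rw [← pow_succ, ← hk, pow_orderOf_eq_one]
    have h3 := hix k
    have hss : (x ^ k * i) * (x ^ k * i) = 1 := by
      calc (x ^ k * i) * (x ^ k * i) = x ^ k * (i * x ^ k * i) := by simp only [mul_assoc]
        _ = 1 := by rw [h3, mul_inv_cancel]
    refine ⟨k, hss, ?_⟩
    -- s i = j s  ⟸  s i s = j (s s) = j
    have hsinv : (x ^ k * i)⁻¹ = x ^ k * i := inv_eq_of_mul_eq_one_right hss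
    have hconj : (x ^ k * i) * i * (x ^ k * i) = j := by
      calc (x ^ k * i) * i * (x ^ k * i) = x ^ k * (i * i) * x ^ k * i := by
            simp only [mul_assoc]
        _ = x ^ (2 * k) * i := by rw [hi, mul_one, ← pow_add, two_mul]
        _ = j := by rw [hx2k, hxinv, mul_assoc, hi, mul_one]
    calc (x ^ k * i) * i = (x ^ k * i) * i * ((x ^ k * i) * (x ^ k * i)) := by rw [hss, mul_one]
      _ = ((x ^ k * i) * i * (x ^ k * i)) * (x ^ k * i) := by simp only [mul_assoc]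
      _ = j * (x ^ k * i) := by rw [hconj]

end Dihedral

section Galois
variable {F : Type*} [Field F] [Fintype F] {n : ℕ} {F₀ : Subfield F} {P : GL (Fin n) F}

/-- an element outside the subfield is moved by an automorphism fixing the subfield -/
lemma exists_aut_ne {η : F} (hη : η ∉ F₀) :
    ∃ f : F ≃+* F, (∀ c ∈ F₀, f c = c) ∧ f η ≠ η := by
  by_contra hcon
  push Not at hcon
  apply hη
  have h1 : η ∈ Set.range (algebraMap (↥F₀) F) := by
    rw [IsGalois.mem_range_algebraMap_iff_fixed]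
    intro f
    apply hcon (f : F ≃+* F)
    intro c hc
    exact f.commutes ⟨c, hc⟩
  obtain ⟨x, hx⟩ := h1
  rw [← hx]
  exact x.2

omit [Fintype F] in
lemma ext_cf {x y : Fin n → F} (hxy : ∀ l, cf P l x = cf P l y) : x = y := by
  rw [decomp P x, decomp P y]
  apply Finset.sum_congr rfl
  intro l _
  rw [hxy l]

/-- the twist of a vector by a field automorphism, in rational coordinates -/
def tw (P : GL (Fin n) F) (f : F ≃+* F) (v : Fin n → F) : Fin n → F :=
  ∑ m, f (cf P m v) • ev P m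

omit [Fintype F] in
lemma cf_tw (f : F ≃+* F) (v : Fin n → F) (l : Fin n) : cf P l (tw P f v) = f (cf P l v) := by
  rw [tw, map_sum, Finset.sum_eq_single l]
  · rw [map_smul, cf_ev_same, smul_eq_mul, mul_one]
  · intro m _ hm
    rw [map_smul, cf_ev_ne P (Ne.symm hm), smul_zero]
  · intro hni
    exact absurd (Finset.mem_univ _) hni

omit [Fintype F] in
lemma tw_add (f : F ≃+* F) (v v' : Fin n → F) : tw P f (v + v') = tw P f v + tw P f v' := by
  apply ext_cf (P := P)
  intro l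
  rw [map_add, cf_tw, cf_tw, cf_tw, map_add, map_add]

omit [Fintype F] in
lemma tw_smul (f : F ≃+* F) (c : F) (v : Fin n → F) : tw P f (c • v) = f c • tw P f v := by
  apply ext_cf (P := P)
  intro l
  rw [map_smul, cf_tw, cf_tw, map_smul, smul_eq_mul, smul_eq_mul, map_mul]

omit [Fintype F] in
lemma tw_zero (f : F ≃+* F) : tw P f 0 = 0 := by
  apply ext_cf (P := P)
  intro l
  rw [cf_tw, map_zero, map_zero]

omit [Fintype F] in
lemma tw_sum {ι : Type*} (f : F ≃+* F) (S : Finset ι) (v : ι → (Fin n → F)) :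
    tw P f (∑ i ∈ S, v i) = ∑ i ∈ S, tw P f (v i) := by
  classical
  induction S using Finset.induction_on with
  | empty => simp [tw_zero]
  | insert a S ha ih => rw [Finset.sum_insert ha, Finset.sum_insert ha, tw_add, ih]

omit [Fintype F] in
lemma tw_inj (f : F ≃+* F) {v : Fin n → F} (h : tw P f v = 0) : v = 0 := by
  apply ext_cf (P := P)
  intro l
  have h1 := cf_tw (P := P) f v l
  rw [h, map_zero] at h1
  rw [map_zero]
  exact (map_eq_zero f).mp h1.symm

omit [Fintype F] in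
/-- the twist commutes with matrices acting rationally -/
lemma tw_mulVec (f : F ≃+* F) (hf : ∀ c ∈ F₀, f c = c) (A : Matrix (Fin n) (Fin n) F)
    (hA : ∀ x, IsRat F₀ P x → IsRat F₀ P (A *ᵥ x)) (v : Fin n → F) :
    A *ᵥ tw P f v = tw P f (A *ᵥ v) := by
  have hent : ∀ l m, cf P l (A *ᵥ ev P m) ∈ F₀ := fun l m => isRat_cf (hA _ (isRat_ev P m)) l
  apply ext_cf (P := P)
  intro l
  rw [cf_tw]
  have e1 := lin_decomp P (cf P l ∘ₗ Matrix.toLin' A) (tw P f v)
  have e2 := lin_decomp P (cf P l ∘ₗ Matrix.toLin' A) v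
  simp only [LinearMap.comp_apply, Matrix.toLin'_apply] at e1 e2
  rw [e1, e2, map_sum]
  apply Finset.sum_congr rfl
  intro m _
  rw [cf_tw, smul_eq_mul, smul_eq_mul, map_mul, hf _ (hent l m)]

/-- Galois descent: an eigenvalue of a rationally acting matrix whose eigenspace has more than half
the dimension lies in the subfield -/
lemma eig_mem (A : Matrix (Fin n) (Fin n) F)
    (hA : ∀ x, IsRat F₀ P x → IsRat F₀ P (A *ᵥ x)) (η : F) (W : Submodule F (Fin n → F))
    (hW : ∀ v ∈ W, A *ᵥ v = η • v) (hdim : n < 2 * Module.finrank F W) : η ∈ F₀ := by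
  classical
  by_contra hη
  obtain ⟨f, hf, hfη⟩ := exists_aut_ne hη
  obtain ⟨E₁, hE₁⟩ : ∃ E₁ : Submodule F (Fin n → F),
      E₁ = LinearMap.ker (Matrix.toLin' A - η • LinearMap.id) := ⟨_, rfl⟩
  obtain ⟨E₂, hE₂⟩ : ∃ E₂ : Submodule F (Fin n → F),
      E₂ = LinearMap.ker (Matrix.toLin' A - f η • LinearMap.id) := ⟨_, rfl⟩
  have hmem₁ : ∀ v, v ∈ E₁ ↔ A *ᵥ v = η • v := by
    intro v
    rw [hE₁, LinearMap.mem_ker, LinearMap.sub_apply, Matrix.toLin'_apply, LinearMap.smul_apply,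
      LinearMap.id_apply, sub_eq_zero]
  have hmem₂ : ∀ v, v ∈ E₂ ↔ A *ᵥ v = f η • v := by
    intro v
    rw [hE₂, LinearMap.mem_ker, LinearMap.sub_apply, Matrix.toLin'_apply, LinearMap.smul_apply,
      LinearMap.id_apply, sub_eq_zero]
  have hWE : W ≤ E₁ := fun v hv => (hmem₁ v).mpr (hW v hv)
  have hdisj : Disjoint E₁ E₂ := by
    rw [Submodule.disjoint_def]
    intro v h1 h2
    rw [hmem₁] at h1
    rw [hmem₂] at h2
    have h3 : (f η - η) • v = 0 := by rw [sub_smul, ← h1, ← h2, sub_self]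
    rcases smul_eq_zero.mp h3 with h4 | h4
    · exact absurd (sub_eq_zero.mp h4) hfη
    · exact h4
  obtain ⟨k, hk⟩ : ∃ k, k = Module.finrank F W := ⟨_, rfl⟩
  obtain ⟨b, hb⟩ := exists_linearIndependent_of_le_finrank (R := F) (M := W) (le_of_eq hk)
  obtain ⟨b', hb'⟩ : ∃ b' : Fin k → (Fin n → F), b' = fun i => tw P f (b i : Fin n → F) :=
    ⟨_, rfl⟩
  have hb'E : ∀ i, b' i ∈ E₂ := by
    intro i
    rw [hmem₂, hb']
    show A *ᵥ tw P f (b i : Fin n → F) = f η • tw P f (b i : Fin n → F)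
    rw [tw_mulVec f hf A hA, hW _ (b i).2, tw_smul]
  have hbamb : LinearIndependent F (fun i => (b i : Fin n → F)) :=
    hb.map' W.subtype (Submodule.ker_subtype W)
  have hli : LinearIndependent F b' := by
    rw [Fintype.linearIndependent_iff]
    intro c hc
    have h1 : tw P f (∑ i, f.symm (c i) • (b i : Fin n → F)) = 0 := by
      rw [tw_sum, ← hc]
      apply Finset.sum_congr rfl
      intro i _
      rw [tw_smul, RingEquiv.apply_symm_apply, hb']
    have h2 := tw_inj f h1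
    have h3 := (Fintype.linearIndependent_iff.mp hbamb) (fun i => f.symm (c i)) h2
    intro i
    have h4 := h3 i
    exact (map_eq_zero f.symm).mp h4
  have hspan : Submodule.span F (Set.range b') ≤ E₂ := by
    rw [Submodule.span_le]
    rintro _ ⟨i, rfl⟩
    exact hb'E i
  have hc1 := finrank_span_eq_card hli
  rw [Fintype.card_fin] at hc1
  have hc2 := Submodule.finrank_mono hspan
  have hc3 := Submodule.finrank_mono hWE
  have hc4 := Submodule.finrank_add_finrank_le_of_disjoint hdisj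
  rw [Module.finrank_fin_fun] at hc4
  omega

end Galois

section Swap
variable {F : Type*} [Field F] [Fintype F] {q n : ℕ} {M : Subgroup (GL (Fin n) F)}

/-- decomposition along a hyperbolic pair -/
lemma decomp_cw (hF : Fintype.card F = q ^ 2) {c w : Fin n → F}
    (hcc : Cfsg.hermForm n F q c c = 0) (hww : Cfsg.hermForm n F q w w = 0)
    (hcw : Cfsg.hermForm n F q c w ≠ 0) (x : Fin n → F) :
    ∃ x', Cfsg.hermForm n F q x' c = 0 ∧ Cfsg.hermForm n F q x' w = 0 ∧
      x = (Cfsg.hermForm n F q x w / Cfsg.hermForm n F q c w) • c +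
        (Cfsg.hermForm n F q x c / Cfsg.hermForm n F q w c) • w + x' := by
  have hf := herm_unitary (n := n) hF
  have hwc : Cfsg.hermForm n F q w c ≠ 0 := u_symm_ne hf hcw
  refine ⟨x - (Cfsg.hermForm n F q x w / Cfsg.hermForm n F q c w) • c -
    (Cfsg.hermForm n F q x c / Cfsg.hermForm n F q w c) • w, ?_, ?_, ?_⟩
  · rw [u_sub_left hf, u_sub_left hf, hf.smul_left, hf.smul_left, hcc]
    field_simp
    ring
  · rw [u_sub_left hf, u_sub_left hf, hf.smul_left, hf.smul_left, hww]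
    field_simp
    ring
  · abel

/-- a transvection with isotropic centre is an involution in characteristic two -/
lemma tv_sq (hF : Fintype.card F = q ^ 2) (h2 : (2 : F) = 0) {i : GL (Fin n) F} {c : Fin n → F}
    {c₀ : F} (hcc : Cfsg.hermForm n F q c c = 0)
    (hi : ∀ x, (i : Matrix (Fin n) (Fin n) F) *ᵥ x = x + (c₀ * Cfsg.hermForm n F q x c) • c) :
    i * i = 1 := by
  have hf := herm_unitary (n := n) hF
  apply Units.ext
  apply mat_eq_of_mulVec
  intro x
  rw [Units.val_mul, ← Matrix.mulVec_mulVec, Units.val_one, Matrix.one_mulVec,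
    hi ((i : Matrix (Fin n) (Fin n) F) *ᵥ x)]
  have e1 : Cfsg.hermForm n F q ((i : Matrix (Fin n) (Fin n) F) *ᵥ x) c =
      Cfsg.hermForm n F q x c := by
    rw [hi, hf.add_left, hf.smul_left, hcc, mul_zero, add_zero]
  rw [e1, hi x, add_assoc, ← add_smul]
  have e2 : c₀ * Cfsg.hermForm n F q x c + c₀ * Cfsg.hermForm n F q x c = 0 := by
    linear_combination (c₀ * Cfsg.hermForm n F q x c) * h2
  rw [e2, zero_smul, add_zero]

/-- in characteristic two, two transvections with the same parameter at the isotropic vectors `c`,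
`w` with `f c w ≠ 0` are swapped by an involution of the group they generate, which is a
transvection with centre `c + l • w` -/
theorem exists_swap (hF : Fintype.card F = q ^ 2) (h2 : (2 : F) = 0) {c w : Fin n → F} {c₀ : F}
    (hc₀ : c₀ ≠ 0) (hcc : Cfsg.hermForm n F q c c = 0) (hww : Cfsg.hermForm n F q w w = 0)
    (hcw : Cfsg.hermForm n F q c w ≠ 0) (hTc : TV (Cfsg.hermForm n F q) M c c₀)
    (hTw : TV (Cfsg.hermForm n F q) M w c₀) :
    ∃ s ∈ M, ∃ l : F, l ≠ 0 ∧ (s : Matrix (Fin n) (Fin n) F) *ᵥ c = l • w ∧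
      (s : Matrix (Fin n) (Fin n) F) *ᵥ w = l⁻¹ • c ∧
      ∀ x, (s : Matrix (Fin n) (Fin n) F) *ᵥ x =
        x + (Cfsg.hermForm n F q x w / Cfsg.hermForm n F q c w +
          l⁻¹ * (Cfsg.hermForm n F q x c / Cfsg.hermForm n F q w c)) • (c + l • w) := by
  classical
  have hf := herm_unitary (n := n) hF
  have hwc : Cfsg.hermForm n F q w c ≠ 0 := u_symm_ne hf hcw
  have hc0 : c ≠ 0 := by
    intro h0
    rw [h0, u_zero_left hf] at hcw
    exact hcw rfl
  have hw0 : w ≠ 0 := by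
    intro h0
    rw [h0, u_zero_left hf] at hwc
    exact hwc rfl
  obtain ⟨i, hiM, hi⟩ := hTc
  obtain ⟨j, hjM, hj⟩ := hTw
  have hii : i * i = 1 := tv_sq hF h2 hcc hi
  have hjj : j * j = 1 := tv_sq hF h2 hww hj
  have hifix : ∀ v, Cfsg.hermForm n F q v c = 0 → Cfsg.hermForm n F q v w = 0 →
      (i : Matrix (Fin n) (Fin n) F) *ᵥ v = v := by
    intro v h1 _
    rw [hi, h1, mul_zero, zero_smul, add_zero]
  have hjfix : ∀ v, Cfsg.hermForm n F q v c = 0 → Cfsg.hermForm n F q v w = 0 →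
      (j : Matrix (Fin n) (Fin n) F) *ᵥ v = v := by
    intro v _ h1
    rw [hj, h1, mul_zero, zero_smul, add_zero]
  -- a test vector pairing to one with `c`, resp. `w`
  obtain ⟨x₀, hx₀⟩ : ∃ x₀ : Fin n → F, x₀ = (Cfsg.hermForm n F q w c)⁻¹ • w := ⟨_, rfl⟩
  have hx₀c : Cfsg.hermForm n F q x₀ c = 1 := by
    rw [hx₀, hf.smul_left, inv_mul_cancel₀ hwc]
  obtain ⟨y₀, hy₀⟩ : ∃ y₀ : Fin n → F, y₀ = (Cfsg.hermForm n F q c w)⁻¹ • c := ⟨_, rfl⟩
  have hy₀w : Cfsg.hermForm n F q y₀ w = 1 := by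
    rw [hy₀, hf.smul_left, inv_mul_cancel₀ hcw]
  rcases dihedral_inv i j hii hjj with ⟨k, hss, hsij⟩ | ⟨m, hz1, hzz, hzi, hzj⟩
  · obtain ⟨s, hs⟩ : ∃ s : GL (Fin n) F, s = (i * j) ^ k * i := ⟨_, rfl⟩
    rw [← hs] at hss hsij
    have hsM : s ∈ M := by
      rw [hs]
      exact M.mul_mem (M.pow_mem (M.mul_mem hiM hjM) k) hiM
    have hsfix : ∀ v, Cfsg.hermForm n F q v c = 0 → Cfsg.hermForm n F q v w = 0 →
        (s : Matrix (Fin n) (Fin n) F) *ᵥ v = v := by
      intro v h1 h2'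
      rw [hs]
      exact mul_fix (pow_fix (mul_fix (hifix v h1 h2') (hjfix v h1 h2')) k) (hifix v h1 h2')
    have hss' : ∀ v, (s : Matrix (Fin n) (Fin n) F) *ᵥ ((s : Matrix (Fin n) (Fin n) F) *ᵥ v) =
        v := by
      intro v
      rw [Matrix.mulVec_mulVec, ← Units.val_mul, hss, Units.val_one, Matrix.one_mulVec]
    -- s (i x) = j (s x)
    have hrel : ∀ x, (c₀ * Cfsg.hermForm n F q x c) • ((s : Matrix (Fin n) (Fin n) F) *ᵥ c) =
        (c₀ * Cfsg.hermForm n F q ((s : Matrix (Fin n) (Fin n) F) *ᵥ x) w) • w := by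
      intro x
      have e1 : (s : Matrix (Fin n) (Fin n) F) *ᵥ ((i : Matrix (Fin n) (Fin n) F) *ᵥ x) =
          (j : Matrix (Fin n) (Fin n) F) *ᵥ ((s : Matrix (Fin n) (Fin n) F) *ᵥ x) := by
        rw [Matrix.mulVec_mulVec, Matrix.mulVec_mulVec, ← Units.val_mul, ← Units.val_mul, hsij]
      rw [hi, hj, Matrix.mulVec_add, Matrix.mulVec_smul] at e1
      exact add_left_cancel e1
    obtain ⟨l, hl⟩ : ∃ l : F, l = Cfsg.hermForm n F q ((s : Matrix (Fin n) (Fin n) F) *ᵥ x₀) w :=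
      ⟨_, rfl⟩
    have hsc : (s : Matrix (Fin n) (Fin n) F) *ᵥ c = l • w := by
      have e := hrel x₀
      rw [hx₀c, mul_one, ← hl, mul_smul] at e
      exact smul_right_injective _ hc₀ e
    have hl0 : l ≠ 0 := by
      intro h0
      rw [h0, zero_smul] at hsc
      apply hc0
      have := hss' c
      rw [hsc, Matrix.mulVec_zero] at this
      exact this.symm
    have hsw : (s : Matrix (Fin n) (Fin n) F) *ᵥ w = l⁻¹ • c := by
      have e := hss' c
      rw [hsc, Matrix.mulVec_smul] at e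
      rw [← e, smul_smul, inv_mul_cancel₀ hl0, one_smul]
    refine ⟨s, hsM, l, hl0, hsc, hsw, ?_⟩
    intro x
    obtain ⟨x', hx'c, hx'w, hx⟩ := decomp_cw hF hcc hww hcw x
    obtain ⟨α, hα⟩ : ∃ α : F, α = Cfsg.hermForm n F q x w / Cfsg.hermForm n F q c w := ⟨_, rfl⟩
    obtain ⟨β, hβ⟩ : ∃ β : F, β = Cfsg.hermForm n F q x c / Cfsg.hermForm n F q w c := ⟨_, rfl⟩
    rw [← hα, ← hβ] at hx ⊢
    have e1 : (s : Matrix (Fin n) (Fin n) F) *ᵥ x = α • (l • w) + β • (l⁻¹ • c) + x' := by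
      rw [hx, Matrix.mulVec_add, Matrix.mulVec_add, Matrix.mulVec_smul, Matrix.mulVec_smul, hsc,
        hsw, hsfix x' hx'c hx'w]
    rw [e1]
    conv_rhs => rw [hx]
    have hll : l⁻¹ * l = 1 := inv_mul_cancel₀ hl0
    funext t
    simp only [Pi.add_apply, Pi.smul_apply, smul_eq_mul]
    linear_combination (-(α * c t) - β * w t) * h2 - (β * w t) * hll
  · exfalso
    obtain ⟨z, hz⟩ : ∃ z : GL (Fin n) F, z = (i * j) ^ m := ⟨_, rfl⟩
    rw [← hz] at hz1 hzz hzi hzj
    have hzfix : ∀ v, Cfsg.hermForm n F q v c = 0 → Cfsg.hermForm n F q v w = 0 →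
        (z : Matrix (Fin n) (Fin n) F) *ᵥ v = v := by
      intro v h1 h2'
      rw [hz]
      exact pow_fix (mul_fix (hifix v h1 h2') (hjfix v h1 h2')) m
    have hzz' : ∀ v, (z : Matrix (Fin n) (Fin n) F) *ᵥ ((z : Matrix (Fin n) (Fin n) F) *ᵥ v) =
        v := by
      intro v
      rw [Matrix.mulVec_mulVec, ← Units.val_mul, hzz, Units.val_one, Matrix.one_mulVec]
    have hone : ∀ ν : F, ν * ν = 1 → ν = 1 := by
      intro ν hν
      have e : (ν - 1) * (ν - 1) = 0 := by linear_combination hν - (ν - 1) * h2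
      rcases mul_self_eq_zero.mp e with h0
      exact sub_eq_zero.mp h0
    -- z fixes c
    have hzc : (z : Matrix (Fin n) (Fin n) F) *ᵥ c = c := by
      have hrel : ∀ x, (c₀ * Cfsg.hermForm n F q x c) • ((z : Matrix (Fin n) (Fin n) F) *ᵥ c) =
          (c₀ * Cfsg.hermForm n F q ((z : Matrix (Fin n) (Fin n) F) *ᵥ x) c) • c := by
        intro x
        have e1 : (z : Matrix (Fin n) (Fin n) F) *ᵥ ((i : Matrix (Fin n) (Fin n) F) *ᵥ x) =
            (i : Matrix (Fin n) (Fin n) F) *ᵥ ((z : Matrix (Fin n) (Fin n) F) *ᵥ x) := by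
          rw [Matrix.mulVec_mulVec, Matrix.mulVec_mulVec, ← Units.val_mul, ← Units.val_mul, hzi]
        rw [hi, hi, Matrix.mulVec_add, Matrix.mulVec_smul] at e1
        exact add_left_cancel e1
      obtain ⟨ν, hν⟩ : ∃ ν : F,
          ν = Cfsg.hermForm n F q ((z : Matrix (Fin n) (Fin n) F) *ᵥ x₀) c := ⟨_, rfl⟩
      have hzc' : (z : Matrix (Fin n) (Fin n) F) *ᵥ c = ν • c := by
        have e := hrel x₀
        rw [hx₀c, mul_one, ← hν, mul_smul] at e
        exact smul_right_injective _ hc₀ e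
      have hνν : ν * ν = 1 := by
        have e := hzz' c
        rw [hzc', Matrix.mulVec_smul, hzc', smul_smul] at e
        have e3 : (ν * ν - 1) • c = 0 := by rw [sub_smul, e, one_smul, sub_self]
        rcases smul_eq_zero.mp e3 with h0 | h0
        · exact sub_eq_zero.mp h0
        · exact absurd h0 hc0
      rw [hzc', hone ν hνν, one_smul]
    have hzw : (z : Matrix (Fin n) (Fin n) F) *ᵥ w = w := by
      have hrel : ∀ x, (c₀ * Cfsg.hermForm n F q x w) • ((z : Matrix (Fin n) (Fin n) F) *ᵥ w) =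
          (c₀ * Cfsg.hermForm n F q ((z : Matrix (Fin n) (Fin n) F) *ᵥ x) w) • w := by
        intro x
        have e1 : (z : Matrix (Fin n) (Fin n) F) *ᵥ ((j : Matrix (Fin n) (Fin n) F) *ᵥ x) =
            (j : Matrix (Fin n) (Fin n) F) *ᵥ ((z : Matrix (Fin n) (Fin n) F) *ᵥ x) := by
          rw [Matrix.mulVec_mulVec, Matrix.mulVec_mulVec, ← Units.val_mul, ← Units.val_mul, hzj]
        rw [hj, hj, Matrix.mulVec_add, Matrix.mulVec_smul] at e1
        exact add_left_cancel e1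
      obtain ⟨ν, hν⟩ : ∃ ν : F,
          ν = Cfsg.hermForm n F q ((z : Matrix (Fin n) (Fin n) F) *ᵥ y₀) w := ⟨_, rfl⟩
      have hzw' : (z : Matrix (Fin n) (Fin n) F) *ᵥ w = ν • w := by
        have e := hrel y₀
        rw [hy₀w, mul_one, ← hν, mul_smul] at e
        exact smul_right_injective _ hc₀ e
      have hνν : ν * ν = 1 := by
        have e := hzz' w
        rw [hzw', Matrix.mulVec_smul, hzw', smul_smul] at e
        have e3 : (ν * ν - 1) • w = 0 := by rw [sub_smul, e, one_smul, sub_self]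
        rcases smul_eq_zero.mp e3 with h0 | h0
        · exact sub_eq_zero.mp h0
        · exact absurd h0 hw0
      rw [hzw', hone ν hνν, one_smul]
    apply hz1
    apply Units.ext
    apply mat_eq_of_mulVec
    intro x
    rw [Units.val_one, Matrix.one_mulVec]
    obtain ⟨x', hx'c, hx'w, hx⟩ := decomp_cw hF hcc hww hcw x
    rw [hx, Matrix.mulVec_add, Matrix.mulVec_add, Matrix.mulVec_smul, Matrix.mulVec_smul, hzc, hzw,
      hzfix x' hx'c hx'w]

/-- the swap, with the coefficient packaged as a linear functional -/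
theorem exists_swap' (hF : Fintype.card F = q ^ 2) (h2 : (2 : F) = 0) {c w : Fin n → F} {c₀ : F}
    (hc₀ : c₀ ≠ 0) (hcc : Cfsg.hermForm n F q c c = 0) (hww : Cfsg.hermForm n F q w w = 0)
    (hcw : Cfsg.hermForm n F q c w ≠ 0) (hTc : TV (Cfsg.hermForm n F q) M c c₀)
    (hTw : TV (Cfsg.hermForm n F q) M w c₀) :
    ∃ s ∈ M, ∃ l : F, l ≠ 0 ∧ ∃ φ : (Fin n → F) →ₗ[F] F,
      (∀ x, Cfsg.hermForm n F q x c = 0 →
        φ x = Cfsg.hermForm n F q x w / Cfsg.hermForm n F q c w) ∧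
      (s : Matrix (Fin n) (Fin n) F) *ᵥ c = l • w ∧
      (s : Matrix (Fin n) (Fin n) F) *ᵥ w = l⁻¹ • c ∧
      ∀ x, (s : Matrix (Fin n) (Fin n) F) *ᵥ x = x + φ x • (c + l • w) := by
  have hf := herm_unitary (n := n) hF
  obtain ⟨s, hsM, l, hl0, hsc, hsw, hs⟩ := exists_swap hF h2 hc₀ hcc hww hcw hTc hTw
  refine ⟨s, hsM, l, hl0, (Cfsg.hermForm n F q c w)⁻¹ • uL hf w +
    (l⁻¹ * (Cfsg.hermForm n F q w c)⁻¹) • uL hf c, ?_, hsc, hsw, ?_⟩
  · intro x hx
    simp only [LinearMap.add_apply, LinearMap.smul_apply, uL_apply, smul_eq_mul, hx, mul_zero,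
      add_zero]
    rw [div_eq_inv_mul]
  · intro x
    rw [hs x]
    congr 2
    simp only [LinearMap.add_apply, LinearMap.smul_apply, uL_apply, smul_eq_mul]
    rw [div_eq_inv_mul, div_eq_inv_mul, mul_assoc]

end Swap

section Main
variable {F : Type*} [Field F] [Fintype F] {q n : ℕ} {hF : Fintype.card F = q ^ 2}
  {F₀ : Subfield F} {P : GL (Fin n) F} {M : Subgroup (GL (Fin n) F)}

/-- characteristic two: every element of a proper overgroup of the subfield group lies in the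
subfield group, `n ≥ 6` -/
theorem hard_even (h2 : (2 : F) = 0) (hn : 6 ≤ n) (h : Ctx hF F₀ P M) {g : GL (Fin n) F}
    (hg : g ∈ M) : g ∈ Cfsg.Geo.subfieldSubgroup F₀ P := by
  classical
  have hf := herm_unitary (n := n) hF
  have hn0 : 0 < n := by omega
  obtain ⟨u, huR, hu0, huu⟩ := exists_rat_iso h.dat (by omega)
  obtain ⟨w, hw⟩ : ∃ w : Fin n → F, w = (g : Matrix (Fin n) (Fin n) F) *ᵥ u := ⟨_, rfl⟩
  by_cases hA : ∃ a, IsRat F₀ P a ∧ a ≠ 0 ∧ Cfsg.hermForm n F q a a = 0 ∧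
      Cfsg.hermForm n F q w a = 0
  · obtain ⟨a, haR, ha0, haa, hwa⟩ := hA
    rw [hw] at hwa
    exact key hn h hg huR hu0 huu haR ha0 haa hwa
  exfalso
  push Not at hA
  have hww : Cfsg.hermForm n F q w w = 0 := by rw [hw, h.iso hg, huu]
  obtain ⟨c₀, hc₀, hc₀0, hc₀s⟩ := h.toCtx0.skew
  have hTw : TV (Cfsg.hermForm n F q) M w c₀ := by
    rw [hw]
    exact TV_conj hf hg (h.iso hg) (TV_mono h.le (rat_TV hn0 h.dat huR huu hc₀ hc₀s))
  obtain ⟨fr, -, hrat, hgram⟩ := exists_rat_frame h.dat 2 (by omega) huR hu0 huu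
  have Fr : Frame hF F₀ P fr := ⟨hrat, hgram⟩
  have h10 : (1 : Fin 3) ≠ 0 := by decide
  have h20 : (2 : Fin 3) ≠ 0 := by decide
  have h12 : (1 : Fin 3) ≠ 2 := by decide
  have h21 : (2 : Fin 3) ≠ 1 := by decide
  obtain ⟨a, ha⟩ : ∃ a : Fin n → F, a = fr 0 true := ⟨_, rfl⟩
  obtain ⟨b, hb⟩ : ∃ b : Fin n → F, b = fr 0 false := ⟨_, rfl⟩
  obtain ⟨e₁, he₁⟩ : ∃ e₁ : Fin n → F, e₁ = fr 1 true := ⟨_, rfl⟩
  obtain ⟨e₂, he₂⟩ : ∃ e₂ : Fin n → F, e₂ = fr 2 true := ⟨_, rfl⟩
  have haR : IsRat F₀ P a := by rw [ha]; exact Fr.rat 0 true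
  have hbR : IsRat F₀ P b := by rw [hb]; exact Fr.rat 0 false
  have he₁R : IsRat F₀ P e₁ := by rw [he₁]; exact Fr.rat 1 true
  have he₂R : IsRat F₀ P e₂ := by rw [he₂]; exact Fr.rat 2 true
  have ha0 : a ≠ 0 := by rw [ha]; exact Fr.ne_zero 0 true
  have hb0 : b ≠ 0 := by rw [hb]; exact Fr.ne_zero 0 false
  have he₁0 : e₁ ≠ 0 := by rw [he₁]; exact Fr.ne_zero 1 true
  have haa : Cfsg.hermForm n F q a a = 0 := by rw [ha]; exact Fr.iso 0 true
  have hbb : Cfsg.hermForm n F q b b = 0 := by rw [hb]; exact Fr.iso 0 false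
  have hab : Cfsg.hermForm n F q a b = 1 := by rw [ha, hb]; exact Fr.pair 0 true
  have he₁e₁ : Cfsg.hermForm n F q e₁ e₁ = 0 := by rw [he₁]; exact Fr.iso 1 true
  have he₂e₂ : Cfsg.hermForm n F q e₂ e₂ = 0 := by rw [he₂]; exact Fr.iso 2 true
  have he₁e₂ : Cfsg.hermForm n F q e₁ e₂ = 0 := by rw [he₁, he₂]; exact Fr.orth h12 true true
  have he₂e₁ : Cfsg.hermForm n F q e₂ e₁ = 0 := by rw [he₁, he₂]; exact Fr.orth h21 true true
  have he₁a : Cfsg.hermForm n F q e₁ a = 0 := by rw [he₁, ha]; exact Fr.orth h10 true true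
  have he₁b : Cfsg.hermForm n F q e₁ b = 0 := by rw [he₁, hb]; exact Fr.orth h10 true false
  have he₂a : Cfsg.hermForm n F q e₂ a = 0 := by rw [he₂, ha]; exact Fr.orth h20 true true
  have he₂b : Cfsg.hermForm n F q e₂ b = 0 := by rw [he₂, hb]; exact Fr.orth h20 true false
  have he₂f : Cfsg.hermForm n F q e₂ (fr 2 false) = 1 := by rw [he₂]; exact Fr.pair 2 true
  have he₁f : Cfsg.hermForm n F q e₁ (fr 2 false) = 0 := by
    rw [he₁]; exact Fr.orth h12 true false
  -- the swaps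
  have hwa : Cfsg.hermForm n F q w a ≠ 0 := hA a haR ha0 haa
  have hwb : Cfsg.hermForm n F q w b ≠ 0 := hA b hbR hb0 hbb
  have hwe₁ : Cfsg.hermForm n F q w e₁ ≠ 0 := hA e₁ he₁R he₁0 he₁e₁
  have haw : Cfsg.hermForm n F q a w ≠ 0 := u_symm_ne hf hwa
  have hbw : Cfsg.hermForm n F q b w ≠ 0 := u_symm_ne hf hwb
  have he₁w : Cfsg.hermForm n F q e₁ w ≠ 0 := u_symm_ne hf hwe₁
  obtain ⟨sa, hsaM, la, hla0, φa, hφa, hsa_a, hsa_w, hsa⟩ := exists_swap' hF h2 hc₀0 haa hww haw
    (TV_mono h.le (rat_TV hn0 h.dat haR haa hc₀ hc₀s)) hTw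
  obtain ⟨sb, hsbM, lb, hlb0, φb, hφb, hsb_b, hsb_w, hsb⟩ := exists_swap' hF h2 hc₀0 hbb hww hbw
    (TV_mono h.le (rat_TV hn0 h.dat hbR hbb hc₀ hc₀s)) hTw
  obtain ⟨y, hy⟩ : ∃ y : GL (Fin n) F, y = sb * sa := ⟨_, rfl⟩
  have hyM : y ∈ M := by rw [hy]; exact M.mul_mem hsbM hsaM
  have hyv : ∀ v, (y : Matrix (Fin n) (Fin n) F) *ᵥ v =
      (sb : Matrix (Fin n) (Fin n) F) *ᵥ ((sa : Matrix (Fin n) (Fin n) F) *ᵥ v) := by
    intro v
    rw [hy, Units.val_mul, Matrix.mulVec_mulVec]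
  have hya : (y : Matrix (Fin n) (Fin n) F) *ᵥ a = (la * lb⁻¹) • b := by
    rw [hyv, hsa_a, Matrix.mulVec_smul, hsb_w, smul_smul]
  have hyS : y ∈ Cfsg.Geo.subfieldSubgroup F₀ P := l5 hn h hyM haR ha0 haa hbR hya
  obtain ⟨μ, hμ0, hmap⟩ := rat_of_mem_subfield y hyS
  -- Galois descent of the scalar
  have hμm : μ ∈ F₀ := by
    have hA' : ∀ x, IsRat F₀ P x →
        IsRat F₀ P ((μ⁻¹ • (y : Matrix (Fin n) (Fin n) F)) *ᵥ x) := by
      intro x hx
      obtain ⟨r, hr, hyr⟩ := hmap x hx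
      rw [Matrix.smul_mulVec, hyr, smul_smul, inv_mul_cancel₀ hμ0, one_smul]
      exact hr
    have hW : ∀ v ∈ LinearMap.ker (φa.prod φb),
        (μ⁻¹ • (y : Matrix (Fin n) (Fin n) F)) *ᵥ v = μ⁻¹ • v := by
      intro v hv
      rw [LinearMap.mem_ker] at hv
      have hv1 : φa v = 0 := congrArg Prod.fst hv
      have hv2 : φb v = 0 := congrArg Prod.snd hv
      rw [Matrix.smul_mulVec, hyv, hsa v, hv1, zero_smul, add_zero, hsb v, hv2, zero_smul,
        add_zero]
    have hdim : n < 2 * Module.finrank F (LinearMap.ker (φa.prod φb)) := by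
      have r1 := LinearMap.finrank_range_add_finrank_ker (φa.prod φb)
      rw [Module.finrank_fin_fun] at r1
      have r2 := Submodule.finrank_le (LinearMap.range (φa.prod φb))
      rw [Module.finrank_prod, Module.finrank_self] at r2
      omega
    have h1 := eig_mem (P := P) (F₀ := F₀) _ hA' μ⁻¹ _ hW hdim
    have h3 := F₀.inv_mem h1
    rwa [inv_inv] at h3
  have hyr : ∀ x, IsRat F₀ P x → IsRat F₀ P ((y : Matrix (Fin n) (Fin n) F) *ᵥ x) := by
    intro x hx
    obtain ⟨r, hr, hyr⟩ := hmap x hx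
    rw [hyr]
    exact isRat_smul hμm hr
  -- the displacement of `e₁`
  obtain ⟨α, hα⟩ : ∃ α : F, α = φa e₁ := ⟨_, rfl⟩
  obtain ⟨β, hβ⟩ : ∃ β : F, β = φb ((sa : Matrix (Fin n) (Fin n) F) *ᵥ e₁) := ⟨_, rfl⟩
  have hα0 : α ≠ 0 := by
    rw [hα, hφa e₁ he₁a]
    exact div_ne_zero he₁w haw
  obtain ⟨r, hr⟩ : ∃ r : Fin n → F, r = (y : Matrix (Fin n) (Fin n) F) *ᵥ e₁ - e₁ := ⟨_, rfl⟩
  have hrR : IsRat F₀ P r := by
    rw [hr]
    exact isRat_sub (hyr e₁ he₁R) he₁R
  obtain ⟨κ, hκ⟩ : ∃ κ : F, κ = α * la + β * lb := ⟨_, rfl⟩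
  have hre : r = α • a + β • b + κ • w := by
    rw [hr, hyv, hsb ((sa : Matrix (Fin n) (Fin n) F) *ᵥ e₁), ← hβ, hsa e₁, ← hα, hκ]
    module
  have hκ0 : κ ≠ 0 := by
    intro h0
    have e1 := h.iso hyM e₁ a
    have e2 : (y : Matrix (Fin n) (Fin n) F) *ᵥ e₁ = e₁ + (α • a + β • b) := by
      have : (y : Matrix (Fin n) (Fin n) F) *ᵥ e₁ = e₁ + r := by rw [hr]; abel
      rw [this, hre, h0, zero_smul, add_zero]
    rw [e2, hya, he₁a, u_smul_right hf, hf.add_left, hf.add_left, hf.smul_left, hf.smul_left,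
      he₁b, hab, hbb] at e1
    have hν : frobQ hF (la * lb⁻¹) ≠ 0 := by
      rw [Ne, map_eq_zero]
      exact mul_ne_zero hla0 (inv_ne_zero hlb0)
    have e3 : frobQ hF (la * lb⁻¹) * α = 0 := by linear_combination e1
    rcases mul_eq_zero.mp e3 with h' | h'
    · exact hν h'
    · exact hα0 h'
  -- a rational isotropic vector orthogonal to `a`, `b`, `r`
  obtain ⟨b', hb'R, hb'0, hb'b', hb'a, hb'b, hb'r⟩ : ∃ b' : Fin n → F, IsRat F₀ P b' ∧ b' ≠ 0 ∧
      Cfsg.hermForm n F q b' b' = 0 ∧ Cfsg.hermForm n F q b' a = 0 ∧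
      Cfsg.hermForm n F q b' b = 0 ∧ Cfsg.hermForm n F q b' r = 0 := by
    by_cases hp : Cfsg.hermForm n F q e₁ r = 0
    · exact ⟨e₁, he₁R, he₁0, he₁e₁, he₁a, he₁b, hp⟩
    · have hpm : Cfsg.hermForm n F q e₁ r ∈ F₀ := h.dat.form_mem he₁R hrR
      have hpm' : Cfsg.hermForm n F q e₂ r ∈ F₀ := h.dat.form_mem he₂R hrR
      refine ⟨Cfsg.hermForm n F q e₂ r • e₁ - Cfsg.hermForm n F q e₁ r • e₂,
        isRat_sub (isRat_smul hpm' he₁R) (isRat_smul hpm he₂R), ?_, ?_, ?_, ?_, ?_⟩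
      · intro h0
        have e := congrArg (fun v => Cfsg.hermForm n F q v (fr 2 false)) h0
        simp only [u_sub_left hf, hf.smul_left, he₁f, he₂f, u_zero_left hf, mul_zero, mul_one,
          zero_sub, neg_eq_zero] at e
        exact hp e
      · simp only [u_sub_left hf, u_sub_right hf, hf.smul_left, u_smul_right hf, he₁e₁, he₂e₂,
          he₁e₂, he₂e₁, mul_zero, sub_zero]
      · simp only [u_sub_left hf, hf.smul_left, he₁a, he₂a, mul_zero, sub_zero]
      · simp only [u_sub_left hf, hf.smul_left, he₁b, he₂b, mul_zero, sub_zero]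
      · simp only [u_sub_left hf, hf.smul_left]
        ring
  have hb'w : Cfsg.hermForm n F q b' w = 0 := by
    rw [hre, u_add_right hf, u_add_right hf, u_smul_right hf, u_smul_right hf, u_smul_right hf,
      hb'a, hb'b, mul_zero, mul_zero, zero_add, zero_add] at hb'r
    rcases mul_eq_zero.mp hb'r with h' | h'
    · exact absurd ((map_eq_zero (frobQ hF)).mp h') hκ0
    · exact h'
  exact hA b' hb'R hb'0 hb'b' (u_symm_zero hf hb'w)

end Main

section Final
variable {F : Type*} [Field F] [Fintype F] {q n : ℕ} {hF : Fintype.card F = q ^ 2}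
  {F₀ : Subfield F} {P : GL (Fin n) F}

/-- characteristic two: the subfield group of odd prime degree is maximal in `GU_n(q) ⊓ SL_n`,
`n ≥ 6` -/
theorem maximal_even (h2 : (2 : F) = 0) (hn : 6 ≤ n) (hF : Fintype.card F = q ^ 2)
    (F₀ : Subfield F) {r : ℕ} (hr : r.Prime) (hro : Odd r)
    (hcard : Fintype.card F = Nat.card F₀ ^ r) (P : GL (Fin n) F)
    (hP : Cfsg.Geo.IsFormRationalStructure (Cfsg.hermForm n F q) F₀ 1 P) :
    Cfsg.Geo.IsMaximalIn (Cfsg.GU n F q ⊓ Cfsg.Geo.specialLinear (Fin n) F)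
      (Cfsg.Geo.subfieldSubgroup F₀ P ⊓ (Cfsg.GU n F q ⊓ Cfsg.Geo.specialLinear (Fin n) F)) := by
  have hfr : Module.finrank F₀ F = r := finrank_eq_of_card F₀ hcard
  have hr3 : 3 ≤ r := by
    have h2' := hr.two_le
    rcases hro with ⟨k, hk⟩
    omega
  have D : Dat hF F₀ P := ⟨hP, exists_moved_sub hF F₀ hr hro hcard⟩
  refine ⟨Hsub_lt hn D (by rw [hfr]; omega), ?_⟩
  intro M hHM hMG
  by_cases hG : Cfsg.GU n F q ⊓ Cfsg.Geo.specialLinear (Fin n) F ≤ M
  · right
    exact le_antisymm hMG hG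
  · left
    have h : Ctx hF F₀ P M := ⟨D, hHM, hMG, hG, by rw [hfr]; exact hr, by rw [hfr]; exact hr3⟩
    apply le_antisymm _ hHM
    intro g hg
    exact ⟨hard_even h2 hn h hg, hMG hg⟩

end Final

end Cfsg.Agent.Lib.Helper1.SUgSf6E
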