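/-
helper1: self-dual modules in coprime characteristic are sums of symplectic and orthogonal modules
(S4966).  Induction on the dimension, using a minimal subspace stable under the group and under
the asymmetry of the form.
-/
import Mathlib

set_option autoImplicit false

namespace Cfsg.Agent.Lib.Helper1.SelfDual

open Module

variable {F : Type*} [Field F] {G : Type*} [Group G] {V : Type*} [AddCommGroup V] [Module F V]

/-- `Y` is invariant under `ρ`. -/
def Inv (ρ : Representation F G V) (Y : Submodule F V) : Prop :=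
  ∀ g : G, ∀ y ∈ Y, ρ g y ∈ Y

/-- `B` is `ρ`-invariant on `Y`. -/
def FInv (ρ : Representation F G V) (B : LinearMap.BilinForm F V) (Y : Submodule F V) : Prop :=
  ∀ g : G, ∀ x ∈ Y, ∀ y ∈ Y, B (ρ g x) (ρ g y) = B x y

/-- `B` is left-nondegenerate on `Y`. -/
def NDeg (B : LinearMap.BilinForm F V) (Y : Submodule F V) : Prop :=
  ∀ x ∈ Y, (∀ y ∈ Y, B x y = 0) → x = 0

/-- Left orthogonal of `X` inside `Y`. -/
def lorth (B : LinearMap.BilinForm F V) (Y X : Submodule F V) : Submodule F V where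
  carrier := {v | v ∈ Y ∧ ∀ x ∈ X, B v x = 0}
  add_mem' := by
    rintro a b ⟨ha, ha'⟩ ⟨hb, hb'⟩
    exact ⟨Y.add_mem ha hb, fun x hx => by
      rw [map_add, LinearMap.add_apply, ha' x hx, hb' x hx, add_zero]⟩
  zero_mem' := ⟨Y.zero_mem, fun x _ => by simp⟩
  smul_mem' := by
    rintro c a ⟨ha, ha'⟩
    exact ⟨Y.smul_mem c ha, fun x hx => by
      rw [map_smul, LinearMap.smul_apply, ha' x hx, smul_zero]⟩

theorem mem_lorth {B : LinearMap.BilinForm F V} {Y X : Submodule F V} {v : V} :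
    v ∈ lorth B Y X ↔ v ∈ Y ∧ ∀ x ∈ X, B v x = 0 := Iff.rfl

theorem lorth_le (B : LinearMap.BilinForm F V) (Y X : Submodule F V) : lorth B Y X ≤ Y :=
  fun _ hv => hv.1

theorem rho_cancel (ρ : Representation F G V) (g : G) (x : V) : ρ g (ρ g⁻¹ x) = x := by
  rw [← Module.End.mul_apply, ← map_mul, mul_inv_cancel, map_one, Module.End.one_apply]

theorem rho_cancel' (ρ : Representation F G V) (g : G) (x : V) : ρ g⁻¹ (ρ g x) = x := by
  rw [← Module.End.mul_apply, ← map_mul, inv_mul_cancel, map_one, Module.End.one_apply]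

theorem Inv.sup {ρ : Representation F G V} {X Y : Submodule F V} (hX : Inv ρ X) (hY : Inv ρ Y) :
    Inv ρ (X ⊔ Y) := by
  intro g v hv
  obtain ⟨x, hx, y, hy, rfl⟩ := Submodule.mem_sup.mp hv
  rw [map_add]
  exact Submodule.add_mem _ (Submodule.mem_sup_left (hX g x hx)) (Submodule.mem_sup_right (hY g y hy))

theorem Inv.inf {ρ : Representation F G V} {X Y : Submodule F V} (hX : Inv ρ X) (hY : Inv ρ Y) :
    Inv ρ (X ⊓ Y) := fun g v hv => ⟨hX g v hv.1, hY g v hv.2⟩

theorem Inv.bot (ρ : Representation F G V) : Inv ρ (⊥ : Submodule F V) := by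
  intro g v hv
  rw [Submodule.mem_bot] at hv
  rw [hv, map_zero]
  exact Submodule.zero_mem _

theorem FInv.mono {ρ : Representation F G V} {B : LinearMap.BilinForm F V} {X Y : Submodule F V}
    (h : FInv ρ B Y) (hXY : X ≤ Y) : FInv ρ B X :=
  fun g x hx y hy => h g x (hXY hx) y (hXY hy)

theorem Inv.lorth {ρ : Representation F G V} {B : LinearMap.BilinForm F V} {X Y : Submodule F V}
    (hX : Inv ρ X) (hY : Inv ρ Y) (hXY : X ≤ Y) (hB : FInv ρ B Y) : Inv ρ (lorth B Y X) := by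
  intro g v hv
  refine ⟨hY g v hv.1, fun x hx => ?_⟩
  have h1 : ρ g⁻¹ x ∈ X := hX g⁻¹ x hx
  have h2 := hB g v hv.1 (ρ g⁻¹ x) (hXY h1)
  rw [rho_cancel] at h2
  rw [h2]
  exact hv.2 _ h1


theorem finrank_lorth_ge [FiniteDimensional F V] (B : LinearMap.BilinForm F V)
    (Y X : Submodule F V) :
    finrank F Y ≤ finrank F (lorth B Y X) + finrank F X := by
  let f : ↥Y →ₗ[F] Dual F ↥X := LinearMap.domRestrict₁₂ B Y X
  have hker : (LinearMap.ker f).map Y.subtype = lorth B Y X := by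
    ext v
    constructor
    · rintro ⟨y, hy, rfl⟩
      refine ⟨y.2, fun x hx => ?_⟩
      have : f y = 0 := hy
      have h2 : f y ⟨x, hx⟩ = 0 := by rw [this]; rfl
      exact h2
    · rintro ⟨hvY, hv⟩
      refine ⟨⟨v, hvY⟩, ?_, rfl⟩
      show f ⟨v, hvY⟩ = 0
      ext x
      exact hv x.1 x.2
  have h1 := LinearMap.finrank_range_add_finrank_ker f
  have h2 : finrank F (LinearMap.range f) ≤ finrank F ↥X := by
    have := Submodule.finrank_le (LinearMap.range f)
    rwa [Subspace.dual_finrank_eq] at this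
  have h3 : finrank F ((LinearMap.ker f).map Y.subtype) = finrank F (LinearMap.ker f) :=
    Submodule.finrank_map_subtype_eq Y _
  rw [← hker, h3]
  omega

/-- Splitting off a subspace on which the form is left-nondegenerate. -/
theorem split [FiniteDimensional F V] {B : LinearMap.BilinForm F V}
    {Y Z : Submodule F V} (hZY : Z ≤ Y) (hB : NDeg B Y) (hZ : Z ⊓ lorth B Y Z = ⊥) :
    Z ⊔ lorth B Y Z = Y ∧ NDeg B (lorth B Y Z) := by
  have hsup : Z ⊔ lorth B Y Z = Y := by
    apply Submodule.eq_of_le_of_finrank_le (sup_le hZY (lorth_le B Y Z))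
    have h1 := Submodule.finrank_sup_add_finrank_inf_eq Z (lorth B Y Z)
    rw [hZ, finrank_bot, add_zero] at h1
    have h2 := finrank_lorth_ge B Y Z
    omega
  refine ⟨hsup, ?_⟩
  intro y hy hy0
  apply hB y hy.1
  intro w hw
  rw [← hsup] at hw
  obtain ⟨z, hz, l, hl, rfl⟩ := Submodule.mem_sup.mp hw
  rw [map_add, hy.2 z hz, hy0 l hl, add_zero]


/-- The asymmetry of a form which is nondegenerate on `Y`. -/
theorem exists_asym [FiniteDimensional F V] (B : LinearMap.BilinForm F V) (Y : Submodule F V)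
    (hB : NDeg B Y) :
    ∃ σ : V →ₗ[F] V, (∀ y ∈ Y, σ y ∈ Y) ∧ ∀ x ∈ Y, ∀ y ∈ Y, B x y = B y (σ x) := by
  let b : LinearMap.BilinForm F ↥Y := B.restrict Y
  have hb1 : b.SeparatingLeft := by
    intro x hx
    have := hB x.1 x.2 (fun y hy => hx ⟨y, hy⟩)
    exact Subtype.ext this
  have hb : b.Nondegenerate := LinearMap.BilinForm.Nondegenerate.ofSeparatingLeft hb1
  let σ0 : ↥Y →ₗ[F] ↥Y := b.symmCompOfNondegenerate b.flip hb.flip
  obtain ⟨C, hC⟩ := Submodule.exists_isCompl Y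
  let π : V →ₗ[F] ↥Y := Y.projectionOnto C hC
  refine ⟨Y.subtype ∘ₗ σ0 ∘ₗ π, ?_, ?_⟩
  · intro y _
    exact (σ0 (π y)).2
  · intro x hx y hy
    have hπ : π x = ⟨x, hx⟩ := Submodule.projectionOnto_apply_of_mem_left hC hx
    have h1 := LinearMap.BilinForm.symmCompOfNondegenerate_left_apply b hb.flip ⟨y, hy⟩ ⟨x, hx⟩
    have h2 : (Y.subtype ∘ₗ σ0 ∘ₗ π) x = (σ0 ⟨x, hx⟩ : V) := by
      simp only [LinearMap.comp_apply, hπ, Submodule.subtype_apply]
    rw [h2]
    exact h1.symm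


/-- `σ` is an asymmetry of `B` on `Y`. -/
structure Asym (B : LinearMap.BilinForm F V) (Y : Submodule F V) (σ : V →ₗ[F] V) : Prop where
  maps : ∀ y ∈ Y, σ y ∈ Y
  eq : ∀ x ∈ Y, ∀ y ∈ Y, B x y = B y (σ x)

theorem Asym.inj {B : LinearMap.BilinForm F V} {Y : Submodule F V} {σ : V →ₗ[F] V}
    (h : Asym B Y σ) (hB : NDeg B Y) {x : V} (hx : x ∈ Y) (h0 : σ x = 0) : x = 0 := by
  apply hB x hx
  intro y hy
  rw [h.eq x hx y hy, h0, map_zero]

theorem Asym.isom {B : LinearMap.BilinForm F V} {Y : Submodule F V} {σ : V →ₗ[F] V}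
    (h : Asym B Y σ) {x y : V} (hx : x ∈ Y) (hy : y ∈ Y) : B (σ x) (σ y) = B x y := by
  rw [← h.eq y hy (σ x) (h.maps x hx), ← h.eq x hx y hy]

theorem Asym.surj [FiniteDimensional F V] {B : LinearMap.BilinForm F V} {Y : Submodule F V}
    {σ : V →ₗ[F] V} (h : Asym B Y σ) (hB : NDeg B Y) {X : Submodule F V} (hXY : X ≤ Y)
    (hX : ∀ x ∈ X, σ x ∈ X) {x : V} (hx : x ∈ X) : ∃ x' ∈ X, σ x' = x := by
  have hle : X.map σ ≤ X := by
    rintro _ ⟨x', hx', rfl⟩
    exact hX x' hx'
  have hinj : Function.Injective (σ.domRestrict X) := by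
    rw [← LinearMap.ker_eq_bot, LinearMap.ker_eq_bot']
    intro m hm
    have : σ m.1 = 0 := hm
    exact Subtype.ext (h.inj hB (hXY m.2) this)
  have h1 := LinearMap.finrank_range_of_inj hinj
  rw [LinearMap.range_domRestrict] at h1
  have h2 : X.map σ = X := Submodule.eq_of_le_of_finrank_le hle (le_of_eq h1.symm)
  rw [← h2] at hx
  obtain ⟨x', hx', rfl⟩ := hx
  exact ⟨x', hx', rfl⟩

/-- For a `σ`-stable subspace the left and right orthogonals agree. -/
theorem Asym.orth_symm [FiniteDimensional F V] {B : LinearMap.BilinForm F V} {Y : Submodule F V}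
    {σ : V →ₗ[F] V} (h : Asym B Y σ) (hB : NDeg B Y) {X : Submodule F V} (hXY : X ≤ Y)
    (hX : ∀ x ∈ X, σ x ∈ X) {v : V} (hv : v ∈ Y) :
    (∀ x ∈ X, B x v = 0) ↔ (∀ x ∈ X, B v x = 0) := by
  constructor
  · intro h1 x hx
    obtain ⟨x', hx', rfl⟩ := h.surj hB hXY hX hx
    rw [← h.eq x' (hXY hx') v hv]
    exact h1 x' hx'
  · intro h1 x hx
    rw [h.eq x (hXY hx) v hv]
    exact h1 _ (hX x hx)

/-- Stable subspaces. -/
def Stab (ρ : Representation F G V) (σ : V →ₗ[F] V) (X : Submodule F V) : Prop :=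
  Inv ρ X ∧ ∀ x ∈ X, σ x ∈ X

/-- Minimal nonzero stable subspaces. -/
def MinStab (ρ : Representation F G V) (σ : V →ₗ[F] V) (X : Submodule F V) : Prop :=
  X ≠ ⊥ ∧ Stab ρ σ X ∧ ∀ X' : Submodule F V, X' ≤ X → Stab ρ σ X' → X' = ⊥ ∨ X' = X

theorem exists_minStab [FiniteDimensional F V] (ρ : Representation F G V) (σ : V →ₗ[F] V)
    {Y : Submodule F V} (hY : Y ≠ ⊥) (hS : Stab ρ σ Y) :
    ∃ X : Submodule F V, X ≤ Y ∧ MinStab ρ σ X := by
  classical
  have hex : ∃ n : ℕ, ∃ X : Submodule F V, X ≤ Y ∧ X ≠ ⊥ ∧ Stab ρ σ X ∧ finrank F X = n :=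
    ⟨_, Y, le_rfl, hY, hS, rfl⟩
  obtain ⟨X, hXY, hX0, hXS, hXn⟩ := Nat.find_spec hex
  refine ⟨X, hXY, hX0, hXS, ?_⟩
  intro X' hX'X hX'S
  by_cases h0 : X' = ⊥
  · exact Or.inl h0
  · right
    have := Nat.find_min' hex ⟨X', hX'X.trans hXY, h0, hX'S, rfl⟩
    rw [← hXn] at this
    exact Submodule.eq_of_le_of_finrank_le hX'X this


theorem exists_proj (P Q : Submodule F V) (hPQ : P ⊓ Q = ⊥) :
    ∃ π : V →ₗ[F] V, (∀ x ∈ P, π x = x) ∧ (∀ x ∈ Q, π x = 0) ∧ (∀ v, π v ∈ P) := by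
  obtain ⟨C, hC⟩ := Submodule.exists_isCompl (P ⊔ Q)
  have h : IsCompl P (Q ⊔ C) := by
    refine IsCompl.of_eq ?_ ?_
    · rw [eq_bot_iff]
      rintro x ⟨hxP, hxQC⟩
      obtain ⟨q, hq, c, hc, hqc⟩ := Submodule.mem_sup.mp hxQC
      have hc0 : c ∈ (P ⊔ Q) ⊓ C := by
        refine ⟨?_, hc⟩
        have : c = x - q := by rw [← hqc]; abel
        rw [this]
        exact Submodule.sub_mem _ (Submodule.mem_sup_left hxP) (Submodule.mem_sup_right hq)
      rw [hC.inf_eq_bot, Submodule.mem_bot] at hc0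
      have hxq : x = q := by rw [← hqc, hc0, add_zero]
      have : x ∈ P ⊓ Q := ⟨hxP, hxq ▸ hq⟩
      rwa [hPQ] at this
    · rw [← sup_assoc]
      exact hC.sup_eq_top
  refine ⟨P.projection (Q ⊔ C) h, ?_, ?_, ?_⟩
  · intro x hx
    exact Submodule.projection_apply_of_mem_left h hx
  · intro x hx
    exact Submodule.projection_apply_of_mem_right h (Submodule.mem_sup_left hx)
  · intro v
    exact Submodule.projection_apply_mem h v

/-- Gluing forms on two independent invariant subspaces. -/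
theorem glue {ρ : Representation F G V} {P Q : Submodule F V} (hPQ : P ⊓ Q = ⊥)
    (hP : Inv ρ P) (hQ : Inv ρ Q) {A1 A2 : LinearMap.BilinForm F V}
    (h1 : FInv ρ A1 P) (h2 : FInv ρ A2 Q) (n1 : NDeg A1 P) (n2 : NDeg A2 Q) :
    ∃ A : LinearMap.BilinForm F V, FInv ρ A (P ⊔ Q) ∧ NDeg A (P ⊔ Q) ∧
      ((∀ x, A1 x x = 0) → (∀ x, A2 x x = 0) → ∀ x, A x x = 0) ∧
      ((∀ x y, A1 x y = A1 y x) → (∀ x y, A2 x y = A2 y x) → ∀ x y, A x y = A y x) := by
  obtain ⟨π1, hπ1P, hπ1Q, -⟩ := exists_proj P Q hPQ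
  obtain ⟨π2, hπ2Q, hπ2P, -⟩ := exists_proj Q P (by rw [inf_comm]; exact hPQ)
  have key : ∀ x ∈ P, ∀ y ∈ Q, π1 (x + y) = x ∧ π2 (x + y) = y := by
    intro x hx y hy
    rw [map_add, map_add, hπ1P x hx, hπ1Q y hy, hπ2P x hx, hπ2Q y hy, add_zero, zero_add]
    exact ⟨rfl, rfl⟩
  refine ⟨A1.comp π1 π1 + A2.comp π2 π2, ?_, ?_, ?_, ?_⟩
  · intro g v hv w hw
    obtain ⟨x, hx, y, hy, rfl⟩ := Submodule.mem_sup.mp hv
    obtain ⟨x', hx', y', hy', rfl⟩ := Submodule.mem_sup.mp hw
    simp only [LinearMap.add_apply, LinearMap.BilinForm.comp_apply]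
    rw [(key x hx y hy).1, (key x hx y hy).2, (key x' hx' y' hy').1, (key x' hx' y' hy').2]
    rw [map_add (ρ g), map_add (ρ g)]
    rw [(key _ (hP g x hx) _ (hQ g y hy)).1, (key _ (hP g x hx) _ (hQ g y hy)).2,
      (key _ (hP g x' hx') _ (hQ g y' hy')).1, (key _ (hP g x' hx') _ (hQ g y' hy')).2]
    rw [h1 g x hx x' hx', h2 g y hy y' hy']
  · intro v hv hv0
    obtain ⟨x, hx, y, hy, rfl⟩ := Submodule.mem_sup.mp hv
    have hx0 : x = 0 := by
      apply n1 x hx
      intro x' hx'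
      have := hv0 x' (Submodule.mem_sup_left hx')
      simp only [LinearMap.add_apply, LinearMap.BilinForm.comp_apply] at this
      rw [(key x hx y hy).1, (key x hx y hy).2, hπ1P x' hx', hπ2P x' hx', map_zero, add_zero]
        at this
      exact this
    have hy0 : y = 0 := by
      apply n2 y hy
      intro y' hy'
      have := hv0 y' (Submodule.mem_sup_right hy')
      simp only [LinearMap.add_apply, LinearMap.BilinForm.comp_apply] at this
      rw [(key x hx y hy).1, (key x hx y hy).2, hπ1Q y' hy', hπ2Q y' hy', map_zero, zero_add]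
        at this
      exact this
    rw [hx0, hy0, add_zero]
  · intro a1 a2 x
    simp only [LinearMap.add_apply, LinearMap.BilinForm.comp_apply]
    rw [a1, a2, add_zero]
  · intro s1 s2 x y
    simp only [LinearMap.add_apply, LinearMap.BilinForm.comp_apply]
    rw [s1, s2]


/-- `X` carries a nondegenerate invariant alternating form. -/
def AltType (ρ : Representation F G V) (X : Submodule F V) : Prop :=
  ∃ A : LinearMap.BilinForm F V, (∀ x, A x x = 0) ∧ FInv ρ A X ∧ NDeg A X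

/-- `X` carries a nondegenerate invariant symmetric form (and the action is trivial if `p = 2`). -/
def SymType (p : ℕ) (ρ : Representation F G V) (X : Submodule F V) : Prop :=
  ∃ S : LinearMap.BilinForm F V, (∀ x y, S x y = S y x) ∧ FInv ρ S X ∧ NDeg S X ∧
    (p = 2 → ∀ g : G, ∀ w ∈ X, ρ g w = w)

/-- The conclusion, relative to an invariant subspace `Y`. -/
def Good (p : ℕ) (ρ : Representation F G V) (Y : Submodule F V) : Prop :=
  ∃ U W : Submodule F V, U ⊓ W = ⊥ ∧ U ⊔ W = Y ∧ Inv ρ U ∧ Inv ρ W ∧ AltType ρ U ∧ SymType p ρ W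

theorem ndeg_bot (A : LinearMap.BilinForm F V) : NDeg A ⊥ := by
  intro x hx _
  exact (Submodule.mem_bot F).mp hx

theorem altType_bot (ρ : Representation F G V) : AltType ρ ⊥ :=
  ⟨0, fun _ => rfl, fun _ _ _ _ _ => rfl, ndeg_bot 0⟩

theorem symType_bot (p : ℕ) (ρ : Representation F G V) : SymType p ρ ⊥ := by
  refine ⟨0, fun _ _ => rfl, fun _ _ _ _ _ => rfl, ndeg_bot 0, ?_⟩
  intro _ g w hw
  rw [(Submodule.mem_bot F).mp hw, map_zero]

theorem good_bot (p : ℕ) (ρ : Representation F G V) : Good p ρ ⊥ :=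
  ⟨⊥, ⊥, bot_inf_eq _, bot_sup_eq _, Inv.bot ρ, Inv.bot ρ, altType_bot ρ, symType_bot p ρ⟩

theorem AltType.sup {ρ : Representation F G V} {P Q : Submodule F V} (hPQ : P ⊓ Q = ⊥)
    (hP : Inv ρ P) (hQ : Inv ρ Q) (h1 : AltType ρ P) (h2 : AltType ρ Q) : AltType ρ (P ⊔ Q) := by
  obtain ⟨A1, a1, f1, n1⟩ := h1
  obtain ⟨A2, a2, f2, n2⟩ := h2
  obtain ⟨A, hf, hn, ha, -⟩ := glue hPQ hP hQ f1 f2 n1 n2
  exact ⟨A, ha a1 a2, hf, hn⟩

theorem SymType.sup {p : ℕ} {ρ : Representation F G V} {P Q : Submodule F V} (hPQ : P ⊓ Q = ⊥)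
    (hP : Inv ρ P) (hQ : Inv ρ Q) (h1 : SymType p ρ P) (h2 : SymType p ρ Q) :
    SymType p ρ (P ⊔ Q) := by
  obtain ⟨A1, a1, f1, n1, t1⟩ := h1
  obtain ⟨A2, a2, f2, n2, t2⟩ := h2
  obtain ⟨A, hf, hn, -, hs⟩ := glue hPQ hP hQ f1 f2 n1 n2
  refine ⟨A, hs a1 a2, hf, hn, ?_⟩
  intro hp g w hw
  obtain ⟨x, hx, y, hy, rfl⟩ := Submodule.mem_sup.mp hw
  rw [map_add, t1 hp g x hx, t2 hp g y hy]

theorem disjoint_aux {X Y1 U1 W1 : Submodule F V} (hXY : X ⊓ Y1 = ⊥) (hUW : U1 ⊓ W1 = ⊥)
    (hU : U1 ≤ Y1) (hW : W1 ≤ Y1) : (X ⊔ U1) ⊓ W1 = ⊥ := by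
  rw [eq_bot_iff]
  rintro v ⟨hv1, hv2⟩
  obtain ⟨x, hx, u, hu, rfl⟩ := Submodule.mem_sup.mp hv1
  have hx0 : x ∈ X ⊓ Y1 := by
    refine ⟨hx, ?_⟩
    have : x = (x + u) - u := by abel
    rw [this]
    exact Submodule.sub_mem _ (hW hv2) (hU hu)
  rw [hXY, Submodule.mem_bot] at hx0
  rw [hx0, zero_add] at hv2 ⊢
  have : u ∈ U1 ⊓ W1 := ⟨hu, hv2⟩
  rwa [hUW] at this

theorem Good.add_alt {p : ℕ} {ρ : Representation F G V} {X Y1 : Submodule F V}
    (hX : Inv ρ X) (hXY : X ⊓ Y1 = ⊥) (hA : AltType ρ X) (hG : Good p ρ Y1) :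
    Good p ρ (X ⊔ Y1) := by
  obtain ⟨U1, W1, hUW, hsup, hU, hW, hUA, hWS⟩ := hG
  have hU1 : U1 ≤ Y1 := hsup ▸ le_sup_left
  have hW1 : W1 ≤ Y1 := hsup ▸ le_sup_right
  refine ⟨X ⊔ U1, W1, disjoint_aux hXY hUW hU1 hW1, ?_, hX.sup hU, hW, ?_, hWS⟩
  · rw [sup_assoc, hsup]
  · apply AltType.sup _ hX hU hA hUA
    rw [eq_bot_iff, ← hXY]
    exact inf_le_inf_left _ hU1

theorem Good.add_sym {p : ℕ} {ρ : Representation F G V} {X Y1 : Submodule F V}
    (hX : Inv ρ X) (hXY : X ⊓ Y1 = ⊥) (hS : SymType p ρ X) (hG : Good p ρ Y1) :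
    Good p ρ (X ⊔ Y1) := by
  obtain ⟨U1, W1, hUW, hsup, hU, hW, hUA, hWS⟩ := hG
  have hU1 : U1 ≤ Y1 := hsup ▸ le_sup_left
  have hW1 : W1 ≤ Y1 := hsup ▸ le_sup_right
  refine ⟨U1, X ⊔ W1, ?_, ?_, hU, hX.sup hW, hUA, ?_⟩
  · rw [inf_comm]
    exact disjoint_aux hXY (by rw [inf_comm]; exact hUW) hW1 hU1
  · rw [sup_left_comm, hsup]
  · apply SymType.sup _ hX hW hS hWS
    rw [eq_bot_iff, ← hXY]
    exact inf_le_inf_left _ hW1


/-- Relative Maschke. -/
theorem exists_compl [Finite G] (hG : (Nat.card G : F) ≠ 0) (ρ : Representation F G V)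
    {X Y : Submodule F V} (hX : Inv ρ X) (hY : Inv ρ Y) (hXY : X ≤ Y) :
    ∃ C : Submodule F V, C ≤ Y ∧ Inv ρ C ∧ X ⊓ C = ⊥ ∧ X ⊔ C = Y := by
  haveI : NeZero (Nat.card G : F) := ⟨hG⟩
  let X' : Subrepresentation ρ := ⟨X, fun g v hv => hX g v hv⟩
  obtain ⟨C', hC'⟩ := exists_isCompl X'
  have h1 : X ⊓ C'.toSubmodule = ⊥ := congrArg Subrepresentation.toSubmodule hC'.inf_eq_bot
  have h2 : X ⊔ C'.toSubmodule = ⊤ := congrArg Subrepresentation.toSubmodule hC'.sup_eq_top
  refine ⟨C'.toSubmodule ⊓ Y, inf_le_right, ?_, ?_, ?_⟩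
  · exact Inv.inf (fun g v hv => C'.apply_mem_toSubmodule g hv) hY
  · rw [eq_bot_iff, ← h1]
    exact inf_le_inf_left _ inf_le_left
  · rw [← sup_inf_assoc_of_le _ hXY, h2, top_inf_eq]


/-- The hyperbolic piece attached to an isotropic stable subspace. -/
theorem hyperbolic [FiniteDimensional F V] {ρ : Representation F G V}
    {B : LinearMap.BilinForm F V} {Y X C : Submodule F V} {σ : V →ₗ[F] V}
    (hBinv : FInv ρ B Y) (hB : NDeg B Y) (hσ : Asym B Y σ) (hXY : X ≤ Y)
    (hXS : Stab ρ σ X) (hiso : X ≤ lorth B Y X) (hCY : C ≤ Y) (hC : Inv ρ C)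
    (hLC : lorth B Y X ⊓ C = ⊥) (hLC' : lorth B Y X ⊔ C = Y) :
    X ⊓ C = ⊥ ∧ AltType ρ (X ⊔ C) ∧ (X ⊔ C) ⊓ lorth B Y (X ⊔ C) = ⊥ := by
  have hXC : X ⊓ C = ⊥ := by
    rw [eq_bot_iff, ← hLC]
    exact inf_le_inf_right _ hiso
  have key1 : ∀ x ∈ X, (∀ c ∈ C, B x c = 0) → x = 0 := by
    intro x hx h0
    apply hB x (hXY hx)
    intro y hy
    rw [← hLC'] at hy
    obtain ⟨l, hl, c, hc, rfl⟩ := Submodule.mem_sup.mp hy
    rw [map_add, h0 c hc, add_zero]
    exact (hσ.orth_symm hB hXY hXS.2 hl.1).mpr hl.2 x hx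
  have key2 : ∀ c ∈ C, (∀ x ∈ X, B c x = 0) → c = 0 := by
    intro c hc h0
    have : c ∈ lorth B Y X ⊓ C := ⟨⟨hCY hc, h0⟩, hc⟩
    rwa [hLC, Submodule.mem_bot] at this
  obtain ⟨π1, hπ1X, hπ1C, -⟩ := exists_proj X C hXC
  obtain ⟨π2, hπ2C, hπ2X, -⟩ := exists_proj C X (by rw [inf_comm]; exact hXC)
  have key : ∀ x ∈ X, ∀ c ∈ C, π1 (x + c) = x ∧ π2 (x + c) = c := by
    intro x hx c hc
    rw [map_add, map_add, hπ1X x hx, hπ1C c hc, hπ2X x hx, hπ2C c hc, add_zero, zero_add]
    exact ⟨rfl, rfl⟩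
  refine ⟨hXC, ⟨B.comp π1 π2 - (B.comp π1 π2).flip, ?_, ?_, ?_⟩, ?_⟩
  · intro x
    simp only [LinearMap.sub_apply, LinearMap.BilinForm.flip_apply, sub_self]
  · intro g v hv w hw
    obtain ⟨x, hx, c, hc, rfl⟩ := Submodule.mem_sup.mp hv
    obtain ⟨x', hx', c', hc', rfl⟩ := Submodule.mem_sup.mp hw
    simp only [LinearMap.sub_apply, LinearMap.BilinForm.flip_apply, LinearMap.BilinForm.comp_apply]
    rw [(key x hx c hc).1, (key x hx c hc).2, (key x' hx' c' hc').1, (key x' hx' c' hc').2]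
    rw [map_add (ρ g), map_add (ρ g)]
    rw [(key _ (hXS.1 g x hx) _ (hC g c hc)).1, (key _ (hXS.1 g x hx) _ (hC g c hc)).2,
      (key _ (hXS.1 g x' hx') _ (hC g c' hc')).1, (key _ (hXS.1 g x' hx') _ (hC g c' hc')).2]
    rw [hBinv g x (hXY hx) c' (hCY hc'), hBinv g x' (hXY hx') c (hCY hc)]
  · intro v hv hv0
    obtain ⟨x, hx, c, hc, rfl⟩ := Submodule.mem_sup.mp hv
    have hc0 : c = 0 := by
      apply key2 c hc
      apply (hσ.orth_symm hB hXY hXS.2 (hCY hc)).mp
      intro x' hx'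
      have := hv0 x' (Submodule.mem_sup_left hx')
      simp only [LinearMap.sub_apply, LinearMap.BilinForm.flip_apply,
        LinearMap.BilinForm.comp_apply] at this
      rw [(key x hx c hc).1, (key x hx c hc).2, hπ1X x' hx', hπ2X x' hx', map_zero, zero_sub,
        neg_eq_zero] at this
      exact this
    have hx0 : x = 0 := by
      apply key1 x hx
      intro c' hc'
      have := hv0 c' (Submodule.mem_sup_right hc')
      simp only [LinearMap.sub_apply, LinearMap.BilinForm.flip_apply,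
        LinearMap.BilinForm.comp_apply] at this
      rw [(key x hx c hc).1, (key x hx c hc).2, hπ1C c' hc', hπ2C c' hc', map_zero,
        LinearMap.zero_apply, sub_zero] at this
      exact this
    rw [hx0, hc0, add_zero]
  · rw [eq_bot_iff]
    rintro v ⟨hv, hvY, hv0⟩
    obtain ⟨x, hx, c, hc, rfl⟩ := Submodule.mem_sup.mp hv
    have hc0 : c = 0 := by
      apply key2 c hc
      intro x' hx'
      have := hv0 x' (Submodule.mem_sup_left hx')
      rw [map_add, LinearMap.add_apply, (hiso hx).2 x' hx', zero_add] at this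
      exact this
    have hx0 : x = 0 := by
      apply key1 x hx
      intro c' hc'
      have := hv0 c' (Submodule.mem_sup_right hc')
      rw [hc0, add_zero] at this
      exact this
    rw [hx0, hc0, add_zero]
    exact Submodule.zero_mem _


/-- The radical of the symmetrization of `B` on `X`. -/
def symRad (B : LinearMap.BilinForm F V) (X : Submodule F V) : Submodule F V where
  carrier := {x | x ∈ X ∧ ∀ y ∈ X, B x y + B y x = 0}
  add_mem' := by
    rintro a b ⟨ha, ha'⟩ ⟨hb, hb'⟩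
    refine ⟨X.add_mem ha hb, fun y hy => ?_⟩
    have h1 := ha' y hy
    have h2 := hb' y hy
    simp only [map_add, LinearMap.add_apply]
    linear_combination h1 + h2
  zero_mem' := ⟨X.zero_mem, fun y _ => by simp⟩
  smul_mem' := by
    rintro c a ⟨ha, ha'⟩
    refine ⟨X.smul_mem c ha, fun y hy => ?_⟩
    have h1 := ha' y hy
    simp only [map_smul, LinearMap.smul_apply, smul_eq_mul]
    linear_combination c * h1

/-- The isotropic vectors of `X` (a subspace when `B` is symmetric on `X` and `2 = 0`). -/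
def isoVec (B : LinearMap.BilinForm F V) (X : Submodule F V) (h2 : (2 : F) = 0)
    (hsym : ∀ x ∈ X, ∀ y ∈ X, B x y = B y x) : Submodule F V where
  carrier := {x | x ∈ X ∧ B x x = 0}
  add_mem' := by
    rintro a b ⟨ha, ha'⟩ ⟨hb, hb'⟩
    refine ⟨X.add_mem ha hb, ?_⟩
    have h1 := hsym a ha b hb
    simp only [map_add, LinearMap.add_apply]
    linear_combination ha' + hb' - h1 + (B a b) * h2
  zero_mem' := ⟨X.zero_mem, by simp⟩
  smul_mem' := by
    rintro c a ⟨ha, ha'⟩
    refine ⟨X.smul_mem c ha, ?_⟩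
    simp only [map_smul, LinearMap.smul_apply, smul_eq_mul]
    linear_combination c * c * ha'

theorem type_analysis [FiniteDimensional F V] (p : ℕ) [Fact p.Prime] [CharP F p]
    {ρ : Representation F G V} {B : LinearMap.BilinForm F V} {Y X : Submodule F V}
    {σ : V →ₗ[F] V}
    (hBinv : FInv ρ B Y) (hB : NDeg B Y) (hσ : Asym B Y σ) (hXY : X ≤ Y)
    (hmin : MinStab ρ σ X) (hnd : NDeg B X) : AltType ρ X ∨ SymType p ρ X := by
  have hXinv : Inv ρ X := hmin.2.1.1
  have hXσ : ∀ x ∈ X, σ x ∈ X := hmin.2.1.2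
  have hBX : FInv ρ B X := hBinv.mono hXY
  have htwo : (2 : F) = 0 ↔ p = 2 := by
    have h := CharP.cast_eq_zero_iff F p 2
    rw [Nat.cast_ofNat] at h
    rw [h, Nat.prime_dvd_prime_iff_eq Fact.out Nat.prime_two]
  have hRadle : symRad B X ≤ X := fun x hx => hx.1
  have hRadS : Stab ρ σ (symRad B X) := by
    constructor
    · intro g x hx
      refine ⟨hXinv g x hx.1, fun y hy => ?_⟩
      have hy' : ρ g⁻¹ y ∈ X := hXinv g⁻¹ y hy
      have h1 := hBX g x hx.1 _ hy'
      have h2 := hBX g _ hy' x hx.1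
      rw [rho_cancel] at h1 h2
      rw [h1, h2]
      exact hx.2 _ hy'
    · intro x hx
      refine ⟨hXσ x hx.1, fun y hy => ?_⟩
      obtain ⟨y', hy', rfl⟩ := hσ.surj hB hXY hXσ hy
      rw [hσ.isom (hXY hx.1) (hXY hy'), hσ.isom (hXY hy') (hXY hx.1)]
      exact hx.2 _ hy'
  by_cases h2 : (2 : F) = 0
  · -- characteristic two
    rcases hmin.2.2 _ hRadle hRadS with hR | hR
    · left
      refine ⟨B + B.flip, ?_, ?_, ?_⟩
      · intro x
        simp only [LinearMap.add_apply, LinearMap.BilinForm.flip_apply]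
        linear_combination (B x x) * h2
      · intro g x hx y hy
        simp only [LinearMap.add_apply, LinearMap.BilinForm.flip_apply]
        rw [hBX g x hx y hy, hBX g y hy x hx]
      · intro x hx h0
        have : x ∈ symRad B X := ⟨hx, fun y hy => by
          have := h0 y hy
          simpa only [LinearMap.add_apply, LinearMap.BilinForm.flip_apply] using this⟩
        rwa [hR, Submodule.mem_bot] at this
    · have hsym : ∀ x ∈ X, ∀ y ∈ X, B x y = B y x := by
        intro x hx y hy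
        have hx' : x ∈ symRad B X := by rw [hR]; exact hx
        have h1 := hx'.2 y hy
        linear_combination h1 - (B y x) * h2
      have hσid : ∀ x ∈ X, σ x = x := by
        intro x hx
        have hmem : σ x - x ∈ X := X.sub_mem (hXσ x hx) hx
        have := hnd _ hmem (fun y hy => by
          rw [hsym _ hmem y hy, map_sub, ← hσ.eq x (hXY hx) y (hXY hy), hsym x hx y hy, sub_self])
        exact sub_eq_zero.mp this
      have hirr : ∀ X' : Submodule F V, X' ≤ X → Inv ρ X' → X' = ⊥ ∨ X' = X := by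
        intro X' hle hi
        exact hmin.2.2 X' hle ⟨hi, fun x hx => by rw [hσid x (hle hx)]; exact hx⟩
      obtain ⟨π, hπX, -, hπmem⟩ := exists_proj X ⊥ (inf_bot_eq _)
      have hKinv : Inv ρ (isoVec B X h2 hsym) := by
        intro g x hx
        refine ⟨hXinv g x hx.1, ?_⟩
        rw [hBX g x hx.1 x hx.1]
        exact hx.2
      rcases hirr (isoVec B X h2 hsym) (fun x hx => hx.1) hKinv with hK | hK
      · right
        refine ⟨B.comp π π, ?_, ?_, ?_, ?_⟩
        · intro x y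
          simp only [LinearMap.BilinForm.comp_apply]
          exact hsym _ (hπmem x) _ (hπmem y)
        · intro g x hx y hy
          simp only [LinearMap.BilinForm.comp_apply]
          rw [hπX _ (hXinv g x hx), hπX _ (hXinv g y hy), hπX x hx, hπX y hy]
          exact hBX g x hx y hy
        · intro x hx h0
          apply hnd x hx
          intro y hy
          have := h0 y hy
          simp only [LinearMap.BilinForm.comp_apply] at this
          rwa [hπX x hx, hπX y hy] at this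
        · intro _ g x hx
          have hmem : ρ g x - x ∈ X := X.sub_mem (hXinv g x hx) hx
          have : ρ g x - x ∈ isoVec B X h2 hsym := by
            refine ⟨hmem, ?_⟩
            have e1 := hBX g x hx x hx
            have e2 := hsym x hx _ (hXinv g x hx)
            simp only [map_sub, LinearMap.sub_apply]
            linear_combination e1 - e2 + (B x x - B (ρ g x) x) * h2
          rw [hK, Submodule.mem_bot] at this
          exact sub_eq_zero.mp this
      · left
        refine ⟨B.comp π π, ?_, ?_, ?_⟩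
        · intro x
          simp only [LinearMap.BilinForm.comp_apply]
          have : π x ∈ isoVec B X h2 hsym := by rw [hK]; exact hπmem x
          exact this.2
        · intro g x hx y hy
          simp only [LinearMap.BilinForm.comp_apply]
          rw [hπX _ (hXinv g x hx), hπX _ (hXinv g y hy), hπX x hx, hπX y hy]
          exact hBX g x hx y hy
        · intro x hx h0
          apply hnd x hx
          intro y hy
          have := h0 y hy
          simp only [LinearMap.BilinForm.comp_apply] at this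
          rwa [hπX x hx, hπX y hy] at this
  · -- odd characteristic
    rcases hmin.2.2 _ hRadle hRadS with hR | hR
    · right
      refine ⟨B + B.flip, ?_, ?_, ?_, ?_⟩
      · intro x y
        simp only [LinearMap.add_apply, LinearMap.BilinForm.flip_apply]
        exact add_comm _ _
      · intro g x hx y hy
        simp only [LinearMap.add_apply, LinearMap.BilinForm.flip_apply]
        rw [hBX g x hx y hy, hBX g y hy x hx]
      · intro x hx h0
        have : x ∈ symRad B X := ⟨hx, fun y hy => by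
          have := h0 y hy
          simpa only [LinearMap.add_apply, LinearMap.BilinForm.flip_apply] using this⟩
        rwa [hR, Submodule.mem_bot] at this
      · intro hp
        exact absurd (htwo.mpr hp) h2
    · left
      refine ⟨B - B.flip, ?_, ?_, ?_⟩
      · intro x
        simp only [LinearMap.sub_apply, LinearMap.BilinForm.flip_apply, sub_self]
      · intro g x hx y hy
        simp only [LinearMap.sub_apply, LinearMap.BilinForm.flip_apply]
        rw [hBX g x hx y hy, hBX g y hy x hx]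
      · intro x hx h0
        apply hnd x hx
        intro y hy
        have h1 := h0 y hy
        simp only [LinearMap.sub_apply, LinearMap.BilinForm.flip_apply] at h1
        have hx' : x ∈ symRad B X := by rw [hR]; exact hx
        have h3 := hx'.2 y hy
        have : (2 : F) * B x y = 0 := by linear_combination h1 + h3
        rcases mul_eq_zero.mp this with h | h
        · exact absurd h h2
        · exact h


theorem main [Finite G] [FiniteDimensional F V] (p : ℕ) [Fact p.Prime] [CharP F p]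
    (hG : (Nat.card G : F) ≠ 0) (ρ : Representation F G V) :
    ∀ (n : ℕ) (Y : Submodule F V), finrank F Y = n → Inv ρ Y →
      ∀ B : LinearMap.BilinForm F V, FInv ρ B Y → NDeg B Y → Good p ρ Y := by
  intro n
  induction n using Nat.strong_induction_on with
  | _ n ih =>
    intro Y hn hY B hBinv hB
    by_cases hY0 : Y = ⊥
    · rw [hY0]
      exact good_bot p ρ
    obtain ⟨σ, hσ1, hσ2⟩ := exists_asym B Y hB
    have hσ : Asym B Y σ := ⟨hσ1, hσ2⟩
    obtain ⟨X, hXY, hmin⟩ := exists_minStab ρ σ hY0 ⟨hY, hσ1⟩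
    have hXinv : Inv ρ X := hmin.2.1.1
    have hXpos : 0 < finrank F X := by
      rw [Module.finrank_pos_iff, Submodule.nontrivial_iff_ne_bot]
      exact hmin.1
    have hS : Stab ρ σ (X ⊓ lorth B Y X) := by
      refine ⟨hXinv.inf (hXinv.lorth hY hXY hBinv), ?_⟩
      rintro x ⟨hx, hxY, hx0⟩
      refine ⟨hmin.2.1.2 x hx, hσ1 x hxY, ?_⟩
      intro x' hx'
      obtain ⟨x'', hx'', rfl⟩ := hσ.surj hB hXY hmin.2.1.2 hx'
      rw [hσ.isom hxY (hXY hx'')]
      exact hx0 x'' hx''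
    rcases hmin.2.2 _ inf_le_left hS with h | h
    · -- the form is nondegenerate on `X`
      obtain ⟨hsup, hnd⟩ := split hXY hB h
      have hlt : finrank F (lorth B Y X) < n := by
        have h1 := Submodule.finrank_sup_add_finrank_inf_eq X (lorth B Y X)
        rw [h, finrank_bot, add_zero, hsup, hn] at h1
        omega
      have hgood := ih _ hlt (lorth B Y X) rfl (hXinv.lorth hY hXY hBinv) B
        (hBinv.mono (lorth_le _ _ _)) hnd
      have hndX : NDeg B X := by
        intro x hx h0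
        have : x ∈ X ⊓ lorth B Y X := ⟨hx, hXY hx, h0⟩
        rwa [h, Submodule.mem_bot] at this
      rw [← hsup]
      rcases type_analysis p hBinv hB hσ hXY hmin hndX with ht | ht
      · exact hgood.add_alt hXinv h ht
      · exact hgood.add_sym hXinv h ht
    · -- `X` is isotropic
      have hiso : X ≤ lorth B Y X := inf_eq_left.mp h
      obtain ⟨C, hCY, hC, hLC, hLC'⟩ :=
        exists_compl hG ρ (hXinv.lorth hY hXY hBinv) hY (lorth_le _ _ _)
      obtain ⟨hXC, hAlt, hdisj⟩ := hyperbolic hBinv hB hσ hXY hmin.2.1 hiso hCY hC hLC hLC'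
      have hZY : X ⊔ C ≤ Y := sup_le hXY hCY
      have hZinv : Inv ρ (X ⊔ C) := hXinv.sup hC
      obtain ⟨hsup, hnd⟩ := split hZY hB hdisj
      have hlt : finrank F (lorth B Y (X ⊔ C)) < n := by
        have h1 := Submodule.finrank_sup_add_finrank_inf_eq (X ⊔ C) (lorth B Y (X ⊔ C))
        rw [hdisj, finrank_bot, add_zero, hsup, hn] at h1
        have h2 : finrank F X ≤ finrank F ↥(X ⊔ C) := Submodule.finrank_mono le_sup_left
        omega
      have hgood := ih _ hlt _ rfl (hZinv.lorth hY hZY hBinv) B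
        (hBinv.mono (lorth_le _ _ _)) hnd
      rw [← hsup]
      exact hgood.add_alt hZinv hdisj hAlt

/-- A self-dual module in coprime characteristic is the sum of a symplectic and an orthogonal
module (with trivial action on the orthogonal part when `p = 2`). -/
theorem selfdual_decomp [Finite G] [FiniteDimensional F V] (p : ℕ) [Fact p.Prime] [CharP F p]
    (hcop : ¬ p ∣ Nat.card G) (ρ : Representation F G V) (B : LinearMap.BilinForm F V)
    (hB : B.Nondegenerate) (hBinv : ∀ g : G, ∀ x y : V, B (ρ g x) (ρ g y) = B x y) :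
    ∃ U W : Submodule F V, IsCompl U W ∧ (∀ g : G, ∀ u ∈ U, ρ g u ∈ U) ∧
      (∀ g : G, ∀ w ∈ W, ρ g w ∈ W) ∧
      (∃ A : LinearMap.BilinForm F V, (∀ x : V, A x x = 0) ∧
        (∀ g : G, ∀ x ∈ U, ∀ y ∈ U, A (ρ g x) (ρ g y) = A x y) ∧
        (∀ x ∈ U, (∀ y ∈ U, A x y = 0) → x = 0)) ∧
      (∃ S : LinearMap.BilinForm F V, (∀ x y : V, S x y = S y x) ∧
        (∀ g : G, ∀ x ∈ W, ∀ y ∈ W, S (ρ g x) (ρ g y) = S x y) ∧
        (∀ x ∈ W, (∀ y ∈ W, S x y = 0) → x = 0)) ∧
      (p = 2 → ∀ g : G, ∀ w ∈ W, ρ g w = w) := by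
  have hG : (Nat.card G : F) ≠ 0 := by
    rw [Ne, CharP.cast_eq_zero_iff F p]
    exact hcop
  have hgood := main p hG ρ _ ⊤ rfl (fun _ _ _ => Submodule.mem_top) B
    (fun g x _ y _ => hBinv g x y) (fun x _ h0 => hB.1 x (fun y => h0 y Submodule.mem_top))
  obtain ⟨U, W, hUW, hsup, hU, hW, ⟨A, a1, a2, a3⟩, ⟨S, s1, s2, s3, s4⟩⟩ := hgood
  exact ⟨U, W, IsCompl.of_eq hUW hsup, hU, hW, ⟨A, a1, a2, a3⟩, ⟨S, s1, s2, s3⟩, s4⟩

end Cfsg.Agent.Lib.Helper1.SelfDual
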