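import Mathlib
import Cfsg.Agent.Lib.Helper29.MinNonPNilpotent
import Cfsg.Agent.Lib.Helper1.CoprimeAbelian

/-!
Finite groups in which every non-abelian subgroup is self-normalizing are solvable or simple
(helper1 library).
-/

set_option autoImplicit false

namespace Cfsg.Agent.Lib.Helper1

open Subgroup
open scoped Pointwise

universe u

/-- the self-normalizing property of non-abelian subgroups passes to quotients -/
theorem selfNorm_quotient {G : Type*} [Group G]
    (hS : ∀ H : Subgroup G, ¬ IsMulCommutative H → normalizer (H : Set G) = H)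
    (K : Subgroup G) [K.Normal] :
    ∀ H : Subgroup (G ⧸ K), ¬ IsMulCommutative H → normalizer (H : Set (G ⧸ K)) = H := by
  intro H hH
  have h1 : ¬ IsMulCommutative (H.comap (QuotientGroup.mk' K)) := by
    intro hc
    apply hH
    refine ⟨⟨?_⟩⟩
    rintro ⟨a, ha⟩ ⟨b, hb⟩
    obtain ⟨x, rfl⟩ := QuotientGroup.mk'_surjective K a
    obtain ⟨y, rfl⟩ := QuotientGroup.mk'_surjective K b
    have := congrArg Subtype.val
      (mul_comm' (⟨x, ha⟩ : H.comap (QuotientGroup.mk' K)) ⟨y, hb⟩)
    apply Subtype.ext
    change QuotientGroup.mk' K x * QuotientGroup.mk' K y =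
      QuotientGroup.mk' K y * QuotientGroup.mk' K x
    rw [← map_mul, ← map_mul]
    exact congrArg _ this
  have h2 := hS _ h1
  have h3 := Subgroup.comap_normalizer_eq_of_surjective H (QuotientGroup.mk'_surjective K)
  exact Subgroup.comap_injective (QuotientGroup.mk'_surjective K) (h3.trans h2)

/-- a finite non-abelian simple group has a non-trivial cyclic subgroup that is not
self-normalizing -/
theorem false_of_cyclic_selfNorm {Q : Type*} [Group Q] [Finite Q] [IsSimpleGroup Q]
    (hna : ¬ IsMulCommutative Q)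
    (h : ∀ x : Q, x ≠ 1 → normalizer ((zpowers x : Subgroup Q) : Set Q) = zpowers x) : False := by
  have hnt : Nontrivial Q := IsSimpleGroup.toNontrivial
  have hcard : 1 < Nat.card Q := Finite.one_lt_card
  obtain ⟨p, hp, hpd⟩ := Nat.exists_prime_and_dvd (by omega : Nat.card Q ≠ 1)
  have : Fact p.Prime := ⟨hp⟩
  obtain S : Sylow p Q := default
  have hSnt : Nontrivial S := by
    rw [← Finite.one_lt_card_iff_nontrivial]
    obtain ⟨k, hk⟩ := IsPGroup.iff_card.mp S.2
    have h1 : p ∣ Nat.card S := S.dvd_card_of_dvd_card hpd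
    have := Nat.le_of_dvd Nat.card_pos h1
    have := hp.two_le
    omega
  have hZnt : Nontrivial (center S) := S.2.center_nontrivial
  obtain ⟨⟨⟨w, hwS⟩, hwZ⟩, hw1⟩ := exists_ne (1 : center S)
  have hw1' : w ≠ 1 := by
    intro h1
    apply hw1
    apply Subtype.ext
    apply Subtype.ext
    exact h1
  have hwc : ∀ s ∈ (S : Subgroup Q), s * w = w * s := by
    intro s hs
    have := Subgroup.mem_center_iff.mp hwZ ⟨s, hs⟩
    exact congrArg Subtype.val this
  have hSle : (S : Subgroup Q) ≤ zpowers w := by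
    rw [← h w hw1']
    intro s hs
    rw [Subgroup.mem_normalizer_iff]
    intro t
    have hconj : ∀ t : Q, t ∈ zpowers w → s * t * s⁻¹ = t := by
      intro t ht
      obtain ⟨k, rfl⟩ := Subgroup.mem_zpowers_iff.mp ht
      have : Commute s w := hwc s hs
      rw [(this.zpow_right k).eq, mul_inv_cancel_right]
    constructor
    · intro ht
      rw [hconj t ht]; exact ht
    · intro ht
      have := hconj _ ht
      have h5 : t = s * t * s⁻¹ := by
        have h6 : s⁻¹ * (s * (s * t * s⁻¹) * s⁻¹) * s = s⁻¹ * (s * t * s⁻¹) * s := by rw [this]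
        simp only [mul_assoc, inv_mul_cancel_left, inv_mul_cancel, mul_one] at h6
        simpa [mul_assoc] using h6.symm
      rw [h5]; exact ht
  have hSeq : (S : Subgroup Q) = zpowers w := le_antisymm hSle (zpowers_le.mpr hwS)
  have hP : normalizer ((S : Subgroup Q) : Set Q) ≤ centralizer ((S : Subgroup Q) : Set Q) := by
    rw [hSeq, h w hw1']
    intro a ha
    rw [Subgroup.mem_centralizer_iff]
    intro b hb
    obtain ⟨k, rfl⟩ := Subgroup.mem_zpowers_iff.mp ha
    obtain ⟨l, rfl⟩ := Subgroup.mem_zpowers_iff.mp hb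
    exact ((Commute.refl w).zpow_zpow l k).eq
  have hcompl := MonoidHom.ker_transferSylow_isComplement' S hP
  rcases (MonoidHom.normal_ker (MonoidHom.transferSylow S hP)).eq_bot_or_eq_top with hb | ht
  · rw [hb, Subgroup.isComplement'_bot_left] at hcompl
    apply hna
    refine ⟨⟨fun a b => ?_⟩⟩
    have ha : a ∈ zpowers w := by rw [← hSeq, hcompl]; exact Subgroup.mem_top a
    have hb' : b ∈ zpowers w := by rw [← hSeq, hcompl]; exact Subgroup.mem_top b
    obtain ⟨k, rfl⟩ := Subgroup.mem_zpowers_iff.mp ha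
    obtain ⟨l, rfl⟩ := Subgroup.mem_zpowers_iff.mp hb'
    exact ((Commute.refl w).zpow_zpow k l).eq
  · rw [ht, Subgroup.isComplement'_top_left] at hcompl
    apply hw1'
    have : w ∈ (⊥ : Subgroup Q) := hcompl ▸ hwS
    exact this

open scoped commutatorElement in
/-- **Groups whose non-abelian subgroups are self-normalizing** are solvable or simple. -/
theorem solvable_or_simple_of_selfNorm :
    ∀ (n : ℕ) (G : Type u) [Group G] [Finite G], Nat.card G = n →
      (∀ H : Subgroup G, ¬ IsMulCommutative H → normalizer (H : Set G) = H) →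
      Group.IsSolvable G ∨ IsSimpleGroup G := by
  intro n
  induction n using Nat.strong_induction_on with
  | _ n ih =>
  intro G _ _ hn hS
  by_cases hsol : Group.IsSolvable G
  · exact Or.inl hsol
  right
  have hnt : Nontrivial G := by
    by_contra h
    rw [not_nontrivial_iff_subsingleton] at h
    exact hsol (Group.isSolvable_of_comm fun a b => Subsingleton.elim _ _)
  refine ⟨fun N hN => ?_⟩
  by_contra hcon
  push Not at hcon
  obtain ⟨hNbot, hNtop⟩ := hcon
  -- proper normal subgroups are abelian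
  have hab : ∀ K : Subgroup G, K.Normal → K ≠ ⊤ → IsMulCommutative K := by
    intro K hK hKtop
    by_contra h
    have := hS K h
    rw [Subgroup.normalizer_eq_top] at this
    exact hKtop this.symm
  -- quotients by nontrivial proper normal subgroups are non-abelian simple
  have hquot : ∀ K : Subgroup G, ∀ hK : K.Normal, K ≠ ⊥ → K ≠ ⊤ →
      IsSimpleGroup (G ⧸ K) ∧ ¬ IsMulCommutative (G ⧸ K) := by
    intro K hK hKbot hKtop
    have hKab := hab K hK hKtop
    have hsolq : ¬ Group.IsSolvable (G ⧸ K) := by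
      intro hq
      apply hsol
      have hKs : Group.IsSolvable K :=
        Group.isSolvable_of_comm fun a b => mul_comm' a b
      exact Group.isSolvable_of_ker_le_range K.subtype (QuotientGroup.mk' K) (by
        rw [QuotientGroup.ker_mk', Subgroup.range_subtype])
    have hlt : Nat.card (G ⧸ K) < n := by
      rw [← hn, Subgroup.card_eq_card_quotient_mul_card_subgroup K]
      have h1 : 1 < Nat.card K := by
        rw [Subgroup.one_lt_card_iff_ne_bot]; exact hKbot
      have h2 : 0 < Nat.card (G ⧸ K) := Nat.card_pos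
      nlinarith
    rcases ih _ hlt (G ⧸ K) rfl (selfNorm_quotient hS K) with h | h
    · exact absurd h hsolq
    · refine ⟨h, fun hc => hsolq ?_⟩
      exact Group.isSolvable_of_comm fun a b => mul_comm' a b
  -- self-centralizing normal subgroups do not exist
  have hself : ∀ M : Subgroup G, M.Normal → M ≠ ⊥ → M ≠ ⊤ → centralizer (M : Set G) ≠ M := by
    intro M hM hMbot hMtop hcen
    obtain ⟨hsimp, hna⟩ := hquot M hM hMbot hMtop
    refine false_of_cyclic_selfNorm hna ?_
    intro xb hxb
    obtain ⟨x, rfl⟩ := QuotientGroup.mk'_surjective M xb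
    have hxM : x ∉ M := by
      intro h
      exact hxb ((QuotientGroup.eq_one_iff x).mpr h)
    have h1 : ¬ IsMulCommutative ((zpowers (QuotientGroup.mk' M x)).comap (QuotientGroup.mk' M)) := by
      intro hc
      apply hxM
      rw [← hcen, Subgroup.mem_centralizer_iff]
      intro m hm
      have hx' : x ∈ (zpowers (QuotientGroup.mk' M x)).comap (QuotientGroup.mk' M) :=
        Subgroup.mem_zpowers _
      have hm' : m ∈ (zpowers (QuotientGroup.mk' M x)).comap (QuotientGroup.mk' M) := by
        rw [Subgroup.mem_comap]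
        have : QuotientGroup.mk' M m = 1 := (QuotientGroup.eq_one_iff m).mpr hm
        rw [this]; exact Subgroup.one_mem _
      exact congrArg Subtype.val (mul_comm' (⟨m, hm'⟩ :
        (zpowers (QuotientGroup.mk' M x)).comap (QuotientGroup.mk' M)) ⟨x, hx'⟩)
    have h2 := hS _ h1
    have h3 := Subgroup.comap_normalizer_eq_of_surjective (zpowers (QuotientGroup.mk' M x))
      (QuotientGroup.mk'_surjective M)
    exact Subgroup.comap_injective (QuotientGroup.mk'_surjective M) (h3.trans h2)
  -- `N` is central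
  have hNab := hab N hN hNtop
  have hNcen : N ≤ center G := by
    have hC : (centralizer (N : Set G)).Normal := inferInstance
    have hNC : N ≤ centralizer (N : Set G) := by
      intro a ha
      rw [Subgroup.mem_centralizer_iff]
      intro b hb
      exact congrArg Subtype.val (mul_comm' (⟨b, hb⟩ : N) ⟨a, ha⟩)
    by_cases hCtop : centralizer (N : Set G) = ⊤
    · intro a ha
      rw [Subgroup.mem_center_iff]
      intro g
      have hg : g ∈ centralizer (N : Set G) := hCtop ▸ Subgroup.mem_top g
      exact (Subgroup.mem_centralizer_iff.mp hg a ha).symm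
    · exfalso
      have hCbot : centralizer (N : Set G) ≠ ⊥ := by
        intro h
        apply hNbot
        rw [eq_bot_iff, ← h]
        exact hNC
      have hCab := hab _ hC hCtop
      apply hself _ hC hCbot hCtop
      apply le_antisymm
      · exact Subgroup.centralizer_le hNC
      · intro a ha
        rw [Subgroup.mem_centralizer_iff]
        intro b hb
        exact congrArg Subtype.val
          (mul_comm' (⟨b, hb⟩ : centralizer (N : Set G)) ⟨a, ha⟩)
  -- `G` is perfect
  have hperf : commutator G = ⊤ := by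
    by_contra h
    have hcab := hab (commutator G) inferInstance h
    apply hsol
    have h1 : Group.IsSolvable (commutator G) :=
      Group.isSolvable_of_comm fun a b => mul_comm' a b
    have h2 : Group.IsSolvable (Abelianization G) :=
      Group.isSolvable_of_comm fun a b => mul_comm a b
    exact Group.isSolvable_of_ker_le_range (commutator G).subtype (Abelianization.of) (by
      rw [Abelianization.ker_of, Subgroup.range_subtype])
  -- a central element of prime order
  have hNcard : 1 < Nat.card N := by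
    rw [Subgroup.one_lt_card_iff_ne_bot]; exact hNbot
  obtain ⟨p, hp, hpd⟩ := Nat.exists_prime_and_dvd (by omega : Nat.card N ≠ 1)
  have : Fact p.Prime := ⟨hp⟩
  obtain ⟨⟨z, hzN⟩, hzo⟩ := exists_prime_orderOf_dvd_card' p hpd
  have hzo' : orderOf z = p := by
    rw [← hzo]; exact (Subgroup.orderOf_mk z hzN).symm
  have hzc : z ∈ center G := hNcen hzN
  have hz1 : z ≠ 1 := by
    intro h
    rw [h, orderOf_one] at hzo'
    exact hp.one_lt.ne hzo'
  have hzp : z ^ p = 1 := by rw [← hzo']; exact pow_orderOf_eq_one z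
  -- no normal `p`-complement
  have hfrob : ¬ Cfsg.Agent.Lib.Helper29.FrobCond p G := by
    intro hF
    obtain ⟨P, K, hKn, hKP⟩ := Cfsg.Agent.Lib.Helper29.frobCond_iff.mp hF
    obtain ⟨k, hk⟩ := IsPGroup.iff_card.mp P.2
    have hKi : K.index = p ^ k := by rw [hKP.symm.index_eq_card]; exact hk
    have hqp : IsPGroup p (G ⧸ K) := IsPGroup.of_card (by rw [← Subgroup.index_eq_card, hKi])
    have hqn : Group.IsNilpotent (G ⧸ K) := hqp.isNilpotent
    have hqs : Group.IsSolvable (G ⧸ K) := inferInstance
    have hqperf : commutator (G ⧸ K) = ⊤ := by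
      have h1 := Subgroup.map_commutator (⊤ : Subgroup G) ⊤ (QuotientGroup.mk' K)
      rw [← _root_.commutator_def, hperf,
        Subgroup.map_top_of_surjective _ (QuotientGroup.mk'_surjective K),
        ← _root_.commutator_def] at h1
      exact h1.symm
    have hsub : Subsingleton (G ⧸ K) := by
      by_contra h
      rw [not_subsingleton_iff_nontrivial] at h
      have := Group.IsSolvable.commutator_lt_top_of_nontrivial (G := G ⧸ K)
      rw [hqperf] at this
      exact lt_irrefl _ this
    have hK1 : K.index = 1 := by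
      rw [Subgroup.index_eq_card]
      exact Nat.card_unique
    have hk0 : Nat.card P = 1 := by rw [← hKP.symm.index_eq_card, hK1]
    have h1 : p ∣ Nat.card G := dvd_trans hpd (Subgroup.card_subgroup_dvd_card N)
    have h2 : p ∣ Nat.card P := P.dvd_card_of_dvd_card h1
    rw [hk0] at h2
    exact hp.one_lt.ne' (Nat.dvd_one.mp h2)
  unfold Cfsg.Agent.Lib.Helper29.FrobCond at hfrob
  push Not at hfrob
  obtain ⟨Q, hQ, y, hyN, hycop, hyC⟩ := hfrob
  -- `Q` is abelian
  have hQab : IsMulCommutative Q := by
    by_contra h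
    have h1 := hS Q h
    apply hyC
    rw [h1] at hyN
    obtain ⟨k, hk⟩ := (IsPGroup.iff_orderOf.mp hQ) ⟨y, hyN⟩
    rw [Subgroup.orderOf_mk] at hk
    rw [hk] at hycop
    have hk0 : k = 0 := by
      by_contra hk0
      have := (Nat.coprime_pow_left_iff (Nat.pos_of_ne_zero hk0) p p).mp hycop
      rw [Nat.coprime_self] at this
      exact hp.one_lt.ne' this
    rw [hk0, pow_zero, orderOf_eq_one_iff] at hk
    rw [hk]
    exact Subgroup.one_mem _
  -- the action of `⟨y⟩`
  set A : Subgroup G := zpowers y with hA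
  have hAQ : A ≤ normalizer (Q : Set G) := zpowers_le.mpr hyN
  have hcop : (Nat.card A).Coprime (Nat.card Q) := by
    obtain ⟨k, hk⟩ := IsPGroup.iff_card.mp hQ
    rw [hk, hA, Nat.card_zpowers]
    exact Nat.Coprime.pow_right k hycop
  have hdisj := centralizer_inf_commutator_eq_bot A Q hAQ hcop
  have hLQ : ⁅Q, A⁆ ≤ Q := by
    rw [Subgroup.commutator_le]
    intro q hq a ha
    rw [commutatorElement_def]
    have h1 : a * q⁻¹ * a⁻¹ ∈ Q :=
      (Subgroup.mem_normalizer_iff.mp (hAQ ha) q⁻¹).mp (Q.inv_mem hq)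
    have h2 : q * a * q⁻¹ * a⁻¹ = q * (a * q⁻¹ * a⁻¹) := by group
    rw [h2]
    exact Q.mul_mem hq h1
  have hAL : A ≤ normalizer ((⁅Q, A⁆ : Subgroup G) : Set G) := by
    intro a ha
    rw [Subgroup.mem_normalizer_iff_map_conj_eq, Subgroup.map_commutator]
    have h1 := Subgroup.mem_normalizer_iff_map_conj_eq.mp (hAQ ha)
    have h2 := Subgroup.mem_normalizer_iff_map_conj_eq.mp
      ((Subgroup.le_normalizer : A ≤ normalizer (A : Set G)) ha)
    rw [h1, h2]
  -- the subgroup `[Q, A] A` is not abelian
  have hH1 : ¬ IsMulCommutative (⁅Q, A⁆ ⊔ A : Subgroup G) := by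
    intro hc
    apply hyC
    have h1 : ⁅Q, A⁆ ≤ centralizer (A : Set G) := by
      intro c hcL
      rw [Subgroup.mem_centralizer_iff]
      intro a ha
      exact congrArg Subtype.val (mul_comm' (⟨a, Subgroup.mem_sup_right ha⟩ :
        (⁅Q, A⁆ ⊔ A : Subgroup G)) ⟨c, Subgroup.mem_sup_left hcL⟩)
    have h2 : ⁅Q, A⁆ = ⊥ := by
      rw [eq_bot_iff, ← hdisj]
      exact le_inf (le_inf hLQ h1) le_rfl
    have h3 : Q ≤ centralizer (A : Set G) := Subgroup.commutator_eq_bot_iff_le_centralizer.mp h2
    rw [Subgroup.mem_centralizer_iff]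
    intro q hq
    exact (Subgroup.mem_centralizer_iff.mp (h3 hq) y (Subgroup.mem_zpowers y)).symm
  have hH1n := hS _ hH1
  have hzH : z ∈ (⁅Q, A⁆ ⊔ A : Subgroup G) := by
    rw [← hH1n, Subgroup.mem_normalizer_iff]
    intro t
    have h1 : z * t * z⁻¹ = t := by
      rw [← Subgroup.mem_center_iff.mp hzc t, mul_inv_cancel_right]
    rw [h1]
  have hzmul : z ∈ ((⁅Q, A⁆ : Subgroup G) : Set G) * (A : Set G) := by
    rw [← Subgroup.coe_mul_of_right_le_normalizer_left _ _ hAL]
    exact hzH
  obtain ⟨c, hcL, a, haA, hca⟩ := Set.mem_mul.mp hzmul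
  have hcL' : c ∈ ⁅Q, A⁆ := hcL
  have haA' : a ∈ A := haA
  -- `a` is both a `p`-element and a `p'`-element
  have ha1 : a = 1 := by
    obtain ⟨j, hj⟩ := (IsPGroup.iff_orderOf.mp hQ) ⟨c, hLQ hcL'⟩
    rw [Subgroup.orderOf_mk] at hj
    have hcz : Commute c⁻¹ z := (Subgroup.mem_center_iff.mp hzc c⁻¹)
    have haeq : a = c⁻¹ * z := by rw [← hca]; group
    have hc1 : c ^ p ^ (j + 1) = 1 := by
      rw [pow_succ, pow_mul, ← hj, pow_orderOf_eq_one, one_pow]
    have hz1' : z ^ p ^ (j + 1) = 1 := by rw [pow_succ', pow_mul, hzp, one_pow]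
    have hap : a ^ p ^ (j + 1) = 1 := by
      rw [haeq, hcz.mul_pow, inv_pow, hc1, hz1', inv_one, one_mul]
    have hd1 : orderOf a ∣ p ^ (j + 1) := orderOf_dvd_of_pow_eq_one hap
    have hd2 : orderOf a ∣ orderOf y := by
      obtain ⟨l, rfl⟩ := Subgroup.mem_zpowers_iff.mp haA'
      exact orderOf_dvd_of_pow_eq_one (by
        rw [← zpow_natCast, ← zpow_mul, mul_comm, zpow_mul, zpow_natCast, pow_orderOf_eq_one,
          one_zpow])
    have hcp : (orderOf a).Coprime (p ^ (j + 1)) :=
      Nat.Coprime.pow_right _ (Nat.Coprime.coprime_dvd_left hd2 hycop)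
    exact orderOf_eq_one_iff.mp (Nat.Coprime.eq_one_of_dvd hcp hd1)
  rw [ha1, mul_one] at hca
  apply hz1
  have hzL : z ∈ ⁅Q, A⁆ := hca ▸ hcL'
  have hzbot : z ∈ (Q ⊓ centralizer (A : Set G)) ⊓ ⁅Q, A⁆ := by
    refine Subgroup.mem_inf.mpr ⟨Subgroup.mem_inf.mpr ⟨hLQ hzL, ?_⟩, hzL⟩
    rw [Subgroup.mem_centralizer_iff]
    intro a' _
    exact (Subgroup.mem_center_iff.mp hzc a')
  rw [hdisj, Subgroup.mem_bot] at hzbot
  exact hzbot

end Cfsg.Agent.Lib.Helper1
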