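import Mathlib
import Cfsg.Agent.Lib.Helper1.SoftSub
import Cfsg.Agent.Lib.Helper10.PGroupBasic

/-!
# Subgroups generated by small conjugacy classes (Isaacs; Ishikawa)

If `A` is a normal abelian subgroup and `x` has the smallest noncentral class size, then
`[A, x] ≤ Z(G)`.  With `C_G(A) = A` this makes the subgroup generated by the elements of the two
smallest class sizes nilpotent of class at most `3`.
-/

set_option autoImplicit false

namespace Cfsg.Agent.Lib.Helper1.SmallClasses

open Subgroup
open scoped commutatorElement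
open Cfsg.Agent.Lib.Helper1.SoftSub (card_mul_relIndex)

variable {G : Type*} [Group G]

/-- **Key lemma**: commutators of a normal abelian subgroup with an element of minimal
noncentral class size are central. -/
theorem commutator_mem_center_of_min_class [Finite G] (A : Subgroup G) [hAn : A.Normal]
    (hA : ∀ a ∈ A, ∀ b ∈ A, a * b = b * a) (x : G)
    (hmin : ∀ g : G, g ∉ center G →
      (centralizer ({x} : Set G)).index ≤ (centralizer ({g} : Set G)).index)
    {a : G} (ha : a ∈ A) : ⁅a, x⁆ ∈ center G := by
  classical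
  haveI : Fintype G := Fintype.ofFinite G
  by_contra hz
  obtain ⟨z, hzdef⟩ : ∃ z, z = ⁅a, x⁆ := ⟨_, rfl⟩
  rw [← hzdef] at hz
  have hcomm_mem : ∀ b ∈ A, ⁅b, x⁆ ∈ A := by
    intro b hb
    rw [commutatorElement_def, mul_assoc, mul_assoc]
    apply A.mul_mem hb
    rw [← mul_assoc]
    exact hAn.conj_mem _ (A.inv_mem hb) x
  have hzA : z ∈ A := hzdef ▸ hcomm_mem a ha
  have hz1 : z ≠ 1 := fun h => hz (h ▸ one_mem _)
  obtain ⟨T, hT⟩ : ∃ T : Subgroup G, T = centralizer ({x} : Set G) := ⟨_, rfl⟩
  have hmemT : ∀ t, t ∈ T ↔ t * x = x * t := by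
    intro t
    rw [hT, mem_centralizer_iff]
    constructor
    · intro h; exact (h x rfl).symm
    · intro h y hy
      rw [Set.mem_singleton_iff] at hy
      rw [hy]; exact h.symm
  have hmemCz : ∀ t, t ∈ centralizer ({z} : Set G) ↔ t * z = z * t := by
    intro t
    rw [mem_centralizer_iff]
    constructor
    · intro h; exact (h z rfl).symm
    · intro h y hy
      rw [Set.mem_singleton_iff] at hy
      rw [hy]; exact h.symm
  obtain ⟨U, hU⟩ : ∃ U : Subgroup G, U = T ⊓ centralizer ({z} : Set G) := ⟨_, rfl⟩
  obtain ⟨D, hD⟩ : ∃ D : Subgroup G, D = A ⊓ T := ⟨_, rfl⟩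
  -- the finite sets
  set sT : Finset G := Finset.univ.filter (· ∈ T) with hsT
  set sA : Finset G := Finset.univ.filter (· ∈ A) with hsA
  set sU : Finset G := Finset.univ.filter (· ∈ U) with hsU
  set sD : Finset G := Finset.univ.filter (· ∈ D) with hsD
  set im : Finset G := sA.image (fun b => ⁅b, x⁆) with him
  have cT : sT.card = Nat.card T := by rw [Nat.card_eq_fintype_card, Fintype.card_subtype]
  have cA : sA.card = Nat.card A := by rw [Nat.card_eq_fintype_card, Fintype.card_subtype]
  have cU : sU.card = Nat.card U := by rw [Nat.card_eq_fintype_card, Fintype.card_subtype]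
  have cD : sD.card = Nat.card D := by rw [Nat.card_eq_fintype_card, Fintype.card_subtype]
  have h1im : (1 : G) ∈ im := by
    rw [him, Finset.mem_image]
    exact ⟨1, by simp [hsA, A.one_mem], by simp⟩
  -- (1) `|T| ≤ |U| * (|im| - 1)`
  have hcount1 : Nat.card T ≤ Nat.card U * (im.erase 1).card := by
    rw [← cT, ← cU]
    apply Finset.card_le_mul_card_image_of_maps_to (f := fun t => t * z * t⁻¹)
    · intro t ht
      simp only [hsT, Finset.mem_filter, Finset.mem_univ, true_and] at ht
      rw [Finset.mem_erase]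
      constructor
      · intro h
        apply hz1
        have : z = t⁻¹ * (t * z * t⁻¹) * t := by group
        rw [this, h]; group
      · rw [him, Finset.mem_image]
        refine ⟨t * a * t⁻¹, ?_, ?_⟩
        · simp only [hsA, Finset.mem_filter, Finset.mem_univ, true_and]
          exact hAn.conj_mem a ha t
        · have htx : t * x = x * t := (hmemT t).mp ht
          have htx' : t⁻¹ * x⁻¹ = x⁻¹ * t⁻¹ := by
            have := congrArg (fun w => w⁻¹) htx
            simpa [mul_inv_rev] using this.symm
          rw [hzdef, commutatorElement_def, commutatorElement_def]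
          have e1 : t * a * t⁻¹ * x * (t * a * t⁻¹)⁻¹ * x⁻¹ =
              t * a * (t⁻¹ * x * t) * a⁻¹ * (t⁻¹ * x⁻¹) := by group
          have e2 : t⁻¹ * x * t = x := by
            rw [mul_assoc, ← htx, ← mul_assoc, inv_mul_cancel, one_mul]
          rw [e1, e2, htx']
          group
    · intro u hu
      set fib := sT.filter (fun t => t * z * t⁻¹ = u) with hfib
      rcases Finset.eq_empty_or_nonempty fib with he | ⟨t₀, h0⟩
      · rw [he]; simp
      · simp only [hfib, hsT, Finset.mem_filter, Finset.mem_univ, true_and] at h0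
        apply Finset.card_le_card_of_injOn (fun t => t₀⁻¹ * t)
        · intro t ht
          simp only [hfib, hsT, Finset.coe_filter, Finset.mem_filter, Finset.mem_univ, true_and,
            Set.mem_setOf_eq] at ht
          simp only [hsU, Finset.coe_filter, Finset.mem_univ, true_and, Set.mem_setOf_eq]
          rw [hU]
          refine ⟨T.mul_mem (T.inv_mem h0.1) ht.1, ?_⟩
          show t₀⁻¹ * t ∈ centralizer ({z} : Set G)
          rw [hmemCz]
          have h3 : t * z * t⁻¹ = t₀ * z * t₀⁻¹ := by rw [ht.2, h0.2]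
          have h4 : t₀⁻¹ * t * z = t₀⁻¹ * (t * z * t⁻¹) * t := by group
          rw [h4, h3]; group
        · intro t _ t' _ htt
          exact mul_left_cancel htt
  -- (2) `|D| * |im| ≤ |A|`
  have hcount2 : Nat.card D * im.card ≤ Nat.card A := by
    rw [← cD, ← cA, him]
    apply Finset.mul_card_image_le_card
    intro b hb
    rw [Finset.mem_image] at hb
    obtain ⟨a₀, ha₀, rfl⟩ := hb
    simp only [hsA, Finset.mem_filter, Finset.mem_univ, true_and] at ha₀
    apply Finset.card_le_card_of_injOn (fun d => a₀ * d)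
    · intro d hd
      simp only [hsD, Finset.coe_filter, Finset.mem_univ, true_and, Set.mem_setOf_eq] at hd
      rw [hD] at hd
      simp only [hsA, Finset.coe_filter, Finset.mem_filter, Finset.mem_univ, true_and,
        Set.mem_setOf_eq]
      refine ⟨A.mul_mem ha₀ hd.1, ?_⟩
      have hdx : d * x = x * d := (hmemT d).mp hd.2
      rw [commutatorElement_def, commutatorElement_def]
      have e1 : a₀ * d * x * (a₀ * d)⁻¹ * x⁻¹ = a₀ * (d * x) * d⁻¹ * a₀⁻¹ * x⁻¹ := by group
      rw [e1, hdx]; group
    · intro d _ d' _ hdd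
      exact mul_left_cancel hdd
  -- (3) `A ⊔ U ≤ C(z)` and its order
  have hAU : U ⊔ A ≤ centralizer ({z} : Set G) := by
    apply sup_le
    · rw [hU]; exact inf_le_right
    · intro b hb
      rw [hmemCz]
      exact hA b hb z hzA
  have hAinfU : A ⊓ U = D := by
    rw [hU, hD]
    ext g
    simp only [mem_inf]
    constructor
    · rintro ⟨h1, h2, _⟩; exact ⟨h1, h2⟩
    · rintro ⟨h1, h2⟩
      refine ⟨h1, h2, ?_⟩
      rw [hmemCz]; exact hA g h1 z hzA
  have hcard3 : Nat.card D * Nat.card (U ⊔ A : Subgroup G) = Nat.card A * Nat.card U := by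
    have h1 := card_mul_relIndex (le_sup_right : A ≤ U ⊔ A)
    rw [relIndex_sup_right, ← inf_relIndex_right, hAinfU] at h1
    have hDU : D ≤ U := hAinfU ▸ inf_le_right
    have h2 := card_mul_relIndex hDU
    calc Nat.card D * Nat.card (U ⊔ A : Subgroup G)
        = Nat.card D * (Nat.card A * D.relIndex U) := by rw [h1]
      _ = Nat.card A * (Nat.card D * D.relIndex U) := by ring
      _ = Nat.card A * Nat.card U := by rw [h2]
  -- (4) `|C(z)| ≤ |T|`
  have hcard4 : Nat.card (centralizer ({z} : Set G)) ≤ Nat.card T := by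
    have h1 := hmin z hz
    rw [← hT] at h1
    have h2 := card_mul_index T
    have h3 := card_mul_index (centralizer ({z} : Set G))
    have h4 : 0 < T.index := Nat.pos_of_ne_zero index_ne_zero_of_finite
    have h5 : Nat.card (centralizer ({z} : Set G)) * T.index ≤ Nat.card T * T.index := by
      calc Nat.card (centralizer ({z} : Set G)) * T.index
          ≤ Nat.card (centralizer ({z} : Set G)) * (centralizer ({z} : Set G)).index :=
            Nat.mul_le_mul_left _ h1
        _ = Nat.card T * T.index := by rw [h3, h2]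
    exact Nat.le_of_mul_le_mul_right h5 h4
  -- combine
  have hle : Nat.card (U ⊔ A : Subgroup G) ≤ Nat.card T :=
    (card_le_of_le hAU).trans hcard4
  have hDpos : 0 < Nat.card D := Nat.card_pos
  have hUpos : 0 < Nat.card U := Nat.card_pos
  have herase : (im.erase 1).card + 1 = im.card := Finset.card_erase_add_one h1im
  have h6 : im.card * Nat.card U ≤ Nat.card (U ⊔ A : Subgroup G) := by
    have : Nat.card D * (im.card * Nat.card U) ≤ Nat.card D * Nat.card (U ⊔ A : Subgroup G) := by
      calc Nat.card D * (im.card * Nat.card U) = (Nat.card D * im.card) * Nat.card U := by ring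
        _ ≤ Nat.card A * Nat.card U := Nat.mul_le_mul_right _ hcount2
        _ = Nat.card D * Nat.card (U ⊔ A : Subgroup G) := hcard3.symm
    exact Nat.le_of_mul_le_mul_left this hDpos
  have h7 : im.card * Nat.card U ≤ Nat.card U * (im.erase 1).card := (h6.trans hle).trans hcount1
  rw [← herase] at h7
  nlinarith

/-- the elements `g` with `[A, g] ≤ Z(G)` form a subgroup (preimage of a centralizer) -/
theorem closure_commutator_mem_center (A : Subgroup G) (X : Set G)
    (hX : ∀ x ∈ X, ∀ a ∈ A, ⁅a, x⁆ ∈ center G) :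
    ∀ g ∈ closure X, ∀ a ∈ A, ⁅a, g⁆ ∈ center G := by
  obtain ⟨π, hπ⟩ : ∃ π : G →* G ⧸ center G, π = QuotientGroup.mk' (center G) := ⟨_, rfl⟩
  have hker : ∀ g, g ∈ center G ↔ π g = 1 := by
    intro g
    rw [hπ, ← MonoidHom.mem_ker, QuotientGroup.ker_mk']
  obtain ⟨S, hS⟩ : ∃ S : Subgroup G,
      S = (centralizer ((A.map π : Subgroup (G ⧸ center G)) : Set (G ⧸ center G))).comap π :=
    ⟨_, rfl⟩
  have hmemS : ∀ g, g ∈ S ↔ ∀ a ∈ A, ⁅a, g⁆ ∈ center G := by
    intro g
    rw [hS, mem_comap, mem_centralizer_iff]
    constructor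
    · intro h a ha
      rw [hker, map_commutatorElement, commutatorElement_eq_one_iff_mul_comm]
      exact h _ (mem_map_of_mem π ha)
    · rintro h _ ⟨a, ha, rfl⟩
      have := h a ha
      rwa [hker, map_commutatorElement, commutatorElement_eq_one_iff_mul_comm] at this
  have hle : closure X ≤ S := by
    rw [closure_le]
    intro x hx
    exact (hmemS x).mpr (hX x hx)
  intro g hg
  exact (hmemS g).mp (hle hg)

/-- **Isaacs' theorem**, elementwise form: if `C_G(A) ≤ A` for the normal subgroup `A` and
`[A, x] ≤ Z(G)` for all `x ∈ X`, then triple commutators of `⟨X⟩` are central. -/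
theorem comm_comm_mem_center (A : Subgroup G) [A.Normal]
    (hCA : centralizer (A : Set G) ≤ A) (X : Set G)
    (hX : ∀ x ∈ X, ∀ a ∈ A, ⁅a, x⁆ ∈ center G) :
    ∀ g ∈ closure X, ∀ h ∈ closure X, ∀ k ∈ closure X, ⁅⁅g, h⁆, k⁆ ∈ center G := by
  have h1 := closure_commutator_mem_center A X hX
  have hAM : ⁅A, closure X⁆ ≤ center G :=
    commutator_le.mpr (fun a ha g hg => h1 g hg a ha)
  have hZM : ⁅center G, closure X⁆ = ⊥ :=
    commutator_eq_bot_iff_le_centralizer.mpr (center_le_centralizer _)
  have h2 : ⁅⁅A, closure X⁆, closure X⁆ = ⊥ :=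
    le_bot_iff.mp (hZM ▸ commutator_mono hAM le_rfl)
  have h3 : ⁅⁅closure X, A⁆, closure X⁆ = ⊥ := by
    rw [commutator_comm (closure X) A]; exact h2
  have h4 : ⁅⁅closure X, closure X⁆, A⁆ = ⊥ := commutator_commutator_eq_bot_of_rotate h3 h2
  have h5 : ⁅closure X, closure X⁆ ≤ A :=
    (commutator_eq_bot_iff_le_centralizer.mp h4).trans hCA
  intro g hg h hh k hk
  exact h1 k hk _ (h5 (commutator_mem_commutator hg hh))

/-- triple commutators central in the ambient group give class at most three -/
theorem upperCentralSeries_three_eq_top (M : Subgroup G)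
    (hM : ∀ g ∈ M, ∀ h ∈ M, ∀ k ∈ M, ⁅⁅g, h⁆, k⁆ ∈ center G) :
    Subgroup.upperCentralSeries ↥M 3 = ⊤ := by
  rw [eq_top_iff]
  intro g _
  rw [Subgroup.mem_upperCentralSeries_succ_iff]
  intro h
  rw [Subgroup.mem_upperCentralSeries_succ_iff]
  intro k
  rw [Subgroup.upperCentralSeries_one, mem_center_iff]
  intro l
  apply Subtype.ext
  have := hM g.1 g.2 h.1 h.2 k.1 k.2
  rw [mem_center_iff] at this
  have h2 := this l.1
  have e : ((⁅⁅g, h⁆, k⁆ : ↥M) : G) = ⁅⁅(g : G), (h : G)⁆, (k : G)⁆ := by
    simp [commutatorElement_def]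
  rw [Subgroup.coe_mul, Subgroup.coe_mul, e]
  exact h2

/-- **Isaacs**: `A` normal abelian with `C_G(A) = A`, `m` the smallest class size above `1`;
the subgroup generated by the classes of size `1` or `m` has class at most `3`. -/
theorem small_classes [Finite G] (A : Subgroup G) [A.Normal] (hA : IsMulCommutative A)
    (hCA : centralizer (A : Set G) = A) (m : ℕ)
    (hmin : ∀ x : G, 1 < (centralizer ({x} : Set G)).index →
      m ≤ (centralizer ({x} : Set G)).index) :
    Subgroup.upperCentralSeries ↥(closure {x : G | (centralizer ({x} : Set G)).index = 1 ∨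
      (centralizer ({x} : Set G)).index = m}) 3 = ⊤ := by
  apply upperCentralSeries_three_eq_top
  apply comm_comm_mem_center A hCA.le
  intro x hx a ha
  have hAc : ∀ a ∈ A, ∀ b ∈ A, a * b = b * a := by
    intro a ha b hb
    have := mul_comm' (⟨a, ha⟩ : ↥A) ⟨b, hb⟩
    exact congrArg Subtype.val this
  have hidx1 : ∀ g : G, (centralizer ({g} : Set G)).index = 1 → g ∈ center G := by
    intro g hg
    rw [index_eq_one] at hg
    rw [mem_center_iff]
    intro y
    have hy : y ∈ centralizer ({g} : Set G) := hg ▸ mem_top y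
    exact ((mem_centralizer_iff.mp hy) g rfl).symm
  rcases hx with hx | hx
  · have hxc := hidx1 x hx
    have : ⁅a, x⁆ = 1 := by
      rw [commutatorElement_eq_one_iff_mul_comm]
      exact (mem_center_iff.mp hxc a)
    rw [this]; exact one_mem _
  · apply commutator_mem_center_of_min_class A hAc x _ ha
    intro g hg
    rw [hx]
    apply hmin
    have h0 : (centralizer ({g} : Set G)).index ≠ 0 := index_ne_zero_of_finite
    have h1 : (centralizer ({g} : Set G)).index ≠ 1 := fun h => hg (hidx1 g h)
    omega

/-- triple commutators central give class at most three, whole group form -/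
theorem upperCentralSeries_three_eq_top' (hM : ∀ g h k : G, ⁅⁅g, h⁆, k⁆ ∈ center G) :
    Subgroup.upperCentralSeries G 3 = ⊤ := by
  rw [eq_top_iff]
  intro g _
  rw [Subgroup.mem_upperCentralSeries_succ_iff]
  intro h
  rw [Subgroup.mem_upperCentralSeries_succ_iff]
  intro k
  rw [Subgroup.upperCentralSeries_one]
  exact hM g h k

/-- **Ishikawa**: a finite `p`-group with two class sizes has class at most `3`. -/
theorem two_class_sizes [Finite G] {p : ℕ} [Fact p.Prime] (hP : IsPGroup p G) (m : ℕ)
    (h : ∀ x : G, (centralizer ({x} : Set G)).index = 1 ∨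
      (centralizer ({x} : Set G)).index = m) :
    Subgroup.upperCentralSeries G 3 = ⊤ := by
  obtain ⟨A, hAn, hAc, hCA⟩ :=
    Cfsg.Agent.Lib.Helper10.exists_normal_abelian_self_centralizing p hP
  haveI := hAn
  have hAcomm : ∀ a ∈ A, ∀ b ∈ A, a * b = b * a := by
    intro a ha b hb
    have := mul_comm' (⟨a, ha⟩ : ↥A) ⟨b, hb⟩
    exact congrArg Subtype.val this
  have hidx1 : ∀ g : G, (centralizer ({g} : Set G)).index = 1 → g ∈ center G := by
    intro g hg
    rw [index_eq_one] at hg
    rw [mem_center_iff]
    intro y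
    have hy : y ∈ centralizer ({g} : Set G) := hg ▸ mem_top y
    exact ((mem_centralizer_iff.mp hy) g rfl).symm
  have hX : ∀ x ∈ (Set.univ : Set G), ∀ a ∈ A, ⁅a, x⁆ ∈ center G := by
    intro x _ a ha
    apply commutator_mem_center_of_min_class A hAcomm x _ ha
    intro g hg
    have hgm : (centralizer ({g} : Set G)).index = m := by
      rcases h g with h1 | h1
      · exact absurd (hidx1 g h1) hg
      · exact h1
    have h0 : (centralizer ({g} : Set G)).index ≠ 0 := index_ne_zero_of_finite
    rcases h x with h1 | h1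
    · rw [h1]; omega
    · rw [h1, hgm]
  have h3 := comm_comm_mem_center A hCA.le Set.univ hX
  rw [Subgroup.closure_univ] at h3
  exact upperCentralSeries_three_eq_top' (fun g h k => h3 g (mem_top g) h (mem_top h) k (mem_top k))

end Cfsg.Agent.Lib.Helper1.SmallClasses
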