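import Mathlib

/-!
# Generic index lemmas for S2142 (leaves G1, G2, G3 of `notes/S2142_plan.md`)
-/

set_option autoImplicit false

open MulAction

namespace Cfsg.Agent.Lib.Helper1.Sp2Leaf

/-- `|G_x : G_x ∩ H| * |G x| = |G : H| * |H x|`. -/
theorem relIndex_stabilizer_mul_ncard_orbit {G X : Type*} [Group G] [MulAction G X]
    (H : Subgroup G) (x : X) :
    H.relIndex (stabilizer G x) * (orbit G x).ncard = H.index * (orbit H x).ncard := by
  set K := stabilizer G x with hK
  have h1 : K.index = (orbit G x).ncard := MulAction.index_stabilizer G x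
  have h2 : (stabilizer H x).index = (orbit H x).ncard := MulAction.index_stabilizer H x
  have h3 : stabilizer H x = K.subgroupOf H := by
    ext h
    rw [mem_stabilizer_iff, Subgroup.mem_subgroupOf, hK, mem_stabilizer_iff]
    rfl
  have h4 : K.relIndex H = (orbit H x).ncard := by
    rw [Subgroup.relIndex, ← h3, h2]
  have h5 : (H ⊓ K).relIndex K * K.index = (H ⊓ K).index :=
    Subgroup.relIndex_mul_index inf_le_right
  have h6 : (H ⊓ K).relIndex H * H.index = (H ⊓ K).index :=
    Subgroup.relIndex_mul_index inf_le_left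
  rw [Subgroup.inf_relIndex_right] at h5
  rw [Subgroup.inf_relIndex_left] at h6
  rw [← h1, ← h4, h5, ← h6, mul_comm]

/-- Leaf G1: two points of one `G`-orbit in different `H`-orbits. -/
theorem relIndex_add_relIndex_le {G X : Type*} [Group G] [Finite G] [MulAction G X]
    (H : Subgroup G) (x y : X)
    (hG : ∃ g : G, g • x = y) (hxy : ∀ h ∈ H, h • x ≠ y) :
    H.relIndex (stabilizer G x) + H.relIndex (stabilizer G y) ≤ H.index := by
  obtain ⟨g, hg⟩ := hG
  have hOy : orbit G y = orbit G x := by
    rw [← hg]; exact MulAction.orbit_smul g x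
  have hx := relIndex_stabilizer_mul_ncard_orbit H x
  have hy := relIndex_stabilizer_mul_ncard_orbit H y
  rw [hOy] at hy
  have hfin : (orbit G x).Finite := Set.finite_range _
  have hsubx : orbit H x ⊆ orbit G x := by
    rintro _ ⟨h, rfl⟩
    exact ⟨(h : G), rfl⟩
  have hsuby : orbit H y ⊆ orbit G x := by
    rw [← hOy]
    rintro _ ⟨h, rfl⟩
    exact ⟨(h : G), rfl⟩
  have hdisj : Disjoint (orbit H x) (orbit H y) := by
    rw [Set.disjoint_left]
    rintro z ⟨h1, rfl⟩ ⟨h2, h2e⟩
    -- h2 • y = h1 • x
    have h2e' : h2 • y = h1 • x := h2e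
    have : (h2⁻¹ * h1 : H) • x = y := by
      rw [mul_smul, ← h2e', inv_smul_smul]
    exact hxy _ (h2⁻¹ * h1 : H).2 this
  have hunion : (orbit H x).ncard + (orbit H y).ncard ≤ (orbit G x).ncard := by
    rw [← Set.ncard_union_eq hdisj (hfin.subset hsubx) (hfin.subset hsuby)]
    exact Set.ncard_le_ncard (Set.union_subset hsubx hsuby) hfin
  have hpos : 0 < (orbit G x).ncard := by
    rw [Set.ncard_pos hfin]
    exact ⟨x, MulAction.mem_orbit_self x⟩
  have key : (H.relIndex (stabilizer G x) + H.relIndex (stabilizer G y)) * (orbit G x).ncard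
      ≤ H.index * (orbit G x).ncard := by
    rw [add_mul, hx, hy, ← mul_add]
    exact Nat.mul_le_mul_left _ hunion
  exact Nat.le_of_mul_le_mul_right key hpos

/-- Leaf G2. (The normalizing hypothesis is not needed.) -/
theorem relIndex_mul_relIndex_le {G : Type*} [Group G] [Finite G] (K St A Q : Subgroup G)
    (hASt : A ≤ St) (hQSt : Q ≤ St) (hStK : St ≤ K)
    (hnorm : A ≤ Subgroup.normalizer (Q : Set G)) :
    St.relIndex K * A.relIndex Q ≤ A.relIndex K := by
  have _ := hnorm
  have h1 : A.relIndex St * St.relIndex K = A.relIndex K :=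
    Subgroup.relIndex_mul_relIndex A St K hASt hStK
  have h2 : A.relIndex Q ≤ A.relIndex St :=
    Subgroup.relIndex_le_of_le_right hQSt (by
      rw [Subgroup.relIndex]; exact Subgroup.index_ne_zero_of_finite)
  calc St.relIndex K * A.relIndex Q ≤ St.relIndex K * A.relIndex St :=
        Nat.mul_le_mul_left _ h2
    _ = A.relIndex K := by rw [mul_comm, h1]

/-- Leaf G3. -/
theorem card_le_mul_relIndex {G ι : Type*} [Group G] [Finite G] [Finite ι] (St K : Subgroup G)
    (k : ι → G) (hk : ∀ i, k i ∈ K) (c : ℕ)
    (hc : ∀ i, Nat.card {j // (k i)⁻¹ * k j ∈ St} ≤ c) : Nat.card ι ≤ c * St.relIndex K := by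
  classical
  letI := Fintype.ofFinite ι
  letI : Fintype (K ⧸ St.subgroupOf K) := Fintype.ofFinite _
  let f : ι → K ⧸ St.subgroupOf K := fun i => QuotientGroup.mk (⟨k i, hk i⟩ : K)
  have hf : ∀ i j, f j = f i ↔ (k i)⁻¹ * k j ∈ St := by
    intro i j
    simp only [f]
    rw [eq_comm, QuotientGroup.eq, Subgroup.mem_subgroupOf]
    rfl
  have h1 := Finset.card_le_mul_card_image_of_maps_to (f := f) (s := Finset.univ)
    (t := Finset.univ) (fun a _ => Finset.mem_univ _) c (by
      intro b _
      by_cases hb : ∃ i, f i = b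
      · obtain ⟨i, rfl⟩ := hb
        have h2 : (Finset.univ.filter (fun a => f a = f i)).card
            = Nat.card {j // (k i)⁻¹ * k j ∈ St} := by
          rw [Nat.card_eq_fintype_card, Fintype.card_subtype]
          congr 1
          ext j
          simp only [Finset.mem_filter, Finset.mem_univ, true_and]
          exact hf i j
        rw [h2]; exact hc i
      · have h2 : (Finset.univ.filter (fun a => f a = b)) = ∅ := by
          ext a
          simp only [Finset.mem_filter, Finset.mem_univ, true_and, Finset.notMem_empty, iff_false]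
          intro ha
          exact hb ⟨a, ha⟩
        rw [h2]; simp)
  rw [Finset.card_univ, Finset.card_univ] at h1
  rw [Nat.card_eq_fintype_card, Subgroup.relIndex, Subgroup.index, Nat.card_eq_fintype_card]
  exact h1

end Cfsg.Agent.Lib.Helper1.Sp2Leaf
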