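import Mathlib
import Cfsg.Agent.Lib.Helper11.Sp2Calc
import Cfsg.Agent.Lib.Helper1.Sp2G

/-!
# S2142 leaf A2 (modulo leaf Z): a point of type B has `|G_v : G_v ∩ H| ≥ #zeros(γ_v)`
-/

set_option autoImplicit false

open Cfsg.Agent.Lib.Helper11.Sp2 MulAction

namespace Cfsg.Agent.Lib.Helper1.Sp2Leaf

variable {F V G : Type*} [Field F] [AddCommGroup V] [Module F V] [Group G] [DistribMulAction G V]
  (S : Setting F V G)

/-- The subgroup of `G_v` preserving `γ_v` on `v^⊥`. -/
def gamStab (H : Subgroup G) (v : V) : Subgroup G where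
  carrier := {p | p • v = v ∧ ∀ w, S.B v w = 0 → S.gam H v (p • w) = S.gam H v w}
  one_mem' := ⟨one_smul _ _, fun w _ => by rw [one_smul]⟩
  mul_mem' := by
    rintro p q ⟨hp1, hp2⟩ ⟨hq1, hq2⟩
    refine ⟨by rw [mul_smul, hq1, hp1], fun w hw => ?_⟩
    have hqw : S.B v (q • w) = 0 := by
      have := S.iso q v w
      rw [hq1] at this
      rw [this]; exact hw
    rw [mul_smul, hp2 _ hqw, hq2 _ hw]
  inv_mem' := by
    rintro p ⟨hp1, hp2⟩
    have hpi : p⁻¹ • v = v := inv_smul_eq_iff.mpr hp1.symm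
    refine ⟨hpi, fun w hw => ?_⟩
    have hpw : S.B v (p⁻¹ • w) = 0 := by
      have := S.iso p⁻¹ v w
      rw [hpi] at this
      rw [this]; exact hw
    have := hp2 _ hpw
    rw [smul_inv_smul] at this
    exact this.symm

theorem mem_gamStab {H : Subgroup G} {v : V} {p : G} :
    p ∈ gamStab S H v ↔ p • v = v ∧ ∀ w, S.B v w = 0 → S.gam H v (p • w) = S.gam H v w :=
  Iff.rfl

/-- fibres of `a ↦ tv a * St` on the zeros of `γ_v` -/
theorem eq_or_eq_add_of_tv_mul_tv_mem {H : Subgroup G} {v a a' : V} (hB : S.IsB H v)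
    (ha : S.B v a = 0) (hga : S.gam H v a = 0) (ha' : S.B v a' = 0) (hga' : S.gam H v a' = 0)
    (hmem : (S.tv a)⁻¹ * S.tv a' ∈ gamStab S H v) : a' = a ∨ a' = a + v := by
  rw [S.tv_inv] at hmem
  obtain ⟨_, h2⟩ := hmem
  -- the key identity
  have key : ∀ w, S.B v w = 0 → S.B w a' + S.B w a + S.B w a' * S.B a' a = 0 := by
    intro w hw
    have hw' : S.B v (S.tv a' • w) = 0 := by
      rw [S.tv_smul, S.Badd_right, S.Bsmul_right, hw, ha', mul_zero, add_zero]
    have h3 := h2 w hw
    rw [mul_smul, S.gam_tv hB ha hw', S.gam_tv hB ha' hw, hga, hga', zero_add, mul_one, mul_one] at h3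
    have h4 : S.B (S.tv a' • w) a = S.B w a + S.B w a' * S.B a' a := by
      rw [S.tv_smul, S.Badd_left, S.Bsmul_left]
    rw [h4] at h3
    -- h3 : gam w + B w a' + (B w a + B w a' * B a' a) = gam w
    have h5 : S.gam H v w + (S.B w a' + S.B w a + S.B w a' * S.B a' a) = S.gam H v w + 0 := by
      rw [add_zero]
      calc S.gam H v w + (S.B w a' + S.B w a + S.B w a' * S.B a' a)
          = S.gam H v w + S.B w a' + (S.B w a + S.B w a' * S.B a' a) := by ring
        _ = S.gam H v w := h3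
    exact add_left_cancel h5
  rcases S.h01 (S.B a' a) with h0 | h1
  · have h6 : a + a' = 0 ∨ a + a' = v := by
      apply S.eq_zero_or_eq_of_perp
      intro z hz
      have := key z hz
      rw [h0, mul_zero, add_zero] at this
      rw [S.Badd_right, add_comm]; exact this
    rcases h6 with h6 | h6
    · left; exact (S.vadd_eq_zero_iff.mp h6).symm
    · right
      rw [← h6, S.vadd_cancel_left]
  · exfalso
    have h6 : a = 0 ∨ a = v := by
      apply S.eq_zero_or_eq_of_perp
      intro z hz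
      have := key z hz
      rw [h1, mul_one] at this
      have h7 : S.B z a' + S.B z a + S.B z a' = S.B z a + (S.B z a' + S.B z a') := by ring
      rw [h7, S.fadd_self, add_zero] at this
      exact this
    rcases h6 with h6 | h6
    · rw [h6, S.Bzero_right] at h1; exact zero_ne_one h1
    · rw [h6, S.B_symm, ha'] at h1; exact zero_ne_one h1

/-- Leaf A2 modulo leaf Z (the zero count `hZ` of `γ_v`). -/
theorem relIndex_stab_ge_of_isB_of [Finite V] [Finite G] (b : ℕ) (H : Subgroup G) {v : V}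
    (hB : S.IsB H v)
    (hZ : b ≤ Nat.card {a : V // S.B v a = 0 ∧ S.gam H v a = 0}) :
    b ≤ H.relIndex (stabilizer G v) := by
  classical
  set St := gamStab S H v with hSt
  set K := stabilizer G v with hK
  set A := H ⊓ K with hA
  have hASt : A ≤ St := by
    rintro p ⟨hp, hpv⟩
    have hpv' : p • v = v := mem_stabilizer_iff.mp hpv
    exact ⟨hpv', fun w hw => S.gam_smul hB hp hpv' hw⟩
  have hQSt : S.Q v ≤ St := by
    intro g hg
    obtain ⟨u, c, hu, rfl⟩ := S.mem_Q.mp hg
    refine ⟨S.gq_smul_self hu c, fun w hw => ?_⟩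
    rw [S.gq_smul_of_perp hu c hw]
    rcases S.h01 (S.B w u) with h0 | h1
    · rw [h0, zero_smul, add_zero]
    · rw [h1, one_smul, S.gam_add_self hB hw]
  have hStK : St ≤ K := fun p hp => mem_stabilizer_iff.mpr hp.1
  have hnorm : A ≤ Subgroup.normalizer (S.Q v : Set G) :=
    inf_le_right.trans (S.stabilizer_le_normalizer_Q v)
  have hG2 := relIndex_mul_relIndex_le K St A (S.Q v) hASt hQSt hStK hnorm
  have hAK : A.relIndex K = H.relIndex K := Subgroup.inf_relIndex_right H K
  -- `|Q_v : A ∩ Q_v| ≥ 2`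
  have hq2 : 2 ≤ A.relIndex (S.Q v) := by
    have h0 : A.relIndex (S.Q v) ≠ 0 := by
      rw [Subgroup.relIndex]; exact Subgroup.index_ne_zero_of_finite
    have h1 : A.relIndex (S.Q v) ≠ 1 := by
      intro h
      have hle : S.Q v ≤ A := Subgroup.relIndex_eq_one.mp h
      exact hB.2.1 (hle (S.tv_mem_Q v)).1
    omega
  -- the zeros of `γ_v`
  have hk : ∀ i : {a : V // S.B v a = 0 ∧ S.gam H v a = 0}, S.tv (i : V) ∈ K := by
    intro i
    rw [hK, mem_stabilizer_iff, S.tv_smul, i.2.1, zero_smul, add_zero]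
  have hc : ∀ i : {a : V // S.B v a = 0 ∧ S.gam H v a = 0},
      Nat.card {j : {a : V // S.B v a = 0 ∧ S.gam H v a = 0} //
        (S.tv (i : V))⁻¹ * S.tv (j : V) ∈ St} ≤ 2 := by
    intro i
    have hinj : Function.Injective
        (fun j : {j : {a : V // S.B v a = 0 ∧ S.gam H v a = 0} //
          (S.tv (i : V))⁻¹ * S.tv (j : V) ∈ St} => decide (j.1.1 = i.1)) := by
      intro j1 j2 h12
      have e1 := eq_or_eq_add_of_tv_mul_tv_mem S hB i.2.1 i.2.2 j1.1.2.1 j1.1.2.2 j1.2
      have e2 := eq_or_eq_add_of_tv_mul_tv_mem S hB i.2.1 i.2.2 j2.1.2.1 j2.1.2.2 j2.2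
      have h12' : (j1.1.1 = i.1) ↔ (j2.1.1 = i.1) := by
        simpa using h12
      apply Subtype.ext; apply Subtype.ext
      rcases e1 with e1 | e1 <;> rcases e2 with e2 | e2
      · rw [e1, e2]
      · have := h12'.mp e1; rw [e1, this]
      · have := h12'.mpr e2; rw [e2, this]
      · rw [e1, e2]
    have := Nat.card_le_card_of_injective _ hinj
    simpa using this
  have hG3 := card_le_mul_relIndex St K
    (fun i : {a : V // S.B v a = 0 ∧ S.gam H v a = 0} => S.tv (i : V)) hk 2 hc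
  rw [← hAK]
  calc b
      ≤ Nat.card {a : V // S.B v a = 0 ∧ S.gam H v a = 0} := hZ
    _ ≤ 2 * St.relIndex K := hG3
    _ ≤ A.relIndex (S.Q v) * St.relIndex K := Nat.mul_le_mul_right _ hq2
    _ = St.relIndex K * A.relIndex (S.Q v) := mul_comm _ _
    _ ≤ A.relIndex K := hG2

end Cfsg.Agent.Lib.Helper1.Sp2Leaf
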