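import Mathlib
import Cfsg.Agent.Lib.Helper11.Sp2Calc
import Cfsg.Agent.Lib.Helper1.Sp2A2a
import Cfsg.Agent.Lib.Helper23.Sp2Z

/-!
# S2142 leaf A2: a point of type B has `|G_v : G_v ∩ H| ≥ 2^(2m-2) - 2^(m-1)`
-/

set_option autoImplicit false

open Cfsg.Agent.Lib.Helper11.Sp2 MulAction

namespace Cfsg.Agent.Lib.Helper1.Sp2Leaf

variable {F V G : Type*} [Field F] [AddCommGroup V] [Module F V] [Group G] [DistribMulAction G V]
  (S : Setting F V G)

theorem relIndex_stab_ge_of_isB [Finite V] [Finite G] {m : ℕ} (hV : Nat.card V = 2 ^ (2 * m))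
    (hm : 2 ≤ m) (H : Subgroup G) {v : V} (hB : S.IsB H v) :
    2 ^ (2 * m - 2) - 2 ^ (m - 1) ≤ H.relIndex (stabilizer G v) :=
  relIndex_stab_ge_of_isB_of S _ H hB
    (Cfsg.Agent.Lib.Helper23.Sp2Leaf.card_gam_zeros_ge S hV (by omega) H hB)

end Cfsg.Agent.Lib.Helper1.Sp2Leaf
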