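import Mathlib
import Cfsg.Prelude.Def_ClassicalGeometry
import Cfsg.Prelude.Def_GeometricClasses
import Cfsg.Agent.Lib.Helper5.SpMax
import Cfsg.Agent.Lib.Helper2.SpSubDefs
import Cfsg.Agent.S0752

/-!
helper1: S5650 leaf R1 (`exists_normalized`): a form-rational structure `(P, ζ)` for the symplectic form can be
replaced by a normalised one `P' = P * q` (q rational) with `ζ * f(P' u, P' v) = f(u, v)`, giving the same
subfield subgroup.  Uses the classification of alternating forms `Cfsg.Agent.S0752.result` over `F₀`.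
-/

set_option autoImplicit false

namespace Cfsg.Agent.Lib.Helper1.SpSubLeaf
open Cfsg Matrix Cfsg.Agent.Lib.Helper5 Cfsg.Agent.Lib.Helper5.SpMax Cfsg.Agent.Lib.Helper2.SpSub

variable {F : Type*} [Field F] {m : ℕ}

/-- embedding of `F₀`-vectors into `F`-vectors -/
def emb (F₀ : Subfield F) (u : Fin m ⊕ Fin m → F₀) : Fin m ⊕ Fin m → F := fun i => (u i : F)

lemma emb_add (F₀ : Subfield F) (u v : Fin m ⊕ Fin m → F₀) :
    emb F₀ (u + v) = emb F₀ u + emb F₀ v := by
  funext i; simp [emb]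

lemma emb_smul (F₀ : Subfield F) (c : F₀) (u : Fin m ⊕ Fin m → F₀) :
    emb F₀ (c • u) = (c : F) • emb F₀ u := by
  funext i; simp [emb]

lemma emb_single (F₀ : Subfield F) (x : Fin m ⊕ Fin m) :
    emb F₀ (Pi.single x 1) = (Pi.single x 1 : Fin m ⊕ Fin m → F) := by
  funext i
  by_cases h : i = x
  · subst h; simp [emb]
  · simp [emb, h]

lemma emb_inj (F₀ : Subfield F) {u : Fin m ⊕ Fin m → F₀} (h : emb F₀ u = 0) : u = 0 := by
  funext i
  have := congrFun h i
  simp only [emb, Pi.zero_apply] at this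
  exact Subtype.ext (by simpa using this)

/-- the scaled form in the `P`-coordinates -/
def sform (P : GL (Fin m ⊕ Fin m) F) (ζ : F) (u v : Fin m ⊕ Fin m → F) : F :=
  ζ * sympForm m F (mv P u) (mv P v)

lemma sform_add_left (P : GL (Fin m ⊕ Fin m) F) (ζ : F) (u u' v : Fin m ⊕ Fin m → F) :
    sform P ζ (u + u') v = sform P ζ u v + sform P ζ u' v := by
  unfold sform mv
  rw [Matrix.mulVec_add, sympForm_add_left, mul_add]

lemma sform_add_right (P : GL (Fin m ⊕ Fin m) F) (ζ : F) (u v v' : Fin m ⊕ Fin m → F) :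
    sform P ζ u (v + v') = sform P ζ u v + sform P ζ u v' := by
  unfold sform mv
  rw [Matrix.mulVec_add, sympForm_add_right, mul_add]

lemma sform_smul_left (P : GL (Fin m ⊕ Fin m) F) (ζ c : F) (u v : Fin m ⊕ Fin m → F) :
    sform P ζ (c • u) v = c * sform P ζ u v := by
  unfold sform mv
  rw [Matrix.mulVec_smul, sympForm_smul_left]; ring

lemma sform_smul_right (P : GL (Fin m ⊕ Fin m) F) (ζ c : F) (u v : Fin m ⊕ Fin m → F) :
    sform P ζ u (c • v) = c * sform P ζ u v := by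
  unfold sform mv
  rw [Matrix.mulVec_smul, sympForm_smul_right]; ring

/-- `sform` as a bilinear map over `F` -/
noncomputable def sformB (P : GL (Fin m ⊕ Fin m) F) (ζ : F) :
    (Fin m ⊕ Fin m → F) →ₗ[F] (Fin m ⊕ Fin m → F) →ₗ[F] F :=
  LinearMap.mk₂ F (sform P ζ) (sform_add_left P ζ)
    (fun c x y => by rw [sform_smul_left, smul_eq_mul]) (sform_add_right P ζ)
    (fun c x y => by rw [sform_smul_right, smul_eq_mul])

lemma sformB_apply (P : GL (Fin m ⊕ Fin m) F) (ζ : F) (u v : Fin m ⊕ Fin m → F) :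
    sformB P ζ u v = ζ * sympForm m F (mv P u) (mv P v) := rfl

/-- two bilinear maps on `F^ι` agreeing on the standard basis are equal -/
lemma bilin_ext_single {ι : Type*} [Fintype ι] [DecidableEq ι]
    (A B : (ι → F) →ₗ[F] (ι → F) →ₗ[F] F)
    (h : ∀ x y, A (Pi.single x 1) (Pi.single y 1) = B (Pi.single x 1) (Pi.single y 1)) : A = B := by
  apply (Pi.basisFun F ι).ext
  intro x
  apply (Pi.basisFun F ι).ext
  intro y
  simpa using h x y


/-- the `F₀`-valued form on `F₀`-vectors -/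
noncomputable def B0 (F₀ : Subfield F) (P : GL (Fin m ⊕ Fin m) F) (ζ : F)
    (hP : Cfsg.Geo.IsFormRationalStructure (Cfsg.sympForm m F) F₀ ζ P) :
    LinearMap.BilinForm F₀ (Fin m ⊕ Fin m → F₀) :=
  LinearMap.mk₂ F₀
    (fun u v => (⟨sform P ζ (emb F₀ u) (emb F₀ v),
      hP (emb F₀ u) (emb F₀ v) (fun i => (u i).2) (fun i => (v i).2)⟩ : F₀))
    (fun u u' v => Subtype.ext (by
      show sform P ζ (emb F₀ (u + u')) (emb F₀ v) = _
      rw [emb_add, sform_add_left]; rfl))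
    (fun c u v => Subtype.ext (by
      show sform P ζ (emb F₀ (c • u)) (emb F₀ v) = _
      rw [emb_smul, sform_smul_left]; rfl))
    (fun u v v' => Subtype.ext (by
      show sform P ζ (emb F₀ u) (emb F₀ (v + v')) = _
      rw [emb_add, sform_add_right]; rfl))
    (fun c u v => Subtype.ext (by
      show sform P ζ (emb F₀ u) (emb F₀ (c • v)) = _
      rw [emb_smul, sform_smul_right]; rfl))

lemma B0_apply (F₀ : Subfield F) (P : GL (Fin m ⊕ Fin m) F) (ζ : F)
    (hP : Cfsg.Geo.IsFormRationalStructure (Cfsg.sympForm m F) F₀ ζ P)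
    (u v : Fin m ⊕ Fin m → F₀) :
    ((B0 F₀ P ζ hP u v : F₀) : F) = sform P ζ (emb F₀ u) (emb F₀ v) := rfl

lemma B0_isAlt (F₀ : Subfield F) (P : GL (Fin m ⊕ Fin m) F) (ζ : F)
    (hP : Cfsg.Geo.IsFormRationalStructure (Cfsg.sympForm m F) F₀ ζ P) :
    (B0 F₀ P ζ hP).IsAlt := by
  intro u
  apply Subtype.ext
  rw [B0_apply]
  unfold sform
  rw [sympForm_self, mul_zero]; rfl

lemma B0_nondeg (F₀ : Subfield F) (P : GL (Fin m ⊕ Fin m) F) (ζ : F) (hζ : ζ ≠ 0)
    (hP : Cfsg.Geo.IsFormRationalStructure (Cfsg.sympForm m F) F₀ ζ P)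
    (u : Fin m ⊕ Fin m → F₀) (hu : ∀ v, B0 F₀ P ζ hP u v = 0) : u = 0 := by
  classical
  apply emb_inj F₀
  by_contra hne
  have hPu : mv P (emb F₀ u) ≠ 0 := by
    intro h0
    apply hne
    have := mulVec_inj P (u := emb F₀ u) (v := 0) (by rw [Matrix.mulVec_zero]; exact h0)
    exact this
  obtain ⟨a, ha⟩ := sympForm_nondeg (mv P (emb F₀ u)) hPu
  apply ha
  -- the linear functional `w ↦ sformB P ζ (emb u) w` vanishes on the standard basis
  have hz : sformB P ζ (emb F₀ u) = 0 := by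
    apply (Pi.basisFun F (Fin m ⊕ Fin m)).ext
    intro x
    have h1 := congrArg (fun t : F₀ => (t : F)) (hu (Pi.single x 1))
    simp only [B0_apply, emb_single] at h1
    simpa [sformB_apply, sform] using h1
  have h2 : sformB P ζ (emb F₀ u) (mv P⁻¹ a) = 0 := by rw [hz]; rfl
  rw [sformB_apply] at h2
  have h3 : mv P (mv P⁻¹ a) = a := mul_inv_mulVec P a
  rw [h3] at h2
  exact (mul_eq_zero.mp h2).resolve_left hζ


lemma map_conj_eq_self {G : Type*} [Group G] (K : Subgroup G) {q : G} (hq : q ∈ K) :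
    K.map (MulAut.conj q).toMonoidHom = K := by
  ext g
  constructor
  · rintro ⟨k, hk, rfl⟩
    show q * k * q⁻¹ ∈ K
    exact K.mul_mem (K.mul_mem hq hk) (K.inv_mem hq)
  · intro hg
    refine ⟨q⁻¹ * g * q, K.mul_mem (K.mul_mem (K.inv_mem hq) hg) hq, ?_⟩
    show q * (q⁻¹ * g * q) * q⁻¹ = g
    group

lemma subfieldSubgroup_mul_right (F₀ : Subfield F) (P q : GL (Fin m ⊕ Fin m) F)
    (hq : q ∈ (Matrix.GeneralLinearGroup.map (F₀.subtype : F₀ →+* F)).range) :
    Cfsg.Geo.subfieldSubgroup F₀ (P * q) = Cfsg.Geo.subfieldSubgroup F₀ P := by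
  unfold Cfsg.Geo.subfieldSubgroup
  have hq' : q ∈ (Matrix.GeneralLinearGroup.map (F₀.subtype : F₀ →+* F)).range ⊔
      Cfsg.Geo.scalars (Fin m ⊕ Fin m) F := Subgroup.mem_sup_left hq
  conv_rhs => rw [← map_conj_eq_self _ hq']
  rw [Subgroup.map_map]
  congr 1
  ext g : 1
  simp [MulAut.conj_apply, mul_assoc]

/-- (R1) -/
theorem exists_normalized (F₀ : Subfield F) (P : GL (Fin m ⊕ Fin m) F) (ζ : F) (hζ : ζ ≠ 0)
    (hP : Cfsg.Geo.IsFormRationalStructure (Cfsg.sympForm m F) F₀ ζ P) :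
    ∃ P' : GL (Fin m ⊕ Fin m) F,
      Cfsg.Geo.subfieldSubgroup F₀ P' = Cfsg.Geo.subfieldSubgroup F₀ P ∧
      ∀ u v : Fin m ⊕ Fin m → F, ζ * sympForm m F (mv P' u) (mv P' v) = sympForm m F u v := by
  classical
  obtain ⟨m', k, b, h1, h2, h3, h4⟩ :=
    Cfsg.Agent.S0752.result (B0 F₀ P ζ hP) (B0_isAlt F₀ P ζ hP)
  have hk : k = 0 := by
    by_contra hk
    have hpos : 0 < k := Nat.pos_of_ne_zero hk
    have hb := B0_nondeg F₀ P ζ hζ hP (b (Sum.inr ⟨0, hpos⟩)) (h4 _)
    exact b.ne_zero _ hb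
  subst hk
  have hm' : m' = m := by
    have := Module.finrank_eq_card_basis b
    rw [Module.finrank_fintype_fun_eq_card] at this
    simp at this
    omega
  subst hm'
  -- the reindexed basis: `c (inl i) = f_i`, `c (inr i) = e_i`
  let σ : (Fin m' ⊕ Fin m') ⊕ Fin 0 ≃ Fin m' ⊕ Fin m' :=
    (Equiv.sumEmpty _ _).trans (Equiv.sumComm _ _)
  let c : Module.Basis (Fin m' ⊕ Fin m') F₀ (Fin m' ⊕ Fin m' → F₀) := b.reindex σ
  have hcl : ∀ i, c (Sum.inl i) = b (Sum.inl (Sum.inr i)) := fun i => by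
    simp [c, σ, Module.Basis.reindex_apply]
  have hcr : ∀ i, c (Sum.inr i) = b (Sum.inl (Sum.inl i)) := fun i => by
    simp [c, σ, Module.Basis.reindex_apply]
  let e0 := Pi.basisFun F₀ (Fin m' ⊕ Fin m')
  let Qu : GL (Fin m' ⊕ Fin m') F₀ :=
    ⟨e0.toMatrix c, c.toMatrix e0, Module.Basis.toMatrix_mul_toMatrix_flip _ _,
      Module.Basis.toMatrix_mul_toMatrix_flip _ _⟩
  let q : GL (Fin m' ⊕ Fin m') F := Matrix.GeneralLinearGroup.map (F₀.subtype : F₀ →+* F) Qu
  have hq : ∀ y, mv q (Pi.single y 1) = emb F₀ (c y) := by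
    intro y
    funext x
    simp [mv, q, Qu, e0, emb, Module.Basis.toMatrix_apply]
  refine ⟨P * q, subfieldSubgroup_mul_right F₀ P q ⟨Qu, rfl⟩, ?_⟩
  have hmain : sformB (P * q) ζ = Bform m' F := by
    apply bilin_ext_single
    intro x y
    rw [sformB_apply, Bform_apply]
    have hx : ∀ z, mv (P * q) (Pi.single z 1) = mv P (emb F₀ (c z)) := by
      intro z
      rw [← hq z]
      show ((P * q : GL (Fin m' ⊕ Fin m') F) : Matrix (Fin m' ⊕ Fin m') (Fin m' ⊕ Fin m') F) *ᵥ _ =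
        (P : Matrix (Fin m' ⊕ Fin m') (Fin m' ⊕ Fin m') F) *ᵥ
          ((q : Matrix (Fin m' ⊕ Fin m') (Fin m' ⊕ Fin m') F) *ᵥ _)
      rw [Matrix.mulVec_mulVec, Units.val_mul]
    rw [hx x, hx y]
    have hB := B0_apply F₀ P ζ hP (c x) (c y)
    unfold sform at hB
    rw [← hB]
    have hskew : ∀ u v, B0 F₀ P ζ hP u v = - B0 F₀ P ζ hP v u :=
      fun u v => ((B0_isAlt F₀ P ζ hP).neg_eq v u).symm
    rcases x with i | i <;> rcases y with j | j
    · rw [hcl, hcl, h3, sympForm_single_inl]; simp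
    · rw [hcl, hcr, hskew, h1, sympForm_single_inr]
      by_cases hij : i = j
      · subst hij; simp
      · simp [Ne.symm hij]
    · rw [hcr, hcl, h1, sympForm_single_inl]
      by_cases hij : i = j
      · subst hij; simp
      · simp [hij, Ne.symm hij]
    · rw [hcr, hcr, h2, sympForm_single_inr]; simp
  intro u v
  have := congrArg (fun A => A u v) hmain
  simpa [sformB_apply, Bform_apply] using this

end Cfsg.Agent.Lib.Helper1.SpSubLeaf
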