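import Mathlib
import Cfsg.Prelude.Def_ClassicalGeometry
import Cfsg.Prelude.Def_GeometricClasses
import Cfsg.Agent.S5650
import Cfsg.Agent.Lib.Helper2.SpSubR2
import Cfsg.Agent.Lib.Helper1.SpSubR
import Cfsg.Agent.Lib.Helper9.Om7SK1b
import Cfsg.Agent.Lib.Helper11.SpSubEven

/-!
# Subfield subgroups of `Sp_2m(q)`, `q` odd, `m ≥ 3`: every element of a proper overgroup is rational (helper1)

Replaces `hard_case5650` of `Cfsg.Agent.S5650` (which needs `5 ≤ m`) in odd characteristic for every `m ≥ 3`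
and every ODD prime degree `[F : F₀]` (for S5804, `Sp_6(q)`, conjunct (8)): helper18's Dickson step (msg 4621).

`w = g e₁`; for a rational `a` with `μ = f(a,w) ≠ 0` the transvections `tvc a 1`, `tvc w 1 ∈ M` generate on the
hyperbolic plane `⟨a, w⟩` a copy of `⟨lSL 1, tSL (-μ²)⟩`; by Dickson (`k1b_dickson`, helper9/helper13) `tvc a (-μ²) ∈ M`
(so `μ² ∈ F₀` by `nrT`) or `μ⁴ = -1` (so `μ² ∈ F₀` because the degree is odd).  Polarisation gives
`w = θ • (rational)`, and `mem_of_rat_point5650` finishes.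
-/

set_option autoImplicit false
set_option linter.unusedSectionVars false
set_option linter.unusedVariables false

namespace Cfsg.Agent.Lib.Helper1.SpSubOdd
open Cfsg Matrix Cfsg.Agent.Lib.Helper5 Cfsg.Agent.Lib.Helper5.SpMax Cfsg.Agent.Lib.Helper2.SpSub
  Cfsg.Agent.Lib.Helper9.SpSubLeaf

variable {F : Type*} [Field F] {m : ℕ}

/-- the action of a `2 × 2` matrix on the hyperbolic plane `⟨u₁, u₂⟩` (`f(u₁,u₂) = 1`), identity on its perp -/
def pl (u₁ u₂ : Fin m ⊕ Fin m → F) (A : Matrix (Fin 2) (Fin 2) F) (x : Fin m ⊕ Fin m → F) :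
    Fin m ⊕ Fin m → F :=
  x + ((A 0 0 - 1) * sympForm m F x u₂ + A 0 1 * sympForm m F u₁ x) • u₁
    + (A 1 0 * sympForm m F x u₂ + (A 1 1 - 1) * sympForm m F u₁ x) • u₂

lemma pl_one (u₁ u₂ x : Fin m ⊕ Fin m → F) : pl u₁ u₂ 1 x = x := by
  simp [pl]

lemma pl_mul {u₁ u₂ : Fin m ⊕ Fin m → F} (h12 : sympForm m F u₁ u₂ = 1)
    (A B : Matrix (Fin 2) (Fin 2) F) (x : Fin m ⊕ Fin m → F) :
    pl u₁ u₂ (A * B) x = pl u₁ u₂ A (pl u₁ u₂ B x) := by
  have h21 : sympForm m F u₂ u₁ = -1 := by rw [sympForm_swap, h12]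
  have e1 : sympForm m F (pl u₁ u₂ B x) u₂
      = B 0 0 * sympForm m F x u₂ + B 0 1 * sympForm m F u₁ x := by
    unfold pl
    rw [sympForm_add_left, sympForm_add_left, sympForm_smul_left, sympForm_smul_left, h12,
      sympForm_self]
    ring
  have e2 : sympForm m F u₁ (pl u₁ u₂ B x)
      = B 1 0 * sympForm m F x u₂ + B 1 1 * sympForm m F u₁ x := by
    unfold pl
    rw [sympForm_add_right, sympForm_add_right, sympForm_smul_right, sympForm_smul_right, h12,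
      sympForm_self]
    ring
  have e3 : pl u₁ u₂ A (pl u₁ u₂ B x) = pl u₁ u₂ B x
      + ((A 0 0 - 1) * sympForm m F (pl u₁ u₂ B x) u₂ + A 0 1 * sympForm m F u₁ (pl u₁ u₂ B x)) • u₁
      + (A 1 0 * sympForm m F (pl u₁ u₂ B x) u₂
        + (A 1 1 - 1) * sympForm m F u₁ (pl u₁ u₂ B x)) • u₂ := rfl
  rw [e3, e1, e2]
  unfold pl
  simp only [Matrix.mul_apply, Fin.sum_univ_two]
  module

/-- everything in the closure of a set of `SL₂`-elements realised in `M` on the plane is realised in `M` -/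
lemma pl_closure {u₁ u₂ : Fin m ⊕ Fin m → F} (h12 : sympForm m F u₁ u₂ = 1)
    {M : Subgroup (GL (Fin m ⊕ Fin m) F)} (S : Set (Matrix.SpecialLinearGroup (Fin 2) F))
    (hS : ∀ s ∈ S, ∃ g ∈ M, ∀ x, mv g x = pl u₁ u₂ (s : Matrix (Fin 2) (Fin 2) F) x) :
    ∀ s ∈ Subgroup.closure S, ∃ g ∈ M, ∀ x, mv g x = pl u₁ u₂ (s : Matrix (Fin 2) (Fin 2) F) x := by
  intro s hs
  induction hs using Subgroup.closure_induction with
  | mem s hs => exact hS s hs
  | one => exact ⟨1, M.one_mem, fun x => by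
      rw [mv_one, Matrix.SpecialLinearGroup.coe_one, pl_one]⟩
  | mul s t _ _ ihs iht =>
    obtain ⟨g, hg, hgx⟩ := ihs
    obtain ⟨g', hg', hgx'⟩ := iht
    refine ⟨g * g', M.mul_mem hg hg', fun x => ?_⟩
    rw [mv_mul, hgx', hgx, Matrix.SpecialLinearGroup.coe_mul, pl_mul h12]
  | inv s _ ihs =>
    obtain ⟨g, hg, hgx⟩ := ihs
    refine ⟨g⁻¹, M.inv_mem hg, fun x => ?_⟩
    have h1 : mv g (pl u₁ u₂ ((s⁻¹ : Matrix.SpecialLinearGroup (Fin 2) F) : Matrix (Fin 2) (Fin 2) F) x)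
        = x := by
      rw [hgx, ← pl_mul h12, ← Matrix.SpecialLinearGroup.coe_mul, mul_inv_cancel,
        Matrix.SpecialLinearGroup.coe_one, pl_one]
    rw [← h1, mv_inv_mv, h1]

/-- in a field extension of odd degree a square root of `-1` lies in the ground field -/
lemma mem_of_sq_eq_neg_one [Fintype F] (F₀ : Subfield F) (hodd : Odd (Module.finrank F₀ F)) {δ : F}
    (hδ : δ ^ 2 = -1) : δ ∈ F₀ := by
  set J : F →ₗ[F₀] F := LinearMap.mulLeft F₀ δ with hJ
  have hJJ : J * J = (-1 : F₀) • (1 : F →ₗ[F₀] F) := by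
    ext x
    simp only [hJ, Module.End.mul_apply, LinearMap.mulLeft_apply, LinearMap.smul_apply,
      Module.End.one_apply]
    rw [← mul_assoc, ← pow_two, hδ]
    simp
  have hdet : LinearMap.det J * LinearMap.det J = -1 := by
    rw [← map_mul, hJJ, LinearMap.det_smul, map_one, hodd.neg_one_pow, mul_one]
  set ε : F := ((LinearMap.det J : F₀) : F) with hε
  have hεε : ε * ε = -1 := by
    have := congrArg (Subtype.val) hdet
    simpa using this
  have h0 : (δ - ε) * (δ + ε) = 0 := by linear_combination hδ - hεε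
  rcases mul_eq_zero.mp h0 with h | h
  · have : δ = ε := sub_eq_zero.mp h
    rw [this]
    exact (LinearMap.det J : F₀).2
  · have : δ = -ε := eq_neg_of_add_eq_zero_left h
    rw [this]
    exact F₀.neg_mem (LinearMap.det J : F₀).2

/-- the key step: `f(a,w)² ∈ F₀` for rational `a` when `tvc w 1 ∈ M` (Dickson on the plane `⟨a,w⟩`) -/
lemma sq_mem [Fintype F] {F₀ : Subfield F} (h2 : (2 : F) ≠ 0) (hm : 3 ≤ m)
    {M : Subgroup (GL (Fin m ⊕ Fin m) F)} (h : Ctx F₀ M) (hodd : Odd (Module.finrank F₀ F))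
    {a w : Fin m ⊕ Fin m → F} (ha : RatV F₀ a) (htw : tvc w (1 : F) ∈ M) :
    (sympForm m F a w) ^ 2 ∈ F₀ := by
  set μ : F := sympForm m F a w with hμ
  by_cases hμ0 : μ = 0
  · rw [hμ0]
    simp
  have ha0 : a ≠ 0 := by
    intro h0
    apply hμ0
    rw [hμ, h0]
    have := sympForm_smul_left (0 : F) (0 : Fin m ⊕ Fin m → F) w
    rw [zero_smul, zero_mul] at this
    exact this
  have hta : tvc a (1 : F) ∈ M := h.le (tvc_mem_H0 ha F₀.one_mem)
  set u₁ : Fin m ⊕ Fin m → F := (-μ⁻¹) • w with hu₁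
  have hwa : sympForm m F w a = -μ := by rw [sympForm_swap]
  have h12 : sympForm m F u₁ a = 1 := by
    rw [hu₁, sympForm_smul_left, hwa]
    field_simp
  set δ : F := -μ ^ 2 with hδ
  have hδ0 : δ ≠ 0 := neg_ne_zero.mpr (pow_ne_zero 2 hμ0)
  have hS : ∀ s ∈ ({Cfsg.Agent.Lib.Helper13.lSL 1, Cfsg.Agent.Lib.Helper13.tSL δ} :
      Set (Matrix.SpecialLinearGroup (Fin 2) F)),
      ∃ g ∈ M, ∀ x, mv g x = pl u₁ a (s : Matrix (Fin 2) (Fin 2) F) x := by
    intro s hs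
    rcases hs with rfl | rfl
    · refine ⟨tvc a 1, hta, fun x => ?_⟩
      rw [tvc_mv, Cfsg.Agent.Lib.Helper13.lSL_coe]
      simp [pl]
    · refine ⟨tvc w 1, htw, fun x => ?_⟩
      rw [tvc_mv, Cfsg.Agent.Lib.Helper13.tSL_coe]
      have hxw : sympForm m F u₁ x = μ⁻¹ * sympForm m F x w := by
        rw [hu₁, sympForm_smul_left, sympForm_swap m w x]
        ring
      simp only [pl, Matrix.of_apply, Matrix.cons_val', Matrix.cons_val_zero, Matrix.cons_val_one,
        Matrix.empty_val', Matrix.cons_val_fin_one, sub_self, zero_mul, zero_add,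
        add_zero, zero_smul]
      rw [hxw, hu₁, smul_smul, hδ]
      congr 2
      field_simp
  have hcl := pl_closure h12 _ hS
  have hδF : δ ∈ F₀ := by
    rcases Cfsg.Agent.Lib.Helper9.Om7SLeaf.k1b_dickson h2 hδ0 with h1 | ⟨h1, -⟩
    · obtain ⟨g, hgM, hgx⟩ := hcl _ (h1 δ (Subfield.subset_closure rfl))
      have hg : g = tvc a δ := by
        apply gl_ext
        intro x
        rw [hgx, tvc_mv, Cfsg.Agent.Lib.Helper13.lSL_coe]
        simp [pl]
      rw [hg] at hgM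
      exact Cfsg.Agent.Lib.Helper27.SpSubLeaf.nrT hm h ha ha0 hgM
    · exact mem_of_sq_eq_neg_one F₀ hodd h1
  have : μ ^ 2 = -δ := by rw [hδ, neg_neg]
  rw [this]
  exact F₀.neg_mem hδF

/-- `q` odd, `m ≥ 3`, odd degree: every element of a proper overgroup of the standard subfield group is rational up to a
scalar. -/
theorem hard_case_odd [Fintype F] {F₀ : Subfield F} (h2 : (2 : F) ≠ 0) (hm : 3 ≤ m)
    {M : Subgroup (GL (Fin m ⊕ Fin m) F)} (h : Ctx F₀ M) (hr3 : 3 ≤ Module.finrank F₀ F)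
    {g : GL (Fin m ⊕ Fin m) F} (hg : g ∈ M) :
    g ∈ Cfsg.Geo.subfieldSubgroup F₀ (1 : GL (Fin m ⊕ Fin m) F) := by
  have hodd : Odd (Module.finrank F₀ F) := h.prime.odd_of_ne_two (by omega)
  have hHM : H0 m F₀ ≤ M := h.le
  have hMS : M ≤ spGL m F := h.le_sp
  set i : Fin m := ⟨0, by omega⟩ with hi
  set w : Fin m ⊕ Fin m → F := mv g (ee i) with hw
  have hte : tvc (ee i : Fin m ⊕ Fin m → F) (1 : F) ∈ M :=
    hHM (tvc_mem_H0 (ratV_ee i) F₀.one_mem)
  have htw : tvc w (1 : F) ∈ M := by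
    have := conj_tvc (hMS hg) (ee i : Fin m ⊕ Fin m → F) (1 : F)
    rw [hw]
    change tvc ((g : Matrix (Fin m ⊕ Fin m) (Fin m ⊕ Fin m) F) *ᵥ ee i) 1 ∈ M
    rw [← this]
    exact M.mul_mem (M.mul_mem hg hte) (M.inv_mem hg)
  have hsq : ∀ a : Fin m ⊕ Fin m → F, RatV F₀ a → (sympForm m F a w) ^ 2 ∈ F₀ :=
    fun a ha => sq_mem h2 hm h hodd ha htw
  have hcoord : ∀ k, ∃ b : Fin m ⊕ Fin m → F, RatV F₀ b ∧ sympForm m F b w = w k := by
    rintro (j | j)
    · exact ⟨ff j, ratV_ff j, B_left_ff j w⟩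
    · exact ⟨-ee j, ratV_neg (ratV_ee j), by rw [sympForm_neg_left, B_left_ee, neg_neg]⟩
  have h2F : (2 : F) ∈ F₀ := by
    have : (2 : F) = 1 + 1 := by norm_num
    rw [this]
    exact F₀.add_mem F₀.one_mem F₀.one_mem
  have hprod : ∀ k k', w k * w k' ∈ F₀ := by
    intro k k'
    obtain ⟨b, hb, hbk⟩ := hcoord k
    obtain ⟨b', hb', hbk'⟩ := hcoord k'
    have h1 := hsq b hb
    have h1' := hsq b' hb'
    have h3 := hsq (b + b') (ratV_add hb hb')
    rw [sympForm_add_left, hbk, hbk'] at h3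
    rw [hbk] at h1
    rw [hbk'] at h1'
    have h4 : 2 * (w k * w k') ∈ F₀ := by
      have : 2 * (w k * w k') = (w k + w k') ^ 2 - (w k) ^ 2 - (w k') ^ 2 := by ring
      rw [this]
      exact F₀.sub_mem (F₀.sub_mem h3 h1) h1'
    have : w k * w k' = (2 * (w k * w k')) * (2 : F)⁻¹ := by field_simp
    rw [this]
    exact F₀.mul_mem h4 (F₀.inv_mem h2F)
  have hw0 : w ≠ 0 := by
    intro h0
    apply ee_ne_zero (F := F) i
    have := mv_inv_mv g (ee i : Fin m ⊕ Fin m → F)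
    rw [← hw, h0, mv_zero] at this
    exact this.symm
  obtain ⟨k₀, hk₀⟩ : ∃ k, w k ≠ 0 := by
    by_contra hh
    push Not at hh
    exact hw0 (funext hh)
  set θ : F := w k₀ with hθ
  have hr' : RatV F₀ (θ⁻¹ • w) := by
    intro k
    have : (θ⁻¹ • w) k = (w k * θ) * (θ * θ)⁻¹ := by
      rw [Pi.smul_apply, smul_eq_mul]
      field_simp
    rw [this]
    exact F₀.mul_mem (hprod k k₀) (F₀.inv_mem (hprod k₀ k₀))
  exact Cfsg.Agent.S5650.mem_of_rat_point5650 hm h hg (ratV_ee i) (ee_ne_zero i) hr' (μ := θ)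
    (by rw [smul_smul, mul_inv_cancel₀ hk₀, one_smul])

/-- `q` odd, `3 ≤ m`: the standard subfield subgroup is maximal in `Sp_2m(F)`, for every prime degree. -/
theorem std_maximal_odd [Fintype F] (h2 : (2 : F) ≠ 0) (hm : 3 ≤ m) (F₀ : Subfield F)
    (hp : (Module.finrank F₀ F).Prime) : Cfsg.Geo.IsMaximalIn (spGL m F) (H0 m F₀) := by
  refine ⟨Cfsg.Agent.Lib.Helper2.SpSubLeaf.H0_lt F₀ (by omega) hp.two_le, fun M hHM hMS => ?_⟩
  by_cases hM : spGL m F ≤ M
  · right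
    exact le_antisymm hMS hM
  · left
    have hctx : Ctx F₀ M := ⟨hHM, hMS, hM, hp⟩
    apply le_antisymm _ hHM
    intro g hg
    refine Subgroup.mem_inf.mpr ⟨?_, hMS hg⟩
    by_cases hrn : Module.finrank F₀ F < 2 * m
    · exact Cfsg.Agent.S5650.easy_case5650 hm hctx hrn hg
    · exact hard_case_odd h2 hm hctx (by omega) hg

lemma two_ne_zero_of_odd [Fintype F] (hodd : Odd (Fintype.card F)) : (2 : F) ≠ 0 := by
  intro h2
  have hd : ringChar F ∣ 2 := (ringChar.spec F 2).mp (by exact_mod_cast h2)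
  have hp : (ringChar F).Prime := CharP.char_is_prime F (ringChar F)
  have hchar : ringChar F = 2 := (Nat.prime_dvd_prime_iff_eq hp Nat.prime_two).mp hd
  have := FiniteField.even_card_iff_char_two.mp hchar
  rw [← Nat.even_iff, ← Nat.not_odd_iff_even] at this
  exact this hodd

/-- `q` odd, `3 ≤ m`: every subfield subgroup of prime degree (arbitrary rational structure) is maximal in
`Sp_2m(q)` (the frozen shape of the subfield conjunct of the `Sp_2m` geometric rows). -/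
theorem subfield_max_odd [Fintype F] (hodd : Odd (Fintype.card F)) (hm : 3 ≤ m) (F₀ : Subfield F) (r : ℕ)
    (P : Matrix.GeneralLinearGroup (Fin m ⊕ Fin m) F) (ζ : F) (hr : r.Prime)
    (hcard : Fintype.card F = Nat.card F₀ ^ r) (hζ : ζ ≠ 0)
    (hP : Cfsg.Geo.IsFormRationalStructure (Cfsg.sympForm m F) F₀ ζ P) :
    Cfsg.Geo.IsMaximalIn (Cfsg.spGL m F) (Cfsg.Geo.subfieldSubgroup F₀ P ⊓ Cfsg.spGL m F) := by
  have hfr : Module.finrank F₀ F = r := Cfsg.Agent.S5650.finrank_eq_of_card5650 F₀ hcard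
  have hp : (Module.finrank F₀ F).Prime := by rw [hfr]; exact hr
  obtain ⟨P', hP'eq, hP'⟩ := Cfsg.Agent.Lib.Helper1.SpSubLeaf.exists_normalized F₀ P ζ hζ hP
  rw [← hP'eq]
  exact Cfsg.Agent.Lib.Helper2.SpSubLeaf.maximal_transfer F₀ P' ζ hζ hP'
    (std_maximal_odd (two_ne_zero_of_odd hodd) hm F₀ hp)

/-- ALL `q`, `3 ≤ m`: every subfield subgroup of prime degree is maximal in `Sp_2m(q)`
(= conjunct (8) of S5804 at `m = 3`; helper11's `subfield_max_even` for `q` even, `subfield_max_odd` for `q` odd). -/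
theorem subfield_max_all [Fintype F] (hm : 3 ≤ m) (F₀ : Subfield F) (r : ℕ)
    (P : Matrix.GeneralLinearGroup (Fin m ⊕ Fin m) F) (ζ : F) (hr : r.Prime)
    (hcard : Fintype.card F = Nat.card F₀ ^ r) (hζ : ζ ≠ 0)
    (hP : Cfsg.Geo.IsFormRationalStructure (Cfsg.sympForm m F) F₀ ζ P) :
    Cfsg.Geo.IsMaximalIn (Cfsg.spGL m F) (Cfsg.Geo.subfieldSubgroup F₀ P ⊓ Cfsg.spGL m F) := by
  by_cases hodd : Odd (Fintype.card F)
  · exact subfield_max_odd hodd hm F₀ r P ζ hr hcard hζ hP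
  · exact Cfsg.Agent.Lib.Helper11.SpSubEven.subfield_max_even hodd hm F₀ r P ζ hr hcard hζ hP

/-- conjunct (8) of S5804 verbatim. -/
theorem sp6_subfield_conjunct {F : Type*} [Field F] [Fintype F] :
    ∀ (F₀ : Subfield F) (r : ℕ) (P : Matrix.GeneralLinearGroup (Fin 3 ⊕ Fin 3) F) (ζ : F), r.Prime →
      Fintype.card F = Nat.card F₀ ^ r → ζ ≠ 0 →
      Cfsg.Geo.IsFormRationalStructure (Cfsg.sympForm 3 F) F₀ ζ P →
      Cfsg.Geo.IsMaximalIn (Cfsg.spGL 3 F) (Cfsg.Geo.subfieldSubgroup F₀ P ⊓ Cfsg.spGL 3 F) :=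
  fun F₀ r P ζ hr hcard hζ hP => subfield_max_all le_rfl F₀ r P ζ hr hcard hζ hP

end Cfsg.Agent.Lib.Helper1.SpSubOdd
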