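import Mathlib
import Cfsg.Agent.Lib.Helper25.SpTNDefs

/-!
helper1, S5704 (N2) leaves: small toolkit (components of vectors, `cB` against basis vectors,
stability of `W^⊥`, the action of `uB`).
-/

set_option autoImplicit false
set_option linter.unusedSectionVars false
set_option linter.unusedVariables false

namespace Cfsg.Agent.Lib.Helper1.SpTNLeaf
open Matrix QuadraticMap
open Cfsg.Agent.Lib.Helper25.Tens Cfsg.Agent.Lib.Helper25.TensLeaves Cfsg.Agent.Lib.Helper19.OSub
open Cfsg.Agent.Lib.Helper25.SpT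
open scoped Kronecker

variable {F : Type*} [Field F] {a b : ℕ} {Q : QuadraticForm F (Idx a b → F)}

/-- the `p`-component of a vector of `A ⊗ B` -/
def comp (p : Fin b) (v : Idx a b → F) : Fin a → F := fun i => v (i, p)

lemma comp_add (p : Fin b) (v w : Idx a b → F) : comp p (v + w) = comp p v + comp p w := rfl

lemma comp_smul (p : Fin b) (c : F) (v : Idx a b → F) : comp p (c • v) = c • comp p v := rfl

@[simp] lemma comp_zero (p : Fin b) : comp p (0 : Idx a b → F) = 0 := rfl

lemma comp_pt (p : Fin b) (x : Fin a → F) (y : Fin b → F) : comp p (pt x y) = y p • x := by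
  ext i
  simp only [comp, pt, Pi.smul_apply, smul_eq_mul, mul_comm]

lemma comp_pt_single (p q : Fin b) (x : Fin a → F) :
    comp p (pt x (Pi.single q (1 : F))) = if p = q then x else 0 := by
  rw [comp_pt, Pi.single_apply]
  split_ifs <;> simp

lemma comp_mulVec_pt (X : Matrix (Idx a b) (Idx a b) F) (x : Fin a → F) (q p : Fin b) :
    comp p (X *ᵥ pt x (Pi.single q (1 : F))) = blk X p q *ᵥ x := by
  ext i
  exact Cfsg.Agent.Lib.Helper25.TensLeaf.mulVec_pt_single_right X x q p i

/-- a matrix is determined by its action -/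
lemma mat_ext_mulVec {X Y : Matrix (Fin a) (Fin a) F} (h : ∀ x : Fin a → F, X *ᵥ x = Y *ᵥ x) :
    X = Y := by
  ext i i'
  have := congrFun (h (Pi.single i' 1)) i
  simpa using this

lemma eq_sum_comp (v : Idx a b → F) : v = ∑ p : Fin b, pt (comp p v) (Pi.single p (1 : F)) := by
  ext ⟨i, l⟩
  simp only [Finset.sum_apply, pt, comp, Pi.single_apply]
  rw [Finset.sum_eq_single l]
  · simp
  · intro p _ hp; simp [Ne.symm hp]
  · simp

/-- `cB` against a basis vector picks the partner component -/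
lemma cB_single (hb : Even b) (m : Fin b) (v : Idx a b → F) :
    cB (Pi.single m (1 : F)) v = (Jm b (pr hb m) m : F) • comp (pr hb m) v := by
  ext i
  simp only [cB, ct, sfv, comp, Pi.smul_apply, smul_eq_mul]
  rw [Finset.sum_eq_single (pr hb m)]
  · have : ((Jm b : Matrix (Fin b) (Fin b) F) *ᵥ Pi.single m 1) (pr hb m) = Jm b (pr hb m) m := by
      simp
    rw [this, mul_comm]
  · intro l _ hl
    have : ((Jm b : Matrix (Fin b) (Fin b) F) *ᵥ Pi.single m 1) l = Jm b l m := by simp
    rw [this, Jm_eq_zero_of_ne hb l m, mul_zero]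
    intro e
    apply hl
    rw [e, pr_pr]
  · simp

lemma pr_o (hb : Even b) (o o' : Fin b) (ho : o.val = 0) (ho' : o'.val = 1) : pr hb o = o' := by
  apply Fin.ext
  rw [pr_val_even hb o (by omega), ho, ho']

lemma pr_o' (hb : Even b) (o o' : Fin b) (ho : o.val = 0) (ho' : o'.val = 1) : pr hb o' = o := by
  rw [← pr_o hb o o' ho ho', pr_pr]

lemma o_ne_o' (o o' : Fin b) (ho : o.val = 0) (ho' : o'.val = 1) : o ≠ o' := by
  intro e
  rw [e] at ho
  omega

lemma Jm_o_o' (o o' : Fin b) (ho : o.val = 0) (ho' : o'.val = 1) :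
    (Jm b : Matrix (Fin b) (Fin b) F) o o' = 1 := by
  rw [Jm_apply, if_pos]
  omega

lemma Jm_o'_o (o o' : Fin b) (ho : o.val = 0) (ho' : o'.val = 1) :
    (Jm b : Matrix (Fin b) (Fin b) F) o' o = -1 := by
  rw [Jm_swap, Jm_o_o' o o' ho ho']

/-- `J l o = 0` for `l ≠ o'` -/
lemma Jm_o_right (hb : Even b) (o o' : Fin b) (ho : o.val = 0) (ho' : o'.val = 1) (l : Fin b)
    (hl : l ≠ o') : (Jm b : Matrix (Fin b) (Fin b) F) l o = 0 := by
  apply Jm_eq_zero_of_ne hb
  intro e
  apply hl
  rw [← pr_o hb o o' ho ho', e, pr_pr]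

lemma Jm_o_left (hb : Even b) (o o' : Fin b) (ho : o.val = 0) (ho' : o'.val = 1) (l : Fin b)
    (hl : l ≠ o') : (Jm b : Matrix (Fin b) (Fin b) F) o l = 0 := by
  rw [Jm_swap, Jm_o_right hb o o' ho ho' l hl, neg_zero]

/-- the `o'`-component is detected by `cB e_o` -/
lemma cB_o (hb : Even b) (o o' : Fin b) (ho : o.val = 0) (ho' : o'.val = 1) (v : Idx a b → F) :
    cB (Pi.single o (1 : F)) v = - comp o' v := by
  rw [cB_single hb, pr_o hb o o' ho ho', Jm_o'_o o o' ho ho', neg_one_smul]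

/-- nondegeneracy of `sf` in the form used below -/
lemma eq_zero_of_sf {n : ℕ} (hn : Even n) (x : Fin n → F) (h : ∀ y : Fin n → F, sf x y = 0) :
    x = 0 := by
  by_contra hx
  obtain ⟨y, hy⟩ := exists_sf_ne_zero hn hx
  exact hy (h y)

/-- `W^⊥` is stable under an isometry stabilising `W = A ⊗ e_o` -/
lemma cB_mv_eq_zero (h : Ctx a b Q) (o : Fin b) (g : GL (Idx a b) F)
    (hg : g ∈ Cfsg.isometryGroup F ⇑Q) (X : Matrix (Fin a) (Fin a) F)
    (hgo' : ∀ x : Fin a → F, mv g⁻¹ (pt x (Pi.single o 1)) = pt (X *ᵥ x) (Pi.single o 1))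
    (v : Idx a b → F) (hv : cB (Pi.single o (1 : F)) v = 0) :
    cB (Pi.single o (1 : F)) (mv g v) = 0 := by
  apply eq_zero_of_sf h.ea
  intro x'
  rw [← polar_pt_left h]
  have e := iso_polar hg (mv g⁻¹ (pt x' (Pi.single o 1))) v
  rw [mv_mv_inv] at e
  rw [e, hgo', polar_pt_left h, hv, sf_zero_left]

/-- the action of `uB o z` on all vectors -/
lemma mv_uB (o : Fin b) (z : Fin b → F) (hz : sf z (Pi.single o (1 : F)) = 0) (v : Idx a b → F) :
    mv (uB o z : GL (Idx a b) F) v =
      v + pt (cB (Pi.single o (1 : F)) v) z + pt (cB z v) (Pi.single o (1 : F)) := by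
  revert v
  apply pt_induction
  · simp
  · intro v w hv hw
    rw [mv_add, hv, hw, cB_add, cB_add, pt_add_left, pt_add_left]
    abel
  · intro x y
    rw [mv_uB_pt o z hz, cB_pt, cB_pt, pt_add_right, pt_add_right, pt_smul_right, pt_smul_right,
      pt_smul_left, pt_smul_left]

end Cfsg.Agent.Lib.Helper1.SpTNLeaf
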