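import Mathlib
import Cfsg.Agent.Lib.Helper25.SpTK
import Cfsg.Agent.Lib.Helper25.TensS
import Cfsg.Agent.Lib.Helper19.SpTNDefs
import Cfsg.Agent.Lib.Helper23.SpTGS
import Cfsg.Agent.Lib.Helper27.SpTNAlg
import Cfsg.Agent.Lib.Helper1.SpTNTools

/-!
helper1, S5704 (N1) leaf A2 `lemmaA2` (Lemma A over `F₂`).
-/

set_option autoImplicit false
set_option linter.unusedSectionVars false
set_option linter.unusedVariables false

namespace Cfsg.Agent.Lib.Helper1.SpTNLeaf
open Matrix QuadraticMap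
open Cfsg.Agent.Lib.Helper25.Tens Cfsg.Agent.Lib.Helper25.TensLeaves Cfsg.Agent.Lib.Helper19.OSub
open Cfsg.Agent.Lib.Helper25.SpT Cfsg.Agent.Lib.Helper19.SpTN
open Cfsg.Agent.Lib.Helper23.SpTGLeaf (sfL sfL_apply exists_ker_not_mem)
open scoped Kronecker commutatorElement

variable {F : Type*} [Field F] {a b : ℕ}

/-- every functional is `sf p ·` -/
lemma exists_sf_repr {n : ℕ} (hn : Even n) (f : (Fin n → F) →ₗ[F] F) :
    ∃ p : Fin n → F, ∀ v, f v = sf p v := by
  let Φ : (Fin n → F) →ₗ[F] Module.Dual F (Fin n → F) :=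
    { toFun := fun p => sfL p
      map_add' := by
        intro p p'
        ext w
        simp [sf_add_left]
      map_smul' := by
        intro c p
        ext w
        simp [sf_smul_left] }
  have hinj : Function.Injective Φ := by
    rw [← LinearMap.ker_eq_bot, LinearMap.ker_eq_bot']
    intro p hp
    apply eq_zero_of_sf hn
    intro y
    have := LinearMap.congr_fun hp y
    exact this
  have hsurj : Function.Surjective Φ :=
    (LinearMap.injective_iff_surjective_of_finrank_eq_finrank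
      (Subspace.dual_finrank_eq).symm).1 hinj
  obtain ⟨p, hp⟩ := hsurj f
  refine ⟨p, fun v => ?_⟩
  rw [← hp]
  rfl

/-- double perp -/
lemma mem_span_pair_of_perp {n : ℕ} (hn : Even n) (x z p : Fin n → F)
    (h : ∀ w, sf x w = 0 → sf z w = 0 → sf p w = 0) : ∃ α β : F, p = α • x + β • z := by
  have hker : ⨅ i, LinearMap.ker ((![sfL x, sfL z] : Fin 2 → (Fin n → F) →ₗ[F] F) i) ≤
      LinearMap.ker (sfL p) := by
    intro w hw
    rw [Submodule.mem_iInf] at hw
    have hw0 := hw 0
    have hw1 := hw 1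
    simp only [Matrix.cons_val_zero, Matrix.cons_val_one, LinearMap.mem_ker, sfL_apply] at hw0 hw1
    rw [LinearMap.mem_ker, sfL_apply]
    exact h w hw0 hw1
  have hmem := mem_span_of_iInf_ker_le_ker hker
  obtain ⟨c, hc⟩ := (Submodule.mem_span_range_iff_exists_fun F).1 hmem
  rw [Fin.sum_univ_two] at hc
  simp only [Matrix.cons_val_zero, Matrix.cons_val_one] at hc
  refine ⟨c 0, c 1, ?_⟩
  rw [← sub_eq_zero]
  apply eq_zero_of_sf hn
  intro w
  have := LinearMap.congr_fun hc w
  simp only [LinearMap.add_apply, LinearMap.smul_apply, sfL_apply, smul_eq_mul] at this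
  rw [sf_sub_left, sf_add_left, sf_smul_left, sf_smul_left, this, sub_self]

/-- conjugation of a rank one matrix by a symplectic transvection -/
lemma conj_r1 (w u v : Fin a → F) (c : F) :
    ((stv w c : GL (Fin a) F) : Matrix (Fin a) (Fin a) F) * r1 u v *
      ((stv w (-c) : GL (Fin a) F) : Matrix (Fin a) (Fin a) F) =
      r1 (((stv w c : GL (Fin a) F) : Matrix (Fin a) (Fin a) F) *ᵥ u)
        (((stv w c : GL (Fin a) F) : Matrix (Fin a) (Fin a) F) *ᵥ v) := by
  apply mat_ext_mulVec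
  intro y
  simp only [← Matrix.mulVec_mulVec, r1_mulVec, Matrix.mulVec_smul]
  congr 1
  have e := stv_sf w c (((stv w (-c) : GL (Fin a) F) : Matrix (Fin a) (Fin a) F) *ᵥ y) v
  rw [← e]
  congr 1
  rw [Matrix.mulVec_mulVec, ← Units.val_mul, ← stv_inv, mul_inv_cancel, Units.val_one,
    Matrix.one_mulVec]

lemma r1_add_right (u v v' : Fin a → F) : r1 u (v + v') = r1 u v + r1 u v' := by
  apply mat_ext_mulVec
  intro y
  simp only [Matrix.add_mulVec, r1_mulVec, sf_add_right, add_smul]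

lemma r1_add_left (u u' v : Fin a → F) : r1 (u + u') v = r1 u v + r1 u' v := by
  apply mat_ext_mulVec
  intro y
  simp only [Matrix.add_mulVec, r1_mulVec, smul_add]

lemma r1_smul_right (c : F) (u v : Fin a → F) : r1 u (c • v) = c • r1 u v := by
  apply mat_ext_mulVec
  intro y
  simp only [Matrix.smul_mulVec, r1_mulVec, sf_smul_right, mul_smul]

lemma r1_smul_left (c : F) (u v : Fin a → F) : r1 (c • u) v = c • r1 u v := by
  apply mat_ext_mulVec
  intro y
  simp only [Matrix.smul_mulVec, r1_mulVec, smul_comm c]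

/-- the first difference `τ_x θ τ_x⁻¹ - θ` -/
lemma gamma_eq (x p : Fin a → F) (θ : Matrix (Fin a) (Fin a) F)
    (hp : ∀ v, sf (θ *ᵥ v) x = sf v p) :
    ((stv x 1 : GL (Fin a) F) : Matrix (Fin a) (Fin a) F) * θ *
      ((stv x (-1) : GL (Fin a) F) : Matrix (Fin a) (Fin a) F) - θ =
      r1 x p - r1 (θ *ᵥ x + sf (θ *ᵥ x) x • x) x := by
  apply mat_ext_mulVec
  intro y
  simp only [← Matrix.mulVec_mulVec, Matrix.sub_mulVec, r1_mulVec, stv_mulVec, Matrix.mulVec_add,
    Matrix.mulVec_smul, hp]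
  module

lemma eq_zero_or_one_of_card [Fintype F] (hF : Fintype.card F = 2) (c : F) : c = 0 ∨ c = 1 := by
  by_contra hcon
  push Not at hcon
  have : 2 < Fintype.card F :=
    Fintype.two_lt_card_iff.2 ⟨0, 1, c, zero_ne_one, Ne.symm hcon.1, Ne.symm hcon.2⟩
  omega

/-- (A2) Lemma A over `F₂` -/
theorem lemmaA2 [Fintype F] (hF : Fintype.card F = 2) (ea : Even a) (ha : 4 ≤ a)
    (S : Set (Matrix (Fin a) (Fin a) F))
    (hadd : ∀ θ ∈ S, ∀ θ' ∈ S, θ + θ' ∈ S) (hneg : ∀ θ ∈ S, -θ ∈ S)
    (hconj : ∀ (x : Fin a → F) (c : F), ∀ θ ∈ S,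
      ((stv x c : GL (Fin a) F) : Matrix (Fin a) (Fin a) F) * θ *
        ((stv x (-c) : GL (Fin a) F) : Matrix (Fin a) (Fin a) F) ∈ S)
    (θ : Matrix (Fin a) (Fin a) F) (hθ : θ ∈ S) (hns : ¬ IsScalarMat θ) :
    (∃ x₀ x₁ : Fin a → F, x₀ ≠ 0 ∧ x₁ ≠ 0 ∧ r1 x₀ x₁ ∈ S) ∨
    (∃ x₀ x₁ : Fin a → F, LinearIndependent F ![x₀, x₁] ∧ sf x₀ x₁ = 0 ∧
      r1 x₀ x₁ - r1 x₁ x₀ ∈ S) := by
  -- the difference operator
  have hdiff : ∀ (w : Fin a → F), ∀ η ∈ S,
      ((stv w 1 : GL (Fin a) F) : Matrix (Fin a) (Fin a) F) * η *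
        ((stv w (-1) : GL (Fin a) F) : Matrix (Fin a) (Fin a) F) - η ∈ S := by
    intro w η hη
    rw [sub_eq_add_neg]
    exact hadd _ (hconj w 1 η hη) _ (hneg η hη)
  obtain ⟨x, hx⟩ := Cfsg.Agent.Lib.Helper27.SpTNLeaf.exists_not_eigen θ hns
  have hx0 : x ≠ 0 := by
    have := hx.ne_zero 0
    simpa using this
  have hxθ : ∀ c : F, θ *ᵥ x ≠ c • x := by
    intro c e
    rw [LinearIndependent.pair_iff] at hx
    have := hx c (-1) (by rw [e]; module)
    exact absurd this.2 (by simp)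
  -- the adjoint vector
  obtain ⟨p', hp'⟩ := exists_sf_repr ea
    ({ toFun := fun v => sf (θ *ᵥ v) x
       map_add' := by intro v v'; simp only [Matrix.mulVec_add, sf_add_left]
       map_smul' := by
        intro c v
        simp only [Matrix.mulVec_smul, sf_smul_left, RingHom.id_apply, smul_eq_mul] } :
      (Fin a → F) →ₗ[F] F)
  obtain ⟨p, hp⟩ : ∃ p : Fin a → F, ∀ v, sf (θ *ᵥ v) x = sf v p := by
    refine ⟨-p', fun v => ?_⟩
    have := hp' v
    rw [sf_neg_right, ← sf_skew]
    exact this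
  obtain ⟨s, hs⟩ : ∃ s : F, s = sf (θ *ᵥ x) x := ⟨_, rfl⟩
  obtain ⟨z, hz⟩ : ∃ z : Fin a → F, z = θ *ᵥ x + s • x := ⟨_, rfl⟩
  have hγ : r1 x p - r1 z x ∈ S := by
    rw [hz, hs, ← gamma_eq x p θ hp]
    exact hdiff x θ hθ
  have hxz : ∀ c : F, z ≠ c • x := by
    intro c e
    apply hxθ (c - s)
    rw [hz] at e
    rw [sub_smul, ← e]
    abel
  by_cases h1 : ∃ l : F, p = l • x
  · -- case (i)
    obtain ⟨l, hl⟩ := h1
    left
    refine ⟨l • x - z, x, ?_, hx0, ?_⟩
    · intro e
      exact hxz l (sub_eq_zero.1 e).symm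
    · have : r1 (l • x - z) x = r1 x p - r1 z x := by
        rw [hl, r1_smul_right, sub_eq_add_neg, r1_add_left, r1_smul_left, ← neg_one_smul F z,
          r1_smul_left]
        module
      rw [this]
      exact hγ
  · by_cases h2 : ∀ w, sf x w = 0 → sf z w = 0 → sf p w = 0
    · -- case (iii)
      obtain ⟨α, β, hαβ⟩ := mem_span_pair_of_perp ea x z p h2
      have hβ : β = 1 := by
        rcases eq_zero_or_one_of_card hF β with e | e
        · exfalso
          apply h1
          refine ⟨α, ?_⟩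
          rw [hαβ, e, zero_smul, add_zero]
        · exact e
      -- `w₀` with `sf x w₀ = 0`, `sf z w₀ = 1`
      have hex : ∃ w₀, sf x w₀ = 0 ∧ sf z w₀ ≠ 0 := by
        by_contra hcon
        push Not at hcon
        obtain ⟨α', β', e⟩ := mem_span_pair_of_perp ea x x z (fun w hw _ => hcon w hw)
        apply hxz (α' + β')
        rw [e, add_smul]
      obtain ⟨w₀', hw₀x', hw₀z'⟩ := hex
      obtain ⟨w₀, hw₀x, hw₀z⟩ : ∃ w₀, sf x w₀ = 0 ∧ sf z w₀ = 1 := by
        refine ⟨(sf z w₀')⁻¹ • w₀', ?_, ?_⟩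
        · rw [sf_smul_right, hw₀x', mul_zero]
        · rw [sf_smul_right, inv_mul_cancel₀ hw₀z']
      -- `u ⊥ x, z` outside `F x`
      have hU : Module.finrank F (Submodule.span F {x}) + 2 < a := by
        rw [finrank_span_singleton hx0]
        omega
      obtain ⟨u, hux, huz, hu⟩ := exists_ker_not_mem (sfL x) (sfL z) _ hU
      rw [sfL_apply] at hux huz
      -- the vector `w`
      obtain ⟨w, hwx, hwz, hw⟩ : ∃ w, sf x w = 0 ∧ sf z w = 1 ∧ w ∉ Submodule.span F {x} := by
        by_cases hw₀ : w₀ ∈ Submodule.span F {x}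
        · refine ⟨w₀ + u, ?_, ?_, ?_⟩
          · rw [sf_add_right, hw₀x, hux, add_zero]
          · rw [sf_add_right, hw₀z, huz, add_zero]
          · intro hmem
            apply hu
            have := Submodule.sub_mem _ hmem hw₀
            rwa [add_sub_cancel_left] at this
        · exact ⟨w₀, hw₀x, hw₀z, hw₀⟩
      right
      refine ⟨x, w, ?_, hwx, ?_⟩
      · rw [LinearIndependent.pair_iff' hx0]
        intro c e
        apply hw
        rw [← e]
        exact Submodule.smul_mem _ _ (Submodule.mem_span_singleton_self x)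
      · have e1 : ((stv w 1 : GL (Fin a) F) : Matrix (Fin a) (Fin a) F) *ᵥ x = x := by
          rw [stv_mulVec, hwx, mul_zero, zero_smul, add_zero]
        have e2 : ((stv w 1 : GL (Fin a) F) : Matrix (Fin a) (Fin a) F) *ᵥ z = z + w := by
          rw [stv_mulVec, hwz, mul_one, one_smul]
        have e3 : ((stv w 1 : GL (Fin a) F) : Matrix (Fin a) (Fin a) F) *ᵥ p = p + w := by
          rw [hαβ, hβ, Matrix.mulVec_add, Matrix.mulVec_smul, Matrix.mulVec_smul, e1, e2]
          module
        have := hdiff w _ hγ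
        rw [Matrix.mul_sub, Matrix.sub_mul, conj_r1, conj_r1, e1, e2, e3, r1_add_right,
          r1_add_left] at this
        have e4 : r1 x p + r1 x w - (r1 z x + r1 w x) - (r1 x p - r1 z x) = r1 x w - r1 w x := by
          abel
        rw [e4] at this
        exact this
    · -- case (ii)
      push Not at h2
      obtain ⟨w, hwx, hwz, hwp⟩ := h2
      left
      refine ⟨x, sf p w • w, hx0, ?_, ?_⟩
      · intro e
        rcases smul_eq_zero.1 e with e' | e'
        · exact hwp e'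
        · apply hwp
          rw [e', sf_zero_right]
      · have e1 : ((stv w 1 : GL (Fin a) F) : Matrix (Fin a) (Fin a) F) *ᵥ x = x := by
          rw [stv_mulVec, hwx, mul_zero, zero_smul, add_zero]
        have e2 : ((stv w 1 : GL (Fin a) F) : Matrix (Fin a) (Fin a) F) *ᵥ z = z := by
          rw [stv_mulVec, hwz, mul_zero, zero_smul, add_zero]
        have e3 : ((stv w 1 : GL (Fin a) F) : Matrix (Fin a) (Fin a) F) *ᵥ p = p + sf p w • w := by
          rw [stv_mulVec, one_mul]
        have := hdiff w _ hγ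
        rw [Matrix.mul_sub, Matrix.sub_mul, conj_r1, conj_r1, e1, e2, e3, r1_add_right] at this
        have e4 : r1 x p + r1 x (sf p w • w) - r1 z x - (r1 x p - r1 z x) = r1 x (sf p w • w) := by
          abel
        rw [e4] at this
        exact this

end Cfsg.Agent.Lib.Helper1.SpTNLeaf
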