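import Mathlib
import Cfsg.Agent.Lib.Helper25.SpTK
import Cfsg.Agent.Lib.Helper25.TensS
import Cfsg.Agent.Lib.Helper19.SpTNDefs

/-!
helper1, S5704 (N1) leaf A4 `four_le_of_ti_pair`.
-/

set_option autoImplicit false
set_option linter.unusedSectionVars false
set_option linter.unusedVariables false

namespace Cfsg.Agent.Lib.Helper1.SpTNLeaf
open Matrix QuadraticMap
open Cfsg.Agent.Lib.Helper25.Tens Cfsg.Agent.Lib.Helper25.TensLeaves Cfsg.Agent.Lib.Helper19.OSub
open Cfsg.Agent.Lib.Helper25.SpT Cfsg.Agent.Lib.Helper19.SpTN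
open scoped Kronecker commutatorElement

variable {F : Type*} [Field F] {a b : ℕ}

/-- (A4) a totally isotropic pair needs `a ≥ 4` -/
theorem four_le_of_ti_pair (ea : Even a) {x₀ x₁ : Fin a → F}
    (hind : LinearIndependent F ![x₀, x₁]) (hsf : sf x₀ x₁ = 0) : 4 ≤ a := by
  have h2 : 2 ≤ a := by
    have := hind.fintype_card_le_finrank
    simpa using this
  by_contra hlt
  have ha : a = 2 := by
    obtain ⟨j, hj⟩ := ea
    omega
  have hspan : Submodule.span F (Set.range ![x₀, x₁]) = ⊤ := by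
    apply hind.span_eq_top_of_card_eq_finrank'
    simp [ha]
  have hx₀ : x₀ ≠ 0 := by
    have := hind.ne_zero 0
    simpa using this
  obtain ⟨y, hy⟩ := exists_sf_ne_zero ea hx₀
  apply hy
  have hy' : y ∈ Submodule.span F (Set.range ![x₀, x₁]) := by
    rw [hspan]; exact Submodule.mem_top
  have hr : Set.range ![x₀, x₁] = {x₀, x₁} := by
    ext v
    simp only [Set.mem_range, Set.mem_insert_iff, Set.mem_singleton_iff]
    constructor
    · rintro ⟨i, rfl⟩
      fin_cases i
      · left; rfl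
      · right; rfl
    · rintro (rfl | rfl)
      · exact ⟨0, rfl⟩
      · exact ⟨1, rfl⟩
  rw [hr, Submodule.mem_span_pair] at hy'
  obtain ⟨c, d, rfl⟩ := hy'
  rw [sf_add_right, sf_smul_right, sf_smul_right, sf_self, hsf, mul_zero, mul_zero, add_zero]

end Cfsg.Agent.Lib.Helper1.SpTNLeaf
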