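import Mathlib
import Cfsg.Agent.Lib.Helper25.SpTK
import Cfsg.Agent.Lib.Helper25.TensS
import Cfsg.Agent.Lib.Helper19.SpTNDefs

/-!
helper1, S5704 (N1) leaves B3 `exists_torus` and B3' `SB_smul`.
-/

set_option autoImplicit false
set_option linter.unusedSectionVars false
set_option linter.unusedVariables false

namespace Cfsg.Agent.Lib.Helper1.SpTNLeaf
open Matrix QuadraticMap
open Cfsg.Agent.Lib.Helper25.Tens Cfsg.Agent.Lib.Helper25.TensLeaves Cfsg.Agent.Lib.Helper19.OSub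
open Cfsg.Agent.Lib.Helper25.SpT Cfsg.Agent.Lib.Helper19.SpTN
open scoped Kronecker commutatorElement

variable {F : Type*} [Field F] [Fintype F] {a b : ℕ} {Q : QuadraticForm F (Idx a b → F)}
  {M : Subgroup (GL (Idx a b) F)}

/-- (B3) the torus `1 ⊗ diag(t, t⁻¹)` on `⟨e_o, e_o'⟩` as a product of `kB`'s -/
theorem exists_torus (h : MCtx a b Q M) (o o' : Fin b) (ho : o.val = 0) (ho' : o'.val = 1)
    (t : F) (ht : t ≠ 0) :
    ∃ T ∈ M, (∀ x : Fin a → F, mv T (pt x (Pi.single o 1)) = t • pt x (Pi.single o 1)) ∧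
      ∀ l : Fin b, l ≠ o → l ≠ o' → ∀ x : Fin a → F,
        mv T (pt x (Pi.single l 1)) = pt x (Pi.single l 1) := by
  have hb := h.eb
  have hoo' : sf (Pi.single o (1 : F) : Fin b → F) (Pi.single o' (1 : F)) = 1 := sf_o_o' o o' ho ho'
  have ho'o : sf (Pi.single o' (1 : F) : Fin b → F) (Pi.single o (1 : F)) = -1 := by
    rw [sf_skew, hoo']
  refine ⟨kB (Pi.single o 1) (-t) * kB (Pi.single o' 1) (-t⁻¹) * kB (Pi.single o 1) (-t) *
    kB (Pi.single o 1) 1 * kB (Pi.single o' 1) 1 * kB (Pi.single o 1) 1, ?_, ?_, ?_⟩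
  · exact M.mul_mem (M.mul_mem (M.mul_mem (M.mul_mem (M.mul_mem (kB_mem h _ _) (kB_mem h _ _))
      (kB_mem h _ _)) (kB_mem h _ _)) (kB_mem h _ _)) (kB_mem h _ _)
  · intro x
    simp only [mv_mul, mv_kB_pt]
    rw [← pt_smul_right]
    congr 1
    simp only [sf_add_left, sf_smul_left, sf_self, hoo', ho'o]
    ext k
    simp only [Pi.add_apply, Pi.smul_apply, smul_eq_mul]
    field_simp
    ring
  · intro l hl hl' x
    have h1 : sf (Pi.single l (1 : F) : Fin b → F) (Pi.single o (1 : F)) = 0 := by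
      apply sf_single_eq_zero hb
      intro e
      apply hl'
      rw [← pr_o hb o o' ho ho', e, pr_pr]
    have h2 : sf (Pi.single l (1 : F) : Fin b → F) (Pi.single o' (1 : F)) = 0 := by
      apply sf_single_eq_zero hb
      intro e
      apply hl
      rw [← pr_o' hb o o' ho ho', e, pr_pr]
    simp only [mv_mul, mv_kB_pt, h1, h2, mul_zero, zero_smul, add_zero]

/-- (B3') `SB` is closed under scalars -/
theorem SB_smul (h : MCtx a b Q M) (o o' : Fin b) (ho : o.val = 0) (ho' : o'.val = 1) (l : Fin b)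
    (t : F) (ht : t ≠ 0) {θ : Matrix (Fin a) (Fin a) F} (hθ : θ ∈ SB o o' l M) :
    t • θ ∈ SB o o' l M := by
  obtain ⟨g, hgM, hg⟩ := hθ
  obtain ⟨T, hTM, hTo, hTl⟩ := exists_torus h o o' ho ho' t ht
  have hTio : ∀ x : Fin a → F, mv T⁻¹ (pt x (Pi.single o 1)) = t⁻¹ • pt x (Pi.single o 1) := by
    intro x
    have e : mv T (t⁻¹ • pt x (Pi.single o 1)) = pt x (Pi.single o 1) := by
      rw [mv_smul, hTo, smul_smul, inv_mul_cancel₀ ht, one_smul]
    calc mv T⁻¹ (pt x (Pi.single o 1)) = mv T⁻¹ (mv T (t⁻¹ • pt x (Pi.single o 1))) := by rw [e]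
      _ = t⁻¹ • pt x (Pi.single o 1) := mv_inv_mv T _
  have hTil : ∀ k : Fin b, k ≠ o → k ≠ o' → ∀ x : Fin a → F,
      mv T⁻¹ (pt x (Pi.single k 1)) = pt x (Pi.single k 1) := by
    intro k hk hk' x
    have e := hTl k hk hk' x
    calc mv T⁻¹ (pt x (Pi.single k 1)) = mv T⁻¹ (mv T (pt x (Pi.single k 1))) := by rw [e]
      _ = pt x (Pi.single k 1) := mv_inv_mv T _
  refine ⟨T * g * T⁻¹, M.mul_mem (M.mul_mem hTM hgM) (M.inv_mem hTM), ?_, ?_⟩
  · intro x
    rw [mv_mul, mv_mul, hTio, mv_smul, hg.fixW, mv_smul, hTo, smul_smul, inv_mul_cancel₀ ht,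
      one_smul]
  · intro k hk hk' x
    rw [mv_mul, mv_mul, hTil k hk hk', hg.act k hk hk', mv_add, hTl k hk hk', hTo]
    congr 1
    rw [← pt_smul_left]
    congr 1
    unfold sgl
    split_ifs
    · rw [Matrix.smul_mulVec]
    · simp

end Cfsg.Agent.Lib.Helper1.SpTNLeaf
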