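import Mathlib
import Cfsg.Agent.Lib.Helper1.SpTNTools

/-!
helper1, S5704 (N2) leaf N2c `rigid_scalars`.
-/

set_option autoImplicit false
set_option linter.unusedSectionVars false
set_option linter.unusedVariables false

namespace Cfsg.Agent.Lib.Helper1.SpTNLeaf
open Matrix QuadraticMap
open Cfsg.Agent.Lib.Helper25.Tens Cfsg.Agent.Lib.Helper25.TensLeaves Cfsg.Agent.Lib.Helper19.OSub
open Cfsg.Agent.Lib.Helper25.SpT
open scoped Kronecker

variable {F : Type*} [Field F] [Fintype F] {a b : ℕ} {Q : QuadraticForm F (Idx a b → F)}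
  {M : Subgroup (GL (Idx a b) F)}

/-- the conjugate `g * uB o e_m * g⁻¹` on the columns `q ≠ o'` -/
lemma conj_uB_col (h : Ctx a b Q) (o o' : Fin b) (ho : o.val = 0) (ho' : o'.val = 1)
    (g : GL (Idx a b) F) (hg : g ∈ Cfsg.isometryGroup F ⇑Q) (h₁ : GL (Fin a) F)
    (hgo : ∀ x : Fin a → F, mv g (pt x (Pi.single o 1)) =
      pt ((h₁ : Matrix (Fin a) (Fin a) F) *ᵥ x) (Pi.single o 1))
    (m : Fin b) (hmo' : m ≠ o') (q : Fin b) (hq : q ≠ o') (x : Fin a → F) :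
    mv (g * uB o (Pi.single m 1) * g⁻¹ : GL (Idx a b) F) (pt x (Pi.single q 1)) =
      pt x (Pi.single q 1) +
        pt ((h₁ : Matrix (Fin a) (Fin a) F) *ᵥ ((Jm b (pr h.eb m) m : F) •
          (blk ((g⁻¹ : GL (Idx a b) F) : Matrix (Idx a b) (Idx a b) F) (pr h.eb m) q *ᵥ x)))
          (Pi.single o 1) := by
  have hz : sf (Pi.single m (1 : F)) (Pi.single o (1 : F)) = 0 := by
    rw [sf_single_single, Jm_o_right h.eb o o' ho ho' m hmo']
  have hg' : g⁻¹ ∈ Cfsg.isometryGroup F ⇑Q := (Cfsg.isometryGroup F ⇑Q).inv_mem hg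
  have hw : cB (Pi.single o (1 : F)) (mv g⁻¹ (pt x (Pi.single q 1))) = 0 := by
    apply cB_mv_eq_zero h o g⁻¹ hg' (h₁ : Matrix (Fin a) (Fin a) F)
    · intro x
      rw [inv_inv]
      exact hgo x
    · rw [cB_pt, sf_single_single, Jm_o_right h.eb o o' ho ho' q hq, zero_smul]
  rw [mv_mul, mv_mul, mv_uB o _ hz, hw, pt_zero_left, add_zero, mv_add, mv_mv_inv, hgo,
    cB_single h.eb, comp_mulVec_pt]

/-- the `(o',o')` block of the conjugate `g * uB o e_m * g⁻¹` -/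
lemma conj_uB_o' (h : Ctx a b Q) (o o' : Fin b) (ho : o.val = 0) (ho' : o'.val = 1)
    (g : GL (Idx a b) F) (hg : g ∈ Cfsg.isometryGroup F ⇑Q) (h₁ : GL (Fin a) F)
    (hgo : ∀ x : Fin a → F, mv g (pt x (Pi.single o 1)) =
      pt ((h₁ : Matrix (Fin a) (Fin a) F) *ᵥ x) (Pi.single o 1))
    (hgo' : ∀ x : Fin a → F, mv g⁻¹ (pt x (Pi.single o 1)) =
      pt (((h₁⁻¹ : GL (Fin a) F) : Matrix (Fin a) (Fin a) F) *ᵥ x) (Pi.single o 1))
    (m : Fin b) (hmo' : m ≠ o') (x : Fin a → F) :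
    comp o' (mv (g * uB o (Pi.single m 1) * g⁻¹ : GL (Idx a b) F) (pt x (Pi.single o' 1))) = x := by
  have hz : sf (Pi.single m (1 : F)) (Pi.single o (1 : F)) = 0 := by
    rw [sf_single_single, Jm_o_right h.eb o o' ho ho' m hmo']
  have hoo' := o_ne_o' o o' ho ho'
  have key : ∀ y : Fin a → F, comp o' (mv g (pt y (Pi.single m 1))) = 0 := by
    intro y
    have := cB_mv_eq_zero h o g hg _ hgo' (pt y (Pi.single m 1))
      (by rw [cB_pt, sf_single_single, Jm_o_right h.eb o o' ho ho' m hmo', zero_smul])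
    rw [cB_o h.eb o o' ho ho', neg_eq_zero] at this
    exact this
  rw [mv_mul, mv_mul, mv_uB o _ hz, mv_add, mv_add, mv_mv_inv, hgo, comp_add, comp_add, key,
    comp_pt_single, comp_pt_single, if_pos rfl, if_neg (Ne.symm hoo'), add_zero, add_zero]

/-- (N2c) -/
theorem rigid_scalars (h : MCtx a b Q M) (o o' : Fin b) (ho : o.val = 0) (ho' : o'.val = 1)
    (hrig : ¬ NR o o' M) (g : GL (Idx a b) F) (hgM : g ∈ M) (h₁ : GL (Fin a) F)
    (hgo : ∀ x : Fin a → F, mv g (pt x (Pi.single o 1)) =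
      pt ((h₁ : Matrix (Fin a) (Fin a) F) *ᵥ x) (Pi.single o 1))
    (hgo' : ∀ x : Fin a → F, mv g⁻¹ (pt x (Pi.single o 1)) =
      pt (((h₁⁻¹ : GL (Fin a) F) : Matrix (Fin a) (Fin a) F) *ᵥ x) (Pi.single o 1)) :
    ∀ k q : Fin b, k ≠ o → k ≠ o' → q ≠ o → q ≠ o' →
      IsScalarMat ((h₁ : Matrix (Fin a) (Fin a) F) *
        blk ((g⁻¹ : GL (Idx a b) F) : Matrix (Idx a b) (Idx a b) F) k q) := by
  intro k q hko hko' hqo hqo'
  have hiso : g ∈ Cfsg.isometryGroup F ⇑Q := M_le_iso h hgM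
  have hoo' := o_ne_o' o o' ho ho'
  have hb := h.eb
  -- `m := pr k`
  set m : Fin b := pr hb k with hm
  have hpm : pr hb m = k := pr_pr hb k
  have hmo' : m ≠ o' := by
    intro e
    apply hko
    rw [← hpm, e, pr_o' hb o o' ho ho']
  have hmo : m ≠ o := by
    intro e
    apply hko'
    rw [← hpm, e, pr_o hb o o' ho ho']
  set g' : GL (Idx a b) F := g * uB o (Pi.single m 1) * g⁻¹ with hg'
  have hg'M : g' ∈ M := M.mul_mem (M.mul_mem hgM (uB_mem h o _)) (M.inv_mem hgM)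
  have hcol := conj_uB_col h.toCtx o o' ho ho' g hiso h₁ hgo m hmo'
  rw [hpm] at hcol
  -- the blocks of `g'`
  have hblk : ∀ p l : Fin b, l ≠ o' → ∀ x : Fin a → F,
      blk (g' : Matrix (Idx a b) (Idx a b) F) p l *ᵥ x =
        (if p = l then x else 0) + (if p = o then (h₁ : Matrix (Fin a) (Fin a) F) *ᵥ
          ((Jm b k m : F) • (blk ((g⁻¹ : GL (Idx a b) F) : Matrix (Idx a b) (Idx a b) F) k l *ᵥ x))
          else 0) := by
    intro p l hl x
    rw [← comp_mulVec_pt]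
    have := hcol l hl x
    unfold mv at this
    rw [this, comp_add, comp_pt_single, comp_pt_single]
  have hbI := Cfsg.Agent.Lib.Helper25.TensLeaf.blk_of_stab
    ((g⁻¹ : GL (Idx a b) F) : Matrix (Idx a b) (Idx a b) F)
    ((h₁⁻¹ : GL (Fin a) F) : Matrix (Fin a) (Fin a) F) o hgo'
  have hUF : UF o o' (g' : Matrix (Idx a b) (Idx a b) F) := by
    refine ⟨?_, ?_, ?_⟩
    · intro p l hp hl
      apply mat_ext_mulVec
      intro x
      rw [hblk p l hl x, if_neg hp, add_zero]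
      split_ifs <;> simp
    · apply mat_ext_mulVec
      intro x
      rw [hblk o o hoo' x, if_pos rfl, if_pos rfl, hbI k, if_neg hko]
      simp
    · apply mat_ext_mulVec
      intro x
      rw [← comp_mulVec_pt]
      have := conj_uB_o' h.toCtx o o' ho ho' g hiso h₁ hgo hgo' m hmo' x
      unfold mv at this
      rw [this, Matrix.one_mulVec]
  have hsc : IsScalarMat (blk (g' : Matrix (Idx a b) (Idx a b) F) o q) := by
    by_contra hns
    exact hrig ⟨g', hg'M, hUF, q, hqo, hqo', hns⟩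
  obtain ⟨c, hc⟩ := hsc
  have hJ : (Jm b k m : F) ≠ 0 := by
    have := Jm_pr_ne_zero (F := F) hb k
    rw [← hm] at this
    exact this
  refine ⟨(Jm b k m : F)⁻¹ * c, ?_⟩
  apply mat_ext_mulVec
  intro x
  have e := hblk o q hqo' x
  rw [if_neg (Ne.symm hqo), if_pos rfl, zero_add, hc] at e
  rw [← Matrix.mulVec_mulVec]
  have e2 : (h₁ : Matrix (Fin a) (Fin a) F) *ᵥ
      (blk ((g⁻¹ : GL (Idx a b) F) : Matrix (Idx a b) (Idx a b) F) k q *ᵥ x) =
      (Jm b k m : F)⁻¹ • ((c • (1 : Matrix (Fin a) (Fin a) F)) *ᵥ x) := by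
    rw [e, Matrix.mulVec_smul, smul_smul, inv_mul_cancel₀ hJ, one_smul]
  rw [e2, Matrix.smul_mulVec, Matrix.smul_mulVec, Matrix.one_mulVec, smul_smul]

end Cfsg.Agent.Lib.Helper1.SpTNLeaf
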