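import Mathlib
import Cfsg.Agent.Lib.Helper1.SpTNTools

/-!
helper1, S5704 (N2) leaf N2d `exists_k0`.
-/

set_option autoImplicit false
set_option linter.unusedSectionVars false
set_option linter.unusedVariables false

namespace Cfsg.Agent.Lib.Helper1.SpTNLeaf
open Matrix QuadraticMap
open Cfsg.Agent.Lib.Helper25.Tens Cfsg.Agent.Lib.Helper25.TensLeaves Cfsg.Agent.Lib.Helper19.OSub
open Cfsg.Agent.Lib.Helper25.SpT
open scoped Kronecker

variable {F : Type*} [Field F] {a b : ℕ} {Q : QuadraticForm F (Idx a b → F)}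

lemma ext_comp {v w : Idx a b → F} (h : ∀ p : Fin b, comp p v = comp p w) : v = w := by
  funext ⟨i, l⟩
  exact congrFun (h l) i

/-- a similitude relation on the standard basis extends to all vectors -/
lemma sf_mulVec_of_basis {n : ℕ} (β : Matrix (Fin n) (Fin n) F) (ν : F)
    (hβ : ∀ k l : Fin n, sf (β *ᵥ Pi.single k (1 : F)) (β *ᵥ Pi.single l (1 : F)) =
      ν * sf (Pi.single k (1 : F)) (Pi.single l (1 : F))) (y y' : Fin n → F) :
    sf (β *ᵥ y) (β *ᵥ y') = ν * sf y y' := by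
  have key : ∀ y y' : Fin n → F, sf (β *ᵥ y) (β *ᵥ y') = y ⬝ᵥ ((βᵀ * Jm n * β) *ᵥ y') := by
    intro y y'
    unfold sf
    rw [dotProduct_comm, Matrix.dotProduct_mulVec, ← Matrix.mulVec_transpose, dotProduct_comm,
      Matrix.mulVec_mulVec, Matrix.mulVec_mulVec, Matrix.mul_assoc]
  have hN : βᵀ * Jm n * β = ν • (Jm n : Matrix (Fin n) (Fin n) F) := by
    ext k l
    have e := hβ k l
    rw [key, sf_single_single] at e
    simp only [Matrix.mulVec_single_one, single_one_dotProduct] at e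
    rw [Matrix.smul_apply, smul_eq_mul, ← e]
    rfl
  rw [key, hN, Matrix.smul_mulVec, dotProduct_smul, smul_eq_mul]
  rfl

/-- blocks in row `o'` of an isometry whose inverse stabilises `A ⊗ e_o` -/
lemma blk_o'_eq_zero (h : Ctx a b Q) (o o' : Fin b) (ho : o.val = 0) (ho' : o'.val = 1)
    (g : GL (Idx a b) F) (hg : g ∈ Cfsg.isometryGroup F ⇑Q) (X : Matrix (Fin a) (Fin a) F)
    (hgo' : ∀ x : Fin a → F, mv g⁻¹ (pt x (Pi.single o 1)) = pt (X *ᵥ x) (Pi.single o 1))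
    (l : Fin b) (hl : l ≠ o') : blk (g : Matrix (Idx a b) (Idx a b) F) o' l = 0 := by
  apply mat_ext_mulVec
  intro x
  rw [← comp_mulVec_pt, Matrix.zero_mulVec]
  have := cB_mv_eq_zero h o g hg X hgo' (pt x (Pi.single l 1))
    (by rw [cB_pt, sf_single_single, Jm_o_right h.eb o o' ho ho' l hl, zero_smul])
  rw [cB_o h.eb o o' ho ho', neg_eq_zero] at this
  exact this

/-- the `(o',o')` block of an isometry stabilising `A ⊗ e_o` -/
lemma sf_blk_o'_o' (h : Ctx a b Q) (o o' : Fin b) (ho : o.val = 0) (ho' : o'.val = 1)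
    (g : GL (Idx a b) F) (hg : g ∈ Cfsg.isometryGroup F ⇑Q) (X : Matrix (Fin a) (Fin a) F)
    (hgo : ∀ x : Fin a → F, mv g (pt x (Pi.single o 1)) = pt (X *ᵥ x) (Pi.single o 1))
    (x x' : Fin a → F) :
    sf (X *ᵥ x) (blk (g : Matrix (Idx a b) (Idx a b) F) o' o' *ᵥ x') = sf x x' := by
  have e := iso_polar hg (pt x (Pi.single o 1)) (pt x' (Pi.single o' 1))
  rw [hgo, polar_pt_left h, cB_o h.eb o o' ho ho', h.pol, sf_single_single, Jm_o_o' o o' ho ho',
    mul_one] at e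
  unfold mv at e
  rw [comp_mulVec_pt, sf_neg_left, ← sf_skew] at e
  exact e

/-- (N2d) -/
theorem exists_k0 [Fintype F] (h : Ctx a b Q) (o o' : Fin b) (ho : o.val = 0) (ho' : o'.val = 1)
    (g : GL (Idx a b) F) (hg : g ∈ Cfsg.isometryGroup F ⇑Q) (h₁ : GL (Fin a) F)
    (hgo : ∀ x : Fin a → F, mv g (pt x (Pi.single o 1)) =
      pt ((h₁ : Matrix (Fin a) (Fin a) F) *ᵥ x) (Pi.single o 1))
    (hgo' : ∀ x : Fin a → F, mv g⁻¹ (pt x (Pi.single o 1)) =
      pt (((h₁⁻¹ : GL (Fin a) F) : Matrix (Fin a) (Fin a) F) *ᵥ x) (Pi.single o 1))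
    (hsc : ∀ k q : Fin b, k ≠ o → k ≠ o' → q ≠ o → q ≠ o' →
      IsScalarMat ((h₁ : Matrix (Fin a) (Fin a) F) *
        blk ((g⁻¹ : GL (Idx a b) F) : Matrix (Idx a b) (Idx a b) F) k q)) :
    ∃ (β₀ : GL (Fin b) F) (μ : F), μ ≠ 0 ∧
      (∀ x x' : Fin a → F, sf (((h₁⁻¹ : GL (Fin a) F) : Matrix (Fin a) (Fin a) F) *ᵥ x)
        (((h₁⁻¹ : GL (Fin a) F) : Matrix (Fin a) (Fin a) F) *ᵥ x') = μ * sf x x') ∧
      (∀ y y' : Fin b → F, sf ((β₀ : Matrix (Fin b) (Fin b) F) *ᵥ y)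
        ((β₀ : Matrix (Fin b) (Fin b) F) *ᵥ y') = μ⁻¹ * sf y y') ∧
      UF o o' ((g * kel h₁⁻¹ β₀ : GL (Idx a b) F) : Matrix (Idx a b) (Idx a b) F) := by
  classical
  have hb := h.eb
  have hoo' := o_ne_o' o o' ho ho'
  have hgi : g⁻¹ ∈ Cfsg.isometryGroup F ⇑Q := (Cfsg.isometryGroup F ⇑Q).inv_mem hg
  obtain ⟨H, hH⟩ : ∃ H, H = ((g : GL (Idx a b) F) : Matrix (Idx a b) (Idx a b) F) := ⟨_, rfl⟩
  obtain ⟨Hi, hHi⟩ : ∃ H, H = ((g⁻¹ : GL (Idx a b) F) : Matrix (Idx a b) (Idx a b) F) := ⟨_, rfl⟩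
  obtain ⟨A, hA⟩ : ∃ A, A = ((h₁ : GL (Fin a) F) : Matrix (Fin a) (Fin a) F) := ⟨_, rfl⟩
  obtain ⟨Ai, hAi⟩ : ∃ A, A = ((h₁⁻¹ : GL (Fin a) F) : Matrix (Fin a) (Fin a) F) := ⟨_, rfl⟩
  have hAAi : A * Ai = 1 := by rw [hA, hAi, ← Units.val_mul, mul_inv_cancel, Units.val_one]
  have hAiA : Ai * A = 1 := by rw [hA, hAi, ← Units.val_mul, inv_mul_cancel, Units.val_one]
  have hHHi : H * Hi = 1 := by rw [hH, hHi, ← Units.val_mul, mul_inv_cancel, Units.val_one]
  have hgo1 : ∀ x : Fin a → F, H *ᵥ pt x (Pi.single o 1) = pt (A *ᵥ x) (Pi.single o 1) := by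
    intro x; rw [hH, hA]; exact hgo x
  have hgo2 : ∀ x : Fin a → F, Hi *ᵥ pt x (Pi.single o 1) = pt (Ai *ᵥ x) (Pi.single o 1) := by
    intro x; rw [hHi, hAi]; exact hgo' x
  have hgo3 : ∀ x : Fin a → F, mv (g⁻¹)⁻¹ (pt x (Pi.single o 1)) =
      pt ((h₁ : Matrix (Fin a) (Fin a) F) *ᵥ x) (Pi.single o 1) := by
    intro x; rw [inv_inv]; exact hgo x
  -- block facts
  have F1 : ∀ p, blk H p o = if p = o then A else 0 :=
    Cfsg.Agent.Lib.Helper25.TensLeaf.blk_of_stab H A o hgo1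
  have F2 : ∀ p, blk Hi p o = if p = o then Ai else 0 :=
    Cfsg.Agent.Lib.Helper25.TensLeaf.blk_of_stab Hi Ai o hgo2
  have P1 : ∀ l, l ≠ o' → blk H o' l = 0 := by
    intro l hl
    rw [hH]
    exact blk_o'_eq_zero h o o' ho ho' g hg _ hgo' l hl
  have P2 : ∀ l, l ≠ o' → blk Hi o' l = 0 := by
    intro l hl
    rw [hHi]
    exact blk_o'_eq_zero h o o' ho ho' g⁻¹ hgi _ hgo3 l hl
  -- the coefficients
  obtain ⟨Λ, hΛ⟩ : ∃ Λ : Matrix (Fin b) (Fin b) F, Λ = fun k q =>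
      if hk : k ≠ o ∧ k ≠ o' ∧ q ≠ o ∧ q ≠ o' then
        Classical.choose (hsc k q hk.1 hk.2.1 hk.2.2.1 hk.2.2.2) else 0 := ⟨_, rfl⟩
  have Λ0 : ∀ k q, (k = o ∨ k = o' ∨ q = o ∨ q = o') → Λ k q = 0 := by
    intro k q hkq
    rw [hΛ]
    have : ¬ (k ≠ o ∧ k ≠ o' ∧ q ≠ o ∧ q ≠ o') := by
      rintro ⟨h1, h2, h3, h4⟩
      rcases hkq with e | e | e | e
      · exact h1 e
      · exact h2 e
      · exact h3 e
      · exact h4 e
    simp only [dif_neg this]
  have F4 : ∀ k q, k ≠ o → k ≠ o' → q ≠ o' → blk Hi k q = Λ k q • Ai := by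
    intro k q hk hk' hq'
    by_cases hq : q = o
    · rw [hq, F2, if_neg hk, Λ0 k o (Or.inr (Or.inr (Or.inl rfl))), zero_smul]
    · have hcond : k ≠ o ∧ k ≠ o' ∧ q ≠ o ∧ q ≠ o' := ⟨hk, hk', hq, hq'⟩
      have e := Classical.choose_spec (hsc k q hk hk' hq hq')
      have e2 : Λ k q = Classical.choose (hsc k q hk hk' hq hq') := by
        rw [hΛ]
        simp only [dif_pos hcond]
      rw [← e2, ← hA, ← hHi] at e
      calc blk Hi k q = Ai * (A * blk Hi k q) := by rw [← Matrix.mul_assoc, hAiA, Matrix.one_mul]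
        _ = Λ k q • Ai := by rw [e, Matrix.mul_smul, Matrix.mul_one]
  -- the columns of `g⁻¹`
  have hcol : ∀ k, k ≠ o → k ≠ o' → ∀ x : Fin a → F,
      mv g⁻¹ (pt x (Pi.single k 1)) =
        pt (blk Hi o k *ᵥ x) (Pi.single o 1) + pt (Ai *ᵥ x) (fun p => Λ p k) := by
    intro k hk hk' x
    apply ext_comp
    intro p
    unfold mv
    rw [comp_mulVec_pt, ← hHi, comp_add, comp_pt_single, comp_pt]
    by_cases hp : p = o
    · rw [hp, if_pos rfl, Λ0 o k (Or.inl rfl), zero_smul, add_zero]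
    · rw [if_neg hp, zero_add]
      by_cases hp' : p = o'
      · rw [hp', P2 k hk', Λ0 o' k (Or.inr (Or.inl rfl)), zero_smul, Matrix.zero_mulVec]
      · rw [F4 p k hp hp' hk', Matrix.smul_mulVec]
  have hcolo : ∀ l, sf (Pi.single o (1 : F)) (fun p => Λ p l) = 0 := by
    intro l
    rw [sf_single_left' hb, pr_o hb o o' ho ho', Λ0 o' l (Or.inr (Or.inl rfl)), mul_zero]
  have hcolo' : ∀ l, sf (Pi.single o' (1 : F)) (fun p => Λ p l) = 0 := by
    intro l
    rw [sf_single_left' hb, pr_o' hb o o' ho ho', Λ0 o l (Or.inl rfl), mul_zero]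
  -- (∗)
  have hstar : ∀ k l, k ≠ o → k ≠ o' → l ≠ o → l ≠ o' → ∀ x x' : Fin a → F,
      sf (Ai *ᵥ x) (Ai *ᵥ x') * sf (fun p => Λ p k) (fun p => Λ p l) =
        sf x x' * sf (Pi.single k (1 : F)) (Pi.single l (1 : F)) := by
    intro k l hk hk' hl hl' x x'
    have e := iso_polar hgi (pt x (Pi.single k 1)) (pt x' (Pi.single l 1))
    rw [hcol k hk hk', hcol l hl hl', h.pol, polar_add_left, polar_add_right, polar_add_right,
      h.pol, h.pol, h.pol, h.pol, sf_self (Pi.single o (1 : F)), hcolo l,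
      sf_skew (fun p => Λ p k) (Pi.single o (1 : F)), hcolo k] at e
    linear_combination e
  -- the multiplier
  have hb2 : 2 < b := by have := h.hab; have := h.ha; omega
  obtain ⟨k₁, hk₁⟩ : ∃ k₁ : Fin b, k₁ = ⟨2, hb2⟩ := ⟨_, rfl⟩
  have hk₁v : k₁.val = 2 := by rw [hk₁]
  have hk₁o : k₁ ≠ o := by
    intro e; rw [e] at hk₁v; omega
  have hk₁o' : k₁ ≠ o' := by
    intro e; rw [e] at hk₁v; omega
  have hl₁v : (pr hb k₁).val = 3 := by rw [pr_val_even hb k₁ (by omega), hk₁v]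
  have hl₁o : pr hb k₁ ≠ o := by
    intro e; rw [e] at hl₁v; omega
  have hl₁o' : pr hb k₁ ≠ o' := by
    intro e; rw [e] at hl₁v; omega
  have ha0 : 0 < a := by have := h.ha; omega
  obtain ⟨x₀, x₀', hx₀⟩ : ∃ x₀ x₀' : Fin a → F, sf x₀ x₀' ≠ 0 := by
    have hne : (Pi.single (⟨0, ha0⟩ : Fin a) (1 : F) : Fin a → F) ≠ 0 := by
      intro e
      have := congrFun e ⟨0, ha0⟩
      simp at this
    obtain ⟨y, hy⟩ := exists_sf_ne_zero h.ea hne
    exact ⟨_, y, hy⟩
  have hj : sf (Pi.single k₁ (1 : F)) (Pi.single (pr hb k₁) (1 : F)) ≠ 0 := by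
    rw [sf_single_single]
    exact Jm_pr_ne_zero hb k₁
  have h0 := hstar k₁ (pr hb k₁) hk₁o hk₁o' hl₁o hl₁o' x₀ x₀'
  have hc : sf (fun p => Λ p k₁) (fun p => Λ p (pr hb k₁)) ≠ 0 := by
    intro e
    rw [e, mul_zero] at h0
    exact mul_ne_zero hx₀ hj h0.symm
  obtain ⟨μ, hμdef⟩ : ∃ μ : F, μ = sf (Pi.single k₁ (1 : F)) (Pi.single (pr hb k₁) (1 : F)) *
      (sf (fun p => Λ p k₁) (fun p => Λ p (pr hb k₁)))⁻¹ := ⟨_, rfl⟩
  have hμ : μ ≠ 0 := by
    rw [hμdef]
    exact mul_ne_zero hj (inv_ne_zero hc)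
  have hα : ∀ x x' : Fin a → F, sf (Ai *ᵥ x) (Ai *ᵥ x') = μ * sf x x' := by
    intro x x'
    have e := hstar k₁ (pr hb k₁) hk₁o hk₁o' hl₁o hl₁o' x x'
    rw [hμdef]
    field_simp
    linear_combination e
  have hΛΛ : ∀ k l, k ≠ o → k ≠ o' → l ≠ o → l ≠ o' →
      sf (fun p => Λ p k) (fun p => Λ p l) =
        μ⁻¹ * sf (Pi.single k (1 : F)) (Pi.single l (1 : F)) := by
    intro k l hk hk' hl hl'
    have e := hstar k l hk hk' hl hl' x₀ x₀'
    rw [hα] at e
    field_simp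
    have e3 : sf x₀ x₀' * (μ * sf (fun p => Λ p k) (fun p => Λ p l) -
        sf (Pi.single k (1 : F)) (Pi.single l (1 : F))) = 0 := by
      linear_combination e
    rcases mul_eq_zero.1 e3 with e4 | e4
    · exact absurd e4 hx₀
    · linear_combination e4
  -- the matrix `β₀`
  obtain ⟨B, hB⟩ : ∃ B : Matrix (Fin b) (Fin b) F, B = fun k q =>
      if k = o then (if q = o then 1 else 0)
      else if k = o' then (if q = o' then μ⁻¹ else 0) else Λ k q := ⟨_, rfl⟩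
  have hBo : B *ᵥ Pi.single o (1 : F) = Pi.single o (1 : F) := by
    ext k
    rw [Matrix.mulVec_single_one, Matrix.col_apply, hB, Pi.single_apply]
    by_cases hk : k = o
    · simp [hk]
    · by_cases hk' : k = o'
      · simp [hk', hoo']
      · simp only [if_neg hk, if_neg hk']
        exact Λ0 k o (Or.inr (Or.inr (Or.inl rfl)))
  have hBo' : B *ᵥ Pi.single o' (1 : F) = μ⁻¹ • Pi.single o' (1 : F) := by
    ext k
    rw [Matrix.mulVec_single_one, Matrix.col_apply, hB, Pi.smul_apply, Pi.single_apply, smul_eq_mul]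
    by_cases hk : k = o
    · simp [hk, hoo', Ne.symm hoo']
    · by_cases hk' : k = o'
      · simp [hk']
        intro e
        exact absurd e.symm hoo'
      · simp only [if_neg hk, if_neg hk', mul_zero]
        exact Λ0 k o' (Or.inr (Or.inr (Or.inr rfl)))
  have hBk : ∀ q, q ≠ o → q ≠ o' → B *ᵥ Pi.single q (1 : F) = fun p => Λ p q := by
    intro q hq hq'
    ext k
    rw [Matrix.mulVec_single_one, Matrix.col_apply, hB]
    by_cases hk : k = o
    · simp only [hk, if_true, if_neg hq]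
      exact (Λ0 o q (Or.inl rfl)).symm
    · by_cases hk' : k = o'
      · simp only [hk', if_true, if_neg hq']
        rw [if_neg (Ne.symm hoo')]
        exact (Λ0 o' q (Or.inr (Or.inl rfl))).symm
      · simp only [if_neg hk, if_neg hk']
  have hBB : ∀ k l : Fin b, sf (B *ᵥ Pi.single k (1 : F)) (B *ᵥ Pi.single l (1 : F)) =
      μ⁻¹ * sf (Pi.single k (1 : F)) (Pi.single l (1 : F)) := by
    intro k l
    by_cases hk : k = o
    · rw [hk, hBo]
      by_cases hl : l = o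
      · rw [hl, hBo, sf_self, mul_zero]
      · by_cases hl' : l = o'
        · rw [hl', hBo', sf_smul_right]
        · rw [hBk l hl hl', hcolo l, sf_single_single, Jm_o_left hb o o' ho ho' l hl', mul_zero]
    · by_cases hk' : k = o'
      · rw [hk', hBo']
        by_cases hl : l = o
        · rw [hl, hBo, sf_smul_left]
        · by_cases hl' : l = o'
          · rw [hl', hBo', sf_smul_left, sf_smul_right, sf_self, mul_zero, mul_zero]
          · rw [hBk l hl hl', sf_smul_left, hcolo' l, sf_single_single,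
              Jm_eq_zero_of_ne hb o' l (by rw [pr_o' hb o o' ho ho']; exact hl), mul_zero]
      · rw [hBk k hk hk']
        by_cases hl : l = o
        · rw [hl, hBo, sf_skew, hcolo k, sf_single_single, Jm_o_right hb o o' ho ho' k hk',
            neg_zero, mul_zero]
        · by_cases hl' : l = o'
          · rw [hl', hBo', sf_smul_right, sf_skew, hcolo' k, sf_single_single, Jm_swap,
              Jm_eq_zero_of_ne hb o' k (by rw [pr_o' hb o o' ho ho']; exact hk)]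
          · rw [hBk l hl hl', hΛΛ k l hk hk' hl hl']
  have hβ : ∀ y y' : Fin b → F, sf (B *ᵥ y) (B *ᵥ y') = μ⁻¹ * sf y y' :=
    sf_mulVec_of_basis B μ⁻¹ hBB
  have hBunit : IsUnit B := by
    apply Matrix.mulVec_injective_iff_isUnit.1
    intro y y' hyy
    have hyy' : B *ᵥ y = B *ᵥ y' := hyy
    have : y - y' = 0 := by
      apply eq_zero_of_sf hb
      intro z
      have e := hβ (y - y') z
      rw [Matrix.mulVec_sub, hyy', sub_self, sf_zero_left] at e
      have : μ⁻¹ ≠ 0 := inv_ne_zero hμ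
      rcases mul_eq_zero.1 e.symm with e' | e'
      · exact absurd e' this
      · exact e'
    exact sub_eq_zero.1 this
  obtain ⟨β₀, hβ₀⟩ := hBunit
  refine ⟨β₀, μ, hμ, ?_, ?_, ?_⟩
  · intro x x'
    rw [← hAi]
    exact hα x x'
  · intro y y'
    rw [hβ₀]
    exact hβ y y'
  -- the `U`-form
  obtain ⟨K0, hK0⟩ : ∃ K0 : Matrix (Idx a b) (Idx a b) F, K0 = Ai ⊗ₖ B := ⟨_, rfl⟩
  have hval : ((g * kel h₁⁻¹ β₀ : GL (Idx a b) F) : Matrix (Idx a b) (Idx a b) F) = H * K0 := by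
    rw [Units.val_mul, kel_val, hβ₀, ← hAi, ← hH, hK0]
  have hK0b : ∀ r l, blk K0 r l = B r l • Ai := by
    intro r l
    rw [hK0, blk_kron]
  have hBro : ∀ r, B r o = if r = o then 1 else 0 := by
    intro r
    have := congrFun hBo r
    rw [Matrix.mulVec_single_one, Matrix.col_apply, Pi.single_apply] at this
    exact this
  have hBo'l : ∀ l, l ≠ o' → B o' l = 0 := by
    intro l hl
    rw [hB]
    simp only [if_neg (Ne.symm hoo'), if_true, if_neg hl]
  have hBo'o' : B o' o' = μ⁻¹ := by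
    rw [hB]
    simp only [if_neg (Ne.symm hoo'), if_true]
  have hBrl : ∀ r l, r ≠ o → r ≠ o' → B r l = Λ r l := by
    intro r l hr hr'
    rw [hB]
    simp only [if_neg hr, if_neg hr']
  -- `blk Hi o' o' = μ⁻¹ • Ai`
  have F4' : blk Hi o' o' = μ⁻¹ • Ai := by
    apply mat_ext_mulVec
    intro x'
    rw [← sub_eq_zero]
    apply eq_zero_of_sf h.ea
    intro z
    have e1 := sf_blk_o'_o' h o o' ho ho' g⁻¹ hgi Ai (by intro x; rw [hAi]; exact hgo' x) (A *ᵥ z) x'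
    rw [Matrix.mulVec_mulVec, hAiA, Matrix.one_mulVec, ← hHi] at e1
    have e2 := hα (A *ᵥ z) x'
    rw [Matrix.mulVec_mulVec, hAiA, Matrix.one_mulVec] at e2
    rw [sf_skew, sf_sub_right, e1, Matrix.smul_mulVec, sf_smul_right, e2]
    field_simp
    ring
  have hsum : ∀ k l, (∀ r, blk H k r * blk K0 r l = blk H k r * blk Hi r l) →
      blk (H * K0) k l = if k = l then 1 else 0 := by
    intro k l hr
    rw [blk_mul, Finset.sum_congr rfl (fun r _ => hr r), ← blk_mul, hHHi, blk_one]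
  rw [hval]
  refine ⟨?_, ?_, ?_⟩
  · intro k l hk hl
    apply hsum
    intro r
    by_cases hr : r = o
    · rw [hr, F1, if_neg hk, Matrix.zero_mul, Matrix.zero_mul]
    · by_cases hr' : r = o'
      · rw [hr', hK0b, hBo'l l hl, zero_smul, P2 l hl]
      · rw [hK0b, hBrl r l hr hr', F4 r l hr hr' hl]
  · rw [hsum o o, if_pos rfl]
    intro r
    rw [hK0b, hBro, F2]
    by_cases hr : r = o
    · rw [if_pos hr, if_pos hr, one_smul]
    · rw [if_neg hr, if_neg hr, zero_smul]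
  · rw [hsum o' o', if_pos rfl]
    intro r
    by_cases hr' : r = o'
    · rw [hr', hK0b, hBo'o', F4']
    · rw [P1 r hr', Matrix.zero_mul, Matrix.zero_mul]

end Cfsg.Agent.Lib.Helper1.SpTNLeaf
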