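import Mathlib
import Cfsg.Agent.Lib.Helper25.SpTNDefs
import Cfsg.Agent.Lib.Helper9.SpTNU
import Cfsg.Agent.Lib.Helper13.SpTNKA
import Cfsg.Agent.Lib.Helper27.SpTNAlg

/-!
helper1, S5704 (N2) leaf N2e `phi_scalar` (glue of helper9's U-block, helper13's `kel_conj_kA` and
helper27's `scalar_of_conj_stv`).
-/

set_option autoImplicit false
set_option linter.unusedSectionVars false
set_option linter.unusedVariables false

namespace Cfsg.Agent.Lib.Helper1.SpTNLeaf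
open Matrix QuadraticMap
open Cfsg.Agent.Lib.Helper25.Tens Cfsg.Agent.Lib.Helper25.TensLeaves Cfsg.Agent.Lib.Helper19.OSub
open Cfsg.Agent.Lib.Helper25.SpT
open scoped Kronecker

variable {F : Type*} [Field F] [Fintype F] {a b : ℕ} {Q : QuadraticForm F (Idx a b → F)}
  {M : Subgroup (GL (Idx a b) F)}

/-- (N2e) -/
theorem phi_scalar (h : MCtx a b Q M) (o o' : Fin b) (ho : o.val = 0) (ho' : o'.val = 1)
    (hrig : ¬ NR o o' M) (g : GL (Idx a b) F) (hgM : g ∈ M) (h₁ : GL (Fin a) F)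
    (β₀ : GL (Fin b) F) (μ : F) (hμ : μ ≠ 0)
    (hα : ∀ x x' : Fin a → F, sf (((h₁⁻¹ : GL (Fin a) F) : Matrix (Fin a) (Fin a) F) *ᵥ x)
      (((h₁⁻¹ : GL (Fin a) F) : Matrix (Fin a) (Fin a) F) *ᵥ x') = μ * sf x x')
    (hU : UF o o' ((g * kel h₁⁻¹ β₀ : GL (Idx a b) F) : Matrix (Idx a b) (Idx a b) F)) :
    ∀ l : Fin b, l ≠ o → l ≠ o' →
      IsScalarMat (blk ((g * kel h₁⁻¹ β₀ : GL (Idx a b) F) : Matrix (Idx a b) (Idx a b) F) o l) := by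
  intro l hlo hlo'
  have hoo' : o ≠ o' := by
    intro e
    rw [e] at ho
    omega
  set u : GL (Idx a b) F := g * kel h₁⁻¹ β₀ with hu
  apply Cfsg.Agent.Lib.Helper27.SpTNLeaf.scalar_of_conj_stv h.ha h.ea h.hex
  intro x c
  -- the element `w`
  set w : GL (Idx a b) F := u * (kel (stv x c) (1 : GL (Fin b) F) * u⁻¹ *
    (kel (stv x c) (1 : GL (Fin b) F))⁻¹) with hw
  have hwM : w ∈ M := by
    have e : w = (g * kA (((h₁⁻¹ : GL (Fin a) F) : Matrix (Fin a) (Fin a) F) *ᵥ x) (c * μ⁻¹) * g⁻¹) *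
        (kA x c)⁻¹ := by
      rw [← Cfsg.Agent.Lib.Helper13.SpTNLeaf.kel_conj_kA h₁⁻¹ β₀ μ hμ hα x c, hw, hu]
      unfold kA
      group
    rw [e]
    exact M.mul_mem (M.mul_mem (M.mul_mem hgM (kA_mem h _ _)) (M.inv_mem hgM))
      (M.inv_mem (kA_mem h _ _))
  obtain ⟨hUi, hbi⟩ := Cfsg.Agent.Lib.Helper9.SpTNLeaf.UF_inv o o' hoo' u hU
  obtain ⟨hUc, hbc⟩ := Cfsg.Agent.Lib.Helper9.SpTNLeaf.UF_conj_kel o o' (stv x c) u⁻¹ hUi
  obtain ⟨hUw, hbw⟩ := Cfsg.Agent.Lib.Helper9.SpTNLeaf.UF_mul o o' hoo' _ _ hU hUc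
  have hwval : (w : Matrix (Idx a b) (Idx a b) F) = (u : Matrix (Idx a b) (Idx a b) F) *
      ((kel (stv x c) (1 : GL (Fin b) F) * u⁻¹ * (kel (stv x c) (1 : GL (Fin b) F))⁻¹ :
        GL (Idx a b) F) : Matrix (Idx a b) (Idx a b) F) := by
    rw [hw, Units.val_mul]
  have hsc : IsScalarMat (blk (w : Matrix (Idx a b) (Idx a b) F) o l) := by
    by_contra hns
    apply hrig
    refine ⟨w, hwM, ?_, l, hlo, hlo', hns⟩
    rw [hwval]
    exact hUw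
  rw [hwval, hbw l hlo hlo', hbc l, hbi l hlo hlo'] at hsc
  obtain ⟨s, hs⟩ := hsc
  refine ⟨s, ?_⟩
  rw [← hs]
  simp only [Matrix.mul_neg, Matrix.neg_mul, sub_eq_add_neg]

end Cfsg.Agent.Lib.Helper1.SpTNLeaf
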