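import Mathlib
import Cfsg.Prelude.Def_Transfer
import Cfsg.Agent.Lib.Helper1.PGroup
import Cfsg.Agent.Lib.Helper12.Basic
import Cfsg.Agent.Lib.Helper16.Frattini

set_option autoImplicit false
open scoped commutatorElement

namespace Cfsg.Agent.Lib.Helper1

open Subgroup

/-- If `G = [G, A]` and `A` fixes the normal subgroup `M` pointwise then `M` is central. -/
theorem le_center_of_fixed_of_normal {G : Type*} [Group G] (A : Subgroup (MulAut G))
    (hGA : closure {x : G | ∃ g : G, ∃ a ∈ A, x = g⁻¹ * a g} = ⊤)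
    (M : Subgroup G) [hM : M.Normal] (hfix : ∀ a ∈ A, ∀ m ∈ M, a m = m) : M ≤ center G := by
  intro m hm
  rw [mem_center_iff]
  have h1 : (⊤ : Subgroup G) ≤ centralizer {m} := by
    rw [← hGA, closure_le]
    rintro x ⟨g, a, ha, rfl⟩
    rw [SetLike.mem_coe, mem_centralizer_iff]
    intro h hh
    rw [Set.mem_singleton_iff] at hh
    subst hh
    have h1 : a (g * h * g⁻¹) = g * h * g⁻¹ := hfix a ha _ (hM.conj_mem h hm g)
    rw [map_mul, map_mul, map_inv, hfix a ha h hm] at h1
    calc h * (g⁻¹ * a g) = g⁻¹ * (g * h * g⁻¹) * a g := by group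
      _ = g⁻¹ * (a g * h * (a g)⁻¹) * a g := by rw [h1]
      _ = g⁻¹ * a g * h := by group
  intro g
  have := mem_centralizer_iff.mp (h1 (mem_top g)) m (Set.mem_singleton m)
  exact this.symm

open scoped IsMulCommutative in
/-- if every characteristic abelian subgroup of a `p`-group is central, the class is at most 2 -/
theorem commutator_le_center_of_char_abelian_central {G : Type*} [Group G] [Finite G] {p : ℕ}
    [Fact p.Prime] (hG : IsPGroup p G)
    (hcent : ∀ H : Subgroup G, H.Characteristic → IsMulCommutative H → H ≤ center G) :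
    commutator G ≤ center G := by
  obtain ⟨Z₂, hZ₂⟩ : ∃ Z₂ : Subgroup G, Z₂ = Subgroup.upperCentralSeries G 2 := ⟨_, rfl⟩
  have hZ₂c : Z₂.Characteristic := by rw [hZ₂]; infer_instance
  have hZ₂mem : ∀ x, x ∈ Z₂ ↔ ∀ y, ⁅x, y⁆ ∈ center G := by
    intro x
    rw [hZ₂, show (2 : ℕ) = 1 + 1 from rfl, Subgroup.mem_upperCentralSeries_succ_iff,
      Subgroup.upperCentralSeries_one]
  have hEc : (Z₂ ⊓ centralizer (Z₂ : Set G)).Characteristic := inferInstance
  have hEab : IsMulCommutative (Z₂ ⊓ centralizer (Z₂ : Set G) : Subgroup G) := by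
    refine ⟨⟨?_⟩⟩
    rintro ⟨x, hx⟩ ⟨y, hy⟩
    apply Subtype.ext
    exact (mem_centralizer_iff.mp hx.2 y hy.1).symm
  have hE := hcent _ hEc hEab
  -- `G'` centralizes `Z₂`
  have hcomm : commutator G ≤ centralizer (Z₂ : Set G) := by
    intro c hc
    rw [mem_centralizer_iff]
    intro x hx
    have hxc := (hZ₂mem x).mp hx
    let f : G →* center G :=
      { toFun := fun y => ⟨⁅x, y⁆, hxc y⟩
        map_one' := by apply Subtype.ext; simp
        map_mul' := by
          intro y₁ y₂
          apply Subtype.ext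
          show ⁅x, y₁ * y₂⁆ = ⁅x, y₁⁆ * ⁅x, y₂⁆
          have hc2 : ∀ g : G, g * ⁅x, y₂⁆ = ⁅x, y₂⁆ * g := mem_center_iff.mp (hxc y₂)
          calc ⁅x, y₁ * y₂⁆ = x * y₁ * x⁻¹ * (⁅x, y₂⁆ * y₁⁻¹) := by
                simp only [commutatorElement_def]; group
            _ = x * y₁ * x⁻¹ * (y₁⁻¹ * ⁅x, y₂⁆) := by rw [hc2 y₁⁻¹]
            _ = ⁅x, y₁⁆ * ⁅x, y₂⁆ := by simp only [commutatorElement_def]; group }
    have h1 := Abelianization.commutator_subset_ker (A := center G) f hc
    rw [MonoidHom.mem_ker] at h1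
    have h2 : ⁅x, c⁆ = 1 := congrArg Subtype.val h1
    exact (commutatorElement_eq_one_iff_commute.mp h2).eq
  by_contra hnot
  have hNbar : (commutator G).map (QuotientGroup.mk' (center G)) ≠ ⊥ := by
    intro h
    apply hnot
    intro c hc
    have : QuotientGroup.mk' (center G) c ∈ (commutator G).map (QuotientGroup.mk' (center G)) :=
      mem_map_of_mem _ hc
    rw [h, mem_bot, QuotientGroup.mk'_apply, QuotientGroup.eq_one_iff] at this
    exact this
  have hNn : ((commutator G).map (QuotientGroup.mk' (center G))).Normal :=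
    Subgroup.Normal.map inferInstance _ (QuotientGroup.mk'_surjective _)
  obtain ⟨xb, hxb, hxb1, hxbc⟩ :=
    Cfsg.Agent.Lib.Helper12.exists_ne_one_mem_center_of_normal (hG.to_quotient (center G))
      ((commutator G).map (QuotientGroup.mk' (center G))) hNbar
  obtain ⟨x, hxc, rfl⟩ := hxb
  apply hxb1
  rw [QuotientGroup.mk'_apply, QuotientGroup.eq_one_iff]
  apply hE
  refine ⟨(hZ₂mem x).mpr fun y => ?_, hcomm hxc⟩
  rw [← QuotientGroup.eq_one_iff, ← QuotientGroup.mk'_apply, map_commutatorElement,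
    commutatorElement_eq_one_iff_commute]
  exact (mem_center_iff.mp hxbc (QuotientGroup.mk' (center G) y)).symm

/-- coprime averaging: if `G = [G, A]` for a `p'`-group `A` of automorphisms of the `p`-group
`G`, then `C_G(A) ≤ G'`. -/
theorem fixed_mem_commutator {G : Type*} [Group G] [Finite G] {p : ℕ} [hp : Fact p.Prime]
    (hG : IsPGroup p G) (A : Subgroup (MulAut G)) (hA : Nat.Coprime (Nat.card A) p)
    (hGA : closure {x : G | ∃ g : G, ∃ a ∈ A, x = g⁻¹ * a g} = ⊤)
    (x : G) (hx : ∀ a ∈ A, a x = x) : x ∈ commutator G := by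
  classical
  have : Fintype A := Fintype.ofFinite A
  let φ : G →* Abelianization G := Abelianization.of
  let ψ : G →* Abelianization G := ∏ a : A, φ.comp (a : MulAut G).toMonoidHom
  have hψ : ∀ g, ψ g = ∏ a : A, φ ((a : MulAut G) g) := by
    intro g
    show (∏ a : A, φ.comp (a : MulAut G).toMonoidHom) g = _
    rw [MonoidHom.finsetProd_apply]
    rfl
  have hψa : ∀ (a₀ : A) (g : G), ψ ((a₀ : MulAut G) g) = ψ g := by
    intro a₀ g
    rw [hψ, hψ]
    apply Fintype.prod_equiv (Equiv.mulRight a₀)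
    intro b
    rfl
  have hker : (⊤ : Subgroup G) ≤ ψ.ker := by
    rw [← hGA, closure_le]
    rintro y ⟨g, a, ha, rfl⟩
    rw [SetLike.mem_coe, MonoidHom.mem_ker, map_mul, map_inv, hψa ⟨a, ha⟩ g, inv_mul_cancel]
  have h1 : ψ x = 1 := MonoidHom.mem_ker.mp (hker (mem_top x))
  rw [hψ] at h1
  have h2 : ∏ a : A, φ ((a : MulAut G) x) = φ x ^ Nat.card A := by
    rw [Nat.card_eq_fintype_card, ← Finset.card_univ, ← Finset.prod_const]
    apply Finset.prod_congr rfl
    intro a _
    rw [hx a a.2]
  rw [h2] at h1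
  obtain ⟨k, hk⟩ := hG x
  have h3 : orderOf (φ x) ∣ p ^ k := by
    apply orderOf_dvd_of_pow_eq_one; rw [← map_pow, hk, map_one]
  have h4 : orderOf (φ x) ∣ Nat.card A := orderOf_dvd_of_pow_eq_one h1
  have h5 : orderOf (φ x) ∣ 1 := by
    have := Nat.dvd_gcd h4 h3
    rwa [Nat.Coprime.pow_right k hA] at this
  have h6 : φ x = 1 := orderOf_eq_one_iff.mp (Nat.dvd_one.mp h5)
  rw [← Abelianization.ker_of, MonoidHom.mem_ker]
  exact h6

/-- the subgroup generated by the `p`-th powers is characteristic -/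
theorem closure_pow_characteristic {G : Type*} [Group G] (p : ℕ) :
    (closure {z : G | ∃ y : G, z = y ^ p}).Characteristic := by
  rw [characteristic_iff_map_le]
  intro ϕ
  rw [MonoidHom.map_closure, closure_le]
  rintro _ ⟨z, ⟨y, rfl⟩, rfl⟩
  apply Subgroup.subset_closure
  exact ⟨ϕ y, by simp⟩

/-- in a class-2 `p`-group all of whose characteristic abelian subgroups are central, the
central quotient has exponent `p` -/
theorem pow_mem_center_of_char_abelian_central {G : Type*} [Group G] [Finite G] {p : ℕ}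
    [hp : Fact p.Prime] (hG : IsPGroup p G) (hcl : commutator G ≤ center G)
    (hcent : ∀ H : Subgroup G, H.Characteristic → IsMulCommutative H → H ≤ center G) (y : G) :
    y ^ p ∈ center G := by
  obtain ⟨W, hW⟩ : ∃ W : Subgroup G, W = closure {z : G | ∃ y : G, z = y ^ p} := ⟨_, rfl⟩
  have hWc : W.Characteristic := by rw [hW]; exact closure_pow_characteristic p
  obtain ⟨U, hU⟩ : ∃ U : Subgroup G, U = centralizer (W : Set G) := ⟨_, rfl⟩
  have hUc : U.Characteristic := by rw [hU]; infer_instance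
  obtain ⟨N, hN⟩ : ∃ N : Subgroup G, N = centralizer (U : Set G) := ⟨_, rfl⟩
  have hNc : N.Characteristic := by rw [hN]; infer_instance
  have hEc : (U ⊓ N).Characteristic := inferInstance
  have hEab : IsMulCommutative (U ⊓ N : Subgroup G) := by
    refine ⟨⟨?_⟩⟩
    rintro ⟨a, ha⟩ ⟨b, hb⟩
    apply Subtype.ext
    have hb2 : b ∈ centralizer (U : Set G) := by rw [← hN]; exact hb.2
    exact mem_centralizer_iff.mp hb2 a ha.1
  have hE := hcent _ hEc hEab
  have hWN : W ≤ N := by
    intro w hw
    rw [hN, mem_centralizer_iff]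
    intro u hu
    rw [SetLike.mem_coe, hU, mem_centralizer_iff] at hu
    exact (hu w hw).symm
  have hNZ : N ≤ center G := by
    intro x hxN
    by_contra hxZ
    -- find a power of `x` outside the centre with `p`-th power in the centre
    obtain ⟨m, hm⟩ := hG x
    have hex : ∃ k, x ^ p ^ k ∈ center G := ⟨m, by rw [hm]; exact one_mem _⟩
    classical
    obtain ⟨k, hk⟩ : ∃ k, x ^ p ^ k ∉ center G ∧ x ^ p ^ (k + 1) ∈ center G := by
      have h0 : Nat.find hex ≠ 0 := by
        intro h0
        have := Nat.find_spec hex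
        rw [h0, pow_zero, pow_one] at this
        exact hxZ this
      obtain ⟨k, hk⟩ := Nat.exists_eq_succ_of_ne_zero h0
      refine ⟨k, Nat.find_min hex (by omega), ?_⟩
      have := Nat.find_spec hex
      rwa [hk] at this
    obtain ⟨x', hx'⟩ : ∃ x', x' = x ^ p ^ k := ⟨_, rfl⟩
    have hx'N : x' ∈ N := by rw [hx']; exact N.pow_mem hxN _
    have hx'p : x' ^ p ∈ center G := by
      rw [hx', ← pow_mul, ← pow_succ]; exact hk.2
    apply hk.1
    rw [← hx']
    apply hE
    refine ⟨?_, hx'N⟩
    rw [hU]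
    -- `x'` centralizes all `p`-th powers
    have hgen : W ≤ centralizer {x'} := by
      rw [hW, closure_le]
      rintro _ ⟨y, rfl⟩
      rw [SetLike.mem_coe, mem_centralizer_iff]
      intro h hh
      rw [Set.mem_singleton_iff] at hh
      subst hh
      obtain ⟨c, hc⟩ : ∃ c, c = ⁅y, h⁆ := ⟨_, rfl⟩
      have hcZ : c ∈ center G := by
        rw [hc]; exact hcl (commutator_mem_commutator (mem_top y) (mem_top h))
      have hcc : ∀ g : G, Commute c g := fun g => (mem_center_iff.mp hcZ g).symm
      -- `c ^ p = 1`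
      have hcp : c ^ p = 1 := by
        have h1 : y * h ^ p * y⁻¹ = h ^ p := by
          have := mem_center_iff.mp hx'p y
          rw [this]; group
        have h2 : y * h ^ p * y⁻¹ = (c * h) ^ p := by
          rw [← conj_pow]
          congr 1
          rw [hc, commutatorElement_def]; group
        rw [h2, (hcc h).mul_pow] at h1
        exact mul_eq_right.mp h1
      have h3 : h * y ^ p * h⁻¹ = (c⁻¹ * y) ^ p := by
        rw [← conj_pow]
        congr 1
        rw [hc, commutatorElement_inv, commutatorElement_def]; group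
      rw [(hcc y).inv_left.mul_pow, inv_pow, hcp, inv_one, one_mul] at h3
      calc h * y ^ p = h * y ^ p * h⁻¹ * h := by group
        _ = y ^ p * h := by rw [h3]
    show x' ∈ centralizer (W : Set G)
    rw [mem_centralizer_iff]
    intro w hw
    have := mem_centralizer_iff.mp (hgen hw) x' (Set.mem_singleton x')
    exact this.symm
  apply hNZ
  apply hWN
  rw [hW]
  exact Subgroup.subset_closure ⟨y, rfl⟩

end Cfsg.Agent.Lib.Helper1
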