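import Mathlib
import Cfsg.Prelude.Def_Transfer
import Cfsg.Agent.Lib.Helper1.Focal
import Cfsg.Agent.Lib.Helper1.CoprimeAbelian
import Cfsg.Agent.Lib.Helper8.PResidual

set_option autoImplicit false
open Pointwise
open scoped commutatorElement

namespace Cfsg.Agent.Lib.Helper1

open Subgroup

/-- `O^p(O^p(G)) = O^p(G)` -/
theorem pResidual_pResidual_eq_top {G : Type*} [Group G] (p : ℕ) :
    Cfsg.pResidual p ↥(Cfsg.pResidual p G) = ⊤ := by
  rw [eq_top_iff]
  intro x _
  have h1 : Cfsg.pResidual p G ≤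
      (Cfsg.pResidual p ↥(Cfsg.pResidual p G)).map (Cfsg.pResidual p G).subtype := by
    conv_lhs => unfold Cfsg.pResidual
    rw [Subgroup.closure_le]
    intro g hg
    have hgN : g ∈ Cfsg.pResidual p G := Subgroup.subset_closure hg
    refine ⟨⟨g, hgN⟩, ?_, rfl⟩
    apply Subgroup.subset_closure
    show Nat.Coprime (orderOf (⟨g, hgN⟩ : Cfsg.pResidual p G)) p
    rw [← Subgroup.orderOf_coe]; exact hg
  obtain ⟨y, hy, hyx⟩ := h1 x.2
  have : y = x := Subtype.ext hyx
  rwa [← this]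

/-- if `O^p(N) = N` then every `p`-subgroup of `N` lies in `N'` -/
theorem le_commutator_of_pResidual_eq_top {N : Type*} [Group N] [Finite N] {p : ℕ}
    [hp : Fact p.Prime] (hN : Cfsg.pResidual p N = ⊤) {Q : Subgroup N} (hQ : IsPGroup p Q) :
    Q ≤ commutator N := by
  obtain ⟨m, hm⟩ : ∃ m, m = ordCompl[p] (Nat.card N) := ⟨_, rfl⟩
  have hmcop : Nat.Coprime m p := by
    rw [hm]; exact (Nat.coprime_ordCompl hp.out (Nat.card_pos.ne')).symm
  have hcard : p ^ (Nat.card N).factorization p * m = Nat.card N := by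
    rw [hm]; exact Nat.ordProj_mul_ordCompl_eq_self _ _
  have hall : ∀ x : N, (Abelianization.of x) ^ m = 1 := by
    have : (⊤ : Subgroup N) ≤
        ((powMonoidHom m : Abelianization N →* Abelianization N).ker).comap Abelianization.of := by
      rw [← hN]
      unfold Cfsg.pResidual
      rw [Subgroup.closure_le]
      intro g hg
      have hg' : Nat.Coprime (orderOf g) p := hg
      rw [SetLike.mem_coe, Subgroup.mem_comap, MonoidHom.mem_ker, powMonoidHom_apply, ← map_pow]
      have : orderOf g ∣ m := by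
        have h1 : orderOf g ∣ p ^ (Nat.card N).factorization p * m := by
          rw [hcard]; exact orderOf_dvd_natCard g
        exact (Nat.Coprime.pow_right _ hg').dvd_of_dvd_mul_left h1
      rw [orderOf_dvd_iff_pow_eq_one.mp this, map_one]
    intro x
    have := this (Subgroup.mem_top x)
    rwa [Subgroup.mem_comap, MonoidHom.mem_ker, powMonoidHom_apply] at this
  intro x hx
  rw [← Abelianization.ker_of, MonoidHom.mem_ker]
  obtain ⟨k, hk⟩ := hQ ⟨x, hx⟩
  have hk' : x ^ p ^ k = 1 := by simpa using congrArg Subtype.val hk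
  have h1 : orderOf (Abelianization.of x) ∣ p ^ k := by
    apply orderOf_dvd_of_pow_eq_one; rw [← map_pow, hk', map_one]
  have h2 : orderOf (Abelianization.of x) ∣ m := orderOf_dvd_of_pow_eq_one (hall x)
  have h3 : orderOf (Abelianization.of x) ∣ 1 := by
    have := Nat.dvd_gcd h2 h1
    rwa [Nat.Coprime.pow_right k hmcop] at this
  exact orderOf_eq_one_iff.mp (Nat.dvd_one.mp h3)


/-- `[q, q₁ l] = [q, l]` when `q, q₁` lie in an abelian subgroup normalized by `l` -/
theorem commutatorElement_mul_right_of_abelian {G : Type*} [Group G] (Q : Subgroup G)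
    [IsMulCommutative Q] {q q₁ l : G} (hq : q ∈ Q) (hq₁ : q₁ ∈ Q)
    (hl : l ∈ normalizer (Q : Set G)) : ⁅q, q₁ * l⁆ = ⁅q, l⁆ := by
  have hc : ∀ a ∈ Q, ∀ b ∈ Q, a * b = b * a := fun a ha b hb =>
    congrArg Subtype.val (mul_comm' (⟨a, ha⟩ : Q) ⟨b, hb⟩)
  have h1 : ⁅q, l⁆ ∈ Q := by
    rw [commutatorElement_def]
    have : l * q⁻¹ * l⁻¹ ∈ Q := (Subgroup.mem_normalizer_iff.mp hl q⁻¹).mp (Q.inv_mem hq)
    have e : q * l * q⁻¹ * l⁻¹ = q * (l * q⁻¹ * l⁻¹) := by group
    rw [e]; exact Q.mul_mem hq this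
  have h2 : ⁅q, q₁ * l⁆ = q₁ * ⁅q, l⁆ * q₁⁻¹ := by
    simp only [commutatorElement_def, mul_inv_rev]
    calc q * (q₁ * l) * q⁻¹ * (l⁻¹ * q₁⁻¹) = (q * q₁) * l * q⁻¹ * l⁻¹ * q₁⁻¹ := by group
      _ = (q₁ * q) * l * q⁻¹ * l⁻¹ * q₁⁻¹ := by rw [hc q hq q₁ hq₁]
      _ = q₁ * (q * l * q⁻¹ * l⁻¹) * q₁⁻¹ := by group
  rw [h2, hc q₁ hq₁ _ h1, mul_inv_cancel_right]

/-- Gaschütz-type splitting: if `G/N` is a `p`-group and a Sylow `p`-subgroup of `N` is abelian
and contained in `N'`, then `N` has a complement in `G`. -/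
theorem exists_complement_of_abelian_sylow_le_commutator {G : Type*} [Group G] [Finite G]
    {p : ℕ} [hp : Fact p.Prime] (N : Subgroup G) [hNn : N.Normal] (hGN : IsPGroup p (G ⧸ N))
    (Q0 : Sylow p N) [IsMulCommutative Q0] (hQ0 : (Q0 : Subgroup N) ≤ commutator N) :
    ∃ K : Subgroup G, K.IsComplement' N := by
  -- Step 1: focal subgroup theorem inside `N`
  have hfocal : (Q0 : Subgroup N) =
      ⁅(Q0 : Subgroup N), normalizer ((Q0 : Subgroup N) : Set N)⁆ := by
    rw [← commutator_inf_sylow_eq_of_abelian Q0]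
    exact (inf_eq_right.mpr hQ0).symm
  obtain ⟨Q, hQdef⟩ : ∃ Q : Subgroup G, Q = (Q0 : Subgroup N).map N.subtype := ⟨_, rfl⟩
  have hQN : Q ≤ N := by rw [hQdef]; exact Subgroup.map_subtype_le _
  have hQp : IsPGroup p Q := by rw [hQdef]; exact Q0.2.map N.subtype
  have hQab : IsMulCommutative Q := by rw [hQdef]; exact Subgroup.map_isMulCommutative _ _
  obtain ⟨H, hHdef⟩ : ∃ H : Subgroup G, H = normalizer (Q : Set G) := ⟨_, rfl⟩
  obtain ⟨M, hMdef⟩ : ∃ M : Subgroup G, M = H ⊓ N := ⟨_, rfl⟩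
  have hQH : Q ≤ H := by rw [hHdef]; exact le_normalizer
  have hQM : Q ≤ M := by rw [hMdef]; exact le_inf hQH hQN
  have hMH : M ≤ H := by rw [hMdef]; exact inf_le_left
  have hMN : M ≤ N := by rw [hMdef]; exact inf_le_right
  have hMnQ : M ≤ normalizer (Q : Set G) := by rw [← hHdef]; exact hMH
  have hfocalG : Q ≤ ⁅Q, M⁆ := by
    have h1 : Q = ⁅Q, (normalizer ((Q0 : Subgroup N) : Set N)).map N.subtype⁆ := by
      rw [hQdef, ← Subgroup.map_commutator, ← hfocal]
    have h2 : (normalizer ((Q0 : Subgroup N) : Set N)).map N.subtype ≤ M := by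
      rw [hMdef, hHdef, hQdef]
      exact le_inf (Subgroup.le_normalizer_map _) (Subgroup.map_subtype_le _)
    calc Q = ⁅Q, (normalizer ((Q0 : Subgroup N) : Set N)).map N.subtype⁆ := h1
      _ ≤ ⁅Q, M⁆ := Subgroup.commutator_mono le_rfl h2
  -- Step 2: `Q` is a Sylow `p`-subgroup of `M`
  have hQidx : ¬ p ∣ Q.relIndex N := by
    have h1 : Q.subgroupOf N = (Q0 : Subgroup N) := by
      rw [hQdef]
      ext x
      rw [Subgroup.mem_subgroupOf]
      constructor
      · rintro ⟨y, hy, hyx⟩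
        have : y = x := Subtype.ext hyx
        rwa [← this]
      · intro hx; exact ⟨x, hx, rfl⟩
    rw [Subgroup.relIndex, h1]
    exact Q0.not_dvd_index
  have hQidxM : ¬ p ∣ Q.relIndex M := by
    intro hdvd
    apply hQidx
    rw [← Subgroup.relIndex_mul_relIndex Q M N hQM hMN]
    exact Dvd.dvd.mul_right hdvd _
  obtain ⟨a, ha⟩ := IsPGroup.iff_card.mp hQp
  have hcopQM : Nat.Coprime (Nat.card Q) (Q.relIndex M) := by
    rw [ha]; exact Nat.Coprime.pow_left _ ((Nat.Prime.coprime_iff_not_dvd hp.out).mpr hQidxM)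
  -- Step 3: a complement `L` of `Q` in `M`
  obtain ⟨L, hL⟩ := internal_sz_exists hQM hMnQ hcopQM
  have hLM : L ≤ M := hL.2.1
  have hLcard : Nat.card L = Q.relIndex M := by
    have h1 := hL.card_mul_card
    have h2 : Nat.card Q * Q.relIndex M = Nat.card M := by
      have := Subgroup.relIndex_mul_relIndex (⊥ : Subgroup G) Q M bot_le hQM
      rwa [Subgroup.relIndex_bot_left, Subgroup.relIndex_bot_left] at this
    exact Nat.eq_of_mul_eq_mul_left Nat.card_pos (h1.trans h2.symm)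
  have hLp : Nat.Coprime (Nat.card L) p := by
    rw [hLcard]; exact ((Nat.Prime.coprime_iff_not_dvd hp.out).mpr hQidxM).symm
  have hcopQL : Nat.Coprime (Nat.card Q) (Nat.card L) := by rw [hLcard]; exact hcopQM
  have hLnQ : L ≤ normalizer (Q : Set G) := hLM.trans hMnQ
  -- Step 4: `C_Q(L) = 1`
  have hQL : Q ≤ ⁅Q, L⁆ := by
    refine hfocalG.trans ?_
    rw [Subgroup.commutator_le]
    intro q hq x hx
    obtain ⟨q₁, hq₁, l, hl, rfl⟩ := hL.2.2.2 x hx
    rw [commutatorElement_mul_right_of_abelian Q hq hq₁ (hLnQ hl)]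
    exact Subgroup.commutator_mem_commutator hq hl
  have hCQL : Q ⊓ centralizer (L : Set G) = ⊥ := by
    have h1 := centralizer_inf_commutator_eq_bot L Q hLnQ hcopQL.symm
    rw [eq_bot_iff, ← h1]
    exact le_inf le_rfl (inf_le_left.trans hQL)
  -- Step 5: Frattini argument: `H = Q (N_H(L))`
  obtain ⟨T, hTdef⟩ : ∃ T : Subgroup G, T = normalizer (L : Set G) ⊓ H := ⟨_, rfl⟩
  have hHT : H ≤ Q ⊔ T := by
    intro h hh
    have hhQ : h ∈ normalizer (Q : Set G) := by rw [← hHdef]; exact hh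
    have hhN : ∀ x, x ∈ M → h * x * h⁻¹ ∈ M := by
      intro x hx
      rw [hMdef] at hx ⊢
      exact ⟨H.mul_mem (H.mul_mem hh hx.1) (H.inv_mem hh), hNn.conj_mem x hx.2 h⟩
    have hL₁ : IsComplIn Q (MulAut.conj h • L) M := by
      refine ⟨hQM, ?_, ?_, ?_⟩
      · intro x hx
        rw [Subgroup.mem_pointwise_smul_iff_inv_smul_mem] at hx
        have := hhN _ (hLM hx)
        simpa [MulAut.smul_def, mul_assoc] using this
      · rw [Subgroup.disjoint_def]
        intro x hxQ hxL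
        rw [Subgroup.mem_pointwise_smul_iff_inv_smul_mem] at hxL
        have h1 : h⁻¹ * x * h ∈ Q := by
          have := (Subgroup.mem_normalizer_iff.mp (Subgroup.inv_mem _ hhQ) x).mp hxQ
          simpa using this
        have h2 : h⁻¹ * x * h ∈ L := by simpa [MulAut.smul_def] using hxL
        have h3 := Subgroup.disjoint_def.mp hL.2.2.1 h1 h2
        have : x = h * (h⁻¹ * x * h) * h⁻¹ := by group
        rw [this, h3]; group
      · intro γ hγ
        have h1 : h⁻¹ * γ * h ∈ M := by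
          have hh' : h⁻¹ ∈ H := H.inv_mem hh
          rw [hMdef] at hγ ⊢
          refine ⟨H.mul_mem (H.mul_mem hh' hγ.1) hh, ?_⟩
          have := hNn.conj_mem γ hγ.2 h⁻¹
          simpa using this
        obtain ⟨k, hk, a', ha', hka⟩ := hL.2.2.2 _ h1
        refine ⟨h * k * h⁻¹, (Subgroup.mem_normalizer_iff.mp hhQ k).mp hk, h * a' * h⁻¹, ?_, ?_⟩
        · rw [Subgroup.mem_pointwise_smul_iff_inv_smul_mem]
          simpa [MulAut.smul_def, mul_assoc] using ha'
        · calc h * k * h⁻¹ * (h * a' * h⁻¹) = h * (k * a') * h⁻¹ := by group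
            _ = h * (h⁻¹ * γ * h) * h⁻¹ := by rw [hka]
            _ = γ := by group
    have hQsolv : Group.IsSolvable Q := isSolvable_of_comm (fun a b => mul_comm' a b)
    obtain ⟨k, hk, hkL⟩ := internal_sz_conj hMnQ hL hL₁ hcopQL (Or.inl hQsolv)
    rw [← mul_smul, ← map_mul] at hkL
    have hkhT : k * h ∈ T := by
      rw [hTdef]
      refine ⟨?_, H.mul_mem (hQH hk) hh⟩
      show k * h ∈ normalizer (L : Set G)
      rw [Subgroup.mem_normalizer_iff_map_conj_eq]
      exact hkL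
    have e : h = k⁻¹ * (k * h) := by group
    rw [e]
    exact Subgroup.mul_mem_sup (Q.inv_mem hk) hkhT
  -- Step 6: `T ∩ N = L`
  have hLT : L ≤ T := by
    rw [hTdef]; exact le_inf le_normalizer (hLM.trans hMH)
  have hTN : T ⊓ N ≤ L := by
    intro t ht
    have htT : t ∈ normalizer (L : Set G) := by
      have := ht.1; rw [hTdef] at this; exact this.1
    have htM : t ∈ M := by
      have := ht.1; rw [hTdef] at this
      rw [hMdef]; exact ⟨this.2, ht.2⟩
    obtain ⟨q, hq, l, hl, rfl⟩ := hL.2.2.2 t htM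
    have hqn : q ∈ normalizer (L : Set G) := by
      have := Subgroup.mul_mem _ htT (Subgroup.inv_mem _ (le_normalizer hl))
      simpa using this
    have hqc : q ∈ centralizer (L : Set G) := by
      rw [Subgroup.mem_centralizer_iff]
      intro l' hl'
      have h1 : q * l' * q⁻¹ * l'⁻¹ ∈ L :=
        L.mul_mem ((Subgroup.mem_normalizer_iff.mp hqn l').mp hl') (L.inv_mem hl')
      have h2 : q * l' * q⁻¹ * l'⁻¹ ∈ Q := by
        have : l' * q⁻¹ * l'⁻¹ ∈ Q :=
          (Subgroup.mem_normalizer_iff.mp (hLnQ hl') q⁻¹).mp (Q.inv_mem hq)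
        have e : q * l' * q⁻¹ * l'⁻¹ = q * (l' * q⁻¹ * l'⁻¹) := by group
        rw [e]; exact Q.mul_mem hq this
      have h3 := Subgroup.disjoint_def.mp hL.2.2.1 h2 h1
      calc l' * q = (q * l' * q⁻¹ * l'⁻¹)⁻¹ * q * l' := by group
        _ = q * l' := by rw [h3]; group
    have hq1 : q = 1 := by
      have : q ∈ Q ⊓ centralizer (L : Set G) := ⟨hq, hqc⟩
      rw [hCQL] at this
      exact this
    rw [hq1, one_mul]; exact hl
  -- Step 7: a complement `K` of `L` in `T`
  have hTnL : T ≤ normalizer (L : Set G) := by rw [hTdef]; exact inf_le_left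
  have hLidx : Nat.Coprime (Nat.card L) (L.relIndex T) := by
    have h1 : L.relIndex T = N.relIndex T := by
      have : L = T ⊓ N := le_antisymm (le_inf hLT (hLM.trans hMN)) hTN
      rw [this, Subgroup.inf_relIndex_left]
    obtain ⟨b, hb⟩ := IsPGroup.iff_card.mp hGN
    have h2 : N.relIndex T ∣ p ^ b := by
      rw [← hb, ← Subgroup.index_eq_card]
      exact Subgroup.relIndex_dvd_index_of_normal N T
    obtain ⟨c, _, hc⟩ := (Nat.dvd_prime_pow hp.out).mp h2
    rw [h1, hc]
    exact Nat.Coprime.pow_right _ hLp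
  obtain ⟨K, hK⟩ := internal_sz_exists hLT hTnL hLidx
  refine ⟨K, ?_⟩
  apply Subgroup.isComplement'_of_disjoint_and_mul_eq_univ
  · rw [Subgroup.disjoint_def]
    intro x hxK hxN
    have hxL : x ∈ L := hTN ⟨hK.2.1 hxK, hxN⟩
    exact Subgroup.disjoint_def.mp hK.2.2.1 hxL hxK
  · rw [← Subgroup.mul_normal, ← Subgroup.coe_top, SetLike.coe_set_eq, eq_top_iff]
    have hfr : normalizer (((Q0 : Subgroup N).map N.subtype : Subgroup G) : Set G) ⊔ N = ⊤ :=
      Sylow.normalizer_sup_eq_top Q0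
    rw [← hfr, ← hQdef, ← hHdef]
    have hTLK : T ≤ L ⊔ K := by
      intro t ht
      obtain ⟨l, hl, k, hk, rfl⟩ := hK.2.2.2 t ht
      exact Subgroup.mul_mem_sup hl hk
    have hLN : L ≤ N := hLM.trans hMN
    refine sup_le (hHT.trans (sup_le (hQN.trans le_sup_right) (hTLK.trans ?_))) le_sup_right
    exact sup_le (hLN.trans le_sup_right) le_sup_left
end Cfsg.Agent.Lib.Helper1
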