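import Mathlib
import Cfsg.Prelude.Def_Solvable
import Cfsg.Prelude.Def_SolvableStructure
import Cfsg.Agent.Lib.Helper1.SqfDefs
import Cfsg.Agent.Lib.Helper13.SqfA1
import Cfsg.Agent.Lib.Helper26.SqfB
import Cfsg.Agent.Lib.Helper22.SqfD2
import Cfsg.Agent.Lib.Helper18.SqfD1
import Cfsg.Agent.Lib.Helper4.SupersolvableComm
import Cfsg.Agent.Lib.Helper1.Fitting

/-!
# Squarefree class sizes: solvability and supersolvability (wrappers for S4130)
-/

set_option autoImplicit false

namespace Cfsg.Agent.Lib.Helper1.Sqf

open Subgroup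

universe u

theorem isSolvable_aux : ∀ (n : ℕ) (G : Type u) [Group G] [Finite G], Nat.card G = n → SF G →
    Group.IsSolvable G := by
  intro n
  induction n using Nat.strong_induction_on with
  | _ n ih =>
    intro G _ _ hn h
    by_cases hex : ∃ N : Subgroup G, N.Normal ∧ N ≠ ⊥ ∧ N ≠ ⊤
    · obtain ⟨N, hNn, hN1, hN2⟩ := hex
      have := hNn
      have hcN : Nat.card N < n := by
        rw [← hn]
        have h1 := N.card_mul_index
        have hidx : 1 < N.index := by
          have h0 : N.index ≠ 0 := Subgroup.index_ne_zero_of_finite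
          have h1' : N.index ≠ 1 := fun hh => hN2 (Subgroup.index_eq_one.mp hh)
          omega
        have hpos : 0 < Nat.card N := Nat.card_pos
        nlinarith
      have hcQ : Nat.card (G ⧸ N) < n := by
        rw [← hn]
        have h1 := N.card_mul_index
        rw [Subgroup.index] at h1
        have hc1 : 1 < Nat.card N := by
          have : Nontrivial N := (Subgroup.nontrivial_iff_ne_bot N).mpr hN1
          exact Finite.one_lt_card
        have hpos : 0 < Nat.card (G ⧸ N) := Nat.card_pos
        nlinarith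
      have hsN : Group.IsSolvable N := ih _ hcN N rfl (h.subgroup N)
      have hsQ : Group.IsSolvable (G ⧸ N) := ih _ hcQ (G ⧸ N) rfl (h.quotient N)
      exact Group.isSolvable_of_ker_le_range N.subtype (QuotientGroup.mk' N)
        (by rw [QuotientGroup.ker_mk', Subgroup.range_subtype])
    · -- `G` is trivial or simple
      by_cases hsub : Subsingleton G
      · exact inferInstance
      · have hnt : Nontrivial G := not_subsingleton_iff_nontrivial.mp hsub
        have : IsSimpleGroup G := by
          refine ⟨fun N hN => ?_⟩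
          by_contra hcon
          push Not at hcon
          exact hex ⟨N, hN, hcon.1, hcon.2⟩
        by_cases hab : ∀ a b : G, a * b = b * a
        · exact Group.isSolvable_of_comm hab
        · exfalso
          push Not at hab
          exact Cfsg.Agent.Lib.Helper13.SqfLeaf.not_sf_of_simple hab h

/-- A finite group all of whose class sizes are squarefree is solvable. -/
theorem SF.isSolvable {G : Type u} [Group G] [Finite G] (h : SF G) : Group.IsSolvable G :=
  isSolvable_aux _ G rfl h

theorem isSupersolvable_aux : ∀ (n : ℕ) (G : Type u) [Group G] [Finite G], Nat.card G = n → SF G →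
    Cfsg.IsSupersolvable G := by
  intro n
  induction n using Nat.strong_induction_on with
  | _ n ih =>
    intro G _ _ hn h
    by_cases hsub : Subsingleton G
    · exact Cfsg.Agent.Lib.Helper4.isSupersolvable_of_subsingleton
    · have hnt : Nontrivial G := not_subsingleton_iff_nontrivial.mp hsub
      obtain ⟨N, hNn, hNp⟩ :=
        Cfsg.Agent.Lib.Helper26.SqfLeaf.exists_normal_prime_card h h.isSolvable
      have := hNn
      have : Fact (Nat.card N).Prime := ⟨hNp⟩
      have hcyc : IsCyclic N := isCyclic_of_prime_card rfl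
      have hcQ : Nat.card (G ⧸ N) < n := by
        rw [← hn]
        have h1 := N.card_mul_index
        rw [Subgroup.index] at h1
        have hc1 : 1 < Nat.card N := hNp.one_lt
        have hpos : 0 < Nat.card (G ⧸ N) := Nat.card_pos
        nlinarith
      have hQ := ih _ hcQ (G ⧸ N) rfl (h.quotient N)
      exact Cfsg.Agent.Lib.Helper4.isSupersolvable_of_cyclic_normal N hQ

/-- A finite group all of whose class sizes are squarefree is supersolvable. -/
theorem SF.isSupersolvable {G : Type u} [Group G] [Finite G] (h : SF G) :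
    Cfsg.IsSupersolvable G :=
  isSupersolvable_aux _ G rfl h


/-- The quotient by `O_p(G)` has no nontrivial normal `p`-subgroup. -/
theorem normal_pgroup_quot_pCore_eq_bot {G : Type u} [Group G] [Finite G] (p : ℕ) [Fact p.Prime]
    [hn : (Cfsg.pCore p G).Normal] (N : Subgroup (G ⧸ Cfsg.pCore p G)) (hN : N.Normal)
    (hNp : IsPGroup p N) : N = ⊥ := by
  set Q := Cfsg.pCore p G with hQ
  have h1 : IsPGroup p (N.comap (QuotientGroup.mk' Q)) := by
    apply hNp.comap_of_ker_isPGroup
    rw [QuotientGroup.ker_mk']
    exact Cfsg.Agent.Lib.Helper1.pCore_isPGroup p G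
  have h2 : N.comap (QuotientGroup.mk' Q) ≤ Q :=
    Cfsg.Agent.Lib.Helper1.le_pCore (hN.comap _) h1
  rw [eq_bot_iff]
  intro x hx
  obtain ⟨g, rfl⟩ := QuotientGroup.mk'_surjective Q x
  have hg : g ∈ Q := h2 (by rw [Subgroup.mem_comap]; exact hx)
  rw [Subgroup.mem_bot]
  exact (QuotientGroup.eq_one_iff g).mpr hg

theorem commutator_le_fitting {G : Type u} [Group G] [Finite G]
    (hss : Cfsg.IsSupersolvable G) : commutator G ≤ Cfsg.fittingSubgroup G :=
  Cfsg.Agent.Lib.Helper1.le_fittingSubgroup inferInstance
    (Cfsg.Agent.Lib.Helper4.isNilpotent_commutator_of_isSupersolvable hss)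

/-- `|G : F(G)|` is squarefree. -/
theorem SF.squarefree_index_fitting {G : Type u} [Group G] [Finite G] (h : SF G) :
    Squarefree (Cfsg.fittingSubgroup G).index := by
  have hss := h.isSupersolvable
  rw [Nat.squarefree_iff_prime_squarefree]
  intro p hp hdvd
  haveI : Fact p.Prime := ⟨hp⟩
  haveI hQn : (Cfsg.pCore p G).Normal := Cfsg.Agent.Lib.Helper1.pCore_normal p G
  have h1 : ¬ p ^ 2 ∣ Nat.card (G ⧸ Cfsg.pCore p G) :=
    Cfsg.Agent.Lib.Helper22.SqfLeaf.not_sq_dvd_card_of p
      (fun _ _ q _ V P _ hVab hVp hP hPab hfaith horb =>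
        Cfsg.Agent.Lib.Helper18.SqfLeaf.card_le_of_small_orbits q V P hVab hVp hP hPab hfaith horb)
      (h.quotient _) (Cfsg.Agent.Lib.Helper4.isSupersolvable_quotient hss _)
      (fun N hN hNp => normal_pgroup_quot_pCore_eq_bot p N hN hNp)
  apply h1
  have h2 : Cfsg.pCore p G ≤ Cfsg.fittingSubgroup G :=
    Cfsg.Agent.Lib.Helper1.le_fittingSubgroup hQn
      (Cfsg.Agent.Lib.Helper1.pCore_isPGroup p G).isNilpotent
  have h3 : (Cfsg.fittingSubgroup G).index ∣ (Cfsg.pCore p G).index :=
    Subgroup.index_dvd_of_le h2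
  rw [← Subgroup.index, pow_two]
  exact dvd_trans hdvd h3

end Cfsg.Agent.Lib.Helper1.Sqf

namespace Cfsg.Agent.Lib.Helper1.Sqf

open Subgroup

universe u

/-- `G/F(G)` is cyclic. -/
theorem SF.isCyclic_quotient_fitting {G : Type u} [Group G] [Finite G] (h : SF G)
    [hn : (Cfsg.fittingSubgroup G).Normal] : IsCyclic (G ⧸ Cfsg.fittingSubgroup G) := by
  have hss := h.isSupersolvable
  have hcomm : ∀ a b : G ⧸ Cfsg.fittingSubgroup G, a * b = b * a := by
    have := (Subgroup.Normal.quotient_commutative_iff_commutator_le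
      (N := Cfsg.fittingSubgroup G)).mpr (commutator_le_fitting hss)
    exact fun a b => this.is_comm.comm a b
  have hsq : Squarefree (Nat.card (G ⧸ Cfsg.fittingSubgroup G)) := by
    rw [← Subgroup.index]; exact h.squarefree_index_fitting
  haveI : IsZGroup (G ⧸ Cfsg.fittingSubgroup G) := IsZGroup.of_squarefree hsq
  letI : CommGroup (G ⧸ Cfsg.fittingSubgroup G) :=
    { (inferInstance : Group (G ⧸ Cfsg.fittingSubgroup G)) with mul_comm := hcomm }
  haveI : Group.IsNilpotent (G ⧸ Cfsg.fittingSubgroup G) := CommGroup.isNilpotent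
  infer_instance

end Cfsg.Agent.Lib.Helper1.Sqf
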