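import Mathlib
import Cfsg.Prelude.Def_Solvable
import Cfsg.Prelude.Def_SolvableStructure
import Cfsg.Agent.Lib.Helper1.SqfDefs
import Cfsg.Agent.Lib.Helper1.SqfMain
import Cfsg.Agent.Lib.Helper12.SqfE2
import Cfsg.Agent.Lib.Helper4.SupersolvableComm
import Cfsg.Agent.Lib.Helper1.Fitting
import Cfsg.Agent.Lib.Helper12.Cores

/-!
# Squarefree class sizes: the derived subgroup (wrapper E for S4130)
-/

set_option autoImplicit false

namespace Cfsg.Agent.Lib.Helper1.Sqf

open Subgroup
open scoped commutatorElement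

universe u

/-- The quotient by `O_{p'}(G)` has no nontrivial normal `p'`-subgroup. -/
theorem normal_p'_quot_pPrimeCore_eq_bot {G : Type u} [Group G] [Finite G] (p : ℕ)
    [hn : (Cfsg.pPrimeCore p G).Normal] (N : Subgroup (G ⧸ Cfsg.pPrimeCore p G)) (hN : N.Normal)
    (hNp : (Nat.card N).Coprime p) : N = ⊥ := by
  set Q := Cfsg.pPrimeCore p G with hQ
  have h1 : (Nat.card (N.comap (QuotientGroup.mk' Q))).Coprime p := by
    rw [Cfsg.Agent.Lib.Helper12.card_comap_mk']
    exact Nat.Coprime.mul_left (Cfsg.Agent.Lib.Helper12.pPrimeCore_coprime p) hNp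
  have h2 : N.comap (QuotientGroup.mk' Q) ≤ Q :=
    Cfsg.Agent.Lib.Helper12.le_pPrimeCore p _ (hN.comap _) h1
  rw [eq_bot_iff]
  intro x hx
  obtain ⟨g, rfl⟩ := QuotientGroup.mk'_surjective Q x
  have hg : g ∈ Q := h2 (by rw [Subgroup.mem_comap]; exact hx)
  rw [Subgroup.mem_bot]
  exact (QuotientGroup.eq_one_iff g).mpr hg

/-- A subgroup containing the derived subgroup is normal. -/
theorem normal_of_commutator_le {G : Type u} [Group G] (P : Subgroup G)
    (h : commutator G ≤ P) : P.Normal := by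
  refine ⟨fun n hn g => ?_⟩
  have h1 : ⁅g, n⁆ ∈ commutator G :=
    Subgroup.commutator_mem_commutator (Subgroup.mem_top g) (Subgroup.mem_top n)
  have h2 : g * n * g⁻¹ = ⁅g, n⁆ * n := by
    rw [commutatorElement_def]; group
  rw [h2]
  exact P.mul_mem (h h1) hn

theorem card_commutator_le_of_core_free {Γ : Type u} [Group Γ] [Finite Γ] (p : ℕ) [Fact p.Prime]
    (h : SF Γ) (hO : ∀ N : Subgroup Γ, N.Normal → (Nat.card N).Coprime p → N = ⊥) :
    Nat.card (commutator Γ) ≤ p := by
  have hp : p.Prime := Fact.out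
  have hss := h.isSupersolvable
  -- F(Γ) ≤ O_p(Γ)
  have hF : Cfsg.fittingSubgroup Γ ≤ Cfsg.pCore p Γ := by
    rw [Cfsg.Agent.Lib.Helper1.fittingSubgroup_eq_iSup_pCore]
    apply iSup_le
    intro q
    haveI : Fact (Nat.Prime (q : ℕ)) := ⟨q.2⟩
    by_cases hqp : (q : ℕ) = p
    · rw [hqp]
    · have hq := Cfsg.Agent.Lib.Helper1.pCore_isPGroup (q : ℕ) Γ
      obtain ⟨n, hn⟩ := IsPGroup.iff_card.mp hq
      have hcop : (Nat.card (Cfsg.pCore (q : ℕ) Γ)).Coprime p := by
        rw [hn]
        apply Nat.Coprime.pow_left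
        exact (Nat.coprime_primes q.2 hp).mpr hqp
      rw [hO _ (Cfsg.Agent.Lib.Helper1.pCore_normal _ Γ) hcop]
      exact bot_le
  obtain ⟨P⟩ : Nonempty (Sylow p Γ) := inferInstance
  have hFP : Cfsg.fittingSubgroup Γ ≤ (P : Subgroup Γ) :=
    hF.trans (Cfsg.Agent.Lib.Helper1.pCore_le_sylow P)
  have hcP : commutator Γ ≤ (P : Subgroup Γ) := (commutator_le_fitting hss).trans hFP
  have hPn : (P : Subgroup Γ).Normal := normal_of_commutator_le _ hcP
  obtain ⟨H, hH⟩ := Subgroup.exists_right_complement'_of_coprime (N := (P : Subgroup Γ))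
    P.card_coprime_index
  have hFn : (Cfsg.fittingSubgroup Γ).Normal := Cfsg.Agent.Lib.Helper1.fittingSubgroup_normal Γ
  have hcycQ : IsCyclic (Γ ⧸ Cfsg.fittingSubgroup Γ) := h.isCyclic_quotient_fitting
  -- `H` embeds in `Γ / F(Γ)`
  have hinj : Function.Injective ((QuotientGroup.mk' (Cfsg.fittingSubgroup Γ)).comp H.subtype) := by
    rw [injective_iff_map_eq_one]
    intro x hx
    have h1 : (x : Γ) ∈ Cfsg.fittingSubgroup Γ := by
      rw [MonoidHom.comp_apply] at hx
      exact (QuotientGroup.eq_one_iff (x : Γ)).mp hx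
    have h2 : (x : Γ) ∈ (P : Subgroup Γ) ⊓ H := ⟨hFP h1, x.2⟩
    rw [hH.disjoint.eq_bot, Subgroup.mem_bot] at h2
    exact Subtype.ext h2
  have hcycH : IsCyclic H := isCyclic_of_injective _ hinj
  obtain ⟨g, hg⟩ := hcycH.exists_generator
  have hHz : H = Subgroup.zpowers (g : Γ) := by
    apply le_antisymm
    · intro x hx
      obtain ⟨k, hk⟩ := Subgroup.mem_zpowers_iff.mp (hg ⟨x, hx⟩)
      rw [Subgroup.mem_zpowers_iff]
      refine ⟨k, ?_⟩
      have := congrArg (Subtype.val) hk
      simpa using this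
    · rw [Subgroup.zpowers_le]
      exact g.2
  have hcardH : Nat.card H = (P : Subgroup Γ).index := hH.symm.index_eq_card.symm
  have ht : (orderOf (g : Γ)).Coprime p := by
    have h1 : orderOf (g : Γ) ∣ Nat.card H := by
      rw [Subgroup.orderOf_coe g]
      exact orderOf_dvd_natCard g
    have h2 : ¬ p ∣ (P : Subgroup Γ).index := P.not_dvd_index
    have h3 : ((P : Subgroup Γ).index).Coprime p :=
      ((Nat.Prime.coprime_iff_not_dvd hp).mpr h2).symm
    rw [hcardH] at h1
    exact Nat.Coprime.coprime_dvd_left h1 h3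
  have hgen : (P : Subgroup Γ) ⊔ Subgroup.zpowers (g : Γ) = ⊤ := by
    rw [← hHz]; exact hH.sup_eq_top
  exact Cfsg.Agent.Lib.Helper12.SqfLeaf.card_commutator_le p h (P : Subgroup Γ) P.isPGroup' (g : Γ) ht hgen

/-- `|G'|` is squarefree. -/
theorem SF.squarefree_card_commutator {G : Type u} [Group G] [Finite G] (h : SF G) :
    Squarefree (Nat.card (commutator G)) := by
  rw [Nat.squarefree_iff_prime_squarefree]
  intro p hp hdvd
  haveI : Fact p.Prime := ⟨hp⟩
  have hLn : (Cfsg.pPrimeCore p G).Normal := Cfsg.Agent.Lib.Helper1.pPrimeCore_normal p G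
  set L := Cfsg.pPrimeCore p G with hL
  have h1 : Nat.card (commutator (G ⧸ L)) ≤ p :=
    card_commutator_le_of_core_free p (h.quotient L)
      (fun N hN hNp => normal_p'_quot_pPrimeCore_eq_bot p N hN hNp)
  have hmap : (commutator G).map (QuotientGroup.mk' L) = commutator (G ⧸ L) := by
    rw [commutator_def, commutator_def, Subgroup.map_commutator,
      ← MonoidHom.range_eq_map, MonoidHom.range_eq_top.mpr (QuotientGroup.mk'_surjective L)]
  have hle : commutator G ≤ (commutator (G ⧸ L)).comap (QuotientGroup.mk' L) := by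
    rw [← hmap]; exact Subgroup.le_comap_map _ _
  have h2 : Nat.card (commutator G) ∣ Nat.card L * Nat.card (commutator (G ⧸ L)) := by
    rw [← Cfsg.Agent.Lib.Helper12.card_comap_mk']
    exact Subgroup.card_dvd_of_le hle
  have h3 : p * p ∣ Nat.card (commutator (G ⧸ L)) := by
    have hc : (Nat.card L).Coprime (p * p) :=
      Nat.Coprime.mul_right (Cfsg.Agent.Lib.Helper12.pPrimeCore_coprime p)
        (Cfsg.Agent.Lib.Helper12.pPrimeCore_coprime p)
    exact (Nat.Coprime.dvd_of_dvd_mul_left hc.symm (dvd_trans hdvd h2))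
  have h4 : p * p ≤ Nat.card (commutator (G ⧸ L)) := Nat.le_of_dvd Nat.card_pos h3
  have h5 : 2 ≤ p := hp.two_le
  nlinarith

/-- `G'` is cyclic. -/
theorem SF.isCyclic_commutator {G : Type u} [Group G] [Finite G] (h : SF G) :
    IsCyclic (commutator G) := by
  have hss := h.isSupersolvable
  haveI : Group.IsNilpotent (commutator G) :=
    Cfsg.Agent.Lib.Helper4.isNilpotent_commutator_of_isSupersolvable hss
  haveI : IsZGroup (commutator G) := IsZGroup.of_squarefree h.squarefree_card_commutator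
  infer_instance

/-- `G` is metabelian. -/
theorem SF.commutator_commutator {G : Type u} [Group G] [Finite G] (h : SF G) :
    commutator ↥(commutator G) = ⊥ := by
  haveI := h.isCyclic_commutator
  rw [commutator_eq_bot_iff]
  exact IsCyclic.isMulCommutative

end Cfsg.Agent.Lib.Helper1.Sqf
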