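import Mathlib
import Cfsg.Agent.Lib.Helper1.MaxClassTwo

/-! Suzuki's lemma: a `p`-group with a self-centralizing subgroup of order `p ^ 2`, or with a
nonabelian subgroup of order `p ^ 3` containing its centralizer, has maximal class. -/

namespace Cfsg.Agent.Lib.Helper1

open Subgroup
open scoped commutatorElement

universe u

variable {p : ℕ} [hp : Fact p.Prime]

/-- a group of order `p ^ k` with `k ≤ 2` is abelian -/
theorem isMulCommutative_of_card_pow_le_two {Y : Type*} [Group Y] (k : ℕ) (hk : k ≤ 2)
    (h : Nat.card Y = p ^ k) : IsMulCommutative Y := by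
  rcases Nat.lt_or_ge k 2 with h2 | h2
  · have : IsCyclic Y := isCyclic_of_card_pow_le_one k (by omega) h
    exact IsCyclic.isMulCommutative
  · have hk2 : k = 2 := by omega
    subst hk2
    exact IsPGroup.isMulCommutative_of_card_eq_prime_sq h

/-- the centralizer of a nonabelian subgroup `B` of order `p ^ 3` containing its centralizer has
order `p` -/
theorem card_centralizer_of_nonabelian_cube {Y : Type*} [Group Y] [Finite Y] (B : Subgroup Y)
    (hB : Nat.card B = p ^ 3) (hBna : ¬ IsMulCommutative B)
    (hC : centralizer (B : Set Y) ≤ B) : Nat.card (centralizer (B : Set Y)) = p := by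
  have hBp : IsPGroup p B := IsPGroup.of_card hB
  have hmap : (center B).map B.subtype = centralizer (B : Set Y) := by
    ext x
    constructor
    · rintro ⟨y, hy, rfl⟩
      rw [mem_centralizer_iff]
      intro b hb
      have := mem_center_iff.mp hy ⟨b, hb⟩
      exact congrArg Subtype.val this
    · intro hx
      refine ⟨⟨x, hC hx⟩, ?_, rfl⟩
      rw [SetLike.mem_coe, mem_center_iff]
      intro b
      apply Subtype.ext
      exact mem_centralizer_iff.mp hx b b.2
  rw [← hmap, Subgroup.card_subtype]
  have hnt : Nontrivial B := by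
    by_contra h
    rw [not_nontrivial_iff_subsingleton] at h
    exact hBna ⟨⟨fun a b => Subsingleton.elim _ _⟩⟩
  have hZnt : Nontrivial (center B) := hBp.center_nontrivial
  obtain ⟨k, hk⟩ := IsPGroup.iff_card.mp (hBp.to_subgroup (center B))
  have hk1 : 1 ≤ k := by
    rcases Nat.eq_zero_or_pos k with h | h
    · rw [h, pow_zero] at hk
      have := (Nat.card_eq_one_iff_unique.mp hk).1
      exact absurd hZnt (not_nontrivial _)
    · exact h
  have hmul := Subgroup.card_eq_card_quotient_mul_card_subgroup (center B)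
  rw [hB, hk] at hmul
  have hk3 : k ≤ 3 := by
    have : p ^ k ∣ p ^ 3 := ⟨_, by rw [hmul, mul_comm]⟩
    exact (Nat.pow_dvd_pow_iff_le_right hp.out.one_lt).mp this
  have hq : Nat.card (B ⧸ center B) = p ^ (3 - k) := by
    have h1 : p ^ 3 = p ^ (3 - k) * p ^ k := by rw [← pow_add]; congr 1; omega
    rw [h1] at hmul
    exact (Nat.eq_of_mul_eq_mul_right (pow_pos hp.out.pos k) hmul).symm
  by_cases hk2 : 2 ≤ k
  · exfalso
    apply hBna
    have hcyc : IsCyclic (B ⧸ center B) := isCyclic_of_card_pow_le_one (3 - k) (by omega) hq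
    exact MonoidHom.isMulCommutative_of_isCyclic_of_ker_le_center (QuotientGroup.mk' (center B))
      (by rw [QuotientGroup.ker_mk'])
  · have : k = 1 := by omega
    rw [hk, this, pow_one]

/-- commutators of elements of such a `B` lie in its centralizer (= centre) -/
theorem commutator_mem_centralizer_of_nonabelian_cube {Y : Type*} [Group Y] [Finite Y]
    (B : Subgroup Y) (hB : Nat.card B = p ^ 3) (hBna : ¬ IsMulCommutative B)
    (hC : centralizer (B : Set Y) ≤ B) (x y : Y) (hx : x ∈ B) (hy : y ∈ B) :
    ⁅x, y⁆ ∈ centralizer (B : Set Y) := by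
  have hcard := card_centralizer_of_nonabelian_cube B hB hBna hC
  have hmap : (center B).map B.subtype = centralizer (B : Set Y) := by
    ext x
    constructor
    · rintro ⟨y, hy, rfl⟩
      rw [mem_centralizer_iff]
      intro b hb
      have := mem_center_iff.mp hy ⟨b, hb⟩
      exact congrArg Subtype.val this
    · intro hx
      refine ⟨⟨x, hC hx⟩, ?_, rfl⟩
      rw [SetLike.mem_coe, mem_center_iff]
      intro b
      apply Subtype.ext
      exact mem_centralizer_iff.mp hx b b.2
  have hcZ : Nat.card (center B) = p := by rw [← Subgroup.card_subtype, hmap, hcard]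
  have hmul := Subgroup.card_eq_card_quotient_mul_card_subgroup (center B)
  rw [hB, hcZ] at hmul
  have hq : Nat.card (B ⧸ center B) = p ^ 2 := by
    have h1 : p ^ 3 = p ^ 2 * p := by ring
    rw [h1] at hmul
    exact (Nat.eq_of_mul_eq_mul_right hp.out.pos hmul).symm
  have hab : IsMulCommutative (B ⧸ center B) := IsPGroup.isMulCommutative_of_card_eq_prime_sq hq
  have h1 : ⁅(⟨x, hx⟩ : B), (⟨y, hy⟩ : B)⁆ ∈ center B := by
    rw [← QuotientGroup.ker_mk' (center B), MonoidHom.mem_ker, map_commutatorElement,
      commutatorElement_eq_one_iff_commute]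
    exact hab.is_comm.comm _ _
  rw [← hmap]
  exact ⟨_, h1, rfl⟩

/-- a nonabelian group of order `p ^ 3` is generated by two elements -/
theorem exists_closure_pair_eq {Y : Type*} [Group Y] [Finite Y] (B : Subgroup Y)
    (hB : Nat.card B = p ^ 3) (hBna : ¬ IsMulCommutative B) :
    ∃ a ∈ B, ∃ b ∈ B, closure ({a, b} : Set Y) = B := by
  have hex : ∃ a b : B, a * b ≠ b * a := by
    by_contra h
    push Not at h
    exact hBna ⟨⟨h⟩⟩
  obtain ⟨a, b, hab⟩ := hex
  refine ⟨a, a.2, b, b.2, ?_⟩
  have hle : closure ({(a : Y), (b : Y)} : Set Y) ≤ B := by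
    rw [closure_le]
    intro x hx
    rcases hx with rfl | rfl
    · exact a.2
    · exact b.2
  apply Subgroup.eq_of_le_of_card_ge hle
  have hdvd : Nat.card (closure ({(a : Y), (b : Y)} : Set Y)) ∣ p ^ 3 := by
    rw [← hB]; exact Subgroup.card_dvd_of_le hle
  obtain ⟨k, hk3, hk⟩ := (Nat.dvd_prime_pow hp.out).mp hdvd
  by_cases hk2 : k ≤ 2
  · exfalso
    have hcomm := isMulCommutative_of_card_pow_le_two k hk2 hk
    have haC : (a : Y) ∈ closure ({(a : Y), (b : Y)} : Set Y) :=
      Subgroup.subset_closure (Set.mem_insert _ _)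
    have hbC : (b : Y) ∈ closure ({(a : Y), (b : Y)} : Set Y) :=
      Subgroup.subset_closure (Set.mem_insert_of_mem _ rfl)
    have := hcomm.is_comm.comm (⟨a, haC⟩ : closure ({(a : Y), (b : Y)} : Set Y)) ⟨b, hbC⟩
    apply hab
    apply Subtype.ext
    show (a : Y) * (b : Y) = (b : Y) * (a : Y)
    exact congrArg Subtype.val this
  · have : k = 3 := by omega
    rw [hB, hk, this]

/-- `⁅x * y, a⁆ = ⁅x, a⁆ * ⁅y, a⁆` when `⁅y, a⁆` is central -/
theorem commutatorElement_mul_left_of_mem_center {Y : Type*} [Group Y] (x y a : Y)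
    (h : ⁅y, a⁆ ∈ center Y) : ⁅x * y, a⁆ = ⁅x, a⁆ * ⁅y, a⁆ := by
  have h' : y * a * y⁻¹ * a⁻¹ ∈ center Y := h
  have h1 : x * (y * a * y⁻¹ * a⁻¹) = (y * a * y⁻¹ * a⁻¹) * x := mem_center_iff.mp h' x
  have h2 : (x * a * x⁻¹ * a⁻¹) * (y * a * y⁻¹ * a⁻¹) = (y * a * y⁻¹ * a⁻¹) * (x * a * x⁻¹ * a⁻¹) :=
    mem_center_iff.mp h' _
  rw [commutatorElement_def, commutatorElement_def, commutatorElement_def]
  calc x * y * a * (x * y)⁻¹ * a⁻¹
      = (x * (y * a * y⁻¹ * a⁻¹)) * (a * x⁻¹ * a⁻¹) := by group
    _ = ((y * a * y⁻¹ * a⁻¹) * x) * (a * x⁻¹ * a⁻¹) := by rw [h1]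
    _ = (y * a * y⁻¹ * a⁻¹) * (x * a * x⁻¹ * a⁻¹) := by group
    _ = (x * a * x⁻¹ * a⁻¹) * (y * a * y⁻¹ * a⁻¹) := h2.symm

/-- **Key sublemma**: modulo the centre, `B` is still self-centralizing -/
theorem centralizer_map_le_of_nonabelian_cube {Y : Type*} [Group Y] [Finite Y] (B : Subgroup Y)
    (hB : Nat.card B = p ^ 3) (hBna : ¬ IsMulCommutative B)
    (hC : centralizer (B : Set Y) ≤ B) (hZ : center Y = centralizer (B : Set Y)) :
    centralizer ((B.map (QuotientGroup.mk' (center Y)) : Subgroup (Y ⧸ center Y)) : Set (Y ⧸ center Y))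
      ≤ B.map (QuotientGroup.mk' (center Y)) := by
  set π := QuotientGroup.mk' (center Y) with hπ
  have hker : π.ker = center Y := QuotientGroup.ker_mk' _
  have hcard := card_centralizer_of_nonabelian_cube B hB hBna hC
  have hZcard : Nat.card (center Y) = p := by rw [hZ]; exact hcard
  obtain ⟨a, ha, b, hb, hgen⟩ := exists_closure_pair_eq B hB hBna
  set K : Subgroup Y := (centralizer ((B.map π : Subgroup (Y ⧸ center Y)) : Set (Y ⧸ center Y))).comap π
    with hK
  -- membership in `K`
  have hKmem : ∀ x, x ∈ K ↔ ∀ y ∈ B, ⁅x, y⁆ ∈ center Y := by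
    intro x
    rw [hK, mem_comap, mem_centralizer_iff]
    constructor
    · intro h y hy
      have := h (π y) (mem_map_of_mem π hy)
      rw [← hker, MonoidHom.mem_ker, map_commutatorElement, commutatorElement_eq_one_iff_commute]
      exact this.symm
    · rintro h _ ⟨y, hy, rfl⟩
      have := h y hy
      rw [← hker, MonoidHom.mem_ker, map_commutatorElement,
        commutatorElement_eq_one_iff_commute] at this
      exact this.symm
  have hBK : B ≤ K := by
    intro x hx
    rw [hKmem]
    intro y hy
    rw [hZ]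
    exact commutator_mem_centralizer_of_nonabelian_cube B hB hBna hC x y hx hy
  -- the homomorphism `θ`
  have hcen : ∀ z ∈ center Y, ∀ g : Y, g * z = z * g := fun z hz g => mem_center_iff.mp hz g
  let θ : K →* (center Y) × (center Y) :=
    { toFun := fun x => (⟨⁅(x : Y), a⁆, (hKmem x).mp x.2 a ha⟩, ⟨⁅(x : Y), b⁆, (hKmem x).mp x.2 b hb⟩)
      map_one' := by
        apply Prod.ext <;> apply Subtype.ext <;> simp
      map_mul' := by
        intro x y
        apply Prod.ext <;> apply Subtype.ext
        · exact commutatorElement_mul_left_of_mem_center (x : Y) (y : Y) a ((hKmem y).mp y.2 a ha)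
        · exact commutatorElement_mul_left_of_mem_center (x : Y) (y : Y) b ((hKmem y).mp y.2 b hb) }
  have hθker : θ.ker.map K.subtype ≤ center Y := by
    rintro _ ⟨x, hx, rfl⟩
    rw [SetLike.mem_coe, MonoidHom.mem_ker] at hx
    have h1 : ⁅(x : Y), a⁆ = 1 := congrArg (fun q => ((q.1 : center Y) : Y)) hx
    have h2 : ⁅(x : Y), b⁆ = 1 := congrArg (fun q => ((q.2 : center Y) : Y)) hx
    rw [commutatorElement_eq_one_iff_commute] at h1 h2
    rw [hZ, ← hgen]
    show (x : Y) ∈ centralizer ((closure ({a, b} : Set Y) : Subgroup Y) : Set Y)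
    rw [Subgroup.centralizer_closure, mem_centralizer_iff]
    intro g hg
    rcases hg with rfl | rfl
    · exact h1.eq.symm
    · exact h2.eq.symm
  have hKcard : Nat.card K ≤ p ^ 3 := by
    rw [Subgroup.card_eq_card_quotient_mul_card_subgroup θ.ker,
      Nat.card_congr (QuotientGroup.quotientKerEquivRange θ).toEquiv]
    have h1 : Nat.card θ.range ≤ p ^ 2 := by
      calc Nat.card θ.range ≤ Nat.card ((center Y) × (center Y)) :=
            Nat.card_le_card_of_injective _ Subtype.val_injective
        _ = p ^ 2 := by rw [Nat.card_prod, hZcard]; ring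
    have h2 : Nat.card θ.ker ≤ p := by
      rw [← Subgroup.card_subtype K θ.ker, ← hZcard]
      exact Subgroup.card_le_of_le hθker
    calc Nat.card θ.range * Nat.card θ.ker ≤ p ^ 2 * p := Nat.mul_le_mul h1 h2
      _ = p ^ 3 := by ring
  have hKB : B = K := Subgroup.eq_of_le_of_card_ge hBK (by rw [hB]; exact hKcard)
  intro q hq
  obtain ⟨x, rfl⟩ := QuotientGroup.mk'_surjective (center Y) q
  have hxK : x ∈ K := by rw [hK, mem_comap]; exact hq
  rw [← hKB] at hxK
  exact mem_map_of_mem π hxK

/-- **Suzuki's lemma**: a group of order `p ^ m` with a self-centralizing subgroup of order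
`p ^ 2`, or a nonabelian subgroup of order `p ^ 3` containing its centralizer, has class `m - 1`. -/
theorem nilpotencyClass_of_selfCentralizing :
    ∀ (m : ℕ) (Y : Type u) [Group Y] [Finite Y], Nat.card Y = p ^ m →
      ((∃ A : Subgroup Y, Nat.card A = p ^ 2 ∧ centralizer (A : Set Y) ≤ A) ∨
       (∃ B : Subgroup Y, Nat.card B = p ^ 3 ∧ ¬ IsMulCommutative B ∧
          centralizer (B : Set Y) ≤ B)) →
      Group.nilpotencyClass Y = m - 1 := by
  intro m
  induction m with
  | zero =>
    intro Y _ _ hcard h
    exfalso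
    rw [pow_zero] at hcard
    have h1 : ∀ H : Subgroup Y, Nat.card H = 1 := fun H =>
      Nat.dvd_one.mp (hcard ▸ Subgroup.card_subgroup_dvd_card H)
    have hp1 := hp.out.one_lt
    rcases h with ⟨A, hA, -⟩ | ⟨B, hB, -, -⟩
    · rw [h1 A] at hA
      have : 1 < p ^ 2 := Nat.one_lt_pow (by norm_num) hp1
      omega
    · rw [h1 B] at hB
      have : 1 < p ^ 3 := Nat.one_lt_pow (by norm_num) hp1
      omega
  | succ m IH =>
    intro Y _ _ hcard h
    have hY : IsPGroup p Y := IsPGroup.of_card hcard
    have hnil : Group.IsNilpotent Y := hY.isNilpotent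
    have hp1 := hp.out.one_lt
    have claimB : ∀ B : Subgroup Y, Nat.card B = p ^ 3 → ¬ IsMulCommutative B →
        centralizer (B : Set Y) ≤ B → Group.nilpotencyClass Y = m := by
      intro B hB hBna hC
      have hnt : Nontrivial Y := by
        by_contra h
        rw [not_nontrivial_iff_subsingleton] at h
        exact hBna ⟨⟨fun a b => Subsingleton.elim _ _⟩⟩
      have hcB := card_centralizer_of_nonabelian_cube B hB hBna hC
      have hZ : center Y = centralizer (B : Set Y) := by
        apply Subgroup.eq_of_le_of_card_ge (Subgroup.center_le_centralizer _)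
        rw [hcB]
        have hZnt : Nontrivial (center Y) := hY.center_nontrivial
        obtain ⟨k, hk⟩ := IsPGroup.iff_card.mp (hY.to_subgroup (center Y))
        have hk1 : 1 ≤ k := by
          rcases Nat.eq_zero_or_pos k with h | h
          · rw [h, pow_zero] at hk
            have := (Nat.card_eq_one_iff_unique.mp hk).1
            exact absurd hZnt (not_nontrivial _)
          · exact h
        rw [hk]
        calc p = p ^ 1 := (pow_one p).symm
          _ ≤ p ^ k := Nat.pow_le_pow_right hp.out.pos hk1
      have hZcard : Nat.card (center Y) = p := by rw [hZ]; exact hcB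
      have hKS := centralizer_map_le_of_nonabelian_cube B hB hBna hC hZ
      have hm3 : 3 ≤ m + 1 := by
        have : p ^ 3 ∣ p ^ (m + 1) := by
          rw [← hB, ← hcard]; exact Subgroup.card_subgroup_dvd_card B
        exact (Nat.pow_dvd_pow_iff_le_right hp1).mp this
      have hmul := Subgroup.card_eq_card_quotient_mul_card_subgroup (center Y)
      rw [hcard, hZcard, pow_succ] at hmul
      have hq : Nat.card (Y ⧸ center Y) = p ^ m :=
        (Nat.eq_of_mul_eq_mul_right hp.out.pos hmul).symm
      have hidx : (B.map (QuotientGroup.mk' (center Y))).index = B.index :=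
        Subgroup.index_map_eq B (QuotientGroup.mk'_surjective _)
          (by rw [QuotientGroup.ker_mk', hZ]; exact hC)
      have hBidx : B.index = p ^ (m - 2) := by
        have h1 := B.card_mul_index
        rw [hB, hcard] at h1
        have h2 : p ^ (m + 1) = p ^ 3 * p ^ (m - 2) := by rw [← pow_add]; congr 1; omega
        rw [h2] at h1
        exact Nat.eq_of_mul_eq_mul_left (pow_pos hp.out.pos 3) h1
      have hmapcard : Nat.card (B.map (QuotientGroup.mk' (center Y))) = p ^ 2 := by
        have h1 := (B.map (QuotientGroup.mk' (center Y))).card_mul_index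
        rw [hidx, hBidx, hq] at h1
        have h2 : p ^ m = p ^ 2 * p ^ (m - 2) := by rw [← pow_add]; congr 1; omega
        rw [h2] at h1
        exact Nat.eq_of_mul_eq_mul_right (pow_pos hp.out.pos _) h1
      have hcl := IH (Y ⧸ center Y) hq (Or.inl ⟨_, hmapcard, hKS⟩)
      rw [Group.nilpotencyClass_eq_quotient_center_plus_one, hcl]
      omega
    rcases h with ⟨A, hA, hCA⟩ | ⟨B, hB, hBna, hC⟩
    · have hm2 : 2 ≤ m + 1 := by
        have : p ^ 2 ∣ p ^ (m + 1) := by
          rw [← hA, ← hcard]; exact Subgroup.card_subgroup_dvd_card A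
        exact (Nat.pow_dvd_pow_iff_le_right hp1).mp this
      by_cases hm : m + 1 = 2
      · have hab : IsMulCommutative Y := isMulCommutative_of_card_pow_le_two (m + 1) (by omega) hcard
        have h1 := Group.IsNilpotent.nilpotencyClass_le_one_iff.mpr hab
        have hnt : Nontrivial Y := by
          rw [← Finite.one_lt_card_iff_nontrivial, hcard]
          exact Nat.one_lt_pow (by omega) hp1
        have h0 : Group.nilpotencyClass Y ≠ 0 := by
          intro h0
          rw [Group.nilpotencyClass_zero_iff_subsingleton] at h0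
          exact not_subsingleton Y h0
        omega
      · have hm3 : 3 ≤ m + 1 := by omega
        obtain ⟨K, hK, hAK⟩ := Sylow.exists_subgroup_card_pow_succ (p := p) (n := 2)
          (by rw [hcard]; exact pow_dvd_pow p hm3) hA
        have hK : Nat.card K = p ^ 3 := hK
        apply claimB K hK
        · intro hKab
          have hKA : K ≤ A := fun k hk => hCA (by
            rw [mem_centralizer_iff]
            intro a ha
            exact congrArg Subtype.val (hKab.is_comm.comm ⟨a, hAK ha⟩ ⟨k, hk⟩))
          have := Subgroup.card_le_of_le hKA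
          rw [hK, hA] at this
          have : p ^ 2 < p ^ 3 := Nat.pow_lt_pow_right hp1 (by norm_num)
          omega
        · exact le_trans (Subgroup.centralizer_le hAK) (le_trans hCA hAK)
    · exact claimB B hB hBna hC

end Cfsg.Agent.Lib.Helper1
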