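import Mathlib

/-!
Helper1: a bound for the number of elements inverted by an involutory automorphism of a `3`-group
(used for `3`-transposition groups `H` with `F*(H) = O₂(H)` and `H = O_{2,3,2}(H)`).
-/

set_option autoImplicit false
set_option linter.unusedSectionVars false
set_option linter.unusedVariables false

open Subgroup
open scoped commutatorElement

namespace Cfsg.Agent.Lib.Helper1.T3O2

/-- in a `3`-group an element with trivial square is trivial -/
theorem eq_one_of_sq_of_three {P : Type*} [Group P] (hP : IsPGroup 3 P) {a : P}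
    (h2 : a ^ 2 = 1) : a = 1 := by
  obtain ⟨k, hk⟩ := hP a
  have h1 : orderOf a ∣ 2 := orderOf_dvd_of_pow_eq_one h2
  have h3 : orderOf a ∣ 3 ^ k := orderOf_dvd_of_pow_eq_one hk
  have hc : Nat.Coprime 2 (3 ^ k) := Nat.Coprime.pow_right k (by norm_num)
  have := Nat.eq_one_of_dvd_coprimes hc h1 h3
  exact orderOf_eq_one_iff.mp this

/-- Let `δ` be an involutory automorphism of a finite `3`-group `P` generated by the elements inverted
by `δ`.  Assume inverted elements have order dividing `3`, that two commuting inverted elements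
generate a cyclic group, and that the `δ`-fixed central elements of order dividing `3` form a group
of order at most `3`.  Then there are at most `9` inverted elements. -/
theorem inv_bound {P : Type*} [Group P] [Finite P] (hP : IsPGroup 3 P) (δ : MulAut P)
    (hδ : ∀ p, δ (δ p) = p)
    (h3 : ∀ a : P, δ a = a⁻¹ → a ^ 3 = 1)
    (hcyc : ∀ a b : P, δ a = a⁻¹ → δ b = b⁻¹ → Commute a b → a ≠ 1 → b = 1 ∨ b = a ∨ b = a⁻¹)
    (hcen : ∀ z₁ z₂ : P, z₁ ∈ center P → z₂ ∈ center P → δ z₁ = z₁ → δ z₂ = z₂ →
      z₁ ^ 3 = 1 → z₂ ^ 3 = 1 → z₁ ≠ 1 → z₂ = 1 ∨ z₂ = z₁ ∨ z₂ = z₁⁻¹)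
    (hgen : closure {a : P | δ a = a⁻¹} = ⊤) :
    ∃ s : Finset P, s.card ≤ 9 ∧ ∀ a : P, δ a = a⁻¹ → a ∈ s := by
  classical
  by_cases hZ : ∃ z ∈ center P, δ z = z⁻¹ ∧ z ≠ 1
  · obtain ⟨z, hzc, hzi, hz1⟩ := hZ
    refine ⟨{1, z, z⁻¹}, ?_, ?_⟩
    · exact le_trans Finset.card_le_three (by norm_num : 3 ≤ 9)
    · intro a ha
      have hc : Commute z a := by
        rw [mem_center_iff] at hzc
        exact (hzc a).symm
      rcases hcyc z a hzi ha hc hz1 with h | h | h <;> simp [h]
  · push Not at hZ
    -- the center is fixed by `δ`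
    have hδc : ∀ z ∈ center P, δ z ∈ center P := by
      intro z hz
      rw [mem_center_iff] at hz ⊢
      intro p
      have := congrArg δ (hz (δ p))
      rw [map_mul, map_mul, hδ] at this
      exact this
    have hZfix : ∀ z ∈ center P, δ z = z := by
      intro z hz
      have hz' := hδc z hz
      have h1 : z⁻¹ * δ z ∈ center P := mul_mem (inv_mem hz) hz'
      have h2 : δ (z⁻¹ * δ z) = (z⁻¹ * δ z)⁻¹ := by
        rw [map_mul, map_inv, hδ, mul_inv_rev, inv_inv]
      have := hZ _ h1 h2
      exact (inv_mul_eq_one.mp this).symm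
    by_cases hab : center P = ⊤
    · refine ⟨{1}, by simp, ?_⟩
      intro a ha
      have h1 : δ a = a := hZfix a (by rw [hab]; exact mem_top a)
      rw [h1] at ha
      have h2 : a ^ 2 = 1 := by
        rw [pow_two]
        nth_rewrite 1 [ha]
        exact inv_mul_cancel a
      rw [eq_one_of_sq_of_three hP h2]
      simp
    · -- an element of the second center outside the center
      set Z2 : Subgroup P := Subgroup.upperCentralSeriesStep (center P) with hZ2
      have hZ2mem : ∀ g : P, g ∈ Z2 ↔ ∀ p : P, ⁅g, p⁆ ∈ center P := fun g => Iff.rfl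
      obtain ⟨g, hgZ2, hgZ⟩ : ∃ g ∈ Z2, g ∉ center P := by
        haveI : Nontrivial (P ⧸ center P) := by
          by_contra hnt
          rw [not_nontrivial_iff_subsingleton] at hnt
          apply hab
          rw [eq_top_iff]
          intro p _
          have : (QuotientGroup.mk p : P ⧸ center P) = 1 := Subsingleton.elim _ _
          exact (QuotientGroup.eq_one_iff p).mp this
        have hPq : IsPGroup 3 (P ⧸ center P) := hP.to_quotient (center P)
        haveI : Fact (Nat.Prime 3) := ⟨by norm_num⟩
        have hnt := hPq.center_nontrivial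
        obtain ⟨⟨q, hq⟩, hq1⟩ := exists_ne (1 : center (P ⧸ center P))
        obtain ⟨g, rfl⟩ := QuotientGroup.mk_surjective q
        refine ⟨g, ?_, ?_⟩
        · rw [hZ2, Subgroup.upperCentralSeriesStep_eq_comap_center]
          exact hq
        · intro hg
          apply hq1
          apply Subtype.ext
          exact (QuotientGroup.eq_one_iff g).mpr hg
      -- commutators with elements of `Z2` that are fixed vanish on inverted elements
      have hfixZ : ∀ g ∈ Z2, δ g = g → g ∈ center P := by
        intro g hg hfix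
        have hcomm : ∀ a : P, δ a = a⁻¹ → Commute g a := by
          intro a ha
          have hc : ⁅g, a⁆ ∈ center P := (hZ2mem g).mp hg a
          have hcf := hZfix _ hc
          have e1 : δ ⁅g, a⁆ = ⁅g, a⁻¹⁆ := by
            rw [commutatorElement_def, commutatorElement_def, map_mul, map_mul, map_mul, map_inv,
              map_inv, hfix, ha]
          have e2 : ⁅g, a⁻¹⁆ = ⁅g, a⁆⁻¹ := by
            have hcc : ∀ p : P, p * ⁅g, a⁆ = ⁅g, a⁆ * p := by
              intro p
              rw [mem_center_iff] at hc
              exact hc p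
            have : ⁅g, a⁻¹⁆ * ⁅g, a⁆ = 1 := by
              have h5 : ⁅g, a⁻¹⁆ * ⁅g, a⁆ = g * a⁻¹ * g⁻¹ * (a * ⁅g, a⁆) := by
                rw [commutatorElement_def g a⁻¹, inv_inv]; group
              rw [h5, hcc a, commutatorElement_def]; group
            exact eq_inv_of_mul_eq_one_left this
          have h4 : ⁅g, a⁆ ^ 2 = 1 := by
            rw [pow_two]
            nth_rewrite 1 [← hcf]
            rw [e1, e2]
            exact inv_mul_cancel _
          have h5 := eq_one_of_sq_of_three hP h4
          exact (commutatorElement_eq_one_iff_commute).mp h5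
        rw [mem_center_iff]
        have hle : closure {a : P | δ a = a⁻¹} ≤ centralizer {g} := by
          rw [closure_le]
          intro a ha
          rw [SetLike.mem_coe, mem_centralizer_iff]
          intro y hy
          rw [Set.mem_singleton_iff] at hy
          rw [hy]
          exact (hcomm a ha).eq
        intro p
        have hp : p ∈ centralizer {g} := hle (by rw [hgen]; exact mem_top p)
        rw [mem_centralizer_iff] at hp
        exact (hp g rfl).symm
      have hgfix : δ g ≠ g := fun h => hgZ (hfixZ g hgZ2 h)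
      -- the inverted element `a` of the second center
      have hδZ2 : δ g ∈ Z2 := by
        have hchar : Z2.Characteristic := by rw [hZ2]; infer_instance
        have := (Subgroup.characteristic_iff_comap_eq.mp hchar) δ
        have h2 : g ∈ Z2.comap δ.toMonoidHom := by rw [this]; exact hgZ2
        exact h2
      set a : P := g⁻¹ * δ g with ha
      have haZ2 : a ∈ Z2 := mul_mem (inv_mem hgZ2) hδZ2
      have hainv : δ a = a⁻¹ := by
        rw [ha, map_mul, map_inv, hδ, mul_inv_rev, inv_inv]
      have ha1 : a ≠ 1 := by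
        intro h
        apply hgfix
        exact (inv_mul_eq_one.mp h).symm
      have haZ : a ∉ center P := fun h => ha1 (hZ a h hainv)
      have ha3 : a ^ 3 = 1 := h3 a hainv
      -- the commutator map
      have hcZ : ∀ p : P, ⁅a, p⁆ ∈ center P := (hZ2mem a).mp haZ2
      have hcc : ∀ p q : P, q * ⁅a, p⁆ = ⁅a, p⁆ * q := by
        intro p q
        have := hcZ p
        rw [mem_center_iff] at this
        exact this q
      have hconj : ∀ p : P, a * p * a⁻¹ = ⁅a, p⁆ * p := by
        intro p
        rw [commutatorElement_def]; group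
      have hmul : ∀ p q : P, ⁅a, p * q⁆ = ⁅a, p⁆ * ⁅a, q⁆ := by
        intro p q
        have h1 : ⁅a, p * q⁆ = (a * p * a⁻¹) * (a * q * a⁻¹) * (p * q)⁻¹ := by
          rw [commutatorElement_def]; group
        rw [h1, hconj, hconj]
        calc ⁅a, p⁆ * p * (⁅a, q⁆ * q) * (p * q)⁻¹ = ⁅a, p⁆ * (p * ⁅a, q⁆) * p⁻¹ := by group
          _ = ⁅a, p⁆ * (⁅a, q⁆ * p) * p⁻¹ := by rw [hcc q p]
          _ = ⁅a, p⁆ * ⁅a, q⁆ := by group
      have hc1 : ⁅a, (1 : P)⁆ = 1 := by rw [commutatorElement_def]; group
      have hcinv : ∀ p : P, ⁅a, p⁻¹⁆ = ⁅a, p⁆⁻¹ := by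
        intro p
        have := hmul p p⁻¹
        rw [mul_inv_cancel, hc1] at this
        exact eq_inv_of_mul_eq_one_right this.symm
      have hc3 : ∀ p : P, ⁅a, p⁆ ^ 3 = 1 := by
        intro p
        have h1 : ∀ n : ℕ, a ^ n * p * (a ^ n)⁻¹ = ⁅a, p⁆ ^ n * p := by
          intro n
          induction n with
          | zero => simp
          | succ n ih =>
            have e : a ^ (n + 1) * p * (a ^ (n + 1))⁻¹ = a * (a ^ n * p * (a ^ n)⁻¹) * a⁻¹ := by
              rw [pow_succ']; group
            rw [e, ih]
            have hcn : a * ⁅a, p⁆ ^ n = ⁅a, p⁆ ^ n * a := by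
              have : Commute a ⁅a, p⁆ := hcc p a
              exact (this.pow_right n).eq
            calc a * (⁅a, p⁆ ^ n * p) * a⁻¹ = (a * ⁅a, p⁆ ^ n) * (p * a⁻¹) := by group
              _ = ⁅a, p⁆ ^ n * a * (p * a⁻¹) := by rw [hcn]
              _ = ⁅a, p⁆ ^ n * (a * p * a⁻¹) := by group
              _ = ⁅a, p⁆ ^ n * (⁅a, p⁆ * p) := by rw [hconj]
              _ = ⁅a, p⁆ ^ (n + 1) * p := by rw [pow_succ]; group
        have := h1 3
        rw [ha3] at this
        simpa using this.symm
      have hcfix : ∀ p : P, δ ⁅a, p⁆ = ⁅a, p⁆ := fun p => hZfix _ (hcZ p)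
      obtain ⟨r, hr⟩ : ∃ r : P, ⁅a, r⁆ ≠ 1 := by
        by_contra hcon
        push Not at hcon
        apply haZ
        rw [mem_center_iff]
        intro p
        exact ((commutatorElement_eq_one_iff_commute).mp (hcon p)).eq.symm
      -- coset representatives of the centralizer of `a`
      have hrep : ∀ p : P, ∃ c : P, Commute c a ∧ (p = c ∨ p = c * r ∨ p = c * r⁻¹) := by
        intro p
        rcases hcen ⁅a, r⁆ ⁅a, p⁆ (hcZ r) (hcZ p) (hcfix r) (hcfix p) (hc3 r) (hc3 p) hr
          with h | h | h
        · exact ⟨p, ((commutatorElement_eq_one_iff_commute).mp h).symm, Or.inl rfl⟩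
        · refine ⟨p * r⁻¹, ?_, Or.inr (Or.inl (by group))⟩
          have : ⁅a, p * r⁻¹⁆ = 1 := by rw [hmul, hcinv, h, mul_inv_cancel]
          exact ((commutatorElement_eq_one_iff_commute).mp this).symm
        · refine ⟨p * r, ?_, Or.inr (Or.inr (by group))⟩
          have : ⁅a, p * r⁆ = 1 := by rw [hmul, h, inv_mul_cancel]
          exact ((commutatorElement_eq_one_iff_commute).mp this).symm
      -- the inverted elements centralizing `a`
      have ht : ∀ c : P, Commute c a → c⁻¹ * δ c = 1 ∨ c⁻¹ * δ c = a ∨ c⁻¹ * δ c = a⁻¹ := by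
        intro c hc
        have h1 : δ (c⁻¹ * δ c) = (c⁻¹ * δ c)⁻¹ := by
          rw [map_mul, map_inv, hδ, mul_inv_rev, inv_inv]
        have h2 : Commute (δ c) a := by
          have h3 : Commute (δ c) (δ a) := by
            show δ c * δ a = δ a * δ c
            rw [← map_mul, ← map_mul, hc.eq]
          rw [hainv] at h3
          have := h3.inv_right
          rwa [inv_inv] at this
        have h4 : Commute a (c⁻¹ * δ c) := (hc.symm.inv_right).mul_right h2.symm
        exact hcyc a _ hainv h1 h4 ha1
      refine ⟨(({1, r, r⁻¹} : Finset P) ×ˢ ({1, a, a⁻¹} : Finset P)).image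
        (fun pt => pt.1⁻¹ * pt.2 * δ pt.1), ?_, ?_⟩
      · refine Finset.card_image_le.trans ?_
        rw [Finset.card_product]
        calc ({1, r, r⁻¹} : Finset P).card * ({1, a, a⁻¹} : Finset P).card ≤ 3 * 3 :=
              Nat.mul_le_mul Finset.card_le_three Finset.card_le_three
          _ = 9 := by norm_num
      · intro b hb
        have hb3 := h3 b hb
        have hbb : b = b⁻¹ * δ b := by
          rw [hb]
          have : b * (b * b) = 1 := by rw [← hb3]; simp [pow_succ, mul_assoc]
          calc b = (b * (b * b)) * (b⁻¹ * b⁻¹) := by group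
            _ = b⁻¹ * b⁻¹ := by rw [this, one_mul]
        obtain ⟨c, hca, hpc⟩ := hrep b
        rw [Finset.mem_image]
        rcases hpc with h | h | h
        · rcases ht c hca with h' | h' | h'
          · refine ⟨(1, 1), by simp, ?_⟩
            simp only [inv_one, map_one, mul_one]
            rw [hbb, h, h']
          · refine ⟨(1, a), by simp, ?_⟩
            simp only [inv_one, map_one, mul_one, one_mul]
            rw [hbb, h, h']
          · refine ⟨(1, a⁻¹), by simp, ?_⟩
            simp only [inv_one, map_one, mul_one, one_mul]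
            rw [hbb, h, h']
        · have e : b = r⁻¹ * (c⁻¹ * δ c) * δ r := by
            rw [hbb]
            nth_rewrite 1 2 [h]
            rw [map_mul]; group
          rcases ht c hca with h' | h' | h'
          · exact ⟨(r, 1), by simp, by rw [e, h']⟩
          · exact ⟨(r, a), by simp, by rw [e, h']⟩
          · exact ⟨(r, a⁻¹), by simp, by rw [e, h']⟩
        · have e : b = (r⁻¹)⁻¹ * (c⁻¹ * δ c) * δ r⁻¹ := by
            rw [hbb]
            nth_rewrite 1 2 [h]
            rw [map_mul]; group
          rcases ht c hca with h' | h' | h'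
          · exact ⟨(r⁻¹, 1), by simp, by rw [e, h']⟩
          · exact ⟨(r⁻¹, a), by simp, by rw [e, h']⟩
          · exact ⟨(r⁻¹, a⁻¹), by simp, by rw [e, h']⟩

end Cfsg.Agent.Lib.Helper1.T3O2
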