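import Mathlib
import Cfsg.Agent.Lib.Helper1.TraceIdentity
import Cfsg.Agent.Lib.Helper1.T3O2A

/-!
Helper1: a group generated by a class of `3`-transpositions `d^X`, with `d * d^g` in a `3`-group,
acting faithfully and irreducibly on a `2`-group `U` such that the fixed points of `d * d^g ≠ 1`
are fixed by `d`: the class has at most `9` members.
-/

set_option autoImplicit false
set_option linter.unusedSectionVars false
set_option linter.unusedVariables false

open Subgroup
open scoped commutatorElement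

namespace Cfsg.Agent.Lib.Helper1.T3O2

open Cfsg.Agent.Lib.Helper1 (fixSub mem_fixSub iSup_fixSub_eq_top)

theorem module_bound {X U : Type*} [Group X] [Finite X] [Group U] [Finite U] [Nontrivial U]
    (hU : IsPGroup 2 U) (ρ : X →* MulAut U) (hρ : Function.Injective ρ)
    (hirr : ∀ W : Subgroup U, (∀ g : X, ∀ w ∈ W, ρ g w ∈ W) → W = ⊥ ∨ W = ⊤)
    (P : Subgroup X) (hP : IsPGroup 3 P) (d : X) (hd : d * d = 1)
    (hgen : closure {y | ∃ g : X, y = g * d * g⁻¹} = ⊤)
    (hPd : ∀ g : X, d * (g * d * g⁻¹) ∈ P)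
    (hT3 : ∀ g : X, (d * (g * d * g⁻¹)) ^ 3 = 1)
    (hP1 : ∀ g : X, d * (g * d * g⁻¹) ≠ 1 →
      ∀ u : U, ρ (d * (g * d * g⁻¹)) u = u → ρ d u = u) :
    ∃ s : Finset X, s.card ≤ 9 ∧ ∀ g : X, g * d * g⁻¹ ∈ s := by
  classical
  haveI : Fact (Nat.Prime 2) := ⟨Nat.prime_two⟩
  haveI : Fact (Nat.Prime 3) := ⟨Nat.prime_three⟩
  have hdi : d⁻¹ = d := inv_eq_of_mul_eq_one_left hd
  set S₀ : Set X := {a | ∃ g : X, a = d * (g * d * g⁻¹)} with hS₀
  set P₀ : Subgroup X := closure S₀ with hP₀
  have hP₀P : P₀ ≤ P := by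
    rw [hP₀, closure_le]
    rintro a ⟨g, rfl⟩
    exact hPd g
  have hP₀3 : IsPGroup 3 P₀ := hP.to_le hP₀P
  have hS₀inv : ∀ a ∈ S₀, d * a * d⁻¹ = a⁻¹ := by
    rintro a ⟨g, rfl⟩
    rw [mul_inv_rev, mul_inv_rev, mul_inv_rev, inv_inv, hdi]
    calc d * (d * (g * d * g⁻¹)) * d = (d * d) * (g * d * g⁻¹) * d := by group
      _ = g * (d * g⁻¹) * d := by rw [hd]; group
  have hdP₀ : ∀ p ∈ P₀, d * p * d⁻¹ ∈ P₀ := by
    intro p hp
    induction hp using closure_induction with
    | mem a ha => rw [hS₀inv a ha]; exact inv_mem (subset_closure ha)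
    | one => simp
    | mul a b _ _ iha ihb =>
      have : d * (a * b) * d⁻¹ = (d * a * d⁻¹) * (d * b * d⁻¹) := by group
      rw [this]; exact mul_mem iha ihb
    | inv a _ iha =>
      have : d * a⁻¹ * d⁻¹ = (d * a * d⁻¹)⁻¹ := by group
      rw [this]; exact inv_mem iha
  have hdd : ∀ p : X, d * (d * p * d⁻¹) * d⁻¹ = p := by
    intro p
    rw [hdi]
    calc d * (d * p * d) * d = (d * d) * p * (d * d) := by group
      _ = p := by rw [hd, one_mul, mul_one]
  let δ : MulAut P₀ :=
    { toFun := fun p => ⟨d * p * d⁻¹, hdP₀ p p.2⟩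
      invFun := fun p => ⟨d * p * d⁻¹, hdP₀ p p.2⟩
      left_inv := by
        intro p
        apply Subtype.ext
        exact hdd p
      right_inv := by
        intro p
        apply Subtype.ext
        exact hdd p
      map_mul' := by
        intro p q
        apply Subtype.ext
        show d * (p * q : X) * d⁻¹ = (d * p * d⁻¹) * (d * q * d⁻¹)
        group }
  have hδapp : ∀ p : P₀, ((δ p : P₀) : X) = d * p * d⁻¹ := fun p => rfl
  have hδδ : ∀ p, δ (δ p) = p := by
    intro p
    apply Subtype.ext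
    rw [hδapp, hδapp]
    exact hdd p
  have hδinv : ∀ a : P₀, δ a = a⁻¹ ↔ d * (a : X) * d⁻¹ = (a : X)⁻¹ := by
    intro a
    constructor
    · intro h
      have := congrArg Subtype.val h
      rw [hδapp] at this
      rw [this]; rfl
    · intro h
      apply Subtype.ext
      rw [hδapp, h]; rfl
  -- inverted elements of `P₀` have the form `d * d^g`
  have hkey : ∀ a : X, a ∈ P₀ → d * a * d⁻¹ = a⁻¹ → ∃ g : X, a = d * (g * d * g⁻¹) := by
    intro a haP hai
    obtain ⟨k, hk⟩ := hP₀3 ⟨a, haP⟩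
    have hk' : a ^ (3 ^ k) = 1 := by
      have := congrArg Subtype.val hk
      simpa using this
    have hodd : Odd (3 ^ k) := Odd.pow (by decide)
    obtain ⟨t, ht⟩ := hodd
    set b := a ^ (t + 1) with hb
    have hbb : b * b = a := by
      rw [hb, ← pow_add]
      have : t + 1 + (t + 1) = 3 ^ k + 1 := by omega
      rw [this, pow_succ, hk', one_mul]
    have hbi : d * b * d⁻¹ = b⁻¹ := by
      rw [hb, ← conj_pow, hai, inv_pow]
    refine ⟨b⁻¹, ?_⟩
    rw [inv_inv]
    have h1 : d * b⁻¹ * d⁻¹ = b := by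
      have : d * b⁻¹ * d⁻¹ = (d * b * d⁻¹)⁻¹ := by group
      rw [this, hbi, inv_inv]
    calc a = b * b := hbb.symm
      _ = (d * b⁻¹ * d⁻¹) * b := by rw [h1]
      _ = d * (b⁻¹ * d * b) := by rw [hdi]; group
  have hinv3 : ∀ a : X, a ∈ P₀ → d * a * d⁻¹ = a⁻¹ → a ^ 3 = 1 := by
    intro a ha hi
    obtain ⟨g, rfl⟩ := hkey a ha hi
    exact hT3 g
  have hinvP1 : ∀ a : X, a ∈ P₀ → d * a * d⁻¹ = a⁻¹ → a ≠ 1 →
      ∀ u : U, ρ a u = u → ρ d u = u := by
    intro a ha hi ha1
    obtain ⟨g, rfl⟩ := hkey a ha hi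
    exact hP1 g ha1
  -- (i)
  have h3' : ∀ a : P₀, δ a = a⁻¹ → a ^ 3 = 1 := by
    intro a ha
    apply Subtype.ext
    have := hinv3 a a.2 ((hδinv a).mp ha)
    simpa using this
  -- (ii)
  have hcyc : ∀ a b : P₀, δ a = a⁻¹ → δ b = b⁻¹ → Commute a b → a ≠ 1 →
      b = 1 ∨ b = a ∨ b = a⁻¹ := by
    intro a b ha hb hab ha1
    by_contra hcon
    push Not at hcon
    obtain ⟨hb1, hba, hbai⟩ := hcon
    have ha' := (hδinv a).mp ha
    have hb' := (hδinv b).mp hb
    have ha3 : (a : X) ^ 3 = 1 := hinv3 a a.2 ha'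
    have hb3 : (b : X) ^ 3 = 1 := hinv3 b b.2 hb'
    have habX : Commute (a : X) (b : X) := by
      have := congrArg Subtype.val hab.eq
      exact this
    have ha1X : (a : X) ≠ 1 := fun h => ha1 (Subtype.ext h)
    have hb1X : (b : X) ≠ 1 := fun h => hb1 (Subtype.ext h)
    have hbaX : (b : X) ≠ a := fun h => hba (Subtype.ext h)
    have hbaiX : (b : X) ≠ (a : X)⁻¹ := fun h => hbai (Subtype.ext h)
    have htop := iSup_fixSub_eq_top (p := 2) (q := 3) hU (by norm_num) (ρ a) (ρ b)
      (by rw [← map_mul, ← map_mul, habX.eq]) (by rw [← map_pow, ha3, map_one])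
      (by rw [← map_pow, hb3, map_one])
    have hle : (⨆ j : ℕ, fixSub (ρ a * ρ b ^ j)) ⊔ fixSub (ρ b) ≤ fixSub (ρ d) := by
      apply sup_le
      · apply iSup_le
        intro j u hu
        rw [mem_fixSub] at hu ⊢
        have hc : ρ a * ρ b ^ j = ρ ((a : X) * (b : X) ^ j) := by rw [map_mul, map_pow]
        rw [hc] at hu
        refine hinvP1 ((a : X) * (b : X) ^ j) (mul_mem a.2 (pow_mem b.2 j)) ?_ ?_ u hu
        · calc d * ((a : X) * (b : X) ^ j) * d⁻¹
              = (d * a * d⁻¹) * (d * b * d⁻¹) ^ j := by rw [conj_pow]; group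
            _ = (a : X)⁻¹ * ((b : X)⁻¹) ^ j := by rw [ha', hb']
            _ = ((a : X) * (b : X) ^ j)⁻¹ := by
                rw [mul_inv_rev, inv_pow]
                exact ((habX.pow_right j).inv_inv).eq
        · intro h1
          have hbj : (b : X) ^ j = (b : X) ^ (j % 3) := pow_eq_pow_mod j hb3
          rw [hbj] at h1
          have hlt : j % 3 < 3 := Nat.mod_lt _ (by norm_num)
          interval_cases (j % 3)
          · apply ha1X
            simpa using h1
          · apply hbaiX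
            rw [pow_one] at h1
            exact eq_inv_of_mul_eq_one_right h1
          · apply hbaX
            have h2 : (b : X) ^ 2 = (b : X)⁻¹ := by
              have : (b : X) ^ 2 * b = 1 := by rw [← pow_succ]; exact hb3
              exact eq_inv_of_mul_eq_one_left this
            rw [h2] at h1
            have := eq_inv_of_mul_eq_one_right h1
            exact inv_injective this
      · intro u hu
        rw [mem_fixSub] at hu ⊢
        exact hinvP1 b b.2 hb' hb1X u hu
    have hdtop : fixSub (ρ d) = ⊤ := top_le_iff.mp (htop ▸ hle)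
    have hd1 : d = 1 := by
      apply hρ
      rw [map_one]
      ext u
      have : u ∈ fixSub (ρ d) := by rw [hdtop]; exact mem_top u
      exact this
    rw [hd1] at ha'
    simp only [one_mul, inv_one, mul_one] at ha'
    have h2 : (a : X) ^ 2 = 1 := by
      rw [pow_two]
      nth_rewrite 1 [ha']
      exact inv_mul_cancel _
    apply ha1X
    have h4 : (a : X) = (a : X) ^ 3 * ((a : X) ^ 2)⁻¹ := by group
    rw [h4, ha3, h2]; simp
  -- (iii)
  have hcX : ∀ z : P₀, z ∈ center P₀ → δ z = z → (z : X) ∈ center X := by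
    intro z hz hf
    have h1 : Commute (z : X) d := by
      have := congrArg Subtype.val hf
      rw [hδapp] at this
      show (z : X) * d = d * z
      calc (z : X) * d = (d * z * d⁻¹) * d := by rw [this]
        _ = d * z := by group
    have h2 : ∀ p ∈ P₀, Commute (z : X) p := by
      intro p hp
      have := (mem_center_iff.mp hz) ⟨p, hp⟩
      have h5 := congrArg Subtype.val this
      exact h5.symm
    have hle : closure {y | ∃ g : X, y = g * d * g⁻¹} ≤ centralizer {(z : X)} := by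
      rw [closure_le]
      rintro y ⟨g, rfl⟩
      rw [SetLike.mem_coe, mem_centralizer_iff]
      intro w hw
      rw [Set.mem_singleton_iff] at hw
      subst hw
      have e : g * d * g⁻¹ = d * (d * (g * d * g⁻¹)) := by rw [← mul_assoc, hd, one_mul]
      rw [e]
      exact (h1.mul_right (h2 _ (subset_closure ⟨g, rfl⟩))).eq
    rw [mem_center_iff]
    intro g
    have hg : g ∈ centralizer {(z : X)} := hle (by rw [hgen]; exact mem_top g)
    rw [mem_centralizer_iff] at hg
    exact (hg z rfl).symm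
  have hfix : ∀ z : X, z ∈ center X → z ≠ 1 → fixSub (ρ z) = ⊥ := by
    intro z hz hz1
    have hinvar : ∀ g : X, ∀ w ∈ fixSub (ρ z), ρ g w ∈ fixSub (ρ z) := by
      intro g w hw
      rw [mem_fixSub] at hw ⊢
      have hzg : z * g = g * z := ((mem_center_iff.mp hz) g).symm
      calc ρ z (ρ g w) = (ρ z * ρ g) w := rfl
        _ = ρ (z * g) w := by rw [map_mul]
        _ = ρ (g * z) w := by rw [hzg]
        _ = ρ g (ρ z w) := by rw [map_mul]; rfl
        _ = ρ g w := by rw [hw]
    rcases hirr (fixSub (ρ z)) hinvar with h | h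
    · exact h
    · exfalso
      apply hz1
      apply hρ
      rw [map_one]
      ext u
      have : u ∈ fixSub (ρ z) := by rw [h]; exact mem_top u
      exact this
  have hcen : ∀ z₁ z₂ : P₀, z₁ ∈ center P₀ → z₂ ∈ center P₀ → δ z₁ = z₁ → δ z₂ = z₂ →
      z₁ ^ 3 = 1 → z₂ ^ 3 = 1 → z₁ ≠ 1 → z₂ = 1 ∨ z₂ = z₁ ∨ z₂ = z₁⁻¹ := by
    intro z₁ z₂ hz₁ hz₂ hf₁ hf₂ h31 h32 hne
    by_contra hcon
    push Not at hcon
    obtain ⟨hb1, hba, hbai⟩ := hcon
    have hc1 := hcX z₁ hz₁ hf₁
    have hc2 := hcX z₂ hz₂ hf₂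
    have ha3 : (z₁ : X) ^ 3 = 1 := by
      have := congrArg Subtype.val h31
      simpa using this
    have hb3 : (z₂ : X) ^ 3 = 1 := by
      have := congrArg Subtype.val h32
      simpa using this
    have habX : Commute (z₁ : X) (z₂ : X) := ((mem_center_iff.mp hc1) _).symm
    have ha1X : (z₁ : X) ≠ 1 := fun h => hne (Subtype.ext h)
    have hb1X : (z₂ : X) ≠ 1 := fun h => hb1 (Subtype.ext h)
    have hbaX : (z₂ : X) ≠ z₁ := fun h => hba (Subtype.ext h)
    have hbaiX : (z₂ : X) ≠ (z₁ : X)⁻¹ := fun h => hbai (Subtype.ext h)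
    have htop := iSup_fixSub_eq_top (p := 2) (q := 3) hU (by norm_num) (ρ z₁) (ρ z₂)
      (by rw [← map_mul, ← map_mul, habX.eq]) (by rw [← map_pow, ha3, map_one])
      (by rw [← map_pow, hb3, map_one])
    have hle : (⨆ j : ℕ, fixSub (ρ z₁ * ρ z₂ ^ j)) ⊔ fixSub (ρ z₂) ≤ ⊥ := by
      apply sup_le
      · apply iSup_le
        intro j
        have hc : ρ z₁ * ρ z₂ ^ j = ρ ((z₁ : X) * (z₂ : X) ^ j) := by rw [map_mul, map_pow]
        rw [hc]
        refine (hfix _ (mul_mem hc1 (pow_mem hc2 j)) ?_).le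
        intro h1
        have hbj : (z₂ : X) ^ j = (z₂ : X) ^ (j % 3) := pow_eq_pow_mod j hb3
        rw [hbj] at h1
        have hlt : j % 3 < 3 := Nat.mod_lt _ (by norm_num)
        interval_cases (j % 3)
        · apply ha1X
          simpa using h1
        · apply hbaiX
          rw [pow_one] at h1
          exact eq_inv_of_mul_eq_one_right h1
        · apply hbaX
          have h2 : (z₂ : X) ^ 2 = (z₂ : X)⁻¹ := by
            have : (z₂ : X) ^ 2 * z₂ = 1 := by rw [← pow_succ]; exact hb3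
            exact eq_inv_of_mul_eq_one_left this
          rw [h2] at h1
          have := eq_inv_of_mul_eq_one_right h1
          exact inv_injective this
      · exact (hfix _ hc2 hb1X).le
    rw [htop] at hle
    exact top_ne_bot (le_bot_iff.mp hle)
  -- (iv)
  have hgen' : closure {a : P₀ | δ a = a⁻¹} = ⊤ := by
    have h1 : closure (((↑) : P₀ → X) ⁻¹' S₀) = ⊤ := Subgroup.closure_closure_coe_preimage
    rw [eq_top_iff, ← h1]
    apply Subgroup.closure_mono
    intro a ha
    exact (hδinv a).mpr (hS₀inv a ha)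
  obtain ⟨s, hs9, hs⟩ := inv_bound hP₀3 δ hδδ h3' hcyc hcen hgen'
  refine ⟨Finset.image (fun a : P₀ => d * (a : X)) s, Finset.card_image_le.trans hs9, ?_⟩
  intro g
  have ha : d * (g * d * g⁻¹) ∈ P₀ := subset_closure ⟨g, rfl⟩
  rw [Finset.mem_image]
  refine ⟨(⟨d * (g * d * g⁻¹), ha⟩ : P₀), hs _ ?_, ?_⟩
  · exact (hδinv _).mpr (hS₀inv _ ⟨g, rfl⟩)
  · show d * (d * (g * d * g⁻¹)) = g * d * g⁻¹
    rw [← mul_assoc, hd, one_mul]

end Cfsg.Agent.Lib.Helper1.T3O2
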