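import Mathlib
import Cfsg.Agent.Lib.Helper1.TraceIdentity
import Cfsg.Agent.Lib.Helper1.T3O2B

/-!
Helper1: normal sets of `3`-transpositions and normal `2`-subgroups: the fixed points of a product
`d * e` of order `3` on a normal `2`-subgroup are fixed by `d`; no elementary abelian group of order
`9` inverted by `d` acts faithfully; the situation `Sit` of a class `E` of `3`-transpositions in a
group `Y` with normal `2`-subgroup `V ≤ M`, `M / V` a `3`-group, `E * E ⊆ M`.
-/

set_option autoImplicit false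
set_option linter.unusedSectionVars false
set_option linter.unusedVariables false

open Subgroup
open scoped commutatorElement

namespace Cfsg.Agent.Lib.Helper1.T3O2

open Cfsg.Agent.Lib.Helper1 (fixSub mem_fixSub iSup_fixSub_eq_top)

universe u

variable {G : Type u} [Group G] {D : Set G}

theorem eq_one_of_pow_pow_coprime {a : G} {m n : ℕ} (hm : a ^ m = 1) (hn : a ^ n = 1)
    (hc : Nat.Coprime m n) : a = 1 :=
  orderOf_eq_one_iff.mp (Nat.eq_one_of_dvd_coprimes hc (orderOf_dvd_of_pow_eq_one hm)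
    (orderOf_dvd_of_pow_eq_one hn))

/-- an element of a `2`-subgroup whose cube is trivial is trivial -/
theorem eq_one_of_mem_two_of_cube {V : Subgroup G} (hV2 : IsPGroup 2 V) {a : G} (ha : a ∈ V)
    (h3 : a ^ 3 = 1) : a = 1 := by
  obtain ⟨k, hk⟩ := hV2 ⟨a, ha⟩
  have hk' : a ^ (2 ^ k) = 1 := by
    have := congrArg Subtype.val hk
    simpa using this
  exact eq_one_of_pow_pow_coprime hk' h3 (Nat.Coprime.pow_left k (by norm_num))

/-- a normal set of `3`-transpositions, in the weak sense (members square to `1`) -/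
structure W3 (D : Set G) : Prop where
  sq' : ∀ d ∈ D, d * d = 1
  h23 : ∀ d ∈ D, ∀ e ∈ D, (d * e) ^ 2 = 1 ∨ (d * e) ^ 3 = 1
  conj : ∀ g : G, ∀ d ∈ D, g * d * g⁻¹ ∈ D

theorem W3.sq (h : W3 D) {x : G} (hx : x ∈ D) : x * x = 1 := h.sq' x hx

theorem W3.inv (h : W3 D) {x : G} (hx : x ∈ D) : x⁻¹ = x :=
  inv_eq_of_mul_eq_one_left (h.sq hx)

theorem W3.commute_of_sq (h : W3 D) {x y : G} (hx : x ∈ D) (hy : y ∈ D)
    (h2 : (x * y) ^ 2 = 1) : Commute x y := by
  have hxx := h.sq hx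
  have hyy := h.sq hy
  rw [pow_two] at h2
  show x * y = y * x
  calc x * y = (y * y) * (x * y) * (x * x) := by rw [hxx, hyy, one_mul, mul_one]
    _ = y * (y * x) * (y * x) * x := by group
    _ = y * ((x * y) * (x * y))⁻¹ * x := by
        rw [mul_inv_rev, mul_inv_rev, h.inv hx, h.inv hy]; group
    _ = y * x := by rw [h2, inv_one, mul_one]

theorem W3.sq_of_commute (h : W3 D) {x y : G} (hx : x ∈ D) (hy : y ∈ D)
    (hc : Commute x y) : (x * y) ^ 2 = 1 := by
  rw [hc.mul_pow, pow_two, pow_two, h.sq hx, h.sq hy, one_mul]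

theorem W3.cube (h : W3 D) {x y : G} (hx : x ∈ D) (hy : y ∈ D) (hnc : ¬ Commute x y) :
    (x * y) ^ 3 = 1 := by
  rcases h.h23 x hx y hy with h2 | h3
  · exact absurd (h.commute_of_sq hx hy h2) hnc
  · exact h3

theorem W3.cj (h : W3 D) {x y : G} (hx : x ∈ D) (hy : y ∈ D) : x * y * x ∈ D := by
  have := h.conj x y hy
  rwa [h.inv hx] at this

theorem W3.map {G' : Type*} [Group G'] (f : G →* G') (hf : Function.Surjective f) (h : W3 D) :
    W3 (f '' D) := by
  refine ⟨?_, ?_, ?_⟩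
  · rintro _ ⟨d, hd, rfl⟩
    rw [← map_mul, h.sq hd, map_one]
  · rintro _ ⟨d, hd, rfl⟩ _ ⟨e, he, rfl⟩
    rcases h.h23 d hd e he with h2 | h3
    · left; rw [← map_mul, ← map_pow, h2, map_one]
    · right; rw [← map_mul, ← map_pow, h3, map_one]
  · rintro g _ ⟨d, hd, rfl⟩
    obtain ⟨g₀, rfl⟩ := hf g
    exact ⟨g₀ * d * g₀⁻¹, h.conj g₀ d hd, by rw [map_mul, map_mul, map_inv]⟩

/-- if the square of `d * e` lies in a `2`-subgroup then `d` and `e` commute -/
theorem W3.commute_of_sq_mem (h : W3 D) {V : Subgroup G} (hV2 : IsPGroup 2 V) {d e : G}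
    (hd : d ∈ D) (he : e ∈ D) (hsq : (d * e) ^ 2 ∈ V) : Commute d e := by
  by_contra hnc
  have h3 := h.cube hd he hnc
  have h1 : ((d * e) ^ 2) ^ 3 = 1 := by rw [← pow_mul, mul_comm, pow_mul, h3, one_pow]
  have h2 := eq_one_of_mem_two_of_cube hV2 hsq h1
  exact hnc (h.commute_of_sq hd he h2)

/-- the fixed points of `d * e` (of order `3`) on a normal `2`-subgroup are fixed by `d` -/
theorem W3.L1 (h : W3 D) {V : Subgroup G} (hVn : V.Normal) (hV2 : IsPGroup 2 V) {d e : G}
    (hd : d ∈ D) (he : e ∈ D) (hnc : ¬ Commute d e) {v : G} (hv : v ∈ V)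
    (hvx : Commute v (d * e)) : Commute v d := by
  have hx3 : (d * e) ^ 3 = 1 := h.cube hd he hnc
  have hdd := h.sq hd
  have hdi := h.inv hd
  have hei := h.inv he
  set x := d * e with hx
  have hdxd : d * x * d = x⁻¹ := by
    rw [hx, mul_inv_rev, hdi, hei]
    calc d * (d * e) * d = (d * d) * e * d := by group
      _ = e * d := by rw [hdd, one_mul]
  have hdxid : d * x⁻¹ * d = x := by
    have : d * x⁻¹ * d = (d⁻¹ * x * d⁻¹)⁻¹ := by group
    rw [this, hdi, hdxd, inv_inv]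
  have he' : v⁻¹ * e * v ∈ D := by
    have := h.conj v⁻¹ e he
    rwa [inv_inv] at this
  set w := d * v⁻¹ * d * v with hw
  have hwV : w ∈ V := by
    have h1 := hVn.conj_mem v⁻¹ (inv_mem hv) d
    rw [hdi] at h1
    exact mul_mem h1 hv
  have hde' : d * (v⁻¹ * e * v) = w * x := by
    calc d * (v⁻¹ * e * v) = d * v⁻¹ * (d * d) * e * v := by rw [hdd]; group
      _ = d * v⁻¹ * d * (x * v) := by rw [hx]; group
      _ = d * v⁻¹ * d * (v * x) := by rw [hvx.eq]
      _ = w * x := by rw [hw]; group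
  have hvi : Commute v⁻¹ x⁻¹ := hvx.inv_inv
  have hc1 : Commute (d * v⁻¹ * d) x := by
    show (d * v⁻¹ * d) * x = x * (d * v⁻¹ * d)
    have e1 : (d * v⁻¹ * d) * x = d * v⁻¹ * (d * x * d) * d := by
      have : d * v⁻¹ * (d * x * d) * d = d * v⁻¹ * d * x * (d * d) := by group
      rw [this, hdd, mul_one]
    have e2 : d * x⁻¹ * v⁻¹ * d = (d * x⁻¹ * d) * (d * v⁻¹ * d) := by
      have : (d * x⁻¹ * d) * (d * v⁻¹ * d) = d * x⁻¹ * (d * d) * v⁻¹ * d := by group
      rw [this, hdd, mul_one]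
    calc (d * v⁻¹ * d) * x = d * v⁻¹ * (d * x * d) * d := e1
      _ = d * v⁻¹ * x⁻¹ * d := by rw [hdxd]
      _ = d * (v⁻¹ * x⁻¹) * d := by group
      _ = d * (x⁻¹ * v⁻¹) * d := by rw [hvi.eq]
      _ = d * x⁻¹ * v⁻¹ * d := by group
      _ = (d * x⁻¹ * d) * (d * v⁻¹ * d) := e2
      _ = x * (d * v⁻¹ * d) := by rw [hdxid]
  have hwx : Commute w x := by
    rw [hw]
    exact hc1.mul_left hvx
  have hfin : w = 1 → Commute v d := by
    intro h1
    have h2 : d * v⁻¹ * d = v⁻¹ := by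
      calc d * v⁻¹ * d = w * v⁻¹ := by rw [hw]; group
        _ = v⁻¹ := by rw [h1, one_mul]
    show v * d = d * v
    calc v * d = (d * v⁻¹ * d)⁻¹ * d := by rw [h2, inv_inv]
      _ = d⁻¹ * v := by group
      _ = d * v := by rw [hdi]
  rcases h.h23 d hd _ he' with h2 | h3
  · exfalso
    rw [hde', hwx.mul_pow] at h2
    have h4 : x ^ 2 ∈ V := by
      have : x ^ 2 = (w ^ 2)⁻¹ := eq_inv_of_mul_eq_one_right h2
      rw [this]
      exact inv_mem (pow_mem hwV 2)
    have h5 : (x ^ 2) ^ 3 = 1 := by rw [← pow_mul, mul_comm, pow_mul, hx3, one_pow]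
    have h6 := eq_one_of_mem_two_of_cube hV2 h4 h5
    exact hnc (h.commute_of_sq hd he h6)
  · rw [hde', hwx.mul_pow, hx3, mul_one] at h3
    exact hfin (eq_one_of_mem_two_of_cube hV2 hwV h3)

/-- the same for an element `c` of order `3` inverted by `d` -/
theorem W3.L1' (h : W3 D) {V : Subgroup G} (hVn : V.Normal) (hV2 : IsPGroup 2 V) {d c : G}
    (hd : d ∈ D) (hc : d * c * d = c⁻¹) (hc3 : c ^ 3 = 1) (hc1 : c ≠ 1) {v : G} (hv : v ∈ V)
    (hvc : Commute v c) : Commute v d := by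
  have hdd := h.sq hd
  have he : c * d * c⁻¹ ∈ D := h.conj c d hd
  have hcc : c⁻¹ * c⁻¹ = c := by
    have : c * (c * c) = 1 := by rw [← hc3]; simp [pow_succ, mul_assoc]
    calc c⁻¹ * c⁻¹ = (c * (c * c)) * (c⁻¹ * c⁻¹) := by rw [this, one_mul]
      _ = c := by group
  have hde : d * (c * d * c⁻¹) = c := by
    calc d * (c * d * c⁻¹) = (d * c * d) * c⁻¹ := by group
      _ = c := by rw [hc, hcc]
  have hnc : ¬ Commute d (c * d * c⁻¹) := by
    intro hcm
    have h2 := h.sq_of_commute hd he hcm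
    rw [hde] at h2
    apply hc1
    exact eq_one_of_pow_pow_coprime h2 hc3 (by norm_num)
  have := h.L1 hVn hV2 hd he hnc hv (by rw [hde]; exact hvc)
  exact this

/-- no elementary abelian group of order `9` inverted by `d` can act: if `x`, `y` of order `3` are
inverted by `d`, commute and generate a non-cyclic group, then `d` centralizes every normal
`2`-subgroup -/
theorem W3.L3 [Finite G] (h : W3 D) {V : Subgroup G} (hVn : V.Normal) (hV2 : IsPGroup 2 V)
    {d x y : G} (hd : d ∈ D) (hx : d * x * d = x⁻¹) (hy : d * y * d = y⁻¹) (hxy : Commute x y)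
    (hx3 : x ^ 3 = 1) (hy3 : y ^ 3 = 1) (hx1 : x ≠ 1) (hy1 : y ≠ 1) (hyx : y ≠ x)
    (hyxi : y ≠ x⁻¹) : ∀ v ∈ V, Commute v d := by
  classical
  haveI : Fact (Nat.Prime 2) := ⟨Nat.prime_two⟩
  haveI : Fact (Nat.Prime 3) := ⟨Nat.prime_three⟩
  haveI := hVn
  have hdi := h.inv hd
  set ρ : G →* MulAut V := MulAut.conjNormal with hρ
  have hfixiff : ∀ (c : G) (v : V), ρ c v = v ↔ Commute (v : G) c := by
    intro c v
    constructor
    · intro h1
      have := congrArg Subtype.val h1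
      rw [hρ, MulAut.conjNormal_apply] at this
      show (v : G) * c = c * v
      calc (v : G) * c = (c * v * c⁻¹) * c := by rw [this]
        _ = c * v := by group
    · intro h1
      apply Subtype.ext
      rw [hρ, MulAut.conjNormal_apply]
      calc c * (v : G) * c⁻¹ = ((v : G) * c) * c⁻¹ := by rw [h1.eq]
        _ = v := by group
  have htop := iSup_fixSub_eq_top (p := 2) (q := 3) hV2 (by norm_num) (ρ x) (ρ y)
    (by rw [← map_mul, ← map_mul, hxy.eq]) (by rw [← map_pow, hx3, map_one])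
    (by rw [← map_pow, hy3, map_one])
  have hle : (⨆ j : ℕ, fixSub (ρ x * ρ y ^ j)) ⊔ fixSub (ρ y) ≤ fixSub (ρ d) := by
    apply sup_le
    · apply iSup_le
      intro j u hu
      rw [mem_fixSub] at hu ⊢
      have hc : ρ x * ρ y ^ j = ρ (x * y ^ j) := by rw [map_mul, map_pow]
      rw [hc, hfixiff] at hu
      rw [hfixiff]
      refine h.L1' hVn hV2 hd ?_ ?_ ?_ u.2 hu
      · calc d * (x * y ^ j) * d = (d * x * d) * (d * y * d⁻¹) ^ j := by
              rw [conj_pow, hdi]
              calc d * (x * y ^ j) * d = d * x * 1 * y ^ j * d := by group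
                _ = d * x * (d * d) * y ^ j * d := by rw [h.sq hd]
                _ = d * x * d * (d * y ^ j * d) := by group
          _ = x⁻¹ * (y⁻¹) ^ j := by rw [hdi, hx, hy]
          _ = (x * y ^ j)⁻¹ := by
              rw [mul_inv_rev, inv_pow]
              exact ((hxy.pow_right j).inv_inv).eq
      · rw [(hxy.pow_right j).mul_pow, hx3, one_mul, ← pow_mul, mul_comm, pow_mul, hy3, one_pow]
      · intro h1
        have hbj : y ^ j = y ^ (j % 3) := pow_eq_pow_mod j hy3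
        rw [hbj] at h1
        have hlt : j % 3 < 3 := Nat.mod_lt _ (by norm_num)
        interval_cases (j % 3)
        · apply hx1
          simpa using h1
        · apply hyxi
          rw [pow_one] at h1
          exact eq_inv_of_mul_eq_one_right h1
        · apply hyx
          have h2 : y ^ 2 = y⁻¹ := by
            have : y ^ 2 * y = 1 := by rw [← pow_succ]; exact hy3
            exact eq_inv_of_mul_eq_one_left this
          rw [h2] at h1
          have := eq_inv_of_mul_eq_one_right h1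
          exact inv_injective this
    · intro u hu
      rw [mem_fixSub, hfixiff] at hu ⊢
      exact h.L1' hVn hV2 hd hy hy3 hy1 u.2 hu
  have hdtop : fixSub (ρ d) = ⊤ := top_le_iff.mp (htop ▸ hle)
  intro v hv
  have : (⟨v, hv⟩ : V) ∈ fixSub (ρ d) := by rw [hdtop]; exact mem_top _
  rw [mem_fixSub, hfixiff] at this
  exact this

/-- the situation: a generating class `E` of `3`-transpositions, a normal `2`-subgroup `V ≤ M` with
`M / V` a `3`-group and `E * E ⊆ M` -/
structure Sit (E : Set G) (V M : Subgroup G) : Prop where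
  w3 : W3 E
  gen : closure E = ⊤
  trans : ∀ x ∈ E, ∀ y ∈ E, ∃ g : G, g * x * g⁻¹ = y
  Vn : V.Normal
  V2 : IsPGroup 2 V
  VM : V ≤ M
  M3 : ∀ m ∈ M, ∃ k : ℕ, m ^ (3 ^ k) ∈ V
  idx : ∀ d ∈ E, ∀ e ∈ E, d * e ∈ M

variable {E : Set G} {V M : Subgroup G}

theorem Sit.mem_V_of_commute (h : Sit E V M) {d e : G} (hd : d ∈ E) (he : e ∈ E)
    (hc : Commute d e) : d * e ∈ V := by
  obtain ⟨k, hk⟩ := h.M3 _ (h.idx d hd e he)
  have h2 := h.w3.sq_of_commute hd he hc
  have hodd : Odd (3 ^ k) := Odd.pow (by decide)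
  obtain ⟨t, ht⟩ := hodd
  rw [ht, pow_succ, pow_mul, h2, one_pow, one_mul] at hk
  exact hk

theorem Sit.commute_of_mem_V (h : Sit E V M) {d e : G} (hd : d ∈ E) (he : e ∈ E)
    (hc : d * e ∈ V) : Commute d e :=
  h.w3.commute_of_sq_mem h.V2 hd he (pow_mem hc 2)

theorem Sit.map {G' : Type*} [Group G'] (f : G →* G') (hf : Function.Surjective f)
    (h : Sit E V M) : Sit (f '' E) (V.map f) (M.map f) := by
  refine ⟨h.w3.map f hf, ?_, ?_, h.Vn.map f hf, h.V2.map f, Subgroup.map_mono h.VM, ?_, ?_⟩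
  · rw [← MonoidHom.map_closure, h.gen, ← MonoidHom.range_eq_map, MonoidHom.range_eq_top.mpr hf]
  · rintro _ ⟨x, hx, rfl⟩ _ ⟨y, hy, rfl⟩
    obtain ⟨g, hg⟩ := h.trans x hx y hy
    exact ⟨f g, by rw [← hg, map_mul, map_mul, map_inv]⟩
  · rintro _ ⟨m, hm, rfl⟩
    obtain ⟨k, hk⟩ := h.M3 m hm
    exact ⟨k, ⟨m ^ (3 ^ k), hk, by rw [map_pow]⟩⟩
  · rintro _ ⟨d, hd, rfl⟩ _ ⟨e, he, rfl⟩
    exact ⟨d * e, h.idx d hd e he, by rw [map_mul]⟩

end Cfsg.Agent.Lib.Helper1.T3O2
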