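import Mathlib
import Cfsg.Agent.Lib.Helper1.T3O2C

/-!
Helper1: the main bound: in the situation `Sit E V M`, if some product `d₀ * e₀` of order `3` acts
non-trivially on `V`, then `E` is covered by at most `9` cosets of `V`.
-/

set_option autoImplicit false
set_option linter.unusedSectionVars false
set_option linter.unusedVariables false

open Subgroup
open scoped commutatorElement

namespace Cfsg.Agent.Lib.Helper1.T3O2

universe u

/-- a minimal normal subgroup inside a non-trivial normal subgroup -/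
theorem exists_min_normal {Y : Type u} [Group Y] [Finite Y] (Z : Subgroup Y) (hZn : Z.Normal)
    (hZ : Z ≠ ⊥) :
    ∃ U : Subgroup Y, U.Normal ∧ U ≠ ⊥ ∧ U ≤ Z ∧
      ∀ N : Subgroup Y, N.Normal → N ≠ ⊥ → N ≤ U → N = U := by
  set S : Set (Subgroup Y) := {N | N.Normal ∧ N ≠ ⊥ ∧ N ≤ Z} with hS
  have hne : S.Nonempty := ⟨Z, hZn, hZ, le_refl Z⟩
  obtain ⟨U, hU, hmin⟩ :=
    WellFounded.has_min (measure (fun N : Subgroup Y => Nat.card N)).wf S hne
  refine ⟨U, hU.1, hU.2.1, hU.2.2, ?_⟩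
  intro N hNn hNb hNU
  have h1 : ¬ Nat.card N < Nat.card U := hmin N ⟨hNn, hNb, hNU.trans hU.2.2⟩
  exact Subgroup.eq_of_le_of_card_ge hNU (not_lt.mp h1)

/-- an element of order `3` centralizing `U` and `V / U` for `2`-groups `U ≤ V` centralizes `V` -/
theorem commute_of_chain {Y : Type u} [Group Y] {V U : Subgroup Y} (hV2 : IsPGroup 2 V)
    (hUV : U ≤ V) {x : Y} (hx3 : x ^ 3 = 1) (hU : ∀ u ∈ U, Commute u x) {v : Y}
    (hvx : v⁻¹ * x * v * x⁻¹ ∈ U) : Commute v x := by
  set w := v⁻¹ * x * v * x⁻¹ with hw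
  have hwx : Commute w x := hU w hvx
  have h1 : x * v * x⁻¹ = v * w := by rw [hw]; group
  have h2 : ∀ n : ℕ, x ^ n * v * (x ^ n)⁻¹ = v * w ^ n := by
    intro n
    induction n with
    | zero => simp
    | succ n ih =>
      have e : x ^ (n + 1) * v * (x ^ (n + 1))⁻¹ = x * (x ^ n * v * (x ^ n)⁻¹) * x⁻¹ := by
        rw [pow_succ']; group
      rw [e, ih]
      have hc : x * w ^ n = w ^ n * x := ((hwx.pow_left n).eq).symm
      calc x * (v * w ^ n) * x⁻¹ = (x * v * x⁻¹) * (x * w ^ n) * x⁻¹ := by group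
        _ = (v * w) * (w ^ n * x) * x⁻¹ := by rw [h1, hc]
        _ = v * w ^ (n + 1) := by rw [pow_succ']; group
  have h3 := h2 3
  rw [hx3] at h3
  have h4 : w ^ 3 = 1 := by
    have : v = v * w ^ 3 := by simpa using h3
    exact (mul_eq_left.mp this.symm)
  have h5 : w = 1 := eq_one_of_mem_two_of_cube hV2 (hUV hvx) h4
  rw [h5, mul_one] at h1
  show v * x = x * v
  calc v * x = (x * v * x⁻¹) * x := by rw [h1]
    _ = x * v := by group

theorem main_bound : ∀ (n : ℕ) (Y : Type u) [Group Y] [Finite Y] (E : Set Y) (V M : Subgroup Y),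
    Nat.card Y = n → Sit E V M →
    (∃ d₀ ∈ E, ∃ e₀ ∈ E, ¬ Commute d₀ e₀ ∧ ∃ v ∈ V, ¬ Commute v (d₀ * e₀)) →
    ∃ s : Finset Y, s.card ≤ 9 ∧ ∀ e ∈ E, ∃ t ∈ s, t⁻¹ * e ∈ V := by
  intro n
  induction n using Nat.strong_induction_on with
  | _ n ih =>
  intro Y _ _ E V M hn hS hex
  obtain ⟨d₀, hd₀, e₀, he₀, hnc, v₀, hv₀, hv₀x⟩ := hex
  classical
  haveI := hS.Vn
  have hx3 : (d₀ * e₀) ^ 3 = 1 := hS.w3.cube hd₀ he₀ hnc
  set x := d₀ * e₀ with hx
  set ZV : Subgroup Y := V ⊓ centralizer (V : Set Y) with hZV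
  have hZVn : ZV.Normal := inferInstance
  have hVne : V ≠ ⊥ := by
    intro h
    apply hv₀x
    rw [h, mem_bot] at hv₀
    rw [hv₀]
    exact Commute.one_left _
  have hZVne : ZV ≠ ⊥ := by
    haveI : Nontrivial V := (Subgroup.nontrivial_iff_ne_bot V).mpr hVne
    haveI : Fact (Nat.Prime 2) := ⟨Nat.prime_two⟩
    have := hS.V2.center_nontrivial
    obtain ⟨⟨z, hz⟩, hz1⟩ := exists_ne (1 : center V)
    intro hbot
    apply hz1
    have hmem : (z : Y) ∈ ZV := by
      refine ⟨z.2, ?_⟩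
      show (z : Y) ∈ centralizer (V : Set Y)
      rw [mem_centralizer_iff]
      intro w hw
      have := (mem_center_iff.mp hz) ⟨w, hw⟩
      exact congrArg Subtype.val this
    rw [hbot, mem_bot] at hmem
    apply Subtype.ext
    apply Subtype.ext
    exact hmem
  obtain ⟨U, hUn, hUne, hUZ, hUmin⟩ := exists_min_normal ZV hZVn hZVne
  haveI := hUn
  have hUV : U ≤ V := hUZ.trans inf_le_left
  have hUcV : ∀ u ∈ U, ∀ v ∈ V, v * u = u * v := by
    intro u hu v hv
    have := hUZ hu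
    exact (mem_centralizer_iff.mp this.2) v hv
  by_cases hcase : ∀ u ∈ U, Commute u x
  · -- pass to the quotient by `U`
    set f : Y →* Y ⧸ U := QuotientGroup.mk' U with hf
    have hfs : Function.Surjective f := QuotientGroup.mk'_surjective U
    have hker : ∀ y : Y, f y = 1 ↔ y ∈ U := fun y => QuotientGroup.eq_one_iff y
    have hS' := hS.map f hfs
    have hcard : Nat.card (Y ⧸ U) < n := by
      have h1 := Subgroup.card_eq_card_quotient_mul_card_subgroup U
      have h2 : 1 < Nat.card U := (Subgroup.one_lt_card_iff_ne_bot U).mpr hUne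
      have h3 : 0 < Nat.card (Y ⧸ U) := Nat.card_pos
      rw [← hn, h1]
      nlinarith
    have hnc' : ¬ Commute (f d₀) (f e₀) := by
      intro hc
      apply hnc
      apply hS.w3.commute_of_sq_mem hS.V2 hd₀ he₀
      apply hUV
      rw [← hker, map_pow, map_mul]
      exact hS'.w3.sq_of_commute ⟨d₀, hd₀, rfl⟩ ⟨e₀, he₀, rfl⟩ hc
    have hact : ∃ v' ∈ V.map f, ¬ Commute v' (f d₀ * f e₀) := by
      by_contra hcon
      push Not at hcon
      apply hv₀x
      apply commute_of_chain hS.V2 hUV hx3 hcase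
      rw [← hker]
      have h1 := (hcon (f v₀) ⟨v₀, hv₀, rfl⟩).eq
      have hfx : f x = f d₀ * f e₀ := by rw [hx, map_mul]
      rw [map_mul, map_mul, map_mul, map_inv, map_inv, hfx, mul_assoc (f v₀)⁻¹, ← h1]
      group
    obtain ⟨s', hs'9, hs'⟩ := ih _ hcard (Y ⧸ U) (f '' E) (V.map f) (M.map f) rfl hS'
      ⟨f d₀, ⟨d₀, hd₀, rfl⟩, f e₀, ⟨e₀, he₀, rfl⟩, hnc', hact⟩
    refine ⟨s'.image (Function.surjInv hfs), Finset.card_image_le.trans hs'9, ?_⟩
    intro e he
    obtain ⟨t', ht', hte⟩ := hs' (f e) ⟨e, he, rfl⟩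
    refine ⟨Function.surjInv hfs t', Finset.mem_image_of_mem _ ht', ?_⟩
    set t := Function.surjInv hfs t' with ht
    have hft : f t = t' := Function.surjInv_eq hfs t'
    obtain ⟨v, hv, hfv⟩ := hte
    have h1 : f (v⁻¹ * (t⁻¹ * e)) = 1 := by
      rw [map_mul, map_inv, hfv, map_mul, map_inv, hft]
      group
    have h2 : v⁻¹ * (t⁻¹ * e) ∈ V := hUV ((hker _).mp h1)
    have h3 : t⁻¹ * e = v * (v⁻¹ * (t⁻¹ * e)) := by group
    rw [h3]
    exact mul_mem hv h2
  · -- the action on `U`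
    push Not at hcase
    obtain ⟨u₀, hu₀, hu₀x⟩ := hcase
    set ρ₀ : Y →* MulAut U := MulAut.conjNormal with hρ₀
    have hρ₀fix : ∀ (c : Y) (u : U), ρ₀ c u = u ↔ Commute (u : Y) c := by
      intro c v
      constructor
      · intro h1
        have := congrArg Subtype.val h1
        rw [hρ₀, MulAut.conjNormal_apply] at this
        show (v : Y) * c = c * v
        calc (v : Y) * c = (c * v * c⁻¹) * c := by rw [this]
          _ = c * v := by group
      · intro h1
        apply Subtype.ext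
        rw [hρ₀, MulAut.conjNormal_apply]
        calc c * (v : Y) * c⁻¹ = ((v : Y) * c) * c⁻¹ := by rw [h1.eq]
          _ = v := by group
    set π₀ : Y →* ρ₀.range := ρ₀.rangeRestrict with hπ₀
    have hπs : Function.Surjective π₀ := ρ₀.rangeRestrict_surjective
    haveI : Finite ρ₀.range := Finite.of_surjective π₀ hπs
    have hπ1 : ∀ y : Y, π₀ y = 1 ↔ ∀ u ∈ U, Commute u y := by
      intro y
      constructor
      · intro h u hu
        have h1 : ρ₀ y = 1 := congrArg Subtype.val h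
        have h2 : ρ₀ y ⟨u, hu⟩ = ⟨u, hu⟩ := by rw [h1]; rfl
        exact (hρ₀fix y ⟨u, hu⟩).mp h2
      · intro h
        apply Subtype.ext
        show ρ₀ y = 1
        ext u
        exact congrArg Subtype.val ((hρ₀fix y u).mpr (h u u.2))
    have hπV : ∀ v ∈ V, π₀ v = 1 := by
      intro v hv
      rw [hπ1]
      intro u hu
      exact (hUcV u hu v hv).symm
    haveI : Nontrivial U := (Subgroup.nontrivial_iff_ne_bot U).mpr hUne
    have hU2 : IsPGroup 2 U := hS.V2.to_le hUV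
    have hirr : ∀ W : Subgroup U, (∀ g : ρ₀.range, ∀ w ∈ W, (ρ₀.range.subtype g) w ∈ W) →
        W = ⊥ ∨ W = ⊤ := by
      intro W hW
      set N : Subgroup Y := W.map U.subtype with hN
      have hNU : N ≤ U := by
        rintro _ ⟨w, _, rfl⟩
        exact w.2
      have hNn : N.Normal := by
        constructor
        rintro _ ⟨w, hw, rfl⟩ g
        refine ⟨ρ₀ g w, hW (π₀ g) w hw, ?_⟩
        show ((ρ₀ g w : U) : Y) = g * (w : Y) * g⁻¹
        rw [hρ₀, MulAut.conjNormal_apply]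
      by_cases hNb : N = ⊥
      · left
        exact (Subgroup.map_eq_bot_iff_of_injective W U.subtype_injective).mp hNb
      · right
        have hNeq := hUmin N hNn hNb hNU
        rw [eq_top_iff]
        intro u _
        have hu : (u : Y) ∈ N := by rw [hNeq]; exact u.2
        obtain ⟨w, hw, hwu⟩ := hu
        have : w = u := Subtype.ext hwu
        rwa [← this]
    set P : Subgroup ρ₀.range := M.map π₀ with hP
    have hP3 : IsPGroup 3 P := by
      rintro ⟨_, m, hm, rfl⟩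
      obtain ⟨k, hk⟩ := hS.M3 m hm
      refine ⟨k, ?_⟩
      apply Subtype.ext
      show (π₀ m) ^ (3 ^ k) = 1
      rw [← map_pow]
      exact hπV _ hk
    set d : ρ₀.range := π₀ d₀ with hd
    have hdd : d * d = 1 := by rw [hd, ← map_mul, hS.w3.sq hd₀, map_one]
    have hgen : closure {y | ∃ g : ρ₀.range, y = g * d * g⁻¹} = ⊤ := by
      have h1 : (closure E).map π₀ = ⊤ := by
        rw [hS.gen, ← MonoidHom.range_eq_map, MonoidHom.range_eq_top.mpr hπs]
      rw [MonoidHom.map_closure] at h1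
      rw [eq_top_iff, ← h1]
      apply Subgroup.closure_mono
      rintro _ ⟨e, he, rfl⟩
      obtain ⟨g, hg⟩ := hS.trans d₀ hd₀ e he
      exact ⟨π₀ g, by rw [← hg, map_mul, map_mul, map_inv]⟩
    have hform : ∀ g : ρ₀.range, ∃ e ∈ E, d * (g * d * g⁻¹) = π₀ (d₀ * e) := by
      intro g
      obtain ⟨g₀, rfl⟩ := hπs g
      exact ⟨g₀ * d₀ * g₀⁻¹, hS.w3.conj g₀ d₀ hd₀, by rw [hd]; simp only [map_mul, map_inv]⟩
    have hPd : ∀ g, d * (g * d * g⁻¹) ∈ P := by
      intro g
      obtain ⟨e, he, heq⟩ := hform g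
      rw [heq]
      exact ⟨d₀ * e, hS.idx d₀ hd₀ e he, rfl⟩
    have hsq1 : ∀ e ∈ E, (d₀ * e) ^ 2 = 1 → π₀ (d₀ * e) = 1 := by
      intro e he h2
      have hmem : π₀ (d₀ * e) ∈ P := ⟨d₀ * e, hS.idx d₀ hd₀ e he, rfl⟩
      have h3 : (⟨π₀ (d₀ * e), hmem⟩ : P) ^ 2 = 1 := by
        apply Subtype.ext
        show (π₀ (d₀ * e)) ^ 2 = 1
        rw [← map_pow, h2, map_one]
      have := eq_one_of_sq_of_three hP3 h3
      exact congrArg Subtype.val this
    have hT3 : ∀ g, (d * (g * d * g⁻¹)) ^ 3 = 1 := by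
      intro g
      obtain ⟨e, he, heq⟩ := hform g
      rw [heq]
      rcases hS.w3.h23 d₀ hd₀ e he with h2 | h3
      · rw [hsq1 e he h2, one_pow]
      · rw [← map_pow, h3, map_one]
    have hP1 : ∀ g, d * (g * d * g⁻¹) ≠ 1 →
        ∀ u : U, (ρ₀.range.subtype (d * (g * d * g⁻¹))) u = u → (ρ₀.range.subtype d) u = u := by
      intro g hne u hu
      obtain ⟨e, he, heq⟩ := hform g
      rw [heq] at hne hu
      have hnc1 : ¬ Commute d₀ e := fun hc => hne (hsq1 e he (hS.w3.sq_of_commute hd₀ he hc))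
      have hu' : ρ₀ (d₀ * e) u = u := hu
      rw [hρ₀fix] at hu'
      have := hS.w3.L1 hS.Vn hS.V2 hd₀ he hnc1 (hUV u.2) hu'
      show ρ₀ d₀ u = u
      rw [hρ₀fix]
      exact this
    obtain ⟨sX, hsX9, hsX⟩ := module_bound hU2 ρ₀.range.subtype (Subgroup.subtype_injective _)
      hirr P hP3 d hdd hgen hPd hT3 hP1
    let c : ρ₀.range → Y := fun t' => if h : ∃ e ∈ E, π₀ e = t' then h.choose else 1
    refine ⟨sX.image c, Finset.card_image_le.trans hsX9, ?_⟩
    intro e he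
    obtain ⟨g, hg⟩ := hS.trans d₀ hd₀ e he
    have hmem : π₀ e ∈ sX := by
      have := hsX (π₀ g)
      rw [hd, ← map_inv, ← map_mul, ← map_mul, hg] at this
      exact this
    have hex : ∃ e' ∈ E, π₀ e' = π₀ e := ⟨e, he, rfl⟩
    refine ⟨c (π₀ e), Finset.mem_image_of_mem _ hmem, ?_⟩
    have hc : c (π₀ e) = hex.choose := dif_pos hex
    obtain ⟨htE, hteq⟩ := hex.choose_spec
    rw [hc]
    set t := hex.choose with ht
    have hcomm : Commute t e := by
      by_contra hnc'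
      have h1 : π₀ (t * e) = 1 := by rw [map_mul, hteq, ← map_mul, hS.w3.sq he, map_one]
      rw [hπ1] at h1
      have h2 : ∀ u ∈ U, Commute u t := fun u hu =>
        hS.w3.L1 hS.Vn hS.V2 htE he hnc' (hUV hu) (h1 u hu)
      have h3 : ∀ e' ∈ E, ∀ u ∈ U, Commute u e' := by
        intro e' he' u hu
        obtain ⟨g', hg'⟩ := hS.trans t htE e' he'
        have hu' : g'⁻¹ * u * g' ∈ U := by
          have := hUn.conj_mem u hu g'⁻¹
          rwa [inv_inv] at this
        have e1 := (h2 _ hu').eq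
        rw [← hg']
        show u * (g' * t * g'⁻¹) = (g' * t * g'⁻¹) * u
        calc u * (g' * t * g'⁻¹) = g' * ((g'⁻¹ * u * g') * t) * g'⁻¹ := by group
          _ = g' * (t * (g'⁻¹ * u * g')) * g'⁻¹ := by rw [e1]
          _ = (g' * t * g'⁻¹) * u := by group
      exact hu₀x ((h3 d₀ hd₀ u₀ hu₀).mul_right (h3 e₀ he₀ u₀ hu₀))
    have := hS.mem_V_of_commute htE he hcomm
    rwa [hS.w3.inv htE]

end Cfsg.Agent.Lib.Helper1.T3O2
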