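import Mathlib
import Cfsg.Prelude.Def_SporadicB
import Cfsg.Prelude.Def_Solvable
import Cfsg.Prelude.Def_Local
import Cfsg.Prelude.Def_Transfer
import Cfsg.Prelude.Def_Classical
import Cfsg.Agent.Lib.Helper1.Fitting
import Cfsg.Agent.Lib.Helper9.FStar
import Cfsg.Agent.Lib.Helper1.T3O2D

/-!
Helper1: a class `E` of `3`-transpositions of `H` with `F*(H) = O₂(H)` and `H = O_{2,3,2}(H)`:
the image of `E` in `H / O₂(H)` has at most `9` elements.
-/

set_option autoImplicit false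
set_option linter.unusedSectionVars false
set_option linter.unusedVariables false

open Subgroup
open scoped commutatorElement

namespace Cfsg.Agent.Lib.Helper1.T3O2

universe u

variable {H : Type u} [Group H] {E : Set H}

theorem w3_of_class (hE : Cfsg.IsThreeTranspositionClass E) :
    W3 E ∧ closure E = ⊤ ∧ ∀ x ∈ E, ∀ y ∈ E, ∃ g : H, g * x * g⁻¹ = y := by
  obtain ⟨⟨hord, h23⟩, ⟨d, hd, hDd⟩, hgen⟩ := hE
  have hmem : ∀ y : H, y ∈ E ↔ ∃ c : H, c * d * c⁻¹ = y := by
    intro y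
    rw [hDd]
    show IsConj d y ↔ _
    rw [isConj_iff]
  refine ⟨⟨?_, h23, ?_⟩, hgen, ?_⟩
  · intro e he
    have := pow_orderOf_eq_one e
    rw [hord e he, pow_two] at this
    exact this
  · intro g e he
    obtain ⟨c, rfl⟩ := (hmem e).mp he
    exact (hmem _).mpr ⟨g * c, by group⟩
  · intro x hx y hy
    obtain ⟨c, rfl⟩ := (hmem x).mp hx
    obtain ⟨c', rfl⟩ := (hmem y).mp hy
    exact ⟨c' * c⁻¹, by group⟩

/-- a generating class of `3`-transpositions maps into a single coset of a normal subgroup of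
`2`-power index -/
theorem idx_of_two_power_index [Finite H] (hw : W3 E) (hgen : closure E = ⊤)
    (htr : ∀ x ∈ E, ∀ y ∈ E, ∃ g : H, g * x * g⁻¹ = y) (M : Subgroup H) (hMn : M.Normal)
    (k : ℕ) (hk : M.index = 2 ^ k) : ∀ d ∈ E, ∀ e ∈ E, d * e ∈ M := by
  haveI := hMn
  haveI : Fact (Nat.Prime 2) := ⟨Nat.prime_two⟩
  set f : H →* H ⧸ M := QuotientGroup.mk' M with hf
  have hfs : Function.Surjective f := QuotientGroup.mk'_surjective M
  have hcard : Nat.card (H ⧸ M) = 2 ^ k := by rw [← hk, Subgroup.index_eq_card]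
  have hQ2 : IsPGroup 2 (H ⧸ M) := IsPGroup.of_card hcard
  have hw' := hw.map f hfs
  have hcomm : ∀ a ∈ f '' E, ∀ b ∈ f '' E, Commute a b := by
    intro a ha b hb
    rcases hw'.h23 a ha b hb with h2 | h3
    · exact hw'.commute_of_sq ha hb h2
    · obtain ⟨j, hj⟩ := hQ2 (a * b)
      have h1 : a * b = 1 :=
        eq_one_of_pow_pow_coprime hj h3 (Nat.Coprime.pow_left j (by norm_num))
      exact hw'.commute_of_sq ha hb (by rw [h1, one_pow])
  have hgen' : closure (f '' E) = ⊤ := by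
    rw [← MonoidHom.map_closure, hgen, ← MonoidHom.range_eq_map, MonoidHom.range_eq_top.mpr hfs]
  have hcen : ∀ a ∈ f '' E, ∀ q : H ⧸ M, q * a = a * q := by
    intro a ha q
    have hle : closure (f '' E) ≤ centralizer {a} := by
      rw [closure_le]
      intro b hb
      rw [SetLike.mem_coe, mem_centralizer_iff]
      intro y hy
      rw [Set.mem_singleton_iff] at hy
      rw [hy]
      exact (hcomm a ha b hb).eq
    have hq : q ∈ centralizer {a} := hle (by rw [hgen']; exact mem_top q)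
    rw [mem_centralizer_iff] at hq
    exact (hq a rfl).symm
  intro d hd e he
  obtain ⟨g, hg⟩ := htr d hd e he
  have h1 : f e = f d := by
    rw [← hg, map_mul, map_mul, map_inv, hcen (f d) ⟨d, hd, rfl⟩ (f g), mul_inv_cancel_right]
  have h2 : f (d * e) = 1 := by rw [map_mul, h1, ← map_mul, hw.sq hd, map_one]
  exact (QuotientGroup.eq_one_iff _).mp h2

/-- the situation `Sit` for a class of `3`-transpositions in `H = O_{2,3,2}(H)` -/
theorem sit_of_class [Finite H] (hE : Cfsg.IsThreeTranspositionClass E)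
    (P : Sylow 3 (H ⧸ Cfsg.pCore 2 H)) (hPn : (P : Subgroup (H ⧸ Cfsg.pCore 2 H)).Normal)
    (k : ℕ) (hk : (P : Subgroup (H ⧸ Cfsg.pCore 2 H)).index = 2 ^ k) :
    Sit E (Cfsg.pCore 2 H)
      ((P : Subgroup (H ⧸ Cfsg.pCore 2 H)).comap (QuotientGroup.mk' (Cfsg.pCore 2 H))) := by
  haveI : Fact (Nat.Prime 2) := ⟨Nat.prime_two⟩
  obtain ⟨hw, hgen, htr⟩ := w3_of_class hE
  set f := QuotientGroup.mk' (Cfsg.pCore 2 H) with hf
  have hfs : Function.Surjective f := QuotientGroup.mk'_surjective _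
  refine ⟨hw, hgen, htr, inferInstance, Cfsg.Agent.Lib.Helper1.pCore_isPGroup 2 H, ?_, ?_, ?_⟩
  · intro v hv
    rw [mem_comap]
    have : f v = 1 := (QuotientGroup.eq_one_iff v).mpr hv
    rw [this]
    exact one_mem _
  · intro m hm
    rw [mem_comap] at hm
    obtain ⟨j, hj⟩ := P.isPGroup' ⟨f m, hm⟩
    refine ⟨j, ?_⟩
    have h1 : (f m) ^ (3 ^ j) = 1 := by
      have := congrArg Subtype.val hj
      simpa using this
    rw [← map_pow] at h1
    exact (QuotientGroup.eq_one_iff _).mp h1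
  · exact idx_of_two_power_index hw hgen htr _ (hPn.comap f) k
      (by rw [Subgroup.index_comap_of_surjective _ hfs]; exact hk)

/-- the main bound in the quotient -/
theorem card_image_le_nine [Finite H] (hE : Cfsg.IsThreeTranspositionClass E)
    (hE2 : ∃ a ∈ E, ∃ b ∈ E, a ≠ b)
    (hF : Cfsg.generalizedFittingSubgroup H = Cfsg.pCore 2 H)
    (P : Sylow 3 (H ⧸ Cfsg.pCore 2 H)) (hPn : (P : Subgroup (H ⧸ Cfsg.pCore 2 H)).Normal)
    (k : ℕ) (hk : (P : Subgroup (H ⧸ Cfsg.pCore 2 H)).index = 2 ^ k) :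
    (∃ d₀ ∈ E, ∃ e₀ ∈ E, ¬ Commute d₀ e₀) ∧
    ∃ s : Finset (H ⧸ Cfsg.pCore 2 H), s.card ≤ 9 ∧
      ∀ e ∈ E, (QuotientGroup.mk' (Cfsg.pCore 2 H)) e ∈ s := by
  classical
  have hS := sit_of_class hE P hPn k hk
  have hcent : centralizer (Cfsg.pCore 2 H : Set H) ≤ Cfsg.pCore 2 H := by
    have := Cfsg.Agent.Lib.Helper9.centralizer_generalizedFittingSubgroup_le (G := H)
    rwa [hF] at this
  -- a non-commuting pair
  have hnc : ∃ d₀ ∈ E, ∃ e₀ ∈ E, ¬ Commute d₀ e₀ := by
    by_contra hcon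
    push Not at hcon
    obtain ⟨a, ha, b, hb, hab⟩ := hE2
    apply hab
    have hcen : ∀ q : H, q * a = a * q := by
      intro q
      have hle : closure E ≤ centralizer {a} := by
        rw [closure_le]
        intro c hc
        rw [SetLike.mem_coe, mem_centralizer_iff]
        intro y hy
        rw [Set.mem_singleton_iff] at hy
        rw [hy]
        exact (hcon a ha c hc).eq
      have hq : q ∈ centralizer {a} := hle (by rw [hS.gen]; exact mem_top q)
      rw [mem_centralizer_iff] at hq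
      exact (hq a rfl).symm
    obtain ⟨g, hg⟩ := hS.trans a ha b hb
    rw [← hg, hcen g, mul_inv_cancel_right]
  refine ⟨hnc, ?_⟩
  obtain ⟨d₀, hd₀, e₀, he₀, hnc₀⟩ := hnc
  have hact : ∃ v ∈ Cfsg.pCore 2 H, ¬ Commute v (d₀ * e₀) := by
    by_contra hcon
    push Not at hcon
    have hx : d₀ * e₀ ∈ Cfsg.pCore 2 H := by
      apply hcent
      rw [mem_centralizer_iff]
      intro v hv
      exact (hcon v hv).eq
    exact hnc₀ (hS.commute_of_mem_V hd₀ he₀ hx)
  obtain ⟨s, hs9, hs⟩ := main_bound _ H E _ _ rfl hS ⟨d₀, hd₀, e₀, he₀, hnc₀, hact⟩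
  refine ⟨s.image (QuotientGroup.mk' (Cfsg.pCore 2 H)), Finset.card_image_le.trans hs9, ?_⟩
  intro e he
  obtain ⟨t, ht, hte⟩ := hs e he
  rw [Finset.mem_image]
  refine ⟨t, ht, ?_⟩
  have : (QuotientGroup.mk' (Cfsg.pCore 2 H)) (t⁻¹ * e) = 1 := (QuotientGroup.eq_one_iff _).mpr hte
  rw [map_mul, map_inv] at this
  exact (inv_mul_eq_one.mp this)

end Cfsg.Agent.Lib.Helper1.T3O2
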