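import Mathlib
import Cfsg.Agent.Lib.Helper4.Basic

/-!
Helper1: two generators of order `3` whose products `x y`, `x y⁻¹` have order `3` generate a group of
order dividing `27` in which `[x, y]` is central (the Burnside group `B(2,3)`); and the extension by
an inverting involution has order `54`.
-/

set_option autoImplicit false
set_option linter.unusedSectionVars false
set_option linter.unusedVariables false

open Subgroup
open scoped commutatorElement

namespace Cfsg.Agent.Lib.Helper1.T3O2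

variable {G : Type*} [Group G]

theorem card_sup_dvd_of_le_normalizer (A B : Subgroup G) (hAB : A ≤ normalizer (B : Set G))
    {m n : ℕ} (hm : Nat.card A ∣ m) (hn : Nat.card B ∣ n) (hmn : m * n ≠ 0) :
    Finite (A ⊔ B : Subgroup G) ∧ Nat.card (A ⊔ B : Subgroup G) ∣ m * n := by
  have h1 := Cfsg.Agent.Lib.Helper4.card_sup_mul_card_inf A B hAB
  have hm0 : m ≠ 0 := fun h => hmn (by rw [h, zero_mul])
  have hn0 : n ≠ 0 := fun h => hmn (by rw [h, mul_zero])
  have hA0 : Nat.card A ≠ 0 := fun h => hm0 (by rw [h] at hm; exact Nat.eq_zero_of_zero_dvd hm)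
  have hB0 : Nat.card B ≠ 0 := fun h => hn0 (by rw [h] at hn; exact Nat.eq_zero_of_zero_dvd hn)
  have h2 : Nat.card (A ⊔ B : Subgroup G) ≠ 0 := by
    intro h
    rw [h, zero_mul] at h1
    exact (Nat.mul_ne_zero hA0 hB0) h1.symm
  refine ⟨Nat.finite_of_card_ne_zero h2, ?_⟩
  exact (Dvd.intro _ h1).trans (Nat.mul_dvd_mul hm hn)

theorem card_zpowers_dvd_of_pow {a : G} {n : ℕ} (h : a ^ n = 1) : Nat.card (zpowers a) ∣ n := by
  rw [Nat.card_zpowers]
  exact orderOf_dvd_of_pow_eq_one h

theorem zpowers_le_normalizer_of_commute {a b : G} (h : Commute a b) :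
    zpowers a ≤ normalizer (zpowers b : Set G) := by
  refine le_trans ?_ (Subgroup.centralizer_le_normalizer (zpowers b : Set G))
  rw [zpowers_le, mem_centralizer_iff]
  intro z hz
  rw [SetLike.mem_coe, mem_zpowers_iff] at hz
  obtain ⟨k, rfl⟩ := hz
  exact ((h.zpow_right k).eq).symm

theorem mem_normalizer_closure {S : Set G} {g : G} (h1 : ∀ s ∈ S, g * s * g⁻¹ ∈ closure S)
    (h2 : ∀ s ∈ S, g⁻¹ * s * g ∈ closure S) : g ∈ normalizer (closure S : Set G) := by
  have f1 : ∀ n ∈ closure S, g * n * g⁻¹ ∈ closure S := by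
    intro n hn
    induction hn using closure_induction with
    | mem a ha => exact h1 a ha
    | one => simp
    | mul a b _ _ iha ihb =>
      have : g * (a * b) * g⁻¹ = (g * a * g⁻¹) * (g * b * g⁻¹) := by group
      rw [this]; exact mul_mem iha ihb
    | inv a _ iha =>
      have : g * a⁻¹ * g⁻¹ = (g * a * g⁻¹)⁻¹ := by group
      rw [this]; exact inv_mem iha
  have f2 : ∀ n ∈ closure S, g⁻¹ * n * g ∈ closure S := by
    intro n hn
    induction hn using closure_induction with
    | mem a ha => exact h2 a ha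
    | one => simp
    | mul a b _ _ iha ihb =>
      have : g⁻¹ * (a * b) * g = (g⁻¹ * a * g) * (g⁻¹ * b * g) := by group
      rw [this]; exact mul_mem iha ihb
    | inv a _ iha =>
      have : g⁻¹ * a⁻¹ * g = (g⁻¹ * a * g)⁻¹ := by group
      rw [this]; exact inv_mem iha
  rw [mem_normalizer_iff]
  intro n
  constructor
  · exact f1 n
  · intro hn
    have := f2 _ hn
    have e : g⁻¹ * (g * n * g⁻¹) * g = n := by group
    rwa [e] at this

theorem closure_pair_eq_sup (a b : G) : closure {a, b} = zpowers a ⊔ zpowers b := by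
  rw [zpowers_eq_closure, zpowers_eq_closure, ← Subgroup.closure_union]
  rfl

theorem closure_triple_eq_sup (a b c : G) : closure {a, b, c} = zpowers a ⊔ closure {b, c} := by
  rw [zpowers_eq_closure, ← Subgroup.closure_union]
  rfl

/-- `B(2,3)` -/
theorem b23 (x y : G) (hx : x ^ 3 = 1) (hy : y ^ 3 = 1) (hxy : (x * y) ^ 3 = 1)
    (hxy1 : (x * y⁻¹) ^ 3 = 1) :
    Commute ⁅x, y⁆ x ∧ Commute ⁅x, y⁆ y ∧ Finite (closure {x, y}) ∧
      Nat.card (closure {x, y}) ∣ 27 := by
  have hyyy : y * y * y = 1 := by rw [← hy]; simp [pow_succ]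
  have hyyi : y * y = y⁻¹ := eq_inv_of_mul_eq_one_left hyyy
  have hyiyi : y⁻¹ * y⁻¹ = y := by
    calc y⁻¹ * y⁻¹ = (y * y * y) * (y⁻¹ * y⁻¹) := by rw [hyyy, one_mul]
      _ = y := by group
  have h1 : x * y * (x * y) * (x * y) = 1 := by rw [← hxy]; simp [pow_succ]
  have h2 : x * y⁻¹ * (x * y⁻¹) * (x * y⁻¹) = 1 := by rw [← hxy1]; simp [pow_succ]
  have e1 : x * y * x = y⁻¹ * x⁻¹ * y⁻¹ := by
    calc x * y * x = (x * y * (x * y) * (x * y)) * (y⁻¹ * x⁻¹ * y⁻¹) := by group
      _ = y⁻¹ * x⁻¹ * y⁻¹ := by rw [h1, one_mul]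
  have e2 : x * y⁻¹ * x = y * x⁻¹ * y := by
    calc x * y⁻¹ * x = (x * y⁻¹ * (x * y⁻¹) * (x * y⁻¹)) * (y * x⁻¹ * y) := by group
      _ = y * x⁻¹ * y := by rw [h2, one_mul]
  set b := y⁻¹ * x * y with hb
  set c := y * x * y⁻¹ with hc
  have hab : x * b = c⁻¹ := by
    calc x * b = (x * y⁻¹ * x) * y := by rw [hb]; group
      _ = y * x⁻¹ * (y * y) := by rw [e2]; group
      _ = c⁻¹ := by rw [hyyi, hc]; group
  have hba : b * x = c⁻¹ := by
    calc b * x = y⁻¹ * (x * y * x) := by rw [hb]; group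
      _ = (y⁻¹ * y⁻¹) * x⁻¹ * y⁻¹ := by rw [e1]; group
      _ = c⁻¹ := by rw [hyiyi, hc]; group
  have hcomm : Commute x b := by rw [Commute, SemiconjBy, hab, hba]
  have hb3 : b ^ 3 = 1 := by
    have : b = y⁻¹ * x * (y⁻¹)⁻¹ := by rw [hb, inv_inv]
    rw [this, conj_pow, hx]; group
  -- the subgroups
  set N : Subgroup G := closure {x, b} with hN
  have hNsup : N = zpowers x ⊔ zpowers b := closure_pair_eq_sup x b
  obtain ⟨hNfin, hNcard⟩ := card_sup_dvd_of_le_normalizer (zpowers x) (zpowers b)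
    (zpowers_le_normalizer_of_commute hcomm) (card_zpowers_dvd_of_pow hx)
    (card_zpowers_dvd_of_pow hb3) (by norm_num)
  rw [← hNsup] at hNfin hNcard
  have hxN : x ∈ N := subset_closure (by simp)
  have hbN : b ∈ N := subset_closure (by simp)
  have hcN : c ∈ N := by
    have : c = (x * b)⁻¹ := by rw [hab, inv_inv]
    rw [this]
    exact inv_mem (mul_mem hxN hbN)
  have hyN : zpowers y ≤ normalizer (N : Set G) := by
    rw [zpowers_le]
    apply mem_normalizer_closure
    · intro s hs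
      rcases hs with rfl | hs
      · exact hcN
      · rw [Set.mem_singleton_iff] at hs
        rw [hs]
        have : y * b * y⁻¹ = x := by rw [hb]; group
        rw [this]; exact hxN
    · intro s hs
      rcases hs with rfl | hs
      · exact hbN
      · rw [Set.mem_singleton_iff] at hs
        rw [hs]
        have : y⁻¹ * b * y = c := by
          rw [hb, hc]
          calc y⁻¹ * (y⁻¹ * x * y) * y = (y⁻¹ * y⁻¹) * x * (y * y) := by group
            _ = y * x * y⁻¹ := by rw [hyiyi, hyyi]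
        rw [this]; exact hcN
  obtain ⟨hKfin, hKcard⟩ := card_sup_dvd_of_le_normalizer (zpowers y) N hyN
    (card_zpowers_dvd_of_pow hy) hNcard (by norm_num)
  have hK : closure {x, y} = zpowers y ⊔ N := by
    apply le_antisymm
    · rw [closure_le]
      rintro z (rfl | hz)
      · exact (le_sup_right : N ≤ zpowers y ⊔ N) hxN
      · rw [Set.mem_singleton_iff] at hz
        rw [hz]
        exact (le_sup_left : zpowers y ≤ zpowers y ⊔ N) (mem_zpowers y)
    · apply sup_le
      · rw [zpowers_le]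
        exact subset_closure (by simp)
      · rw [hN, closure_le]
        rintro z (rfl | hz)
        · exact subset_closure (by simp)
        · rw [Set.mem_singleton_iff] at hz
          rw [hz, hb]
          have hy' : y ∈ closure {x, y} := subset_closure (by simp)
          have hx' : x ∈ closure {x, y} := subset_closure (by simp)
          exact mul_mem (mul_mem (inv_mem hy') hx') hy'
  -- the commutator
  have hcomm_c : Commute x c := by
    have : c = (x * b)⁻¹ := by rw [hab, inv_inv]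
    rw [this]
    exact ((Commute.refl x).mul_right hcomm).inv_right
  have hcomm_bc : Commute b c := by
    have : c = (x * b)⁻¹ := by rw [hab, inv_inv]
    rw [this]
    exact (hcomm.symm.mul_right (Commute.refl b)).inv_right
  have hcomm1 : ⁅x, y⁆ = x * c⁻¹ := by rw [commutatorElement_def, hc]; group
  have hyc : y * c * y⁻¹ = b := by
    rw [hc, hb]
    calc y * (y * x * y⁻¹) * y⁻¹ = (y * y) * x * (y⁻¹ * y⁻¹) := by group
      _ = y⁻¹ * x * y := by rw [hyyi, hyiyi]
  refine ⟨?_, ?_, ?_, ?_⟩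
  · rw [hcomm1]
    exact (Commute.refl x).mul_left hcomm_c.symm.inv_left
  · -- y (x c⁻¹) y⁻¹ = c b⁻¹ = x c⁻¹
    rw [hcomm1]
    show x * c⁻¹ * y = y * (x * c⁻¹)
    have h5 : y * (x * c⁻¹) * y⁻¹ = c * b⁻¹ := by
      calc y * (x * c⁻¹) * y⁻¹ = (y * x * y⁻¹) * (y * c * y⁻¹)⁻¹ := by group
        _ = c * b⁻¹ := by rw [hyc]
    have h6 : c * b⁻¹ = x * c⁻¹ := by
      -- x b = c⁻¹, so c b⁻¹ = c (c x)  ... use x = c⁻¹ b⁻¹
      have hx' : x = c⁻¹ * b⁻¹ := by
        calc x = (x * b) * b⁻¹ := by group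
          _ = c⁻¹ * b⁻¹ := by rw [hab]
      have hc3 : c ^ 3 = 1 := by rw [hc, conj_pow, hx]; group
      have hcci : c * c = c⁻¹ := by
        have : c * c * c = 1 := by rw [← hc3]; simp [pow_succ]
        exact eq_inv_of_mul_eq_one_left this
      have h7 : c⁻¹ * c⁻¹ = c := by
        calc c⁻¹ * c⁻¹ = (c * c)⁻¹ := by group
          _ = c := by rw [hcci, inv_inv]
      have h8 : b⁻¹ * c⁻¹ = c⁻¹ * b⁻¹ := (hcomm_bc.inv_inv).eq
      symm
      calc x * c⁻¹ = c⁻¹ * b⁻¹ * c⁻¹ := by rw [← hx']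
        _ = c⁻¹ * (b⁻¹ * c⁻¹) := by group
        _ = c⁻¹ * (c⁻¹ * b⁻¹) := by rw [h8]
        _ = (c⁻¹ * c⁻¹) * b⁻¹ := by group
        _ = c * b⁻¹ := by rw [h7]
    calc x * c⁻¹ * y = (c * b⁻¹) * y := by rw [h6]
      _ = (y * (x * c⁻¹) * y⁻¹) * y := by rw [h5]
      _ = y * (x * c⁻¹) := by group
  · rw [hK]; exact hKfin
  · rw [hK]; exact hKcard

/-- the extension of a group of order `27` generated by `x`, `y` by an involution inverting `x` and
`y` has order `54` -/
theorem k54 {d x y : G} (hd2 : orderOf d = 2) (hdx : d * x * d⁻¹ = x⁻¹) (hdy : d * y * d⁻¹ = y⁻¹)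
    (hQ : Nat.card (closure {x, y}) = 27) : Nat.card (closure {d, x, y}) = 54 := by
  set Q : Subgroup G := closure {x, y} with hQdef
  have hxQ : x ∈ Q := subset_closure (by simp)
  have hyQ : y ∈ Q := subset_closure (by simp)
  have hnorm : zpowers d ≤ normalizer (Q : Set G) := by
    rw [zpowers_le]
    apply mem_normalizer_closure
    · intro s hs
      rcases hs with rfl | hs
      · rw [hdx]; exact inv_mem hxQ
      · rw [Set.mem_singleton_iff] at hs
        rw [hs, hdy]; exact inv_mem hyQ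
    · have key : ∀ z : G, d * z * d⁻¹ = z⁻¹ → d⁻¹ * z * d = z⁻¹ := by
        intro z hz
        have h1 : d⁻¹ * z⁻¹ * d = z := by rw [← hz]; group
        have h2 : d⁻¹ * z * d = (d⁻¹ * z⁻¹ * d)⁻¹ := by group
        rw [h2, h1]
      intro s hs
      rcases hs with rfl | hs
      · rw [key _ hdx]; exact inv_mem hxQ
      · rw [Set.mem_singleton_iff] at hs
        rw [hs, key _ hdy]; exact inv_mem hyQ
  have h1 := Cfsg.Agent.Lib.Helper4.card_sup_mul_card_inf (zpowers d) Q hnorm
  have hcd : Nat.card (zpowers d) = 2 := by rw [Nat.card_zpowers, hd2]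
  have hinf : zpowers d ⊓ Q = ⊥ := by
    apply disjoint_iff.mp
    apply Subgroup.disjoint_of_coprime_natCard
    rw [hcd, hQ]
    norm_num
  rw [hinf, Subgroup.card_bot, mul_one, hcd, hQ] at h1
  rw [closure_triple_eq_sup, h1]

end Cfsg.Agent.Lib.Helper1.T3O2
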