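import Mathlib
import Cfsg.Agent.Lib.Helper3.Dihedral
import Cfsg.Agent.Lib.Helper1.T3O2C
import Cfsg.Agent.Lib.Helper1.T3O2F

/-!
Helper1: a group `X` generated by a normal set `D` of involutions, any two of which have product of
order dividing `3`, with at most `9` members and no "inverted `3²`": `X ≅ S₃` or `|X| = 54` with
generators `d, x, y` satisfying the defining relations of `3^{1+2} : 2`.
-/

set_option autoImplicit false
set_option linter.unusedSectionVars false
set_option linter.unusedVariables false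

open Subgroup
open scoped commutatorElement

namespace Cfsg.Agent.Lib.Helper1.T3O2

variable {X : Type*} [Group X] {D : Set X}

theorem ne_one_of_odd (hw : W3 D) (hodd : ∀ a ∈ D, ∀ b ∈ D, (a * b) ^ 3 = 1) {d e : X}
    (hd : d ∈ D) (he : e ∈ D) (hde : d ≠ e) : d ≠ 1 ∧ d * e ≠ 1 := by
  have hee := hw.sq he
  constructor
  · intro h1
    apply hde
    have h3 := hodd d hd e he
    rw [h1, one_mul] at h3
    have : e = 1 := by
      have h2 : e ^ 2 = 1 := by rw [pow_two, hee]
      exact eq_one_of_pow_pow_coprime h2 h3 (by norm_num)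
    rw [h1, this]
  · intro h1
    apply hde
    have := eq_inv_of_mul_eq_one_left h1
    rw [hw.inv he] at this
    exact this

theorem braid_of_odd (hw : W3 D) (hodd : ∀ a ∈ D, ∀ b ∈ D, (a * b) ^ 3 = 1) {d e : X}
    (hd : d ∈ D) (he : e ∈ D) : e * d * e = d * e * d := by
  have h3 := hodd d hd e he
  have h1 : d * e * (d * e) * (d * e) = 1 := by rw [← h3]; simp [pow_succ]
  calc e * d * e = (d * e * d)⁻¹⁻¹ * ((d * e * d)⁻¹ * (e * d * e))⁻¹⁻¹ := by group
    _ = d * e * d := by
        have h2 : (d * e * d)⁻¹ = d * e * d := by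
          rw [mul_inv_rev, mul_inv_rev, hw.inv hd, hw.inv he, mul_assoc]
        have h4 : (d * e * d) * (e * d * e) = 1 := by rw [← h1]; group
        rw [h2, h4, inv_one, inv_one, mul_one, h2]

/-- case A: all members are `d`, `e`, `d e d` -/
theorem caseA (hw : W3 D) (hgen : closure D = ⊤) (hodd : ∀ a ∈ D, ∀ b ∈ D, (a * b) ^ 3 = 1)
    {d e : X} (hd : d ∈ D) (he : e ∈ D) (hde : d ≠ e)
    (hall : ∀ f ∈ D, f = d ∨ f = e ∨ f = d * e * d) :
    Nonempty (X ≃* Equiv.Perm (Fin 3)) := by
  obtain ⟨hd1, hx1⟩ := ne_one_of_odd hw hodd hd he hde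
  have hdd := hw.sq hd
  have hx3 : (d * e) ^ 3 = 1 := hodd d hd e he
  have hsx : d * (d * e) * d = (d * e)⁻¹ := by
    rw [mul_inv_rev, hw.inv hd, hw.inv he]
    calc d * (d * e) * d = (d * d) * e * d := by group
      _ = e * d := by rw [hdd, one_mul]
  haveI : Fact (Nat.Prime 3) := ⟨Nat.prime_three⟩
  have hord : orderOf (d * e) = 3 := orderOf_eq_prime hx3 hx1
  have hdz : d ∉ zpowers (d * e) := by
    intro hmem
    rw [mem_zpowers_iff] at hmem
    obtain ⟨k, hk⟩ := hmem
    have h3 : d ^ 3 = 1 := by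
      rw [← hk, ← zpow_natCast, ← zpow_mul, mul_comm, zpow_mul, zpow_natCast, hx3, one_zpow]
    have h2 : d ^ 2 = 1 := by rw [pow_two, hdd]
    exact hd1 (eq_one_of_pow_pow_coprime h2 h3 (by norm_num))
  set φ := Cfsg.Agent.Lib.Helper3.dihLift (n := 3) (d * e) d hx3 hdd hsx with hφ
  have hinj : Function.Injective φ :=
    Cfsg.Agent.Lib.Helper3.dihLift_injective (d * e) d hx3 hdd hsx hord hdz
  have hrange : φ.range = ⊤ := by
    rw [hφ, Cfsg.Agent.Lib.Helper3.dihLift_range, eq_top_iff, ← hgen, closure_le]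
    have hdK : d ∈ closure {d * e, d} := subset_closure (by simp)
    have hxK : d * e ∈ closure {d * e, d} := subset_closure (by simp)
    have heK : e ∈ closure {d * e, d} := by
      have h : d * (d * e) ∈ closure {d * e, d} := mul_mem hdK hxK
      rwa [← mul_assoc, hdd, one_mul] at h
    intro f hf
    rcases hall f hf with rfl | rfl | rfl
    · exact hdK
    · exact heK
    · exact mul_mem (mul_mem hdK heK) hdK
  have hsurj : Function.Surjective φ := MonoidHom.range_eq_top.mp hrange
  exact ⟨(MulEquiv.ofBijective φ ⟨hinj, hsurj⟩).symm.trans Cfsg.Agent.Lib.Helper3.d3Equiv⟩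

/-- case B, the subgroup `⟨d, x, y⟩` -/
theorem caseB_card (hw : W3 D) (hodd : ∀ a ∈ D, ∀ b ∈ D, (a * b) ^ 3 = 1)
    {d e f : X} (hd : d ∈ D) (he : e ∈ D) (hf : f ∈ D) (hde : d ≠ e)
    (hno9 : ¬ Commute (d * e) (d * f)) :
    (d ^ 2 = 1 ∧ (d * e) ^ 3 = 1 ∧ (d * f) ^ 3 = 1 ∧ d * (d * e) * d⁻¹ = (d * e)⁻¹ ∧
      d * (d * f) * d⁻¹ = (d * f)⁻¹ ∧ Commute ⁅d * e, d * f⁆ (d * e) ∧
      Commute ⁅d * e, d * f⁆ (d * f)) ∧
    Nat.card (closure {d * e, d * f}) = 27 ∧ Nat.card (closure {d, d * e, d * f}) = 54 := by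
  obtain ⟨hd1, hx1⟩ := ne_one_of_odd hw hodd hd he hde
  have hdd := hw.sq hd
  have hdi := hw.inv hd
  have hx3 : (d * e) ^ 3 = 1 := hodd d hd e he
  have hy3 : (d * f) ^ 3 = 1 := hodd d hd f hf
  have hinvx : ∀ g ∈ D, d * (d * g) * d⁻¹ = (d * g)⁻¹ := by
    intro g hg
    rw [mul_inv_rev, hdi, hw.inv hg]
    calc d * (d * g) * d = (d * d) * g * d := by group
      _ = g * d := by rw [hdd, one_mul]
  have hxy3 : (d * e * (d * f)) ^ 3 = 1 := by
    have : d * e * (d * f) = (d * e * d) * f := by group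
    rw [this]
    exact hodd _ (hw.cj hd he) f hf
  have hxy3' : (d * e * (d * f)⁻¹) ^ 3 = 1 := by
    have : d * e * (d * f)⁻¹ = d * (e * f) * d⁻¹ := by
      rw [mul_inv_rev, hdi, hw.inv hf]; group
    rw [this, conj_pow, hodd e he f hf]; group
  obtain ⟨hc1, hc2, hfin, hcard⟩ := b23 (d * e) (d * f) hx3 hy3 hxy3 hxy3'
  have hd2 : orderOf d = 2 := by
    haveI : Fact (Nat.Prime 2) := ⟨Nat.prime_two⟩
    exact orderOf_eq_prime (by rw [pow_two, hdd]) hd1
  haveI := hfin
  have hQ27 : Nat.card (closure {d * e, d * f}) = 27 := by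
    set Q := closure {d * e, d * f} with hQ
    have hxQ : d * e ∈ Q := subset_closure (by simp)
    have hyQ : d * f ∈ Q := subset_closure (by simp)
    have hnc : ¬ ∀ a b : Q, a * b = b * a := by
      intro h
      apply hno9
      have := h ⟨_, hxQ⟩ ⟨_, hyQ⟩
      exact congrArg Subtype.val this
    have hdiv : Nat.card Q ∣ 3 ^ 3 := by norm_num; exact hcard
    obtain ⟨m, hm, hcm⟩ := (Nat.dvd_prime_pow Nat.prime_three).mp hdiv
    haveI : Fact (Nat.Prime 3) := ⟨Nat.prime_three⟩
    interval_cases m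
    · exfalso
      apply hnc
      intro a b
      haveI : Subsingleton Q := (Nat.card_eq_one_iff_unique.mp (by simpa using hcm)).1
      rw [Subsingleton.elim a b]
    · exfalso
      apply hnc
      have hcyc : IsCyclic Q := isCyclic_of_prime_card (p := 3) (by simpa using hcm)
      intro a b
      exact (IsCyclic.isMulCommutative (α := Q)).is_comm.comm a b
    · exfalso
      apply hnc
      have := IsPGroup.isMulCommutative_of_card_eq_prime_sq (p := 3) (G := Q) (by simpa using hcm)
      intro a b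
      exact this.is_comm.comm a b
    · simpa using hcm
  refine ⟨⟨by rw [pow_two, hdd], hx3, hy3, hinvx e he, hinvx f hf, hc1, hc2⟩, hQ27, ?_⟩
  exact k54 hd2 (hinvx e he) (hinvx f hf) hQ27

/-- case B: `⟨d, x, y⟩` is everything when there are at most `9` members -/
theorem caseB_top [Finite X] (hw : W3 D) (hgen : closure D = ⊤)
    (hodd : ∀ a ∈ D, ∀ b ∈ D, (a * b) ^ 3 = 1)
    (s : Finset X) (hs9 : s.card ≤ 9) (hDs : ∀ a ∈ D, a ∈ s)
    {d e f : X} (hd : d ∈ D) (he : e ∈ D) (hf : f ∈ D) (hde : d ≠ e) (hfd : f ≠ d) (hfe : f ≠ e)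
    (hfded : f ≠ d * e * d) (hQ27 : Nat.card (closure {d * e, d * f}) = 27) :
    closure {d, d * e, d * f} = ⊤ := by
  classical
  have hdd := hw.sq hd
  have hdi := hw.inv hd
  set Q : Subgroup X := closure {d * e, d * f} with hQ
  have hxQ : d * e ∈ Q := subset_closure (by simp)
  have hyQ : d * f ∈ Q := subset_closure (by simp)
  set O : Set X := {z | ∃ q ∈ Q, z = q * d * q⁻¹} with hO
  -- the orbit has a number of elements dividing `27`
  have hOdvd : O.ncard ∣ 27 := by
    letI : MulAction Q X := MulAction.compHom X ((MulAut.conj).comp Q.subtype)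
    have h1 := MulAction.index_stabilizer Q d
    have h2 : (MulAction.stabilizer Q d).index ∣ Nat.card Q := Subgroup.index_dvd_card _
    have h3 : MulAction.orbit Q d = O := by
      ext z
      rw [MulAction.mem_orbit_iff, hO]
      constructor
      · rintro ⟨q, rfl⟩
        exact ⟨q, q.2, rfl⟩
      · rintro ⟨q, hq, rfl⟩
        exact ⟨⟨q, hq⟩, rfl⟩
    rw [h1, h3, hQ27] at h2
    exact h2
  have hOD : O ⊆ D := by
    rintro z ⟨q, _, rfl⟩
    exact hw.conj q d hd
  have hOs : O ⊆ (s : Set X) := fun z hz => hDs z (hOD hz)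
  have hOle : O.ncard ≤ 9 := by
    have := Set.ncard_le_ncard hOs (Finset.finite_toSet s)
    rw [Set.ncard_coe_finset] at this
    exact this.trans hs9
  -- four members of the orbit
  have hbr : ∀ g ∈ D, (d * g) * d * (d * g)⁻¹ = g := by
    intro g hg
    rw [mul_inv_rev, hdi, hw.inv hg]
    calc d * g * d * (g * d) = d * (g * d * g) * d := by group
      _ = d * (d * g * d) * d := by rw [braid_of_odd hw hodd hd hg]
      _ = (d * d) * g * (d * d) := by group
      _ = g := by rw [hdd, one_mul, mul_one]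
  have hdO : d ∈ O := ⟨1, one_mem _, by simp⟩
  have heO : e ∈ O := ⟨d * e, hxQ, (hbr e he).symm⟩
  have hfO : f ∈ O := ⟨d * f, hyQ, (hbr f hf).symm⟩
  have hdedO : d * e * d ∈ O := by
    refine ⟨(d * e)⁻¹, inv_mem hxQ, ?_⟩
    rw [inv_inv, mul_inv_rev, hdi, hw.inv he]
    calc d * e * d = e * d * e := (braid_of_odd hw hodd hd he).symm
      _ = e * d * d * (d * e) := by
          have : e * d * d * (d * e) = e * (d * d) * (d * e) := by group
          rw [this, hdd]; group
  have hne1 : d ≠ d * e * d := by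
    intro h
    apply hde
    have : e = d * (d * e * d) * d := by
      calc e = (d * d) * e * (d * d) := by rw [hdd, one_mul, mul_one]
        _ = d * (d * e * d) * d := by group
    rw [this, ← h, hdd, one_mul]
  have hne2 : e ≠ d * e * d := by
    intro h
    obtain ⟨_, hx1⟩ := ne_one_of_odd hw hodd hd he hde
    apply hx1
    have hc : Commute d e := by
      show d * e = e * d
      calc d * e = d * (d * e * d) := by rw [← h]
        _ = (d * d) * e * d := by group
        _ = e * d := by rw [hdd, one_mul]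
    have h2 := hw.sq_of_commute hd he hc
    exact eq_one_of_pow_pow_coprime h2 (hodd d hd e he) (by norm_num)
  have h4 : 4 ≤ O.ncard := by
    set T : Finset X := {d, e, d * e * d, f} with hT
    have hTc : T.card = 4 := by
      rw [hT, Finset.card_insert_of_notMem, Finset.card_insert_of_notMem,
        Finset.card_insert_of_notMem, Finset.card_singleton]
      · simp only [Finset.mem_singleton]
        exact fun h => hfded h.symm
      · simp only [Finset.mem_insert, Finset.mem_singleton, not_or]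
        exact ⟨hne2, fun h => hfe h.symm⟩
      · simp only [Finset.mem_insert, Finset.mem_singleton, not_or]
        exact ⟨hde, hne1, fun h => hfd h.symm⟩
    have hTO : (T : Set X) ⊆ O := by
      intro z hz
      rw [hT] at hz
      simp only [Finset.coe_insert, Finset.coe_singleton, Set.mem_insert_iff,
        Set.mem_singleton_iff] at hz
      rcases hz with rfl | rfl | rfl | rfl
      · exact hdO
      · exact heO
      · exact hdedO
      · exact hfO
    have hOfin : O.Finite := Set.toFinite O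
    have := Set.ncard_le_ncard hTO hOfin
    rw [Set.ncard_coe_finset, hTc] at this
    exact this
  have hO9 : O.ncard = 9 := by
    have hdiv : O.ncard ∣ 3 ^ 3 := by norm_num; exact hOdvd
    obtain ⟨m, hm, hcm⟩ := (Nat.dvd_prime_pow Nat.prime_three).mp hdiv
    interval_cases m <;> omega
  have hOeq : O = (s : Set X) := by
    apply Set.eq_of_subset_of_ncard_le hOs _ (Finset.finite_toSet s)
    rw [Set.ncard_coe_finset, hO9]
    exact hs9
  rw [eq_top_iff, ← hgen, closure_le]
  intro a ha
  have : a ∈ O := by rw [hOeq]; exact hDs a ha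
  obtain ⟨q, hq, rfl⟩ := this
  have hQK : Q ≤ closure {d, d * e, d * f} := by
    rw [hQ]
    apply Subgroup.closure_mono
    intro z hz
    exact Set.mem_insert_of_mem _ hz
  have hdK : d ∈ closure {d, d * e, d * f} := subset_closure (by simp)
  exact mul_mem (mul_mem (hQK hq) hdK) (inv_mem (hQK hq))

end Cfsg.Agent.Lib.Helper1.T3O2
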