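import Mathlib
import Cfsg.Agent.Lib.Helper1.T3O2E
import Cfsg.Agent.Lib.Helper1.T3O2G

/-!
Helper1: properties of the image of a class of `3`-transpositions of `H` in `H / O₂(H)` when
`F*(H) = O₂(H)` and `H = O_{2,3,2}(H)`.
-/

set_option autoImplicit false
set_option linter.unusedSectionVars false
set_option linter.unusedVariables false

open Subgroup
open scoped commutatorElement

namespace Cfsg.Agent.Lib.Helper1.T3O2

universe u

variable {H : Type u} [Group H] [Finite H] {E : Set H} {M : Subgroup H}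

/-- equality of images of members of `E` is commutation -/
theorem mk_eq_iff_commute (hS : Sit E (Cfsg.pCore 2 H) M) {d e : H} (hd : d ∈ E) (he : e ∈ E) :
    (QuotientGroup.mk' (Cfsg.pCore 2 H)) d = (QuotientGroup.mk' (Cfsg.pCore 2 H)) e ↔
      Commute d e := by
  set f := QuotientGroup.mk' (Cfsg.pCore 2 H) with hf
  have hee : f e * f e = 1 := by rw [← map_mul, hS.w3.sq he, map_one]
  constructor
  · intro h
    apply hS.commute_of_mem_V hd he
    apply (QuotientGroup.eq_one_iff _).mp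
    show f (d * e) = 1
    rw [map_mul, h, hee]
  · intro h
    have h1 := hS.mem_V_of_commute hd he h
    have h2 : f (d * e) = 1 := (QuotientGroup.eq_one_iff _).mpr h1
    rw [map_mul] at h2
    calc f d = f d * (f e * f e) := by rw [hee, mul_one]
      _ = (f d * f e) * f e := by group
      _ = f e := by rw [h2, one_mul]

theorem quot_odd (hS : Sit E (Cfsg.pCore 2 H) M) :
    ∀ a ∈ (QuotientGroup.mk' (Cfsg.pCore 2 H)) '' E,
      ∀ b ∈ (QuotientGroup.mk' (Cfsg.pCore 2 H)) '' E, (a * b) ^ 3 = 1 := by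
  rintro _ ⟨d, hd, rfl⟩ _ ⟨e, he, rfl⟩
  by_cases hc : Commute d e
  · rw [(mk_eq_iff_commute hS hd he).mpr hc, ← map_mul, hS.w3.sq he, map_one, one_pow]
  · rw [← map_mul, ← map_pow, hS.w3.cube hd he hc, map_one]

/-- no member of `E` lies in `O₂(H)` if some two members do not commute -/
theorem not_mem_V (hS : Sit E (Cfsg.pCore 2 H) M) {d e : H} (hd : d ∈ E) (he : e ∈ E)
    (hnc : ¬ Commute d e) : d ∉ Cfsg.pCore 2 H := by
  intro hdV
  apply hnc
  apply hS.commute_of_mem_V hd he
  obtain ⟨g, hg⟩ := hS.trans d hd e he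
  have heV : e ∈ Cfsg.pCore 2 H := by
    rw [← hg]
    exact hS.Vn.conj_mem d hdV g
  exact mul_mem hdV heV

/-- no inverted `3²` in the quotient -/
theorem quot_no9 (hS : Sit E (Cfsg.pCore 2 H) M)
    (hcent : centralizer (Cfsg.pCore 2 H : Set H) ≤ Cfsg.pCore 2 H)
    {d e f' : H} (hd : d ∈ E) (he : e ∈ E) (hf' : f' ∈ E) (hde : ¬ Commute d e)
    (hdf : ¬ Commute d f') (hef : ¬ Commute e f') (hdedf : ¬ Commute (d * e * d) f') :
    ¬ Commute ((QuotientGroup.mk' (Cfsg.pCore 2 H)) d * (QuotientGroup.mk' (Cfsg.pCore 2 H)) e)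
      ((QuotientGroup.mk' (Cfsg.pCore 2 H)) d * (QuotientGroup.mk' (Cfsg.pCore 2 H)) f') := by
  set f := QuotientGroup.mk' (Cfsg.pCore 2 H) with hf
  intro hcomm
  have hw := hS.w3
  have hdd := hw.sq hd
  have hdi := hw.inv hd
  have hx3 : (d * e) ^ 3 = 1 := hw.cube hd he hde
  have hy3 : (d * f') ^ 3 = 1 := hw.cube hd hf' hdf
  have hxy3 : (d * e * (d * f')) ^ 3 = 1 := by
    have : d * e * (d * f') = (d * e * d) * f' := by group
    rw [this]
    exact hw.cube (hw.cj hd he) hf' hdedf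
  have hxy3' : (d * e * (d * f')⁻¹) ^ 3 = 1 := by
    have : d * e * (d * f')⁻¹ = d * (e * f') * d⁻¹ := by
      rw [mul_inv_rev, hdi, hw.inv hf']; group
    rw [this, conj_pow, hw.cube he hf' hef]; group
  obtain ⟨_, _, hfin, hcard⟩ := b23 (d * e) (d * f') hx3 hy3 hxy3 hxy3'
  haveI := hfin
  set Q := closure {d * e, d * f'} with hQ
  have hxQ : d * e ∈ Q := subset_closure (by simp)
  have hyQ : d * f' ∈ Q := subset_closure (by simp)
  -- the commutator is trivial
  have hcQ : ⁅d * e, d * f'⁆ ∈ Q := by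
    rw [commutatorElement_def]
    exact mul_mem (mul_mem (mul_mem hxQ hyQ) (inv_mem hxQ)) (inv_mem hyQ)
  have hc27 : ⁅d * e, d * f'⁆ ^ 27 = 1 := by
    have h1 : (⟨_, hcQ⟩ : Q) ^ Nat.card Q = 1 := pow_card_eq_one'
    obtain ⟨m, hm⟩ := hcard
    have h2 : (⟨_, hcQ⟩ : Q) ^ 27 = 1 := by rw [hm, pow_mul, h1, one_pow]
    exact congrArg Subtype.val h2
  have hcV : ⁅d * e, d * f'⁆ ∈ Cfsg.pCore 2 H := by
    apply (QuotientGroup.eq_one_iff _).mp
    show f ⁅d * e, d * f'⁆ = 1
    rw [map_commutatorElement, map_mul, map_mul]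
    exact commutatorElement_eq_one_iff_commute.mpr hcomm
  have hc1 : ⁅d * e, d * f'⁆ = 1 := by
    obtain ⟨k, hk⟩ := hS.V2 ⟨_, hcV⟩
    have hk' : ⁅d * e, d * f'⁆ ^ (2 ^ k) = 1 := by
      have := congrArg Subtype.val hk
      simpa using this
    exact eq_one_of_pow_pow_coprime hk' hc27 (Nat.Coprime.pow_left k (by norm_num))
  have hxy : Commute (d * e) (d * f') := commutatorElement_eq_one_iff_commute.mp hc1
  have hinv : ∀ g ∈ E, d * (d * g) * d = (d * g)⁻¹ := by
    intro g hg
    rw [mul_inv_rev, hdi, hw.inv hg]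
    calc d * (d * g) * d = (d * d) * g * d := by group
      _ = g * d := by rw [hdd, one_mul]
  have hne : ∀ g ∈ E, ¬ Commute d g → d * g ≠ 1 := by
    intro g hg hnc h1
    apply hnc
    have := eq_inv_of_mul_eq_one_left h1
    rw [hw.inv hg] at this
    rw [this]
  have hyx : d * f' ≠ d * e := by
    intro h
    apply hef
    rw [mul_left_cancel h]
  have hyxi : d * f' ≠ (d * e)⁻¹ := by
    intro h
    apply hdedf
    rw [mul_inv_rev, hdi, hw.inv he] at h
    have : f' = d * e * d := by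
      calc f' = (d * d) * f' := by rw [hdd, one_mul]
        _ = d * (d * f') := by group
        _ = d * (e * d) := by rw [h]
        _ = d * e * d := by group
    rw [this]
  have hall := hw.L3 hS.Vn hS.V2 hd (hinv e he) (hinv f' hf') hxy hx3 hy3 (hne e he hde)
    (hne f' hf' hdf) hyx hyxi
  have hdV : d ∈ Cfsg.pCore 2 H := by
    apply hcent
    rw [mem_centralizer_iff]
    intro v hv
    exact (hall v hv).eq
  exact not_mem_V hS hd he hde hdV

end Cfsg.Agent.Lib.Helper1.T3O2
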