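import Mathlib
import Cfsg.Agent.Lib.Helper1.T3O2H

/-!
Helper1: a group `G` generated by a class of `3`-transpositions with `F*(G) = O₂(G)` and
`|G / O₂(G)| = 54`: `O₂(G)` has a complement.
-/

set_option autoImplicit false
set_option linter.unusedSectionVars false
set_option linter.unusedVariables false

open Subgroup
open scoped commutatorElement

namespace Cfsg.Agent.Lib.Helper1.T3O2

universe u

variable {G : Type u} [Group G] [Finite G] {D : Set G}

/-- a group of order `54` has a normal Sylow `3`-subgroup of index `2` -/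
theorem sylow_three_of_card_54 {X : Type*} [Group X] (hX : Nat.card X = 54) (P : Sylow 3 X) :
    (P : Subgroup X).index = 2 := by
  haveI : Fact (Nat.Prime 3) := ⟨Nat.prime_three⟩
  haveI : Finite X := Nat.finite_of_card_ne_zero (by rw [hX]; norm_num)
  have h1 := (P : Subgroup X).card_mul_index
  have h2 : ¬ 3 ∣ (P : Subgroup X).index := P.not_dvd_index
  obtain ⟨k, hk⟩ := IsPGroup.iff_card.mp P.isPGroup'
  rw [hk, hX] at h1
  have hk4 : k < 4 := by
    by_contra hcon
    push Not at hcon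
    have h3 : 3 ^ 4 ∣ 3 ^ k := pow_dvd_pow 3 hcon
    have h4 : 3 ^ 4 ∣ 54 := h3.trans (Dvd.intro _ h1)
    norm_num at h4
  interval_cases k
  · exfalso; apply h2; rw [pow_zero, one_mul] at h1; rw [h1]; norm_num
  · exfalso; apply h2
    have : (P : Subgroup X).index = 18 := by omega
    rw [this]; norm_num
  · exfalso; apply h2
    have : (P : Subgroup X).index = 6 := by omega
    rw [this]; norm_num
  · omega

theorem exists_complement (hD : Cfsg.IsThreeTranspositionClass D)
    (hF : Cfsg.generalizedFittingSubgroup G = Cfsg.pCore 2 G)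
    (hcard : Nat.card (G ⧸ Cfsg.pCore 2 G) = 54) :
    ∃ K : Subgroup G, (Cfsg.pCore 2 G).IsComplement' K := by
  classical
  haveI : Fact (Nat.Prime 3) := ⟨Nat.prime_three⟩
  obtain P : Sylow 3 (G ⧸ Cfsg.pCore 2 G) := default
  have hidx := sylow_three_of_card_54 hcard P
  have hPn : (P : Subgroup (G ⧸ Cfsg.pCore 2 G)).Normal := Subgroup.normal_of_index_eq_two hidx
  have hS := sit_of_class hD P hPn 1 (by rw [hidx]; norm_num)
  have hcent : centralizer (Cfsg.pCore 2 G : Set G) ≤ Cfsg.pCore 2 G := by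
    have := Cfsg.Agent.Lib.Helper9.centralizer_generalizedFittingSubgroup_le (G := G)
    rwa [hF] at this
  set f := QuotientGroup.mk' (Cfsg.pCore 2 G) with hf
  have hfs : Function.Surjective f := QuotientGroup.mk'_surjective _
  have hw := hS.w3
  have hw' := hw.map f hfs
  have hgen' : closure (f '' D) = ⊤ := by
    rw [← MonoidHom.map_closure, hS.gen, ← MonoidHom.range_eq_map, MonoidHom.range_eq_top.mpr hfs]
  have hodd := quot_odd hS
  obtain ⟨d, hd⟩ : ∃ d, d ∈ D := by
    obtain ⟨_, ⟨d, hd, _⟩, _⟩ := hD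
    exact ⟨d, hd⟩
  -- a second image
  have h1 : ∃ e ∈ D, f e ≠ f d := by
    by_contra hcon
    push Not at hcon
    have hle : closure (f '' D) ≤ zpowers (f d) := by
      rw [closure_le]
      rintro _ ⟨e, he, rfl⟩
      rw [hcon e he]
      exact mem_zpowers _
    rw [hgen'] at hle
    have h2 : Nat.card (G ⧸ Cfsg.pCore 2 G) ≤ Nat.card (zpowers (f d)) := by
      have := Subgroup.card_le_of_le hle
      rwa [Subgroup.card_top] at this
    have h3 : Nat.card (zpowers (f d)) ∣ 2 := by
      apply card_zpowers_dvd_of_pow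
      rw [pow_two, ← map_mul, hw.sq hd, map_one]
    have h4 := Nat.le_of_dvd (by norm_num) h3
    omega
  obtain ⟨e, he, hde'⟩ := h1
  have hde : f d ≠ f e := fun h => hde' h.symm
  have h2 : ∃ f' ∈ D, f f' ≠ f d ∧ f f' ≠ f e ∧ f f' ≠ f d * f e * f d := by
    by_contra hcon
    push Not at hcon
    have hall : ∀ g ∈ f '' D, g = f d ∨ g = f e ∨ g = f d * f e * f d := by
      rintro _ ⟨g, hg, rfl⟩
      by_cases h1 : f g = f d
      · exact Or.inl h1
      · by_cases h2 : f g = f e
        · exact Or.inr (Or.inl h2)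
        · exact Or.inr (Or.inr (hcon g hg h1 h2))
    obtain ⟨φ⟩ := caseA hw' hgen' hodd ⟨d, hd, rfl⟩ ⟨e, he, rfl⟩ hde hall
    have h6 : Nat.card (G ⧸ Cfsg.pCore 2 G) = 6 := by
      rw [Nat.card_congr φ.toEquiv, Nat.card_eq_fintype_card, Fintype.card_perm, Fintype.card_fin]
      rfl
    omega
  obtain ⟨f', hf', hfd, hfe, hfded⟩ := h2
  -- non-commuting
  have hnc1 : ¬ Commute d e := fun h => hde ((mk_eq_iff_commute hS hd he).mpr h)
  have hnc2 : ¬ Commute d f' := fun h => hfd ((mk_eq_iff_commute hS hd hf').mpr h).symm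
  have hnc3 : ¬ Commute e f' := fun h => hfe ((mk_eq_iff_commute hS he hf').mpr h).symm
  have hnc4 : ¬ Commute (d * e * d) f' := by
    intro h
    apply hfded
    have := (mk_eq_iff_commute hS (hw.cj hd he) hf').mpr h
    rw [← this, map_mul, map_mul]
  have hno9 := quot_no9 hS hcent hd he hf' hnc1 hnc2 hnc3 hnc4
  obtain ⟨_, hQ27bar, hK54bar⟩ := caseB_card hw' hodd ⟨d, hd, rfl⟩ ⟨e, he, rfl⟩ ⟨f', hf', rfl⟩
    hde hno9
  -- the subgroup in `G`
  have hdd := hw.sq hd
  have hdi := hw.inv hd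
  have hx3 : (d * e) ^ 3 = 1 := hw.cube hd he hnc1
  have hy3 : (d * f') ^ 3 = 1 := hw.cube hd hf' hnc2
  have hxy3 : (d * e * (d * f')) ^ 3 = 1 := by
    have : d * e * (d * f') = (d * e * d) * f' := by group
    rw [this]
    exact hw.cube (hw.cj hd he) hf' hnc4
  have hxy3' : (d * e * (d * f')⁻¹) ^ 3 = 1 := by
    have : d * e * (d * f')⁻¹ = d * (e * f') * d⁻¹ := by
      rw [mul_inv_rev, hdi, hw.inv hf']; group
    rw [this, conj_pow, hw.cube he hf' hnc3]; group
  obtain ⟨_, _, hfin, hcardQ⟩ := b23 (d * e) (d * f') hx3 hy3 hxy3 hxy3'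
  set Q : Subgroup G := closure {d * e, d * f'} with hQ
  have hQmap : Q.map f = closure {f d * f e, f d * f f'} := by
    rw [hQ, MonoidHom.map_closure, Set.image_pair, map_mul, map_mul]
  have hQ27 : Nat.card Q = 27 := by
    have h1 : Nat.card (Q.map f) ∣ Nat.card Q :=
      Subgroup.card_dvd_of_surjective (f.subgroupMap Q) (f.subgroupMap_surjective Q)
    rw [hQmap, hQ27bar] at h1
    exact Nat.dvd_antisymm hcardQ h1
  have hinvx : ∀ g ∈ D, d * (d * g) * d⁻¹ = (d * g)⁻¹ := by
    intro g hg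
    rw [mul_inv_rev, hdi, hw.inv hg]
    calc d * (d * g) * d = (d * d) * g * d := by group
      _ = g * d := by rw [hdd, one_mul]
  have hd2 : orderOf d = 2 := hD.1.1 d hd
  have hK54 := k54 hd2 (hinvx e he) (hinvx f' hf') hQ27
  set K : Subgroup G := closure {d, d * e, d * f'} with hK
  haveI : Finite (G ⧸ Cfsg.pCore 2 G) := Nat.finite_of_card_ne_zero (by rw [hcard]; norm_num)
  have hKmap : K.map f = ⊤ := by
    have h1 : K.map f = closure {f d, f d * f e, f d * f f'} := by
      rw [hK, MonoidHom.map_closure]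
      congr 1
      ext z
      simp only [Set.mem_image, Set.mem_insert_iff, Set.mem_singleton_iff]
      constructor
      · rintro ⟨w, (rfl | rfl | rfl), rfl⟩
        · left; rfl
        · right; left; rw [map_mul]
        · right; right; rw [map_mul]
      · rintro (rfl | rfl | rfl)
        · exact ⟨d, Or.inl rfl, rfl⟩
        · exact ⟨d * e, Or.inr (Or.inl rfl), by rw [map_mul]⟩
        · exact ⟨d * f', Or.inr (Or.inr rfl), by rw [map_mul]⟩
    rw [h1]
    apply Subgroup.eq_top_of_card_eq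
    rw [hK54bar, hcard]
  have hsup : K ⊔ Cfsg.pCore 2 G = ⊤ := by
    rw [eq_top_iff]
    intro g _
    have hg : f g ∈ K.map f := by rw [hKmap]; exact mem_top _
    obtain ⟨k, hk, hkg⟩ := hg
    have h1 : k⁻¹ * g ∈ Cfsg.pCore 2 G := by
      apply (QuotientGroup.eq_one_iff _).mp
      show f (k⁻¹ * g) = 1
      rw [map_mul, map_inv, hkg, inv_mul_cancel]
    have : g = k * (k⁻¹ * g) := by group
    rw [this]
    exact mul_mem ((le_sup_left : K ≤ K ⊔ Cfsg.pCore 2 G) hk)
      ((le_sup_right : Cfsg.pCore 2 G ≤ K ⊔ Cfsg.pCore 2 G) h1)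
  have hform := Cfsg.Agent.Lib.Helper4.card_sup_mul_card_inf K (Cfsg.pCore 2 G)
    (by rw [normalizer_eq_top]; exact le_top)
  have hG : Nat.card G = Nat.card (G ⧸ Cfsg.pCore 2 G) * Nat.card (Cfsg.pCore 2 G) :=
    Subgroup.card_eq_card_quotient_mul_card_subgroup _
  rw [hsup, Subgroup.card_top, hK54, hG, hcard] at hform
  have hVpos : 0 < Nat.card (Cfsg.pCore 2 G) := Nat.card_pos
  have hinf1 : Nat.card (K ⊓ Cfsg.pCore 2 G : Subgroup G) = 1 := by
    have : 54 * Nat.card (Cfsg.pCore 2 G) * Nat.card (K ⊓ Cfsg.pCore 2 G : Subgroup G) =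
        54 * Nat.card (Cfsg.pCore 2 G) * 1 := by rw [hform, mul_one]
    exact Nat.eq_of_mul_eq_mul_left (by positivity) this
  have hdisj : Disjoint (Cfsg.pCore 2 G) K := by
    rw [disjoint_iff, inf_comm]
    exact Subgroup.card_eq_one.mp hinf1
  refine ⟨K, Subgroup.isComplement'_of_card_mul_and_disjoint ?_ hdisj⟩
  rw [hK54, hG, hcard, mul_comm]

end Cfsg.Agent.Lib.Helper1.T3O2
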