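import Mathlib
import Cfsg.Agent.Lib.Helper1.T3O2H

/-!
Helper1: a group `H` generated by a class of `3`-transpositions with at least two members,
`F*(H) = O₂(H)` and `H = O_{2,3,2}(H)`: `H / O₂(H)` is `S₃` or has order `54` with generators
`d, x, y` satisfying the relations of `3^{1+2} : 2`.
-/

set_option autoImplicit false
set_option linter.unusedSectionVars false
set_option linter.unusedVariables false

open Subgroup
open scoped commutatorElement

namespace Cfsg.Agent.Lib.Helper1.T3O2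

universe u

variable {H : Type u} [Group H] [Finite H] {E : Set H}

theorem quot_structure (hE : Cfsg.IsThreeTranspositionClass E)
    (hE2 : ∃ a ∈ E, ∃ b ∈ E, a ≠ b)
    (hF : Cfsg.generalizedFittingSubgroup H = Cfsg.pCore 2 H)
    (h232 : ∃ P : Sylow 3 (H ⧸ Cfsg.pCore 2 H), (P : Subgroup (H ⧸ Cfsg.pCore 2 H)).Normal ∧
      ∃ k : ℕ, (P : Subgroup (H ⧸ Cfsg.pCore 2 H)).index = 2 ^ k) :
    Nonempty (H ⧸ Cfsg.pCore 2 H ≃* Equiv.Perm (Fin 3)) ∨
      (Nat.card (H ⧸ Cfsg.pCore 2 H) = 54 ∧ ∃ d x y : H ⧸ Cfsg.pCore 2 H,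
        d ^ 2 = 1 ∧ x ^ 3 = 1 ∧ y ^ 3 = 1 ∧ d * x * d⁻¹ = x⁻¹ ∧ d * y * d⁻¹ = y⁻¹ ∧
        Commute ⁅x, y⁆ x ∧ Commute ⁅x, y⁆ y ∧ closure {d, x, y} = ⊤) := by
  classical
  obtain ⟨P, hPn, k, hk⟩ := h232
  have hS := sit_of_class hE P hPn k hk
  obtain ⟨⟨d, hd, e, he, hnc1⟩, s, hs9, hs⟩ := card_image_le_nine hE hE2 hF P hPn k hk
  have hcent : centralizer (Cfsg.pCore 2 H : Set H) ≤ Cfsg.pCore 2 H := by
    have := Cfsg.Agent.Lib.Helper9.centralizer_generalizedFittingSubgroup_le (G := H)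
    rwa [hF] at this
  set f := QuotientGroup.mk' (Cfsg.pCore 2 H) with hf
  have hfs : Function.Surjective f := QuotientGroup.mk'_surjective _
  have hw := hS.w3
  have hw' := hw.map f hfs
  have hgen' : closure (f '' E) = ⊤ := by
    rw [← MonoidHom.map_closure, hS.gen, ← MonoidHom.range_eq_map, MonoidHom.range_eq_top.mpr hfs]
  have hodd := quot_odd hS
  have hde : f d ≠ f e := fun h => hnc1 ((mk_eq_iff_commute hS hd he).mp h)
  have hDs : ∀ a ∈ f '' E, a ∈ s := by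
    rintro _ ⟨g, hg, rfl⟩
    exact hs g hg
  by_cases h2 : ∃ f' ∈ E, f f' ≠ f d ∧ f f' ≠ f e ∧ f f' ≠ f d * f e * f d
  · right
    obtain ⟨f', hf', hfd, hfe, hfded⟩ := h2
    have hnc2 : ¬ Commute d f' := fun h => hfd ((mk_eq_iff_commute hS hd hf').mpr h).symm
    have hnc3 : ¬ Commute e f' := fun h => hfe ((mk_eq_iff_commute hS he hf').mpr h).symm
    have hnc4 : ¬ Commute (d * e * d) f' := by
      intro h
      apply hfded
      have := (mk_eq_iff_commute hS (hw.cj hd he) hf').mpr h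
      rw [← this, map_mul, map_mul]
    have hno9 := quot_no9 hS hcent hd he hf' hnc1 hnc2 hnc3 hnc4
    obtain ⟨hR, hQ27, hK54⟩ := caseB_card hw' hodd ⟨d, hd, rfl⟩ ⟨e, he, rfl⟩ ⟨f', hf', rfl⟩
      hde hno9
    have htop := caseB_top hw' hgen' hodd s hs9 hDs ⟨d, hd, rfl⟩ ⟨e, he, rfl⟩ ⟨f', hf', rfl⟩
      hde hfd hfe hfded hQ27
    refine ⟨?_, f d, f d * f e, f d * f f', hR.1, hR.2.1, hR.2.2.1, hR.2.2.2.1, hR.2.2.2.2.1,
      hR.2.2.2.2.2.1, hR.2.2.2.2.2.2, htop⟩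
    rw [htop, Subgroup.card_top] at hK54
    exact hK54
  · left
    push Not at h2
    have hall : ∀ g ∈ f '' E, g = f d ∨ g = f e ∨ g = f d * f e * f d := by
      rintro _ ⟨g, hg, rfl⟩
      by_cases h1 : f g = f d
      · exact Or.inl h1
      · by_cases h3 : f g = f e
        · exact Or.inr (Or.inl h3)
        · exact Or.inr (Or.inr (h2 g hg h1 h3))
    exact caseA hw' hgen' hodd ⟨d, hd, rfl⟩ ⟨e, he, rfl⟩ hde hall

end Cfsg.Agent.Lib.Helper1.T3O2
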