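import Mathlib
import Cfsg.Agent.Lib.Helper8.TW.Defs
import Cfsg.Agent.Lib.Helper8.TW.StageIDefs
import Cfsg.Agent.Lib.Helper26.TWFibB
import Cfsg.Agent.Lib.Helper16.TWImg
import Cfsg.Agent.Lib.Helper16.TWRootA
import Cfsg.Agent.Lib.Helper16.TWRootC

/-!
# S5641 (C7 maximal in SL_n), Stage I leaves I6d `U_props`, I6e `exists_two_RD`, I6k `card_Idx` (helper1)
Exact signatures of `notes/S5641_I_leaves.lean`.
-/

set_option autoImplicit false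
set_option linter.unusedSectionVars false
set_option linter.unusedVariables false

namespace Cfsg.Agent.Lib.Helper1.TWLeaf
open Matrix Cfsg.Geo Cfsg.Agent.Lib.Helper18.AschA89 Cfsg.Agent.Lib.Helper8.TW

variable {F : Type*} [Field F] [Fintype F] {t m : ℕ}

section anyfield
variable {K : Type*} [Field K] {t m : ℕ}

/-- `F ∙ y ≤ kerF ξ` when `ξ ⬝ᵥ y = 0` -/
lemma span_le_kerF {ξ y : Fin m → K} (h : ξ ⬝ᵥ y = 0) : (K ∙ y) ≤ kerF ξ := by
  rw [Submodule.span_singleton_le_iff_mem]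
  exact h

/-- `Wf i y ≤ Cf i ξ` when `ξ ⬝ᵥ y = 0` -/
lemma Wf_le_Cf (i : Fin t) {ξ y : Fin m → K} (h : ξ ⬝ᵥ y = 0) : Wf i y ≤ Cf i ξ :=
  Cfsg.Agent.Lib.Helper26.TWLeaf.fib_mono i (span_le_kerF h)

end anyfield

/-- I6d (S) the subspace `U = W₁ ⊔ W'` of the FR world. -/
theorem U_props {X : Subgroup (GL (Idx t m) F)} (c : Ctx X) (g : GL (Idx t m) F) (r₂ : RD t m F)
    (w : FRW X g r₂) (r₁ : RD t m F) :
    (∀ ξ : Fin m → F, ξ ≠ 0 → ξ ⬝ᵥ r₁.y = 0 → (r₁.W ⊔ img g r₂.W) ⊓ Cf r₁.i ξ = r₁.W) ∧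
    Module.finrank F (r₁.W ⊔ img g r₂.W : Submodule F (Idx t m → F)) = 2 * m ^ (t - 1) ∧
    (∀ Y : Submodule F (Fin m → F), Module.finrank F Y ≤ 2 → ¬ (r₁.W ⊔ img g r₂.W) ≤ fib r₁.i Y) := by
  refine ⟨?_, ?_, ?_⟩
  · intro ξ hξ hξy
    have hle : r₁.W ≤ Cf r₁.i ξ := Wf_le_Cf r₁.i hξy
    rw [sup_inf_assoc_of_le _ hle, w.fr1 r₁.i ξ hξ, sup_bot_eq]
  · have hinf : r₁.W ⊓ img g r₂.W = ⊥ := by
      rw [eq_bot_iff]
      have h1 : img g r₂.W ≤ img g r₂.C :=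
        (Cfsg.Agent.Lib.Helper16.TWLeaf.img_le_img_iff g _ _).mpr
          (Cfsg.Agent.Lib.Helper16.TWLeaf.RD_W_le_C r₂)
      calc r₁.W ⊓ img g r₂.W ≤ Wf r₁.i r₁.y ⊓ img g r₂.C := inf_le_inf_left _ h1
        _ = ⊥ := w.fr2 r₁.i r₁.y r₁.hy
    have h := Submodule.finrank_sup_add_finrank_inf_eq r₁.W (img g r₂.W)
    rw [hinf, finrank_bot, Cfsg.Agent.Lib.Helper16.TWLeaf.finrank_img,
      Cfsg.Agent.Lib.Helper16.TWLeaf.RD_finrank_W, Cfsg.Agent.Lib.Helper16.TWLeaf.RD_finrank_W] at h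
    omega
  · intro Y hY hle
    exact w.thin r₁.i Y hY (le_trans le_sup_right hle)

/-- I6e (S) [`m ≥ 3`: `y ≠ 0`, two independent functionals killing `y`] -/
theorem exists_two_RD (hm : 3 ≤ m) (ht : 0 < t) :
    ∃ r₁ r₁' : RD t m F, r₁'.i = r₁.i ∧ r₁'.y = r₁.y ∧ ¬ ∃ a : F, r₁'.η = a • r₁.η := by
  set i0 : Fin m := ⟨0, by omega⟩ with hi0
  set i1 : Fin m := ⟨1, by omega⟩ with hi1
  set i2 : Fin m := ⟨2, by omega⟩ with hi2
  have h01 : i0 ≠ i1 := by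
    intro h; have := congrArg Fin.val h; simp [hi0, hi1] at this
  have h02 : i0 ≠ i2 := by
    intro h; have := congrArg Fin.val h; simp [hi0, hi2] at this
  have h12 : i1 ≠ i2 := by
    intro h; have := congrArg Fin.val h; simp [hi1, hi2] at this
  have hne : ∀ j : Fin m, (Pi.single j (1 : F) : Fin m → F) ≠ 0 := by
    intro j h
    have := congrFun h j
    simp at this
  have hdot : ∀ j j' : Fin m, j ≠ j' → (Pi.single j (1 : F) : Fin m → F) ⬝ᵥ Pi.single j' 1 = 0 := by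
    intro j j' hjj
    rw [single_dotProduct, one_mul, Pi.single_eq_of_ne hjj]
  refine ⟨⟨⟨0, ht⟩, Pi.single i0 1, Pi.single i1 1, hne i0, hne i1, hdot i1 i0 h01.symm⟩,
    ⟨⟨0, ht⟩, Pi.single i0 1, Pi.single i2 1, hne i0, hne i2, hdot i2 i0 h02.symm⟩, rfl, rfl, ?_⟩
  rintro ⟨a, ha⟩
  have := congrFun ha i2
  simp only [Pi.smul_apply, Pi.single_eq_same, smul_eq_mul] at this
  rw [Pi.single_eq_of_ne h12.symm, mul_zero] at this
  exact one_ne_zero this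

/-- I6k (S) `Fintype.card (Idx t m) = m ^ t` -/
theorem card_Idx (t m : ℕ) : Fintype.card (Idx t m) = m ^ t := by
  rw [Fintype.card_fun, Fintype.card_fin, Fintype.card_fin]

end Cfsg.Agent.Lib.Helper1.TWLeaf
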