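import Mathlib
import Cfsg.Agent.Lib.Helper8.TW.Defs
import Cfsg.Agent.Lib.Helper8.TW.StageIDefs
import Cfsg.Agent.Lib.Helper26.TWFibB
import Cfsg.Agent.Lib.Helper16.TWImg
import Cfsg.Agent.Lib.Helper16.TWRootA
import Cfsg.Agent.Lib.Helper16.TWRootC
import Cfsg.Agent.Lib.Helper1.TWI6de

/-!
# S5641 (C7 maximal in SL_n), Stage I leaves I4a `thin`, I4b `same_type`: CORE forms (helper1)

`thin_core` / `same_type_core` take the statement of (I3) `key` (helper23) as a hypothesis; the exact leaves are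
in `TWI4F.lean`.
-/

set_option autoImplicit false
set_option linter.unusedSectionVars false
set_option linter.unusedVariables false

namespace Cfsg.Agent.Lib.Helper1.TWLeaf
open Matrix Cfsg.Geo Cfsg.Agent.Lib.Helper18.AschA89 Cfsg.Agent.Lib.Helper8.TW

variable {F : Type*} [Field F] [Fintype F] {t m : ℕ}

section anyfield
variable {K : Type*} [Field K] {t m : ℕ}

/-- a linear functional on `K^m` is a dot product -/
lemma exists_dot_of_linear (f : (Fin m → K) →ₗ[K] K) : ∃ ξ : Fin m → K, ∀ a, f a = ξ ⬝ᵥ a := by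
  refine ⟨fun j => f (Pi.single j 1), fun a => ?_⟩
  have ha : a = ∑ j, a j • (Pi.single j (1 : K) : Fin m → K) := by
    ext j
    simp [Finset.sum_apply, Pi.single_apply]
  conv_lhs => rw [ha, map_sum]
  simp only [dotProduct, map_smul, smul_eq_mul]
  apply Finset.sum_congr rfl
  intro j _
  ring

/-- a proper subspace of `K^m` is killed by a non-zero functional -/
lemma exists_kerF_ge (Y : Submodule K (Fin m → K)) (hY : Module.finrank K Y < m) :
    ∃ ξ : Fin m → K, ξ ≠ 0 ∧ Y ≤ kerF ξ := by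
  have hlt : Y < ⊤ := by
    rw [lt_top_iff_ne_top]
    intro h
    rw [h, finrank_top, Module.finrank_fin_fun] at hY
    exact lt_irrefl _ hY
  obtain ⟨f, hf0, hf⟩ := Submodule.exists_le_ker_of_lt_top Y hlt
  obtain ⟨ξ, hξ⟩ := exists_dot_of_linear f
  refine ⟨ξ, ?_, ?_⟩
  · rintro rfl
    apply hf0
    apply LinearMap.ext
    intro a
    rw [hξ, zero_dotProduct, LinearMap.zero_apply]
  · intro a ha
    rw [mem_kerF, ← hξ]
    exact LinearMap.mem_ker.mp (hf ha)

end anyfield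

/-- I4a THIN LEMMA, core form: the statement of `key` for `g`, `r₂` is a hypothesis. -/
theorem thin_core {X : Subgroup (GL (Idx t m) F)} (c : Ctx X) (g : GL (Idx t m) F) (hgX : g ∈ X)
    (hgG : g ∉ Gstd t m F) (r₂ : RD t m F)
    (hkey : ∀ r₁ : RD t m F, ∃ (x : GL (Idx t m) F) (r₃ : RD t m F), Key g r₁ r₂ x r₃)
    (i : Fin t) (Y : Submodule F (Fin m → F))
    (hY : Module.finrank F Y ≤ 2) : ¬ img g r₂.W ≤ fib i Y := by
  intro hle
  have hm := c.hm
  have hk : 0 < m ^ (t - 1) := Nat.pow_pos (by omega)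
  have hfW' : Module.finrank F (img g r₂.W) = m ^ (t - 1) := by
    rw [Cfsg.Agent.Lib.Helper16.TWLeaf.finrank_img, Cfsg.Agent.Lib.Helper16.TWLeaf.RD_finrank_W]
  by_cases hY0 : Y = ⊥
  · rw [hY0, Cfsg.Agent.Lib.Helper26.TWLeaf.fib_bot, le_bot_iff] at hle
    rw [hle, finrank_bot] at hfW'
    omega
  · obtain ⟨y, hyY, hy0⟩ := (Submodule.ne_bot_iff Y).mp hY0
    obtain ⟨ξ, hξ0, hξY⟩ := exists_kerF_ge Y (by omega)
    have hξy : ξ ⬝ᵥ y = 0 := (mem_kerF ξ y).mp (hξY hyY)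
    set r₁ : RD t m F := ⟨i, y, ξ, hy0, hξ0, hξy⟩ with hr₁
    obtain ⟨x, r₃, k⟩ := hkey r₁
    have hC : img g r₂.W ≤ r₁.C :=
      le_trans hle (Cfsg.Agent.Lib.Helper26.TWLeaf.fib_mono i hξY)
    have hW3 : img g r₂.W ≤ r₃.W := le_trans (le_inf le_rfl hC) k.h2
    have heq : img g r₂.W = r₃.W := by
      apply Submodule.eq_of_le_of_finrank_le hW3
      rw [hfW', Cfsg.Agent.Lib.Helper16.TWLeaf.RD_finrank_W]
    exact hgG (c.ns g hgX ⟨r₂.i, r₃.i, r₂.y, r₃.y, r₂.hy, r₃.hy, heq⟩)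

/-- I4b SAME-TYPE LEMMA, core form: the conclusion of `thin` for `g`, `r₂` is a hypothesis. -/
theorem same_type_core {X : Subgroup (GL (Idx t m) F)} (c : Ctx X) (g : GL (Idx t m) F)
    (r₁ r₂ r₃ : RD t m F) (x : GL (Idx t m) F) (k : Key g r₁ r₂ x r₃)
    (hthin : ∀ (i : Fin t) (Y : Submodule F (Fin m → F)), Module.finrank F Y ≤ 2 → ¬ img g r₂.W ≤ fib i Y)
    (hi : r₃.i = r₁.i) : r₃.W = r₁.W := by
  by_cases hmem : r₃.y ∈ (F ∙ r₁.y)
  · obtain ⟨a, ha⟩ := Submodule.mem_span_singleton.mp hmem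
    have ha0 : a ≠ 0 := by
      rintro rfl
      rw [zero_smul] at ha
      exact r₃.hy ha.symm
    show Wf r₃.i r₃.y = Wf r₁.i r₁.y
    unfold Wf
    rw [hi, ← ha, Submodule.span_singleton_smul_eq (IsUnit.mk0 a ha0)]
  · exfalso
    set Y : Submodule F (Fin m → F) := (F ∙ r₁.y) ⊔ (F ∙ r₃.y) with hYdef
    have hYfr : Module.finrank F Y = 2 := by
      have h1 : Module.finrank F ↥(F ∙ r₁.y) = 1 := finrank_span_singleton r₁.hy
      have h3 : Module.finrank F ↥(F ∙ r₃.y) = 1 := finrank_span_singleton r₃.hy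
      have hinf : (F ∙ r₁.y) ⊓ (F ∙ r₃.y) = ⊥ := by
        rw [eq_bot_iff]
        intro v hv
        obtain ⟨hv1, hv3⟩ := hv
        obtain ⟨b, hb⟩ := Submodule.mem_span_singleton.mp hv3
        rw [Submodule.mem_bot]
        by_contra hv0
        have hb0 : b ≠ 0 := by
          rintro rfl
          rw [zero_smul] at hb
          exact hv0 hb.symm
        apply hmem
        have : r₃.y = b⁻¹ • v := by rw [← hb, smul_smul, inv_mul_cancel₀ hb0, one_smul]
        rw [this]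
        exact Submodule.smul_mem _ _ hv1
      have h := Submodule.finrank_sup_add_finrank_inf_eq (F ∙ r₁.y) (F ∙ r₃.y)
      rw [hinf, finrank_bot, h1, h3] at h
      rw [hYdef]
      omega
    -- `fib i Y = W₁ ⊔ W₃ ≤ W₁ ⊔ W'`
    have hfib : fib r₁.i Y = r₁.W ⊔ r₃.W := by
      rw [hYdef, Cfsg.Agent.Lib.Helper26.TWLeaf.fib_sup]
      show Wf r₁.i r₁.y ⊔ fib r₁.i (F ∙ r₃.y) = Wf r₁.i r₁.y ⊔ Wf r₃.i r₃.y
      rw [hi]
      rfl
    have hle : fib r₁.i Y ≤ r₁.W ⊔ img g r₂.W := by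
      rw [hfib]
      exact sup_le le_sup_left k.h1
    have hfr1 : Module.finrank F (fib r₁.i Y) = 2 * m ^ (t - 1) := by
      rw [Cfsg.Agent.Lib.Helper26.TWLeaf.finrank_fib, hYfr, mul_comm]
    have hfr2 : Module.finrank F (r₁.W ⊔ img g r₂.W : Submodule F (Idx t m → F)) ≤ 2 * m ^ (t - 1) := by
      have h := Submodule.finrank_sup_add_finrank_inf_eq r₁.W (img g r₂.W)
      rw [Cfsg.Agent.Lib.Helper16.TWLeaf.finrank_img, Cfsg.Agent.Lib.Helper16.TWLeaf.RD_finrank_W,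
        Cfsg.Agent.Lib.Helper16.TWLeaf.RD_finrank_W] at h
      omega
    have heq : fib r₁.i Y = r₁.W ⊔ img g r₂.W :=
      Submodule.eq_of_le_of_finrank_le hle (by rw [hfr1]; exact hfr2)
    exact hthin r₁.i Y (by omega) (by rw [heq]; exact le_sup_right)

end Cfsg.Agent.Lib.Helper1.TWLeaf
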