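import Mathlib
import Cfsg.Agent.Lib.Helper8.TW.Defs
import Cfsg.Agent.Lib.Helper8.TW.StageIDefs
import Cfsg.Agent.Lib.Helper23.TWI1
import Cfsg.Agent.Lib.Helper1.TWI4

/-!
# S5641 (C7 maximal in SL_n), Stage I leaves I4a `thin`, I4b `same_type` (helper1)
Exact signatures of `notes/S5641_I_leaves.lean` (cores in `TWI4.lean`; `key` = helper23's `TWI1`).
-/

set_option autoImplicit false
set_option linter.unusedSectionVars false
set_option linter.unusedVariables false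

namespace Cfsg.Agent.Lib.Helper1.TWLeaf
open Matrix Cfsg.Geo Cfsg.Agent.Lib.Helper18.AschA89 Cfsg.Agent.Lib.Helper8.TW

variable {F : Type*} [Field F] [Fintype F] {t m : ℕ}

/-- I4a (M) THIN LEMMA -/
theorem thin {X : Subgroup (GL (Idx t m) F)} (c : Ctx X) (g : GL (Idx t m) F) (hgX : g ∈ X)
    (hgG : g ∉ Gstd t m F) (r₂ : RD t m F) (i : Fin t) (Y : Submodule F (Fin m → F))
    (hY : Module.finrank F Y ≤ 2) : ¬ img g r₂.W ≤ fib i Y :=
  thin_core c g hgX hgG r₂ (fun r₁ => Cfsg.Agent.Lib.Helper23.TWLeaf.key c g hgX r₁ r₂) i Y hY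

/-- I4b (M) SAME-TYPE LEMMA -/
theorem same_type {X : Subgroup (GL (Idx t m) F)} (c : Ctx X) (g : GL (Idx t m) F) (hgX : g ∈ X)
    (hgG : g ∉ Gstd t m F) (r₁ r₂ r₃ : RD t m F) (x : GL (Idx t m) F) (k : Key g r₁ r₂ x r₃)
    (hi : r₃.i = r₁.i) : r₃.W = r₁.W :=
  same_type_core c g r₁ r₂ r₃ x k (fun i Y hY => thin c g hgX hgG r₂ i Y hY) hi

end Cfsg.Agent.Lib.Helper1.TWLeaf
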