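import Mathlib
import Cfsg.Agent.Lib.Helper5.TWS.Defs

/-!
# S5668 (C7 symplectic, owner helper5) — toolkit part 2 (helper1): the PERP CALCULUS for `sfT` and `sf`

Port of `Helper23.TWUT2`.  Everything is proved once for the bilinear form `Gen.bf M u v = u ⬝ᵥ (M *ᵥ v)` of an
invertible Gram matrix `M` whose orthogonality relation is symmetric, and then instantiated for
`perpT` (`M = JT t k F`, the tensor power form `sfT`) and `perpA` (`M = Jm k`, the standard symplectic form `sf`).

* `Jm_mul_Jm`, `JT_mul_JT`, `JT_transpose`, `sfT_swap`, `sfT_eq_zero_comm`, `sfT_nondeg_left/right`, `sf_nondeg_left/right`;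
* `finrank_perpT`, `perpT_perpT`, `le_perpT_perpT`, `perpT_le_iff`, `perpT_inf`, `perpT_sup'`, `perpT_anti'`, `perpT_bot`, `perpT_top`,
  `TIT_iff_le_perpT`, `finrank_le_of_TIT`;
* `finrank_perpA`, `perpA_perpA`, `le_perpA_perpA`, `perpA_le_iff`, `perpA_inf`, `perpA_sup'`, `perpA_anti'`, `perpA_bot`, `perpA_top`,
  `mem_perpA_span_singleton`, `finrank_perpA_span_singleton`.
-/

set_option autoImplicit false
set_option linter.unusedSectionVars false
set_option linter.unusedVariables false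

namespace Cfsg.Agent.Lib.Helper1.TWST2
open Matrix Cfsg.Agent.Lib.Helper8.TW Cfsg.Agent.Lib.Helper5.TWS
open Cfsg.Agent.Lib.Helper25.SpT (sf Jm sfv)

/-! ### generic: the form of an invertible Gram matrix with symmetric orthogonality -/

namespace Gen

variable {F : Type*} [Field F] {κ : Type*} [Fintype κ] [DecidableEq κ]

/-- the bilinear form with Gram matrix `M` -/
def bf (M : Matrix κ κ F) (u v : κ → F) : F := u ⬝ᵥ (M *ᵥ v)

lemma bf_add_left (M : Matrix κ κ F) (u u' v : κ → F) : bf M (u + u') v = bf M u v + bf M u' v := by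
  simp only [bf, add_dotProduct]

lemma bf_smul_left (M : Matrix κ κ F) (c : F) (u v : κ → F) : bf M (c • u) v = c * bf M u v := by
  simp only [bf, smul_dotProduct, smul_eq_mul]

lemma bf_zero_left (M : Matrix κ κ F) (v : κ → F) : bf M 0 v = 0 := by
  simp [bf]

lemma bf_zero_right (M : Matrix κ κ F) (u : κ → F) : bf M u 0 = 0 := by
  simp [bf]

lemma bf_eq_transpose (M : Matrix κ κ F) (u v : κ → F) : bf M u v = (Mᵀ *ᵥ u) ⬝ᵥ v := by
  rw [bf, Matrix.dotProduct_mulVec, Matrix.mulVec_transpose]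

/-- the perp of `W`: `{v | ∀ w ∈ W, bf M v w = 0}` -/
def perpM (M : Matrix κ κ F) (W : Submodule F (κ → F)) : Submodule F (κ → F) where
  carrier := {v | ∀ w ∈ W, bf M v w = 0}
  add_mem' := by
    intro a b ha hb w hw
    rw [bf_add_left, ha w hw, hb w hw, add_zero]
  zero_mem' := by
    intro w _
    exact bf_zero_left M w
  smul_mem' := by
    intro c a ha w hw
    rw [bf_smul_left, ha w hw, mul_zero]

lemma mem_perpM {M : Matrix κ κ F} {W : Submodule F (κ → F)} {v : κ → F} :
    v ∈ perpM M W ↔ ∀ w ∈ W, bf M v w = 0 := Iff.rfl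

lemma perpM_anti {M : Matrix κ κ F} {W W' : Submodule F (κ → F)} (h : W ≤ W') : perpM M W' ≤ perpM M W :=
  fun v hv w hw => hv w (h hw)

lemma perpM_sup (M : Matrix κ κ F) (W W' : Submodule F (κ → F)) :
    perpM M (W ⊔ W') = perpM M W ⊓ perpM M W' := by
  apply le_antisymm
  · exact le_inf (perpM_anti le_sup_left) (perpM_anti le_sup_right)
  · rintro v ⟨h1, h2⟩ w hw
    obtain ⟨a, ha, b, hb, rfl⟩ := Submodule.mem_sup.1 hw
    have e : bf M v (a + b) = bf M v a + bf M v b := by
      simp only [bf, Matrix.mulVec_add, dotProduct_add]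
    rw [e, h1 a ha, h2 b hb, add_zero]

/-- the linear equivalence `v ↦ (w ↦ bf M v w)` onto the dual -/
noncomputable def toDual {M N : Matrix κ κ F} (hMN : M * N = 1) : (κ → F) ≃ₗ[F] Module.Dual F (κ → F) :=
  (Matrix.toLin'OfInv (M := Nᵀ) (M' := Mᵀ)
    (by rw [← Matrix.transpose_mul, hMN, Matrix.transpose_one])
    (by rw [← Matrix.transpose_mul, mul_eq_one_comm.1 hMN, Matrix.transpose_one])).trans
    (dotProductEquiv F κ)

lemma toDual_apply {M N : Matrix κ κ F} (hMN : M * N = 1) (u v : κ → F) : toDual hMN u v = bf M u v := by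
  rw [bf_eq_transpose]
  rfl

lemma map_perpM {M N : Matrix κ κ F} (hMN : M * N = 1) (W : Submodule F (κ → F)) :
    (perpM M W).map (toDual hMN).toLinearMap = W.dualAnnihilator := by
  ext φ
  rw [Submodule.mem_map, Submodule.mem_dualAnnihilator]
  constructor
  · rintro ⟨v, hv', rfl⟩ w hw
    rw [LinearEquiv.coe_coe, toDual_apply]
    exact hv' w hw
  · intro h
    refine ⟨(toDual hMN).symm φ, ?_, by simp⟩
    intro w hw
    have := h w hw
    rw [← toDual_apply hMN, LinearEquiv.apply_symm_apply]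
    exact this

/-- **dimension of the perp** -/
theorem finrank_perpM {M N : Matrix κ κ F} (hMN : M * N = 1) (W : Submodule F (κ → F)) :
    Module.finrank F (perpM M W) + Module.finrank F W = Fintype.card κ := by
  have h1 : Module.finrank F ((perpM M W).map (toDual hMN).toLinearMap) =
      Module.finrank F (perpM M W) := LinearEquiv.finrank_map_eq (toDual hMN) (perpM M W)
  rw [map_perpM hMN] at h1
  have h2 := Subspace.finrank_add_finrank_dualAnnihilator_eq W
  rw [h1, Module.finrank_pi] at h2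
  omega

/-- nondegeneracy (left) -/
theorem nondeg_left {M N : Matrix κ κ F} (hMN : M * N = 1) {u : κ → F} (h : ∀ v, bf M u v = 0) : u = 0 := by
  have : toDual hMN u = 0 := by
    apply LinearMap.ext
    intro v
    rw [toDual_apply, h v]
    rfl
  exact (LinearEquiv.map_eq_zero_iff (toDual hMN)).1 this

/-- nondegeneracy (right) -/
theorem nondeg_right {M N : Matrix κ κ F} (hMN : M * N = 1) {v : κ → F} (h : ∀ u, bf M u v = 0) : v = 0 := by
  have h1 : M *ᵥ v = 0 := by
    funext a
    have := h (Pi.single a 1)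
    rw [bf, single_one_dotProduct] at this
    exact this
  have h2 : N *ᵥ (M *ᵥ v) = v := by
    rw [Matrix.mulVec_mulVec, mul_eq_one_comm.1 hMN, Matrix.one_mulVec]
  rw [← h2, h1, Matrix.mulVec_zero]

section refl
variable {M N : Matrix κ κ F} (hMN : M * N = 1) (hsym : ∀ u v : κ → F, bf M u v = 0 → bf M v u = 0)
include hMN hsym

lemma le_perpM_perpM (W : Submodule F (κ → F)) : W ≤ perpM M (perpM M W) := by
  intro w hw v hv'
  exact hsym _ _ (hv' w hw)

/-- **double perp** -/
theorem perpM_perpM (W : Submodule F (κ → F)) : perpM M (perpM M W) = W := by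
  symm
  apply Submodule.eq_of_le_of_finrank_eq (le_perpM_perpM hMN hsym W)
  have h1 := finrank_perpM hMN W
  have h2 := finrank_perpM hMN (perpM M W)
  omega

theorem perpM_le_iff (W W' : Submodule F (κ → F)) : perpM M W ≤ perpM M W' ↔ W' ≤ W := by
  constructor
  · intro h
    have := perpM_anti (M := M) h
    rwa [perpM_perpM hMN hsym, perpM_perpM hMN hsym] at this
  · exact perpM_anti

theorem perpM_inf (W W' : Submodule F (κ → F)) : perpM M (W ⊓ W') = perpM M W ⊔ perpM M W' := by
  have h := perpM_sup M (perpM M W) (perpM M W')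
  rw [perpM_perpM hMN hsym, perpM_perpM hMN hsym] at h
  rw [← h, perpM_perpM hMN hsym]

omit hMN hsym in
theorem perpM_bot : perpM M (⊥ : Submodule F (κ → F)) = ⊤ := by
  rw [eq_top_iff]
  intro v _ w hw
  rw [Submodule.mem_bot] at hw
  subst hw
  exact bf_zero_right M v

theorem perpM_top : perpM M (⊤ : Submodule F (κ → F)) = ⊥ := by
  rw [← perpM_bot (M := M), perpM_perpM hMN hsym]

omit hsym in
/-- a totally isotropic subspace has dimension at most half -/
theorem finrank_le_of_le_perpM {W : Submodule F (κ → F)} (h : W ≤ perpM M W) :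
    2 * Module.finrank F W ≤ Fintype.card κ := by
  have h1 := finrank_perpM hMN W
  have h2 := Submodule.finrank_mono h
  omega

end refl

end Gen

variable {F : Type*} [Field F] {t k : ℕ}

/-! ### the Gram matrices `Jm` and `JT` -/

open Cfsg.Agent.Lib.Helper25.SpT (pr) in
/-- `J² = -1` -/
theorem Jm_mul_Jm (hk : Even k) : (Jm k * Jm k : Matrix (Fin k) (Fin k) F) = -1 := by
  funext i j
  rw [Matrix.mul_apply, Finset.sum_eq_single (pr hk i)]
  · by_cases hij : j = i
    · subst hij
      rw [Cfsg.Agent.Lib.Helper25.SpT.Jm_swap k j (pr hk j), Matrix.neg_apply, Matrix.one_apply_eq,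
        Cfsg.Agent.Lib.Helper25.SpT.Jm_pr]
      split_ifs <;> simp
    · rw [Matrix.neg_apply, Matrix.one_apply_ne (Ne.symm hij), neg_zero]
      have : j ≠ pr hk (pr hk i) := by
        rw [Cfsg.Agent.Lib.Helper25.SpT.pr_pr]; exact hij
      rw [Cfsg.Agent.Lib.Helper25.SpT.Jm_eq_zero_of_ne hk (pr hk i) j this, mul_zero]
  · intro l _ hl
    rw [Cfsg.Agent.Lib.Helper25.SpT.Jm_eq_zero_of_ne hk i l hl, zero_mul]
  · intro h
    exact absurd (Finset.mem_univ _) h

theorem Jm_transpose : (Jm k : Matrix (Fin k) (Fin k) F)ᵀ = - Jm k := by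
  funext i j
  rw [Matrix.transpose_apply, Matrix.neg_apply]
  exact Cfsg.Agent.Lib.Helper25.SpT.Jm_swap (F := F) k i j

theorem Jm_mul_neg_Jm (hk : Even k) : (Jm k * (- Jm k) : Matrix (Fin k) (Fin k) F) = 1 := by
  rw [Matrix.mul_neg, Jm_mul_Jm hk, neg_neg]

/-- `JT² = (-1)^t` -/
theorem JT_mul_JT (hk : Even k) : JT t k F * JT t k F = (-1 : F) ^ t • (1 : Matrix (Idx t k) (Idx t k) F) := by
  funext a c
  rw [Matrix.mul_apply]
  simp only [JT_apply]
  have h1 : ∀ b : Idx t k, (∏ i, (Jm k : Matrix (Fin k) (Fin k) F) (a i) (b i)) * ∏ i, (Jm k : Matrix (Fin k) (Fin k) F) (b i) (c i)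
      = ∏ i, ((Jm k : Matrix (Fin k) (Fin k) F) (a i) (b i) * (Jm k : Matrix (Fin k) (Fin k) F) (b i) (c i)) := by
    intro b
    rw [Finset.prod_mul_distrib]
  simp only [h1]
  have h2 := (Finset.prod_univ_sum (fun _ : Fin t => (Finset.univ : Finset (Fin k)))
    (fun i l => (Jm k : Matrix (Fin k) (Fin k) F) (a i) l * (Jm k : Matrix (Fin k) (Fin k) F) l (c i))).symm
  rw [Fintype.piFinset_univ] at h2
  rw [h2]
  have h3 : ∀ i, ∑ l, (Jm k : Matrix (Fin k) (Fin k) F) (a i) l * (Jm k : Matrix (Fin k) (Fin k) F) l (c i)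
      = (Jm k * Jm k : Matrix (Fin k) (Fin k) F) (a i) (c i) := by
    intro i
    rw [Matrix.mul_apply]
  simp only [h3, Jm_mul_Jm hk, Matrix.neg_apply, Matrix.smul_apply, smul_eq_mul]
  by_cases hac : a = c
  · subst hac
    simp
  · rw [Matrix.one_apply_ne hac, mul_zero]
    obtain ⟨i, hi⟩ := Function.ne_iff.mp hac
    apply Finset.prod_eq_zero (Finset.mem_univ i)
    rw [Matrix.one_apply_ne hi, neg_zero]

theorem JT_transpose : (JT t k F)ᵀ = (-1 : F) ^ t • JT t k F := by
  funext a b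
  rw [Matrix.transpose_apply, Matrix.smul_apply, smul_eq_mul, JT_apply, JT_apply]
  have : ∀ i, (Jm k : Matrix (Fin k) (Fin k) F) (b i) (a i) = (-1) * (Jm k : Matrix (Fin k) (Fin k) F) (a i) (b i) := by
    intro i
    rw [Cfsg.Agent.Lib.Helper25.SpT.Jm_swap k (a i) (b i)]; ring
  simp only [this]
  rw [Finset.prod_mul_distrib, Finset.prod_const, Finset.card_univ, Fintype.card_fin]

/-- the inverse of `JT` -/
theorem JT_mul_inv (hk : Even k) : JT t k F * ((-1 : F) ^ t • JT t k F) = 1 := by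
  rw [Matrix.mul_smul, JT_mul_JT hk, smul_smul, ← mul_pow]
  norm_num

/-- `sfT` is `(-1)^t`-symmetric -/
theorem sfT_swap (u v : Idx t k → F) : sfT u v = (-1 : F) ^ t * sfT v u := by
  have h1 : sfT u v = ((JT t k F)ᵀ *ᵥ u) ⬝ᵥ v := Gen.bf_eq_transpose (JT t k F) u v
  rw [h1, JT_transpose, Matrix.smul_mulVec, smul_dotProduct, smul_eq_mul, dotProduct_comm]
  rfl

theorem sfT_eq_zero_comm {u v : Idx t k → F} (h : sfT u v = 0) : sfT v u = 0 := by
  rw [sfT_swap, h, mul_zero]

theorem sfT_eq_zero_iff_comm (u v : Idx t k → F) : sfT u v = 0 ↔ sfT v u = 0 :=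
  ⟨sfT_eq_zero_comm, sfT_eq_zero_comm⟩

theorem sf_eq_zero_comm {a b : Fin k → F} (h : sf a b = 0) : sf b a = 0 := by
  rw [Cfsg.Agent.Lib.Helper25.SpT.sf_skew, h, neg_zero]

/-- nondegeneracy of `sfT` -/
theorem sfT_nondeg_left (hk : Even k) {u : Idx t k → F} (h : ∀ v, sfT u v = 0) : u = 0 :=
  Gen.nondeg_left (JT_mul_inv hk) h

theorem sfT_nondeg_right (hk : Even k) {v : Idx t k → F} (h : ∀ u, sfT u v = 0) : v = 0 :=
  Gen.nondeg_right (JT_mul_inv hk) h

theorem sf_nondeg_left (hk : Even k) {a : Fin k → F} (h : ∀ b, sf a b = 0) : a = 0 :=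
  Gen.nondeg_left (Jm_mul_neg_Jm hk) h

theorem sf_nondeg_right (hk : Even k) {b : Fin k → F} (h : ∀ a, sf a b = 0) : b = 0 :=
  Gen.nondeg_right (Jm_mul_neg_Jm hk) h

/-! ### the perp calculus on `V` -/

lemma perpT_eq (W : Submodule F (Idx t k → F)) : perpT W = Gen.perpM (JT t k F) W := rfl

lemma perpT_anti' {W W' : Submodule F (Idx t k → F)} (h : W ≤ W') : perpT W' ≤ perpT W :=
  fun v hv w hw => hv w (h hw)

lemma perpT_sup' (W W' : Submodule F (Idx t k → F)) : perpT (W ⊔ W') = perpT W ⊓ perpT W' :=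
  Gen.perpM_sup (JT t k F) W W'

/-- **dimension of the perp** -/
theorem finrank_perpT (hk : Even k) (W : Submodule F (Idx t k → F)) :
    Module.finrank F (perpT W) + Module.finrank F W = k ^ t := by
  have h := Gen.finrank_perpM (JT_mul_inv (t := t) (F := F) hk) W
  rw [Fintype.card_fun, Fintype.card_fin, Fintype.card_fin] at h
  exact h

lemma le_perpT_perpT (W : Submodule F (Idx t k → F)) : W ≤ perpT (perpT W) := by
  intro w hw v hv'
  exact sfT_eq_zero_comm (hv' w hw)

/-- **double perp** -/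
theorem perpT_perpT (hk : Even k) (W : Submodule F (Idx t k → F)) : perpT (perpT W) = W :=
  Gen.perpM_perpM (JT_mul_inv hk) (fun _ _ => sfT_eq_zero_comm) W

theorem perpT_le_iff (hk : Even k) (W W' : Submodule F (Idx t k → F)) : perpT W ≤ perpT W' ↔ W' ≤ W :=
  Gen.perpM_le_iff (JT_mul_inv hk) (fun _ _ => sfT_eq_zero_comm) W W'

theorem perpT_inf (hk : Even k) (W W' : Submodule F (Idx t k → F)) : perpT (W ⊓ W') = perpT W ⊔ perpT W' :=
  Gen.perpM_inf (JT_mul_inv hk) (fun _ _ => sfT_eq_zero_comm) W W'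

theorem perpT_bot : perpT (⊥ : Submodule F (Idx t k → F)) = ⊤ :=
  Gen.perpM_bot

theorem perpT_top (hk : Even k) : perpT (⊤ : Submodule F (Idx t k → F)) = ⊥ :=
  Gen.perpM_top (JT_mul_inv hk) (fun _ _ => sfT_eq_zero_comm)

/-- totally isotropic = contained in its perp -/
theorem TIT_iff_le_perpT (W : Submodule F (Idx t k → F)) : TIT W ↔ W ≤ perpT W :=
  ⟨fun h v hv' w hw => h v hv' w hw, fun h v hv' w hw => h hv' w hw⟩

/-- a totally isotropic subspace has dimension at most half -/
theorem finrank_le_of_TIT (hk : Even k) {W : Submodule F (Idx t k → F)} (h : TIT W) :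
    2 * Module.finrank F W ≤ k ^ t := by
  have h1 := finrank_perpT hk W
  have h2 := Submodule.finrank_mono ((TIT_iff_le_perpT W).1 h)
  omega

/-! ### the perp calculus on `A` -/

lemma perpA_eq (S : Submodule F (Fin k → F)) : perpA S = Gen.perpM (Jm k) S := rfl

lemma perpA_anti' {S S' : Submodule F (Fin k → F)} (h : S ≤ S') : perpA S' ≤ perpA S :=
  fun v hv w hw => hv w (h hw)

lemma perpA_sup' (S S' : Submodule F (Fin k → F)) : perpA (S ⊔ S') = perpA S ⊓ perpA S' :=
  Gen.perpM_sup (Jm k) S S'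

theorem finrank_perpA (hk : Even k) (S : Submodule F (Fin k → F)) :
    Module.finrank F (perpA S) + Module.finrank F S = k := by
  have h := Gen.finrank_perpM (Jm_mul_neg_Jm (F := F) hk) S
  rw [Fintype.card_fin] at h
  exact h

lemma le_perpA_perpA (S : Submodule F (Fin k → F)) : S ≤ perpA (perpA S) := by
  intro w hw v hv'
  exact sf_eq_zero_comm (hv' w hw)

theorem perpA_perpA (hk : Even k) (S : Submodule F (Fin k → F)) : perpA (perpA S) = S :=
  Gen.perpM_perpM (Jm_mul_neg_Jm hk) (fun _ _ => sf_eq_zero_comm) S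

theorem perpA_le_iff (hk : Even k) (S S' : Submodule F (Fin k → F)) : perpA S ≤ perpA S' ↔ S' ≤ S :=
  Gen.perpM_le_iff (Jm_mul_neg_Jm hk) (fun _ _ => sf_eq_zero_comm) S S'

theorem perpA_inf (hk : Even k) (S S' : Submodule F (Fin k → F)) : perpA (S ⊓ S') = perpA S ⊔ perpA S' :=
  Gen.perpM_inf (Jm_mul_neg_Jm hk) (fun _ _ => sf_eq_zero_comm) S S'

theorem perpA_bot : perpA (⊥ : Submodule F (Fin k → F)) = ⊤ :=
  Gen.perpM_bot

theorem perpA_top (hk : Even k) : perpA (⊤ : Submodule F (Fin k → F)) = ⊥ :=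
  Gen.perpM_top (Jm_mul_neg_Jm hk) (fun _ _ => sf_eq_zero_comm)

/-- `y^⊥` -/
theorem mem_perpA_span_singleton (y a : Fin k → F) : a ∈ perpA (Submodule.span F {y}) ↔ sf a y = 0 := by
  rw [mem_perpA]
  constructor
  · intro h
    exact h y (Submodule.mem_span_singleton_self y)
  · intro h s hs
    obtain ⟨c, rfl⟩ := Submodule.mem_span_singleton.1 hs
    rw [Cfsg.Agent.Lib.Helper25.SpT.sf_smul_right, h, mul_zero]

/-- every line is isotropic: `y ∈ y^⊥` -/
theorem span_singleton_le_perpA (y : Fin k → F) : Submodule.span F {y} ≤ perpA (Submodule.span F {y}) := by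
  rw [Submodule.span_singleton_le_iff_mem, mem_perpA_span_singleton]
  exact Cfsg.Agent.Lib.Helper25.SpT.sf_self y

/-- `dim y^⊥ = k - 1` -/
theorem finrank_perpA_span_singleton (hk : Even k) {y : Fin k → F} (hy : y ≠ 0) :
    Module.finrank F (perpA (Submodule.span F {y})) + 1 = k := by
  have h := finrank_perpA hk (Submodule.span F {y})
  rw [finrank_span_singleton hy] at h
  exact h

end Cfsg.Agent.Lib.Helper1.TWST2
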