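import Mathlib
import Cfsg.Agent.Lib.Helper5.TWS.Defs
import Cfsg.Agent.Lib.Helper8.TWS2ADefs
import Cfsg.Agent.Lib.Helper9.TWST3
import Cfsg.Agent.Lib.Helper29.TWSOneSlot
import Cfsg.Agent.Lib.Helper20.AschA89F2J
import Cfsg.Agent.Lib.Helper1.TWST2

/-!
helper1, S5668 Stage II-A (Case A; owner helper8): leaf (L6) `odd_of_mem_GSV` — an isometry `1 + c • ptens (famS J1 J2 z x x')`
(`c ≠ 0`) has an ODD number of `N`-slots.  Also: `adjA_of_selfAdj`, `adjA_of_skewAdj`, `adjA_famS`, `adjT_ptens_famS`,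
`ptens_famS_ne_zero`, `ptens_famS_sq`.
-/

set_option autoImplicit false
set_option linter.unusedSectionVars false
set_option linter.unusedVariables false

namespace Cfsg.Agent.Lib.Helper1.TWS2ALeaf
open Matrix Cfsg.Geo Cfsg.Agent.Lib.Helper18.AschA89 Cfsg.Agent.Lib.Helper8.TW
open Cfsg.Agent.Lib.Helper5.TWS Cfsg.Agent.Lib.Helper28.TWU2A
open Cfsg.Agent.Lib.Helper25.SpT (sf sfv)
open Cfsg.Agent.Lib.Helper29.TWSOne
open Cfsg.Agent.Lib.Helper8.TWS2A
open Cfsg.Agent.Lib.Helper9.TWST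

variable {F : Type*} [Field F] {t k : ℕ}

lemma mat_eq_of_mulVec {A B : Matrix (Fin k) (Fin k) F} (h : ∀ v, A *ᵥ v = B *ᵥ v) : A = B := by
  funext a b
  have := congrFun (h (Pi.single b 1)) a
  rwa [Matrix.mulVec_single_one, Matrix.mulVec_single_one] at this

/-- a selfadjoint matrix is its own adjoint -/
theorem adjA_of_selfAdj (hk : Even k) {E : Matrix (Fin k) (Fin k) F} (h : SelfAdj E) : adjA hk E = E := by
  apply mat_eq_of_mulVec
  intro b
  rw [← sub_eq_zero]
  apply Cfsg.Agent.Lib.Helper1.TWST2.sf_nondeg_right hk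
  intro a
  rw [Cfsg.Agent.Lib.Helper25.SpT.sf_sub_right, sub_eq_zero, ← sf_mulVec_left hk]
  exact h a b

/-- a skew-adjoint matrix has adjoint `-E` -/
theorem adjA_of_skewAdj (hk : Even k) {E : Matrix (Fin k) (Fin k) F} (h : SkewAdj E) : adjA hk E = -E := by
  apply mat_eq_of_mulVec
  intro b
  rw [← sub_eq_zero]
  apply Cfsg.Agent.Lib.Helper1.TWST2.sf_nondeg_right hk
  intro a
  rw [Cfsg.Agent.Lib.Helper25.SpT.sf_sub_right, sub_eq_zero, ← sf_mulVec_left hk, Matrix.neg_mulVec,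
    Cfsg.Agent.Lib.Helper25.SpT.sf_neg_right]
  exact h a b

/-- the adjoint of the weight family -/
theorem adjA_famS (hk : Even k) (J1 J2 : Finset (Fin t)) (z x x' : Fin t → Fin k → F) (l : Fin t) :
    adjA hk (famS J1 J2 z x x' l) = (if l ∈ J1 then (-1 : F) else 1) • famS J1 J2 z x x' l := by
  unfold famS
  by_cases h1 : l ∈ J1
  · rw [if_pos h1, if_pos h1, adjA_of_skewAdj hk (skewAdj_Nz (z l)), neg_smul, one_smul]
  · rw [if_neg h1, if_neg h1, one_smul]
    by_cases h2 : l ∈ J2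
    · rw [if_pos h2, adjA_of_selfAdj hk (selfAdj_wedge (x l) (x' l))]
    · rw [if_neg h2, adjA_one]

/-- the adjoint of the pure tensor of the weight family -/
theorem adjT_ptens_famS (hk : Even k) (J1 J2 : Finset (Fin t)) (z x x' : Fin t → Fin k → F) :
    adjT hk (ptens k t (famS J1 J2 z x x')) = ((-1 : F) ^ J1.card) • ptens k t (famS J1 J2 z x x') := by
  rw [adjT_ptens]
  have h1 : (fun j => adjA hk (famS J1 J2 z x x' j)) =
      fun j => (if j ∈ J1 then (-1 : F) else 1) • famS J1 J2 z x x' j := by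
    funext j
    exact adjA_famS hk J1 J2 z x x' j
  rw [h1, Cfsg.Agent.Lib.Helper20.AschLeaf.ptens_smul]
  congr 1
  rw [Finset.prod_ite_mem, Finset.univ_inter, Finset.prod_const]

/-- the pure tensor of the weight family squares to zero -/
theorem ptens_famS_sq (J1 J2 : Finset (Fin t)) (hne : (J1 ∪ J2).Nonempty) (z x x' : Fin t → Fin k → F)
    (hx : ∀ l ∈ J2, sf (x l) (x' l) = 0) :
    ptens k t (famS J1 J2 z x x') * ptens k t (famS J1 J2 z x x') = 0 := by
  rw [Cfsg.Agent.Lib.Helper20.AschLeaf.ptens_mul]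
  obtain ⟨l₀, hl₀⟩ := hne
  have h0 : famS J1 J2 z x x' l₀ * famS J1 J2 z x x' l₀ = 0 := by
    unfold famS
    by_cases h1 : l₀ ∈ J1
    · rw [if_pos h1]
      exact Nz_sq (z l₀)
    · rw [if_neg h1]
      have h2 : l₀ ∈ J2 := by
        rcases Finset.mem_union.1 hl₀ with h | h
        · exact absurd h h1
        · exact h
      rw [if_pos h2]
      exact wedge_sq_of_perp (hx l₀ h2)
  funext a b
  rw [ptens_apply, Matrix.zero_apply]
  apply Finset.prod_eq_zero (Finset.mem_univ l₀)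
  rw [h0, Matrix.zero_apply]

/-- the pure tensor of the weight family is non-zero -/
theorem ptens_famS_ne_zero (hk : Even k) (J1 J2 : Finset (Fin t)) (hne : (J1 ∪ J2).Nonempty)
    (z x x' : Fin t → Fin k → F) (hz : ∀ l ∈ J1, z l ≠ 0)
    (hx : ∀ l ∈ J2, x l ≠ 0 ∧ ¬ ∃ c : F, x' l = c • x l) :
    ptens k t (famS J1 J2 z x x') ≠ 0 := by
  -- `k > 0`
  have hk0 : 0 < k := by
    obtain ⟨l₀, hl₀⟩ := hne
    rcases Nat.eq_zero_or_pos k with h | h
    · exfalso
      subst h
      rcases Finset.mem_union.1 hl₀ with h1 | h2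
      · exact hz l₀ h1 (funext fun a => Fin.elim0 a)
      · exact (hx l₀ h2).1 (funext fun a => Fin.elim0 a)
    · exact h
  -- every factor has a non-zero entry
  have hent : ∀ l : Fin t, ∃ a b : Fin k, famS J1 J2 z x x' l a b ≠ 0 := by
    intro l
    unfold famS
    by_cases h1 : l ∈ J1
    · rw [if_pos h1]
      obtain ⟨a, ha⟩ := Function.ne_iff.mp (hz l h1)
      obtain ⟨b, hb⟩ := Function.ne_iff.mp (sfv_ne_zero hk (hz l h1))
      exact ⟨a, b, mul_ne_zero ha hb⟩
    · rw [if_neg h1]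
      by_cases h2 : l ∈ J2
      · rw [if_pos h2]
        have hw := wedge_ne_zero hk (hx l h2).1 (hx l h2).2
        by_contra hcon
        push Not at hcon
        apply hw
        funext a b
        exact hcon a b
      · rw [if_neg h2]
        exact ⟨⟨0, hk0⟩, ⟨0, hk0⟩, by rw [Matrix.one_apply_eq]; exact one_ne_zero⟩
  choose a b hab using hent
  intro h
  have := congrFun (congrFun h a) b
  rw [ptens_apply, Matrix.zero_apply] at this
  exact (Finset.prod_ne_zero_iff.2 (fun l _ => hab l)) this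

/-- **(L6)** an isometry `1 + c • ptens (famS J1 J2 z x x')`, `c ≠ 0`, has an odd number of `N`-slots -/
theorem odd_of_mem_GSV (h2 : (2 : F) ≠ 0) (hk : Even k) (J1 J2 : Finset (Fin t)) (hd : Disjoint J1 J2)
    (hne : (J1 ∪ J2).Nonempty) (z x x' : Fin t → Fin k → F) (hz : ∀ l ∈ J1, z l ≠ 0)
    (hx : ∀ l ∈ J2, x l ≠ 0 ∧ sf (x l) (x' l) = 0 ∧ ¬ ∃ c : F, x' l = c • x l) (c : F) (hc : c ≠ 0)
    (g : GL (Idx t k) F) (hg : g ∈ GSV t k F)
    (hgv : (g : Matrix (Idx t k) (Idx t k) F) = 1 + c • ptens k t (famS J1 J2 z x x')) : Odd J1.card := by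
  set M := ptens k t (famS J1 J2 z x x') with hM
  have hM0 : M ≠ 0 := ptens_famS_ne_zero hk J1 J2 hne z x x' hz (fun l hl => ⟨(hx l hl).1, (hx l hl).2.2⟩)
  have hMM : M * M = 0 := ptens_famS_sq J1 J2 hne z x x' (fun l hl => (hx l hl).2.1)
  have hadj : adjT hk M = ((-1 : F) ^ J1.card) • M := adjT_ptens_famS hk J1 J2 z x x'
  have h1 := (Cfsg.Agent.Lib.Helper9.TWST.mem_GSV_iff hk g).1 hg
  rw [hgv, adjT_add, adjT_one, adjT_smul, hadj] at h1
  have h3 : (1 + c • ((-1 : F) ^ J1.card • M)) * (1 + c • M) = 1 + (c * (1 + (-1 : F) ^ J1.card)) • M := by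
    rw [add_mul, mul_add, mul_add, one_mul, one_mul, mul_one, smul_mul_assoc, smul_mul_assoc, mul_smul_comm,
      hMM, smul_zero, smul_zero, smul_zero, add_zero, smul_smul, add_assoc, ← add_smul]
    congr 2
    ring
  rw [h3] at h1
  have h4 : (c * (1 + (-1 : F) ^ J1.card)) • M = 0 := by
    have := congrArg (fun X => X - 1) h1
    simpa using this
  rcases smul_eq_zero.1 h4 with h5 | h5
  · rcases mul_eq_zero.1 h5 with h6 | h6
    · exact absurd h6 hc
    · by_contra hodd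
      rw [Nat.not_odd_iff_even] at hodd
      rw [hodd.neg_one_pow] at h6
      apply h2
      rw [← h6]
      norm_num
  · exact absurd h5 hM0

end Cfsg.Agent.Lib.Helper1.TWS2ALeaf
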