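import Mathlib
import Cfsg.Agent.Lib.Helper5.TWS.Defs
import Cfsg.Agent.Lib.Helper8.TW.Defs
import Cfsg.Agent.Lib.Helper22.TWExtBasic
import Cfsg.Agent.Lib.Helper22.TWExtMore
import Cfsg.Agent.Lib.Helper14.TWIIDefs
import Cfsg.Agent.Lib.Helper14.TWSIIDefs
import Cfsg.Agent.Lib.Helper16.TWSIIEta
import Cfsg.Agent.Lib.Helper18.TWSIIU8w
import Cfsg.Agent.Lib.Helper24.TWSIIE2
import Cfsg.Agent.Lib.Helper11.TWSIIB1b
import Cfsg.Agent.Lib.Helper11.TWSIIB1c

/-!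
# S5668 Stage II-B, leaf B1 `B1S_blocks`, part (a) `B1S_rel`: the `hQ` ANALYSIS (helper1, spare of helper13's B1a)

From `g W = W`, `g C = C` and the normalising relation `hQ` for the Heisenberg matrices `η_w` (`w ⊥ y`):
`γ ∈ GL(B)`, `c ≠ 0` with `g (b ⊗ y) = γ b ⊗ y`, `g (b ⊗ y') ≡ c • γ b ⊗ y' (mod C)`,
`g (b ⊗ a) ≡ γ b ⊗ a' (mod W)` (`a, a' ∈ A₀ = ⟨y,y'⟩^⊥`).  Together with helper11's `B1S_asm` this is `B1S_blocks`.
-/

set_option autoImplicit false
set_option linter.unusedSectionVars false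
set_option linter.unusedVariables false

namespace Cfsg.Agent.Lib.Helper1.TWSIILeaf
open Matrix Cfsg.Geo Cfsg.Agent.Lib.Helper18.AschA89 Cfsg.Agent.Lib.Helper8.TW Cfsg.Agent.Lib.Helper5.TWS
  Cfsg.Agent.Lib.Helper14.TWII Cfsg.Agent.Lib.Helper14.TWSII
open Cfsg.Agent.Lib.Helper25.SpT (sf Jm sfv)
open Cfsg.Agent.Lib.Helper25.SpT (sf_add_left sf_add_right sf_smul_left sf_smul_right sf_sub_left sf_sub_right sf_skew sf_self
  sf_zero_left sfv_dot sf_neg_left)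
open Cfsg.Agent.Lib.Helper22.TWLeaf (ins_comp ins_inj vec_ext_ins ctr_tens mem_Cf_iff_ctr ctr_ext_mulVec ctr_slot_mulVec
  ctr_add ctr_smul ext_mulVec_tens slot_mulVec_tens mem_Wf_iff_tens)
open Cfsg.Agent.Lib.Helper11.TWSIILeaf (tens_add_left11 tens_add_right11 tens_smul_left11 tens_smul_right11
  tens_zero_left11 tens_zero_right11 ctr_neg_left11 unit_mulVec_inj11)
open Cfsg.Agent.Lib.Helper24.TWSIILeaf (projA0 sf_projA0_y sf_projA0_y' exists_A0_pair)

variable {F : Type*} [Field F] [Fintype F] {t k : ℕ}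

/-- `b ↦ b ⊗ a` as a linear map -/
def tensLB (i : Fin (t + 1)) (a : Fin k → F) : (Idx t k → F) →ₗ[F] (Idx (t + 1) k → F) where
  toFun b := tens i b a
  map_add' b b' := tens_add_left11 i b b' a
  map_smul' c b := by
    simp only [RingHom.id_apply]
    exact tens_smul_left11 i c b a

/-- `ctr i ξ` as a linear map -/
def ctrLB (i : Fin (t + 1)) (ξ : Fin k → F) : (Idx (t + 1) k → F) →ₗ[F] (Idx t k → F) where
  toFun v := ctr i ξ v
  map_add' v w := ctr_add i ξ v w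
  map_smul' c v := by
    simp only [RingHom.id_apply]
    exact ctr_smul i ξ c v

lemma ctr_sub1 (i : Fin (t + 1)) (ξ : Fin k → F) (v w : Idx (t + 1) k → F) :
    ctr i ξ (v - w) = ctr i ξ v - ctr i ξ w := (ctrLB i ξ).map_sub v w

lemma ctr_zero1 (i : Fin (t + 1)) (ξ : Fin k → F) : ctr i ξ (0 : Idx (t + 1) k → F) = 0 := (ctrLB i ξ).map_zero

lemma tens_sub_right1 (i : Fin (t + 1)) (b : Idx t k → F) (a a' : Fin k → F) :
    tens i b (a - a') = tens i b a - tens i b a' := by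
  funext x; simp only [tens, Pi.sub_apply]; ring

lemma tens_neg_right1 (i : Fin (t + 1)) (b : Idx t k → F) (a : Fin k → F) :
    tens i b (-a) = - tens i b a := by
  funext x; simp only [tens, Pi.neg_apply]; ring

/-- the matrix of `b ↦ ctr i ξ (g (b ⊗ a))` -/
noncomputable def relM (i : Fin (t + 1)) (ξ a : Fin k → F) (gm : Matrix (Idx (t + 1) k) (Idx (t + 1) k) F) :
    Matrix (Idx t k) (Idx t k) F :=
  LinearMap.toMatrix' ((ctrLB i ξ).comp ((Matrix.mulVecLin gm).comp (tensLB i a)))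

lemma relM_mulVec (i : Fin (t + 1)) (ξ a : Fin k → F) (gm : Matrix (Idx (t + 1) k) (Idx (t + 1) k) F)
    (b : Idx t k → F) : relM i ξ a gm *ᵥ b = ctr i ξ (gm *ᵥ tens i b a) := by
  unfold relM
  rw [LinearMap.toMatrix'_mulVec]
  rfl

/-- `slot i M - 1` maps `C = C(i, y†)` into `W = W(i,y)` when `M` fixes `y` and is `1` on `y^⊥ / y` -/
lemma slot_sub_mem_Wf (i : Fin (t + 1)) (y : Fin k → F) (hy0 : y ≠ 0) (M : Matrix (Fin k) (Fin k) F)
    (hM3 : ∀ a : Fin k → F, sf a y = 0 → ∃ c : F, M *ᵥ a = a + c • y)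
    (r : Idx (t + 1) k → F) (hr : r ∈ Cf i (sfv y)) : slot k (t + 1) i M *ᵥ r - r ∈ Wf i y := by
  classical
  let P : Submodule F (Idx (t + 1) k → F) :=
    (Wf i y).comap (Matrix.toLin' (slot k (t + 1) i M) - LinearMap.id)
  have hP : ∀ x, x ∈ P ↔ slot k (t + 1) i M *ᵥ x - x ∈ Wf i y := by
    intro x
    simp only [P, Submodule.mem_comap, LinearMap.sub_apply, Matrix.toLin'_apply, LinearMap.id_apply]
  have hle : Cf i (sfv y) ≤ P := by
    unfold Cf
    apply Cfsg.Agent.Lib.Helper18.TWSIILeaf.fib_le_of_tens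
    intro b a ha
    rw [mem_kerF, sfv_dot] at ha
    obtain ⟨c, hc⟩ := hM3 a ha
    rw [hP, slot_mulVec_tens, hc, tens_add_right11, add_sub_cancel_left, tens_smul_right11, ← tens_smul_left11]
    exact (mem_Wf_iff_tens i y hy0 _).2 ⟨_, rfl⟩
  exact (hP r).1 (hle hr)

/-- B1, part (a): the `hQ` analysis -/
theorem B1S_rel (hk : Even k) (hk4 : 4 ≤ k) (i : Fin (t + 1)) (y y' : Fin k → F) (hyy' : sf y y' = 1)
    (g : GL (Idx (t + 1) k) F) (hstab : img g (Wf i y) = Wf i y) (hstabC : img g (Cf i (sfv y)) = Cf i (sfv y))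
    (hQ : ∀ w : Fin k → F, sf w y = 0 → ∃ M : Matrix (Fin k) (Fin k) F,
      (g : Matrix (Idx (t + 1) k) (Idx (t + 1) k) F) * slot k (t + 1) i (etaS y w 0) =
        slot k (t + 1) i M * (g : Matrix (Idx (t + 1) k) (Idx (t + 1) k) F) ∧
      M *ᵥ y = y ∧ (∀ a : Fin k → F, sf a y = 0 → ∃ c : F, M *ᵥ a = a + c • y) ∧
      (∀ a : Fin k → F, sf (M *ᵥ a - a) y = 0)) :
    ∃ (γ : GL (Idx t k) F) (c : F), c ≠ 0 ∧
      (∀ b : Idx t k → F, mv g (tens i b y) = tens i ((γ : Matrix (Idx t k) (Idx t k) F) *ᵥ b) y) ∧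
      (∀ b : Idx t k → F,
        mv g (tens i b y') - c • tens i ((γ : Matrix (Idx t k) (Idx t k) F) *ᵥ b) y' ∈ Cf i (sfv y)) ∧
      (∀ a : Fin k → F, sf a y = 0 → sf a y' = 0 → ∃ a' : Fin k → F, sf a' y = 0 ∧ sf a' y' = 0 ∧
        ∀ b : Idx t k → F, mv g (tens i b a) - tens i ((γ : Matrix (Idx t k) (Idx t k) F) *ᵥ b) a' ∈ Wf i y) := by
  classical
  have hy0 : y ≠ 0 := by
    rintro rfl
    rw [sf_zero_left] at hyy'
    exact zero_ne_one hyy'
  have hy'y : sf y' y = -1 := by rw [sf_skew, hyy']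
  set gm : Matrix (Idx (t + 1) k) (Idx (t + 1) k) F := (g : Matrix (Idx (t + 1) k) (Idx (t + 1) k) F) with hgm
  have hmv : ∀ v, mv g v = gm *ᵥ v := fun v => rfl
  have hW : ∀ v ∈ Wf i y, gm *ᵥ v ∈ Wf i y := by
    intro v hv
    have h1 : Matrix.toLin' gm v ∈ img g (Wf i y) := Submodule.mem_map_of_mem hv
    rw [hstab, Matrix.toLin'_apply] at h1
    exact h1
  have hC : ∀ v ∈ Cf i (sfv y), gm *ᵥ v ∈ Cf i (sfv y) := by
    intro v hv
    have h1 : Matrix.toLin' gm v ∈ img g (Cf i (sfv y)) := Submodule.mem_map_of_mem hv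
    rw [hstabC, Matrix.toLin'_apply] at h1
    exact h1
  have htW : ∀ b : Idx t k → F, tens i b y ∈ Wf i y := fun b => (mem_Wf_iff_tens i y hy0 _).2 ⟨b, rfl⟩
  -- `γ`
  set γm : Matrix (Idx t k) (Idx t k) F := relM i (sfv y') y gm with hγm
  have hγv : ∀ b, γm *ᵥ b = ctr i (sfv y') (gm *ᵥ tens i b y) := fun b => relM_mulVec i _ _ gm b
  have H1 : ∀ b, gm *ᵥ tens i b y = tens i (γm *ᵥ b) y := by
    intro b
    obtain ⟨b', hb'⟩ := (mem_Wf_iff_tens i y hy0 _).1 (hW _ (htW b))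
    rw [hγv, hb', ctr_tens, sfv_dot, hyy', one_smul]
  have hγker : ∀ b, γm *ᵥ b = 0 → b = 0 := by
    intro b hb
    have h1 : gm *ᵥ tens i b y = gm *ᵥ 0 := by rw [H1, hb, tens_zero_left11, Matrix.mulVec_zero]
    have h2 : tens i b y = 0 := unit_mulVec_inj11 g h1
    have h3 := congrArg (ctr i (sfv y')) h2
    rw [ctr_tens, sfv_dot, hyy', one_smul, ctr_zero1] at h3
    exact h3
  have hγinj : Function.Injective γm.mulVec := by
    intro b1 b2 h
    have h0 : γm *ᵥ (b1 - b2) = 0 := by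
      rw [Matrix.mulVec_sub]
      exact sub_eq_zero.2 h
    exact sub_eq_zero.1 (hγker _ h0)
  obtain ⟨γ, hγ⟩ := Matrix.mulVec_injective_iff_isUnit.1 hγinj
  -- `δ`
  set δm : Matrix (Idx t k) (Idx t k) F := relM i (-(sfv y)) y' gm with hδm
  have hδv : ∀ b, δm *ᵥ b = ctr i (-(sfv y)) (gm *ᵥ tens i b y') := fun b => relM_mulVec i _ _ gm b
  have H2 : ∀ b, gm *ᵥ tens i b y' - tens i (δm *ᵥ b) y' ∈ Cf i (sfv y) := by
    intro b
    rw [mem_Cf_iff_ctr, ctr_sub1, ctr_tens, sfv_dot, hy'y, hδv, ctr_neg_left11]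
    simp
  -- (E1)
  have E1 : ∀ w : Fin k → F, sf w y = 0 → ∃ m : Fin k → F, sf m y = 0 ∧ sf m y' = 0 ∧
      ∀ b, gm *ᵥ tens i b w - tens i (δm *ᵥ b) m ∈ Wf i y := by
    intro w hw
    obtain ⟨M, hM1, hMy, hM3, hM4⟩ := hQ w hw
    refine ⟨projA0 y y' (-(M *ᵥ y' - y')), sf_projA0_y y y' hyy' _, sf_projA0_y' y y' hyy' _, ?_⟩
    intro b
    have e1 : (gm * slot k (t + 1) i (etaS y w 0)) *ᵥ tens i b y' =
        (slot k (t + 1) i M * gm) *ᵥ tens i b y' := by rw [hM1]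
    rw [← Matrix.mulVec_mulVec, ← Matrix.mulVec_mulVec, slot_mulVec_tens,
      Cfsg.Agent.Lib.Helper16.TWSIILeaf.etaS_mulVec, hy'y, mul_neg, mul_one, neg_zero, zero_smul, add_zero,
      tens_add_right11, tens_add_right11, tens_smul_right11, tens_smul_right11, Matrix.mulVec_add, Matrix.mulVec_add,
      Matrix.mulVec_smul, Matrix.mulVec_smul, H1] at e1
    set X := gm *ᵥ tens i b y' with hX
    set r := X - tens i (δm *ᵥ b) y' with hr
    have hrC : r ∈ Cf i (sfv y) := H2 b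
    have hrW := slot_sub_mem_Wf i y hy0 M hM3 r hrC
    have hXr : X = r + tens i (δm *ᵥ b) y' := by rw [hr]; abel
    have e2 : slot k (t + 1) i M *ᵥ X = slot k (t + 1) i M *ᵥ r + tens i (δm *ᵥ b) (M *ᵥ y') := by
      rw [hXr, Matrix.mulVec_add, slot_mulVec_tens]
    have hm4 : sf (M *ᵥ y' - y') y = 0 := hM4 y'
    have e3 : gm *ᵥ tens i b w - tens i (δm *ᵥ b) (projA0 y y' (-(M *ᵥ y' - y'))) =
        -(slot k (t + 1) i M *ᵥ r - r) + sf y' w • tens i (γm *ᵥ b) y +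
          (-(sf (M *ᵥ y' - y') y')) • tens i (δm *ᵥ b) y := by
      have e4 : gm *ᵥ tens i b w = X + sf y' w • tens i (γm *ᵥ b) y - slot k (t + 1) i M *ᵥ X := by
        rw [← e1]
        simp only [neg_smul, one_smul]
        abel
      have e5 : projA0 y y' (-(M *ᵥ y' - y')) = -(M *ᵥ y' - y') + sf (M *ᵥ y' - y') y' • y := by
        unfold projA0
        rw [sf_neg_left, sf_neg_left, hm4]
        simp
      rw [e4, e2, e5, tens_add_right11, tens_neg_right1, tens_sub_right1, tens_smul_right11, hXr]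
      simp only [neg_smul]
      abel
    rw [e3]
    refine (Wf i y).add_mem ((Wf i y).add_mem ((Wf i y).neg_mem hrW) ((Wf i y).smul_mem _ (htW _)))
      ((Wf i y).smul_mem _ (htW _))
  -- (E2)
  obtain ⟨a₀, w₀, ha₀y, ha₀y', hw₀y, hw₀y', haw⟩ := exists_A0_pair hk hk4 y y' hyy'
  obtain ⟨m₀, hm₀y, hm₀y', hm₀⟩ := E1 a₀ ha₀y
  obtain ⟨M, hM1, hMy, hM3, hM4⟩ := hQ w₀ hw₀y
  obtain ⟨κ, hκ⟩ := hM3 m₀ hm₀y
  have E2 : ∀ b, γm *ᵥ b = κ • (δm *ᵥ b) := by
    intro b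
    obtain ⟨p, hp⟩ := (mem_Wf_iff_tens i y hy0 _).1 (hm₀ b)
    have hX : gm *ᵥ tens i b a₀ = tens i (δm *ᵥ b) m₀ + tens i p y := by
      rw [← hp]; abel
    have e1 : (gm * slot k (t + 1) i (etaS y w₀ 0)) *ᵥ tens i b a₀ =
        (slot k (t + 1) i M * gm) *ᵥ tens i b a₀ := by rw [hM1]
    rw [← Matrix.mulVec_mulVec, ← Matrix.mulVec_mulVec, slot_mulVec_tens,
      Cfsg.Agent.Lib.Helper16.TWSIILeaf.etaS_mulVec, ha₀y, haw, mul_zero, zero_smul, zero_smul, add_zero, add_zero,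
      one_smul, tens_add_right11, Matrix.mulVec_add, H1, hX, Matrix.mulVec_add, slot_mulVec_tens, slot_mulVec_tens,
      hMy, hκ, tens_add_right11, tens_smul_right11] at e1
    have e2 : tens i (γm *ᵥ b) y = κ • tens i (δm *ᵥ b) y := by
      have := e1
      -- cancel the common terms
      have h' : tens i (δm *ᵥ b) m₀ + tens i p y + tens i (γm *ᵥ b) y =
          tens i (δm *ᵥ b) m₀ + κ • tens i (δm *ᵥ b) y + tens i p y := this
      have h'' : tens i (γm *ᵥ b) y = κ • tens i (δm *ᵥ b) y := by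
        have := congrArg (fun z => z - tens i (δm *ᵥ b) m₀ - tens i p y) h'
        beta_reduce at this
        rw [show tens i (δm *ᵥ b) m₀ + tens i p y + tens i (γm *ᵥ b) y - tens i (δm *ᵥ b) m₀ - tens i p y =
          tens i (γm *ᵥ b) y by abel,
          show tens i (δm *ᵥ b) m₀ + κ • tens i (δm *ᵥ b) y + tens i p y - tens i (δm *ᵥ b) m₀ - tens i p y =
          κ • tens i (δm *ᵥ b) y by abel] at this
        exact this
      exact h''
    have e3 := congrArg (ctr i (sfv y')) e2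
    rw [ctr_tens, ctr_smul, ctr_tens, sfv_dot, hyy', one_smul, one_smul] at e3
    exact e3
  have hκ0 : κ ≠ 0 := by
    intro h0
    have u₀ : Idx t k := fun _ => ⟨0, by omega⟩
    have hb : (Pi.single u₀ (1 : F) : Idx t k → F) = 0 := by
      apply hγker
      rw [E2, h0, zero_smul]
    have := congrFun hb u₀
    rw [Pi.single_eq_same, Pi.zero_apply] at this
    exact one_ne_zero this
  have hδγ : ∀ b, δm *ᵥ b = κ⁻¹ • (γm *ᵥ b) := by
    intro b
    rw [E2, smul_smul, inv_mul_cancel₀ hκ0, one_smul]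
  refine ⟨γ, κ⁻¹, inv_ne_zero hκ0, ?_, ?_, ?_⟩
  · intro b
    rw [hmv, hγ]
    exact H1 b
  · intro b
    rw [hmv, hγ, ← tens_smul_left11, ← hδγ]
    exact H2 b
  · intro a hay hay'
    obtain ⟨m, hmy, hmy', hm⟩ := E1 a hay
    refine ⟨κ⁻¹ • m, ?_, ?_, ?_⟩
    · rw [sf_smul_left, hmy, mul_zero]
    · rw [sf_smul_left, hmy', mul_zero]
    · intro b
      rw [hmv, hγ, tens_smul_right11, ← tens_smul_left11, ← hδγ]
      exact hm b

end Cfsg.Agent.Lib.Helper1.TWSIILeaf
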