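import Mathlib
import Cfsg.Agent.Lib.Helper5.TWS.Defs
import Cfsg.Agent.Lib.Helper8.TW.Defs
import Cfsg.Agent.Lib.Helper22.TWExtBasic
import Cfsg.Agent.Lib.Helper22.TWExtMore
import Cfsg.Agent.Lib.Helper23.TWG1
import Cfsg.Agent.Lib.Helper28.TWIIBE
import Cfsg.Agent.Lib.Helper14.TWIIDefs
import Cfsg.Agent.Lib.Helper14.TWSIIDefs
import Cfsg.Agent.Lib.Helper7.SOTGM
import Cfsg.Agent.Lib.Helper29.TWSOneSlot
import Cfsg.Agent.Lib.Helper29.TWSOneSlot2
import Cfsg.Agent.Lib.Helper1.TWSIIT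

/-!
helper1, S5668 Stage II-B (descent; sub-planner helper14): leaf L3 `lift_comm` — the LIFT commutators (plan §4.4).
`u = 1 + ext i θ * N_y`.  `k = 2` (then `|F| ≥ 5`): `r = slotGL i ν`, `ν ∈ Sp(A)`, `ν y = l • y`, `l² ≠ 1`, `r' = 1`:
`[u,r] = 1 + (1 - l²) • ext i θ * N_y`.  `k ≥ 4` (any odd `q`): `v ⊥ y`, `v ∉ F y`, `ν y = y + v`, `ν' y = y - v`:
`[u,r][u,r'] = 1 - ext i (2 θ) * N_v` (all products of `N_w`, `w` in the t.i. plane `⟨y, v⟩`, vanish).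
The isometries come from `Helper7.SOTGLeaf.exists_sp_map` (`Sp(A)` is transitive on non-zero vectors).
-/

set_option autoImplicit false
set_option linter.unusedSectionVars false
set_option linter.unusedVariables false

namespace Cfsg.Agent.Lib.Helper1.TWSIILeaf
open Matrix Cfsg.Geo Cfsg.Agent.Lib.Helper18.AschA89 Cfsg.Agent.Lib.Helper8.TW Cfsg.Agent.Lib.Helper5.TWS
  Cfsg.Agent.Lib.Helper14.TWII Cfsg.Agent.Lib.Helper14.TWSII
open Cfsg.Agent.Lib.Helper25.SpT (sf Jm sfv)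
open Cfsg.Agent.Lib.Helper29.TWSOne

variable {F : Type*} [Field F] [Fintype F] {t k : ℕ}

/-- isometries conjugate `w w†` to `(ν w)(ν w)†` -/
lemma conj_Nz (ν : GL (Fin k) F) (hν : ν ∈ GSA k F) (w : Fin k → F) :
    (ν : Matrix (Fin k) (Fin k) F) * Nz w * ((ν⁻¹ : GL (Fin k) F) : Matrix (Fin k) (Fin k) F) =
      Nz ((ν : Matrix (Fin k) (Fin k) F) *ᵥ w) := by
  unfold Nz dy
  rw [Matrix.mul_vecMulVec, Matrix.vecMulVec_mul]
  congr 1
  -- `sfv w ᵥ* ν⁻¹ = sfv (ν w)`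
  funext b
  have h1 : (sfv w ᵥ* ((ν⁻¹ : GL (Fin k) F) : Matrix (Fin k) (Fin k) F)) b
      = sfv w ⬝ᵥ (((ν⁻¹ : GL (Fin k) F) : Matrix (Fin k) (Fin k) F) *ᵥ Pi.single b 1) := by
    rw [Matrix.dotProduct_mulVec, dotProduct_single_one]
  have h2 : sfv ((ν : Matrix (Fin k) (Fin k) F) *ᵥ w) b
      = sfv ((ν : Matrix (Fin k) (Fin k) F) *ᵥ w) ⬝ᵥ Pi.single b 1 := by
    rw [dotProduct_single_one]
  rw [h1, h2, Cfsg.Agent.Lib.Helper25.SpT.sfv_dot, Cfsg.Agent.Lib.Helper25.SpT.sfv_dot]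
  have h3 := (mem_GSA.1 hν) (((ν⁻¹ : GL (Fin k) F) : Matrix (Fin k) (Fin k) F) *ᵥ Pi.single b 1) w
  rw [Matrix.mulVec_mulVec, ← Units.val_mul, mul_inv_cancel, Units.val_one, Matrix.one_mulVec] at h3
  exact h3.symm

/-- the matrix `M_w = ext i θ * slot i (w w†)` -/
def Mw (i : Fin (t + 1)) (θ : Matrix (Idx t k) (Idx t k) F) (w : Fin k → F) :
    Matrix (Idx (t + 1) k) (Idx (t + 1) k) F :=
  ext i θ * slot k (t + 1) i (Nz w)

lemma Mw_eq (i : Fin (t + 1)) (θ : Matrix (Idx t k) (Idx t k) F) (w : Fin k → F) :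
    Mw i θ w = ext i θ * rootN i w (sfv w) := rfl

lemma Mw_mul_Mw (i : Fin (t + 1)) (θ : Matrix (Idx t k) (Idx t k) F) (w w' : Fin k → F) (h : sf w' w = 0) :
    Mw i θ w * Mw i θ w' = 0 := by
  unfold Mw
  rw [mul_assoc, ← mul_assoc (slot k (t + 1) i (Nz w)), ← Cfsg.Agent.Lib.Helper22.TWLeaf.ext_comm_slot,
    mul_assoc, slot_mul, Nz_mul_Nz, h, zero_smul, slot_zero, mul_zero, mul_zero]

lemma conj_Mw (i : Fin (t + 1)) (θ : Matrix (Idx t k) (Idx t k) F) (ν : GL (Fin k) F) (hν : ν ∈ GSA k F)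
    (w : Fin k → F) :
    slot k (t + 1) i (ν : Matrix (Fin k) (Fin k) F) * Mw i θ w *
      slot k (t + 1) i ((ν⁻¹ : GL (Fin k) F) : Matrix (Fin k) (Fin k) F) =
      Mw i θ ((ν : Matrix (Fin k) (Fin k) F) *ᵥ w) := by
  unfold Mw
  rw [← mul_assoc, ← Cfsg.Agent.Lib.Helper22.TWLeaf.ext_comm_slot, mul_assoc, mul_assoc, slot_mul, slot_mul,
    ← mul_assoc, conj_Nz ν hν w]

/-- the commutator of `u = 1 + M_y` with `slotGL i ν` -/
lemma comm_val (i : Fin (t + 1)) (y : Fin k → F) (θ : Matrix (Idx t k) (Idx t k) F) (u : GL (Idx (t + 1) k) F)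
    (hu : (u : Matrix (Idx (t + 1) k) (Idx (t + 1) k) F) = 1 + Mw i θ y) (ν : GL (Fin k) F) (hν : ν ∈ GSA k F) :
    ((u * slotGL i ν * u⁻¹ * (slotGL i ν)⁻¹ : GL (Idx (t + 1) k) F) : Matrix (Idx (t + 1) k) (Idx (t + 1) k) F) =
      (1 + Mw i θ y) * (1 - Mw i θ ((ν : Matrix (Fin k) (Fin k) F) *ᵥ y)) := by
  have hMM : Mw i θ y * Mw i θ y = 0 := Mw_mul_Mw i θ y y (Cfsg.Agent.Lib.Helper25.SpT.sf_self y)
  have hinv : ((u⁻¹ : GL (Idx (t + 1) k) F) : Matrix (Idx (t + 1) k) (Idx (t + 1) k) F) = 1 - Mw i θ y := by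
    apply Units.inv_eq_of_mul_eq_one_right
    have h0 : (1 + Mw i θ y) * (1 - Mw i θ y) = 1 - Mw i θ y * Mw i θ y := by noncomm_ring
    rw [hu, h0, hMM, sub_zero]
  rw [Units.val_mul, Units.val_mul, Units.val_mul, hinv, hu, ← slotGL_inv, slotGL_val, slotGL_val,
    ← conj_Mw i θ ν hν y]
  have h1 : slot k (t + 1) i (ν : Matrix (Fin k) (Fin k) F) *
      slot k (t + 1) i ((ν⁻¹ : GL (Fin k) F) : Matrix (Fin k) (Fin k) F) = 1 := by
    rw [slot_mul, ← Units.val_mul, mul_inv_cancel, Units.val_one, slot_one]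
  rw [mul_assoc (1 + Mw i θ y), mul_assoc (1 + Mw i θ y)]
  congr 1
  rw [mul_sub, sub_mul, mul_one, h1]

/-- `slotGL i ν ∈ H` for `ν ∈ Sp(A)` -/
lemma slotGL_mem_HS1 (i : Fin t) (ν : GL (Fin k) F) (hν : ν ∈ GSA k F) : slotGL i ν ∈ HS t k F :=
  ⟨Cfsg.Agent.Lib.Helper23.TWLeaf.slotGL_mem_G i ν, slotGL_mem_GSV i hν⟩

lemma exists_GSA_map (hk : Even k) {x x' : Fin k → F} (hx : x ≠ 0) (hx' : x' ≠ 0) :
    ∃ ν : GL (Fin k) F, ν ∈ GSA k F ∧ (ν : Matrix (Fin k) (Fin k) F) *ᵥ x = x' := by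
  obtain ⟨α, h1, h2⟩ := Cfsg.Agent.Lib.Helper7.SOTGLeaf.exists_sp_map hk hx hx'
  exact ⟨α, h1, h2⟩

/-- a scalar `l ≠ 0`, `l² ≠ 1` in a field with more than three elements -/
lemma exists_sq_ne_one (hcard : 3 < Fintype.card F) : ∃ l : F, l ≠ 0 ∧ l * l ≠ 1 := by
  classical
  by_contra hcon
  push Not at hcon
  have hsub : (Finset.univ : Finset F) ⊆ {0, 1, -1} := by
    intro l _
    by_cases h0 : l = 0
    · simp [h0]
    · have h1 := hcon l h0
      have h2 : (l - 1) * (l + 1) = 0 := by ring_nf; rw [← h1]; ring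
      rcases mul_eq_zero.1 h2 with h | h
      · have : l = 1 := by linear_combination h
        simp [this]
      · have : l = -1 := by linear_combination h
        simp [this]
  have := Finset.card_le_card hsub
  rw [Finset.card_univ] at this
  have h3 : ({0, 1, -1} : Finset F).card ≤ 3 := Finset.card_le_three
  omega


lemma two_ne_zero_of_odd1 (hodd : Odd (Fintype.card F)) : (2 : F) ≠ 0 := by
  apply Ring.two_ne_zero
  intro h2
  have := FiniteField.even_card_of_char_two h2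
  rcases hodd with ⟨m, hm⟩
  omega

lemma Mw_smul (i : Fin (t + 1)) (θ : Matrix (Idx t k) (Idx t k) F) (c : F) (w : Fin k → F) :
    Mw i (c • θ) w = c • Mw i θ w := by
  unfold Mw
  rw [Cfsg.Agent.Lib.Helper28.TWIIBLeaf.ext_smul28, Matrix.smul_mul]

/-- **L3 (L)** the LIFT commutators -/
theorem lift_comm (hodd : Odd (Fintype.card F)) (hk : Even k) (hk2 : 2 ≤ k) (hex : ¬ (Fintype.card F = 3 ∧ k = 2))
    (i : Fin (t + 1)) (y : Fin k → F) (hy0 : y ≠ 0) (θ : Matrix (Idx t k) (Idx t k) F) (u : GL (Idx (t + 1) k) F)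
    (hu : (u : Matrix (Idx (t + 1) k) (Idx (t + 1) k) F) = 1 + ext i θ * rootN i y (sfv y)) :
    ∃ (r r' : GL (Idx (t + 1) k) F) (c : F) (y'' : Fin k → F), r ∈ HS (t + 1) k F ∧ r' ∈ HS (t + 1) k F ∧ c ≠ 0 ∧ y'' ≠ 0 ∧
      (((u * r * u⁻¹ * r⁻¹) * (u * r' * u⁻¹ * r'⁻¹) : GL (Idx (t + 1) k) F) : Matrix (Idx (t + 1) k) (Idx (t + 1) k) F) =
        1 + ext i (c • θ) * rootN i y'' (sfv y'') := by
  have hu' : (u : Matrix (Idx (t + 1) k) (Idx (t + 1) k) F) = 1 + Mw i θ y := hu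
  have h2F : (2 : F) ≠ 0 := two_ne_zero_of_odd1 hodd
  by_cases hk2' : k = 2
  · -- the torus: `|F| ≥ 5`
    have hcard : 3 < Fintype.card F := by
      have h1 : 1 < Fintype.card F := Fintype.one_lt_card
      have h3 : Fintype.card F ≠ 3 := fun h => hex ⟨h, hk2'⟩
      rcases hodd with ⟨m, hm⟩
      omega
    obtain ⟨l, hl0, hl1⟩ := exists_sq_ne_one (F := F) hcard
    have hly : l • y ≠ 0 := smul_ne_zero hl0 hy0
    obtain ⟨ν, hν, hνy⟩ := exists_GSA_map (F := F) hk hy0 hly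
    refine ⟨slotGL i ν, 1, 1 - l * l, y, slotGL_mem_HS1 i ν hν, (HS (t + 1) k F).one_mem, ?_, hy0, ?_⟩
    · intro h
      apply hl1
      linear_combination -h
    · have e1 : u * (1 : GL (Idx (t + 1) k) F) * u⁻¹ * (1 : GL (Idx (t + 1) k) F)⁻¹ = 1 := by
        rw [mul_one, mul_inv_cancel, inv_one, mul_one]
      rw [e1, mul_one, comm_val i y θ u hu' ν hν, hνy]
      change _ = 1 + Mw i ((1 - l * l) • θ) y
      rw [Mw_smul]
      have e2 : Mw i θ (l • y) = (l * l) • Mw i θ y := by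
        unfold Mw
        rw [Nz_smul, slot_smul, Matrix.mul_smul]
      have hMM : Mw i θ y * Mw i θ y = 0 := Mw_mul_Mw i θ y y (Cfsg.Agent.Lib.Helper25.SpT.sf_self y)
      rw [e2, mul_sub, mul_one, add_mul, one_mul, Matrix.mul_smul, hMM, smul_zero, add_zero, sub_smul, one_smul]
      abel
  · -- the totally isotropic plane: `k ≥ 4`
    have hk3 : 3 ≤ k := by
      rcases hk with ⟨m, hm⟩
      omega
    obtain ⟨v, hvy, hvn⟩ := exists_perp_not_smul (F := F) hk hk3 hy0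
    have hv0 : v ≠ 0 := by
      rintro rfl
      exact hvn ⟨0, by rw [zero_smul]⟩
    have hp0 : y + v ≠ 0 := by
      intro h
      apply hvn
      refine ⟨-1, ?_⟩
      rw [neg_one_smul]
      exact (eq_neg_of_add_eq_zero_right h)
    have hm0 : y - v ≠ 0 := by
      intro h
      apply hvn
      refine ⟨1, ?_⟩
      rw [one_smul]
      exact (sub_eq_zero.1 h).symm
    obtain ⟨ν, hν, hνy⟩ := exists_GSA_map (F := F) hk hy0 hp0
    obtain ⟨ν', hν', hν'y⟩ := exists_GSA_map (F := F) hk hy0 hm0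
    refine ⟨slotGL i ν, slotGL i ν', -2, v, slotGL_mem_HS1 i ν hν, slotGL_mem_HS1 i ν' hν', neg_ne_zero.2 h2F, hv0, ?_⟩
    rw [Units.val_mul, comm_val i y θ u hu' ν hν, comm_val i y θ u hu' ν' hν', hνy, hν'y]
    change _ = 1 + Mw i ((-2 : F) • θ) v
    rw [Mw_smul]
    -- the nine vanishing products
    have hyv : sf y v = 0 := by
      rw [Cfsg.Agent.Lib.Helper25.SpT.sf_skew, hvy, neg_zero]
    have hyy := Cfsg.Agent.Lib.Helper25.SpT.sf_self y
    have hvv := Cfsg.Agent.Lib.Helper25.SpT.sf_self v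
    have z1 : sf (y + v) y = 0 := by
      rw [Cfsg.Agent.Lib.Helper25.SpT.sf_add_left, hyy, hvy, add_zero]
    have z2 : sf (y - v) y = 0 := by
      rw [Cfsg.Agent.Lib.Helper25.SpT.sf_sub_left, hyy, hvy, sub_zero]
    have z3 : sf y (y + v) = 0 := by
      rw [Cfsg.Agent.Lib.Helper25.SpT.sf_add_right, hyy, hyv, add_zero]
    have z4 : sf y (y - v) = 0 := by
      rw [Cfsg.Agent.Lib.Helper25.SpT.sf_sub_right, hyy, hyv, sub_zero]
    have z5 : sf (y - v) (y + v) = 0 := by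
      rw [Cfsg.Agent.Lib.Helper25.SpT.sf_sub_left, Cfsg.Agent.Lib.Helper25.SpT.sf_add_right,
        Cfsg.Agent.Lib.Helper25.SpT.sf_add_right, hyy, hyv, hvy, hvv]
      ring
    have z6 : sf (y + v) (y - v) = 0 := by
      rw [Cfsg.Agent.Lib.Helper25.SpT.sf_add_left, Cfsg.Agent.Lib.Helper25.SpT.sf_sub_right,
        Cfsg.Agent.Lib.Helper25.SpT.sf_sub_right, hyy, hyv, hvy, hvv]
      ring
    set A := Mw i θ y with hA
    set B := Mw i θ (y + v) with hB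
    set C := Mw i θ (y - v) with hC
    have hAA : A * A = 0 := Mw_mul_Mw i θ y y hyy
    have hAB : A * B = 0 := Mw_mul_Mw i θ y (y + v) z1
    have hAC : A * C = 0 := Mw_mul_Mw i θ y (y - v) z2
    have hBA : B * A = 0 := Mw_mul_Mw i θ (y + v) y z3
    have hBC : B * C = 0 := Mw_mul_Mw i θ (y + v) (y - v) z5
    -- `B + C = 2 A + 2 M_v`
    have hsum : B + C = (2 : F) • A + (2 : F) • Mw i θ v := by
      rw [hA, hB, hC]
      unfold Mw
      rw [← mul_add, ← slot_add, Nz_add_add_Nz_sub, slot_add, slot_smul, slot_smul, mul_add, Matrix.mul_smul,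
        Matrix.mul_smul]
    have h1 : (1 + A) * (1 - B) = 1 + A - B := by
      rw [mul_sub, mul_one, add_mul, one_mul, hAB, add_zero]
    have h2 : (1 + A) * (1 - C) = 1 + A - C := by
      rw [mul_sub, mul_one, add_mul, one_mul, hAC, add_zero]
    have h3 : (1 + A - B) * (1 + A - C) = 1 + (A + A - (B + C)) + (A * A - A * C - B * A + B * C) := by
      noncomm_ring
    have hexp : (1 + A) * (1 - B) * ((1 + A) * (1 - C)) = 1 + (A + A - (B + C)) := by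
      rw [h1, h2, h3, hAA, hAC, hBA, hBC]
      simp only [sub_zero, add_zero]
    rw [hexp, hsum, neg_smul, two_smul, two_smul]
    abel

end Cfsg.Agent.Lib.Helper1.TWSIILeaf
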