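import Mathlib
import Cfsg.Agent.Lib.Helper5.TWS.Defs
import Cfsg.Agent.Lib.Helper8.TW.Defs
import Cfsg.Agent.Lib.Helper22.TWExtBasic
import Cfsg.Agent.Lib.Helper22.TWExtMore
import Cfsg.Agent.Lib.Helper23.TWG6
import Cfsg.Agent.Lib.Helper14.TWIIDefs
import Cfsg.Agent.Lib.Helper14.TWUIIDefs
import Cfsg.Agent.Lib.Helper1.TWST2

/-!
helper1, S5668 Stage II (descent; sub-planner helper14): the symplectic twins of my S5672 toolkit leaves `Helper1.TWUIIT`
(T3 `extGL_mem_HS`, T4 `XB_le_DSV`, T5 `HS_le_XB`, T5' `HS_le_KB`, `KB_le_GSV`, T9 `HS_conj_mem`, T10 `DSA_conj_mem`, T11 `G_img_WfS`; primed names here, the exact-signature leaves are in `Helper1.TWSIIT2`)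
plus the splitting of the tensor power form at one position:
`JT_ins`, `sfT_split`, `sfT_tens`, `sfT_ext` (`1 ⊗ γ` is an isometry / similitude iff `γ` is), `sfT_slot`, `slotGL_mem_GSV`, `slotGL_mem_DSV`,
`extGL_mem_GSV`, `extGL_mem_DSV`.
-/

set_option autoImplicit false
set_option linter.unusedSectionVars false
set_option linter.unusedVariables false

namespace Cfsg.Agent.Lib.Helper1.TWSIILeaf
open Matrix Cfsg.Geo Cfsg.Agent.Lib.Helper18.AschA89 Cfsg.Agent.Lib.Helper8.TW Cfsg.Agent.Lib.Helper5.TWS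
  Cfsg.Agent.Lib.Helper14.TWII Cfsg.Agent.Lib.Helper14.TWUII
open Cfsg.Agent.Lib.Helper25.SpT (sf Jm sfv)

variable {F : Type*} [Field F] {t k : ℕ}

/-! ### splitting the form at position `i` -/

/-- the Gram matrix splits at position `i` -/
theorem JT_ins (i : Fin (t + 1)) (c c' : Fin k) (w w' : Idx t k) :
    JT (t + 1) k F (ins i c w) (ins i c' w') = (Jm k : Matrix (Fin k) (Fin k) F) c c' * JT t k F w w' := by
  rw [JT_apply, JT_apply, Fin.prod_univ_succAbove _ i]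
  simp only [ins_same, ins_succAbove]

/-- the `c`-th slice of `u` at position `i` -/
def sl (i : Fin (t + 1)) (c : Fin k) (u : Idx (t + 1) k → F) : Idx t k → F := fun w => u (ins i c w)

lemma sl_apply (i : Fin (t + 1)) (c : Fin k) (u : Idx (t + 1) k → F) (w : Idx t k) : sl i c u w = u (ins i c w) := rfl

/-- **the form splits at position `i`** -/
theorem sfT_split (i : Fin (t + 1)) (u v : Idx (t + 1) k → F) :
    sfT u v = ∑ c, ∑ c', (Jm k : Matrix (Fin k) (Fin k) F) c c' * sfT (sl i c u) (sl i c' v) := by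
  rw [sfT_eq_sum, sum_ins i]
  apply Finset.sum_congr rfl
  intro c _
  have h1 : ∀ w : Idx t k, ∑ b, u (ins i c w) * JT (t + 1) k F (ins i c w) b * v b
      = ∑ c', ∑ w', u (ins i c w) * ((Jm k : Matrix (Fin k) (Fin k) F) c c' * JT t k F w w') * v (ins i c' w') := by
    intro w
    rw [sum_ins i]
    simp only [JT_ins]
  simp only [h1]
  rw [Finset.sum_comm]
  apply Finset.sum_congr rfl
  intro c' _
  rw [sfT_eq_sum, Finset.mul_sum]
  apply Finset.sum_congr rfl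
  intro w _
  rw [Finset.mul_sum]
  apply Finset.sum_congr rfl
  intro w' _
  simp only [sl_apply]
  ring

lemma sl_tens (i : Fin (t + 1)) (c : Fin k) (b : Idx t k → F) (a : Fin k → F) : sl i c (tens i b a) = a c • b := by
  funext w
  simp only [sl_apply, tens, ins_same, ins_succAbove, Pi.smul_apply, smul_eq_mul]
  ring

/-- ST1' the form on `b ⊗ a` -/
theorem sfT_tens (i : Fin (t + 1)) (b b' : Idx t k → F) (a a' : Fin k → F) :
    sfT (tens i b a) (tens i b' a') = sfT b b' * sf a a' := by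
  rw [sfT_split i, Cfsg.Agent.Lib.Helper25.SpT.sf_eq_sum, Finset.mul_sum]
  apply Finset.sum_congr rfl
  intro c _
  rw [Finset.mul_sum]
  apply Finset.sum_congr rfl
  intro c' _
  rw [sl_tens, sl_tens, sfT_smul_left, sfT_smul_right]
  ring

lemma sl_ext_mulVec (i : Fin (t + 1)) (c : Fin k) (γ : Matrix (Idx t k) (Idx t k) F) (u : Idx (t + 1) k → F) :
    sl i c (ext i γ *ᵥ u) = γ *ᵥ sl i c u := by
  funext w
  rw [sl_apply, Matrix.mulVec, dotProduct, sum_ins i, Finset.sum_eq_single c]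
  · rw [Matrix.mulVec, dotProduct]
    apply Finset.sum_congr rfl
    intro w' _
    rw [Cfsg.Agent.Lib.Helper22.TWLeaf.ext_ins, if_pos rfl, sl_apply]
  · intro b _ hb
    apply Finset.sum_eq_zero
    intro w' _
    rw [Cfsg.Agent.Lib.Helper22.TWLeaf.ext_ins, if_neg (Ne.symm hb), zero_mul]
  · intro h
    exact absurd (Finset.mem_univ _) h

/-- `1 ⊗ γ` scales the form as `γ` does -/
theorem sfT_ext (i : Fin (t + 1)) (γ : Matrix (Idx t k) (Idx t k) F) (ν : F)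
    (h : ∀ b b' : Idx t k → F, sfT (γ *ᵥ b) (γ *ᵥ b') = ν * sfT b b') (u v : Idx (t + 1) k → F) :
    sfT (ext i γ *ᵥ u) (ext i γ *ᵥ v) = ν * sfT u v := by
  rw [sfT_split i, sfT_split i u v, Finset.mul_sum]
  apply Finset.sum_congr rfl
  intro c _
  rw [Finset.mul_sum]
  apply Finset.sum_congr rfl
  intro c' _
  rw [sl_ext_mulVec, sl_ext_mulVec, h]
  ring

lemma sl_slot_mulVec (i : Fin (t + 1)) (c : Fin k) (A : Matrix (Fin k) (Fin k) F) (u : Idx (t + 1) k → F) :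
    sl i c (slot k (t + 1) i A *ᵥ u) = ∑ d, A c d • sl i d u := by
  funext w
  rw [sl_apply, Matrix.mulVec, dotProduct, sum_ins i, Finset.sum_apply]
  apply Finset.sum_congr rfl
  intro d _
  rw [Finset.sum_eq_single w]
  · rw [Cfsg.Agent.Lib.Helper22.TWLeaf.slot_ins, if_pos rfl, Pi.smul_apply, smul_eq_mul, sl_apply]
  · intro w' _ hw'
    rw [Cfsg.Agent.Lib.Helper22.TWLeaf.slot_ins, if_neg (Ne.symm hw'), zero_mul]
  · intro h
    exact absurd (Finset.mem_univ _) h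


lemma sum4_comm {ι : Type*} [Fintype ι] (f : ι → ι → ι → ι → F) :
    ∑ c, ∑ c', ∑ d, ∑ d', f c c' d d' = ∑ d, ∑ d', ∑ c, ∑ c', f c c' d d' := by
  calc ∑ c, ∑ c', ∑ d, ∑ d', f c c' d d' = ∑ c, ∑ d, ∑ c', ∑ d', f c c' d d' :=
        Finset.sum_congr rfl (fun c _ => Finset.sum_comm)
    _ = ∑ d, ∑ c, ∑ c', ∑ d', f c c' d d' := Finset.sum_comm
    _ = ∑ d, ∑ c, ∑ d', ∑ c', f c c' d d' :=
        Finset.sum_congr rfl (fun d _ => Finset.sum_congr rfl (fun c _ => Finset.sum_comm))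
    _ = ∑ d, ∑ d', ∑ c, ∑ c', f c c' d d' := Finset.sum_congr rfl (fun d _ => Finset.sum_comm)

/-- `α` at slot `i` scales the form as `α` scales `sf` -/
theorem sfT_slot (i : Fin (t + 1)) (A : Matrix (Fin k) (Fin k) F) (ν : F)
    (h : ∀ a a' : Fin k → F, sf (A *ᵥ a) (A *ᵥ a') = ν * sf a a') (u v : Idx (t + 1) k → F) :
    sfT (slot k (t + 1) i A *ᵥ u) (slot k (t + 1) i A *ᵥ v) = ν * sfT u v := by
  -- entrywise form of the hypothesis: `Aᵀ J A = ν J`
  have hA : ∀ d d' : Fin k, ∑ c, ∑ c', (Jm k : Matrix (Fin k) (Fin k) F) c c' * (A c d * A c' d')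
      = ν * (Jm k : Matrix (Fin k) (Fin k) F) d d' := by
    intro d d'
    have h1 := h (Pi.single d 1) (Pi.single d' 1)
    rw [Cfsg.Agent.Lib.Helper25.SpT.sf_single_single, Cfsg.Agent.Lib.Helper25.SpT.sf_eq_sum] at h1
    rw [← h1]
    apply Finset.sum_congr rfl
    intro c _
    apply Finset.sum_congr rfl
    intro c' _
    rw [Matrix.mulVec_single_one, Matrix.mulVec_single_one]
    simp only [Matrix.col_apply]
    ring
  rw [sfT_split i, sfT_split i u v]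
  simp only [sl_slot_mulVec]
  have h2 : ∀ c c' : Fin k, sfT (∑ d, A c d • sl i d u) (∑ d', A c' d' • sl i d' v)
      = ∑ d, ∑ d', (A c d * A c' d') * sfT (sl i d u) (sl i d' v) := by
    intro c c'
    have e1 : ∀ (s : Finset (Fin k)) (f : Fin k → Idx t k → F) (x : Idx t k → F),
        sfT (∑ d ∈ s, f d) x = ∑ d ∈ s, sfT (f d) x := by
      intro s f x
      induction s using Finset.induction_on with
      | empty => simp
      | insert a s ha ih => rw [Finset.sum_insert ha, Finset.sum_insert ha, sfT_add_left, ih]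
    have e2 : ∀ (s : Finset (Fin k)) (f : Fin k → Idx t k → F) (x : Idx t k → F),
        sfT x (∑ d ∈ s, f d) = ∑ d ∈ s, sfT x (f d) := by
      intro s f x
      induction s using Finset.induction_on with
      | empty => simp
      | insert a s ha ih => rw [Finset.sum_insert ha, Finset.sum_insert ha, sfT_add_right, ih]
    rw [e1]
    apply Finset.sum_congr rfl
    intro d _
    rw [e2]
    apply Finset.sum_congr rfl
    intro d' _
    rw [sfT_smul_left, sfT_smul_right]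
    ring
  simp only [h2]
  -- reorder the sums
  have hL : ∀ c c' : Fin k, (Jm k : Matrix (Fin k) (Fin k) F) c c' * ∑ d, ∑ d', (A c d * A c' d') * sfT (sl i d u) (sl i d' v)
      = ∑ d, ∑ d', (Jm k : Matrix (Fin k) (Fin k) F) c c' * (A c d * A c' d') * sfT (sl i d u) (sl i d' v) := by
    intro c c'
    rw [Finset.mul_sum]
    apply Finset.sum_congr rfl
    intro d _
    rw [Finset.mul_sum]
    apply Finset.sum_congr rfl
    intro d' _
    ring
  have hR : ∀ d d' : Fin k, ν * ((Jm k : Matrix (Fin k) (Fin k) F) d d' * sfT (sl i d u) (sl i d' v))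
      = ∑ c, ∑ c', (Jm k : Matrix (Fin k) (Fin k) F) c c' * (A c d * A c' d') * sfT (sl i d u) (sl i d' v) := by
    intro d d'
    rw [← mul_assoc, ← hA d d', Finset.sum_mul]
    apply Finset.sum_congr rfl
    intro c _
    rw [Finset.sum_mul]
  simp only [hL]
  rw [Finset.mul_sum]
  have hR' : ∀ d : Fin k, ν * ∑ d', (Jm k : Matrix (Fin k) (Fin k) F) d d' * sfT (sl i d u) (sl i d' v)
      = ∑ d', ∑ c, ∑ c', (Jm k : Matrix (Fin k) (Fin k) F) c c' * (A c d * A c' d') * sfT (sl i d u) (sl i d' v) := by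
    intro d
    rw [Finset.mul_sum]
    apply Finset.sum_congr rfl
    intro d' _
    exact hR d d'
  simp only [hR']
  exact sum4_comm _


/-! ### the standard elements -/

/-- `1 ⊗ γ ∈ GSV` for `γ ∈ GSV` -/
theorem extGL_mem_GSV (i : Fin (t + 1)) {γ : GL (Idx t k) F} (hγ : γ ∈ GSV t k F) : extGL i γ ∈ GSV (t + 1) k F := by
  rw [mem_GSV]
  intro u v
  have h := sfT_ext i (γ : Matrix (Idx t k) (Idx t k) F) 1 (fun b b' => by rw [one_mul]; exact hγ b b') u v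
  rw [one_mul] at h
  exact h

/-- `1 ⊗ γ ∈ DSV` for `γ ∈ DSV` -/
theorem extGL_mem_DSV (i : Fin (t + 1)) {γ : GL (Idx t k) F} (hγ : γ ∈ DSV t k F) : extGL i γ ∈ DSV (t + 1) k F := by
  obtain ⟨c, hc⟩ := mem_DSV.1 hγ
  rw [mem_DSV]
  exact ⟨c, fun u v => sfT_ext i (γ : Matrix (Idx t k) (Idx t k) F) c hc u v⟩

/-- `α` at slot `i` is an isometry for `α ∈ GSA` -/
theorem slotGL_mem_GSV (i : Fin t) {α : GL (Fin k) F} (hα : α ∈ GSA k F) : slotGL i α ∈ GSV t k F := by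
  obtain ⟨t', rfl⟩ : ∃ t', t = t' + 1 := ⟨t - 1, by have := i.2; omega⟩
  rw [mem_GSV]
  intro u v
  have h := sfT_slot i (α : Matrix (Fin k) (Fin k) F) 1 (fun a a' => by rw [one_mul]; exact hα a a') u v
  rw [one_mul] at h
  exact h

/-- `α` at slot `i` is a similitude for `α ∈ DSA` -/
theorem slotGL_mem_DSV (i : Fin t) {α : GL (Fin k) F} (hα : α ∈ DSA k F) : slotGL i α ∈ DSV t k F := by
  obtain ⟨t', rfl⟩ : ∃ t', t = t' + 1 := ⟨t - 1, by have := i.2; omega⟩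
  obtain ⟨c, hc⟩ := mem_DSA.1 hα
  rw [mem_DSV]
  exact ⟨c, fun u v => sfT_slot i (α : Matrix (Fin k) (Fin k) F) c hc u v⟩

/-- T3 `1 ⊗ β ∈ H` for `β ∈ H_t` -/
theorem extGL_mem_HS' (i : Fin (t + 1)) (β : GL (Idx t k) F) (hβ : β ∈ HS t k F) : extGL i β ∈ HS (t + 1) k F :=
  ⟨Cfsg.Agent.Lib.Helper22.TWLeaf.extGL_mem_G i β hβ.1, extGL_mem_GSV i hβ.2⟩

/-- T5 -/
theorem HS_le_XB' (X : Subgroup (GL (Idx (t + 1) k) F)) (hHX : HS (t + 1) k F ≤ X) (i : Fin (t + 1)) :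
    HS t k F ≤ XB X i := by
  intro β hβ
  rw [mem_XB]
  refine ⟨1, ?_⟩
  rw [slotGL_one, one_mul]
  exact hHX (extGL_mem_HS' i β hβ)

/-- T5' (= III-A3a) -/
theorem HS_le_KB (X : Subgroup (GL (Idx (t + 1) k) F)) (hHX : HS (t + 1) k F ≤ X) (j : Fin (t + 1)) :
    HS t k F ≤ KB X j := by
  intro β hβ
  rw [mem_KB]
  exact hHX (extGL_mem_HS' j β hβ)

/-- a hyperbolic pair in `A` -/
theorem exists_sf_eq_one (hk : Even k) (hk0 : 0 < k) : ∃ a a' : Fin k → F, sf a a' = 1 := by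
  have ha : (Pi.single (⟨0, hk0⟩ : Fin k) (1 : F) : Fin k → F) ≠ 0 := by
    intro h
    have := congrFun h ⟨0, hk0⟩
    rw [Pi.single_eq_same] at this
    exact one_ne_zero this
  obtain ⟨a', ha'⟩ := Cfsg.Agent.Lib.Helper25.SpT.exists_sf_ne_zero hk ha
  refine ⟨Pi.single ⟨0, hk0⟩ 1, (sf (Pi.single (⟨0, hk0⟩ : Fin k) (1 : F)) a')⁻¹ • a', ?_⟩
  rw [Cfsg.Agent.Lib.Helper25.SpT.sf_smul_right, inv_mul_cancel₀ ha']

/-- a non-orthogonal pair in `V` -/
theorem exists_sfT_ne_zero (hk : Even k) (hk0 : 0 < k) : ∃ b b' : Idx t k → F, sfT b b' ≠ 0 := by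
  by_contra hcon
  push Not at hcon
  have h0 : (Pi.single (fun _ => (⟨0, hk0⟩ : Fin k)) (1 : F) : Idx t k → F) = 0 :=
    Cfsg.Agent.Lib.Helper1.TWST2.sfT_nondeg_left hk (fun v => hcon _ v)
  have := congrFun h0 (fun _ => (⟨0, hk0⟩ : Fin k))
  rw [Pi.single_eq_same] at this
  exact one_ne_zero this

lemma mv_slot_ext_tens (i : Fin (t + 1)) (α : GL (Fin k) F) (γ : GL (Idx t k) F) (b : Idx t k → F) (a : Fin k → F) :
    mv (slotGL i α * extGL i γ) (tens i b a) = tens i (mv γ b) (mv α a) := by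
  unfold mv
  rw [Units.val_mul, ← Matrix.mulVec_mulVec, extGL_val, slotGL_val,
    Cfsg.Agent.Lib.Helper22.TWLeaf.ext_mulVec_tens, Cfsg.Agent.Lib.Helper22.TWLeaf.slot_mulVec_tens]

/-- T4 the `B`-factor of a similitude `α ⊗ γ` is a similitude -/
theorem XB_le_DSV' (hk : Even k) (hk0 : 0 < k) (X : Subgroup (GL (Idx (t + 1) k) F))
    (hXD : X ≤ DSV (t + 1) k F) (i : Fin (t + 1)) : XB X i ≤ DSV t k F := by
  intro γ hγ
  rw [mem_XB] at hγ
  obtain ⟨α, hα⟩ := hγ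
  obtain ⟨c, hc⟩ := mem_DSV.1 (hXD hα)
  obtain ⟨a, a', haa⟩ := exists_sf_eq_one (F := F) hk hk0
  have key : ∀ b b' : Idx t k → F,
      sfT (mv γ b) (mv γ b') * sf (mv α a) (mv α a') = (c : F) * sfT b b' := by
    intro b b'
    have h1 := hc (tens i b a) (tens i b' a')
    rw [mv_slot_ext_tens, mv_slot_ext_tens, sfT_tens, sfT_tens, haa, mul_one] at h1
    exact h1
  have hν : sf (mv α a) (mv α a') ≠ 0 := by
    intro h0
    obtain ⟨b, b', hbb⟩ := exists_sfT_ne_zero (F := F) (t := t) hk hk0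
    have h1 := key b b'
    rw [h0, mul_zero] at h1
    exact (mul_ne_zero c.ne_zero hbb) h1.symm
  rw [mem_DSV]
  refine ⟨c * (Units.mk0 _ hν)⁻¹, fun b b' => ?_⟩
  rw [Units.val_mul, Units.val_inv_eq_inv_val, Units.val_mk0, mul_assoc, mul_comm _ (sfT b b'), ← mul_assoc,
    ← key b b', mul_assoc, mul_inv_cancel₀ hν, mul_one]

/-- `K_B ≤ GSV` when `X ≤ GSV` -/
theorem KB_le_GSV (hk : Even k) (hk0 : 0 < k) (X : Subgroup (GL (Idx (t + 1) k) F))
    (hXG : X ≤ GSV (t + 1) k F) (j : Fin (t + 1)) : KB X j ≤ GSV t k F := by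
  intro γ hγ
  rw [mem_KB] at hγ
  have h1 := mem_GSV.1 (hXG hγ)
  obtain ⟨a, a', haa⟩ := exists_sf_eq_one (F := F) hk hk0
  rw [mem_GSV]
  intro u v
  have h2 := h1 (tens j u a) (tens j v a')
  unfold mv at h2 ⊢
  rw [extGL_val, Cfsg.Agent.Lib.Helper22.TWLeaf.ext_mulVec_tens, Cfsg.Agent.Lib.Helper22.TWLeaf.ext_mulVec_tens,
    sfT_tens, sfT_tens, haa, mul_one, mul_one] at h2
  exact h2

/-- `K_B ≤ DSV` when `X ≤ DSV` -/
theorem KB_le_DSV (hk : Even k) (hk0 : 0 < k) (X : Subgroup (GL (Idx (t + 1) k) F))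
    (hXD : X ≤ DSV (t + 1) k F) (j : Fin (t + 1)) : KB X j ≤ DSV t k F := by
  intro γ hγ
  rw [mem_KB] at hγ
  obtain ⟨c, hc⟩ := mem_DSV.1 (hXD hγ)
  obtain ⟨a, a', haa⟩ := exists_sf_eq_one (F := F) hk hk0
  rw [mem_DSV]
  refine ⟨c, fun u v => ?_⟩
  have h2 := hc (tens j u a) (tens j v a')
  unfold mv at h2 ⊢
  rw [extGL_val, Cfsg.Agent.Lib.Helper22.TWLeaf.ext_mulVec_tens, Cfsg.Agent.Lib.Helper22.TWLeaf.ext_mulVec_tens,
    sfT_tens, sfT_tens, haa, mul_one, mul_one] at h2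
  exact h2

/-- conjugating an isometry by a similitude (any form, any index type) -/
theorem conj_preserving {κ : Type} [Fintype κ] [DecidableEq κ] (f : (κ → F) → (κ → F) → F) {s h : GL κ F}
    (hs : ∃ c : Fˣ, ∀ u v : κ → F, f (mv s u) (mv s v) = (c : F) * f u v)
    (hh : ∀ u v : κ → F, f (mv h u) (mv h v) = f u v) (u v : κ → F) :
    f (mv (s * h * s⁻¹) u) (mv (s * h * s⁻¹) v) = f u v := by
  obtain ⟨c, hc⟩ := hs
  have e : ∀ x : κ → F, mv (s * h * s⁻¹) x = mv s (mv h (mv s⁻¹ x)) := by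
    intro x
    unfold mv
    rw [Units.val_mul, Units.val_mul, ← Matrix.mulVec_mulVec, ← Matrix.mulVec_mulVec]
  have e2 : ∀ x : κ → F, mv s (mv s⁻¹ x) = x := by
    intro x
    unfold mv
    rw [Matrix.mulVec_mulVec, ← Units.val_mul, mul_inv_cancel, Units.val_one, Matrix.one_mulVec]
  rw [e, e, hc, hh]
  have h3 := hc (mv s⁻¹ u) (mv s⁻¹ v)
  rw [e2, e2] at h3
  rw [← h3]

/-- T9 `H` is normal in `G ∩ Δ(V)` -/
theorem HS_conj_mem (s h : GL (Idx t k) F) (hs : s ∈ Gstd t k F) (hsD : s ∈ DSV t k F)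
    (hh : h ∈ HS t k F) : s * h * s⁻¹ ∈ HS t k F := by
  obtain ⟨hhG, hhU⟩ := hh
  refine ⟨(Gstd t k F).mul_mem ((Gstd t k F).mul_mem hs hhG) ((Gstd t k F).inv_mem hs), ?_⟩
  change s * h * s⁻¹ ∈ GSV t k F
  rw [mem_GSV]
  exact conj_preserving sfT (mem_DSV.1 hsD) (mem_GSV.1 hhU)

/-- `Δ(V)` normalises the isometry group -/
theorem DSV_conj_mem (s h : GL (Idx t k) F) (hsD : s ∈ DSV t k F) (hh : h ∈ GSV t k F) : s * h * s⁻¹ ∈ GSV t k F := by
  rw [mem_GSV]
  exact conj_preserving sfT (mem_DSV.1 hsD) (mem_GSV.1 hh)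

/-- T10 `Δ(A)` normalises `Sp(A)` -/
theorem DSA_conj_mem' (α₁ α' : GL (Fin k) F) (hα₁ : α₁ ∈ DSA k F) (hα' : α' ∈ GSA k F) :
    α₁ * α' * α₁⁻¹ ∈ GSA k F := by
  have h1 : ∃ c : Fˣ, ∀ u v : Fin k → F, sf (mv α₁ u) (mv α₁ v) = (c : F) * sf u v := hα₁
  have h2 : ∀ u v : Fin k → F, sf (mv α' u) (mv α' v) = sf u v := hα'
  exact fun u v => conj_preserving sf h1 h2 u v

/-- T11 elements of `G` map fibres to fibres (form-free; every `z ≠ 0` is admissible) -/
theorem G_img_WfS (hk : Even k) (s : GL (Idx t k) F) (hs : s ∈ Gstd t k F) (i : Fin t) (z : Fin k → F) (hz0 : z ≠ 0) :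
    ∃ (j : Fin t) (z' : Fin k → F), z' ≠ 0 ∧ img s (Wf i z) = Wf j z' := by
  obtain ⟨r', hW, -, -, -⟩ := Cfsg.Agent.Lib.Helper23.TWLeaf.G_act_RD s hs (srd hk i z hz0)
  exact ⟨r'.i, r'.y, r'.hy, hW⟩


end Cfsg.Agent.Lib.Helper1.TWSIILeaf
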