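import Mathlib
import Cfsg.Agent.Lib.Helper1.TWSIIT

/-!
helper1, S5668 Stage II-B (sub-planner helper14): the leaves T3 `extGL_mem_HS`, T4 `XB_le_DSV`, T5 `HS_le_XB`, T8 `DSA_conj_mem`
with the EXACT signatures of `notes/S5668_II_leaves.lean` (wrappers of `Helper1.TWSIIT`).
-/

set_option autoImplicit false
set_option linter.unusedSectionVars false
set_option linter.unusedVariables false

namespace Cfsg.Agent.Lib.Helper1.TWSIILeaf
open Matrix Cfsg.Geo Cfsg.Agent.Lib.Helper18.AschA89 Cfsg.Agent.Lib.Helper8.TW Cfsg.Agent.Lib.Helper5.TWS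
  Cfsg.Agent.Lib.Helper14.TWII
open Cfsg.Agent.Lib.Helper25.SpT (sf Jm sfv)

variable {F : Type*} [Field F] [Fintype F] {t k : ℕ}

/-- T3 (M) `1 ⊗ β ∈ H` for `β ∈ H_t` -/
theorem extGL_mem_HS (i : Fin (t + 1)) (β : GL (Idx t k) F) (hβ : β ∈ HS t k F) :
    extGL i β ∈ HS (t + 1) k F :=
  extGL_mem_HS' i β hβ

/-- T4 (M) the `B`-factor of a similitude `α ⊗ γ` is a similitude -/
theorem XB_le_DSV (hk : Even k) (hk2 : 2 ≤ k) (X : Subgroup (GL (Idx (t + 1) k) F))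
    (hXD : X ≤ DSV (t + 1) k F) (i : Fin (t + 1)) : XB X i ≤ DSV t k F :=
  XB_le_DSV' hk (by omega) X hXD i

/-- T5 (S) -/
theorem HS_le_XB (X : Subgroup (GL (Idx (t + 1) k) F)) (hHX : HS (t + 1) k F ≤ X)
    (i : Fin (t + 1)) : HS t k F ≤ XB X i :=
  HS_le_XB' X hHX i

/-- T8 (S) `Δ(A)` normalises `Sp(A)` -/
theorem DSA_conj_mem (α₁ α' : GL (Fin k) F) (hα₁ : α₁ ∈ DSA k F) (hα' : α' ∈ GSA k F) :
    α₁ * α' * α₁⁻¹ ∈ GSA k F :=
  DSA_conj_mem' α₁ α' hα₁ hα'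

end Cfsg.Agent.Lib.Helper1.TWSIILeaf
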