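import Mathlib
import Cfsg.Agent.Lib.Helper1.TWST2

/-!
# S5668 — ALIASES of `Helper1.TWST2` with the exact signatures of the ST leaves of `notes/S5668_I_leaves.lean`
(`sfT_swap`, `sfT_nondeg`, `finrank_perpT`, `finrank_perpA`, `perpT_perpT`, `perpA_perpA`, `perpT_sup`, `perpT_anti`).
-/

set_option autoImplicit false
set_option linter.unusedSectionVars false
set_option linter.unusedVariables false

namespace Cfsg.Agent.Lib.Helper1.TWSLeaf
open Matrix Cfsg.Geo Cfsg.Agent.Lib.Helper18.AschA89 Cfsg.Agent.Lib.Helper8.TW Cfsg.Agent.Lib.Helper5.TWS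
open Cfsg.Agent.Lib.Helper25.SpT (sf Jm sfv)

variable {F : Type*} [Field F] [Fintype F] {t k : ℕ}

/-- ST-swap -/
theorem sfT_swap (u v : Idx t k → F) : sfT u v = (-1) ^ t * sfT v u :=
  Cfsg.Agent.Lib.Helper1.TWST2.sfT_swap u v

/-- ST-nd -/
theorem sfT_nondeg (hk : Even k) {v : Idx t k → F} (h : ∀ w, sfT v w = 0) : v = 0 :=
  Cfsg.Agent.Lib.Helper1.TWST2.sfT_nondeg_left hk h

/-- ST5 -/
theorem finrank_perpT (hk : Even k) (W : Submodule F (Idx t k → F)) :
    Module.finrank F (perpT W : Submodule F (Idx t k → F)) + Module.finrank F W = k ^ t :=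
  Cfsg.Agent.Lib.Helper1.TWST2.finrank_perpT hk W

theorem finrank_perpA (hk : Even k) (S : Submodule F (Fin k → F)) :
    Module.finrank F (perpA S : Submodule F (Fin k → F)) + Module.finrank F S = k :=
  Cfsg.Agent.Lib.Helper1.TWST2.finrank_perpA hk S

/-- ST5' -/
theorem perpT_perpT (hk : Even k) (W : Submodule F (Idx t k → F)) : perpT (perpT W) = W :=
  Cfsg.Agent.Lib.Helper1.TWST2.perpT_perpT hk W

theorem perpA_perpA (hk : Even k) (S : Submodule F (Fin k → F)) : perpA (perpA S) = S :=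
  Cfsg.Agent.Lib.Helper1.TWST2.perpA_perpA hk S

/-- ST5'' -/
theorem perpT_sup (W W' : Submodule F (Idx t k → F)) : perpT (W ⊔ W') = perpT W ⊓ perpT W' :=
  Cfsg.Agent.Lib.Helper1.TWST2.perpT_sup' W W'

/-- ST5''' -/
theorem perpT_anti {W W' : Submodule F (Idx t k → F)} (h : W ≤ W') : perpT W' ≤ perpT W :=
  Cfsg.Agent.Lib.Helper1.TWST2.perpT_anti' h

end Cfsg.Agent.Lib.Helper1.TWSLeaf
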