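import Mathlib
import Cfsg.Agent.Lib.Helper5.TWU.Defs
import Cfsg.Agent.Lib.Helper8.TW.Defs
import Cfsg.Agent.Lib.Helper22.TWExtBasic
import Cfsg.Agent.Lib.Helper22.TWExtMore
import Cfsg.Agent.Lib.Helper23.TWUT3
import Cfsg.Agent.Lib.Helper23.TWUIUT1
import Cfsg.Agent.Lib.Helper23.TWUIG
import Cfsg.Agent.Lib.Helper23.TWU3A1
import Cfsg.Agent.Lib.Helper8.TWUI6
import Cfsg.Agent.Lib.Helper14.TWIIDefs
import Cfsg.Agent.Lib.Helper14.TWUIIDefs

/-!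
helper1, S5672 Stage II (sub-planner helper14): toolkit leaves T3 `extGL_mem_HU`, T4 `XB_le_DUV`, T5 `HU_le_XB`,
T9 `HU_conj_mem`, T10 `DUA_conj_mem`, T11 `G_img_Wf` — exact signatures of `notes/S5672_II_leaves.lean`.
-/

set_option autoImplicit false
set_option linter.unusedSectionVars false
set_option linter.unusedVariables false

namespace Cfsg.Agent.Lib.Helper1.TWUIILeaf
open Matrix Cfsg.Geo Cfsg.Agent.Lib.Helper18.AschA89 Cfsg.Agent.Lib.Helper8.TW Cfsg.Agent.Lib.Helper5.TWU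
  Cfsg.Agent.Lib.Helper14.TWII Cfsg.Agent.Lib.Helper14.TWUII
open Cfsg.Agent.Lib.Helper20.UT (hv)
open Cfsg.Agent.Lib.Helper23.TWUQ (NSp)

variable {F : Type*} [Field F] [Fintype F] {t k q : ℕ}

/-- T3 `1 ⊗ β ∈ H` for `β ∈ H_t` -/
theorem extGL_mem_HU (hF : Fintype.card F = q ^ 2) (i : Fin (t + 1)) (β : GL (Idx t k) F) (hβ : β ∈ HU t k q F) :
    extGL i β ∈ HU (t + 1) k q F := by
  exact Cfsg.Agent.Lib.Helper23.TWU3Leaf.HU_le_KB hF (HU (t + 1) k q F) le_rfl i hβ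

/-- T5 -/
theorem HU_le_XB (hF : Fintype.card F = q ^ 2) (X : Subgroup (GL (Idx (t + 1) k) F)) (hHX : HU (t + 1) k q F ≤ X)
    (i : Fin (t + 1)) : HU t k q F ≤ XB X i := by
  intro β hβ
  rw [mem_XB]
  refine ⟨1, ?_⟩
  rw [slotGL_one, one_mul]
  exact hHX (extGL_mem_HU hF i β hβ)

/-- T4 the `B`-factor of a similitude `α ⊗ γ` is a similitude -/
theorem XB_le_DUV (hF : Fintype.card F = q ^ 2) (hk : 1 ≤ k) (X : Subgroup (GL (Idx (t + 1) k) F))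
    (hXD : X ≤ DUV (t + 1) k q F) (i : Fin (t + 1)) : XB X i ≤ DUV t k q F := by
  intro γ hγ
  rw [mem_XB] at hγ
  obtain ⟨α, hα⟩ := hγ
  obtain ⟨c, hc⟩ := mem_DUV.1 (hXD hα)
  have hq := Cfsg.Agent.Lib.Helper23.TWUT.q_ne_zero hF
  set e₀ : Fin k → F := Pi.single ⟨0, hk⟩ 1 with he₀
  have he : hv q e₀ e₀ = 1 := by
    rw [he₀, Cfsg.Agent.Lib.Helper23.TWUT.hv_single_right hq, Pi.single_eq_same]
  have hmv : ∀ (b : Idx t k → F) (a : Fin k → F),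
      mv (slotGL i α * extGL i γ) (tens i b a) = tens i (mv γ b) (mv α a) := by
    intro b a
    unfold mv
    rw [Units.val_mul, ← Matrix.mulVec_mulVec, extGL_val, slotGL_val,
      Cfsg.Agent.Lib.Helper22.TWLeaf.ext_mulVec_tens, Cfsg.Agent.Lib.Helper22.TWLeaf.slot_mulVec_tens]
  have key : ∀ b b' : Idx t k → F,
      hv q (mv γ b) (mv γ b') * hv q (mv α e₀) (mv α e₀) = (c : F) * hv q b b' := by
    intro b b'
    have h1 := hc (tens i b e₀) (tens i b' e₀)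
    rw [hmv, hmv, Cfsg.Agent.Lib.Helper23.TWULeaf.hv_tens, Cfsg.Agent.Lib.Helper23.TWULeaf.hv_tens, he, mul_one]
      at h1
    exact h1
  -- the norm of `α e₀` is non-zero
  have hν : hv q (mv α e₀) (mv α e₀) ≠ 0 := by
    intro h0
    let u₀ : Idx t k := fun _ => ⟨0, hk⟩
    have h1 := key (Pi.single u₀ 1) (Pi.single u₀ 1)
    rw [h0, mul_zero, Cfsg.Agent.Lib.Helper23.TWUT.hv_single_right hq, Pi.single_eq_same, mul_one] at h1
    exact c.ne_zero h1.symm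
  rw [mem_DUV]
  refine ⟨c * (Units.mk0 _ hν)⁻¹, fun b b' => ?_⟩
  rw [Units.val_mul, Units.val_inv_eq_inv_val, Units.val_mk0, mul_assoc, mul_comm _ (hv q b b'), ← mul_assoc,
    ← key b b', mul_assoc, mul_inv_cancel₀ hν, mul_one]

/-- conjugating an isometry by a similitude (any index type) -/
theorem conj_preserving {κ : Type} [Fintype κ] [DecidableEq κ] {s h : GL κ F}
    (hs : ∃ c : Fˣ, ∀ u v : κ → F, hv q (mv s u) (mv s v) = (c : F) * hv q u v)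
    (hh : ∀ u v : κ → F, hv q (mv h u) (mv h v) = hv q u v) (u v : κ → F) :
    hv q (mv (s * h * s⁻¹) u) (mv (s * h * s⁻¹) v) = hv q u v := by
  obtain ⟨c, hc⟩ := hs
  have e : ∀ x : κ → F, mv (s * h * s⁻¹) x = mv s (mv h (mv s⁻¹ x)) := by
    intro x
    unfold mv
    rw [Units.val_mul, Units.val_mul, ← Matrix.mulVec_mulVec, ← Matrix.mulVec_mulVec]
  have e2 : ∀ x : κ → F, mv s (mv s⁻¹ x) = x := by
    intro x
    unfold mv
    rw [Matrix.mulVec_mulVec, ← Units.val_mul, mul_inv_cancel, Units.val_one, Matrix.one_mulVec]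
  rw [e, e, hc, hh]
  have h3 := hc (mv s⁻¹ u) (mv s⁻¹ v)
  rw [e2, e2] at h3
  rw [← h3]

/-- T9 `H` is normal in `G ∩ Δ(V)` -/
theorem HU_conj_mem (hF : Fintype.card F = q ^ 2) (s h : GL (Idx t k) F) (hs : s ∈ Gstd t k F) (hsD : s ∈ DUV t k q F)
    (hh : h ∈ HU t k q F) : s * h * s⁻¹ ∈ HU t k q F := by
  obtain ⟨hhG, hhU, hhS⟩ := hh
  refine ⟨(Gstd t k F).mul_mem ((Gstd t k F).mul_mem hs hhG) ((Gstd t k F).inv_mem hs), ?_, ?_⟩
  · change s * h * s⁻¹ ∈ GUV t k q F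
    rw [mem_GUV]
    exact conj_preserving (mem_DUV.1 hsD) (mem_GUV.1 hhU)
  · change s * h * s⁻¹ ∈ Cfsg.Geo.specialLinear (Idx t k) F
    have hhS' : h ∈ Cfsg.Geo.specialLinear (Idx t k) F := hhS
    unfold Cfsg.Geo.specialLinear at hhS' ⊢
    rw [MonoidHom.mem_ker] at hhS' ⊢
    rw [map_mul, map_mul, hhS', mul_one, map_inv, mul_inv_cancel]

/-- T10 `Δ(A)` normalises `SU(A)` -/
theorem DUA_conj_mem (hF : Fintype.card F = q ^ 2) (α₁ α' : GL (Fin k) F) (hα₁ : α₁ ∈ DUA k q F) (hα' : α' ∈ GUA k q F)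
    (hdet : (α' : Matrix (Fin k) (Fin k) F).det = 1) :
    α₁ * α' * α₁⁻¹ ∈ GUA k q F ∧ ((α₁ * α' * α₁⁻¹ : GL (Fin k) F) : Matrix (Fin k) (Fin k) F).det = 1 := by
  constructor
  · have h1 : ∃ c : Fˣ, ∀ u v : Fin k → F, hv q (mv α₁ u) (mv α₁ v) = (c : F) * hv q u v := hα₁
    have h2 : ∀ u v : Fin k → F, hv q (mv α' u) (mv α' v) = hv q u v := hα'
    exact fun u v => conj_preserving h1 h2 u v
  · rw [Units.val_mul, Units.val_mul, Matrix.det_mul, Matrix.det_mul, hdet, mul_one, ← Matrix.det_mul,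
      ← Units.val_mul, mul_inv_cancel, Units.val_one, Matrix.det_one]

/-- T11 elements of `G ∩ Δ(V)` map isotropic fibres to isotropic fibres -/
theorem G_img_Wf (hF : Fintype.card F = q ^ 2) (hk : 2 ≤ k) (s : GL (Idx t k) F) (hs : s ∈ Gstd t k F)
    (hsD : s ∈ DUV t k q F) (i : Fin t) (z : Fin k → F) (hz0 : z ≠ 0) (hz : hv q z z = 0) :
    ∃ (j : Fin t) (z' : Fin k → F), z' ≠ 0 ∧ hv q z' z' = 0 ∧ img s (Wf i z) = Wf j z' := by
  obtain ⟨r', hr', hW, -, -⟩ := Cfsg.Agent.Lib.Helper23.TWULeaf.G_act_RU hF hk s hs hsD (urd q i z hz0 hz)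
    (urd_RU q i z hz0 hz)
  exact ⟨r'.i, r'.y, r'.hy, hr'.1, hW⟩

end Cfsg.Agent.Lib.Helper1.TWUIILeaf
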