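import Mathlib
import Cfsg.Agent.Lib.Helper20.UTDefs
import Cfsg.Agent.Lib.Helper5.UForm
import Cfsg.Agent.Lib.Helper23.UTG

/-!
# S5672 Stage I (helper5's market), packet UT8a–e: isotropic vectors for `hv q`

`exists_iso_in`, `exists_iso`, `exists_iso_perp`, `span_iso`, `exists_hyp_partner` with the exact signatures of
`notes/S5672_I_leaves.lean`.  Built on `Helper5.UForm` and `Helper23.UTG`.
-/

set_option autoImplicit false
set_option linter.unusedSectionVars false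
set_option linter.unusedVariables false

namespace Cfsg.Agent.Lib.Helper1.TWULeaf
open Matrix
open Cfsg.Agent.Lib.Helper20.UT (hv)

variable {F : Type*} [Field F] [Fintype F] {t k q : ℕ}

/-- UT8a: isotropic vectors exist in every subspace of dimension `≥ 2` (any finite index type) -/
theorem exists_iso_in {κ : Type} [Fintype κ] [DecidableEq κ] (hF : Fintype.card F = q ^ 2) (Y : Submodule F (κ → F))
    (hY : 2 ≤ Module.finrank F Y) : ∃ y ∈ Y, y ≠ 0 ∧ hv q y y = 0 := by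
  classical
  let e : κ ≃ Fin (Fintype.card κ) := Fintype.equivFin κ
  let L : (κ → F) ≃ₗ[F] (Fin (Fintype.card κ) → F) := LinearEquiv.funCongrLeft F F e.symm
  have hL : ∀ x y : κ → F, hv q (L x) (L y) = hv q x y := by
    intro x y
    simp only [hv]
    exact Equiv.sum_comp e.symm (fun j => x j * y j ^ q)
  have hfin : Module.finrank F (Y.map (L : (κ → F) →ₗ[F] (Fin (Fintype.card κ) → F))) = Module.finrank F Y :=
    LinearEquiv.finrank_map_eq L Y
  obtain ⟨y', hy'mem, hy'0, hy'⟩ := Cfsg.Agent.Lib.Helper23.UTLeaf.exists_iso_mem hF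
    (Y.map (L : (κ → F) →ₗ[F] (Fin (Fintype.card κ) → F))) (by omega)
  obtain ⟨y, hyY, rfl⟩ := hy'mem
  refine ⟨y, hyY, ?_, ?_⟩
  · rintro rfl
    exact hy'0 (map_zero _)
  · rw [← hL]
    exact hy'

/-- UT8b -/
theorem exists_iso (hF : Fintype.card F = q ^ 2) (hk : 2 ≤ k) : ∃ y : Fin k → F, y ≠ 0 ∧ hv q y y = 0 := by
  obtain ⟨y, -, hy0, hy⟩ := exists_iso_in hF (⊤ : Submodule F (Fin k → F))
    (by rw [finrank_top, Module.finrank_fin_fun]; exact hk)
  exact ⟨y, hy0, hy⟩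

/-- UT8c -/
theorem exists_iso_perp (hF : Fintype.card F = q ^ 2) (hk : 4 ≤ k) (z : Fin k → F) (hz0 : z ≠ 0) (hz : hv q z z = 0) :
    ∃ y : Fin k → F, y ≠ 0 ∧ hv q y y = 0 ∧ hv q y z = 0 ∧ ¬ ∃ a : F, y = a • z := by
  obtain ⟨y, hy0, hy, hzy, hne⟩ := Cfsg.Agent.Lib.Helper23.UTLeaf.exists_iso_perp_ne hF hk hz0 hz
  refine ⟨y, hy0, hy, Cfsg.Agent.Lib.Helper20.UT.hv_symm_zero hF hzy, ?_⟩
  rintro ⟨a, ha⟩
  exact hne a ha

/-- UT8e -/
theorem exists_hyp_partner (hF : Fintype.card F = q ^ 2) (y : Fin k → F) (hy0 : y ≠ 0) (hy : hv q y y = 0) :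
    ∃ y' : Fin k → F, hv q y' y' = 0 ∧ hv q y y' = 1 := by
  have hf := Cfsg.Agent.Lib.Helper20.UT.hv_unitary (n := k) hF
  obtain ⟨y', -, h1, h2⟩ := Cfsg.Agent.Lib.Helper5.UForm.exists_partner hf
    (Cfsg.Agent.Lib.Helper5.UForm.ND_top hf) (Submodule.mem_top (x := y)) hy0 hy
  exact ⟨y', h1, h2⟩

/-- UT8d: the isotropic vectors span -/
theorem span_iso (hF : Fintype.card F = q ^ 2) (hk : 2 ≤ k) :
    Submodule.span F {y : Fin k → F | hv q y y = 0} = ⊤ := by
  have hf := Cfsg.Agent.Lib.Helper20.UT.hv_unitary (n := k) hF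
  obtain ⟨e, -, e', -, hee, he'e', h1⟩ := Cfsg.Agent.Lib.Helper5.UForm.exists_hyp hf
    (Cfsg.Agent.Lib.Helper5.UForm.ND_top hf) (by rw [finrank_top, Module.finrank_fin_fun]; exact hk)
  have h1' : hv q e' e = 1 := by rw [hf.herm e' e, h1, map_one]
  rw [eq_top_iff]
  intro w _
  set S := Submodule.span F {y : Fin k → F | hv q y y = 0} with hS
  have heS : e ∈ S := Submodule.subset_span hee
  have he'S : e' ∈ S := Submodule.subset_span he'e'
  set w₀ : Fin k → F := w - (hv q w e') • e - (hv q w e) • e' with hw₀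
  have hw₀e : hv q w₀ e = 0 := by
    rw [hw₀, Cfsg.Agent.Lib.Helper5.UForm.u_sub_left hf, Cfsg.Agent.Lib.Helper5.UForm.u_sub_left hf,
      hf.smul_left, hf.smul_left, hee, h1']
    ring
  have hw₀e' : hv q w₀ e' = 0 := by
    rw [hw₀, Cfsg.Agent.Lib.Helper5.UForm.u_sub_left hf, Cfsg.Agent.Lib.Helper5.UForm.u_sub_left hf,
      hf.smul_left, hf.smul_left, he'e', h1]
    ring
  obtain ⟨l, hl⟩ := Cfsg.Agent.Lib.Helper5.UForm.tr_surj hf.involutive hf.ne_refl (-(hv q w₀ w₀))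
    (by rw [map_neg, Cfsg.Agent.Lib.Helper5.UForm.u_self_fixed hf])
  have huu : hv q (e + l • e') (e + l • e') = -(hv q w₀ w₀) := by
    rw [Cfsg.Agent.Lib.Helper5.UForm.u_expand hf, hee, he'e', h1, hf.herm e' e, h1, map_one]
    linear_combination hl
  have huw : hv q (e + l • e') w₀ = 0 := by
    rw [hf.add_left, hf.smul_left, Cfsg.Agent.Lib.Helper5.UForm.u_symm_zero hf hw₀e,
      Cfsg.Agent.Lib.Helper5.UForm.u_symm_zero hf hw₀e', mul_zero, add_zero]
  have hiso : hv q (w₀ + (e + l • e')) (w₀ + (e + l • e')) = 0 := by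
    have key : ∀ a b : Fin k → F, hv q (a + b) (a + b) = hv q a a + hv q a b + hv q b a + hv q b b := by
      intro a b
      rw [hf.add_left, Cfsg.Agent.Lib.Helper5.UForm.u_add_right hf a, Cfsg.Agent.Lib.Helper5.UForm.u_add_right hf b]
      ring
    rw [key, huw, Cfsg.Agent.Lib.Helper5.UForm.u_symm_zero hf huw, huu]
    ring
  have hw₀S : w₀ ∈ S := by
    have h3 : w₀ + (e + l • e') ∈ S := Submodule.subset_span hiso
    have h4 : w₀ = (w₀ + (e + l • e')) - e - l • e' := by abel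
    rw [h4]
    exact S.sub_mem (S.sub_mem h3 heS) (S.smul_mem _ he'S)
  have h5 : w = w₀ + (hv q w e') • e + (hv q w e) • e' := by
    rw [hw₀]; abel
  rw [h5]
  exact S.add_mem (S.add_mem hw₀S (S.smul_mem _ heS)) (S.smul_mem _ he'S)

end Cfsg.Agent.Lib.Helper1.TWULeaf
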