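import Mathlib
import Cfsg.Agent.Lib.Helper1.Baer
import Cfsg.Agent.Lib.Helper1.AutRankTwo

/-!
Thompson's strengthening of the `P × Q` lemma for odd primes (helper1 library), for abstract
actions `φ : A →* MulAut G`, via the Baer trick.
-/

set_option autoImplicit false
open scoped commutatorElement

namespace Cfsg.Agent.Lib.Helper1

universe u v

section action

variable {A : Type*} [Group A] {G : Type*} [Group G] [Finite G]

/-- restriction of an action by automorphisms to an invariant subgroup -/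
noncomputable def restrictHom (φ : A →* MulAut G) (H : Subgroup G)
    (hH : ∀ a : A, ∀ x ∈ H, φ a x ∈ H) : A →* MulAut H :=
  { toFun := fun a => restrictAut (φ a) H (hH a)
    map_one' := by
      ext x
      rw [restrictAut_apply, map_one]
      rfl
    map_mul' := by
      intro a b
      ext x
      rw [restrictAut_apply, map_mul]
      rfl }

theorem restrictHom_apply (φ : A →* MulAut G) (H : Subgroup G)
    (hH : ∀ a : A, ∀ x ∈ H, φ a x ∈ H) (a : A) (x : H) :
    ((restrictHom φ H hH a x : H) : G) = φ a x := rfl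

theorem exists_fixed_ne_one {p : ℕ} [hp : Fact p.Prime] (φ : A →* MulAut G) (P : Subgroup A)
    (hP : IsPGroup p P) (hG : IsPGroup p G) (H : Subgroup G)
    (hH : ∀ a : A, ∀ x ∈ H, φ a x ∈ H) (hne : H ≠ ⊥) :
    ∃ h ∈ H, h ≠ 1 ∧ ∀ a ∈ P, φ a h = h := by
  let ψ : P →* MulAut H := (restrictHom φ H hH).comp P.subtype
  let _ : MulAction P H := MulAction.compHom H ψ
  have hsmul : ∀ (a : P) (x : H), ((a • x : H) : G) = φ (a : A) x := fun a x => rfl
  have h1 := hP.card_modEq_card_fixedPoints H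
  obtain ⟨k, hk⟩ := (hG.to_subgroup H).exists_card_eq
  have hk0 : k ≠ 0 := by
    rintro rfl
    rw [pow_zero] at hk
    exact hne (Subgroup.card_eq_one.mp hk)
  have h2 : p ∣ Nat.card H := by rw [hk]; exact dvd_pow_self p hk0
  have h3 : p ∣ Nat.card (MulAction.fixedPoints P H) := by
    have := (Nat.modEq_zero_iff_dvd.mpr h2).symm.trans h1
    exact Nat.modEq_zero_iff_dvd.mp this.symm
  by_contra hcon
  push Not at hcon
  have hall : ∀ x ∈ MulAction.fixedPoints P H, x = 1 := by
    intro x hx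
    by_contra hx1
    have hx1' : (x : G) ≠ 1 := fun h => hx1 (Subtype.ext h)
    obtain ⟨a, ha, hax⟩ := hcon x x.2 hx1'
    apply hax
    have := hx ⟨a, ha⟩
    have h4 := congrArg (fun z : H => (z : G)) this
    simpa [hsmul] using h4
  have hsub : Subsingleton (MulAction.fixedPoints P H) :=
    ⟨fun a b => Subtype.ext (by rw [hall a a.2, hall b b.2])⟩
  have hle : Nat.card (MulAction.fixedPoints P H) ≤ 1 := Finite.card_le_one_iff_subsingleton.mpr hsub
  have hne' : Nonempty (MulAction.fixedPoints P H) := ⟨⟨1, by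
    intro a
    apply Subtype.ext
    rw [hsmul]
    simp⟩⟩
  have hpos : 0 < Nat.card (MulAction.fixedPoints P H) := Nat.card_pos
  have h5 : Nat.card (MulAction.fixedPoints P H) = 1 := by omega
  rw [h5] at h3
  exact hp.out.one_lt.ne' (Nat.dvd_one.mp h3)

end action

theorem thompson_PQ_abelian {p : ℕ} [hp : Fact p.Prime] {A : Type*} [Group A] [Finite A]
    {V : Type*} [CommGroup V] [Finite V] (hV : IsPGroup p V) (φ : A →* MulAut V)
    (P Q : Subgroup A) [hQn : Q.Normal] (hP : IsPGroup p P) (hQ : (Nat.card Q).Coprime p)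
    (hC : ∀ v : V, (∀ x ∈ P, φ x v = v) → ∀ y ∈ Q, φ y v = v) :
    ∀ y ∈ Q, ∀ v : V, φ y v = v := by
  classical
  set S : Finset A := (Set.toFinite (Q : Set A)).toFinset with hS
  have hSmem : ∀ a, a ∈ S ↔ a ∈ Q := by
    intro a
    rw [hS, Set.Finite.mem_toFinset]
    rfl
  have hScard : S.card = Nat.card Q := by
    rw [hS, ← Set.ncard_eq_toFinset_card (Q : Set A), ← Nat.card_coe_set_eq]
    rfl
  -- the norm map
  let ν : V → V := fun v => ∏ a ∈ S, φ a v
  have hνmul : ∀ u v, ν (u * v) = ν u * ν v := by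
    intro u v
    show (∏ a ∈ S, φ a (u * v)) = (∏ a ∈ S, φ a u) * ∏ a ∈ S, φ a v
    rw [← Finset.prod_mul_distrib]
    exact Finset.prod_congr rfl (fun a _ => map_mul _ _ _)
  have hνinv : ∀ u, ν u⁻¹ = (ν u)⁻¹ := by
    intro u
    show (∏ a ∈ S, φ a u⁻¹) = (∏ a ∈ S, φ a u)⁻¹
    rw [← Finset.prod_inv_distrib]
    exact Finset.prod_congr rfl (fun a _ => map_inv _ _)
  have hνone : ν 1 = 1 := by
    show (∏ a ∈ S, φ a 1) = 1
    exact Finset.prod_eq_one (fun a _ => map_one _)
  have hνshift : ∀ y ∈ Q, ∀ v, ν (φ y v) = ν v := by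
    intro y hy v
    show (∏ a ∈ S, φ a (φ y v)) = ∏ a ∈ S, φ a v
    refine Finset.prod_equiv (Equiv.mulRight y) ?_ ?_
    · intro a
      rw [hSmem, hSmem]
      simp only [Equiv.coe_mulRight]
      constructor
      · intro ha; exact Q.mul_mem ha hy
      · intro ha
        have := Q.mul_mem ha (Q.inv_mem hy)
        simpa using this
    · intro a _
      simp only [Equiv.coe_mulRight]
      rw [map_mul]
      rfl
  -- the commutator subgroup [V, Q]
  set V₁ : Subgroup V := Subgroup.closure {x : V | ∃ y ∈ Q, ∃ g : V, x = g⁻¹ * φ y g} with hV₁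
  have hV₁inv : ∀ a : A, ∀ x ∈ V₁, φ a x ∈ V₁ := by
    intro a x hx
    have h1 : V₁.map (φ a).toMonoidHom ≤ V₁ := by
      rw [hV₁, MonoidHom.map_closure, Subgroup.closure_le]
      rintro _ ⟨_, ⟨y, hy, g, rfl⟩, rfl⟩
      apply Subgroup.subset_closure
      refine ⟨a * y * a⁻¹, hQn.conj_mem y hy a, φ a g, ?_⟩
      simp only [MulEquiv.coe_toMonoidHom, map_mul, map_inv, MulAut.mul_apply]
      congr 1
      simp
    exact h1 ⟨x, hx, rfl⟩
  have hνV₁ : ∀ x ∈ V₁, ν x = 1 := by
    intro x hx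
    induction hx using Subgroup.closure_induction with
    | mem x hx =>
      obtain ⟨y, hy, g, rfl⟩ := hx
      rw [hνmul, hνinv, hνshift y hy, inv_mul_cancel]
    | one => exact hνone
    | mul x y _ _ hx hy => rw [hνmul, hx, hy, one_mul]
    | inv x _ hx => rw [hνinv, hx, inv_one]
  by_cases hbot : V₁ = ⊥
  · intro y hy v
    have h1 : v⁻¹ * φ y v ∈ V₁ := Subgroup.subset_closure ⟨y, hy, v, rfl⟩
    rw [hbot, Subgroup.mem_bot] at h1
    exact (inv_mul_eq_one.mp h1).symm
  · exfalso
    obtain ⟨h, hh, hh1, hfix⟩ := exists_fixed_ne_one φ P hP hV V₁ hV₁inv hbot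
    have hfixQ := hC h hfix
    apply hh1
    have h1 : ν h = h ^ S.card := by
      show (∏ a ∈ S, φ a h) = h ^ S.card
      rw [Finset.prod_congr rfl (fun a ha => hfixQ a ((hSmem a).mp ha)), Finset.prod_const]
    rw [hνV₁ h hh, hScard] at h1
    obtain ⟨k, hk⟩ := hV h
    have h2 : orderOf h ∣ Nat.card Q := orderOf_dvd_of_pow_eq_one h1.symm
    have h3 : orderOf h ∣ p ^ k := orderOf_dvd_of_pow_eq_one hk
    have h4 : orderOf h = 1 := Nat.eq_one_of_dvd_coprimes (Nat.Coprime.pow_right k hQ) h2 h3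
    exact orderOf_eq_one_iff.mp h4

instance Baer.instFinite {p : ℕ} {G : Type*} [Finite G] : Finite (Baer p G) := ‹Finite G›

theorem thompson_PQ_baer {p : ℕ} [hp : Fact p.Prime] {A : Type*} [Group A] [Finite A]
    {G : Type*} [Group G] [Finite G] [BaerHyp p G] (hG : IsPGroup p G) (φ : A →* MulAut G)
    (P Q : Subgroup A) [hQn : Q.Normal] (hP : IsPGroup p P) (hQ : (Nat.card Q).Coprime p)
    (hC : ∀ g : G, (∀ x ∈ P, φ x g = g) → ∀ y ∈ Q, φ y g = g) :
    ∀ y ∈ Q, ∀ g : G, φ y g = g := by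
  have hV : IsPGroup p (Baer p G) := by
    obtain ⟨n, hn⟩ := hG.exists_card_eq
    exact IsPGroup.of_card (n := n) hn
  have := thompson_PQ_abelian hV (Baer.autHom φ) P Q hP hQ (fun v hv y hy => hC (Baer.out v) hv y hy)
  exact fun y hy g => this y hy (Baer.mk g)

/-- Thompson's strengthening of the `P × Q` lemma for odd `p`, for an action by automorphisms. -/
theorem thompson_PQ_action {p : ℕ} [hp : Fact p.Prime] (hp2 : p ≠ 2) {A : Type v} [Group A]
    [Finite A] (P Q : Subgroup A) [hQn : Q.Normal] (hP : IsPGroup p P)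
    (hQ : (Nat.card Q).Coprime p) :
    ∀ (n : ℕ) (G : Type u) [Group G] [Finite G], Nat.card G = n → IsPGroup p G →
      ∀ φ : A →* MulAut G, (∀ g : G, (∀ x ∈ P, φ x g = g) → ∀ y ∈ Q, φ y g = g) →
        ∀ y ∈ Q, ∀ g : G, φ y g = g := by
  intro n
  induction n using Nat.strong_induction_on with
  | _ n ih =>
  intro G _ _ hn hG φ hC
  by_contra hne
  push Not at hne
  obtain ⟨y₀, hy₀, g₀, hg₀⟩ := hne
  have hp2lt : 2 < p := lt_of_le_of_ne hp.out.two_le (Ne.symm hp2)
  -- proper invariant subgroups are centralized by Q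
  have hres : ∀ H : Subgroup G, H ≠ ⊤ → (∀ a : A, ∀ x ∈ H, φ a x ∈ H) →
      ∀ y ∈ Q, ∀ x ∈ H, φ y x = x := by
    intro H hH hinv y hy x hx
    have hlt : Nat.card H < n := by
      rw [← hn]
      exact lt_of_le_of_ne (Subgroup.card_le_card_group H)
        (fun h => hH ((Subgroup.card_eq_iff_eq_top H).mp h))
    have h1 := ih (Nat.card H) hlt H rfl (hG.to_subgroup H) (restrictHom φ H hinv) (by
      intro g hg z hz
      apply Subtype.ext
      rw [restrictHom_apply]
      apply hC (g : G) _ z hz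
      intro w hw
      have := hg w hw
      have h2 := congrArg (fun t : H => (t : G)) this
      simpa [restrictHom_apply] using h2) y hy ⟨x, hx⟩
    have h2 := congrArg (fun t : H => (t : G)) h1
    simpa [restrictHom_apply] using h2
  have hpel : ∀ x : G, x ^ (Nat.card Q) = 1 → x = 1 := by
    intro x hx
    obtain ⟨k, hk⟩ := hG x
    have h1 : orderOf x ∣ Nat.card Q := orderOf_dvd_of_pow_eq_one hx
    have h2 : orderOf x ∣ p ^ k := orderOf_dvd_of_pow_eq_one hk
    have h3 : orderOf x = 1 := Nat.eq_one_of_dvd_coprimes (Nat.Coprime.pow_right k hQ) h1 h2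
    exact orderOf_eq_one_iff.mp h3
  have hchain : ∀ N : Subgroup G, (∀ y ∈ Q, ∀ x ∈ N, φ y x = x) →
      (∀ y ∈ Q, ∀ g, g⁻¹ * φ y g ∈ N) → False := by
    intro N hN hx
    apply hg₀
    have key : ∀ k : ℕ, (φ y₀ ^ k) g₀ = g₀ * (g₀⁻¹ * φ y₀ g₀) ^ k := by
      intro k
      induction k with
      | zero => simp
      | succ k ihk =>
        have e : g₀ * (g₀⁻¹ * φ y₀ g₀) = φ y₀ g₀ := mul_inv_cancel_left g₀ (φ y₀ g₀)
        rw [pow_succ', MulAut.mul_apply, ihk, map_mul, map_pow, hN y₀ hy₀ _ (hx y₀ hy₀ g₀),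
          pow_succ', ← mul_assoc g₀ (g₀⁻¹ * φ y₀ g₀) _, e]
    have h1 := key (Nat.card Q)
    have h2 : φ y₀ ^ (Nat.card Q) = 1 := by
      rw [← map_pow]
      have h3 : (⟨y₀, hy₀⟩ : Q) ^ (Nat.card Q) = 1 := pow_card_eq_one'
      have h4 : y₀ ^ (Nat.card Q) = 1 := by
        have h5 : ((⟨y₀, hy₀⟩ : Q) : A) ^ (Nat.card Q) = ((1 : Q) : A) := by
          rw [← Subgroup.coe_pow, h3]
        exact h5
      rw [h4, map_one]
    rw [h2] at h1
    have h3 : (g₀⁻¹ * φ y₀ g₀) ^ (Nat.card Q) = 1 := by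
      have h4 : g₀ = g₀ * (g₀⁻¹ * φ y₀ g₀) ^ (Nat.card Q) := by simpa using h1
      have h5 : g₀ * (g₀⁻¹ * φ y₀ g₀) ^ (Nat.card Q) = g₀ * 1 := by rw [mul_one]; exact h4.symm
      exact mul_left_cancel h5
    have h4 := hpel _ h3
    exact (inv_mul_eq_one.mp h4).symm
  -- the subgroup [G, Q]
  set K : Subgroup G := Subgroup.closure {x : G | ∃ y ∈ Q, ∃ g : G, x = g⁻¹ * φ y g} with hK
  have hKinv : ∀ a : A, ∀ x ∈ K, φ a x ∈ K := by
    intro a x hx
    have h1 : K.map (φ a).toMonoidHom ≤ K := by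
      rw [hK, MonoidHom.map_closure, Subgroup.closure_le]
      rintro _ ⟨_, ⟨y, hy, g, rfl⟩, rfl⟩
      apply Subgroup.subset_closure
      refine ⟨a * y * a⁻¹, hQn.conj_mem y hy a, φ a g, ?_⟩
      simp only [MulEquiv.coe_toMonoidHom, map_mul, map_inv, MulAut.mul_apply]
      congr 1
      simp
    exact h1 ⟨x, hx, rfl⟩
  have hKtop : K = ⊤ := by
    by_contra hK'
    exact hchain K (hres K hK' hKinv) (fun y hy g => Subgroup.subset_closure ⟨y, hy, g, rfl⟩)
  have hcent : ∀ N : Subgroup G, N.Normal → N ≠ ⊤ → (∀ a : A, ∀ x ∈ N, φ a x ∈ N) →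
      N ≤ Subgroup.center G := by
    intro N hNn hNt hNinv c hc
    have hfix := hres N hNt hNinv
    have h1 : K ≤ Subgroup.centralizer {c} := by
      rw [hK, Subgroup.closure_le]
      rintro _ ⟨y, hy, x, rfl⟩
      rw [SetLike.mem_coe, Subgroup.mem_centralizer_singleton_iff]
      have h1 : φ y (x * c * x⁻¹) = x * c * x⁻¹ := hfix y hy _ (hNn.conj_mem c hc x)
      rw [map_mul, map_mul, map_inv, hfix y hy c hc] at h1
      calc x⁻¹ * φ y x * c = x⁻¹ * (φ y x * c * (φ y x)⁻¹) * φ y x := by group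
        _ = x⁻¹ * (x * c * x⁻¹) * φ y x := by rw [h1]
        _ = c * (x⁻¹ * φ y x) := by group
    rw [hKtop] at h1
    rw [Subgroup.mem_center_iff]
    intro g
    have h2 := h1 (Subgroup.mem_top g)
    rw [Subgroup.mem_centralizer_singleton_iff] at h2
    exact h2
  haveI : Nontrivial G := by
    by_contra h
    rw [not_nontrivial_iff_subsingleton] at h
    exact hg₀ (Subsingleton.elim _ _)
  haveI : Group.IsNilpotent G := hG.isNilpotent
  have hcomm_ne : commutator G ≠ ⊤ := ne_of_lt (IsSolvable.commutator_lt_top_of_nontrivial G)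
  have hcomm : commutator G ≤ Subgroup.center G :=
    hcent (commutator G) inferInstance hcomm_ne (fun a => char_invariant _ (φ a))
  have hfrat_ne : frattini G ≠ ⊤ := by
    intro h
    have h1 := frattini_nongenerating (G := G) (K := ⊥) (by rw [h]; simp)
    exact bot_ne_top h1
  have hfrat : frattini G ≤ Subgroup.center G :=
    hcent _ inferInstance hfrat_ne (fun a => char_invariant _ (φ a))
  have hfratfix := hres (frattini G) hfrat_ne (fun a => char_invariant _ (φ a))
  have hpowc : ∀ x : G, x ^ p ∈ Subgroup.center G := fun x =>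
    hfrat (Helper16.pow_mem_frattini hG x)
  have hpowfix : ∀ y ∈ Q, ∀ x : G, φ y (x ^ p) = x ^ p := fun y hy x =>
    hfratfix y hy _ (Helper16.pow_mem_frattini hG x)
  have hcommc : ∀ x y : G, ⁅x, y⁆ ∈ Subgroup.center G := fun x y =>
    hcomm (Subgroup.commutator_mem_commutator (Subgroup.mem_top x) (Subgroup.mem_top y))
  have hpowmul : ∀ a b : G, (a * b) ^ p = a ^ p * b ^ p := by
    intro a b
    rw [Helper23.mul_pow_of_central_commutator a b (hcommc b a) p]
    have h1 : ⁅b, a⁆ ^ p = 1 := by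
      rw [← Helper23.commutatorElement_pow_left_of_central b a (hcommc b a) p]
      rw [commutatorElement_eq_one_iff_commute]
      exact (Subgroup.mem_center_iff.mp (hpowc b) a).symm
    have h2 : p ∣ p.choose 2 := hp.out.dvd_choose_self (by norm_num) hp2lt
    obtain ⟨m, hm⟩ := h2
    rw [hm, pow_mul, h1, one_pow, mul_one]
  have hexp : ∀ x : G, x ^ p = 1 := by
    let Ω : Subgroup G :=
      { carrier := {x | x ^ p = 1}
        one_mem' := one_pow p
        mul_mem' := by
          intro a b ha hb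
          simp only [Set.mem_setOf_eq] at *
          rw [hpowmul, ha, hb, one_mul]
        inv_mem' := by
          intro a ha
          simp only [Set.mem_setOf_eq] at *
          rw [inv_pow, ha, inv_one] }
    have h1 : K ≤ Ω := by
      rw [hK, Subgroup.closure_le]
      rintro _ ⟨y, hy, x, rfl⟩
      show (x⁻¹ * φ y x) ^ p = 1
      rw [hpowmul, inv_pow, ← map_pow, hpowfix y hy, inv_mul_cancel]
    intro x
    have h2 : x ∈ K := hKtop ▸ Subgroup.mem_top x
    exact h1 h2
  have hhalf : 2 * ((p + 1) / 2) = p + 1 := by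
    rcases hp.out.eq_two_or_odd with h | h
    · exact absurd h hp2
    · omega
  haveI : BaerHyp p G := ⟨hhalf, hcommc, hexp⟩
  exact hg₀ (thompson_PQ_baer hG φ P Q hP hQ hC y₀ hy₀ g₀)

/-- Thompson's strengthening of the `P × Q` lemma for odd `p`, for subgroups of a finite group. -/
theorem thompson_PQ {X : Type u} [Group X] [Finite X] {p : ℕ} [Fact p.Prime] (hp : p ≠ 2)
    (P Q G : Subgroup X) (hP : IsPGroup p P) (hQ : (Nat.card Q).Coprime p)
    (hPQ : P ≤ Subgroup.normalizer (Q : Set X)) (hG : IsPGroup p G)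
    (hPG : P ≤ Subgroup.normalizer (G : Set X)) (hQG : Q ≤ Subgroup.normalizer (G : Set X))
    (hC : G ⊓ Subgroup.centralizer (P : Set X) ≤ Subgroup.centralizer (Q : Set X)) :
    Q ≤ Subgroup.centralizer (G : Set X) := by
  set M : Subgroup X := Subgroup.normalizer (Q : Set X) ⊓ Subgroup.normalizer (G : Set X) with hM
  have hPM : P ≤ M := le_inf hPQ hPG
  have hQM : Q ≤ M := le_inf Subgroup.le_normalizer hQG
  have hinv : ∀ a : M, ∀ x ∈ G, ((MulAut.conj).comp M.subtype) a x ∈ G := by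
    intro a x hx
    show MulAut.conj (a : X) x ∈ G
    rw [MulAut.conj_apply]
    exact (Subgroup.mem_normalizer_iff.mp a.2.2 x).mp hx
  set φ : M →* MulAut G := restrictHom ((MulAut.conj).comp M.subtype) G hinv with hφ
  have hφ_apply : ∀ (a : M) (g : G), ((φ a g : G) : X) = (a : X) * g * (a : X)⁻¹ := by
    intro a g
    rw [hφ, restrictHom_apply]
    rfl
  haveI hQn : (Q.subgroupOf M).Normal := by
    refine ⟨fun y hy a => ?_⟩
    rw [Subgroup.mem_subgroupOf] at hy ⊢
    have := (Subgroup.mem_normalizer_iff.mp a.2.1 (y : X)).mp hy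
    simpa using this
  have hP' : IsPGroup p (P.subgroupOf M) := hP.comap_subtype
  have hQ' : (Nat.card (Q.subgroupOf M)).Coprime p := by
    rw [Nat.card_congr (Subgroup.subgroupOfEquivOfLe hQM).toEquiv]
    exact hQ
  have hC' : ∀ g : G, (∀ x ∈ P.subgroupOf M, φ x g = g) → ∀ y ∈ Q.subgroupOf M, φ y g = g := by
    intro g hg y hy
    have hgP : (g : X) ∈ Subgroup.centralizer (P : Set X) := by
      rw [Subgroup.mem_centralizer_iff]
      intro x hx
      have h1 := hg ⟨x, hPM hx⟩ (by rw [Subgroup.mem_subgroupOf]; exact hx)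
      have h2 := congrArg (fun t : G => (t : X)) h1
      simp only [hφ_apply] at h2
      calc x * (g : X) = (x * (g : X) * x⁻¹) * x := by group
        _ = (g : X) * x := by rw [h2]
    have hgQ := hC ⟨g.2, hgP⟩
    rw [Subgroup.mem_centralizer_iff] at hgQ
    rw [Subgroup.mem_subgroupOf] at hy
    have h3 := hgQ (y : X) hy
    apply Subtype.ext
    rw [hφ_apply, h3]
    group
  have key := thompson_PQ_action hp (P.subgroupOf M) (Q.subgroupOf M) hP' hQ' (Nat.card G) G rfl hG
    φ hC'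
  intro y hy
  rw [Subgroup.mem_centralizer_iff]
  intro g hg
  have h1 := key ⟨y, hQM hy⟩ (by rw [Subgroup.mem_subgroupOf]; exact hy) ⟨g, hg⟩
  have h2 := congrArg (fun t : G => (t : X)) h1
  simp only [hφ_apply] at h2
  calc g * y = (y * g * y⁻¹) * y := by rw [h2]
    _ = y * g := by group

end Cfsg.Agent.Lib.Helper1
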