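import Mathlib
import Cfsg.Prelude.Def_ConjugacyFunctors
import Cfsg.Prelude.Def_PLocal
import Cfsg.Agent.Lib.Helper12.TransferSections
import Cfsg.Agent.Lib.Helper4.QuotPPrime
import Cfsg.Agent.Lib.Helper9.PComponent

/-!
helper1: pulling back a factorization `X̄ = C(Ω₁Z(S̄)) N(W(S̄))` from the characteristic-`p` quotient
`X ⧸ O_{p'}(X)` (for S1997, Glauberman's triple factorization theorem).
-/

set_option autoImplicit false
open Subgroup

namespace Cfsg.Agent.Lib.Helper1.TriFac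

universe u

variable {p : ℕ} [Fact p.Prime]

/-- if `P ⊴ X` is a `p`-subgroup of the Sylow subgroup `S` with `C_S(P) ≤ P`, and `D` is `O_{p'}(X)`, then
`X ⧸ D` has characteristic `p`. -/
theorem charp_quotient {X : Type u} [Group X] [Finite X] (S : Sylow p X) (P : Subgroup X) [hPn : P.Normal]
    (hPS : P ≤ (S : Subgroup X)) (hCS : (S : Subgroup X) ⊓ centralizer (P : Set X) ≤ P)
    (D : Subgroup X) [hDn : D.Normal] (hD : D = Cfsg.pPrimeCore p X) :
    centralizer ((Cfsg.pCore p (X ⧸ D) : Subgroup (X ⧸ D)) : Set (X ⧸ D)) ≤ Cfsg.pCore p (X ⧸ D) := by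
  subst hD
  set D := Cfsg.pPrimeCore p X with hDdef
  have hDcop : (Nat.card D).Coprime p := Cfsg.Agent.Lib.Helper12.pPrimeCore_coprime p
  set π := QuotientGroup.mk' D with hπ
  have hbot : Cfsg.pPrimeCore p (X ⧸ D) = ⊥ := Cfsg.Agent.Lib.Helper9.pPrimeCore_quotient_eq_bot p
  have hPp : IsPGroup p P := S.2.to_le hPS
  have hPbar : P.map π ≤ Cfsg.pCore p (X ⧸ D) :=
    Cfsg.Agent.Lib.Helper12.le_pCore' p _ (Subgroup.Normal.map hPn π (QuotientGroup.mk'_surjective D))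
      (hPp.map π)
  let Sbar : Sylow p (X ⧸ D) := S.mapSurjective (QuotientGroup.mk'_surjective D)
  have hSbar : (Sbar : Subgroup (X ⧸ D)) = (S : Subgroup X).map π := Sylow.coe_mapSurjective _ _
  apply Cfsg.Agent.Lib.Helper12.centralizer_pCore_le_of_sylow_inf Sbar hbot
  intro y hy
  obtain ⟨hyS, hyC⟩ := Subgroup.mem_inf.mp hy
  rw [hSbar] at hyS
  obtain ⟨s, hs, rfl⟩ := hyS
  apply hPbar
  refine ⟨s, hCS (Subgroup.mem_inf.mpr ⟨hs, ?_⟩), rfl⟩
  rw [Subgroup.mem_centralizer_iff]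
  intro y hy
  have h1 := (Subgroup.mem_centralizer_iff.mp hyC) (π y) (hPbar ⟨y, hy, rfl⟩)
  rw [← map_mul, ← map_mul] at h1
  -- `y * s` and `s * y` are congruent mod `D` and differ by an element of `P`
  have h2 : (s * y)⁻¹ * (y * s) ∈ D := by
    have := QuotientGroup.eq.mp h1.symm
    simpa using this
  have h3 : (s * y)⁻¹ * (y * s) ∈ P := by
    have e : (s * y)⁻¹ * (y * s) = y⁻¹ * (s⁻¹ * y * s⁻¹⁻¹) := by group
    rw [e]
    exact P.mul_mem (P.inv_mem hy) (hPn.conj_mem y hy s⁻¹)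
  have h4 := Cfsg.Agent.Lib.Helper4.eq_one_of_mem_pgroup_of_mem_pprime D hDcop P hPp h3 h2
  calc y * s = (s * y) * ((s * y)⁻¹ * (y * s)) := by group
    _ = s * y := by rw [h4, mul_one]

/-- pulling back the factorization `X̄ = C(Ω₁Z(S̄)) N(W(S̄))` along the quotient by a normal `p'`-subgroup `D`
centralizing `Ω₁Z(S)` -/
theorem pullback_fac {X : Type u} [Group X] [Finite X] (W : ∀ (Q : Type u) [Group Q], Subgroup Q)
    (hW : Cfsg.IsCharPFunctor.{u} p W) (S : Sylow p X)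
    (D : Subgroup X) [hDn : D.Normal] (hDcop : (Nat.card D).Coprime p)
    (hDZ : D ≤ centralizer ((Cfsg.omegaOne p ((S : Subgroup X) ⊓
      centralizer ((S : Subgroup X) : Set X)) : Subgroup X) : Set X))
    (T : Sylow p (X ⧸ D)) (hT : (T : Subgroup (X ⧸ D)) = (S : Subgroup X).map (QuotientGroup.mk' D))
    (hfac : ∀ x : X ⧸ D, ∃ a ∈ centralizer ((Cfsg.omegaOne p ((T : Subgroup (X ⧸ D)) ⊓
        centralizer ((T : Subgroup (X ⧸ D)) : Set (X ⧸ D))) : Subgroup (X ⧸ D)) : Set (X ⧸ D)),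
      ∃ b ∈ normalizer ((Cfsg.inducedFunctor (G := X ⧸ D) W (T : Subgroup (X ⧸ D)) :
        Subgroup (X ⧸ D)) : Set (X ⧸ D)), x = a * b) :
    ∀ x : X, ∃ n ∈ normalizer ((Cfsg.inducedFunctor (G := X) W (S : Subgroup X) : Subgroup X) : Set X),
      ∃ c ∈ centralizer ((Cfsg.omegaOne p ((S : Subgroup X) ⊓
        centralizer ((S : Subgroup X) : Set X)) : Subgroup X) : Set X), x = n * c := by
  set π := QuotientGroup.mk' D with hπ
  set Z := Cfsg.omegaOne p ((S : Subgroup X) ⊓ centralizer ((S : Subgroup X) : Set X)) with hZ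
  set U := Cfsg.inducedFunctor (G := X) W (S : Subgroup X) with hU
  have hZS : Z ≤ (S : Subgroup X) := by
    rw [hZ]
    unfold Cfsg.omegaOne
    rw [Subgroup.closure_le]
    intro x hx
    exact (Subgroup.mem_inf.mp hx.1).1
  have hZp : IsPGroup p Z := S.2.to_le hZS
  have hUS : U ≤ (S : Subgroup X) :=
    (Cfsg.Agent.Lib.Helper12.isConjugacyFunctor_induced W hW X (S : Subgroup X) S.2).1
  have hUp : IsPGroup p U := S.2.to_le hUS
  have hinj : Set.InjOn π ((S : Subgroup X) : Set X) := by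
    intro a ha b hb hab
    exact Cfsg.Agent.Lib.Helper4.mk'_injOn_pgroup D hDcop (S : Subgroup X) S.2 ha hb hab
  have e1 : Cfsg.omegaOne p ((T : Subgroup (X ⧸ D)) ⊓
      centralizer ((T : Subgroup (X ⧸ D)) : Set (X ⧸ D))) = Z.map π := by
    rw [hT, ← Cfsg.Agent.Lib.Helper4.center_map_mk' D hDcop (S : Subgroup X) S.2,
      ← Cfsg.Agent.Lib.Helper4.omegaOne_map_mk' D hDcop (S : Subgroup X) S.2 inf_le_left]
  have e2 : Cfsg.inducedFunctor (G := X ⧸ D) W (T : Subgroup (X ⧸ D)) = U.map π := by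
    rw [hT]
    exact Cfsg.Agent.Lib.Helper12.inducedFunctor_map_of_injOn_set W hW π (S : Subgroup X) S.2 hinj
  have e3 : centralizer ((Z.map π : Subgroup (X ⧸ D)) : Set (X ⧸ D)) = (centralizer (Z : Set X)).map π :=
    Cfsg.Agent.Lib.Helper4.centralizer_map_mk'_eq_of_coprime D hDcop Z hZp
  have e4 : normalizer ((U.map π : Subgroup (X ⧸ D)) : Set (X ⧸ D)) = (normalizer (U : Set X)).map π :=
    Cfsg.Agent.Lib.Helper9.normalizer_map_mk'_eq_of_coprime D hDcop hUp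
  intro x
  obtain ⟨a, ha, b, hb, hab⟩ := hfac (π x)⁻¹
  rw [e1, e3] at ha
  rw [e2, e4] at hb
  obtain ⟨c, hc, rfl⟩ := ha
  obtain ⟨n, hn, rfl⟩ := hb
  have h1 : π x = π (n⁻¹ * c⁻¹) := by
    rw [map_mul, map_inv, map_inv, ← mul_inv_rev, ← hab, inv_inv]
  have h2 : (n⁻¹ * c⁻¹)⁻¹ * x ∈ D := QuotientGroup.eq.mp h1.symm
  refine ⟨n⁻¹, inv_mem hn, c⁻¹ * ((n⁻¹ * c⁻¹)⁻¹ * x), mul_mem (inv_mem hc) (hDZ h2), ?_⟩
  group

end Cfsg.Agent.Lib.Helper1.TriFac
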