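import Mathlib
import Cfsg.Prelude.Def_ConjugacyFunctors
import Cfsg.Prelude.Def_PLocal
import Cfsg.Agent.Lib.Helper1.TriFacA
import Cfsg.Agent.Lib.Helper12.PPrimeP

/-!
helper1: the subgroup `⟨Z^M⟩` generated by the `M`-conjugates of `Z`, and the internal form of the
pullback lemma (for S1997, Glauberman's triple factorization theorem).
-/

set_option autoImplicit false
open Subgroup

namespace Cfsg.Agent.Lib.Helper1.TriFac

universe u

section cl
variable {G : Type*} [Group G]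

/-- the subgroup generated by the `M`-conjugates of `Z` -/
def cl (Z M : Subgroup G) : Subgroup G :=
  Subgroup.closure {x : G | ∃ m ∈ M, ∃ z ∈ Z, x = m * z * m⁻¹}

theorem cl_mono (Z : Subgroup G) {M M' : Subgroup G} (h : M ≤ M') : cl Z M ≤ cl Z M' := by
  apply Subgroup.closure_mono
  rintro x ⟨m, hm, z, hz, rfl⟩
  exact ⟨m, h hm, z, hz, rfl⟩

theorem le_cl (Z M : Subgroup G) : Z ≤ cl Z M := by
  intro z hz
  apply Subgroup.subset_closure
  exact ⟨1, one_mem M, z, hz, by simp⟩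

theorem conj_mem_cl {Z M : Subgroup G} {m z : G} (hm : m ∈ M) (hz : z ∈ Z) : m * z * m⁻¹ ∈ cl Z M :=
  Subgroup.subset_closure ⟨m, hm, z, hz, rfl⟩

theorem cl_le {Z M Y : Subgroup G} (hZ : Z ≤ Y) (hM : M ≤ normalizer (Y : Set G)) : cl Z M ≤ Y := by
  unfold cl
  rw [Subgroup.closure_le]
  rintro x ⟨m, hm, z, hz, rfl⟩
  exact (Subgroup.mem_normalizer_iff.mp (hM hm) z).mp (hZ hz)

theorem le_normalizer_cl (Z M : Subgroup G) : M ≤ normalizer ((cl Z M : Subgroup G) : Set G) := by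
  have key : ∀ m ∈ M, ∀ x ∈ cl Z M, m * x * m⁻¹ ∈ cl Z M := by
    intro m hm x hx
    unfold cl at hx
    induction hx using Subgroup.closure_induction with
    | mem x hx =>
      obtain ⟨m', hm', z, hz, rfl⟩ := hx
      have e : m * (m' * z * m'⁻¹) * m⁻¹ = (m * m') * z * (m * m')⁻¹ := by group
      rw [e]
      exact conj_mem_cl (M.mul_mem hm hm') hz
    | one => simp
    | mul x y _ _ hx hy =>
      have e : m * (x * y) * m⁻¹ = (m * x * m⁻¹) * (m * y * m⁻¹) := by group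
      rw [e]
      exact mul_mem hx hy
    | inv x _ hx =>
      have e : m * x⁻¹ * m⁻¹ = (m * x * m⁻¹)⁻¹ := by group
      rw [e]
      exact inv_mem hx
  intro m hm
  rw [Subgroup.mem_normalizer_iff]
  intro x
  constructor
  · exact key m hm x
  · intro hx
    have := key m⁻¹ (M.inv_mem hm) _ hx
    have e : m⁻¹ * (m * x * m⁻¹) * m⁻¹⁻¹ = x := by group
    rwa [e] at this

/-- if `M = M₀ C_M(Z)` then `⟨Z^M⟩ = ⟨Z^{M₀}⟩` -/
theorem cl_le_of_fac {Z M M₀ : Subgroup G}
    (h : ∀ m ∈ M, ∃ n ∈ M₀, ∃ c ∈ centralizer (Z : Set G), m = n * c) : cl Z M ≤ cl Z M₀ := by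
  unfold cl
  rw [Subgroup.closure_le]
  rintro x ⟨m, hm, z, hz, rfl⟩
  obtain ⟨n, hn, c, hc, rfl⟩ := h m hm
  have h1 : c * z = z * c := ((Subgroup.mem_centralizer_iff.mp hc) z hz).symm
  have e : n * c * z * (n * c)⁻¹ = n * z * n⁻¹ := by
    calc n * c * z * (n * c)⁻¹ = n * (c * z) * c⁻¹ * n⁻¹ := by group
      _ = n * (z * c) * c⁻¹ * n⁻¹ := by rw [h1]
      _ = n * z * n⁻¹ := by group
  rw [e]
  exact conj_mem_cl hn hz

/-- the normal closure of `Z` in `N`, viewed in `G` -/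
theorem map_normalClosure_eq_cl {Z N : Subgroup G} (hZN : Z ≤ N) :
    (Subgroup.normalClosure ((Z.subgroupOf N : Subgroup ↥N) : Set ↥N)).map N.subtype = cl Z N := by
  unfold Subgroup.normalClosure cl
  rw [MonoidHom.map_closure]
  congr 1
  ext x
  constructor
  · rintro ⟨y, hy, rfl⟩
    rw [Group.mem_conjugatesOfSet_iff] at hy
    obtain ⟨a, ha, hay⟩ := hy
    rw [isConj_iff] at hay
    obtain ⟨c, rfl⟩ := hay
    refine ⟨(c : G), c.2, (a : G), ?_, ?_⟩
    · exact Subgroup.mem_subgroupOf.mp ha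
    · simp
  · rintro ⟨m, hm, z, hz, rfl⟩
    refine ⟨(⟨m, hm⟩ : N) * ⟨z, hZN hz⟩ * (⟨m, hm⟩ : N)⁻¹, ?_, by simp⟩
    rw [Group.mem_conjugatesOfSet_iff]
    refine ⟨⟨z, hZN hz⟩, ?_, ?_⟩
    · show (⟨z, hZN hz⟩ : N) ∈ Z.subgroupOf N
      rw [Subgroup.mem_subgroupOf]
      exact hz
    · rw [isConj_iff]
      exact ⟨⟨m, hm⟩, rfl⟩

end cl

section pb
variable {G : Type u} [Group G] [Finite G] {p : ℕ} [Fact p.Prime]

/-- the factorization hypothesis `G* = C(Ω₁Z(S*)) N(W(S*))` in the sections of characteristic `p` -/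
def FacHyp (p : ℕ) (W : ∀ (Q : Type u) [Group Q], Subgroup Q) (G : Type u) [Group G] : Prop :=
  ∀ (K R : Subgroup G) [hR : (R.subgroupOf K).Normal],
    centralizer ((Cfsg.pCore p (↥K ⧸ R.subgroupOf K) : Subgroup (↥K ⧸ R.subgroupOf K)) :
      Set (↥K ⧸ R.subgroupOf K)) ≤ Cfsg.pCore p (↥K ⧸ R.subgroupOf K) →
    ∀ T : Sylow p (↥K ⧸ R.subgroupOf K), ∀ x : (↥K ⧸ R.subgroupOf K),
      ∃ a ∈ centralizer ((Cfsg.omegaOne p ((T : Subgroup (↥K ⧸ R.subgroupOf K)) ⊓
        centralizer ((T : Subgroup (↥K ⧸ R.subgroupOf K)) : Set (↥K ⧸ R.subgroupOf K))) :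
          Subgroup (↥K ⧸ R.subgroupOf K)) : Set (↥K ⧸ R.subgroupOf K)),
      ∃ b ∈ normalizer ((Cfsg.inducedFunctor (G := (↥K ⧸ R.subgroupOf K)) W
        (T : Subgroup (↥K ⧸ R.subgroupOf K)) : Subgroup (↥K ⧸ R.subgroupOf K)) :
          Set (↥K ⧸ R.subgroupOf K)), x = a * b

/-- internal pullback: if `S ≤ H`, `P ≤ S` is normal in `H` and `C_S(P) ≤ P`, then
`H = N_H(W(S)) C_H(Ω₁Z(S))` -/
theorem pb_internal (W : ∀ (Q : Type u) [Group Q], Subgroup Q) (hW : Cfsg.IsCharPFunctor.{u} p W)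
    (hfac : FacHyp p W G) (S : Sylow p G) (H : Subgroup G) (hSH : (S : Subgroup G) ≤ H)
    (P : Subgroup G) (hPS : P ≤ (S : Subgroup G)) (hHP : H ≤ normalizer (P : Set G))
    (hCS : (S : Subgroup G) ⊓ centralizer (P : Set G) ≤ P) :
    ∀ h ∈ H, ∃ n ∈ H ⊓ normalizer ((Cfsg.inducedFunctor (G := G) W (S : Subgroup G) : Subgroup G) : Set G),
      ∃ c ∈ centralizer ((Cfsg.omegaOne p ((S : Subgroup G) ⊓
        centralizer ((S : Subgroup G) : Set G)) : Subgroup G) : Set G), h = n * c := by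
  classical
  have hPH : P ≤ H := hPS.trans hSH
  let S' : Sylow p H := S.subtype hSH
  have hS' : (S' : Subgroup H) = (S : Subgroup G).subgroupOf H := Sylow.coe_subtype S hSH
  set P' : Subgroup H := P.subgroupOf H with hP'
  haveI hP'n : P'.Normal := (Subgroup.normal_subgroupOf_iff_le_normalizer hPH).mpr hHP
  have hP'S' : P' ≤ (S' : Subgroup H) := by
    rw [hS']
    intro x hx
    rw [Subgroup.mem_subgroupOf] at hx ⊢
    exact hPS hx
  have hP'p : IsPGroup p P' := S'.2.to_le hP'S'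
  have hCS' : (S' : Subgroup H) ⊓ centralizer (P' : Set H) ≤ P' := by
    intro x hx
    obtain ⟨hxS, hxC⟩ := Subgroup.mem_inf.mp hx
    rw [hS', Subgroup.mem_subgroupOf] at hxS
    rw [hP', Subgroup.mem_subgroupOf]
    apply hCS
    refine Subgroup.mem_inf.mpr ⟨hxS, ?_⟩
    rw [Subgroup.mem_centralizer_iff]
    intro y hy
    have := (Subgroup.mem_centralizer_iff.mp hxC) ⟨y, hPH hy⟩ (Subgroup.mem_subgroupOf.mpr hy)
    exact congrArg Subtype.val this
  set D0 := Cfsg.pPrimeCore p H with hD0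
  set R : Subgroup G := D0.map H.subtype with hR
  have hD : R.subgroupOf H = D0 := Subgroup.comap_map_eq_self_of_injective H.subtype_injective D0
  haveI hDn : (R.subgroupOf H).Normal := by rw [hD]; infer_instance
  have hDcop : (Nat.card (R.subgroupOf H)).Coprime p := by
    rw [hD]; exact Cfsg.Agent.Lib.Helper12.pPrimeCore_coprime p
  have hchar := charp_quotient S' P' hP'S' hCS' (R.subgroupOf H) hD
  let T : Sylow p (↥H ⧸ R.subgroupOf H) := S'.mapSurjective (QuotientGroup.mk'_surjective _)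
  have hT : (T : Subgroup (↥H ⧸ R.subgroupOf H)) =
      (S' : Subgroup H).map (QuotientGroup.mk' (R.subgroupOf H)) := Sylow.coe_mapSurjective _ _
  have hDZ : R.subgroupOf H ≤ centralizer ((Cfsg.omegaOne p ((S' : Subgroup H) ⊓
      centralizer ((S' : Subgroup H) : Set H)) : Subgroup H) : Set H) := by
    intro d hd
    unfold Cfsg.omegaOne
    rw [Subgroup.centralizer_closure, Subgroup.mem_centralizer_iff]
    rintro x ⟨hx, -⟩
    have hxP : x ∈ P' := by
      apply hCS'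
      obtain ⟨hxS, hxC⟩ := Subgroup.mem_inf.mp hx
      refine Subgroup.mem_inf.mpr ⟨hxS, ?_⟩
      exact Subgroup.centralizer_le (show (P' : Set H) ⊆ (S' : Subgroup H) from hP'S') hxC
    have h1 : d * x * d⁻¹ * x⁻¹ ∈ P' := P'.mul_mem (hP'n.conj_mem x hxP d) (P'.inv_mem hxP)
    have h2 : d * x * d⁻¹ * x⁻¹ ∈ R.subgroupOf H := by
      have e : d * x * d⁻¹ * x⁻¹ = d * (x * d⁻¹ * x⁻¹) := by group
      rw [e]
      exact (R.subgroupOf H).mul_mem hd (hDn.conj_mem d⁻¹ ((R.subgroupOf H).inv_mem hd) x)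
    have h3 := Cfsg.Agent.Lib.Helper4.eq_one_of_mem_pgroup_of_mem_pprime (R.subgroupOf H) hDcop P' hP'p h1 h2
    calc x * d = (d * x * d⁻¹ * x⁻¹)⁻¹ * (d * x) := by group
      _ = d * x := by rw [h3, inv_one, one_mul]
  have key := pullback_fac W hW S' (R.subgroupOf H) hDcop hDZ T hT (hfac H R hchar T)
  intro h hh
  obtain ⟨n, hn, c, hc, hx⟩ := key ⟨h, hh⟩
  have hmapS : (S' : Subgroup H).map H.subtype = (S : Subgroup G) := by
    rw [hS']; exact Subgroup.map_subgroupOf_eq_of_le hSH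
  have hU : Cfsg.inducedFunctor (G := G) W (S : Subgroup G) =
      (Cfsg.inducedFunctor (G := ↥H) W (S' : Subgroup H)).map H.subtype := by
    rw [← hmapS]
    exact Cfsg.Agent.Lib.Helper12.inducedFunctor_map_of_injOn_set W hW H.subtype (S' : Subgroup H) S'.2
      (fun a _ b _ hab => H.subtype_injective hab)
  refine ⟨(n : G), Subgroup.mem_inf.mpr ⟨n.2, ?_⟩, (c : G), ?_, ?_⟩
  · rw [hU]
    exact Subgroup.le_normalizer_map H.subtype ⟨n, hn, rfl⟩
  · unfold Cfsg.omegaOne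
    rw [Subgroup.centralizer_closure, Subgroup.mem_centralizer_iff]
    rintro z ⟨hz, hzp⟩
    obtain ⟨hzS, hzC⟩ := Subgroup.mem_inf.mp hz
    have hz' : (⟨z, hSH hzS⟩ : H) ∈ Cfsg.omegaOne p ((S' : Subgroup H) ⊓
        centralizer ((S' : Subgroup H) : Set H)) := by
      apply Subgroup.subset_closure
      refine ⟨Subgroup.mem_inf.mpr ⟨?_, ?_⟩, ?_⟩
      · rw [hS', Subgroup.mem_subgroupOf]; exact hzS
      · rw [Subgroup.mem_centralizer_iff]
        intro y hy
        have hy' : (y : G) ∈ (S : Subgroup G) := by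
          have : y ∈ (S : Subgroup G).subgroupOf H := hS' ▸ hy
          exact Subgroup.mem_subgroupOf.mp this
        exact Subtype.ext ((Subgroup.mem_centralizer_iff.mp hzC) y hy')
      · exact Subtype.ext (by simpa using hzp)
    have := (Subgroup.mem_centralizer_iff.mp hc) _ hz'
    exact congrArg Subtype.val this
  · have := congrArg Subtype.val hx
    simpa using this

end pb

end Cfsg.Agent.Lib.Helper1.TriFac
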