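import Mathlib
import Cfsg.Prelude.Def_ConjugacyFunctors
import Cfsg.Prelude.Def_PLocal
import Cfsg.Agent.Lib.Helper1.TriFacB

/-!
helper1: Glauberman's triple factorization theorem (S1997), the key equality
`⟨Ω₁Z(S)^{N(W₁(S))}⟩ = ⟨Ω₁Z(S)^{N(W₂(S))}⟩`, by induction over the subgroups containing `S`.
-/

set_option autoImplicit false
open Subgroup

namespace Cfsg.Agent.Lib.Helper1.TriFac

universe u

section norm
variable {G : Type*} [Group G]

theorem normalizer_le_normalizer_centralizer (V : Subgroup G) :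
    normalizer (V : Set G) ≤ normalizer ((centralizer (V : Set G) : Subgroup G) : Set G) := by
  have key : ∀ g ∈ normalizer (V : Set G), ∀ x ∈ centralizer (V : Set G),
      g * x * g⁻¹ ∈ centralizer (V : Set G) := by
    intro g hg x hx
    rw [Subgroup.mem_centralizer_iff]
    intro v hv
    have hv' : g⁻¹ * v * g⁻¹⁻¹ ∈ V := (Subgroup.mem_normalizer_iff.mp (inv_mem hg) v).mp hv
    have h1 := (Subgroup.mem_centralizer_iff.mp hx) _ hv'
    calc v * (g * x * g⁻¹) = g * ((g⁻¹ * v * g⁻¹⁻¹) * x) * g⁻¹ := by group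
      _ = g * (x * (g⁻¹ * v * g⁻¹⁻¹)) * g⁻¹ := by rw [h1]
      _ = g * x * g⁻¹ * v := by group
  intro g hg
  rw [Subgroup.mem_normalizer_iff]
  intro x
  constructor
  · exact key g hg x
  · intro hx
    have := key g⁻¹ (inv_mem hg) _ hx
    have e : g⁻¹ * (g * x * g⁻¹) * g⁻¹⁻¹ = x := by group
    rwa [e] at this

theorem normalizer_inf_le (A B : Subgroup G) :
    normalizer (A : Set G) ⊓ normalizer (B : Set G) ≤ normalizer ((A ⊓ B : Subgroup G) : Set G) := by
  intro g hg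
  obtain ⟨hA, hB⟩ := Subgroup.mem_inf.mp hg
  rw [Subgroup.mem_normalizer_iff]
  intro x
  rw [Subgroup.mem_inf, Subgroup.mem_inf, ← Subgroup.mem_normalizer_iff.mp hA x,
    ← Subgroup.mem_normalizer_iff.mp hB x]

theorem normalizer_le_normalizer_center (U : Subgroup G) :
    normalizer (U : Set G) ≤ normalizer ((U ⊓ centralizer (U : Set G) : Subgroup G) : Set G) := by
  refine le_trans ?_ (normalizer_inf_le U (centralizer (U : Set G)))
  exact le_inf le_rfl (normalizer_le_normalizer_centralizer U)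

end norm

section main
variable {G : Type u} [Group G] [Finite G] {p : ℕ} [Fact p.Prime]

omit [Finite G] [Fact p.Prime] in
theorem omegaOneCenter_le (S : Subgroup G) :
    Cfsg.omegaOne p (S ⊓ centralizer (S : Set G)) ≤ S ⊓ centralizer (S : Set G) := by
  unfold Cfsg.omegaOne
  rw [Subgroup.closure_le]
  intro x hx
  exact hx.1

/-- the inductive step: if `H ≤ N(W_b(S))` then `⟨Z^H⟩ = ⟨Z^{N_H(W_a(S))}⟩` -/
theorem step (Wa Wb : ∀ (Q : Type u) [Group Q], Subgroup Q)
    (hWa : Cfsg.IsCharPFunctor.{u} p Wa) (hWb : Cfsg.IsCharPFunctor.{u} p Wb)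
    (hfa : FacHyp p Wa G) (S : Sylow p G)
    (hZb : Cfsg.omegaOne p ((S : Subgroup G) ⊓ centralizer ((S : Subgroup G) : Set G)) ≤
      Cfsg.inducedFunctor (G := G) Wb (S : Subgroup G))
    (H : Subgroup G) (hSH : (S : Subgroup G) ≤ H)
    (IH : ∀ H' : Subgroup G, H' < H → (S : Subgroup G) ≤ H' →
      cl (Cfsg.omegaOne p ((S : Subgroup G) ⊓ centralizer ((S : Subgroup G) : Set G)))
        (H' ⊓ normalizer ((Cfsg.inducedFunctor (G := G) Wa (S : Subgroup G) : Subgroup G) : Set G)) =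
      cl (Cfsg.omegaOne p ((S : Subgroup G) ⊓ centralizer ((S : Subgroup G) : Set G)))
        (H' ⊓ normalizer ((Cfsg.inducedFunctor (G := G) Wb (S : Subgroup G) : Subgroup G) : Set G)))
    (hHb : H ≤ normalizer ((Cfsg.inducedFunctor (G := G) Wb (S : Subgroup G) : Subgroup G) : Set G)) :
    cl (Cfsg.omegaOne p ((S : Subgroup G) ⊓ centralizer ((S : Subgroup G) : Set G))) H ≤
      cl (Cfsg.omegaOne p ((S : Subgroup G) ⊓ centralizer ((S : Subgroup G) : Set G)))
        (H ⊓ normalizer ((Cfsg.inducedFunctor (G := G) Wa (S : Subgroup G) : Subgroup G) : Set G)) := by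
  set Z := Cfsg.omegaOne p ((S : Subgroup G) ⊓ centralizer ((S : Subgroup G) : Set G)) with hZ
  set Ua := Cfsg.inducedFunctor (G := G) Wa (S : Subgroup G) with hUa
  set Ub := Cfsg.inducedFunctor (G := G) Wb (S : Subgroup G) with hUb
  have hUbS : Ub ≤ (S : Subgroup G) :=
    (Cfsg.Agent.Lib.Helper12.isConjugacyFunctor_induced Wb hWb G (S : Subgroup G) S.2).1
  have hZSC : Z ≤ (S : Subgroup G) ⊓ centralizer ((S : Subgroup G) : Set G) := omegaOneCenter_le _
  have hZS : Z ≤ (S : Subgroup G) := hZSC.trans inf_le_left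
  have hZC : Z ≤ centralizer ((S : Subgroup G) : Set G) := hZSC.trans inf_le_right
  set Zb := Ub ⊓ centralizer (Ub : Set G) with hZbdef
  have hZZb : Z ≤ Zb := le_inf hZb (hZC.trans (Subgroup.centralizer_le hUbS))
  have hNZb : normalizer (Ub : Set G) ≤ normalizer (Zb : Set G) := normalizer_le_normalizer_center Ub
  set V := cl Z H with hV
  have hVZb : V ≤ Zb := cl_le hZZb (hHb.trans hNZb)
  have hVUb : V ≤ Ub := hVZb.trans inf_le_left
  have hVS : V ≤ (S : Subgroup G) := hVUb.trans hUbS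
  have hVab : V ≤ centralizer (V : Set G) :=
    (hVZb.trans inf_le_right).trans (Subgroup.centralizer_le hVUb)
  have hHV : H ≤ normalizer (V : Set G) := le_normalizer_cl Z H
  have hZV : Z ≤ V := le_cl Z H
  set CV := centralizer (V : Set G) with hCV
  have hHCV : H ≤ normalizer (CV : Set G) := hHV.trans (normalizer_le_normalizer_centralizer V)
  set P := (S : Subgroup G) ⊓ CV with hP
  have hVP : V ≤ P := le_inf hVS hVab
  have hPS : P ≤ (S : Subgroup G) := inf_le_left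
  have hPp : IsPGroup p P := S.2.to_le hPS
  have hCSP : (S : Subgroup G) ⊓ centralizer (P : Set G) ≤ P := by
    intro s hs
    obtain ⟨h1, h2⟩ := Subgroup.mem_inf.mp hs
    exact Subgroup.mem_inf.mpr ⟨h1, Subgroup.centralizer_le hVP h2⟩
  have hSNP : (S : Subgroup G) ≤ normalizer (P : Set G) := by
    refine le_trans ?_ (normalizer_inf_le (S : Subgroup G) CV)
    exact le_inf Subgroup.le_normalizer (hSH.trans hHCV)
  set K := H ⊓ CV with hK
  have hKnorm : ∀ h ∈ H, ∀ k ∈ K, h * k * h⁻¹ ∈ K := by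
    intro h hh k hk
    obtain ⟨hk1, hk2⟩ := Subgroup.mem_inf.mp hk
    exact Subgroup.mem_inf.mpr ⟨H.mul_mem (H.mul_mem hh hk1) (H.inv_mem hh),
      (Subgroup.mem_normalizer_iff.mp (hHCV hh) k).mp hk2⟩
  have hSK : (S : Subgroup G) ⊓ K = P := by
    rw [hK, ← inf_assoc, inf_eq_left.mpr hSH]
  have hidx : ¬ p ∣ P.relIndex K := by
    have := Cfsg.Agent.Lib.Helper12.sylow_inf_relIndex S H K hSH inf_le_left hKnorm
    rwa [hSK] at this
  have hPK : P ≤ K := le_inf (hPS.trans hSH) inf_le_right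
  -- Frattini
  have hfrat : ∀ h ∈ H, ∃ n ∈ H ⊓ normalizer (P : Set G), ∃ c ∈ centralizer (Z : Set G), h = n * c := by
    intro h hh
    have hQK : Cfsg.Agent.Lib.Helper12.cj h⁻¹ P ≤ K := by
      rintro _ ⟨q, hq, rfl⟩
      have := hKnorm h⁻¹ (H.inv_mem hh) q (hPK hq)
      simpa [MulAut.conj_apply] using this
    obtain ⟨k, hkK, hk⟩ := Cfsg.Agent.Lib.Helper12.exists_conj_mem_of_relIndex P K
      (Cfsg.Agent.Lib.Helper12.cj h⁻¹ P) hPp hidx hQK (hPp.map _)
    have hn0 : k * h⁻¹ ∈ normalizer (P : Set G) := by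
      apply Cfsg.Agent.Lib.Helper12.mem_normalizer_of_cj_eq
      apply Cfsg.Agent.Lib.Helper12.cj_eq_of_le
      rw [← Cfsg.Agent.Lib.Helper12.cj_mul]
      rintro _ ⟨v, hv, rfl⟩
      simpa [MulAut.conj_apply] using hk v hv
    have hkH : k ∈ H := (Subgroup.mem_inf.mp hkK).1
    refine ⟨(k * h⁻¹)⁻¹, Subgroup.mem_inf.mpr ⟨H.inv_mem (H.mul_mem hkH (H.inv_mem hh)), inv_mem hn0⟩,
      k, ?_, by group⟩
    exact Subgroup.centralizer_le hZV (Subgroup.mem_inf.mp hkK).2
  have h1 : cl Z H ≤ cl Z (H ⊓ normalizer (P : Set G)) := cl_le_of_fac hfrat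
  by_cases hH0 : H ≤ normalizer (P : Set G)
  · exact cl_le_of_fac (pb_internal Wa hWa hfa S H hSH P hPS hH0 hCSP)
  · have hlt : H ⊓ normalizer (P : Set G) < H := by
      refine lt_of_le_of_ne inf_le_left ?_
      intro h
      exact hH0 (inf_eq_left.mp h)
    have hS0 : (S : Subgroup G) ≤ H ⊓ normalizer (P : Set G) := le_inf hSH hSNP
    have h2 := IH _ hlt hS0
    have e : (H ⊓ normalizer (P : Set G)) ⊓ normalizer (Ub : Set G) = H ⊓ normalizer (P : Set G) :=
      inf_eq_left.mpr (inf_le_left.trans hHb)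
    rw [e] at h2
    calc cl Z H ≤ cl Z (H ⊓ normalizer (P : Set G)) := h1
      _ = cl Z ((H ⊓ normalizer (P : Set G)) ⊓ normalizer (Ua : Set G)) := h2.symm
      _ ≤ cl Z (H ⊓ normalizer (Ua : Set G)) := cl_mono Z (inf_le_inf_right _ inf_le_left)

omit [Fact p.Prime] in
theorem card_lt_of_lt_aux {A B : Subgroup G} (h : A < B) : Nat.card A < Nat.card B := by
  refine lt_of_le_of_ne (Subgroup.card_le_of_le h.le) ?_
  intro he
  exact h.ne (Subgroup.eq_of_le_of_card_ge h.le he.ge)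

/-- the key equality, for all subgroups containing `S` -/
theorem cl_eq (W₁ W₂ : ∀ (Q : Type u) [Group Q], Subgroup Q)
    (hW₁ : Cfsg.IsCharPFunctor.{u} p W₁) (hW₂ : Cfsg.IsCharPFunctor.{u} p W₂)
    (hf₁ : FacHyp p W₁ G) (hf₂ : FacHyp p W₂ G) (S : Sylow p G)
    (hZ₁ : Cfsg.omegaOne p ((S : Subgroup G) ⊓ centralizer ((S : Subgroup G) : Set G)) ≤
      Cfsg.inducedFunctor (G := G) W₁ (S : Subgroup G))
    (hZ₂ : Cfsg.omegaOne p ((S : Subgroup G) ⊓ centralizer ((S : Subgroup G) : Set G)) ≤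
      Cfsg.inducedFunctor (G := G) W₂ (S : Subgroup G)) :
    ∀ (n : ℕ) (H : Subgroup G), Nat.card H = n → (S : Subgroup G) ≤ H →
      cl (Cfsg.omegaOne p ((S : Subgroup G) ⊓ centralizer ((S : Subgroup G) : Set G)))
        (H ⊓ normalizer ((Cfsg.inducedFunctor (G := G) W₁ (S : Subgroup G) : Subgroup G) : Set G)) =
      cl (Cfsg.omegaOne p ((S : Subgroup G) ⊓ centralizer ((S : Subgroup G) : Set G)))
        (H ⊓ normalizer ((Cfsg.inducedFunctor (G := G) W₂ (S : Subgroup G) : Subgroup G) : Set G)) := by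
  intro n
  induction n using Nat.strong_induction_on with
  | _ n IH =>
  intro H hn hSH
  set Z := Cfsg.omegaOne p ((S : Subgroup G) ⊓ centralizer ((S : Subgroup G) : Set G)) with hZ
  set U₁ := Cfsg.inducedFunctor (G := G) W₁ (S : Subgroup G) with hU₁
  set U₂ := Cfsg.inducedFunctor (G := G) W₂ (S : Subgroup G) with hU₂
  have hSN₁ : (S : Subgroup G) ≤ normalizer (U₁ : Set G) :=
    Subgroup.le_normalizer.trans (Cfsg.Agent.Lib.Helper12.normalizer_le_normalizer_of_isConjugacyFunctor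
      (Cfsg.Agent.Lib.Helper12.isConjugacyFunctor_induced W₁ hW₁ G) S.2)
  have hSN₂ : (S : Subgroup G) ≤ normalizer (U₂ : Set G) :=
    Subgroup.le_normalizer.trans (Cfsg.Agent.Lib.Helper12.normalizer_le_normalizer_of_isConjugacyFunctor
      (Cfsg.Agent.Lib.Helper12.isConjugacyFunctor_induced W₂ hW₂ G) S.2)
  have IH' : ∀ H' : Subgroup G, H' < H → (S : Subgroup G) ≤ H' →
      cl Z (H' ⊓ normalizer (U₁ : Set G)) = cl Z (H' ⊓ normalizer (U₂ : Set G)) := by
    intro H' hlt hS'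
    exact IH (Nat.card H') (hn ▸ card_lt_of_lt_aux hlt) H' rfl hS'
  by_cases h2 : H ≤ normalizer (U₂ : Set G)
  · have h3 := step W₁ W₂ hW₁ hW₂ hf₁ S hZ₂ H hSH IH' h2
    have e : H ⊓ normalizer (U₂ : Set G) = H := inf_eq_left.mpr h2
    rw [e]
    exact le_antisymm (cl_mono Z inf_le_left) h3
  · by_cases h1 : H ≤ normalizer (U₁ : Set G)
    · have h3 := step W₂ W₁ hW₂ hW₁ hf₂ S hZ₁ H hSH (fun H' hlt hS' => (IH' H' hlt hS').symm) h1
      have e : H ⊓ normalizer (U₁ : Set G) = H := inf_eq_left.mpr h1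
      rw [e]
      exact le_antisymm h3 (cl_mono Z inf_le_left)
    · have hlt₁ : H ⊓ normalizer (U₁ : Set G) < H :=
        lt_of_le_of_ne inf_le_left (fun h => h1 (inf_eq_left.mp h))
      have hlt₂ : H ⊓ normalizer (U₂ : Set G) < H :=
        lt_of_le_of_ne inf_le_left (fun h => h2 (inf_eq_left.mp h))
      have e₁ := IH' _ hlt₁ (le_inf hSH hSN₁)
      have e₂ := IH' _ hlt₂ (le_inf hSH hSN₂)
      have a₁ : (H ⊓ normalizer (U₁ : Set G)) ⊓ normalizer (U₁ : Set G) = H ⊓ normalizer (U₁ : Set G) :=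
        inf_eq_left.mpr inf_le_right
      have a₂ : (H ⊓ normalizer (U₂ : Set G)) ⊓ normalizer (U₂ : Set G) = H ⊓ normalizer (U₂ : Set G) :=
        inf_eq_left.mpr inf_le_right
      have a₃ : (H ⊓ normalizer (U₂ : Set G)) ⊓ normalizer (U₁ : Set G) =
          (H ⊓ normalizer (U₁ : Set G)) ⊓ normalizer (U₂ : Set G) := by
        rw [inf_assoc, inf_assoc, inf_comm (normalizer (U₂ : Set G))]
      rw [a₁] at e₁
      rw [a₂, a₃] at e₂
      rw [e₁, e₂]

end main

end Cfsg.Agent.Lib.Helper1.TriFac
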