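import Mathlib
import Cfsg.Prelude.Def_ConjugacyFunctors
import Cfsg.Prelude.Def_PLocal
import Cfsg.Prelude.Def_LocalEven
import Cfsg.Prelude.Def_EvenType
import Cfsg.Prelude.Def_TwoFusion
import Cfsg.Prelude.Def_Transfer
import Cfsg.Agent.Lib.Helper1.TriFacC
import Cfsg.Agent.Lib.Helper12.NormalFusion
import Cfsg.Agent.Lib.Helper12.FusionConvert
import Cfsg.Agent.S1996

/-!
helper1: Glauberman's triple factorization theorem (S1997): `A = ⟨Ω₁Z(S)^{N(W₁(S))}⟩` is elementary abelian,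
strongly closed in `S`, and `N_G(A)` controls strong fusion.
-/

set_option autoImplicit false
open Subgroup

namespace Cfsg.Agent.Lib.Helper1.TriFac

universe u

section final
variable {G : Type u} [Group G] [Finite G] {p : ℕ} [Fact p.Prime]

theorem main (S : Sylow p G) (W₁ W₂ : ∀ (Q : Type u) [Group Q], Subgroup Q)
    (hW₁ : Cfsg.IsCharPFunctor.{u} p W₁) (hW₂ : Cfsg.IsCharPFunctor.{u} p W₂)
    (hfac : ∀ (K R : Subgroup G) [hR : (R.subgroupOf K).Normal], Subgroup.centralizer ((Cfsg.pCore p (↥K ⧸ R.subgroupOf K) : Subgroup (↥K ⧸ R.subgroupOf K)) : Set (↥K ⧸ R.subgroupOf K)) ≤ Cfsg.pCore p (↥K ⧸ R.subgroupOf K) → ∀ T : Sylow p (↥K ⧸ R.subgroupOf K), (∀ x : (↥K ⧸ R.subgroupOf K), ∃ a ∈ Subgroup.centralizer ((Cfsg.omegaOne p ((T : Subgroup (↥K ⧸ R.subgroupOf K)) ⊓ Subgroup.centralizer (((T : Subgroup (↥K ⧸ R.subgroupOf K)) : Subgroup (↥K ⧸ R.subgroupOf K)) : Set (↥K ⧸ R.subgroupOf K))) : Subgroup (↥K ⧸ R.subgroupOf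 K)) : Set (↥K ⧸ R.subgroupOf K)), ∃ b ∈ Subgroup.normalizer ((Cfsg.inducedFunctor (G := (↥K ⧸ R.subgroupOf K)) W₁ (T : Subgroup (↥K ⧸ R.subgroupOf K)) : Subgroup (↥K ⧸ R.subgroupOf K)) : Set (↥K ⧸ R.subgroupOf K)), x = a * b) ∧ (∀ x : (↥K ⧸ R.subgroupOf K), ∃ a ∈ Subgroup.centralizer ((Cfsg.omegaOne p ((T : Subgroup (↥K ⧸ R.subgroupOf K)) ⊓ Subgroup.centralizer (((T : Subgroup (↥K ⧸ R.subgroupOf K)) : Subgroup (↥K ⧸ R.subgroupOf K)) : Set (↥K ⧸ R.subgroupOf K))) : Subgroup (↥K ⧸ R.subgroupOf K)) : Set (↥K ⧸ R.subgroupOf K)), ∃ b ∈ Subgroup.normalizer ((Cfsg.inducedFunctor (G := (↥K ⧸ R.subgroupOf K)) W₂ (T : Subgroup (↥K ⧸ R.subgroupOf K)) : Subgroup (↥K ⧸ R.subgroupOf K)) : Set (↥K ⧸ R.subgroupOf K)), x = a * b) ∧ (∀ x : (↥K ⧸ R.subgroupOf K), ∃ a ∈ Subgroup.normalizer ((Cfsg.inducedFunctor (G := (↥K ⧸ R.subgroupOf K)) W₁ (T : Subgroup (↥K ⧸ R.subgroupOf K)) : Subgroup (↥K ⧸ R.subgroupOf K)) : Set (↥K ⧸ R.subgroupOf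 K)), ∃ b ∈ Subgroup.normalizer ((Cfsg.inducedFunctor (G := (↥K ⧸ R.subgroupOf K)) W₂ (T : Subgroup (↥K ⧸ R.subgroupOf K)) : Subgroup (↥K ⧸ R.subgroupOf K)) : Set (↥K ⧸ R.subgroupOf K)), x = a * b))
    (hZ : Cfsg.omegaOne p ((S : Subgroup G) ⊓ Subgroup.centralizer (((S : Subgroup G) : Subgroup G) : Set G)) ≤ Cfsg.inducedFunctor (G := G) W₁ (S : Subgroup G) ⊓ Cfsg.inducedFunctor (G := G) W₂ (S : Subgroup G))
    (A : Subgroup G)
    (hA : A = cl (Cfsg.omegaOne p ((S : Subgroup G) ⊓ centralizer ((S : Subgroup G) : Set G)))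
      (normalizer ((Cfsg.inducedFunctor (G := G) W₁ (S : Subgroup G) : Subgroup G) : Set G))) :
    A ≤ (S : Subgroup G) ∧ Cfsg.IsElementaryAbelian p A ∧ Cfsg.IsStronglyClosed A (S : Subgroup G) ∧
      Cfsg.ControlsStrongFusion p A := by
  classical
  set Z := Cfsg.omegaOne p ((S : Subgroup G) ⊓ centralizer ((S : Subgroup G) : Set G)) with hZdef
  set U₁ := Cfsg.inducedFunctor (G := G) W₁ (S : Subgroup G) with hU₁
  set U₂ := Cfsg.inducedFunctor (G := G) W₂ (S : Subgroup G) with hU₂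
  have hf₁ : FacHyp p W₁ G := by
    intro K R hR hC T x
    exact (hfac K R hC T).1 x
  have hf₂ : FacHyp p W₂ G := by
    intro K R hR hC T x
    exact (hfac K R hC T).2.1 x
  have hZ₁ : Z ≤ U₁ := hZ.trans inf_le_left
  have hZ₂ : Z ≤ U₂ := hZ.trans inf_le_right
  have hcf₁ := Cfsg.Agent.Lib.Helper12.isConjugacyFunctor_induced W₁ hW₁ G
  have hcf₂ := Cfsg.Agent.Lib.Helper12.isConjugacyFunctor_induced W₂ hW₂ G
  have hU₁S : U₁ ≤ (S : Subgroup G) := (hcf₁ (S : Subgroup G) S.2).1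
  -- the key equality
  have hA₂ : A = cl Z (normalizer (U₂ : Set G)) := by
    have := cl_eq W₁ W₂ hW₁ hW₂ hf₁ hf₂ S hZ₁ hZ₂ (Nat.card (⊤ : Subgroup G)) ⊤ rfl le_top
    rw [top_inf_eq, top_inf_eq] at this
    rw [hA, this]
  have hN₁A : normalizer (U₁ : Set G) ≤ normalizer (A : Set G) := by
    rw [hA]; exact le_normalizer_cl Z _
  have hN₂A : normalizer (U₂ : Set G) ≤ normalizer (A : Set G) := by
    rw [hA₂]; exact le_normalizer_cl Z _
  -- `A` lies in the centre of `U₁`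
  have hZSC : Z ≤ (S : Subgroup G) ⊓ centralizer ((S : Subgroup G) : Set G) := omegaOneCenter_le _
  have hZC : Z ≤ centralizer ((S : Subgroup G) : Set G) := hZSC.trans inf_le_right
  have hAZ₁ : A ≤ U₁ ⊓ centralizer (U₁ : Set G) := by
    rw [hA]
    exact cl_le (le_inf hZ₁ (hZC.trans (Subgroup.centralizer_le hU₁S)))
      (normalizer_le_normalizer_center U₁)
  have hAS : A ≤ (S : Subgroup G) := (hAZ₁.trans inf_le_left).trans hU₁S
  have hab : ∀ a ∈ A, ∀ b ∈ A, a * b = b * a := by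
    intro a ha b hb
    have h1 := (hAZ₁ ha).2
    have h2 := (hAZ₁ hb).1
    exact ((Subgroup.mem_centralizer_iff.mp h1) b h2).symm
  -- exponent `p`
  have hZexp : ∀ z ∈ Z, z ^ p = 1 := by
    intro z hz
    have hzc : ∀ x ∈ Z, ∀ y ∈ Z, Commute x y := by
      intro x hx y hy
      have h1 := (hZSC hx).1
      have h2 := (hZSC hy).2
      exact (Subgroup.mem_centralizer_iff.mp h2) x h1
    rw [hZdef] at hz
    unfold Cfsg.omegaOne at hz
    induction hz using Subgroup.closure_induction with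
    | mem x hx => exact hx.2
    | one => simp
    | mul x y hx hy ihx ihy =>
      have hc : Commute x y := hzc x hx y hy
      rw [hc.mul_pow, ihx, ihy, one_mul]
    | inv x _ ihx => rw [inv_pow, ihx, inv_one]
  have hAexp : ∀ a ∈ A, a ^ p = 1 := by
    intro a ha
    have ha' := ha
    rw [hA] at ha'
    unfold cl at ha'
    induction ha' using Subgroup.closure_induction with
    | mem x hx =>
      obtain ⟨m, -, z, hz, rfl⟩ := hx
      rw [conj_pow, hZexp z hz]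
      simp
    | one => simp
    | mul x y hx hy ihx ihy =>
      have hxA : x ∈ A := by rw [hA]; exact hx
      have hyA : y ∈ A := by rw [hA]; exact hy
      have hc : Commute x y := hab x hxA y hyA
      rw [hc.mul_pow, ihx hxA, ihy hyA, one_mul]
    | inv x hx ihx =>
      have hxA : x ∈ A := by rw [hA]; exact hx
      rw [inv_pow, ihx hxA, inv_one]
  have hEA : Cfsg.IsElementaryAbelian p A :=
    ⟨⟨⟨fun a b => Subtype.ext (hab a.1 a.2 b.1 b.2)⟩⟩, hAexp⟩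
  -- strongly closed
  have h𝓦 : ∀ W ∈ ({Cfsg.inducedFunctor (G := G) W₁, Cfsg.inducedFunctor (G := G) W₂} :
      Set (Subgroup G → Subgroup G)), Cfsg.IsConjugacyFunctor p W := by
    intro W hW
    rcases hW with h | h
    · rw [h]; exact hcf₁
    · have : W = Cfsg.inducedFunctor (G := G) W₂ := h
      rw [this]; exact hcf₂
  have hfam := Cfsg.Agent.S1996.result (G := G) (p := p) W₁ W₂ hW₁ hW₂
    (fun K R hR hC T => (hfac K R hC T).2.2)
  have hidx : ¬ p ∣ (S : Subgroup G).relIndex ⊤ := by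
    rw [Subgroup.relIndex_top_right]; exact S.not_dvd_index
  have hctl := Cfsg.Agent.Lib.Helper12.familyControlsStrongFusionIn_sylow _ h𝓦 hfam
    (le_top : (S : Subgroup G) ≤ ⊤) S.2 hidx
  have hreach : ∀ (a : G), a ∈ A → ∀ c : G,
      Cfsg.Agent.Lib.Helper12.FReach ({Cfsg.inducedFunctor (G := G) W₁, Cfsg.inducedFunctor (G := G) W₂} :
        Set (Subgroup G → Subgroup G)) ⊤ (S : Subgroup G) {a} c → c * a * c⁻¹ ∈ A := by
    intro a ha c hc
    induction hc with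
    | refl _ => simpa using ha
    | step c y W hW hy hc himg ih =>
      have hyN : y ∈ normalizer (A : Set G) := by
        have hy2 := (Subgroup.mem_inf.mp hy).2
        rcases hW with h | h
        · rw [h] at hy2; exact hN₁A hy2
        · have : W = Cfsg.inducedFunctor (G := G) W₂ := h
          rw [this] at hy2; exact hN₂A hy2
      have e : y * c * a * (y * c)⁻¹ = y * (c * a * c⁻¹) * y⁻¹ := by group
      rw [e]
      exact (Subgroup.mem_normalizer_iff.mp hyN _).mp ih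
  have hSC : Cfsg.IsStronglyClosed A (S : Subgroup G) := by
    refine ⟨hAS, ?_⟩
    intro x hx g hg
    have h1 : ({x} : Set G) ⊆ ((S : Subgroup G) : Set G) := by
      intro y hy
      rw [Set.mem_singleton_iff] at hy
      rw [hy]; exact hAS hx
    have h2 : Cfsg.Agent.Lib.Helper12.lcj g ({x} : Set G) ⊆ ((S : Subgroup G) : Set G) := by
      rintro _ ⟨y, hy, rfl⟩
      rw [Set.mem_singleton_iff] at hy
      rw [hy]; exact hg
    obtain ⟨c, hc, hag⟩ := hctl {x} g (Subgroup.mem_top g) h1 h2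
    rw [← hag x (Set.mem_singleton x)]
    exact hreach x hx c hc
  refine ⟨hAS, hEA, hSC, ?_⟩
  -- control of strong fusion
  have hn := Cfsg.Agent.Lib.Helper12.nctl_of_abelian_stronglyClosed S hSC hab
  refine ⟨S, hAS, fun B hB => ⟨hB, fun g hg => ?_⟩⟩
  have h3 : (fun a => g⁻¹⁻¹ * a * g⁻¹) '' B ⊆ ((S : Subgroup G) : Set G) := by
    rw [inv_inv]; exact hg
  obtain ⟨c, hc, h, hh, hgch⟩ := hn B g⁻¹ hB h3
  refine ⟨h⁻¹, inv_mem hh, fun a ha => ?_⟩
  have hg' : g = h⁻¹ * c⁻¹ := by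
    have : g⁻¹⁻¹ = (c * h)⁻¹ := by rw [hgch]
    rw [inv_inv] at this
    rw [this]; group
  have hca : c⁻¹ * a = a * c⁻¹ :=
    ((Subgroup.mem_centralizer_iff.mp (inv_mem hc)) a ha).symm
  rw [hg']
  calc h⁻¹ * c⁻¹ * a * (h⁻¹ * c⁻¹)⁻¹ = h⁻¹ * (c⁻¹ * a) * c * h⁻¹⁻¹ := by group
    _ = h⁻¹ * (a * c⁻¹) * c * h⁻¹⁻¹ := by rw [hca]
    _ = h⁻¹ * a * h⁻¹⁻¹ := by group

end final

end Cfsg.Agent.Lib.Helper1.TriFac
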