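import Mathlib

set_option autoImplicit false

namespace Cfsg.Agent.Lib.Helper1.TwoMajArith

/-- The arithmetic endgame of S4540. -/
theorem arith_bound {α : Type*} (s : Finset α) (h : α → ℕ) (x : α → ℤ) (d l : ℕ) (hl : l ≤ 3)
    (hA : ∑ a ∈ s, x a = (2 : ℤ) ^ d * (l : ℤ))
    (hB : ∀ a ∈ s, h a = 0 → ∑ b ∈ s, (4 : ℤ) ^ h b ≤ (2 : ℤ) ^ d * x a)
    (hC : ∀ a ∈ s, 1 ≤ h a → (2 : ℤ) ^ (h a + 1) ∣ x a)
    (hD : ∀ a ∈ s, h a = 0 → Odd (x a))
    (hP : ∀ a ∈ s, 0 < x a) :
    3 * ((s.filter (fun a => h a = 0)).card : ℤ) +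
      2 * ∑ a ∈ s.filter (fun a => 1 ≤ h a), (2 : ℤ) ^ h a ≤ 3 * (2 : ℤ) ^ d := by
  classical
  set g : α → ℤ := fun a => if h a = 0 then 3 else 2 * (2 : ℤ) ^ h a with hg
  have hLHS : 3 * ((s.filter (fun a => h a = 0)).card : ℤ) +
      2 * ∑ a ∈ s.filter (fun a => 1 ≤ h a), (2 : ℤ) ^ h a = ∑ a ∈ s, g a := by
    have h1 : 3 * ((s.filter (fun a => h a = 0)).card : ℤ) =
        ∑ a ∈ s, (if h a = 0 then (3 : ℤ) else 0) := by
      rw [← Finset.sum_filter, Finset.sum_const, nsmul_eq_mul]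
      ring
    have h2 : 2 * ∑ a ∈ s.filter (fun a => 1 ≤ h a), (2 : ℤ) ^ h a =
        ∑ a ∈ s, (if h a = 0 then (0 : ℤ) else 2 * (2 : ℤ) ^ h a) := by
      rw [Finset.mul_sum, Finset.sum_filter]
      apply Finset.sum_congr rfl
      intro a _
      by_cases ha : h a = 0
      · rw [if_pos ha, if_neg (by omega)]
      · rw [if_neg ha, if_pos (by omega)]
    rw [h1, h2, ← Finset.sum_add_distrib]
    apply Finset.sum_congr rfl
    intro a _
    rw [hg]
    by_cases ha : h a = 0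
    · simp [ha]
    · simp [ha]
  rw [hLHS]
  by_cases hex : ∃ a ∈ s, h a = 0 ∧ x a = 1
  · obtain ⟨a, has, ha0, ha1⟩ := hex
    have h1 := hB a has ha0
    rw [ha1, mul_one] at h1
    have h2 : ∑ b ∈ s, g b ≤ ∑ b ∈ s, 3 * (4 : ℤ) ^ h b := by
      apply Finset.sum_le_sum
      intro b _
      rw [hg]
      by_cases hb : h b = 0
      · simp [hb]
      · simp only [if_neg hb]
        have h3 : (2 : ℤ) ^ h b ≤ (4 : ℤ) ^ h b :=
          pow_le_pow_left₀ (by norm_num) (by norm_num) _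
        have h4 : (0 : ℤ) < (2 : ℤ) ^ h b := by positivity
        linarith
    rw [← Finset.mul_sum] at h2
    linarith
  · push Not at hex
    have h2 : ∑ b ∈ s, g b ≤ ∑ b ∈ s, x b := by
      apply Finset.sum_le_sum
      intro b hb
      rw [hg]
      by_cases hb0 : h b = 0
      · simp only [if_pos hb0]
        have h3 := hD b hb hb0
        have h4 := hP b hb
        have h5 := hex b hb hb0
        obtain ⟨k, hk⟩ := h3
        omega
      · simp only [if_neg hb0]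
        have h3 := hC b hb (by omega)
        have h4 := hP b hb
        have h5 := Int.le_of_dvd h4 h3
        rw [pow_succ] at h5
        linarith
    have h3 : (2 : ℤ) ^ d * (l : ℤ) ≤ 3 * (2 : ℤ) ^ d := by
      have : (l : ℤ) ≤ 3 := by exact_mod_cast hl
      have h4 : (0 : ℤ) < (2 : ℤ) ^ d := by positivity
      nlinarith
    linarith

end Cfsg.Agent.Lib.Helper1.TwoMajArith
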