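import Mathlib
import Cfsg.Agent.Lib.Helper23.SubsecG

/-!
helper1: S4540 (p = 2, major subsection `(z, b)` with `l(b) ≤ 3`), definitions and the parts
extracted from helper23's `exists_odd_trace`: the symmetric integer expansion
`2^d μ_{χχ}^{(w^k)} = ∑ A'_{ζζ'} ε_{ζζ'}^k` and the integer `rtrace` = the normalized Galois trace of
`2^d μ_{χχ}`.
-/

set_option autoImplicit false
set_option linter.unusedSectionVars false

namespace Cfsg.Agent.Lib.Helper1.TwoMaj

open Cfsg Cfsg.Agent.CharLib Cfsg.Agent.Lib.Helper24 Cfsg.Agent.Lib.Helper6 Cfsg.Agent.Lib.Helper23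
open Cfsg.Agent.Lib.Helper23.Subsec
open scoped ComplexConjugate

universe u w

section defs

variable {G : Type u} [Group G] [Fintype G] (C : Subgroup G) [Fintype C]
  [Fintype (IrrCharacter C)]

/-- The symmetric integer matrix of the expansion of `2^d μ_{χχ}`. -/
noncomputable def expA (e : Set (IrrCharacter C)) (χ : IrrCharacter G)
    (ζ ζ' : IrrCharacter C) : ℤ :=
  open Classical in
  if ζ ∈ e ∧ ζ' ∈ e then
    ((resMult C χ ζ : ℤ) * (resMult C χ ζ' : ℤ)) * (tildeInt 2 ζ ζ' / 2 ^ minVal 2 e)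
  else 0

/-- The roots of unity of the expansion of `2^d μ_{χχ}`. -/
noncomputable def expEps (w : Subgroup.center C) (ζ ζ' : IrrCharacter C) : ℂ :=
  centHom C ζ w * conj (centHom C ζ' w)

/-- The normalized Galois trace of `2^d μ_{χχ}` (an integer). -/
noncomputable def rtrace (e : Set (IrrCharacter C)) (w : Subgroup.center C) (χ : IrrCharacter G) :
    ℤ :=
  ∑ ζ : IrrCharacter C, ∑ ζ' : IrrCharacter C, expA C e χ ζ ζ' * rVal (expEps C w ζ ζ')

theorem expA_symm (e : Set (IrrCharacter C)) (χ : IrrCharacter G) (ζ ζ' : IrrCharacter C) :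
    expA C e χ ζ ζ' = expA C e χ ζ' ζ := by
  classical
  unfold expA
  by_cases h : ζ ∈ e ∧ ζ' ∈ e
  · rw [if_pos h, if_pos ⟨h.2, h.1⟩, tildeInt_symm ζ ζ']
    ring
  · have hn : ¬ (ζ' ∈ e ∧ ζ ∈ e) := fun h' => h ⟨h'.2, h'.1⟩
    rw [if_neg h, if_neg hn]

theorem expEps_symm (w : Subgroup.center C) (ζ ζ' : IrrCharacter C) :
    expEps C w ζ' ζ = conj (expEps C w ζ ζ') := by
  unfold expEps
  rw [map_mul, Complex.conj_conj, mul_comm]

theorem expEps_diag (w : Subgroup.center C) (ζ : IrrCharacter C) : expEps C w ζ ζ = 1 := by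
  unfold expEps
  rw [Complex.mul_conj, Complex.normSq_eq_norm_sq, centHom_norm]
  norm_num

theorem expEps_pow_eq_one (w : Subgroup.center C) (n : ℕ) (hw : w ^ n = 1)
    (ζ ζ' : IrrCharacter C) : expEps C w ζ ζ' ^ n = 1 := by
  unfold expEps
  rw [mul_pow, ← map_pow, ← map_pow, ← map_pow, hw, map_one, map_one, one_mul, map_one]

end defs

section formula

variable {G : Type u} [Group G] [Fintype G] {M : Ideal AlgInt}

/-- **The symmetric integer expansion** of the scaled diagonal contributions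
(helper23, from the proof of `exists_odd_trace`). -/
theorem two_pow_contrib_eq (hM : IsPModular 2 M) (C : Subgroup G) [Fintype C]
    [Fintype (IrrCharacter C)] (e : Set (IrrCharacter C)) (he : IsPBlock M e)
    (w : Subgroup.center C) (χ : IrrCharacter G) (k : ℕ) :
    ((2 : ℂ) ^ blockDefect 2 e) *
      contrib 2 C e ((((w ^ k : Subgroup.center C) : C) : G)) χ χ =
      ∑ ζ : IrrCharacter C, ∑ ζ' : IrrCharacter C,
        (expA C e χ ζ ζ' : ℂ) * expEps C w ζ ζ' ^ k := by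
  classical
  have hprime : M.IsPrime := isPrime_of_isPModular hM
  have hne : e.Nonempty := by
    obtain ⟨χ₁, h⟩ := he
    exact ⟨χ₁, by rw [h]; exact mem_blockOf_self χ₁⟩
  set m := minVal 2 e with hm
  set a := (Nat.card C).factorization 2 with ha
  have hma : m ≤ a := minVal_le_factorization_card hne
  have hq : blockDefect 2 e = a - m := blockDefect_eq e
  have h2m0 : ((2 : ℂ) ^ m) ≠ 0 := pow_ne_zero _ two_ne_zero
  have hTdiv : ∀ ζ ∈ e, ∀ ζ' ∈ e, (2 : ℤ) ^ m ∣ tildeInt 2 ζ ζ' := by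
    intro ζ _ ζ' hζ'
    have h1 := pow_dvd_tildeInt hM ζ ζ'
    exact dvd_trans (pow_dvd_pow _ (minVal_le hζ')) (by exact_mod_cast h1)
  have hpq : ((2 : ℂ) ^ blockDefect 2 e) / (((2 : ℕ) ^ a : ℕ) : ℂ) = 1 / ((2 : ℂ) ^ m) := by
    have hpa : (((2 : ℕ) ^ a : ℕ) : ℂ) = (2 : ℂ) ^ (a - m) * (2 : ℂ) ^ m := by
      rw [← pow_add, Nat.sub_add_cancel hma]; push_cast; ring
    rw [hq, hpa]
    have : ((2 : ℂ) ^ (a - m)) ≠ 0 := pow_ne_zero _ two_ne_zero
    field_simp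
  rw [contrib_eq, ← ha]
  rw [show ((2 : ℂ) ^ blockDefect 2 e) * ((∑ ζ : IrrCharacter C, ∑ ζ' : IrrCharacter C,
      decCoeff C e (w ^ k) χ ζ * conj (decCoeff C e (w ^ k) χ ζ') * (tildeInt 2 ζ ζ' : ℂ)) /
      (((2 : ℕ) ^ a : ℕ) : ℂ)) =
    (((2 : ℂ) ^ blockDefect 2 e) / (((2 : ℕ) ^ a : ℕ) : ℂ)) * (∑ ζ : IrrCharacter C,
      ∑ ζ' : IrrCharacter C,
      decCoeff C e (w ^ k) χ ζ * conj (decCoeff C e (w ^ k) χ ζ') * (tildeInt 2 ζ ζ' : ℂ)) by
    ring]
  rw [hpq, Finset.mul_sum]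
  apply Finset.sum_congr rfl
  intro ζ _
  rw [Finset.mul_sum]
  apply Finset.sum_congr rfl
  intro ζ' _
  unfold decCoeff expA expEps
  by_cases hζ : ζ ∈ e
  · by_cases hζ' : ζ' ∈ e
    · rw [if_pos hζ, if_pos hζ', if_pos ⟨hζ, hζ'⟩]
      obtain ⟨t, ht⟩ := hTdiv ζ hζ ζ' hζ'
      rw [ht, Int.mul_ediv_cancel_left _ (pow_ne_zero _ two_ne_zero)]
      rw [map_mul, Complex.conj_natCast, map_pow, map_pow, mul_pow, map_pow]
      push_cast
      field_simp
    · have hn : ¬ (ζ ∈ e ∧ ζ' ∈ e) := fun h => hζ' h.2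
      rw [if_neg hζ', if_neg hn]
      simp
  · have hn : ¬ (ζ ∈ e ∧ ζ' ∈ e) := fun h => hζ h.1
    rw [if_neg hζ, if_neg hn]
    simp

/-- **The Galois sum of the scaled diagonal contributions** is the order of the Galois group times
the integer `rtrace`. -/
theorem sum_gal_contrib_eq (hM : IsPModular 2 M) (N : ℕ) [NeZero N] (K : Type w) [Field K]
    [Algebra ℚ K] [IsCyclotomicExtension {N} ℚ K] [Fintype (K ≃ₐ[ℚ] K)]
    (C : Subgroup G) [Fintype C] [Fintype (IrrCharacter C)] (e : Set (IrrCharacter C))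
    (he : IsPBlock M e) (w : Subgroup.center C) (hwN : w ^ N = 1)
    (hw2 : ∃ j : ℕ, w ^ (2 ^ j) = 1) (χ : IrrCharacter G) :
    ∑ σ : K ≃ₐ[ℚ] K, ((2 : ℂ) ^ blockDefect 2 e) *
        contrib 2 C e ((((w ^ galExp N K σ : Subgroup.center C) : C) : G)) χ χ =
      (Fintype.card (K ≃ₐ[ℚ] K) : ℂ) * (rtrace C e w χ : ℂ) := by
  classical
  simp_rw [two_pow_contrib_eq hM C e he w χ]
  rw [Finset.sum_comm]
  simp_rw [Finset.sum_comm (s := (Finset.univ : Finset (K ≃ₐ[ℚ] K)))]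
  simp_rw [← Finset.mul_sum]
  obtain ⟨j, hj⟩ := hw2
  have hR : ∀ ζ ζ' : IrrCharacter C, ∑ σ : K ≃ₐ[ℚ] K, expEps C w ζ ζ' ^ galExp N K σ =
      (Fintype.card (K ≃ₐ[ℚ] K) : ℂ) * (rVal (expEps C w ζ ζ') : ℂ) := by
    intro ζ ζ'
    rw [sum_gal_eq_sum_units N K (fun k => expEps C w ζ ζ' ^ k), card_gal_eq_card_units N K]
    exact sum_units_pow_two N (expEps C w ζ ζ') (expEps_pow_eq_one C w N hwN ζ ζ')
      ⟨j, expEps_pow_eq_one C w _ hj ζ ζ'⟩
  simp_rw [hR]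
  unfold rtrace
  push_cast
  rw [Finset.mul_sum]
  apply Finset.sum_congr rfl
  intro ζ _
  rw [Finset.mul_sum]
  apply Finset.sum_congr rfl
  intro ζ' _
  ring

/-- The same sum over the units of `ZMod N` (no cyclotomic field needed). -/
theorem sum_units_contrib_eq (hM : IsPModular 2 M) (N : ℕ) [NeZero N]
    (C : Subgroup G) [Fintype C] [Fintype (IrrCharacter C)] (e : Set (IrrCharacter C))
    (he : IsPBlock M e) (w : Subgroup.center C) (hwN : w ^ N = 1)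
    (hw2 : ∃ j : ℕ, w ^ (2 ^ j) = 1) (χ : IrrCharacter G) :
    ∑ u : (ZMod N)ˣ, ((2 : ℂ) ^ blockDefect 2 e) *
        contrib 2 C e ((((w ^ (u : ZMod N).val : Subgroup.center C) : C) : G)) χ χ =
      (Fintype.card (ZMod N)ˣ : ℂ) * (rtrace C e w χ : ℂ) := by
  classical
  simp_rw [two_pow_contrib_eq hM C e he w χ]
  rw [Finset.sum_comm]
  simp_rw [Finset.sum_comm (s := (Finset.univ : Finset (ZMod N)ˣ))]
  simp_rw [← Finset.mul_sum]
  obtain ⟨j, hj⟩ := hw2
  have hR : ∀ ζ ζ' : IrrCharacter C, ∑ u : (ZMod N)ˣ, expEps C w ζ ζ' ^ (u : ZMod N).val =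
      (Fintype.card (ZMod N)ˣ : ℂ) * (rVal (expEps C w ζ ζ') : ℂ) := by
    intro ζ ζ'
    exact sum_units_pow_two N (expEps C w ζ ζ') (expEps_pow_eq_one C w N hwN ζ ζ')
      ⟨j, expEps_pow_eq_one C w _ hj ζ ζ'⟩
  simp_rw [hR]
  unfold rtrace
  push_cast
  rw [Finset.mul_sum]
  apply Finset.sum_congr rfl
  intro ζ _
  rw [Finset.mul_sum]
  apply Finset.sum_congr rfl
  intro ζ' _
  ring

end formula

end Cfsg.Agent.Lib.Helper1.TwoMaj
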