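/-
helper1: S4540 assembly (`p = 2`, major subsection `(z, b)` with `l(b) ≤ 3`:
`3 k(B) ≤ 3 k₀(B) + 2 ∑_{h(χ) ≥ 1} 2^{h(χ)} ≤ 3 · 2^d`).
Leaves (see `notes/S4540_leaves.lean`): helper9 (Z), helper23 (LI, BL), helper22 (A), helper24 (BI);
twins by helper20 (LI), helper18 (BL), helper22 (BI).  On helper23's contribution library
(`Subsec*`, `MajSubOM`, `MajSubH5`, `MajSubLI`) built for S4539 (planner helper27).

Math.  `T(χ) = rtrace` = the normalized Galois trace of `2^d μ_{χχ}` (an integer).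
(A) `∑ T = 2^d l(b)`; (B) `∑ 4^h ≤ 2^d T(χ₀)` for `χ₀` of height zero; (C) `2^(h+1) ∣ T(ψ)` for `ψ` of
height `h ≥ 1` (a real element of `ℤ[ω]` in the local ideal has even rational part); (D) `T(χ)` odd for
height zero; (P) `T > 0`.  Endgame `arith_bound`.
-/
import Cfsg.Agent.Lib.Helper1.TwoMajDefs
import Cfsg.Agent.Lib.Helper1.TwoMajArith
import Cfsg.Agent.Lib.Helper9.TwoMajZ
import Cfsg.Agent.Lib.Helper23.TwoMajLI
import Cfsg.Agent.Lib.Helper22.TwoMajA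
import Cfsg.Agent.Lib.Helper24.TwoMajBI
import Cfsg.Agent.Lib.Helper23.MajSubH5
import Cfsg.Agent.Lib.Helper23.SubsecH
import Cfsg.Agent.Lib.Helper6.DefectOrder

set_option autoImplicit false

namespace Cfsg.Agent.Lib.Helper1.TwoMajMain

open Cfsg Cfsg.Agent.CharLib Cfsg.Agent.Lib.Helper24 Cfsg.Agent.Lib.Helper6 Cfsg.Agent.Lib.Helper23
open Cfsg.Agent.Lib.Helper23.Subsec Cfsg.Agent.Lib.Helper27.MajSub
open Cfsg.Agent.Lib.Helper1.TwoMaj
open scoped ComplexConjugate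

universe u w

/-! ## ASSEMBLY (helper1) -/
section ASM

variable {G : Type u} [Group G] [Fintype G] {M : Ideal AlgInt}

/-- (C) the normalized trace of a character of height `h ≥ 1` is divisible by `2^(h+1)`. -/
theorem two_pow_succ_dvd_rtrace (hM : IsPModular 2 M) (z : G) (hz : ∃ k : ℕ, orderOf z = 2 ^ k)
    (C : Subgroup G) [Fintype C] [Fintype (IrrCharacter C)]
    (hC : C = Subgroup.centralizer ({z} : Set G)) (B : Set (IrrCharacter G))
    (e : Set (IrrCharacter C)) (hind : IsInducedBlock M C e B)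
    (hdef : blockDefect 2 e = blockDefect 2 B) (w : Subgroup.center C)
    (hwz : ((w : C) : G) = z) (ψ : IrrCharacter G) (hψ : ψ ∈ B)
    (hψ1 : 1 ≤ blockHeight 2 B (ψ : G → ℂ)) :
    (2 : ℤ) ^ (blockHeight 2 B (ψ : G → ℂ) + 1) ∣ rtrace C e w ψ := by
  have hLI := Cfsg.Agent.Lib.Helper23.TwoMajLI.contrib_diag_memLocalIdeal (p := 2) hM z hz C hC B e hind hdef ψ hψ hψ1
  have hform := two_pow_contrib_eq hM C e hind.1 w ψ 1
  rw [pow_one, hwz] at hform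
  obtain ⟨k₀, hk₀⟩ := hz
  have hw2 : w ^ (2 ^ k₀) = 1 := by
    apply Subtype.ext
    apply Subtype.ext
    simp only [SubmonoidClass.coe_pow, OneMemClass.coe_one]
    rw [hwz, ← hk₀, pow_orderOf_eq_one]
  unfold rtrace
  apply Cfsg.Agent.Lib.Helper9.TwoMajZ.two_pow_succ_dvd_rsum hM (expA C e ψ) (expEps C w) (expA_symm C e ψ)
    (fun ζ ζ' => expEps_symm C w ζ ζ') k₀ (fun ζ ζ' => expEps_pow_eq_one C w _ hw2 ζ ζ')
  have h1 : (∑ ζ : IrrCharacter C, ∑ ζ' : IrrCharacter C,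
      (expA C e ψ ζ ζ' : ℂ) * expEps C w ζ ζ') =
      (2 : ℂ) ^ blockDefect 2 B * contrib 2 C e z ψ ψ := by
    rw [← hdef, hform]
    apply Finset.sum_congr rfl
    intro ζ _
    apply Finset.sum_congr rfl
    intro ζ' _
    rw [pow_one]
  rw [h1]
  exact_mod_cast hLI

/-- (D) the normalized trace of a character of height zero is odd. -/
theorem odd_rtrace (hM : IsPModular 2 M) (C : Subgroup G) [Fintype C] [Fintype (IrrCharacter C)]
    (e : Set (IrrCharacter C)) (B : Set (IrrCharacter G)) (hind : IsInducedBlock M C e B)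
    (w : Subgroup.center C) (hw2 : ∃ j : ℕ, w ^ (2 ^ j) = 1) (χ : IrrCharacter G) (hχ : χ ∈ B)
    (hχ0 : blockHeight 2 B (χ : G → ℂ) = 0) : Odd (rtrace C e w χ) := by
  obtain ⟨j, hj⟩ := hw2
  set N := 2 ^ j with hN
  have : NeZero N := ⟨by rw [hN]; positivity⟩
  obtain ⟨K, _, _, _, ⟨φ⟩⟩ := exists_cyclotomic_field N
  have : FiniteDimensional ℚ K := IsCyclotomicExtension.finiteDimensional {N} ℚ K
  obtain ⟨x, hxodd, hx⟩ := exists_odd_trace hM N K C e B hind w hj ⟨j, hj⟩ χ hχ hχ0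
  have h2 := sum_gal_contrib_eq hM N K C e hind.1 w hj ⟨j, hj⟩ χ
  rw [hx] at h2
  have hcard : (Fintype.card (K ≃ₐ[ℚ] K) : ℂ) ≠ 0 :=
    Nat.cast_ne_zero.mpr Fintype.card_ne_zero
  have h3 : (x : ℂ) = (rtrace C e w χ : ℂ) := mul_left_cancel₀ hcard h2
  have h4 : x = rtrace C e w χ := by exact_mod_cast h3
  rw [← h4]
  exact hxodd

/-- (B) for `χ₀` of height zero: `∑ 4^h ≤ 2^d T(χ₀)`. -/
theorem sum_four_pow_le (hM : IsPModular 2 M) (z : G) (hz : ∃ k : ℕ, orderOf z = 2 ^ k)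
    (C : Subgroup G) [Fintype C] [Fintype (IrrCharacter C)]
    (hC : C = Subgroup.centralizer ({z} : Set G))
    (B : Set (IrrCharacter G)) (hB : IsPBlock M B) [Fintype (IrrCharacter G)]
    [DecidablePred (· ∈ B)] (ψ₀ : IrrCharacter C)
    (hind : IsInducedBlock M C (blockOf M (ψ₀ : C → ℂ)) B)
    (hdef : blockDefect 2 (blockOf M (ψ₀ : C → ℂ)) = blockDefect 2 B)
    (w : Subgroup.center C) (hwz : ((w : C) : G) = z) (χ₀ : IrrCharacter G) (hχ₀ : χ₀ ∈ B)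
    (h0 : blockHeight 2 B (χ₀ : G → ℂ) = 0) :
    ∑ ψ ∈ Finset.univ.filter (· ∈ B), (4 : ℤ) ^ blockHeight 2 B (ψ : G → ℂ) ≤
      (2 : ℤ) ^ blockDefect 2 B * rtrace C (blockOf M (ψ₀ : C → ℂ)) w χ₀ := by
  set e := blockOf M (ψ₀ : C → ℂ) with he
  set N := Nat.card G with hN
  have : NeZero N := ⟨Nat.card_pos.ne'⟩
  have hzN : z ^ N = 1 := by rw [hN]; exact pow_card_eq_one'
  have hBI := Cfsg.Agent.Lib.Helper24.TwoMajBI.sum_sum_normSq_eq hM z hz N hzN C hC B hB ψ₀ hind w hwz χ₀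
  have hBL : ∀ ψ ∈ Finset.univ.filter (· ∈ B),
      (Fintype.card (ZMod N)ˣ : ℝ) * (4 : ℝ) ^ blockHeight 2 B (ψ : G → ℂ) ≤
      ∑ u : (ZMod N)ˣ, ‖(2 : ℂ) ^ blockDefect 2 e * contrib 2 C e (z ^ (u : ZMod N).val) χ₀ ψ‖ ^ 2 := by
    intro ψ hψ
    rw [Finset.mem_filter] at hψ
    exact Cfsg.Agent.Lib.Helper23.TwoMajLI.card_units_mul_four_pow_le hM z hz N hzN C hC B e hind hdef χ₀ ψ hχ₀ h0 hψ.2
  have h1 := Finset.sum_le_sum hBL
  rw [hBI, ← Finset.mul_sum, hdef] at h1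
  have hU : (0 : ℝ) < (Fintype.card (ZMod N)ˣ : ℝ) := by exact_mod_cast Fintype.card_pos
  have h2 : (Fintype.card (ZMod N)ˣ : ℝ) *
      ∑ ψ ∈ Finset.univ.filter (· ∈ B), (4 : ℝ) ^ blockHeight 2 B (ψ : G → ℂ) ≤
      (Fintype.card (ZMod N)ˣ : ℝ) * ((2 : ℝ) ^ blockDefect 2 B * (rtrace C e w χ₀ : ℝ)) := by
    linarith
  have h3 := le_of_mul_le_mul_left h2 hU
  have h4 : ((∑ ψ ∈ Finset.univ.filter (· ∈ B), (4 : ℤ) ^ blockHeight 2 B (ψ : G → ℂ) : ℤ) : ℝ) ≤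
      (((2 : ℤ) ^ blockDefect 2 B * rtrace C e w χ₀ : ℤ) : ℝ) := by
    push_cast
    exact h3
  exact_mod_cast h4

/-- (P) the normalized traces of the members of `B` are positive. -/
theorem rtrace_pos (hM : IsPModular 2 M) (z : G) (hz : ∃ k : ℕ, orderOf z = 2 ^ k)
    (C : Subgroup G) [Fintype C] [Fintype (IrrCharacter C)]
    (hC : C = Subgroup.centralizer ({z} : Set G))
    (B : Set (IrrCharacter G)) (hB : IsPBlock M B) [Fintype (IrrCharacter G)]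
    [DecidablePred (· ∈ B)] (ψ₀ : IrrCharacter C)
    (hind : IsInducedBlock M C (blockOf M (ψ₀ : C → ℂ)) B)
    (hdef : blockDefect 2 (blockOf M (ψ₀ : C → ℂ)) = blockDefect 2 B)
    (w : Subgroup.center C) (hwz : ((w : C) : G) = z) (χ₀ : IrrCharacter G) (hχ₀ : χ₀ ∈ B)
    (h0 : blockHeight 2 B (χ₀ : G → ℂ) = 0) (ψ : IrrCharacter G) (hψ : ψ ∈ B) :
    0 < rtrace C (blockOf M (ψ₀ : C → ℂ)) w ψ := by
  set e := blockOf M (ψ₀ : C → ℂ) with he
  set N := Nat.card G with hN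
  have : NeZero N := ⟨Nat.card_pos.ne'⟩
  have hzN : z ^ N = 1 := by rw [hN]; exact pow_card_eq_one'
  have hBI := Cfsg.Agent.Lib.Helper24.TwoMajBI.sum_sum_normSq_eq hM z hz N hzN C hC B hB ψ₀ hind w hwz ψ
  have hBL := Cfsg.Agent.Lib.Helper23.TwoMajLI.card_units_mul_four_pow_le hM z hz N hzN C hC B e hind hdef χ₀ ψ hχ₀ h0 hψ
  have hU : (0 : ℝ) < (Fintype.card (ZMod N)ˣ : ℝ) := by exact_mod_cast Fintype.card_pos
  have hmem : χ₀ ∈ Finset.univ.filter (· ∈ B) := by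
    rw [Finset.mem_filter]; exact ⟨Finset.mem_univ _, hχ₀⟩
  have h1 : ∑ u : (ZMod N)ˣ,
      ‖(2 : ℂ) ^ blockDefect 2 e * contrib 2 C e (z ^ (u : ZMod N).val) ψ χ₀‖ ^ 2 ≤
      ∑ χ ∈ Finset.univ.filter (· ∈ B), ∑ u : (ZMod N)ˣ,
        ‖(2 : ℂ) ^ blockDefect 2 e * contrib 2 C e (z ^ (u : ZMod N).val) ψ χ‖ ^ 2 :=
    Finset.single_le_sum (f := fun χ => ∑ u : (ZMod N)ˣ,
        ‖(2 : ℂ) ^ blockDefect 2 e * contrib 2 C e (z ^ (u : ZMod N).val) ψ χ‖ ^ 2)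
      (fun χ _ => Finset.sum_nonneg (fun u _ => by positivity)) hmem
  have h2 : ∑ u : (ZMod N)ˣ,
      ‖(2 : ℂ) ^ blockDefect 2 e * contrib 2 C e (z ^ (u : ZMod N).val) ψ χ₀‖ ^ 2 =
      ∑ u : (ZMod N)ˣ,
      ‖(2 : ℂ) ^ blockDefect 2 e * contrib 2 C e (z ^ (u : ZMod N).val) χ₀ ψ‖ ^ 2 := by
    apply Finset.sum_congr rfl
    intro u _
    rw [← contrib_conj C e _ χ₀ ψ, norm_mul, norm_mul, Complex.norm_conj]
  rw [h2] at h1
  rw [hBI] at h1
  have h3 : (0 : ℝ) < (Fintype.card (ZMod N)ˣ : ℝ) * (4 : ℝ) ^ blockHeight 2 B (ψ : G → ℂ) := by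
    positivity
  have h4 : (0 : ℝ) < (2 : ℝ) ^ blockDefect 2 e *
      ((Fintype.card (ZMod N)ˣ : ℝ) * (rtrace C e w ψ : ℝ)) := by linarith
  have h5 : (0 : ℝ) < (rtrace C e w ψ : ℝ) := by
    by_contra hcon
    push Not at hcon
    have h6 : (2 : ℝ) ^ blockDefect 2 e *
        ((Fintype.card (ZMod N)ˣ : ℝ) * (rtrace C e w ψ : ℝ)) ≤ 0 := by
      apply mul_nonpos_of_nonneg_of_nonpos (by positivity)
      exact mul_nonpos_of_nonneg_of_nonpos hU.le hcon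
    linarith
  exact_mod_cast h5

/-- **S4540, main form** (sums over the finset of the members of `B`). -/
theorem two_major_bound (hM : IsPModular 2 M) (z : G) (hz : ∃ k : ℕ, orderOf z = 2 ^ k)
    (B : Set (IrrCharacter G)) (hB : IsPBlock M B)
    (b : Set (IrrCharacter (Subgroup.centralizer ({z} : Set G))))
    (hind : IsInducedBlock M (Subgroup.centralizer ({z} : Set G)) b B)
    (hdef : blockDefect 2 b = blockDefect 2 B) (hl : blockRank 2 b ≤ 3)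
    [Fintype (IrrCharacter G)] [DecidablePred (· ∈ B)] :
    3 * (((Finset.univ.filter (· ∈ B)).filter
        (fun χ : IrrCharacter G => blockHeight 2 B (χ : G → ℂ) = 0)).card : ℤ) +
      2 * ∑ χ ∈ (Finset.univ.filter (· ∈ B)).filter
        (fun χ : IrrCharacter G => 1 ≤ blockHeight 2 B (χ : G → ℂ)),
          (2 : ℤ) ^ blockHeight 2 B (χ : G → ℂ) ≤ 3 * (2 : ℤ) ^ blockDefect 2 B := by
  classical
  have hprime : M.IsPrime := isPrime_of_isPModular hM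
  set C := Subgroup.centralizer ({z} : Set G) with hCdef
  let _ : Fintype C := Fintype.ofFinite C
  let _ := fintypeIrr C
  obtain ⟨ψ₀, hb⟩ := hind.1
  subst hb
  set e := blockOf M (ψ₀ : C → ℂ) with he
  -- the central element
  have hzC : z ∈ C := Subgroup.mem_centralizer_singleton_iff.mpr rfl
  have hcen : (⟨z, hzC⟩ : C) ∈ Subgroup.center C := by
    rw [Subgroup.mem_center_iff]
    intro g
    apply Subtype.ext
    exact Subgroup.mem_centralizer_singleton_iff.mp g.2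
  set w : Subgroup.center C := ⟨⟨z, hzC⟩, hcen⟩ with hw
  have hwz : ((w : C) : G) = z := rfl
  have hw2 : ∃ j : ℕ, w ^ (2 ^ j) = 1 := by
    obtain ⟨k₀, hk₀⟩ := hz
    refine ⟨k₀, ?_⟩
    apply Subtype.ext
    apply Subtype.ext
    simp only [hw, SubmonoidClass.mk_pow, OneMemClass.coe_one]
    rw [← hk₀, pow_orderOf_eq_one]
  -- a character of height zero
  have hBne : B.Nonempty := by
    obtain ⟨χ₁, rfl⟩ := hB
    exact ⟨χ₁, mem_blockOf_self χ₁⟩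
  obtain ⟨χ₀, hχ₀, hχ₀min⟩ := exists_minVal (p := 2) hBne
  have hχ₀0 : blockHeight 2 B (χ₀ : G → ℂ) = 0 := (blockHeight_eq_zero_iff hχ₀).mpr hχ₀min
  have hmemB : ∀ χ ∈ Finset.univ.filter (· ∈ B), χ ∈ B := by
    intro χ hχ
    rw [Finset.mem_filter] at hχ
    exact hχ.2
  apply Cfsg.Agent.Lib.Helper1.TwoMajArith.arith_bound (Finset.univ.filter (· ∈ B))
    (fun χ : IrrCharacter G => blockHeight 2 B (χ : G → ℂ)) (fun χ => rtrace C e w χ)
    (blockDefect 2 B) (blockRank 2 e) hl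
  · rw [← hdef]
    exact Cfsg.Agent.Lib.Helper22.TwoMajA.sum_rtrace_eq hM z hz C rfl B hB ψ₀ hind w hwz
  · intro χ hχ hχ0
    exact sum_four_pow_le hM z hz C rfl B hB ψ₀ hind hdef w hwz χ (hmemB χ hχ) hχ0
  · intro ψ hψ hψ1
    exact two_pow_succ_dvd_rtrace hM z hz C rfl B e hind hdef w hwz ψ (hmemB ψ hψ) hψ1
  · intro χ hχ hχ0
    exact odd_rtrace hM C e B hind w hw2 χ (hmemB χ hχ) hχ0
  · intro ψ hψ
    exact rtrace_pos hM z hz C rfl B hB ψ₀ hind hdef w hwz χ₀ hχ₀ hχ₀0 ψ (hmemB ψ hψ)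

/-- the frozen statement S4540 from `two_major_bound` -/
theorem result_S4540 {G : Type*} [Group G] [Finite G] (M : Ideal Cfsg.AlgInt)
    (hM : Cfsg.IsPModular 2 M) (B : Set (Cfsg.IrrCharacter G)) (hB : Cfsg.IsPBlock M B)
    (D : Subgroup G) (hD : Cfsg.IsDefectGroup 2 M B D) (z : G) (hzD : z ∈ D)
    (hzc : ∀ d ∈ D, d * z = z * d)
    (b : Set (Cfsg.IrrCharacter ↥(Subgroup.centralizer ({z} : Set G))))
    (hb : Cfsg.IsInducedBlock M (Subgroup.centralizer ({z} : Set G)) b B)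
    (hbD : Cfsg.IsDefectGroup 2 M b (D.subgroupOf (Subgroup.centralizer ({z} : Set G))))
    (hl : Cfsg.blockRank 2 b ≤ 3) :
    3 * Nat.card B ≤ 3 * Nat.card {χ : Cfsg.IrrCharacter G // χ ∈ B ∧
        Cfsg.blockHeight 2 B (χ : G → ℂ) = 0} +
      2 * (∑ᶠ χ ∈ {χ : Cfsg.IrrCharacter G | χ ∈ B ∧ 1 ≤ Cfsg.blockHeight 2 B (χ : G → ℂ)},
        2 ^ Cfsg.blockHeight 2 B (χ : G → ℂ)) ∧
    3 * Nat.card {χ : Cfsg.IrrCharacter G // χ ∈ B ∧ Cfsg.blockHeight 2 B (χ : G → ℂ) = 0} +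
      2 * (∑ᶠ χ ∈ {χ : Cfsg.IrrCharacter G | χ ∈ B ∧ 1 ≤ Cfsg.blockHeight 2 B (χ : G → ℂ)},
        2 ^ Cfsg.blockHeight 2 B (χ : G → ℂ)) ≤ 3 * 2 ^ Cfsg.blockDefect 2 B := by
  classical
  let _ : Fintype G := Fintype.ofFinite G
  let _ := fintypeIrr G
  have hp : (2 : ℕ).Prime := Nat.prime_two
  -- `z` is a `2`-element
  have hDp : IsPGroup 2 D := by
    obtain ⟨g, -, S, hS⟩ := hD
    rw [hS]
    exact S.isPGroup'.map _
  have hz : ∃ k : ℕ, orderOf z = 2 ^ k := by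
    obtain ⟨k, hk⟩ := hDp ⟨z, hzD⟩
    have h1 : z ^ 2 ^ k = 1 := by
      have := congrArg Subtype.val hk
      simpa using this
    have h2 : orderOf z ∣ 2 ^ k := orderOf_dvd_of_pow_eq_one h1
    obtain ⟨j, -, hj⟩ := (Nat.dvd_prime_pow hp).mp h2
    exact ⟨j, hj⟩
  -- equal defects
  have hDC : D ≤ Subgroup.centralizer ({z} : Set G) := by
    intro x hx
    rw [Subgroup.mem_centralizer_singleton_iff]
    exact hzc x hx
  have hc1 := card_defectGroup_eq hM B hB D hD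
  have hc2 := card_defectGroup_eq hM b hb.1 _ hbD
  have hc3 : Nat.card (D.subgroupOf (Subgroup.centralizer ({z} : Set G))) = Nat.card D :=
    Nat.card_congr (Subgroup.subgroupOfEquivOfLe hDC).toEquiv
  have hdef : blockDefect 2 b = blockDefect 2 B := by
    rw [hc3, hc1] at hc2
    exact (Nat.pow_right_injective hp.two_le hc2).symm
  have hmain := two_major_bound hM z hz B hB b hb hdef hl
  -- the finsets
  set Bf := Finset.univ.filter (fun χ : IrrCharacter G => χ ∈ B) with hBf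
  set S0 := Bf.filter (fun χ : IrrCharacter G => blockHeight 2 B (χ : G → ℂ) = 0) with hS0
  set S1 := Bf.filter (fun χ : IrrCharacter G => 1 ≤ blockHeight 2 B (χ : G → ℂ)) with hS1
  have hcardB : Nat.card B = Bf.card := by
    rw [Nat.card_eq_fintype_card, Fintype.card_subtype]
  have hcard0 : Nat.card {χ : IrrCharacter G // χ ∈ B ∧ blockHeight 2 B (χ : G → ℂ) = 0} =
      S0.card := by
    rw [Nat.card_eq_fintype_card, Fintype.card_subtype, hS0, hBf, Finset.filter_filter]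
  have hfs : (∑ᶠ χ ∈ {χ : IrrCharacter G | χ ∈ B ∧ 1 ≤ blockHeight 2 B (χ : G → ℂ)},
      2 ^ blockHeight 2 B (χ : G → ℂ)) = ∑ χ ∈ S1, 2 ^ blockHeight 2 B (χ : G → ℂ) := by
    have hset : {χ : IrrCharacter G | χ ∈ B ∧ 1 ≤ blockHeight 2 B (χ : G → ℂ)} =
        ((S1 : Finset (IrrCharacter G)) : Set (IrrCharacter G)) := by
      ext χ
      simp [hS1, hBf]
    rw [hset, finsum_mem_coe_finset]
  have hsplit : Bf.card = S0.card + S1.card := by
    rw [hS0, hS1]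
    rw [← Finset.card_filter_add_card_filter_not (s := Bf)
      (fun χ : IrrCharacter G => blockHeight 2 B (χ : G → ℂ) = 0)]
    congr 2
    apply Finset.filter_congr
    intro χ _
    omega
  have h31 : 3 * S1.card ≤ 2 * ∑ χ ∈ S1, 2 ^ blockHeight 2 B (χ : G → ℂ) := by
    rw [Finset.mul_sum]
    have : 3 * S1.card = ∑ _χ ∈ S1, 3 := by
      rw [Finset.sum_const, smul_eq_mul, mul_comm]
    rw [this]
    apply Finset.sum_le_sum
    intro χ hχ
    rw [hS1, Finset.mem_filter] at hχ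
    have h1 : 2 ^ 1 ≤ 2 ^ blockHeight 2 B (χ : G → ℂ) := Nat.pow_le_pow_right (by norm_num) hχ.2
    omega
  rw [hcardB, hcard0, hfs, hsplit]
  refine ⟨by omega, ?_⟩
  have h4 : ((3 * S0.card + 2 * ∑ χ ∈ S1, 2 ^ blockHeight 2 B (χ : G → ℂ) : ℕ) : ℤ) ≤
      ((3 * 2 ^ blockDefect 2 B : ℕ) : ℤ) := by
    push_cast
    exact hmain
  exact_mod_cast h4

end ASM

end Cfsg.Agent.Lib.Helper1.TwoMajMain
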