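/-
helper1: S4540 leaf (Z), SPARE twin of `Cfsg.Agent.Lib.Helper9.TwoMajZ` (same statement): a real element
`u = ∑ A ε` of `ℤ[ω]` (`ω` a 2-power root of unity) with `u / 2^h` in the local ideal has
`2^(h+1) ∣ ∑ A rVal(ε)`.  Elementary `π`-adic chain (`π = 1 - ω`), uniqueness of coordinates via the
cyclotomic polynomial, realness via the conjugate polynomial.
-/
import Mathlib
import Cfsg.Agent.Lib.Helper23.SubsecG
import Cfsg.Agent.Lib.Helper6.Osima
import Cfsg.Agent.Lib.Helper6.BrouePuig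
import Cfsg.Agent.Lib.Helper24.KernelInduced

set_option autoImplicit false
set_option linter.unusedVariables false

namespace Cfsg.Agent.Lib.Helper1.TwoMajZ

open Cfsg Cfsg.Agent.CharLib Cfsg.Agent.Lib.Helper24 Cfsg.Agent.Lib.Helper6 Cfsg.Agent.Lib.Helper23
open Cfsg.Agent.Lib.Helper23.Subsec
open Polynomial
open scoped ComplexConjugate

variable {M : Ideal AlgInt}

/-- (L1) `f(ω) = f(1) + (ω - 1) q(ω)`. -/
theorem aeval_eq_eval_one_add (ω : ℂ) (f : ℤ[X]) :
    ∃ q : ℤ[X], aeval ω f = ((f.eval 1 : ℤ) : ℂ) + (ω - 1) * aeval ω q := by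
  obtain ⟨q, hq⟩ := X_sub_C_dvd_sub_C_eval (a := (1 : ℤ)) (p := f)
  refine ⟨q, ?_⟩
  have h := congrArg (aeval ω) hq
  simp only [map_sub, map_mul, aeval_X, aeval_C, map_one] at h
  have h2 : (algebraMap ℤ ℂ) (eval 1 f) = ((f.eval 1 : ℤ) : ℂ) := rfl
  rw [h2] at h
  linear_combination h

/-- values of integer polynomials at a root of unity are local integers -/
theorem memLocalRing_aeval [hp : M.IsPrime] (ω : ℂ) (hω : IsIntegral ℤ ω) (f : ℤ[X]) :
    MemLocalRing M (aeval ω f) := by
  have h1 : IsIntegral ℤ (aeval ω f) := by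
    have : aeval ω f ∈ Algebra.adjoin ℤ {ω} := by
      rw [Algebra.adjoin_singleton_eq_range_aeval]
      exact ⟨f, rfl⟩
    exact IsIntegral.of_mem_of_fg _ (hω.fg_adjoin_singleton) _ this
  exact memLocalRing_of_algInt (M := M) ⟨aeval ω f, h1⟩ hp.one_notMem

theorem even_of_memLocalIdeal_intCast (hM : IsPModular 2 M) (a : ℤ)
    (h : MemLocalIdeal M (a : ℂ)) : Even a := by
  have hprime : M.IsPrime := isPrime_of_isPModular hM
  by_contra hodd
  rw [Int.not_even_iff_odd] at hodd
  obtain ⟨k, hk⟩ := hodd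
  have h2 : MemLocalIdeal M ((2 : ℂ) * (k : ℂ)) := by
    apply memLocalIdeal_mul_right _ (memLocalRing_intCast k)
    have := memLocalIdeal_natCast_of_dvd hM (dvd_refl 2)
    simpa using this
  have h3 : MemLocalIdeal M ((a : ℂ) - 2 * (k : ℂ)) := memLocalIdeal_sub h h2
  have h4 : (a : ℂ) - 2 * (k : ℂ) = 1 := by
    rw [hk]; push_cast; ring
  rw [h4] at h3
  exact not_memLocalIdeal_one h3

theorem memLocalIdeal_intCast_of_even (hM : IsPModular 2 M) (a : ℤ) (h : Even a) :
    MemLocalIdeal M (a : ℂ) := by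
  have hprime : M.IsPrime := isPrime_of_isPModular hM
  obtain ⟨k, hk⟩ := h
  have h2 : MemLocalIdeal M ((2 : ℂ) * (k : ℂ)) := by
    apply memLocalIdeal_mul_right _ (memLocalRing_intCast k)
    have := memLocalIdeal_natCast_of_dvd hM (dvd_refl 2)
    simpa using this
  have h4 : (a : ℂ) = 2 * (k : ℂ) := by
    rw [hk]; push_cast; ring
  rw [h4]
  exact h2

section root

variable (s : ℕ) (ω : ℂ) (hω : ω ^ (2 ^ s) = -1)
include hω

theorem pow_two_pow_succ_eq_one : ω ^ (2 ^ (s + 1)) = 1 := by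
  rw [pow_succ, pow_mul, hω]; norm_num

theorem isIntegral_root : IsIntegral ℤ ω := by
  apply IsIntegral.of_pow (n := 2 ^ (s + 1)) (by positivity)
  rw [pow_two_pow_succ_eq_one s ω hω]
  exact isIntegral_one

/-- (L2) -/
theorem memLocalIdeal_root_sub_one (hM : IsPModular 2 M) : MemLocalIdeal M (ω - 1) :=
  BrouePuig.memLocalIdeal_sub_one_of_pow_eq_one (p := 2) hM (k := s + 1) (pow_two_pow_succ_eq_one s ω hω)

/-- (L3) -/
theorem memLocalIdeal_aeval_iff (hM : IsPModular 2 M) (f : ℤ[X]) :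
    MemLocalIdeal M (aeval ω f) ↔ Even (f.eval 1) := by
  have hprime : M.IsPrime := isPrime_of_isPModular hM
  obtain ⟨q, hq⟩ := aeval_eq_eval_one_add ω f
  have hπ := memLocalIdeal_root_sub_one s ω hω hM
  have h1 : MemLocalIdeal M ((ω - 1) * aeval ω q) :=
    memLocalIdeal_mul_right hπ (memLocalRing_aeval ω (isIntegral_root s ω hω) q)
  constructor
  · intro h
    apply even_of_memLocalIdeal_intCast hM
    have := memLocalIdeal_sub h h1
    rw [hq, add_sub_cancel_right] at this
    exact this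
  · intro h
    rw [hq]
    exact memLocalIdeal_add (memLocalIdeal_intCast_of_even hM _ h) h1

/-- (L4) -/
theorem one_sub_mul_geom : (1 - ω) * aeval ω (∑ l ∈ Finset.range (2 ^ s), (X : ℤ[X]) ^ l) = 2 := by
  rw [map_sum]
  simp only [map_pow, aeval_X]
  have := mul_neg_geom_sum ω (2 ^ s)
  rw [hω] at this
  rw [this]; norm_num

/-- (L5) -/
theorem exists_eq_one_sub_mul (hM : IsPModular 2 M) (f : ℤ[X]) (h : MemLocalIdeal M (aeval ω f)) :
    ∃ g : ℤ[X], aeval ω f = (1 - ω) * aeval ω g := by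
  obtain ⟨q, hq⟩ := aeval_eq_eval_one_add ω f
  obtain ⟨k, hk⟩ := (memLocalIdeal_aeval_iff s ω hω hM f).mp h
  refine ⟨C k * (∑ l ∈ Finset.range (2 ^ s), (X : ℤ[X]) ^ l) - q, ?_⟩
  rw [map_sub, map_mul, mul_sub, ← mul_assoc, mul_comm (1 - ω) (aeval ω (C k)), mul_assoc,
    one_sub_mul_geom s ω hω, hq, hk, aeval_C]
  have : (algebraMap ℤ ℂ) k = (k : ℂ) := rfl
  rw [this]
  push_cast
  ring

end root

/-- (L6) freshman's dream with the odd correction term -/
theorem exists_one_sub_pow (s : ℕ) :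
    ∃ g : ℤ[X], (1 - X : ℤ[X]) ^ (2 ^ s) = 1 + X ^ (2 ^ s) + 2 * g ∧ Odd (g.eval 1) := by
  induction s with
  | zero =>
    refine ⟨-X, ?_, ?_⟩
    · simp only [pow_zero, pow_one]; ring
    · simp
  | succ s ih =>
    obtain ⟨g, hg, hodd⟩ := ih
    refine ⟨X ^ (2 ^ s) + 2 * g * (1 + X ^ (2 ^ s)) + 2 * g ^ 2, ?_, ?_⟩
    · rw [pow_succ, pow_mul, hg]
      ring
    · simp only [eval_add, eval_mul, eval_pow, eval_X, one_pow, eval_ofNat, eval_one]
      obtain ⟨k, hk⟩ := hodd
      rw [hk]
      exact ⟨2 * (2 * k + 1) + (2 * k + 1) ^ 2, by ring⟩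


section half

variable (s : ℕ) (ω : ℂ) (hω : ω ^ (2 ^ s) = -1)
include hω

theorem one_sub_pow_eq (g : ℤ[X]) (hg : (1 - X : ℤ[X]) ^ (2 ^ s) = 1 + X ^ (2 ^ s) + 2 * g) :
    (1 - ω) ^ (2 ^ s) = 2 * aeval ω g := by
  have h := congrArg (aeval ω) hg
  simp only [map_pow, map_sub, map_one, aeval_X, map_add, map_mul] at h
  rw [hω] at h
  rw [h]
  have : (aeval ω) (2 : ℤ[X]) = (2 : ℂ) := by
    have : (2 : ℤ[X]) = C 2 := rfl
    rw [this, aeval_C]; rfl
  rw [this]; ring

/-- (L7) the `π`-adic chain: a value of an integer polynomial at `ω` which is divisible by `2` in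
the local ring is twice such a value. -/
theorem exists_half (hM : IsPModular 2 M) (f : ℤ[X]) (h : MemLocalRing M (aeval ω f / 2)) :
    ∃ f' : ℤ[X], aeval ω f = 2 * aeval ω f' := by
  have hprime : M.IsPrime := isPrime_of_isPModular hM
  have hint := isIntegral_root s ω hω
  obtain ⟨g, hg, hgodd⟩ := exists_one_sub_pow s
  have hpow := one_sub_pow_eq s ω hω g hg
  have hπ : MemLocalIdeal M (1 - ω) := by
    have := memLocalIdeal_neg (memLocalIdeal_root_sub_one s ω hω hM)
    rwa [neg_sub] at this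
  have hπR : MemLocalRing M (1 - ω) := memLocalRing_of_memLocalIdeal hπ
  have hπpow : ∀ k : ℕ, MemLocalRing M ((1 - ω) ^ k) := by
    intro k
    induction k with
    | zero => rw [pow_zero]; exact memLocalRing_of_algInt (M := M) 1 hprime.one_notMem
    | succ k ih => rw [pow_succ]; exact memLocalRing_mul ih hπR
  have key : ∀ j : ℕ, j ≤ 2 ^ s → ∃ v r : ℤ[X],
      aeval ω f = (1 - ω) ^ j * aeval ω v + 2 * aeval ω r := by
    intro j
    induction j with
    | zero =>
      intro _
      exact ⟨f, 0, by simp⟩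
    | succ j ih =>
      intro hj
      obtain ⟨v, r, hvr⟩ := ih (by omega)
      have hv : MemLocalIdeal M (aeval ω v) := by
        by_contra hnot
        have hvR := memLocalRing_aeval (M := M) ω hint v
        have hA : MemLocalRing M ((1 - ω) ^ j * aeval ω v / 2) := by
          have : (1 - ω) ^ j * aeval ω v / 2 = aeval ω f / 2 - aeval ω r := by
            rw [hvr]; ring
          rw [this]
          exact memLocalRing_sub h (memLocalRing_aeval ω hint r)
        have hvinv : MemLocalRing M (aeval ω v)⁻¹ := memLocalRing_inv hvR hnot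
        have hv0 : aeval ω v ≠ 0 := by
          intro h0
          apply hnot
          rw [h0]
          exact memLocalIdeal_zero hprime.one_notMem
        have hB : MemLocalRing M ((1 - ω) ^ j / 2) := by
          have : (1 - ω) ^ j / 2 = ((1 - ω) ^ j * aeval ω v / 2) * (aeval ω v)⁻¹ := by
            field_simp
          rw [this]
          exact memLocalRing_mul hA hvinv
        have hC : MemLocalIdeal M ((1 - ω) ^ (2 ^ s) / 2) := by
          obtain ⟨k, hk⟩ : ∃ k, 2 ^ s = (k + 1) + j := ⟨2 ^ s - j - 1, by omega⟩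
          have : (1 - ω) ^ (2 ^ s) / 2 = ((1 - ω) * (1 - ω) ^ k) * ((1 - ω) ^ j / 2) := by
            rw [hk, pow_add, pow_succ]; ring
          rw [this]
          exact memLocalIdeal_mul_right (memLocalIdeal_mul_right hπ (hπpow k)) hB
        rw [hpow, mul_div_cancel_left₀ _ (two_ne_zero)] at hC
        have heven := (memLocalIdeal_aeval_iff s ω hω hM g).mp hC
        exact (Int.not_even_iff_odd.mpr hgodd) heven
      obtain ⟨v', hv'⟩ := exists_eq_one_sub_mul s ω hω hM v hv
      exact ⟨v', r, by rw [hvr, hv', pow_succ]; ring⟩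
  obtain ⟨v, r, hvr⟩ := key (2 ^ s) le_rfl
  refine ⟨g * v + r, ?_⟩
  rw [hvr, hpow, map_add, map_mul]
  ring

end half


section coord

variable (s : ℕ) (ω : ℂ) (hprim : IsPrimitiveRoot ω (2 ^ (s + 1)))
include hprim

theorem pow_eq_neg_one_of_prim : ω ^ (2 ^ s) = -1 := by
  have h2 : IsPrimitiveRoot (ω ^ (2 ^ s)) 2 :=
    hprim.pow (by positivity) (by rw [pow_succ])
  exact h2.eq_neg_one_of_two_right

/-- (U) uniqueness of the coordinates -/
theorem eq_zero_of_aeval_eq_zero (r : ℤ[X]) (hdeg : r.natDegree < 2 ^ s) (h0 : aeval ω r = 0) :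
    r = 0 := by
  by_contra hne
  have hint : IsIntegral ℤ ω := isIntegral_root s ω (pow_eq_neg_one_of_prim s ω hprim)
  have hdvd : minpoly ℤ ω ∣ r := minpoly.isIntegrallyClosed_dvd hint h0
  have hmin : cyclotomic (2 ^ (s + 1)) ℤ = minpoly ℤ ω :=
    cyclotomic_eq_minpoly hprim (by positivity)
  rw [← hmin] at hdvd
  have h1 := natDegree_le_of_dvd hdvd hne
  rw [natDegree_cyclotomic, Nat.totient_prime_pow Nat.prime_two (by omega)] at h1
  simp at h1
  omega

/-- (R1) reduction modulo `X^n + 1` -/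
theorem exists_reduced (f : ℤ[X]) :
    ∃ r : ℤ[X], r.natDegree < 2 ^ s ∧ aeval ω r = aeval ω f := by
  have hmonic : (X ^ (2 ^ s) + 1 : ℤ[X]).Monic := by
    have := monic_X_pow_add_C (R := ℤ) (1 : ℤ) (n := 2 ^ s) (by positivity)
    simpa using this
  have hdeg : (X ^ (2 ^ s) + 1 : ℤ[X]).natDegree = 2 ^ s := by
    have := natDegree_X_pow_add_C (R := ℤ) (n := 2 ^ s) (r := 1)
    simpa using this
  have hne1 : (X ^ (2 ^ s) + 1 : ℤ[X]) ≠ 1 := by
    intro h
    have := congrArg natDegree h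
    rw [hdeg, natDegree_one] at this
    exact absurd this (by positivity)
  refine ⟨f %ₘ (X ^ (2 ^ s) + 1), ?_, ?_⟩
  · have := natDegree_modByMonic_lt f hmonic hne1
    rwa [hdeg] at this
  · have h1 := modByMonic_add_div f (X ^ (2 ^ s) + 1 : ℤ[X])
    have h2 := congrArg (aeval ω) h1
    rw [map_add, map_mul] at h2
    have h3 : aeval ω (X ^ (2 ^ s) + 1 : ℤ[X]) = 0 := by
      simp only [map_add, map_pow, aeval_X, map_one]
      rw [pow_eq_neg_one_of_prim s ω hprim]; ring
    rw [h3, zero_mul, add_zero] at h2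
    exact h2

end coord


section real

variable (s : ℕ) (ω : ℂ) (hprim : IsPrimitiveRoot ω (2 ^ (s + 1)))
include hprim

theorem conj_root_pow (l : ℕ) (hl : l ≤ 2 ^ s) : conj (ω ^ l) = - ω ^ (2 ^ s - l) := by
  have hω := pow_eq_neg_one_of_prim s ω hprim
  have h1 : ω ^ (2 ^ (s + 1)) = 1 := pow_two_pow_succ_eq_one s ω hω
  have hnorm : ‖ω‖ = 1 := Complex.norm_eq_one_of_pow_eq_one h1 (by positivity)
  have h0 : ω ≠ 0 := by
    intro h
    rw [h, norm_zero] at hnorm
    exact zero_ne_one hnorm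
  have h2 : conj (ω ^ l) * ω ^ l = 1 := by
    rw [mul_comm, Complex.mul_conj, Complex.normSq_eq_norm_sq, norm_pow, hnorm]
    norm_num
  have h3 : (- ω ^ (2 ^ s - l)) * ω ^ l = 1 := by
    rw [neg_mul, ← pow_add, Nat.sub_add_cancel hl, hω]
    norm_num
  exact mul_right_cancel₀ (pow_ne_zero l h0) (h2.trans h3.symm)

/-- (C) a real element of degree `< n` has `r(1) = r(0)`. -/
theorem eval_one_eq_coeff_zero_of_real (r : ℤ[X]) (hdeg : r.natDegree < 2 ^ s)
    (hreal : conj (aeval ω r) = aeval ω r) : r.eval 1 = r.coeff 0 := by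
  set n := 2 ^ s with hn
  have hnpos : 0 < n := by positivity
  -- the conjugate polynomial
  set rs : ℤ[X] := C (r.coeff 0) -
    ∑ l ∈ (Finset.range n).filter (fun l => l ≠ 0), C (r.coeff l) * X ^ (n - l) with hrs
  have hrsdeg : rs.natDegree < n := by
    have h1 : (C (r.coeff 0) : ℤ[X]).natDegree < n := by rw [natDegree_C]; exact hnpos
    have h2 : (∑ l ∈ (Finset.range n).filter (fun l => l ≠ 0),
        C (r.coeff l) * X ^ (n - l) : ℤ[X]).natDegree < n := by
      have hle : (∑ l ∈ (Finset.range n).filter (fun l => l ≠ 0),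
          C (r.coeff l) * X ^ (n - l) : ℤ[X]).natDegree ≤ n - 1 := by
        apply natDegree_sum_le_of_forall_le
        intro l hl
        rw [Finset.mem_filter, Finset.mem_range] at hl
        calc (C (r.coeff l) * X ^ (n - l) : ℤ[X]).natDegree ≤ n - l := natDegree_C_mul_X_pow_le _ _
          _ ≤ n - 1 := by omega
      omega
    calc rs.natDegree ≤ max (C (r.coeff 0) : ℤ[X]).natDegree _ := natDegree_sub_le _ _
      _ < n := max_lt h1 h2
  have hsum : aeval ω r = ∑ l ∈ Finset.range n, (r.coeff l : ℂ) * ω ^ l := by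
    rw [aeval_eq_sum_range' hdeg]
    apply Finset.sum_congr rfl
    intro l _
    rw [zsmul_eq_mul]
  have hrsval : aeval ω rs = conj (aeval ω r) := by
    rw [hsum, map_sum, hrs, map_sub, map_sum, aeval_C]
    rw [← Finset.sum_filter_add_sum_filter_not (Finset.range n) (fun l => l ≠ 0)]
    have h0 : ∑ l ∈ (Finset.range n).filter (fun l => ¬ l ≠ 0),
        conj ((r.coeff l : ℂ) * ω ^ l) = (algebraMap ℤ ℂ) (r.coeff 0) := by
      have : (Finset.range n).filter (fun l => ¬ l ≠ 0) = {0} := by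
        ext l
        simp only [Finset.mem_filter, Finset.mem_range, not_not, Finset.mem_singleton]
        constructor
        · intro h; exact h.2
        · intro h; rw [h]; exact ⟨hnpos, rfl⟩
      rw [this, Finset.sum_singleton, pow_zero, mul_one, map_intCast]
      rfl
    rw [h0, add_comm, sub_eq_add_neg, ← Finset.sum_neg_distrib]
    congr 1
    apply Finset.sum_congr rfl
    intro l hl
    rw [Finset.mem_filter, Finset.mem_range] at hl
    rw [map_mul (starRingEnd ℂ), map_intCast, conj_root_pow s ω hprim l (by omega),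
      map_mul (aeval ω), aeval_C, map_pow, aeval_X]
    have : (algebraMap ℤ ℂ) (r.coeff l) = (r.coeff l : ℂ) := rfl
    rw [this]
    ring
  have hdiff : r - rs = 0 := by
    apply eq_zero_of_aeval_eq_zero s ω hprim
    · calc (r - rs).natDegree ≤ max r.natDegree rs.natDegree := natDegree_sub_le _ _
        _ < n := max_lt hdeg hrsdeg
    · rw [map_sub, hrsval, hreal, sub_self]
  have heq : r = rs := sub_eq_zero.mp hdiff
  have he1 : r.eval 1 = ∑ l ∈ Finset.range n, r.coeff l := by
    rw [eval_eq_sum_range' hdeg]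
    apply Finset.sum_congr rfl
    intro l _
    rw [one_pow, mul_one]
  have he2 : rs.eval 1 = r.coeff 0 - ∑ l ∈ (Finset.range n).filter (fun l => l ≠ 0), r.coeff l := by
    rw [hrs, eval_sub, eval_C, eval_finsetSum]
    congr 1
    apply Finset.sum_congr rfl
    intro l _
    rw [eval_mul, eval_C, eval_pow, eval_X, one_pow, mul_one]
  have he3 : ∑ l ∈ Finset.range n, r.coeff l =
      r.coeff 0 + ∑ l ∈ (Finset.range n).filter (fun l => l ≠ 0), r.coeff l := by
    rw [← Finset.sum_filter_add_sum_filter_not (Finset.range n) (fun l => l ≠ 0), add_comm]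
    congr 1
    have : (Finset.range n).filter (fun l => ¬ l ≠ 0) = {0} := by
      ext l
      simp only [Finset.mem_filter, Finset.mem_range, not_not, Finset.mem_singleton]
      constructor
      · intro h; exact h.2
      · intro h; rw [h]; exact ⟨hnpos, rfl⟩
    rw [this, Finset.sum_singleton]
  have he4 : r.eval 1 = rs.eval 1 := by rw [← heq]
  rw [he2] at he4
  rw [he1] at he4 ⊢
  rw [he3] at he4 ⊢
  linarith

end real


section final

/-- the reduced monomial: `X^e` for `e < n`, `-X^(e-n)` otherwise -/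
noncomputable def red (n e : ℕ) : ℤ[X] := if e < n then X ^ e else - X ^ (e - n)

theorem natDegree_red_lt (n e : ℕ) (hn : 0 < n) (he : e < 2 * n) : (red n e).natDegree < n := by
  unfold red
  split_ifs with h
  · rw [natDegree_X_pow]; exact h
  · rw [natDegree_neg, natDegree_X_pow]; omega

theorem aeval_red (n e : ℕ) (ω : ℂ) (hω : ω ^ n = -1) : aeval ω (red n e) = ω ^ e := by
  unfold red
  split_ifs with h
  · rw [map_pow, aeval_X]
  · rw [map_neg, map_pow, aeval_X]
    have : e = n + (e - n) := by omega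
    conv_rhs => rw [this, pow_add, hω]
    ring

theorem coeff_zero_red (s e : ℕ) (ω : ℂ) (hprim : IsPrimitiveRoot ω (2 ^ (s + 1)))
    (he : e < 2 ^ (s + 1)) : (red (2 ^ s) e).coeff 0 = rVal (ω ^ e) := by
  classical
  have hω := pow_eq_neg_one_of_prim s ω hprim
  have hnpos : 0 < 2 ^ s := by positivity
  have h2n : 2 ^ (s + 1) = 2 * 2 ^ s := by rw [pow_succ]; ring
  have hone : ω ^ e = 1 ↔ e = 0 := by
    constructor
    · intro h
      have := (hprim.pow_eq_one_iff_dvd e).mp h
      exact Nat.eq_zero_of_dvd_of_lt this he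
    · intro h; rw [h, pow_zero]
  have hneg : ω ^ e = -1 ↔ e = 2 ^ s := by
    constructor
    · intro h
      rw [← hω] at h
      exact hprim.pow_inj he (by omega) h
    · intro h; rw [h, hω]
  unfold red rVal
  by_cases h0 : e = 0
  · have h1 : ω ^ e = 1 := hone.mpr h0
    rw [if_pos h1, if_pos (by omega)]
    rw [h0]; simp
  · have h1 : ¬ ω ^ e = 1 := fun h => h0 (hone.mp h)
    rw [if_neg h1]
    by_cases hn : e = 2 ^ s
    · have h2 : ω ^ e = -1 := hneg.mpr hn
      rw [if_pos h2, if_neg (by omega), hn]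
      simp
    · have h2 : ¬ ω ^ e = -1 := fun h => hn (hneg.mp h)
      rw [if_neg h2]
      split_ifs with hlt
      · rw [coeff_X_pow]; simp; omega
      · rw [coeff_neg, coeff_X_pow]; simp; omega

/-- **(Z)** -/
theorem two_pow_succ_dvd_rsum {M : Ideal AlgInt} (hM : IsPModular 2 M) {ι : Type*} [Fintype ι]
    (A : ι → ι → ℤ) (eps : ι → ι → ℂ) (hA : ∀ i j, A i j = A j i)
    (heps : ∀ i j, eps j i = conj (eps i j)) (t : ℕ) (heps2 : ∀ i j, eps i j ^ (2 ^ t) = 1)
    (h : ℕ) (hloc : MemLocalIdeal M ((∑ i, ∑ j, (A i j : ℂ) * eps i j) / (2 : ℂ) ^ h)) :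
    (2 : ℤ) ^ (h + 1) ∣ ∑ i, ∑ j, A i j * rVal (eps i j) := by
  classical
  have hprime : M.IsPrime := isPrime_of_isPModular hM
  set n := 2 ^ t with hn
  have hnpos : 0 < n := by positivity
  have h2n : 2 ^ (t + 1) = 2 * n := by rw [pow_succ]; ring
  -- the root of unity
  obtain ⟨ω, hprim⟩ : ∃ ω : ℂ, IsPrimitiveRoot ω (2 ^ (t + 1)) :=
    ⟨_, Complex.isPrimitiveRoot_exp (2 ^ (t + 1)) (by positivity)⟩
  have hω : ω ^ n = -1 := pow_eq_neg_one_of_prim t ω hprim
  have hint : IsIntegral ℤ ω := isIntegral_root t ω hω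
  have hex : ∀ i j, ∃ e, e < 2 ^ (t + 1) ∧ ω ^ e = eps i j := by
    intro i j
    apply hprim.eq_pow_of_pow_eq_one
    rw [pow_succ, pow_mul, heps2, one_pow]
  choose e he1 he2 using hex
  set u : ℂ := ∑ i, ∑ j, (A i j : ℂ) * eps i j with hu
  -- the reduced polynomial of `u`
  set f₀ : ℤ[X] := ∑ i, ∑ j, C (A i j) * red n (e i j) with hf₀
  have hf₀deg : f₀.natDegree < n := by
    have hle : f₀.natDegree ≤ n - 1 := by
      apply natDegree_sum_le_of_forall_le
      intro i _
      apply natDegree_sum_le_of_forall_le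
      intro j _
      have := natDegree_red_lt n (e i j) hnpos (by rw [← h2n]; exact he1 i j)
      calc (C (A i j) * red n (e i j)).natDegree ≤ (red n (e i j)).natDegree :=
            natDegree_C_mul_le _ _
        _ ≤ n - 1 := by omega
    omega
  have hf₀val : aeval ω f₀ = u := by
    rw [hf₀, hu, map_sum]
    apply Finset.sum_congr rfl
    intro i _
    rw [map_sum]
    apply Finset.sum_congr rfl
    intro j _
    rw [map_mul, aeval_C, aeval_red n (e i j) ω hω, he2]
    rfl
  have hf₀c : f₀.coeff 0 = ∑ i, ∑ j, A i j * rVal (eps i j) := by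
    rw [hf₀, finsetSum_coeff]
    apply Finset.sum_congr rfl
    intro i _
    rw [finsetSum_coeff]
    apply Finset.sum_congr rfl
    intro j _
    rw [coeff_C_mul, coeff_zero_red t (e i j) ω hprim (he1 i j), he2]
  -- `u` is real
  have hureal : conj u = u := by
    rw [hu, map_sum]
    simp_rw [map_sum, map_mul, map_intCast]
    rw [Finset.sum_comm]
    apply Finset.sum_congr rfl
    intro i _
    apply Finset.sum_congr rfl
    intro j _
    rw [← heps j i, hA j i]
  have h2h0 : ((2 : ℂ) ^ h) ≠ 0 := pow_ne_zero _ two_ne_zero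
  have hlocR : MemLocalRing M (u / (2 : ℂ) ^ h) := memLocalRing_of_memLocalIdeal hloc
  have h2R : ∀ k : ℕ, MemLocalRing M ((2 : ℂ) ^ k) := by
    intro k
    have := memLocalRing_natCast (M := M) (2 ^ k)
    simpa using this
  -- the chain of divisions by `2`
  have hchain : ∀ j : ℕ, j ≤ h → ∃ r : ℤ[X], r.natDegree < n ∧ u = (2 : ℂ) ^ j * aeval ω r := by
    intro j
    induction j with
    | zero =>
      intro _
      exact ⟨f₀, hf₀deg, by rw [pow_zero, one_mul, hf₀val]⟩
    | succ j ih =>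
      intro hj
      obtain ⟨r, hrdeg, hr⟩ := ih (by omega)
      have h2j0 : ((2 : ℂ) ^ j) ≠ 0 := pow_ne_zero _ two_ne_zero
      have hhalf : MemLocalRing M (aeval ω r / 2) := by
        obtain ⟨k, hk⟩ : ∃ k, h = k + (j + 1) := ⟨h - (j + 1), by omega⟩
        have : aeval ω r / 2 = (u / (2 : ℂ) ^ h) * (2 : ℂ) ^ k := by
          rw [hr, hk, pow_add, pow_succ]
          have h2k0 : ((2 : ℂ) ^ k) ≠ 0 := pow_ne_zero _ two_ne_zero
          field_simp
        rw [this]
        exact memLocalRing_mul hlocR (h2R k)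
      obtain ⟨f', hf'⟩ := exists_half t ω hω hM r hhalf
      obtain ⟨r', hr'deg, hr'val⟩ := exists_reduced t ω hprim f'
      refine ⟨r', hr'deg, ?_⟩
      rw [hr, hf', hr'val, pow_succ]
      ring
  obtain ⟨r, hrdeg, hr⟩ := hchain h le_rfl
  have hrval : aeval ω r = u / (2 : ℂ) ^ h := by
    rw [hr]; field_simp
  -- parity
  have heven1 : Even (r.eval 1) := by
    apply (memLocalIdeal_aeval_iff t ω hω hM r).mp
    rw [hrval]; exact hloc
  have hrreal : conj (aeval ω r) = aeval ω r := by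
    rw [hrval, map_div₀, hureal, map_pow]
    congr 2
    exact Complex.conj_ofNat 2
  have heq := eval_one_eq_coeff_zero_of_real t ω hprim r hrdeg hrreal
  rw [heq] at heven1
  -- uniqueness
  have hdiff : f₀ - C ((2 : ℤ) ^ h) * r = 0 := by
    apply eq_zero_of_aeval_eq_zero t ω hprim
    · calc (f₀ - C ((2 : ℤ) ^ h) * r).natDegree ≤ max f₀.natDegree (C ((2 : ℤ) ^ h) * r).natDegree :=
            natDegree_sub_le _ _
        _ < n := max_lt hf₀deg (lt_of_le_of_lt (natDegree_C_mul_le _ _) hrdeg)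
    · rw [map_sub, map_mul, aeval_C, hf₀val, hrval]
      have : (algebraMap ℤ ℂ) ((2 : ℤ) ^ h) = (2 : ℂ) ^ h := by
        simp
      rw [this]
      field_simp
      ring
  have hf₀eq : f₀ = C ((2 : ℤ) ^ h) * r := sub_eq_zero.mp hdiff
  rw [← hf₀c, hf₀eq, coeff_C_mul]
  obtain ⟨k, hk⟩ := heven1
  rw [hk, pow_succ]
  exact ⟨k, by ring⟩

end final


end Cfsg.Agent.Lib.Helper1.TwoMajZ

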