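import Mathlib
import Cfsg.Agent.Lib.Helper20.UTCT
import Cfsg.Agent.Lib.Helper5.UForm

/-!
# S5801 conjunct (8) `GU_2 ⊗ GU_3 < SU_6(q)`: the OPPOSITE case, all `q` (helper1)

Step D of `notes/S5801_C4_q3_route_helper18.md` (= section 0 of `notes/S5801_C4_q3_helper18.md`), done with the unitary
transvections `1 ⊗ t_z(c)` of `B = F³` (determinant one for every `q`, so no torus and no determinant repair).
Model vocabulary: `Helper20.UT` (`hv`, `mv`, `GS`, `kA`, `kB`) + `Helper25.Tens` (`pt`, `KG`, `Idx`).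

`le_KG_of_opp`: `M` between `KG ⊓ GS` and `GS`, `x` isotropic in `A = F²`; if `(L1)` holds at `x` (the stabiliser in `M` of
the fibre `x ⊗ B` lies in `KG`) and every `g ∈ M` outside `KG` moves `x ⊗ B` to an OPPOSITE subspace, then `M ≤ KG`.

Proof: `g (x ⊗ y) = x ⊗ A y + x* ⊗ C y` (`x*` a hyperbolic partner of `x`), `C` injective, `φ := A C⁻¹`.  For `z` isotropic
in `B` and `h = 1 ⊗ t_z(s)`, `g₁ := g⁻¹ h g` fixes `x ⊗ C⁻¹ w` for a non-zero `w` with `h(w,z) = h(φ w,z) = 0`; so `g₁ ∈ KG`,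
`g₁` stabilises the fibre, `φ` commutes with `t_z(s)` and `z` is an eigenvector of `φ`.  Hence `φ = σ` is scalar,
`g (x ⊗ B) = x₂ ⊗ B` with `x₂ = x* + σ x` isotropic, and `k = t_{x₂ - s x}(-s⁻¹) ⊗ 1 ∈ KG ⊓ GS` maps `x₂` to `s x`: `k g`
stabilises the fibre of `x`, so `k g ∈ KG` and `g ∈ KG`.
-/

set_option autoImplicit false
set_option linter.unusedSectionVars false
set_option linter.unusedVariables false
set_option linter.unusedSimpArgs false

namespace Cfsg.Agent.Lib.Helper1.U23Opp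
open Matrix
open Cfsg.Agent.Lib.Helper25.Tens Cfsg.Agent.Lib.Helper25.TensLeaf Cfsg.Agent.Lib.Helper20.UT
  Cfsg.Agent.Lib.Helper20.UTLeaf Cfsg.Agent.Lib.Helper5.UForm Cfsg.Agent.Lib.Helper5.HermBridge
open scoped Kronecker

section Hyp
variable {F : Type*} [Field F] [Fintype F] {q : ℕ}

/-- completeness relation of a hyperbolic pair of `F²` -/
lemma hyp_decomp2 (hF : Fintype.card F = q ^ 2) {x xs : Fin 2 → F} (hxx : hv q x x = 0)
    (hss : hv q xs xs = 0) (h1 : hv q x xs = 1) (a : Fin 2 → F) :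
    a = hv q a xs • x + hv q a x • xs := by
  have h1' : hv q xs x = 1 := by rw [← hv_conj hF, h1, one_pow]
  have hli : LinearIndependent F ![x, xs] := by
    rw [LinearIndependent.pair_iff]
    intro s t hst
    have e1 := congrArg (fun v => hv q v xs) hst
    have e2 := congrArg (fun v => hv q v x) hst
    simp only [hv_add_left, hv_smul_left, hv_zero_left, h1, hss, hxx, h1', mul_zero, mul_one,
      add_zero, zero_add] at e1 e2
    exact ⟨e1, e2⟩
  have hspan := hli.span_eq_top_of_card_eq_finrank' (by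
    rw [Fintype.card_fin, Module.finrank_fin_fun])
  have ha : a ∈ Submodule.span F (Set.range ![x, xs]) := by rw [hspan]; exact Submodule.mem_top
  obtain ⟨c, hc⟩ := (Submodule.mem_span_range_iff_exists_fun F).mp ha
  rw [Fin.sum_univ_two] at hc
  simp only [Matrix.cons_val_zero, Matrix.cons_val_one] at hc
  have e1 : hv q a xs = c 0 := by
    rw [← hc, hv_add_left, hv_smul_left, hv_smul_left, h1, hss, mul_one, mul_zero, add_zero]
  have e2 : hv q a x = c 1 := by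
    rw [← hc, hv_add_left, hv_smul_left, hv_smul_left, hxx, h1', mul_one, mul_zero, zero_add]
  rw [e1, e2, hc]

variable {b : ℕ}

/-- `w ↦ ctA ξ w` as a linear map -/
def ctAL (ξ : Fin 2 → F) : (Idx 2 b → F) →ₗ[F] (Fin b → F) where
  toFun w := ctA ξ w
  map_add' v w := ctA_add ξ v w
  map_smul' c v := ctA_smul ξ c v

omit [Fintype F] in
lemma ctAL_apply (ξ : Fin 2 → F) (w : Idx 2 b → F) : ctAL (b := b) ξ w = ctA ξ w := rfl

/-- decomposition of `F² ⊗ F^b` along a hyperbolic pair of `F²` -/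
lemma hyp_decompV (hF : Fintype.card F = q ^ 2) {x xs : Fin 2 → F} (hxx : hv q x x = 0)
    (hss : hv q xs xs = 0) (h1 : hv q x xs = 1) (v : Idx 2 b → F) :
    v = pt x (ctA (cj q xs) v) + pt xs (ctA (cj q x) v) := by
  funext ⟨i, l⟩
  have h := congrFun (hyp_decomp2 hF hxx hss h1 (fun j => v (j, l))) i
  simp only [Pi.add_apply, Pi.smul_apply, smul_eq_mul] at h
  simp only [Pi.add_apply, pt, ctA, cj]
  rw [h]
  simp only [hv]
  ring

/-- uniqueness of the decomposition -/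
lemma hyp_unique (hF : Fintype.card F = q ^ 2) {x xs : Fin 2 → F} (hxx : hv q x x = 0)
    (hss : hv q xs xs = 0) (h1 : hv q x xs = 1) {y₁ y₂ y₁' y₂' : Fin b → F}
    (h : pt x y₁ + pt xs y₂ = pt x y₁' + pt xs y₂') : y₁ = y₁' ∧ y₂ = y₂' := by
  have h1' : hv q xs x = 1 := by rw [← hv_conj hF, h1, one_pow]
  have e1 := congrArg (ctA (cj q xs)) h
  have e2 := congrArg (ctA (cj q x)) h
  simp only [ctA_add, ctA_cj_pt, h1, hss, hxx, h1', one_smul, zero_smul, add_zero, zero_add]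
    at e1 e2
  exact ⟨e1, e2⟩

end Hyp

section Scalar
variable {F : Type*} [Field F] [Fintype F] {q : ℕ}

/-- an endomorphism of the unitary 3-space for which every isotropic vector is an eigenvector is
scalar -/
lemma scalar_of_iso_eigen (hF : Fintype.card F = q ^ 2)
    (φ : (Fin 3 → F) →ₗ[F] (Fin 3 → F))
    (h : ∀ z : Fin 3 → F, hv q z z = 0 → ∃ l : F, φ z = l • z) :
    ∃ σ : F, ∀ w, φ w = σ • w := by
  have hf := hv_unitary (n := 3) hF
  have hND := ND_top hf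
  have hfr : Module.finrank F (⊤ : Submodule F (Fin 3 → F)) = 3 := by
    rw [finrank_top, Module.finrank_fin_fun]
  obtain ⟨z₀, -, hz₀0, hz₀z₀⟩ := exists_iso hf hND (by rw [hfr]; norm_num)
  obtain ⟨σ, hσ⟩ := h z₀ hz₀z₀
  have hiso : ∀ z : Fin 3 → F, hv q z z = 0 → φ z = σ • z := by
    intro z hzz
    by_cases hdep : ∃ c : F, z = c • z₀
    · obtain ⟨c, rfl⟩ := hdep
      rw [map_smul, hσ, smul_comm]
    · obtain ⟨l, hl0, hl⟩ := exists_iso_comb hf hz₀z₀ hzz
      obtain ⟨lw, hlw⟩ := h _ hl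
      obtain ⟨lz, hlz⟩ := h z hzz
      rw [map_add, map_smul, hσ, hlz, smul_add, smul_smul, smul_smul] at hlw
      have e : (σ - lw) • z₀ + (l * lz - lw * l) • z = 0 := by
        rw [sub_smul, sub_smul]
        have := hlw
        calc σ • z₀ - lw • z₀ + ((l * lz) • z - (lw * l) • z)
            = (σ • z₀ + (l * lz) • z) - (lw • z₀ + (lw * l) • z) := by abel
          _ = 0 := by rw [hlw, sub_self]
      have hb0 : l * lz - lw * l = 0 := by
        by_contra hne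
        apply hdep
        refine ⟨-((σ - lw) / (l * lz - lw * l)), ?_⟩
        have e1 : (l * lz - lw * l) • z = -((σ - lw) • z₀) := eq_neg_of_add_eq_zero_right e
        calc z = (l * lz - lw * l)⁻¹ • ((l * lz - lw * l) • z) := by
              rw [smul_smul, inv_mul_cancel₀ hne, one_smul]
          _ = -((σ - lw) / (l * lz - lw * l)) • z₀ := by
              rw [e1, smul_neg, smul_smul, neg_smul]
              congr 2
              field_simp
      rw [hb0, zero_smul, add_zero] at e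
      have ha0 : σ - lw = 0 := (smul_eq_zero.mp e).resolve_right hz₀0
      have e3 : lz = σ := by
        have : l * (lz - lw) = 0 := by linear_combination hb0
        rcases mul_eq_zero.mp this with h' | h'
        · exact absurd h' hl0
        · linear_combination h' - ha0
      rw [hlz, e3]
  refine ⟨σ, fun w => ?_⟩
  obtain ⟨b₁, -, b₂, -, b₃, -, h1, h2, h3, hsum⟩ :=
    exists_iso_decomp hf hND (by rw [hfr]) (Submodule.mem_top (x := w))
  rw [hsum, map_add, map_add, hiso b₁ h1, hiso b₂ h2, hiso b₃ h3, smul_add, smul_add]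

end Scalar

section Main
variable {F : Type*} [Field F] [Fintype F] {q : ℕ}

/-- a pure tensor identity: `x' ⊗ y' = x ⊗ y ≠ 0` forces `x' ∥ x` -/
lemma pt_left_of_eq {a b : ℕ} {x x' : Fin a → F} {y y' : Fin b → F} (hx : x ≠ 0) (hy : y ≠ 0)
    (h : pt x' y' = pt x y) : ∃ κ : F, x' = κ • x := by
  have hne : pt x y ≠ 0 := by
    intro h0
    rcases (pt_eq_zero_iff x y).mp h0 with h' | h'
    · exact hx h'
    · exact hy h'
  have hy' : y' ≠ 0 := by
    rintro rfl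
    apply hne
    rw [← h, (pt_eq_zero_iff x' 0).mpr (Or.inr rfl)]
  obtain ⟨i, hi⟩ : ∃ i, y' i ≠ 0 := by
    by_contra hh
    push Not at hh
    exact hy' (funext hh)
  have e := congrArg (ct (Pi.single i (1 : F))) h
  rw [ct_pt, ct_pt, single_dotProduct, single_dotProduct, one_mul, one_mul] at e
  refine ⟨y i / y' i, ?_⟩
  calc x' = (y' i)⁻¹ • (y' i • x') := by rw [smul_smul, inv_mul_cancel₀ hi, one_smul]
    _ = (y i / y' i) • x := by rw [e, smul_smul, div_eq_inv_mul]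

/-- **Step D** (the opposite case, all `q`): if `(L1)` holds at the isotropic `x` and every
element of `M` outside the tensor subgroup moves the fibre `x ⊗ B` to an opposite subspace, then
`M` is inside the tensor subgroup -/
theorem le_KG_of_opp (hF : Fintype.card F = q ^ 2) {M : Subgroup (GL (Idx 2 3) F)}
    (hle : KG 2 3 F ⊓ GS 2 3 q F ≤ M) (hleG : M ≤ GS 2 3 q F) {x : Fin 2 → F} (hx0 : x ≠ 0)
    (hxx : hv q x x = 0)
    (hL1 : ∀ g ∈ M, (∀ y : Fin 3 → F, ∃ y' : Fin 3 → F, mv g (pt x y) = pt x y') →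
      g ∈ KG 2 3 F)
    (hNO : ∀ g ∈ M, g ∉ KG 2 3 F → ∀ y y' : Fin 3 → F, mv g (pt x y) = pt x y' → y = 0) :
    M ≤ KG 2 3 F := by
  classical
  intro g hg
  by_contra hgK
  have hf2 := hv_unitary (n := 2) hF
  have hf3 := hv_unitary (n := 3) hF
  obtain ⟨xs, -, hss, h1⟩ := exists_partner hf2 (ND_top hf2) (Submodule.mem_top (x := x)) hx0 hxx
  have h1' : hv q xs x = 1 := by rw [← hv_conj hF, h1, one_pow]
  obtain ⟨s, hs0, hsσ⟩ := exists_skew hf2.involutive hf2.ne_refl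
  have hss' : s ^ q = -s := by rw [← frobQ_apply hF]; exact hsσ
  -- the two components of `g` on the fibre
  obtain ⟨A, hA⟩ : ∃ A : (Fin 3 → F) →ₗ[F] (Fin 3 → F), A = (ctAL (cj q xs)) ∘ₗ
      (Matrix.toLin' (g : Matrix (Idx 2 3) (Idx 2 3) F)) ∘ₗ (ptR x) := ⟨_, rfl⟩
  obtain ⟨C, hC⟩ : ∃ C : (Fin 3 → F) →ₗ[F] (Fin 3 → F), C = (ctAL (cj q x)) ∘ₗ
      (Matrix.toLin' (g : Matrix (Idx 2 3) (Idx 2 3) F)) ∘ₗ (ptR x) := ⟨_, rfl⟩
  have hAv : ∀ y, A y = ctA (cj q xs) (mv g (pt x y)) := fun y => by rw [hA]; rfl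
  have hCv : ∀ y, C y = ctA (cj q x) (mv g (pt x y)) := fun y => by rw [hC]; rfl
  have hgdec : ∀ y, mv g (pt x y) = pt x (A y) + pt xs (C y) := by
    intro y
    rw [hAv, hCv]
    exact hyp_decompV hF hxx hss h1 _
  have hCinj : Function.Injective C := by
    rw [← LinearMap.ker_eq_bot, Submodule.eq_bot_iff]
    intro y hy
    rw [LinearMap.mem_ker] at hy
    have e := hgdec y
    rw [hy, (pt_eq_zero_iff xs (0 : Fin 3 → F)).mpr (Or.inr rfl), add_zero] at e
    exact hNO g hg hgK y (A y) e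
  obtain ⟨Ce, hCe⟩ : ∃ Ce : (Fin 3 → F) ≃ₗ[F] (Fin 3 → F), ∀ y, Ce y = C y :=
    ⟨LinearEquiv.ofInjectiveEndo C hCinj, fun y => rfl⟩
  obtain ⟨φ, hφ⟩ : ∃ φ : (Fin 3 → F) →ₗ[F] (Fin 3 → F), φ = A ∘ₗ Ce.symm.toLinearMap := ⟨_, rfl⟩
  have hφv : ∀ w, φ w = A (Ce.symm w) := fun w => by rw [hφ]; rfl
  have hCs : ∀ w, C (Ce.symm w) = w := fun w => by rw [← hCe, LinearEquiv.apply_symm_apply]
  have hgw : ∀ w, mv g (pt x (Ce.symm w)) = pt x (φ w) + pt xs w := by
    intro w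
    rw [hgdec, hCs, hφv]
  -- every isotropic vector of `B` is an eigenvector of `φ`
  have hkey : ∀ z : Fin 3 → F, hv q z z = 0 → ∃ l : F, φ z = l • z := by
    intro z hzz
    by_cases hz0 : z = 0
    · exact ⟨0, by rw [hz0, map_zero, smul_zero]⟩
    obtain ⟨h, hh⟩ : ∃ h : GL (Idx 2 3) F, h = kB q z s hzz := ⟨_, rfl⟩
    have hhM : h ∈ M := by
      rw [hh]
      exact hle ⟨kB_mem_KG q z s hzz, kB_mem_GS hF z hss' hzz⟩
    have hβ : ∀ (a' : Fin 2 → F) (y : Fin 3 → F),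
        mv h (pt a' y) = pt a' (y + (s * hv q y z) • z) := by
      intro a' y
      rw [hh]
      exact mv_kB_pt q z s hzz a' y
    obtain ⟨g₁, hg₁⟩ : ∃ g₁ : GL (Idx 2 3) F, g₁ = g⁻¹ * h * g := ⟨_, rfl⟩
    have hg₁M : g₁ ∈ M := by
      rw [hg₁]
      exact M.mul_mem (M.mul_mem (M.inv_mem hg) hhM) hg
    have hg₁v : ∀ v, mv g₁ v = mv g⁻¹ (mv h (mv g v)) := by
      intro v
      rw [hg₁, mv_mul, mv_mul]
    -- a fixed vector of `g₁` on the fibre
    obtain ⟨w, hw0, hwz, hφwz⟩ : ∃ w : Fin 3 → F, w ≠ 0 ∧ hv q w z = 0 ∧ hv q (φ w) z = 0 := by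
      obtain ⟨Ξ, hΞ⟩ : ∃ Ξ : (Fin 3 → F) →ₗ[F] (F × F),
          Ξ = (uL hf3 z).prod ((uL hf3 z) ∘ₗ φ) := ⟨_, rfl⟩
      have hker : LinearMap.ker Ξ ≠ ⊥ := LinearMap.ker_ne_bot_of_finrank_lt (by
        rw [Module.finrank_prod, Module.finrank_self, Module.finrank_fin_fun]
        norm_num)
      obtain ⟨w, hw, hw0⟩ := Submodule.exists_mem_ne_zero_of_ne_bot hker
      rw [LinearMap.mem_ker, hΞ] at hw
      have e1 : uL hf3 z w = 0 := congrArg Prod.fst hw
      have e2 : uL hf3 z (φ w) = 0 := congrArg Prod.snd hw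
      exact ⟨w, hw0, e1, e2⟩
    have hfix : mv g₁ (pt x (Ce.symm w)) = pt x (Ce.symm w) := by
      rw [hg₁v, hgw, mv_add, hβ, hβ, hwz, hφwz, mul_zero, zero_smul, add_zero, add_zero, ← hgw,
        mv_inv_mv]
    have hsw0 : Ce.symm w ≠ 0 := by
      intro h0
      apply hw0
      have := hCs w
      rw [h0, map_zero] at this
      exact this.symm
    have hg₁K : g₁ ∈ KG 2 3 F := by
      by_contra hK
      exact hsw0 (hNO g₁ hg₁M hK _ _ hfix)
    -- `g₁` stabilises the fibre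
    obtain ⟨α, β, hαβ⟩ := (mem_KG_iff g₁).mp hg₁K
    have hg₁pt : ∀ (a' : Fin 2 → F) (y : Fin 3 → F), mv g₁ (pt a' y) =
        pt ((α : Matrix (Fin 2) (Fin 2) F) *ᵥ a') ((β : Matrix (Fin 3) (Fin 3) F) *ᵥ y) := by
      intro a' y
      unfold mv
      rw [hαβ, kron_mulVec_pt]
    obtain ⟨κ, hκ⟩ := pt_left_of_eq hx0 hsw0 ((hg₁pt x (Ce.symm w)).symm.trans hfix)
    have hstab : ∀ y₁ : Fin 3 → F, ∃ y' : Fin 3 → F, mv g₁ (pt x y₁) = pt x y' := by
      intro y₁
      refine ⟨κ • ((β : Matrix (Fin 3) (Fin 3) F) *ᵥ y₁), ?_⟩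
      rw [hg₁pt, hκ, pt_smul_left, pt_smul_right]
    -- hence `φ` commutes with the transvection
    have hcomm : ∀ w₁ : Fin 3 → F, (s * hv q w₁ z) • φ z = (s * hv q (φ w₁) z) • z := by
      intro w₁
      obtain ⟨y', hy'⟩ := hstab (Ce.symm w₁)
      rw [hg₁v] at hy'
      have e : mv h (mv g (pt x (Ce.symm w₁))) = mv g (pt x y') := by
        rw [← hy', mv_mv_inv]
      rw [hgw, mv_add, hβ, hβ, hgdec y'] at e
      obtain ⟨e1, e2⟩ := hyp_unique hF hxx hss h1 e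
      have e3 : A y' = φ (C y') := by rw [hφv, ← hCe, LinearEquiv.symm_apply_apply]
      rw [e3, ← e2, map_add, map_smul] at e1
      exact (add_left_cancel e1).symm
    obtain ⟨w₀, hw₀⟩ := (hf3.nondegenerate z hz0).1
    refine ⟨hv q (φ ((hv q w₀ z)⁻¹ • w₀)) z, ?_⟩
    have e := hcomm ((hv q w₀ z)⁻¹ • w₀)
    rw [hv_smul_left, inv_mul_cancel₀ hw₀, mul_one, mul_smul] at e
    exact smul_right_injective _ hs0 e
  obtain ⟨σ, hσ⟩ := scalar_of_iso_eigen hF φ hkey
  -- the image of the fibre is the fibre of `x₂`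
  obtain ⟨x₂, hx₂⟩ : ∃ x₂ : Fin 2 → F, x₂ = xs + σ • x := ⟨_, rfl⟩
  have hgx₂ : ∀ y, mv g (pt x y) = pt x₂ (C y) := by
    intro y
    have e : A y = σ • C y := by
      rw [← hσ, hφv, ← hCe, LinearEquiv.symm_apply_apply]
    rw [hgdec, e, hx₂, pt_add_left, pt_smul_left, pt_smul_right]
    abel
  have hx₂x₂ : hv q x₂ x₂ = 0 := by
    have hgU := mem_GUI.mp (hleG hg).1
    have e := hgU (pt x (Ce.symm (Pi.single 0 1))) (pt x (Ce.symm (Pi.single 0 1)))
    have hnorm : hv q (Pi.single (0 : Fin 3) (1 : F)) (Pi.single (0 : Fin 3) (1 : F)) = 1 := by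
      unfold hv
      rw [Finset.sum_eq_single (0 : Fin 3)]
      · simp
      · intro j _ hj; simp [hj]
      · simp
    rw [hgx₂, hCs, hv_pt, hv_pt, hxx, zero_mul, hnorm, mul_one] at e
    exact e
  have hxx₂ : hv q x x₂ = 1 := by
    rw [hx₂, hv_add_right hF, hv_smul_right, hxx, mul_zero, add_zero, h1]
  have hx₂x : hv q x₂ x = 1 := by rw [← hv_conj hF, hxx₂, one_pow]
  -- move `x₂` back to `x` inside the tensor subgroup
  obtain ⟨zz, hzzdef⟩ : ∃ zz : Fin 2 → F, zz = x₂ - s • x := ⟨_, rfl⟩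
  have hx₂zz : hv q x₂ zz = s := by
    rw [hzzdef, hv_sub_right hF, hv_smul_right, hx₂x₂, hx₂x, hss']
    ring
  have hzz : hv q zz zz = 0 := by
    rw [hzzdef, hv_sub_left, hv_smul_left, hv_sub_right hF, hv_sub_right hF, hv_smul_right,
      hv_smul_right, hx₂x₂, hx₂x, hxx₂, hxx, hss']
    ring
  obtain ⟨k, hk⟩ : ∃ k : GL (Idx 2 3) F, k = kA q zz (-s⁻¹) hzz := ⟨_, rfl⟩
  have hcs : (-s⁻¹) ^ q = -(-s⁻¹) := by
    rw [neg_pow_q hF, inv_pow, hss']
    field_simp
  have hkK : k ∈ KG 2 3 F := by rw [hk]; exact kA_mem_KG q zz (-s⁻¹) hzz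
  have hkM : k ∈ M := by
    rw [hk]
    exact hle ⟨kA_mem_KG q zz (-s⁻¹) hzz, kA_mem_GS hF zz hcs hzz⟩
  have hkv : ∀ w : Fin 3 → F, mv k (pt x₂ w) = pt x (s • w) := by
    intro w
    rw [hk, mv_kA_pt, hx₂zz, pt_smul_right, ← pt_smul_left]
    congr 1
    rw [hzzdef]
    have e : -s⁻¹ * s = -1 := by field_simp
    rw [e]
    module
  have hkg : k * g ∈ KG 2 3 F := by
    apply hL1 (k * g) (M.mul_mem hkM hg)
    intro y
    exact ⟨s • C y, by rw [mv_mul, hgx₂, hkv]⟩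
  apply hgK
  have e : g = k⁻¹ * (k * g) := by group
  rw [e]
  exact (KG 2 3 F).mul_mem ((KG 2 3 F).inv_mem hkK) hkg

end Main

end Cfsg.Agent.Lib.Helper1.U23Opp
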