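import Mathlib
import Cfsg.Agent.Lib.Helper15.AschUCtx
import Cfsg.Agent.Lib.Helper15.AschPRFData
import Cfsg.Agent.Lib.Helper15.AschDSC1
import Cfsg.Agent.Lib.Helper26.AschNL
import Cfsg.Agent.Lib.Helper27.AschKF3
import Cfsg.Agent.Lib.Helper27.AschSW
import Cfsg.Agent.Lib.Helper29.AschKF2
import Cfsg.Agent.Lib.Helper20.AschTS
import Cfsg.Agent.Lib.Helper4.AschA4
import Cfsg.Agent.Lib.Helper22.SubfRA
import Cfsg.Agent.Lib.Helper22.UnitRA
import Cfsg.Agent.Lib.Helper14.HermCount

/-!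
# S5663 market U (helper15), block [DSC-U]: (DU1) `mem_iff_fixed_of_card_sq`, (DU2) `exists_not_fixed_of_odd`,
(DU3) `subfieldSubgroup_smul`, (DU4) `dsc_odd`, (DU5) `dsc_two_odd` (helper1).
Exact signatures of `notes/S5663_U_leaves.lean`.
-/

set_option autoImplicit false
set_option linter.unusedSectionVars false
set_option linter.unusedVariables false

namespace Cfsg.Agent.Lib.Helper1.UALeaf
open Matrix Cfsg Cfsg.Geo Cfsg.Agent.Lib.Helper20.Asch Cfsg.Agent.Lib.Helper20.FC
open Cfsg.Agent.Lib.Helper15.AschU Cfsg.Agent.Lib.Helper15.AschForm Cfsg.Agent.Lib.Helper18.AschA89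
open scoped Kronecker

variable {F : Type*} [Field F] [Fintype F] {n q : ℕ} {H N : Subgroup (GL (Fin n) F)}

/-- (DU1) a subfield of index 2 is the fixed field of `σ` -/
theorem mem_iff_fixed_of_card_sq {σ : F ≃+* F} (hσ : IsFrob q σ) (hF : Fintype.card F = q ^ 2) (F₁ : Subfield F)
    (hcard : Fintype.card F = Nat.card F₁ ^ 2) : ∀ a : F, a ∈ F₁ ↔ σ a = a := by
  have hq : Nat.card F₁ = q := by
    have : Nat.card F₁ ^ 2 = q ^ 2 := by rw [← hcard, hF]
    exact Nat.pow_left_injective (n := 2) (by norm_num) this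
  intro a
  rw [Cfsg.Agent.Lib.Helper22.SubfR.mem_subfield_iff_pow F₁ q hq a, hσ.pow]

/-- the fixed points of `σ` number `q` -/
theorem card_fixed {σ : F ≃+* F} (hσ : IsFrob q σ) (hF : Fintype.card F = q ^ 2) [DecidableEq F] :
    (Finset.univ.filter (fun a : F => σ a = a)).card = q := by
  have hq2 := Cfsg.Agent.Lib.Helper14.herm_two_le hF
  have h1 := Cfsg.Agent.Lib.Helper14.fixStar_card hF
  have h2 : Finset.univ.filter (fun a : F => σ a = a) = insert 0 (Cfsg.Agent.Lib.Helper14.fixStar F q) := by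
    ext a
    rw [Finset.mem_filter, Finset.mem_insert, Cfsg.Agent.Lib.Helper14.mem_fixStar, hσ.pow]
    constructor
    · rintro ⟨-, h⟩
      by_cases ha : a = 0
      · exact Or.inl ha
      · exact Or.inr ⟨ha, h⟩
    · rintro (rfl | ⟨-, h⟩)
      · exact ⟨Finset.mem_univ _, zero_pow (by omega)⟩
      · exact ⟨Finset.mem_univ _, h⟩
  have h0 : (0 : F) ∉ Cfsg.Agent.Lib.Helper14.fixStar F q := fun h => (Cfsg.Agent.Lib.Helper14.mem_fixStar.mp h).1 rfl
  rw [h2, Finset.card_insert_of_notMem h0, h1]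
  omega

/-- (DU2) a subfield of odd index is not fixed by `σ` -/
theorem exists_not_fixed_of_odd {σ : F ≃+* F} (hσ : IsFrob q σ) (hF : Fintype.card F = q ^ 2) (F₁ : Subfield F)
    (r : ℕ) (hodd : Odd r) (hcard : Fintype.card F = Nat.card F₁ ^ r) : ∃ θ ∈ F₁, σ θ ≠ θ := by
  classical
  by_contra hcon
  push Not at hcon
  -- the fixed points as an `F₁`-subspace of `F`
  let Fix : Submodule F₁ F :=
    { carrier := {a | σ a = a}
      add_mem' := by
        intro a b ha hb
        change σ a = a at ha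
        change σ b = b at hb
        change σ (a + b) = a + b
        rw [map_add, ha, hb]
      zero_mem' := by simp
      smul_mem' := by
        intro c a ha
        change σ a = a at ha
        change σ (c • a) = c • a
        rw [Subfield.smul_def, smul_eq_mul, map_mul, ha, hcon c.1 c.2] }
  have hFixcard : Nat.card Fix = q := by
    have h1 : Nat.card Fix = Nat.card {a : F // σ a = a} := rfl
    rw [h1, Nat.card_eq_fintype_card, Fintype.card_subtype]
    exact card_fixed hσ hF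
  have hpow : Nat.card Fix = Nat.card F₁ ^ Module.finrank F₁ Fix := by
    have : Fintype F₁ := Fintype.ofFinite F₁
    have : Fintype Fix := Fintype.ofFinite Fix
    rw [Nat.card_eq_fintype_card, Nat.card_eq_fintype_card]
    exact Module.card_eq_pow_finrank
  have hm2 : 2 ≤ Nat.card F₁ := by
    have : Fintype F₁ := Fintype.ofFinite F₁
    rw [Nat.card_eq_fintype_card]
    exact Fintype.one_lt_card
  have h3 : Nat.card F₁ ^ r = Nat.card F₁ ^ (2 * Module.finrank F₁ Fix) := by
    rw [← hcard, hF, ← hFixcard, hpow, ← pow_mul, mul_comm]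
  have h4 : r = 2 * Module.finrank F₁ Fix := Nat.pow_right_injective hm2 h3
  obtain ⟨k, hk⟩ := hodd
  omega

/-- (DU3) rescaling the basis by a scalar does not change the subfield group -/
theorem subfieldSubgroup_smul (F₁ : Subfield F) (P : GL (Fin n) F) (l : F) (hl : l ≠ 0) :
    ∃ P' : GL (Fin n) F, (P' : Matrix (Fin n) (Fin n) F) = l • (P : Matrix (Fin n) (Fin n) F) ∧
      subfieldSubgroup F₁ P' = subfieldSubgroup F₁ P := by
  refine ⟨⟨l • (P : Matrix (Fin n) (Fin n) F), l⁻¹ • ((P⁻¹ : GL (Fin n) F) : Matrix (Fin n) (Fin n) F), ?_, ?_⟩, rfl, ?_⟩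
  · rw [Matrix.smul_mul, Matrix.mul_smul, smul_smul, mul_inv_cancel₀ hl, one_smul, ← Units.val_mul, mul_inv_cancel,
      Units.val_one]
  · rw [Matrix.smul_mul, Matrix.mul_smul, smul_smul, inv_mul_cancel₀ hl, one_smul, ← Units.val_mul, inv_mul_cancel,
      Units.val_one]
  · unfold subfieldSubgroup
    congr 1
    ext x : 1
    apply Units.ext
    simp only [MulEquiv.toMonoidHom_eq_coe, MonoidHom.coe_coe, MulAut.conj_apply, Units.val_mul, Units.inv_mk]
    rw [Matrix.smul_mul, Matrix.smul_mul, Matrix.mul_smul, smul_smul, mul_inv_cancel₀ hl, one_smul]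

open Cfsg.Agent.Lib.Helper7.AschLeaf in
/-- the hermitian form in the basis given by the columns of `P` -/
theorem hermForm_basis {σ : F ≃+* F} (hσ : IsFrob q σ) (P : GL (Fin n) F) (u v : Fin n → F) :
    hermForm n F q ((P : Matrix (Fin n) (Fin n) F) *ᵥ u) ((P : Matrix (Fin n) (Fin n) F) *ᵥ v) =
      u ⬝ᵥ ((P : Matrix (Fin n) (Fin n) F)ᵀ * (1 : Matrix (Fin n) (Fin n) F) *
        (P : Matrix (Fin n) (Fin n) F).map σ) *ᵥ vmap (σ : F →+* F) v := by
  rw [(hσ.rform (n := n)).rep, gramF_hermForm hσ.q_ne_zero, dot_conj]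
  rfl

open Cfsg.Agent.Lib.Helper7.AschLeaf in
/-- a bilinear expression with entries in `F₁` -/
theorem dot_mem {F₁ : Subfield F} {Y : Matrix (Fin n) (Fin n) F} (hY : ∀ i j, Y i j ∈ F₁) {u w : Fin n → F}
    (hu : ∀ i, u i ∈ F₁) (hw : ∀ i, w i ∈ F₁) : u ⬝ᵥ Y *ᵥ w ∈ F₁ := by
  unfold dotProduct Matrix.mulVec dotProduct
  exact F₁.sum_mem (fun i _ => F₁.mul_mem (hu i) (F₁.sum_mem (fun j _ => F₁.mul_mem (hY i j) (hw j))))

/-- `J'' = Pᵀ σ(P)` is hermitian -/
theorem gram_herm {σ : F ≃+* F} (hinv : ∀ a : F, σ (σ a) = a) (P : GL (Fin n) F) :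
    ((((P : Matrix (Fin n) (Fin n) F)ᵀ * (1 : Matrix (Fin n) (Fin n) F) *
      (P : Matrix (Fin n) (Fin n) F).map σ)).map σ)ᵀ =
    (P : Matrix (Fin n) (Fin n) F)ᵀ * (1 : Matrix (Fin n) (Fin n) F) * (P : Matrix (Fin n) (Fin n) F).map σ := by
  ext a b
  simp only [Matrix.transpose_apply, Matrix.map_apply, Matrix.mul_one, Matrix.mul_apply, map_sum, map_mul]
  apply Finset.sum_congr rfl
  intro i _
  rw [hinv, mul_comm]

/-- `det J'' ≠ 0` -/
theorem gram_det_ne {σ : F ≃+* F} (P : GL (Fin n) F) :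
    ((P : Matrix (Fin n) (Fin n) F)ᵀ * (1 : Matrix (Fin n) (Fin n) F) *
      (P : Matrix (Fin n) (Fin n) F).map σ).det ≠ 0 := by
  have hP : (P : Matrix (Fin n) (Fin n) F).det ≠ 0 := by
    have := (Matrix.isUnit_iff_isUnit_det _).mp P.isUnit
    exact this.ne_zero
  have hmap : ((P : Matrix (Fin n) (Fin n) F).map σ).det = σ (P : Matrix (Fin n) (Fin n) F).det := by
    have := (RingHom.map_det (σ : F →+* F) (P : Matrix (Fin n) (Fin n) F)).symm
    exact this
  rw [Matrix.mul_one, Matrix.det_mul, Matrix.det_transpose, hmap]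
  exact mul_ne_zero hP ((map_ne_zero σ).mpr hP)

/-- odd `q`: the characteristic is not two -/
theorem two_ne_zero_of_odd_q (hF : Fintype.card F = q ^ 2) (hq : Odd q) : (2 : F) ≠ 0 := by
  classical
  obtain ⟨p, j, hp, hchar, hqp⟩ := Cfsg.Agent.Lib.Helper14.herm_exists_char hF
  intro h
  have hd : p ∣ 2 := (CharP.cast_eq_zero_iff F p 2).mp (by exact_mod_cast h)
  have hp2 : p = 2 := (Nat.prime_dvd_prime_iff_eq hp Nat.prime_two).mp hd
  subst hp2
  rcases Nat.eq_zero_or_pos j with rfl | hj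
  · have := Cfsg.Agent.Lib.Helper14.herm_two_le hF
    simp at hqp
    omega
  · have : Even q := by
      rw [hqp]
      exact (Nat.even_pow.mpr ⟨even_two, hj.ne'⟩)
    exact (Nat.not_odd_iff_even.mpr this) hq

open Cfsg.Agent.Lib.Helper7.AschLeaf in
/-- (DU5) INDEX 2, `q` odd -/
theorem dsc_two_odd (h : UCtx q H) {σ : F ≃+* F} (hσ : IsFrob q σ) (hq : Odd q) (F₁ : Subfield F)
    (hcard : Fintype.card F = Nat.card F₁ ^ 2) (P : GL (Fin n) F) (hH : H ≤ subfieldSubgroup F₁ P)
    (c : F) (hc : c ≠ 0)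
    (hrat : ∀ i j, (c • ((P : Matrix (Fin n) (Fin n) F)ᵀ * (1 : Matrix (Fin n) (Fin n) F) *
      (P : Matrix (Fin n) (Fin n) F).map σ)) i j ∈ F₁) : GeoU q H := by
  classical
  set J := (P : Matrix (Fin n) (Fin n) F)ᵀ * (1 : Matrix (Fin n) (Fin n) F) * (P : Matrix (Fin n) (Fin n) F).map σ
    with hJ
  have hfix := mem_iff_fixed_of_card_sq hσ h.card F₁ hcard
  have hJh : (J.map σ)ᵀ = J := gram_herm hσ.invol P
  have hJd : J.det ≠ 0 := gram_det_ne P
  have hH' : H ≤ subfieldSubgroup F₁ P ⊓ Cfsg.GU n F q := le_inf hH h.le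
  have hvm : ∀ v : Fin n → F, (∀ i, v i ∈ F₁) → vmap (σ : F →+* F) v = v :=
    fun v hv => funext (fun i => (hfix _).mp (hv i))
  have hYfix : ∀ i j, σ (c * J i j) = c * J i j := by
    intro i j
    have := hrat i j
    rw [Matrix.smul_apply, smul_eq_mul] at this
    exact (hfix _).mp this
  have hJji : ∀ i j, σ (J j i) = J i j := by
    intro i j
    have := congrFun (congrFun hJh i) j
    simpa using this
  have hrel : ∀ i j, c * J i j = σ c * J j i := by
    intro i j
    rw [← hYfix i j, map_mul, hJji j i]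
  obtain ⟨i₀, j₀, hij⟩ : ∃ i j, J i j ≠ 0 := by
    by_contra hcon
    push Not at hcon
    have h0 : J = 0 := by
      ext i j
      exact hcon i j
    rw [h0] at hJd
    have : Nonempty (Fin n) := ⟨⟨0, by have := h.three_le; omega⟩⟩
    exact hJd Matrix.det_zero
  have hsq : (c - σ c) * (c + σ c) = 0 := by
    have h1 := hrel i₀ j₀
    have h2 := hrel j₀ i₀
    have h3 : (c * c - σ c * σ c) * J i₀ j₀ = 0 := by
      calc (c * c - σ c * σ c) * J i₀ j₀ = c * (c * J i₀ j₀) - σ c * (σ c * J i₀ j₀) := by ring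
        _ = c * (σ c * J j₀ i₀) - σ c * (c * J j₀ i₀) := by rw [h1, ← h2]
        _ = 0 := by ring
    rcases mul_eq_zero.mp h3 with h4 | h4
    · linear_combination h4
    · exact absurd h4 hij
  rcases mul_eq_zero.mp hsq with h1 | h1
  · -- `σ c = c`
    have hcF : c ∈ F₁ := (hfix c).mpr (by linear_combination -h1)
    refine GeoU.of_sub_orth F₁ P hq hcard ?_ hH'
    intro u v hu hv
    rw [one_mul, hermForm_basis hσ, hvm v hv]
    have e : u ⬝ᵥ J *ᵥ v = c⁻¹ * (u ⬝ᵥ (c • J) *ᵥ v) := by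
      rw [Matrix.smul_mulVec, dotProduct_smul, smul_eq_mul, ← mul_assoc, inv_mul_cancel₀ hc, one_mul]
    rw [e]
    exact F₁.mul_mem (F₁.inv_mem hcF) (dot_mem hrat hu hv)
  · -- `σ c = -c`
    have hσc : σ c = -c := by linear_combination h1
    have h2 : (2 : F) ≠ 0 := two_ne_zero_of_odd_q h.card hq
    have hskew : Jᵀ = -J := by
      ext i j
      rw [Matrix.transpose_apply, Matrix.neg_apply]
      have := hrel i j
      rw [hσc] at this
      have h3 : c * (J i j + J j i) = 0 := by linear_combination this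
      rcases mul_eq_zero.mp h3 with h4 | h4
      · exact absurd h4 hc
      · linear_combination h4
    have halt : ∀ u : Fin n → F, u ⬝ᵥ J *ᵥ u = 0 := by
      intro u
      have e1 : u ⬝ᵥ J *ᵥ u = u ⬝ᵥ Jᵀ *ᵥ u := by
        rw [Matrix.dotProduct_mulVec, ← Matrix.mulVec_transpose, dotProduct_comm]
      rw [hskew, Matrix.neg_mulVec, dotProduct_neg] at e1
      have e2 : (2 : F) * (u ⬝ᵥ J *ᵥ u) = 0 := by linear_combination e1
      rcases mul_eq_zero.mp e2 with h3 | h3
      · exact absurd h3 h2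
      · exact h3
    have hn : Even n := by
      rcases Nat.even_or_odd n with he | ho
      · exact he
      · exfalso
        have e1 : J.det = (-1) ^ n * J.det := by
          conv_lhs => rw [← Matrix.det_transpose, hskew, Matrix.det_neg, Fintype.card_fin]
        rw [ho.neg_one_pow] at e1
        have e2 : (2 : F) * J.det = 0 := by linear_combination e1
        rcases mul_eq_zero.mp e2 with h3 | h3
        · exact h2 h3
        · exact hJd h3
    refine GeoU.of_sub_symp F₁ P c hn hcard hc ?_ ?_ ?_ hH'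
    · rw [← hσ.pow, hσc]
      ring
    · intro u v hu hv
      rw [hermForm_basis hσ, hvm v hv]
      have e : c * (u ⬝ᵥ J *ᵥ v) = u ⬝ᵥ (c • J) *ᵥ v := by
        rw [Matrix.smul_mulVec, dotProduct_smul, smul_eq_mul]
      rw [e]
      exact dot_mem hrat hu hv
    · intro u hu
      rw [hermForm_basis hσ, hvm u hu]
      exact halt u

/-- every subfield of a finite field is stable under every ring endomorphism -/
theorem subfield_stable' (σ : F ≃+* F) (F₁ : Subfield F) : ∀ a ∈ F₁, σ a ∈ F₁ := by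
  intro a ha
  rw [Cfsg.Agent.Lib.Helper22.SubfR.mem_subfield_iff_pow F₁ _ rfl] at ha ⊢
  rw [← map_pow, ha]

open Cfsg.Agent.Lib.Helper7.AschLeaf in
/-- (DU4) ODD INDEX: class 5, first kind -/
theorem dsc_odd (h : UCtx q H) {σ : F ≃+* F} (hσ : IsFrob q σ) (F₁ : Subfield F) (r : ℕ) (hr : r.Prime) (hodd : Odd r)
    (hcard : Fintype.card F = Nat.card F₁ ^ r) (P : GL (Fin n) F) (hH : H ≤ subfieldSubgroup F₁ P)
    (c : F) (hc : c ≠ 0)
    (hrat : ∀ i j, (c • ((P : Matrix (Fin n) (Fin n) F)ᵀ * (1 : Matrix (Fin n) (Fin n) F) *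
      (P : Matrix (Fin n) (Fin n) F).map σ)) i j ∈ F₁) : GeoU q H := by
  classical
  set J := (P : Matrix (Fin n) (Fin n) F)ᵀ * (1 : Matrix (Fin n) (Fin n) F) * (P : Matrix (Fin n) (Fin n) F).map σ
    with hJ
  have hstab := subfield_stable' σ F₁
  have hJh : (J.map σ)ᵀ = J := gram_herm hσ.invol P
  have hJji : ∀ i j, σ (J j i) = J i j := by
    intro i j
    have := congrFun (congrFun hJh i) j
    simpa using this
  have hY : ∀ i j, c * J i j ∈ F₁ := by
    intro i j
    have := hrat i j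
    rwa [Matrix.smul_apply, smul_eq_mul] at this
  -- the scalar `θ`
  obtain ⟨θ, hθ, hθc⟩ : ∃ θ ∈ F₁, θ * c + σ (θ * c) ≠ 0 := by
    by_cases hcc : c + σ c = 0
    · obtain ⟨θ, hθ, hθσ⟩ := exists_not_fixed_of_odd hσ h.card F₁ r hodd hcard
      refine ⟨θ, hθ, ?_⟩
      have hσc : σ c = -c := by linear_combination hcc
      rw [map_mul, hσc]
      intro h0
      have h1 : (θ - σ θ) * c = 0 := by linear_combination h0
      rcases mul_eq_zero.mp h1 with h2 | h2
      · exact hθσ (by linear_combination -h2)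
      · exact hc h2
    · exact ⟨1, F₁.one_mem, by rw [one_mul]; exact hcc⟩
  set c₁ := θ * c + σ (θ * c) with hc₁
  have hc₁fix : σ c₁ = c₁ := by
    rw [hc₁, map_add, hσ.invol]
    ring
  have hY₁ : ∀ i j, (c₁ • J) i j ∈ F₁ := by
    intro i j
    rw [Matrix.smul_apply, smul_eq_mul]
    have e : c₁ * J i j = θ * (c * J i j) + σ (θ * (c * J j i)) := by
      rw [hc₁, map_mul, map_mul, map_mul, hJji i j]
      ring
    rw [e]
    exact F₁.add_mem (F₁.mul_mem hθ (hY i j)) (hstab _ (F₁.mul_mem hθ (hY j i)))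
  -- the norm
  obtain ⟨l, hl0, hl⟩ := Cfsg.Agent.Lib.Helper22.UnitR.exists_norm_eq h.card c₁ hθc (by rw [← hσ.pow]; exact hc₁fix)
  obtain ⟨P', hP', hsub⟩ := subfieldSubgroup_smul F₁ P l hl0
  have hJ' : (P' : Matrix (Fin n) (Fin n) F)ᵀ * (1 : Matrix (Fin n) (Fin n) F) * (P' : Matrix (Fin n) (Fin n) F).map σ =
      c₁ • J := by
    rw [hP', hJ, ← hl, ← hσ.pow]
    ext a b
    simp only [Matrix.mul_one, Matrix.mul_apply, Matrix.transpose_apply, Matrix.smul_apply, Matrix.map_apply,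
      smul_eq_mul, map_mul, Finset.mul_sum]
    apply Finset.sum_congr rfl
    intro i _
    ring
  refine GeoU.of_sub_odd F₁ r P' hr hodd hcard ?_ (le_inf (by rw [hsub]; exact hH) h.le)
  intro u v hu hv
  rw [one_mul, hermForm_basis hσ, hJ']
  exact dot_mem hY₁ hu (fun i => hstab _ (hv i))

end Cfsg.Agent.Lib.Helper1.UALeaf
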