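import Mathlib
import Cfsg.Agent.Lib.Helper15.AschUCtx
import Cfsg.Agent.Lib.Helper15.AschPRFData
import Cfsg.Agent.Lib.Helper15.AschDSC1
import Cfsg.Agent.Lib.Helper26.AschNL
import Cfsg.Agent.Lib.Helper27.AschKF3
import Cfsg.Agent.Lib.Helper27.AschSW
import Cfsg.Agent.Lib.Helper29.AschKF2
import Cfsg.Agent.Lib.Helper20.AschTS
import Cfsg.Agent.Lib.Helper4.AschA4
import Cfsg.Agent.Lib.Helper22.PolUnD
import Cfsg.Agent.Lib.Helper1.AFKr
import Cfsg.Agent.Lib.Helper1.AFKrP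
import Cfsg.Agent.Lib.Helper6.TWQ1
import Cfsg.Agent.Lib.Helper20.AschA89F2J

/-!
# S5663 market U (helper15): (TU1) `herm_normalise_kron`, (WU1) `herm_normalise_ptens` (helper1).
Exact signatures of `notes/S5663_U_leaves.lean`.
-/

set_option autoImplicit false
set_option linter.unusedSectionVars false
set_option linter.unusedVariables false

namespace Cfsg.Agent.Lib.Helper1.UALeaf
open Matrix Cfsg Cfsg.Geo Cfsg.Agent.Lib.Helper20.Asch Cfsg.Agent.Lib.Helper20.FC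
open Cfsg.Agent.Lib.Helper15.AschU Cfsg.Agent.Lib.Helper15.AschForm Cfsg.Agent.Lib.Helper18.AschA89
open scoped Kronecker

variable {F : Type*} [Field F] [Fintype F] {n q : ℕ} {H N : Subgroup (GL (Fin n) F)}

/-- `((c • G).map σ)ᵀ = σ c • (G.map σ)ᵀ` -/
theorem herm_smul {ι : Type*} (σ : F ≃+* F) (c : F) (G : Matrix ι ι F) :
    ((c • G).map σ)ᵀ = σ c • (G.map σ)ᵀ := by
  ext i j
  simp [Matrix.map_apply, Matrix.transpose_apply, Matrix.smul_apply]

/-- the type `η` of a `σ`-hermitian-up-to-scalar non-zero matrix has norm one -/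
theorem norm_one_of_herm {ι : Type*} {σ : F ≃+* F} (hinv : ∀ a : F, σ (σ a) = a) {G : Matrix ι ι F} (hG : G ≠ 0)
    {η : F} (h : (G.map σ)ᵀ = η • G) : η * σ η = 1 := by
  have h2 : G = (σ η * η) • G := by
    have e1 : (((G.map σ)ᵀ).map σ)ᵀ = G := by
      ext i j
      simp [Matrix.map_apply, Matrix.transpose_apply, hinv]
    rw [h, herm_smul, h, smul_smul] at e1
    exact e1.symm
  obtain ⟨i, j, hij⟩ : ∃ i j, G i j ≠ 0 := by
    by_contra hcon
    push Not at hcon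
    apply hG
    ext i j
    exact hcon i j
  have h3 := congrFun (congrFun h2 i) j
  rw [Matrix.smul_apply, smul_eq_mul] at h3
  have h4 : (σ η * η - 1) * G i j = 0 := by linear_combination -h3
  rcases mul_eq_zero.mp h4 with h5 | h5
  · linear_combination h5
  · exact absurd h5 hij

/-- Hilbert 90 in the `σ`-form -/
theorem hilbert90_sigma (hF : Fintype.card F = q ^ 2) {σ : F ≃+* F} (hσ : IsFrob q σ) {η : F} (hη : η * σ η = 1) :
    ∃ μ : F, μ ≠ 0 ∧ μ = η * σ μ := by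
  rw [hσ.pow] at hη
  obtain ⟨μ, hμ0, hμ⟩ := Cfsg.Agent.Lib.Helper22.PolUn.hilbert90 hF η hη
  refine ⟨μ, hμ0, ?_⟩
  rw [hσ.pow]
  exact hμ

/-- the factors of an invertible Kronecker product are invertible -/
theorem det_ne_zero_of_kron {s k : ℕ} (A : Matrix (Fin s) (Fin s) F) (B : Matrix (Fin k) (Fin k) F)
    (h : (A ⊗ₖ B).det ≠ 0) : (0 < k → A.det ≠ 0) ∧ (0 < s → B.det ≠ 0) := by
  rw [Matrix.det_kronecker, Fintype.card_fin, Fintype.card_fin] at h
  constructor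
  · intro hk hA
    apply h
    rw [hA, zero_pow (by omega), zero_mul]
  · intro hs hB
    apply h
    rw [hB, zero_pow (by omega), mul_zero]

/-- (TU1) hermitian normalisation of a Kronecker pair -/
theorem herm_normalise_kron (hF : Fintype.card F = q ^ 2) {σ : F ≃+* F} (hσ : IsFrob q σ) {s k : ℕ}
    (J' : Matrix (Fin s × Fin k) (Fin s × Fin k) F) (hJh : (J'.map σ)ᵀ = J') (hJd : J'.det ≠ 0)
    (G₁ : Matrix (Fin s) (Fin s) F) (G₂ : Matrix (Fin k) (Fin k) F) (hG : J' = G₁ ⊗ₖ G₂) :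
    ∃ (G₁' : Matrix (Fin s) (Fin s) F) (G₂' : Matrix (Fin k) (Fin k) F), (G₁'.map σ)ᵀ = G₁' ∧ (G₂'.map σ)ᵀ = G₂' ∧
      G₁'.det ≠ 0 ∧ G₂'.det ≠ 0 ∧ J' = G₁' ⊗ₖ G₂' := by
  by_cases hemp : IsEmpty (Fin s × Fin k)
  · refine ⟨1, 1, ?_, ?_, ?_, ?_, ?_⟩
    · ext i j
      simp [Matrix.one_apply, eq_comm]
    · ext i j
      simp [Matrix.one_apply, eq_comm]
    · rw [Matrix.det_one]; exact one_ne_zero
    · rw [Matrix.det_one]; exact one_ne_zero
    · ext i j
      exact (hemp.false i).elim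
  · rw [not_isEmpty_iff] at hemp
    obtain ⟨⟨a₀, b₀⟩⟩ := hemp
    have hs : 0 < s := Fin.pos a₀
    have hk : 0 < k := Fin.pos b₀
    have hJ0 : J' ≠ 0 := by
      rintro rfl
      have : Nonempty (Fin s × Fin k) := ⟨(a₀, b₀)⟩
      exact hJd Matrix.det_zero
    have hne : G₁ ⊗ₖ G₂ ≠ 0 := by rw [← hG]; exact hJ0
    have hh : ((G₁ ⊗ₖ G₂).map (σ : F →+* F))ᵀ = (1 : F) • (G₁ ⊗ₖ G₂) := by
      rw [one_smul, ← hG]
      exact hJh
    obtain ⟨ε₁, ε₂, h1', h2', h12⟩ := Cfsg.Agent.Lib.Helper1.AFLeaf.kron_herm G₁ G₂ hne hh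
    have h1 : (G₁.map σ)ᵀ = ε₁ • G₁ := h1'
    have h2 : (G₂.map σ)ᵀ = ε₂ • G₂ := h2'
    have hG₁0 : G₁ ≠ 0 := by
      rintro rfl
      apply hne
      ext ⟨a, b⟩ ⟨c, d⟩
      simp [Matrix.kroneckerMap_apply]
    have hη := norm_one_of_herm hσ.invol hG₁0 h1
    obtain ⟨μ, hμ0, hμ⟩ := hilbert90_sigma hF hσ hη
    have hε₁0 : ε₁ ≠ 0 := left_ne_zero_of_mul (by rw [h12]; exact one_ne_zero)
    have hσμ0 : σ μ ≠ 0 := by
      intro h
      rw [h, mul_zero] at hμ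
      exact hμ0 hμ
    have hJ2 : J' = (μ • G₁) ⊗ₖ (μ⁻¹ • G₂) := by
      rw [hG, Matrix.smul_kronecker, Matrix.kronecker_smul, smul_smul, mul_inv_cancel₀ hμ0, one_smul]
    have hdets := det_ne_zero_of_kron (μ • G₁) (μ⁻¹ • G₂) (by rw [← hJ2]; exact hJd)
    refine ⟨μ • G₁, μ⁻¹ • G₂, ?_, ?_, hdets.1 hk, hdets.2 hs, hJ2⟩
    · have := herm_smul σ μ G₁
      rw [this, h1, smul_smul]
      congr 1
      rw [mul_comm]
      exact hμ.symm
    · have := herm_smul σ μ⁻¹ G₂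
      rw [this, h2, smul_smul]
      congr 1
      have e1 : σ μ⁻¹ = (σ μ)⁻¹ := map_inv₀ σ μ
      rw [e1]
      have e2 : ε₂ = ε₁⁻¹ := eq_inv_of_mul_eq_one_right h12
      rw [e2]
      have e3 : μ⁻¹ = (σ μ)⁻¹ * ε₁⁻¹ := by
        conv_lhs => rw [hμ]
        rw [mul_inv, mul_comm]
      exact e3.symm

/-- the Gram matrix of the standard hermitian form in any basis is hermitian -/
theorem gramIn_one_herm {κ : Type} [Fintype κ] [DecidableEq κ] {σ : F ≃+* F} (hinv : ∀ a : F, σ (σ a) = a)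
    (e : Fin n ≃ κ) (P : GL (Fin n) F) :
    ((gramIn (σ : F →+* F) 1 e P).map σ)ᵀ = gramIn (σ : F →+* F) 1 e P := by
  ext a b
  simp only [gramIn, Matrix.transpose_apply, Matrix.map_apply, Matrix.reindex_apply, Matrix.submatrix_apply,
    Matrix.mul_one, Matrix.mul_apply, map_sum, map_mul, RingHom.coe_coe]
  apply Finset.sum_congr rfl
  intro i _
  rw [hinv, mul_comm]

/-- and invertible -/
theorem gramIn_one_det {κ : Type} [Fintype κ] [DecidableEq κ] (σ : F ≃+* F)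
    (e : Fin n ≃ κ) (P : GL (Fin n) F) : (gramIn (σ : F →+* F) 1 e P).det ≠ 0 := by
  have hP : (P : Matrix (Fin n) (Fin n) F).det ≠ 0 := by
    have := (Matrix.isUnit_iff_isUnit_det _).mp P.isUnit
    exact this.ne_zero
  have hmap : ((P : Matrix (Fin n) (Fin n) F).map (σ : F →+* F)).det = σ (P : Matrix (Fin n) (Fin n) F).det := by
    have := (RingHom.map_det (σ : F →+* F) (P : Matrix (Fin n) (Fin n) F)).symm
    exact this
  unfold gramIn
  rw [Matrix.det_reindex_self, Matrix.mul_one, Matrix.det_mul, Matrix.det_transpose, hmap]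
  exact mul_ne_zero hP ((map_ne_zero σ).mpr hP)

/-- the factors of an invertible pure tensor are invertible -/
theorem det_ne_zero_of_ptens {m t : ℕ} (G : Fin t → Matrix (Fin m) (Fin m) F) (h : (ptens m t G).det ≠ 0) (i₀ : Fin t) :
    (G i₀).det ≠ 0 := by
  classical
  intro hdet
  obtain ⟨v, hv0, hv⟩ := Matrix.exists_mulVec_eq_zero_iff.mpr hdet
  obtain ⟨a, ha⟩ : ∃ a, v a ≠ 0 := by
    by_contra hcon
    push Not at hcon
    exact hv0 (funext hcon)
  set xs : Fin t → Fin m → F := fun i => if i = i₀ then v else fun _ => 1 with hxs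
  have hpv0 : Cfsg.Agent.Lib.Helper6.TWQ.pv xs ≠ 0 := by
    intro h0
    have := congrFun h0 (fun _ => a)
    rw [Cfsg.Agent.Lib.Helper6.TWQ.pv_apply, Pi.zero_apply, Finset.prod_eq_zero_iff] at this
    obtain ⟨i, -, hi⟩ := this
    by_cases hii : i = i₀
    · rw [hxs] at hi
      simp only [hii, if_true] at hi
      exact ha hi
    · rw [hxs] at hi
      simp only [hii, if_false] at hi
      exact one_ne_zero hi
  apply h
  apply Matrix.exists_mulVec_eq_zero_iff.mp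
  refine ⟨_, hpv0, ?_⟩
  rw [Cfsg.Agent.Lib.Helper6.TWQ.ptens_mulVec_pv]
  funext z
  rw [Cfsg.Agent.Lib.Helper6.TWQ.pv_apply, Pi.zero_apply]
  apply Finset.prod_eq_zero (Finset.mem_univ i₀)
  have : xs i₀ = v := by rw [hxs]; simp
  rw [this, hv, Pi.zero_apply]

/-- (WU1) hermitian normalisation of the factors of a pure tensor Gram matrix -/
theorem herm_normalise_ptens (hF : Fintype.card F = q ^ 2) {σ : F ≃+* F} (hσ : IsFrob q σ) (hn : 0 < n) {m t : ℕ}
    (e : Fin n ≃ (Fin t → Fin m)) (P : GL (Fin n) F) (c : F) (G : Fin t → Matrix (Fin m) (Fin m) F)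
    (hG : gramIn (σ : F →+* F) 1 e P = c • ptens m t G) :
    ∃ (c' : F) (G' : Fin t → Matrix (Fin m) (Fin m) F), c' ≠ 0 ∧ (∀ i, ((G' i).map σ)ᵀ = G' i) ∧
      (∀ i, (G' i).det ≠ 0) ∧ gramIn (σ : F →+* F) 1 e P = c' • ptens m t G' := by
  classical
  have hne : Nonempty (Fin t → Fin m) := ⟨e ⟨0, hn⟩⟩
  have hJd := gramIn_one_det σ e P
  have hJh := gramIn_one_herm hσ.invol e P
  rw [hG] at hJd hJh
  have hJ0 : c • ptens m t G ≠ 0 := by
    intro h0
    rw [h0] at hJd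
    exact hJd Matrix.det_zero
  have hc0 : c ≠ 0 := by
    rintro rfl
    rw [zero_smul] at hJ0
    exact hJ0 rfl
  have hp0 : ptens m t G ≠ 0 := by
    intro h0
    rw [h0, smul_zero] at hJ0
    exact hJ0 rfl
  have hσc0 : σ c ≠ 0 := (map_ne_zero σ).mpr hc0
  have hh : ((ptens m t G).map (σ : F →+* F))ᵀ = ((σ c)⁻¹ * c) • ptens m t G := by
    have h1 := herm_smul σ c (ptens m t G)
    rw [h1] at hJh
    have h2 : ((ptens m t G).map σ)ᵀ = (σ c)⁻¹ • (σ c • ((ptens m t G).map σ)ᵀ) := by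
      rw [smul_smul, inv_mul_cancel₀ hσc0, one_smul]
    rw [hJh, smul_smul] at h2
    exact h2
  obtain ⟨η, hη, hηprod⟩ := Cfsg.Agent.Lib.Helper1.AFLeaf.ptens_herm G hp0 hh
  have hG0 : ∀ i, G i ≠ 0 := by
    intro i h0
    apply hp0
    ext x y
    rw [ptens_apply, Matrix.zero_apply]
    apply Finset.prod_eq_zero (Finset.mem_univ i)
    rw [h0, Matrix.zero_apply]
  have hη' : ∀ i, ((G i).map σ)ᵀ = η i • G i := fun i => hη i
  have hnorm : ∀ i, η i * σ (η i) = 1 := fun i => norm_one_of_herm hσ.invol (hG0 i) (hη' i)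
  choose μ hμ0 hμ using fun i => hilbert90_sigma hF hσ (hnorm i)
  have hprod0 : ∏ i, μ i ≠ 0 := Finset.prod_ne_zero_iff.mpr (fun i _ => hμ0 i)
  have hpt : ptens m t (fun i => μ i • G i) = (∏ i, μ i) • ptens m t G :=
    Cfsg.Agent.Lib.Helper20.AschLeaf.ptens_smul m t μ G
  have hfinal : gramIn (σ : F →+* F) 1 e P = (c * (∏ i, μ i)⁻¹) • ptens m t (fun i => μ i • G i) := by
    rw [hG, hpt, smul_smul, mul_assoc, inv_mul_cancel₀ hprod0, mul_one]
  refine ⟨c * (∏ i, μ i)⁻¹, fun i => μ i • G i, mul_ne_zero hc0 (inv_ne_zero hprod0), ?_, ?_, hfinal⟩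
  · intro i
    rw [herm_smul, hη' i, smul_smul]
    congr 1
    rw [mul_comm]
    exact (hμ i).symm
  · have hdet : (ptens m t (fun i => μ i • G i)).det ≠ 0 := by
      intro h0
      have h1 := gramIn_one_det σ e P
      rw [hfinal, Matrix.det_smul, h0, mul_zero] at h1
      exact h1 rfl
    intro i
    exact det_ne_zero_of_ptens _ hdet i

end Cfsg.Agent.Lib.Helper1.UALeaf
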