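import Mathlib
import Cfsg.Agent.Lib.Helper11.UHDefs
import Cfsg.Agent.Lib.Helper1.LSP3

/-!
helper1: leaf UHH4 of S2335/S2334 (Landazuri–Seitz for `SU_n(q)`): the isometry group of a
skew-Hermitian form with a non-isotropic vector `v` has order at most
`#{x | h x x = h v v} * |U(h | v^⊥)|`.
-/

set_option autoImplicit false
set_option linter.unusedSectionVars false
set_option linter.unusedVariables false

open Module Cfsg.Agent.Lib.Helper11.LS Cfsg.Agent.Lib.Helper11.UH

namespace Cfsg.Agent.Lib.Helper1.UHLeaf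

open Cfsg.Agent.Lib.Helper1.LSLeaf

universe u
variable {F : Type*} [Field F] [Fintype F] [DecidableEq F] {q : ℕ} {V : Type u} [AddCommGroup V]
  [Module F V]

/-- the decomposition `V = F v + v^⊥` -/
theorem decomp_mem_perp1 (h : SkForm F q V) {v : V} (hv : h v v ≠ 0) (x : V) :
    x - (h x v / h v v) • v ∈ h.perp1 v := by
  rw [SkForm.mem_perp1, h.sub_left, h.smul_left, div_mul_cancel₀ _ hv, sub_self]

/-- an isometry fixing `v` preserves `v^⊥` -/
theorem map_mem_perp1 (h : SkForm F q V) {v : V} {k : V ≃ₗ[F] V} (hk : k ∈ h.uGroup)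
    (hkv : k v = v) (x : V) (hx : x ∈ h.perp1 v) : k x ∈ h.perp1 v := by
  rw [SkForm.mem_perp1] at hx ⊢
  have := hk x v
  rw [hkv] at this
  rw [this]; exact hx

theorem card_uGroup_le_level (hF : Fintype.card F = q ^ 2) [Finite V] (h : SkForm F q V) {v : V}
    (hv : h v v ≠ 0) :
    Nat.card h.uGroup ≤ Nat.card {x : V // h x x = h v v} *
      Nat.card (h.res (h.perp1 v)).uGroup := by
  classical
  have : Finite (V ≃ₗ[F] V) := Finite.of_injective (fun e => (e : V → V)) DFunLike.coe_injective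
  have : Finite ((h.perp1 v) ≃ₗ[F] (h.perp1 v)) :=
    Finite.of_injective (fun e => (e : (h.perp1 v) → (h.perp1 v))) DFunLike.coe_injective
  let φ : h.uGroup → {x : V // h x x = h v v} := fun g => ⟨g.1 v, g.2 v v⟩
  apply card_le_mul_of_fiber_le φ
  intro b
  by_cases hne : Nonempty {a // φ a = b}
  · obtain ⟨⟨g₀, hg₀⟩⟩ := hne
    have hfix : ∀ g : {a // φ a = b}, (g₀⁻¹ * g.1 : h.uGroup).1 v = v := by
      intro g
      have h1 : φ g.1 = φ g₀ := by rw [g.2, hg₀]
      have h2 : g.1.1 v = g₀.1 v := congrArg (fun p => p.1) h1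
      show (g₀.1)⁻¹ (g.1.1 v) = v
      rw [h2]
      exact LinearEquiv.symm_apply_apply g₀.1 v
    have hfix' : ∀ g : {a // φ a = b}, ((g₀⁻¹ * g.1 : h.uGroup).1).symm v = v := by
      intro g
      rw [LinearEquiv.symm_apply_eq, hfix g]
    have hinvmem : ∀ g : {a // φ a = b}, ((g₀⁻¹ * g.1 : h.uGroup).1).symm ∈ h.uGroup := by
      intro g
      exact h.uGroup.inv_mem (g₀⁻¹ * g.1 : h.uGroup).2
    let ψ : {a // φ a = b} → (h.res (h.perp1 v)).uGroup := fun g =>
      ⟨restrictEquiv (g₀⁻¹ * g.1 : h.uGroup).1 (h.perp1 v)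
        (map_mem_perp1 h (g₀⁻¹ * g.1 : h.uGroup).2 (hfix g))
        (map_mem_perp1 h (hinvmem g) (hfix' g)), by
        intro x y
        show h ((g₀⁻¹ * g.1 : h.uGroup).1 x) ((g₀⁻¹ * g.1 : h.uGroup).1 y) = h x y
        exact (g₀⁻¹ * g.1 : h.uGroup).2 x y⟩
    have hψ : Function.Injective ψ := by
      intro g g' hgg
      have hres : ∀ x : h.perp1 v,
          (g₀⁻¹ * g.1 : h.uGroup).1 x = (g₀⁻¹ * g'.1 : h.uGroup).1 x := by
        intro x
        have := congrArg (fun e => ((e.1 x : h.perp1 v) : V)) hgg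
        exact this
      have hall : ∀ x : V, (g₀⁻¹ * g.1 : h.uGroup).1 x = (g₀⁻¹ * g'.1 : h.uGroup).1 x := by
        intro x
        have hx : x = (h x v / h v v) • v + (x - (h x v / h v v) • v) := by abel
        rw [hx, map_add, map_add, map_smul, map_smul, hfix g, hfix g']
        congr 1
        exact hres ⟨_, decomp_mem_perp1 h hv x⟩
      have heq : (g₀⁻¹ * g.1 : h.uGroup) = g₀⁻¹ * g'.1 := by
        apply Subtype.ext
        apply LinearEquiv.ext
        exact hall
      have := mul_left_cancel heq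
      exact Subtype.ext this
    exact Nat.card_le_card_of_injective ψ hψ
  · rw [not_nonempty_iff] at hne
    rw [Nat.card_of_isEmpty]
    exact Nat.zero_le _

end Cfsg.Agent.Lib.Helper1.UHLeaf
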