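import Mathlib
import Cfsg.Agent.Lib.Helper11.UHDefs
import Cfsg.Agent.Lib.Helper1.LSD2

/-!
helper1: leaf UHHD2 of S2335/S2334 (Landazuri–Seitz for `SU_n(q)`): reduction of the isometry
group of a skew-Hermitian form to a complement of its radical.
-/

set_option autoImplicit false
set_option linter.unusedSectionVars false
set_option linter.unusedVariables false

open Module Cfsg.Agent.Lib.Helper11.LS Cfsg.Agent.Lib.Helper11.UH

namespace Cfsg.Agent.Lib.Helper1.UHLeaf

open Cfsg.Agent.Lib.Helper1.LSLeaf

universe u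
variable {F : Type*} [Field F] [Fintype F] [DecidableEq F] {q : ℕ} {V : Type u} [AddCommGroup V]
  [Module F V]

/-- the radical is invariant under isometries -/
theorem map_mem_rad (h : SkForm F q V) {g : V ≃ₗ[F] V} (hg : g ∈ h.uGroup) (x : V)
    (hx : x ∈ h.rad) : g x ∈ h.rad := by
  rw [SkForm.mem_rad] at hx ⊢
  intro y
  have h1 := hg x (g.symm y)
  rw [LinearEquiv.apply_symm_apply] at h1
  rw [h1]
  exact hx _

/-- elements of the radical are also right-orthogonal to everything -/
theorem apply_rad_right (h : SkForm F q V) (hq : q ≠ 0) {r : V} (hr : r ∈ h.rad) (x : V) :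
    h x r = 0 := h.eq_zero_symm hq (hr x)

/-- `h` only depends on the components in a complement of the radical -/
theorem apply_projectionOnto_rad (h : SkForm F q V) (hq : q ≠ 0) (V₁ : Submodule F V)
    (hc : IsCompl V₁ h.rad) (x y : V) :
    h ((V₁.projectionOnto h.rad hc x : V₁) : V) ((V₁.projectionOnto h.rad hc y : V₁) : V) =
      h x y := by
  have hx := Submodule.projection_add_projection_eq_self hc x
  have hy := Submodule.projection_add_projection_eq_self hc y
  rw [Submodule.projection_apply, Submodule.projection_apply] at hx hy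
  have hrx : ((h.rad.projectionOnto V₁ hc.symm x : h.rad) : V) ∈ h.rad := Submodule.coe_mem _
  have hry : ((h.rad.projectionOnto V₁ hc.symm y : h.rad) : V) ∈ h.rad := Submodule.coe_mem _
  conv_rhs => rw [← hx, ← hy]
  rw [h.add_left, h.add_right, h.add_right, apply_rad_right h hq hry, hrx _, hrx _]
  simp

theorem card_uGroup_le_of_isCompl (hF : Fintype.card F = q ^ 2) [Finite V] (h : SkForm F q V)
    (V₁ : Submodule F V) (hc : IsCompl V₁ h.rad) :
    Nat.card h.uGroup ≤ Nat.card (h.res V₁).uGroup *
      (q ^ 2) ^ (finrank F V₁ * (finrank F V - finrank F V₁)) *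
        gl (q ^ 2) (finrank F V - finrank F V₁) := by
  classical
  have hq2 := Cfsg.Agent.Lib.Helper14.herm_two_le hF
  have hq : q ≠ 0 := by omega
  have hfd : Module.Finite F V := Module.Finite.of_finite
  have hdim : finrank F h.rad = finrank F V - finrank F V₁ := by
    have := Submodule.finrank_add_eq_of_isCompl hc
    omega
  have hfin1 : Finite (V₁ ≃ₗ[F] V₁) :=
    Finite.of_injective (fun e => (e : V₁ → V₁)) DFunLike.coe_injective
  have hfin2 : Finite (V₁ →ₗ[F] h.rad) :=
    Finite.of_injective (fun e => (e : V₁ → h.rad)) DFunLike.coe_injective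
  have hfin3 : Finite (h.rad ≃ₗ[F] h.rad) :=
    Finite.of_injective (fun e => (e : h.rad → h.rad)) DFunLike.coe_injective
  -- the first component is injective
  have hαinj : ∀ g : h.uGroup, Function.Injective
      ((V₁.projectionOnto h.rad hc) ∘ₗ g.1.toLinearMap ∘ₗ V₁.subtype) := by
    intro g
    rw [injective_iff_map_eq_zero]
    intro x hx
    have h1 : g.1 (x : V) ∈ h.rad := by
      rw [← Submodule.projectionOnto_apply_eq_zero_iff hc]
      exact hx
    have h2 : (x : V) ∈ h.rad := by
      have := map_mem_rad h (h.uGroup.inv_mem g.2) _ h1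
      have h3 : (g.1)⁻¹ (g.1 (x : V)) = (x : V) := LinearEquiv.symm_apply_apply g.1 _
      rw [h3] at this
      exact this
    have h3 : (x : V) ∈ V₁ ⊓ h.rad := ⟨x.2, h2⟩
    rw [hc.disjoint.eq_bot] at h3
    exact Subtype.ext ((Submodule.mem_bot F).mp h3)
  let Ψ : h.uGroup → (h.res V₁).uGroup × (V₁ →ₗ[F] h.rad) × (h.rad ≃ₗ[F] h.rad) := fun g =>
    (⟨LinearEquiv.ofInjectiveEndo _ (hαinj g), by
        intro x y
        rw [LinearEquiv.coe_ofInjectiveEndo]
        show h ((V₁.projectionOnto h.rad hc (g.1 (x : V)) : V₁) : V)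
          ((V₁.projectionOnto h.rad hc (g.1 (y : V)) : V₁) : V) = h (x : V) (y : V)
        rw [apply_projectionOnto_rad h hq, g.2]⟩,
      (h.rad.projectionOnto V₁ hc.symm) ∘ₗ g.1.toLinearMap ∘ₗ V₁.subtype,
      restrictEquiv g.1 h.rad (map_mem_rad h g.2) (map_mem_rad h (h.uGroup.inv_mem g.2)))
  have hΨ : Function.Injective Ψ := by
    intro g g' hgg
    have e1 : ∀ x : V₁, V₁.projectionOnto h.rad hc (g.1 (x : V)) =
        V₁.projectionOnto h.rad hc (g'.1 (x : V)) := by
      intro x
      have := congrArg (fun t => (t.1.1 : V₁ ≃ₗ[F] V₁) x) hgg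
      simp only [Ψ] at this
      rw [LinearEquiv.coe_ofInjectiveEndo, LinearEquiv.coe_ofInjectiveEndo] at this
      exact this
    have e2 : ∀ x : V₁, h.rad.projectionOnto V₁ hc.symm (g.1 (x : V)) =
        h.rad.projectionOnto V₁ hc.symm (g'.1 (x : V)) := by
      intro x
      have := congrArg (fun t => (t.2.1 : V₁ →ₗ[F] h.rad) x) hgg
      exact this
    have e3 : ∀ x : h.rad, g.1 (x : V) = g'.1 (x : V) := by
      intro x
      have := congrArg (fun t => (((t.2.2 : h.rad ≃ₗ[F] h.rad) x : h.rad) : V)) hgg
      exact this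
    have e12 : ∀ x : V₁, g.1 (x : V) = g'.1 (x : V) := by
      intro x
      have h1 := Submodule.projection_add_projection_eq_self hc (g.1 (x : V))
      have h2 := Submodule.projection_add_projection_eq_self hc (g'.1 (x : V))
      rw [Submodule.projection_apply, Submodule.projection_apply] at h1 h2
      rw [← h1, ← h2, e1 x, e2 x]
    apply Subtype.ext
    apply LinearEquiv.ext
    intro y
    have hy := Submodule.projection_add_projection_eq_self hc y
    rw [Submodule.projection_apply, Submodule.projection_apply] at hy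
    rw [← hy, map_add, map_add, e12, e3]
  calc Nat.card h.uGroup
      ≤ Nat.card ((h.res V₁).uGroup × (V₁ →ₗ[F] h.rad) × (h.rad ≃ₗ[F] h.rad)) :=
        Nat.card_le_card_of_injective Ψ hΨ
    _ = Nat.card (h.res V₁).uGroup *
          (q ^ 2) ^ (finrank F V₁ * (finrank F V - finrank F V₁)) *
            gl (q ^ 2) (finrank F V - finrank F V₁) := by
      rw [Nat.card_prod, Nat.card_prod, card_linearEquiv_aux,
        Module.natCard_eq_pow_finrank (K := F) (V := V₁ →ₗ[F] h.rad),
        Module.finrank_linearMap, hdim, Nat.card_eq_fintype_card (α := F), hF, mul_assoc]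

end Cfsg.Agent.Lib.Helper1.UHLeaf
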