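import Mathlib
import Cfsg.Prelude.Def_ConjugacyFunctors
import Cfsg.Prelude.Def_Local
import Cfsg.Agent.Lib.Helper27.FixedSplit
import Cfsg.Agent.Lib.Helper12.Basic
import Cfsg.Agent.Lib.Helper12.PPrimeP
import Cfsg.Agent.Lib.Helper8.PPrimePCore

/-!
# Weakly closed elements of a Sylow subgroup form a direct factor of its centre (helper1)

* `split_of_control`: generic splitting lemma (transfer/averaging on `Z(R)` for `R ≤ S ≤ N ≤ N_G(R)`),
  abstracted from helper12's proof of S1944.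
* `wc_transport`: transport of "elements central in `N_G(W T)` are weakly closed" along a conjugation.
* `center_le_pPrimePCore_of_solvable`: `Z(S) ≤ O_{p',p}(G)` for solvable `G` (Hall–Higman 1.2.3).
-/

set_option autoImplicit false

namespace Cfsg.Agent.Lib.Helper1.WCSplit

open Subgroup Cfsg.Agent.Lib.Helper12 Cfsg.Agent.Lib.Helper27

/-- conjugation action of a subgroup `N` on a subgroup `Z` that it normalizes -/
def conjActN {G : Type*} [Group G] (N Z : Subgroup G)
    (hNZ : N ≤ Subgroup.normalizer (Z : Set G)) : ↥N →* MulAut ↥Z where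
  toFun n :=
    { toFun := fun z => ⟨(n : G) * z * (n : G)⁻¹, (Subgroup.mem_normalizer_iff.mp (hNZ n.2) z).mp z.2⟩
      invFun := fun z => ⟨(n : G)⁻¹ * z * (n : G), by
        apply (Subgroup.mem_normalizer_iff.mp (hNZ n.2) _).mpr
        have e : (n : G) * ((n : G)⁻¹ * z * (n : G)) * (n : G)⁻¹ = z := by group
        rw [e]; exact z.2⟩
      left_inv := fun z => by
        apply Subtype.ext
        show (n : G)⁻¹ * ((n : G) * z * (n : G)⁻¹) * (n : G) = z
        group
      right_inv := fun z => by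
        apply Subtype.ext
        show (n : G) * ((n : G)⁻¹ * z * (n : G)) * (n : G)⁻¹ = z
        group
      map_mul' := fun a b => by
        apply Subtype.ext
        show (n : G) * ((a : G) * (b : G)) * (n : G)⁻¹ =
          ((n : G) * a * (n : G)⁻¹) * ((n : G) * b * (n : G)⁻¹)
        group }
  map_one' := by
    apply MulEquiv.ext
    intro z
    apply Subtype.ext
    show ((1 : ↥N) : G) * z * ((1 : ↥N) : G)⁻¹ = z
    simp
  map_mul' := fun a b => by
    apply MulEquiv.ext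
    intro z
    apply Subtype.ext
    show ((a * b : ↥N) : G) * z * ((a * b : ↥N) : G)⁻¹ =
      (a : G) * ((b : G) * z * (b : G)⁻¹) * (a : G)⁻¹
    rw [Subgroup.coe_mul]
    group

theorem conjActN_apply {G : Type*} [Group G] (N Z : Subgroup G)
    (hNZ : N ≤ Subgroup.normalizer (Z : Set G)) (n : ↥N) (z : ↥Z) :
    ((conjActN N Z hNZ n z : ↥Z) : G) = (n : G) * z * (n : G)⁻¹ := rfl

/-- **Generic splitting lemma.** `R ≤ S ≤ N ≤ N_G(R)`, `Z(S) ≤ R`, and every element of `Z(R)` fixed by `N` is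
weakly closed in `S`: then the weakly closed elements of `S` form a direct factor of `Z(S)`. -/
theorem split_of_control {G : Type*} [Group G] [Finite G] {p : ℕ} [Fact p.Prime] (S : Sylow p G)
    (R N : Subgroup G) (hRS : R ≤ (S : Subgroup G)) (hSN : (S : Subgroup G) ≤ N)
    (hNR : N ≤ Subgroup.normalizer (R : Set G))
    (hZ : (S : Subgroup G) ⊓ Subgroup.centralizer ((S : Subgroup G) : Set G) ≤ R)
    (hctl : ∀ z ∈ R ⊓ Subgroup.centralizer (R : Set G), (∀ n ∈ N, n * z * n⁻¹ = z) →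
      ∀ g : G, g * z * g⁻¹ ∈ (S : Subgroup G) → g * z * g⁻¹ = z) :
    ∃ W K : Subgroup G, (∀ x : G, x ∈ W ↔ (x ∈ (S : Subgroup G) ∧
        ∀ g : G, g * x * g⁻¹ ∈ (S : Subgroup G) → g * x * g⁻¹ = x)) ∧
      K ≤ ((S : Subgroup G) ⊓ Subgroup.centralizer ((S : Subgroup G) : Set G)) ∧ W ⊓ K = ⊥ ∧
      W ⊔ K = ((S : Subgroup G) ⊓ Subgroup.centralizer ((S : Subgroup G) : Set G)) := by
  classical
  set ZS := (S : Subgroup G) ⊓ Subgroup.centralizer ((S : Subgroup G) : Set G) with hZS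
  set ZR := R ⊓ Subgroup.centralizer (R : Set G) with hZR
  have hZSZR : ZS ≤ ZR := by
    intro x hx
    refine Subgroup.mem_inf.mpr ⟨hZ hx, ?_⟩
    exact Subgroup.centralizer_le hRS (Subgroup.mem_inf.mp hx).2
  -- `N` normalizes `ZR`
  have hconj : ∀ n ∈ N, ∀ z ∈ ZR, n * z * n⁻¹ ∈ ZR := by
    intro n hn z hz
    obtain ⟨hzR, hzC⟩ := Subgroup.mem_inf.mp hz
    have hn' := hNR hn
    refine Subgroup.mem_inf.mpr ⟨(Subgroup.mem_normalizer_iff.mp hn' z).mp hzR, ?_⟩
    rw [Subgroup.mem_centralizer_iff]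
    intro r hr
    have hr' : n⁻¹ * r * n ∈ R := by
      have := (Subgroup.mem_normalizer_iff.mp (inv_mem hn') r).mp hr
      simpa using this
    have h1 := Subgroup.mem_centralizer_iff.mp hzC _ hr'
    calc r * (n * z * n⁻¹) = n * ((n⁻¹ * r * n) * z) * n⁻¹ := by group
      _ = n * (z * (n⁻¹ * r * n)) * n⁻¹ := by rw [h1]
      _ = n * z * n⁻¹ * r := by group
  have hNZR : N ≤ Subgroup.normalizer (ZR : Set G) := by
    intro n hn
    rw [Subgroup.mem_normalizer_iff]
    intro z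
    constructor
    · exact hconj n hn z
    · intro hz
      have := hconj n⁻¹ (inv_mem hn) _ hz
      have e : n⁻¹ * (n * z * n⁻¹) * n⁻¹⁻¹ = z := by group
      rwa [e] at this
  have hZRcomm : ∀ a b : ↥ZR, a * b = b * a := by
    intro a b
    apply Subtype.ext
    have ha := (Subgroup.mem_inf.mp a.2).2
    have hb := (Subgroup.mem_inf.mp b.2).1
    have := Subgroup.mem_centralizer_iff.mp ha b hb
    show (a : G) * b = b * a
    exact this.symm
  letI : CommGroup ↥ZR := { (inferInstance : Group ↥ZR) with mul_comm := hZRcomm }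
  have hZRp : IsPGroup p ↥ZR := S.2.to_le (inf_le_left.trans hRS)
  let ρ : ↥N →* MulAut ↥ZR := conjActN N ZR hNZR
  have hidx : ¬ p ∣ ((S : Subgroup G).subgroupOf N).index := sylow_not_dvd_relIndex S N hSN
  obtain ⟨KV, hKV1, hKV2, hKV3⟩ := exists_compl_fixed ρ ((S : Subgroup G).subgroupOf N) hZRp hidx
  -- description of the fixed points
  have hfixS : ∀ z : ↥ZR, z ∈ fixedBySubgroup ρ ((S : Subgroup G).subgroupOf N) ↔ (z : G) ∈ ZS := by
    intro z
    constructor
    · intro hz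
      refine Subgroup.mem_inf.mpr ⟨hRS (Subgroup.mem_inf.mp z.2).1, ?_⟩
      rw [Subgroup.mem_centralizer_iff]
      intro s hs
      have h1 := hz ⟨s, hSN hs⟩ (by rw [Subgroup.mem_subgroupOf]; exact hs)
      have h2 : s * (z : G) * s⁻¹ = z := congrArg Subtype.val h1
      calc s * (z : G) = (s * (z : G) * s⁻¹) * s := by group
        _ = z * s := by rw [h2]
    · intro hz n hn
      rw [Subgroup.mem_subgroupOf] at hn
      apply Subtype.ext
      show (n : G) * z * (n : G)⁻¹ = z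
      have := Subgroup.mem_centralizer_iff.mp (Subgroup.mem_inf.mp hz).2 n hn
      calc (n : G) * z * (n : G)⁻¹ = (z * (n : G)) * (n : G)⁻¹ := by rw [this]
        _ = z := by group
  have hfixN : ∀ z : ↥ZR, z ∈ fixedBySubgroup ρ ⊤ ↔ ∀ n ∈ N, n * (z : G) * n⁻¹ = z := by
    intro z
    constructor
    · intro hz n hn
      exact congrArg Subtype.val (hz ⟨n, hn⟩ (Subgroup.mem_top _))
    · intro hz n _
      apply Subtype.ext
      exact hz n n.2
  refine ⟨(fixedBySubgroup ρ ⊤).map ZR.subtype, KV.map ZR.subtype, ?_, ?_, ?_, ?_⟩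
  · intro x
    constructor
    · rintro ⟨z, hz, rfl⟩
      have hzS : (z : G) ∈ (S : Subgroup G) := hRS (Subgroup.mem_inf.mp z.2).1
      refine ⟨hzS, fun g hg => ?_⟩
      exact hctl (z : G) z.2 ((hfixN z).mp hz) g hg
    · rintro ⟨hxS, hx⟩
      have hxZS : x ∈ ZS := by
        refine Subgroup.mem_inf.mpr ⟨hxS, ?_⟩
        rw [Subgroup.mem_centralizer_iff]
        intro s hs
        have h1 := hx s ((S : Subgroup G).mul_mem ((S : Subgroup G).mul_mem hs hxS) ((S : Subgroup G).inv_mem hs))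
        calc s * x = (s * x * s⁻¹) * s := by group
          _ = x * s := by rw [h1]
      refine ⟨⟨x, hZSZR hxZS⟩, ?_, rfl⟩
      rw [SetLike.mem_coe, hfixN]
      intro n hn
      apply hx
      have h1 : n * x * n⁻¹ ∈ R :=
        (Subgroup.mem_normalizer_iff.mp (hNR hn) x).mp (Subgroup.mem_inf.mp (hZSZR hxZS)).1
      exact hRS h1
  · rintro _ ⟨z, hz, rfl⟩
    exact (hfixS z).mp (hKV1 hz)
  · rw [← Subgroup.map_inf_eq _ _ _ ZR.subtype_injective, hKV2, Subgroup.map_bot]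
  · rw [← Subgroup.map_sup, hKV3]
    ext x
    constructor
    · rintro ⟨z, hz, rfl⟩
      exact (hfixS z).mp hz
    · intro hx
      exact ⟨⟨x, hZSZR hx⟩, (hfixS _).mpr hx, rfl⟩

/-- transport of "elements of `T` central in `N_G(W T)` are weakly closed in `T`" along a conjugation -/
theorem wc_transport {G : Type*} [Group G] (Wf : Subgroup G → Subgroup G) (T S : Subgroup G) (g : G)
    (hS : S = T.map (MulAut.conj g).toMonoidHom)
    (hW : Wf S = (Wf T).map (MulAut.conj g).toMonoidHom)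
    (hT : ∀ x ∈ T, (∀ n ∈ Subgroup.normalizer ((Wf T : Subgroup G) : Set G), n * x * n⁻¹ = x) →
      ∀ h : G, h * x * h⁻¹ ∈ T → h * x * h⁻¹ = x) :
    ∀ x ∈ S, (∀ n ∈ Subgroup.normalizer ((Wf S : Subgroup G) : Set G), n * x * n⁻¹ = x) →
      ∀ h : G, h * x * h⁻¹ ∈ S → h * x * h⁻¹ = x := by
  intro x hx hxN h hh
  rw [hS, mem_map_conj_iff] at hx hh
  have key : ∀ n ∈ Subgroup.normalizer ((Wf T : Subgroup G) : Set G),
      n * (g⁻¹ * x * g) * n⁻¹ = g⁻¹ * x * g := by
    intro n hn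
    have hn' : g * n * g⁻¹ ∈ Subgroup.normalizer ((Wf S : Subgroup G) : Set G) := by
      rw [hW, Subgroup.mem_normalizer_iff]
      intro y
      rw [mem_map_conj_iff, mem_map_conj_iff]
      have e : g⁻¹ * (g * n * g⁻¹ * y * (g * n * g⁻¹)⁻¹) * g = n * (g⁻¹ * y * g) * n⁻¹ := by group
      rw [e]
      exact Subgroup.mem_normalizer_iff.mp hn _
    have h1 := hxN _ hn'
    calc n * (g⁻¹ * x * g) * n⁻¹ = g⁻¹ * ((g * n * g⁻¹) * x * (g * n * g⁻¹)⁻¹) * g := by group
      _ = g⁻¹ * x * g := by rw [h1]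
  have h2 := hT _ hx key (g⁻¹ * h * g) (by
    have e : g⁻¹ * h * g * (g⁻¹ * x * g) * (g⁻¹ * h * g)⁻¹ = g⁻¹ * (h * x * h⁻¹) * g := by group
    rw [e]; exact hh)
  have e : g⁻¹ * h * g * (g⁻¹ * x * g) * (g⁻¹ * h * g)⁻¹ = g⁻¹ * (h * x * h⁻¹) * g := by group
  rw [e] at h2
  calc h * x * h⁻¹ = g * (g⁻¹ * (h * x * h⁻¹) * g) * g⁻¹ := by group
    _ = g * (g⁻¹ * x * g) * g⁻¹ := by rw [h2]
    _ = x := by group

/-- `Z(S) ≤ O_{p',p}(G)` for a Sylow `p`-subgroup `S` of a finite solvable group `G` -/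
theorem center_le_pPrimePCore_of_solvable {G : Type*} [Group G] [Finite G] [Group.IsSolvable G]
    {p : ℕ} [Fact p.Prime] (S : Sylow p G) :
    (S : Subgroup G) ⊓ Subgroup.centralizer ((S : Subgroup G) : Set G) ≤ Cfsg.pPrimePCore p G := by
  intro k hk
  obtain ⟨hkS, hkC⟩ := Subgroup.mem_inf.mp hk
  apply Cfsg.Agent.Lib.Helper8.mem_pPrimePCore_of_commutator_mem p
  intro r hr
  have hr' : r ∈ Cfsg.pPrimeCore p G ⊔ ((S : Subgroup G) ⊓ Cfsg.pPrimePCore p G) := by
    rw [pPrimeCore_sup_sylow_inf S]; exact hr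
  rw [Subgroup.mem_sup_of_normal_left] at hr'
  obtain ⟨a, ha, s, hs, rfl⟩ := hr'
  have hks : k * s = s * k :=
    (Subgroup.mem_centralizer_iff.mp hkC s (Subgroup.mem_inf.mp hs).1).symm
  have e : k * (a * s) * k⁻¹ * (a * s)⁻¹ = (k * a * k⁻¹) * a⁻¹ := by
    calc k * (a * s) * k⁻¹ * (a * s)⁻¹ = k * a * (s * k⁻¹) * s⁻¹ * a⁻¹ := by group
      _ = k * a * (k⁻¹ * s) * s⁻¹ * a⁻¹ := by
          have : s * k⁻¹ = k⁻¹ * s := by
            calc s * k⁻¹ = k⁻¹ * (k * s) * k⁻¹ := by group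
              _ = k⁻¹ * (s * k) * k⁻¹ := by rw [hks]
              _ = k⁻¹ * s := by group
          rw [this]
      _ = (k * a * k⁻¹) * a⁻¹ := by group
  rw [e]
  exact mul_mem ((pPrimeCore_normal' p).conj_mem a ha k) (inv_mem ha)

end Cfsg.Agent.Lib.Helper1.WCSplit
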