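import Mathlib
import Cfsg.Agent.Lib.Helper19.IrredCyclic

/-!
Helper1: semilinear automorphisms with a two-element fixed space (towards Zassenhaus groups with a
regular normal subgroup).  `core`: if `T` acts irreducibly on the finite elementary abelian
`2`-group `V`, `S` normalizes the field generated by `T`, fixes exactly `0` and `v₀ ≠ 0`, and
`S ^ j = 1`, then `|V| = 2 ^ n` with `n ∣ j`.
-/

set_option autoImplicit false
set_option linter.unusedSectionVars false
set_option linter.unusedVariables false

namespace Cfsg.Agent.Lib.Helper1.ZR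

open Cfsg.Agent.Lib.Helper19.IrredCyclic Module
open scoped IsMulCommutative

section abstract

variable {V : Type*} [AddCommGroup V] [Finite V] [Nontrivial V]

theorem core (T : AddMonoid.End V)
    (hirr : ∀ W : AddSubgroup V, (∀ w ∈ W, T w ∈ W) → W = ⊥ ∨ W = ⊤)
    (h2V : ∀ v : V, 2 • v = 0)
    (S S' : AddMonoid.End V) (h1 : S * S' = 1) (h2 : S' * S = 1) (hmem : S * T * S' ∈ genRing T)
    (v₀ : V) (hv₀ : v₀ ≠ 0) (hSv : S v₀ = v₀) (hfix : ∀ w : V, S w = w → w = 0 ∨ w = v₀)
    (j : ℕ) (hj : S ^ j = 1) : ∃ n : ℕ, n ∣ j ∧ Nat.card V = 2 ^ n := by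
  classical
  have hfin : Finite (AddMonoid.End V) :=
    Finite.of_injective (fun f : AddMonoid.End V => (f : V → V)) DFunLike.coe_injective
  have hnzd := genRing_noZeroDivisors T hirr
  have hnt := genRing_nontrivial T
  have hdom : IsDomain (genRing T) := NoZeroDivisors.to_isDomain _
  have hft := Fintype.ofFinite (genRing T)
  let _ : Field (genRing T) := Fintype.fieldOfDomain (genRing T)
  -- conjugation as a ring endomorphism of `End V`
  let c : AddMonoid.End V →+* AddMonoid.End V :=
    { toFun := fun f => S * f * S'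
      map_one' := by rw [mul_one, h1]
      map_mul' := fun f g => by
        calc S * (f * g) * S' = S * f * (1 * g) * S' := by rw [one_mul, mul_assoc S f g]
          _ = S * f * (S' * S * g) * S' := by rw [h2]
          _ = S * f * S' * (S * g * S') := by simp only [mul_assoc]
      map_zero' := by rw [mul_zero, zero_mul]
      map_add' := fun f g => by rw [mul_add, add_mul] }
  have hmap : ∀ f ∈ genRing T, c f ∈ genRing T := by
    intro f hf
    have hle : (genRing T).map c ≤ genRing T := by
      rw [RingHom.map_closure, Subring.closure_le]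
      rintro _ ⟨t, ht, rfl⟩
      rw [Set.mem_singleton_iff.1 ht]
      exact hmem
    exact hle ⟨f, hf, rfl⟩
  let σ₀ : genRing T →+* genRing T :=
    (c.comp (genRing T).subtype).codRestrict (genRing T) (fun f => hmap f f.2)
  have hσ₀ : ∀ f : genRing T, ((σ₀ f : genRing T) : AddMonoid.End V) = S * f * S' := fun f => rfl
  have hinj : Function.Injective σ₀ := RingHom.injective σ₀
  have hbij : Function.Bijective σ₀ := ⟨hinj, Finite.injective_iff_surjective.mp hinj⟩
  let σ : genRing T ≃+* genRing T := RingEquiv.ofBijective σ₀ hbij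
  have hσ : ∀ f : genRing T, ((σ f : genRing T) : AddMonoid.End V) = S * f * S' := fun f => rfl
  -- powers
  have hS'j : S' ^ j = 1 := by
    have h3 : ∀ k : ℕ, S' ^ k * S ^ k = 1 := by
      intro k
      induction k with
      | zero => simp
      | succ k ih =>
        calc S' ^ (k + 1) * S ^ (k + 1) = S' ^ k * (S' * S) * S ^ k := by
              rw [pow_succ, pow_succ', mul_assoc, mul_assoc, mul_assoc]
          _ = 1 := by rw [h2, mul_one, ih]
    have := h3 j
    rwa [hj, mul_one] at this
  have hσpow : ∀ (k : ℕ) (f : genRing T),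
      (((σ ^ k) f : genRing T) : AddMonoid.End V) = S ^ k * f * S' ^ k := by
    intro k
    induction k with
    | zero => intro f; simp
    | succ k ih =>
      intro f
      rw [pow_succ', RingAut.mul_apply, hσ, ih, pow_succ', pow_succ]
      simp only [mul_assoc]
  have hσj : σ ^ j = 1 := by
    ext f
    have := hσpow j f
    rw [hj, hS'j, one_mul, mul_one] at this
    rw [this]
    rfl
  -- evaluation at `v₀`
  have hS'v : S' v₀ = v₀ := by
    have : (S' * S) v₀ = v₀ := by rw [h2]; rfl
    have h4 : S' (S v₀) = v₀ := this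
    rwa [hSv] at h4
  have hev : ∀ f : genRing T, (f : AddMonoid.End V) v₀ = 0 → f = 0 := by
    intro f hf
    by_contra hne
    have hne' : (f : AddMonoid.End V) ≠ 0 := fun h => hne (Subtype.ext h)
    have := injective_of_mem T hirr f.2 hne'
    exact hv₀ (this (hf.trans (map_zero _).symm))
  -- the fixed field has two elements
  set B : Subgroup (genRing T ≃+* genRing T) := Subgroup.zpowers σ with hB
  have hAutfin : Finite (genRing T ≃+* genRing T) :=
    Finite.of_injective (fun e : genRing T ≃+* genRing T => (e : genRing T → genRing T))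
      DFunLike.coe_injective
  have hBfin : Finite B := inferInstance
  have hBft : Fintype B := Fintype.ofFinite B
  have hfixed : ∀ f : genRing T, f ∈ FixedPoints.subfield B (genRing T) → f = 0 ∨ f = 1 := by
    intro f hf
    have h3 : σ f = f := hf ⟨σ, Subgroup.mem_zpowers σ⟩
    have h4 : S ((f : AddMonoid.End V) v₀) = (f : AddMonoid.End V) v₀ := by
      have h5 := congrArg (fun g : genRing T => (g : AddMonoid.End V) v₀) h3
      simp only [hσ] at h5
      have h6 : (S * (f : AddMonoid.End V) * S') v₀ = S ((f : AddMonoid.End V) (S' v₀)) := rfl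
      rw [h6, hS'v] at h5
      exact h5
    rcases hfix _ h4 with h5 | h5
    · left; exact hev f h5
    · right
      have h6 : ((f - 1 : genRing T) : AddMonoid.End V) v₀ = 0 := by
        show ((f : AddMonoid.End V) - 1) v₀ = 0
        show (f : AddMonoid.End V) v₀ - v₀ = 0
        rw [h5, sub_self]
      exact sub_eq_zero.mp (hev _ h6)
  have hKft : Fintype (FixedPoints.subfield B (genRing T)) := Fintype.ofFinite _
  have hcardK : Fintype.card (FixedPoints.subfield B (genRing T)) = 2 := by
    rw [← Nat.card_eq_fintype_card, Nat.card_eq_two_iff]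
    refine ⟨0, 1, zero_ne_one, ?_⟩
    ext f
    simp only [Set.mem_insert_iff, Set.mem_singleton_iff, Set.mem_univ, iff_true]
    rcases hfixed f.1 f.2 with h | h
    · left; exact Subtype.ext h
    · right; exact Subtype.ext h
  have hrank := FixedPoints.finrank_eq_card B (genRing T)
  have hcardL : Fintype.card (genRing T) =
      Fintype.card (FixedPoints.subfield B (genRing T)) ^
        finrank (FixedPoints.subfield B (genRing T)) (genRing T) :=
    Module.card_eq_pow_finrank
  rw [hcardK, hrank] at hcardL
  have hcardB : Fintype.card B = orderOf σ := by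
    rw [← Nat.card_eq_fintype_card, hB, Nat.card_zpowers]
  refine ⟨orderOf σ, orderOf_dvd_of_pow_eq_one hσj, ?_⟩
  rw [← hcardB, ← hcardL, ← Nat.card_eq_fintype_card]
  apply le_antisymm (card_le_card_genRing T hirr)
  apply Nat.card_le_card_of_injective (fun f : genRing T => (f : AddMonoid.End V) v₀)
  intro f g hfg
  have h6 : ((f - g : genRing T) : AddMonoid.End V) v₀ = 0 := by
    show ((f : AddMonoid.End V) - (g : AddMonoid.End V)) v₀ = 0
    show (f : AddMonoid.End V) v₀ - (g : AddMonoid.End V) v₀ = 0
    rw [show (f : AddMonoid.End V) v₀ = (g : AddMonoid.End V) v₀ from hfg, sub_self]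
  exact sub_eq_zero.mp (hev _ h6)

end abstract

section grp

variable {G : Type*} [Group G]

/-- group form of `core` -/
theorem core_group (N : Subgroup G) [N.Normal] [Finite N] (hN1 : N ≠ ⊥)
    (hNc : ∀ a ∈ N, ∀ b ∈ N, a * b = b * a) (hN2 : ∀ a ∈ N, a ^ 2 = 1)
    (x : G) (hirr : ∀ L : Subgroup G, L ≤ N → (∀ l ∈ L, x * l * x⁻¹ ∈ L) → L = ⊥ ∨ L = N)
    (y : G) (k : ℕ) (hk : y * x * y⁻¹ = x ^ k)
    (v₀ : G) (hv₀N : v₀ ∈ N) (hv₀ : v₀ ≠ 1) (hyv : y * v₀ * y⁻¹ = v₀)
    (hfix : ∀ w ∈ N, y * w * y⁻¹ = w → w = 1 ∨ w = v₀)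
    (j : ℕ) (hj : y ^ j = 1) : ∃ n : ℕ, n ∣ j ∧ Nat.card N = 2 ^ n := by
  let _ : CommGroup N :=
    { (inferInstance : Group N) with
      mul_comm := fun a b => Subtype.ext (hNc a a.2 b b.2) }
  have hnt : Nontrivial (Additive N) := by
    have : Nontrivial N := (Subgroup.nontrivial_iff_ne_bot N).2 hN1
    exact (inferInstance : Nontrivial N)
  have hfin : Finite (Additive N) := (inferInstance : Finite N)
  set T : AddMonoid.End (Additive N) := toEndAdd N (MulAut.conjNormal x) with hT
  set S : AddMonoid.End (Additive N) := toEndAdd N (MulAut.conjNormal y) with hS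
  set S' : AddMonoid.End (Additive N) := toEndAdd N (MulAut.conjNormal y⁻¹) with hS'
  have h1 : S * S' = 1 := by
    rw [hS, hS', ← map_mul, ← map_mul, mul_inv_cancel, map_one, map_one]
  have h2 : S' * S = 1 := by
    rw [hS, hS', ← map_mul, ← map_mul, inv_mul_cancel, map_one, map_one]
  have h3 : S * T * S' = T ^ k := by
    rw [hS, hT, hS', ← map_mul, ← map_mul, ← map_mul, ← map_mul, hk, map_pow, map_pow]
  have hmem : S * T * S' ∈ genRing T := by
    rw [h3]; exact pow_mem (T_mem T) k
  have hirr' : ∀ W : AddSubgroup (Additive N), (∀ w ∈ W, T w ∈ W) → W = ⊥ ∨ W = ⊤ := by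
    intro W hW
    let L : Subgroup G := (AddSubgroup.toSubgroup W).map N.subtype
    have hLN : L ≤ N := by
      rintro _ ⟨a, _, rfl⟩
      exact a.2
    have hLx : ∀ l ∈ L, x * l * x⁻¹ ∈ L := by
      rintro _ ⟨a, ha, rfl⟩
      refine ⟨MulAut.conjNormal x a, ?_, ?_⟩
      · exact hW (Additive.ofMul a) ha
      · rw [Subgroup.coe_subtype, MulAut.conjNormal_apply]
    rcases hirr L hLN hLx with hL | hL
    · left
      rw [AddSubgroup.eq_bot_iff_forall]
      intro w hw
      have : ((Additive.toMul w : N) : G) ∈ L := ⟨Additive.toMul w, hw, rfl⟩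
      rw [hL, Subgroup.mem_bot] at this
      have h5 : Additive.toMul w = (1 : N) := Subtype.ext this
      exact h5
    · right
      rw [eq_top_iff]
      intro w _
      have : ((Additive.toMul w : N) : G) ∈ L := by rw [hL]; exact (Additive.toMul w).2
      obtain ⟨a, ha, hae⟩ := this
      have h5 : a = Additive.toMul w := Subtype.ext hae
      have h6 : Additive.ofMul a ∈ W := ha
      rw [h5] at h6
      exact h6
  have h2V : ∀ v : Additive N, 2 • v = 0 := by
    intro v
    have := hN2 (Additive.toMul v : N) (Additive.toMul v).2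
    show Additive.ofMul ((Additive.toMul v) ^ 2) = 0
    have h5 : (Additive.toMul v) ^ 2 = (1 : N) := Subtype.ext (by exact_mod_cast this)
    rw [h5]; rfl
  set w₀ : Additive N := Additive.ofMul (⟨v₀, hv₀N⟩ : N) with hw₀
  have hw₀ne : w₀ ≠ 0 := by
    intro h
    have h5 : (⟨v₀, hv₀N⟩ : N) = 1 := h
    exact hv₀ (congrArg Subtype.val h5)
  have hSw : S w₀ = w₀ := by
    rw [hS, hw₀, toEndAdd_apply]
    congr 1
    apply Subtype.ext
    rw [MulAut.conjNormal_apply]
    exact hyv
  have hfix' : ∀ w : Additive N, S w = w → w = 0 ∨ w = w₀ := by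
    intro w hw
    have h5 : MulAut.conjNormal y (Additive.toMul w : N) = (Additive.toMul w : N) := by
      have : S (Additive.ofMul (Additive.toMul w)) = Additive.ofMul (Additive.toMul w) := hw
      rw [hS, toEndAdd_apply] at this
      exact Additive.ofMul.injective this
    have h6 := congrArg Subtype.val h5
    rw [MulAut.conjNormal_apply] at h6
    rcases hfix _ (Additive.toMul w : N).2 h6 with h7 | h7
    · left
      have h8 : (Additive.toMul w : N) = 1 := Subtype.ext h7
      exact h8
    · right
      have h8 : (Additive.toMul w : N) = ⟨v₀, hv₀N⟩ := Subtype.ext h7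
      exact h8
  have hSj : S ^ j = 1 := by
    rw [hS, ← map_pow, ← map_pow, hj, map_one, map_one]
  obtain ⟨n, hn, hcard⟩ := core T hirr' h2V S S' h1 h2 hmem w₀ hw₀ne hSw hfix' j hSj
  exact ⟨n, hn, hcard⟩

end grp

end Cfsg.Agent.Lib.Helper1.ZR
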