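import Mathlib
import Cfsg.Agent.Lib.Helper1.ZR1

/-!
Helper1: doubly transitive groups in which only the identity fixes three points, with a regular
normal subgroup `N` and a non-identity element fixing two points: basic facts (`N` is an elementary
abelian `2`-group).
-/

set_option autoImplicit false
set_option linter.unusedSectionVars false
set_option linter.unusedVariables false

namespace Cfsg.Agent.Lib.Helper1.ZR

open MulAction

/-- the hypotheses in elementary form -/
structure Hyp (G : Type*) (Ω : Type*) [Group G] [MulAction G Ω] (N : Subgroup G) : Prop where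
  faithful : ∀ g : G, (∀ ω : Ω, g • ω = ω) → g = 1
  two : ∀ a b c d : Ω, a ≠ b → c ≠ d → ∃ g : G, g • a = c ∧ g • b = d
  three : ∀ g : G, ∀ a b c : Ω, a ≠ b → b ≠ c → a ≠ c → g • a = a → g • b = b → g • c = c → g = 1
  normal : N.Normal
  trans : ∀ a b : Ω, ∃ n ∈ N, n • a = b
  reg : ∀ n ∈ N, ∀ a : Ω, n • a = a → n = 1

variable {G : Type*} {Ω : Type*} [Group G] [MulAction G Ω] {N : Subgroup G}

theorem Hyp.finite [Finite Ω] (h : Hyp G Ω N) : Finite G := by
  apply Finite.of_injective (MulAction.toPermHom G Ω)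
  rw [injective_iff_map_eq_one]
  intro g hg
  apply h.faithful
  intro ω
  have := congrArg (fun f : Equiv.Perm Ω => f ω) hg
  simpa using this

theorem Hyp.smul_conj (h : Hyp G Ω N) {a : Ω} {g : G} (hg : g • a = a) (n : G) :
    (g * n * g⁻¹) • a = g • (n • a) := by
  have : g⁻¹ • a = a := by rw [inv_smul_eq_iff, hg]
  rw [mul_smul, mul_smul, this]

theorem Hyp.eq_of_smul (h : Hyp G Ω N) {n n' : G} (hn : n ∈ N) (hn' : n' ∈ N) {a : Ω}
    (e : n • a = n' • a) : n = n' := by
  have h1 : (n'⁻¹ * n) • a = a := by rw [mul_smul, e, inv_smul_smul]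
  have h2 := h.reg _ (N.mul_mem (N.inv_mem hn') hn) a h1
  calc n = n' * (n'⁻¹ * n) := by group
    _ = n' := by rw [h2, mul_one]

theorem Hyp.sq (h : Hyp G Ω N)
    (hfix : ∃ g : G, g ≠ 1 ∧ ∃ a b : Ω, a ≠ b ∧ g • a = a ∧ g • b = b) :
    ∀ n ∈ N, n * n = 1 := by
  obtain ⟨g, hg1, a, b, hab, hga, hgb⟩ := hfix
  obtain ⟨v, hvN, hv⟩ := h.trans a b
  have hgv : g * v * g⁻¹ = v := by
    apply h.eq_of_smul (h.normal.conj_mem v hvN g) hvN (a := a)
    rw [h.smul_conj hga, hv, hgb]
  have hvv : v * v = 1 := by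
    by_contra hne
    apply hg1
    have h1 : g • ((v * v) • a) = (v * v) • a := by
      rw [← h.smul_conj hga]
      have : g * (v * v) * g⁻¹ = (g * v * g⁻¹) * (g * v * g⁻¹) := by group
      rw [this, hgv]
    have h2 : b ≠ (v * v) • a := by
      intro h3
      apply hab
      rw [mul_smul, hv] at h3
      have := smul_left_cancel v (hv.trans h3)
      exact this
    have h3 : a ≠ (v * v) • a := by
      intro h4
      exact hne (h.reg _ (N.mul_mem hvN hvN) a h4.symm)
    exact h.three g a b _ hab h2 h3 hga hgb h1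
  intro n hn
  by_cases hn1 : n = 1
  · rw [hn1, one_mul]
  have hna : a ≠ n • a := fun h4 => hn1 (h.reg n hn a h4.symm)
  obtain ⟨k, hka, hkb⟩ := h.two a b a (n • a) hab hna
  have hkv : k * v * k⁻¹ = n := by
    apply h.eq_of_smul (h.normal.conj_mem v hvN k) hn (a := a)
    rw [h.smul_conj hka, hv, hkb]
  rw [← hkv]
  calc k * v * k⁻¹ * (k * v * k⁻¹) = k * (v * v) * k⁻¹ := by group
    _ = 1 := by rw [hvv]; group

theorem Hyp.comm (h : Hyp G Ω N)
    (hfix : ∃ g : G, g ≠ 1 ∧ ∃ a b : Ω, a ≠ b ∧ g • a = a ∧ g • b = b) :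
    ∀ n ∈ N, ∀ n' ∈ N, n * n' = n' * n := by
  intro n hn n' hn'
  have h1 := h.sq hfix n hn
  have h2 := h.sq hfix n' hn'
  have h3 := h.sq hfix (n * n') (N.mul_mem hn hn')
  calc n * n' = n * n' * ((n' * n') * (n * n))⁻¹ := by rw [h1, h2]; group
    _ = (n * n' * (n * n'))⁻¹ * (n * n') * ((n' * n') * (n * n))⁻¹ * (n * n' * (n * n')) := by
        rw [h3]; group
    _ = n' * n := by
        rw [h3, h1, h2]
        have e1 : n⁻¹ = n := inv_eq_of_mul_eq_one_left h1
        have e2 : n'⁻¹ = n' := inv_eq_of_mul_eq_one_left h2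
        have e3 : (n * n')⁻¹ = n * n' := inv_eq_of_mul_eq_one_left h3
        simp only [inv_one, one_mul, mul_one]
        calc n * n' = (n * n')⁻¹ := e3.symm
          _ = n'⁻¹ * n⁻¹ := by group
          _ = n' * n := by rw [e1, e2]

theorem Hyp.card_eq [Finite Ω] (h : Hyp G Ω N) (a : Ω) : Nat.card N = Nat.card Ω := by
  apply Nat.card_congr
  refine Equiv.ofBijective (fun n : N => (n : G) • a) ⟨?_, ?_⟩
  · intro n n' e
    exact Subtype.ext (h.eq_of_smul n.2 n'.2 e)
  · intro ω
    obtain ⟨n, hn, e⟩ := h.trans a ω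
    exact ⟨⟨n, hn⟩, e⟩

end Cfsg.Agent.Lib.Helper1.ZR
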