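import Mathlib
import Cfsg.Agent.Lib.Helper1.ZR2
import Cfsg.Agent.Lib.Helper19.Zsigmondy

/-!
Helper1: Zassenhaus groups with a regular normal subgroup, part 3: arithmetic (a prime power
`s ^ k` dividing `2 ^ m - 1` but no `2 ^ d - 1` with `0 < d < m`) and elements of `s`-power order.
-/

set_option autoImplicit false
set_option linter.unusedSectionVars false
set_option linter.unusedVariables false

namespace Cfsg.Agent.Lib.Helper1.ZR

open MulAction

theorem exists_good (m : ℕ) (hm : 2 ≤ m) : ∃ s k : ℕ, s.Prime ∧ s ≠ 2 ∧ 0 < k ∧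
    s ^ k ∣ 2 ^ m - 1 ∧ ∀ d, 0 < d → d < m → ¬ s ^ k ∣ 2 ^ d - 1 := by
  by_cases h6 : m = 6
  · subst h6
    refine ⟨3, 2, by norm_num, by norm_num, by norm_num, by norm_num, ?_⟩
    intro d hd0 hd6
    interval_cases d <;> norm_num
  · have h2 : ¬ (m = 2 ∧ ∃ k : ℕ, 2 + 1 = 2 ^ k) := by
      rintro ⟨-, k, hk⟩
      rcases k with _ | k
      · norm_num at hk
      · have : 2 ∣ 2 ^ (k + 1) := dvd_pow_self 2 (by omega)
        rw [← hk] at this
        omega
    obtain ⟨r, hr, hdvd, hprim⟩ := Cfsg.Agent.Lib.Helper19.Zsigmondy.zsigmondy 2 m (by norm_num)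
      (by omega) (by omega) h2
    refine ⟨r, 1, hr, ?_, one_pos, by simpa using hdvd, fun d hd0 hdm => by
      simpa using hprim d hd0 hdm⟩
    rintro rfl
    have h1 : 1 ≤ 2 ^ m := Nat.one_le_two_pow
    have h3 : 2 ∣ 2 ^ m := dvd_pow_self 2 (by omega)
    omega

variable {G : Type*} {Ω : Type*} [Group G] [MulAction G Ω] {N : Subgroup G}

/-- elements of `s`-power order, `s` an odd prime with `|Ω| ≡ 1 mod s`, centralize no non-identity
element of `N` -/
theorem Hyp.fpf_of_pelem [Finite Ω] (h : Hyp G Ω N) {s : ℕ} (hs : s.Prime)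
    (hcard : Nat.card Ω ≡ 1 [MOD s]) {x : G} (hx1 : x ≠ 1) {e : ℕ} (hxe : x ^ s ^ e = 1) :
    ∀ v ∈ N, x * v = v * x → v = 1 := by
  classical
  haveI : Fact s.Prime := ⟨hs⟩
  have hft : Fintype Ω := Fintype.ofFinite Ω
  intro v hv hcomm
  by_contra hv1
  set f : Function.End Ω := fun ω => x • ω with hf
  have hfpow : ∀ n : ℕ, ∀ ω : Ω, (f ^ n) ω = (x ^ n) • ω := by
    intro n
    induction n with
    | zero => intro ω; rw [pow_zero, pow_zero, one_smul]; rfl
    | succ n ih =>
      intro ω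
      rw [pow_succ', pow_succ', mul_smul, ← ih ω]
      rfl
  have hf1 : f ^ s ^ e = 1 := by
    funext ω
    rw [hfpow, hxe, one_smul]
    rfl
  have hmod := Equiv.Perm.card_fixedPoints_modEq (f := f) (p := s) (n := e) hf1
  rw [← Nat.card_eq_fintype_card] at hmod
  have hmod2 : Fintype.card ↑(Function.fixedPoints f) ≡ 1 [MOD s] := hmod.symm.trans hcard
  have hmemF : ∀ ω : Ω, ω ∈ Function.fixedPoints f ↔ x • ω = ω := fun ω => Iff.rfl
  -- nonempty
  have hne : (Function.fixedPoints f).Nonempty := by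
    by_contra hemp
    rw [Set.not_nonempty_iff_eq_empty] at hemp
    have h0 : Fintype.card ↑(Function.fixedPoints f) = 0 := by
      rw [Fintype.card_eq_zero_iff, hemp]
      exact Set.isEmpty_coe_sort.mpr rfl
    rw [h0] at hmod2
    have := (Nat.modEq_iff_dvd' (Nat.zero_le 1)).mp hmod2
    have h1 : s ∣ 1 := by simpa using this
    exact hs.one_lt.ne' (Nat.dvd_one.mp h1)
  obtain ⟨c, hc⟩ := hne
  have hc' : x • c = c := hc
  have hvc : x • (v • c) = v • c := by
    rw [← mul_smul, hcomm, mul_smul, hc']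
  have hvcne : v • c ≠ c := fun h4 => hv1 (h.reg v hv c h4)
  have hF : ∀ ω : Ω, ω ∈ ({c, v • c} : Finset Ω) ↔ ω ∈ Function.fixedPoints f := by
    intro ω
    rw [Finset.mem_insert, Finset.mem_singleton, hmemF]
    constructor
    · rintro (rfl | rfl)
      · exact hc'
      · exact hvc
    · intro hω
      by_contra hcon
      push Not at hcon
      apply hx1
      exact h.three x c (v • c) ω (Ne.symm hvcne) (Ne.symm hcon.2) (Ne.symm hcon.1) hc' hvc hω
  have h2 : Fintype.card ↑(Function.fixedPoints f) = 2 := by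
    rw [Fintype.card_of_subtype ({c, v • c} : Finset Ω) hF, Finset.card_pair (Ne.symm hvcne)]
  rw [h2] at hmod2
  have := (Nat.modEq_iff_dvd' (by norm_num : 1 ≤ 2)).mp hmod2.symm
  have h1 : s ∣ 1 := by simpa using this
  exact hs.one_lt.ne' (Nat.dvd_one.mp h1)

end Cfsg.Agent.Lib.Helper1.ZR
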