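import Mathlib
import Cfsg.Agent.Lib.Helper1.ZR3
import Cfsg.Agent.Lib.Helper10.FrobQuot

/-!
Helper1: Zassenhaus groups with a regular normal subgroup, part 4: irreducibility of a cyclic
subgroup acting semiregularly, and the basic step `m ∣ j`.
-/

set_option autoImplicit false
set_option linter.unusedSectionVars false
set_option linter.unusedVariables false

namespace Cfsg.Agent.Lib.Helper1.ZR

open MulAction

variable {G : Type*} {Ω : Type*} [Group G] [MulAction G Ω] {N : Subgroup G}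

/-- conjugation action of a subgroup `C` on a subgroup `L` it normalizes -/
def conjMulAction (C L : Subgroup G) (hCL : ∀ c ∈ C, ∀ l ∈ L, c * l * c⁻¹ ∈ L) : MulAction C L where
  smul c l := ⟨c * l * c⁻¹, hCL c c.2 l l.2⟩
  one_smul l := Subtype.ext (by show (1 : G) * l * (1 : G)⁻¹ = l; simp)
  mul_smul c c' l := Subtype.ext (by
    show ((c : G) * c') * l * ((c : G) * c')⁻¹ = c * (c' * l * (c' : G)⁻¹) * (c : G)⁻¹
    group)

theorem irreducible_of_free [Finite G] (hN2 : ∀ n ∈ N, n * n = 1) {m : ℕ}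
    (hm : Nat.card N = 2 ^ m) {q : ℕ} (hq : ∀ d, 0 < d → d < m → ¬ q ∣ 2 ^ d - 1)
    (x : G) (hxq : q ∣ orderOf x)
    (hfree : ∀ c ∈ Subgroup.zpowers x, c ≠ 1 → ∀ v ∈ N, c * v = v * c → v = 1) :
    ∀ L : Subgroup G, L ≤ N → (∀ l ∈ L, x * l * x⁻¹ ∈ L) → L = ⊥ ∨ L = N := by
  classical
  intro L hLN hLx
  by_cases hL : L = ⊥
  · left; exact hL
  right
  have hpg : IsPGroup 2 L := by
    intro l
    refine ⟨1, ?_⟩
    apply Subtype.ext
    have := hN2 l (hLN l.2)
    simp only [pow_one, SubmonoidClass.mk_pow, OneMemClass.coe_one]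
    rw [pow_two]
    exact_mod_cast this
  obtain ⟨d, hd⟩ := (IsPGroup.iff_card (G := L)).mp hpg
  have hd0 : d ≠ 0 := by
    rintro rfl
    rw [pow_zero] at hd
    exact hL ((Subgroup.card_eq_one).mp hd)
  -- the conjugation action
  have hCL : ∀ c ∈ Subgroup.zpowers x, ∀ l ∈ L, c * l * c⁻¹ ∈ L := by
    intro c hc l hl
    rw [← mem_powers_iff_mem_zpowers, Submonoid.mem_powers_iff] at hc
    obtain ⟨i, rfl⟩ := hc
    induction i with
    | zero => simpa using hl
    | succ i ih =>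
      have := hLx _ ih
      have e : x ^ (i + 1) * l * (x ^ (i + 1))⁻¹ = x * (x ^ i * l * (x ^ i)⁻¹) * x⁻¹ := by
        rw [pow_succ']; group
      rw [e]; exact this
  letI : MulAction (Subgroup.zpowers x) L := conjMulAction (Subgroup.zpowers x) L hCL
  have hsm : ∀ (c : Subgroup.zpowers x) (l : L), ((c • l : L) : G) = c * l * (c : G)⁻¹ :=
    fun c l => rfl
  haveI : Fintype (Subgroup.zpowers x) := Fintype.ofFinite _
  haveI : Fintype L := Fintype.ofFinite _
  have key := Cfsg.Agent.Lib.Helper10.index_dvd_card_sub_one_of_free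
    (L := Subgroup.zpowers x) (X := L) ⊥ (1 : L)
    (by
      intro k hk q
      rw [Subgroup.mem_bot] at hk
      subst hk
      exact one_smul _ q)
    (by
      intro c hc q hcq
      have hc1 : (c : G) ≠ 1 := by
        intro h1
        apply hc
        rw [Subgroup.mem_bot]
        exact Subtype.ext h1
      have h2 : (c : G) * q * (c : G)⁻¹ = q := by
        rw [← hsm, hcq]
      have h3 : (c : G) * q = q * c := by
        calc (c : G) * q = (c : G) * q * (c : G)⁻¹ * c := by group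
          _ = q * c := by rw [h2]
      have := hfree c c.2 hc1 q (hLN q.2) h3
      exact Subtype.ext this)
    (by
      intro c
      apply Subtype.ext
      rw [hsm]
      simp)
  rw [Subgroup.index_bot, Nat.card_zpowers, ← Nat.card_eq_fintype_card, hd] at key
  have hqd : q ∣ 2 ^ d - 1 := dvd_trans hxq key
  have hdm : m ≤ d := by
    by_contra hlt
    push Not at hlt
    exact hq d (Nat.pos_of_ne_zero hd0) hlt hqd
  apply Subgroup.eq_of_le_of_card_ge hLN
  rw [hm, hd]
  exact Nat.pow_le_pow_right (by norm_num) hdm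

theorem Hyp.step [Finite Ω] (h : Hyp G Ω N) (hNc : ∀ a ∈ N, ∀ b ∈ N, a * b = b * a)
    (hN2 : ∀ n ∈ N, n * n = 1) {m : ℕ} (hm : Nat.card N = 2 ^ m)
    (x : G) (hirr : ∀ L : Subgroup G, L ≤ N → (∀ l ∈ L, x * l * x⁻¹ ∈ L) → L = ⊥ ∨ L = N)
    {a c : Ω} (hca : c ≠ a)
    (z : G) (hz1 : z ≠ 1) (hza : z • a = a) (hzc : z • c = c)
    (hzx : z * x * z⁻¹ ∈ Subgroup.zpowers x) (j : ℕ) (hj : z ^ j = 1) : m ∣ j := by
  haveI := h.finite
  haveI := h.normal
  haveI : Finite N := inferInstance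
  rw [← mem_powers_iff_mem_zpowers, Submonoid.mem_powers_iff] at hzx
  obtain ⟨k, hk⟩ := hzx
  obtain ⟨v₀, hv₀N, hv₀⟩ := h.trans a c
  have hv₀1 : v₀ ≠ 1 := by
    rintro rfl
    rw [one_smul] at hv₀
    exact hca hv₀.symm
  have hN1 : N ≠ ⊥ := by
    intro hb
    rw [hb, Subgroup.mem_bot] at hv₀N
    exact hv₀1 hv₀N
  have hzv : z * v₀ * z⁻¹ = v₀ := by
    apply h.eq_of_smul (h.normal.conj_mem v₀ hv₀N z) hv₀N (a := a)
    rw [h.smul_conj hza, hv₀, hzc]
  have hfix : ∀ w ∈ N, z * w * z⁻¹ = w → w = 1 ∨ w = v₀ := by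
    intro w hw hzw
    have h1 : z • (w • a) = w • a := by
      rw [← h.smul_conj hza, hzw]
    by_contra hcon
    push Not at hcon
    apply hz1
    have h2 : a ≠ w • a := fun h4 => hcon.1 (h.reg w hw a h4.symm)
    have h3 : c ≠ w • a := by
      intro h4
      apply hcon.2
      apply h.eq_of_smul hw hv₀N (a := a)
      rw [hv₀, h4]
    exact h.three z a c (w • a) (Ne.symm hca) h3 h2 hza hzc h1
  have hN2' : ∀ n ∈ N, n ^ 2 = 1 := fun n hn => by rw [pow_two]; exact hN2 n hn
  obtain ⟨n, hnj, hcard⟩ := core_group N hN1 hNc hN2' x hirr z k hk.symm v₀ hv₀N hv₀1 hzv hfix j hj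
  rw [hm] at hcard
  have := Nat.pow_right_injective (le_refl 2) hcard
  rw [this]
  exact hnj

end Cfsg.Agent.Lib.Helper1.ZR
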