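import Mathlib
import Cfsg.Agent.Lib.Helper1.ZR4
import Cfsg.Agent.Lib.Helper18.Fpf
import Cfsg.Agent.Lib.Helper5.FrobAct

/-!
Helper1: Zassenhaus groups with a regular normal subgroup, part 5: the degree is `2 ^ p` with `p`
prime.
-/

set_option autoImplicit false
set_option linter.unusedSectionVars false
set_option linter.unusedVariables false

namespace Cfsg.Agent.Lib.Helper1.ZR

open MulAction

variable {G : Type*} {Ω : Type*} [Group G] [MulAction G Ω] {N : Subgroup G}

theorem Hyp.prime_exp [Finite Ω] (h : Hyp G Ω N) {g : G} {a b : Ω} (hg1 : g ≠ 1) (hab : a ≠ b)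
    (hga : g • a = a) (hgb : g • b = b) {m : ℕ} (hm : Nat.card N = 2 ^ m) (hm2 : 2 ≤ m) :
    m.Prime := by
  classical
  have hfix : ∃ g : G, g ≠ 1 ∧ ∃ a b : Ω, a ≠ b ∧ g • a = a ∧ g • b = b :=
    ⟨g, hg1, a, b, hab, hga, hgb⟩
  have hsq := h.sq hfix
  have hcomm := h.comm hfix
  haveI := h.finite
  haveI := h.normal
  have hΩ : Nat.card Ω = 2 ^ m := by rw [← h.card_eq a, hm]
  -- the point stabilizer and its action
  set H : Subgroup G := stabilizer G a with hH
  have hmemΩ' : ∀ ω : Ω, ω ∈ SubMulAction.ofStabilizer G a ↔ ω ≠ a :=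
    fun ω => SubMulAction.mem_ofStabilizer_iff G a
  have hsmul : ∀ (k : H) (c : SubMulAction.ofStabilizer G a),
      ((k • c : SubMulAction.ofStabilizer G a) : Ω) = (k : G) • (c : Ω) := fun k c => rfl
  haveI : IsPretransitive H (SubMulAction.ofStabilizer G a) := by
    refine ⟨fun c d => ?_⟩
    have hc : (c : Ω) ≠ a := (hmemΩ' c).mp c.2
    have hd : (d : Ω) ≠ a := (hmemΩ' d).mp d.2
    obtain ⟨k, hka, hkc⟩ := h.two a c a d (Ne.symm hc) (Ne.symm hd)
    exact ⟨⟨k, hka⟩, Subtype.ext hkc⟩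
  have h1 : ∀ x : H, x ≠ 1 → ∀ c d : SubMulAction.ofStabilizer G a, x • c = c → x • d = d →
      c = d := by
    intro x hx1 c d hc hd
    by_contra hcd
    apply hx1
    have hc' : (c : Ω) ≠ a := (hmemΩ' c).mp c.2
    have hd' : (d : Ω) ≠ a := (hmemΩ' d).mp d.2
    have h3 := h.three (x : G) a c d (Ne.symm hc') (fun h4 => hcd (Subtype.ext h4)) (Ne.symm hd')
      x.2 (by rw [← hsmul, hc]) (by rw [← hsmul, hd])
    exact Subtype.ext h3
  set b' : SubMulAction.ofStabilizer G a := ⟨b, (hmemΩ' b).mpr (Ne.symm hab)⟩ with hb'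
  have hcardΩ' : Nat.card (SubMulAction.ofStabilizer G a) = 2 ^ m - 1 := by
    rw [SubMulAction.nat_card_ofStabilizer_eq, hΩ]
  have hpow4 : 4 ≤ 2 ^ m := by
    calc 4 = 2 ^ 2 := by norm_num
      _ ≤ 2 ^ m := Nat.pow_le_pow_right (by norm_num) hm2
  haveI : Finite (SubMulAction.ofStabilizer G a) := Subtype.finite
  have hnt : Nontrivial (SubMulAction.ofStabilizer G a) := by
    rw [← Finite.one_lt_card_iff_nontrivial, hcardΩ']
    omega
  obtain ⟨b'', hb''⟩ := exists_ne b'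
  have hgH : (⟨g, hga⟩ : H) ∈ stabilizer H b' := by
    rw [mem_stabilizer_iff]
    exact Subtype.ext hgb
  have hgH1 : (⟨g, hga⟩ : H) ≠ 1 := fun h4 => hg1 (congrArg Subtype.val h4)
  have hne : stabilizer H b' ≠ ⊥ := by
    intro hbot
    rw [hbot, Subgroup.mem_bot] at hgH
    exact hgH1 hgH
  obtain ⟨K, hKn, hKmem, hKdec, -, hKtr⟩ :=
    Cfsg.Agent.Lib.Helper5.FrobAct.frob_action h1 b' b'' (Ne.symm hb'') hne
  haveI := hKn
  -- `|K| = 2 ^ m - 1`
  have hcardK : Nat.card K = 2 ^ m - 1 := by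
    rw [← hcardΩ']
    apply Nat.card_congr
    refine Equiv.ofBijective (fun k : K => (k : H) • b') ⟨?_, ?_⟩
    · intro k k' e
      have e' : (k : H) • b' = (k' : H) • b' := e
      have h3 : ((k' : H)⁻¹ * k) • b' = b' := by rw [mul_smul, e', inv_smul_smul]
      have h4 : (k' : H)⁻¹ * k ∈ K := K.mul_mem (K.inv_mem k'.2) k.2
      rcases (hKmem _).mp h4 with h5 | h5
      · apply Subtype.ext
        calc (k : H) = k' * ((k' : H)⁻¹ * k) := by group
          _ = k' := by rw [h5, mul_one]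
      · exact absurd h3 (h5 b')
    · intro d
      obtain ⟨k, hk, e⟩ := hKtr b' d
      exact ⟨⟨k, hk⟩, e⟩
  -- the good prime
  obtain ⟨s, k, hs, hs2, hk0, hdvd, hprim⟩ := exists_good m hm2
  haveI : Fact s.Prime := ⟨hs⟩
  have hsdvd : s ∣ 2 ^ m - 1 := dvd_trans (dvd_pow_self s hk0.ne') hdvd
  have hmodΩ : Nat.card Ω ≡ 1 [MOD s] := by
    rw [hΩ]
    exact ((Nat.modEq_iff_dvd' (by omega : 1 ≤ 2 ^ m)).mpr hsdvd).symm
  have hfpf : ∀ x : G, x ≠ 1 → (∃ e, x ^ s ^ e = 1) → ∀ v ∈ N, x * v = v * x → v = 1 := by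
    intro x hx1 ⟨e, he⟩
    exact h.fpf_of_pelem hs hmodΩ hx1 he
  -- cyclic Sylow subgroups
  haveI : IsMulCommutative N := ⟨⟨fun x y => Subtype.ext (hcomm x x.2 y y.2)⟩⟩
  obtain ⟨v, hvN, hv⟩ := h.trans a b
  have hv1 : v ≠ 1 := by
    rintro rfl
    rw [one_smul] at hv
    exact hab hv
  have hN1 : N ≠ ⊥ := by
    intro hb
    rw [hb, Subgroup.mem_bot] at hvN
    exact hv1 hvN
  have hVp : ∀ v ∈ N, v ^ s = 1 → v = 1 := by
    intro v hv hvs
    have h3 : orderOf v ∣ 2 := orderOf_dvd_of_pow_eq_one (by rw [pow_two]; exact hsq v hv)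
    have h4 : orderOf v ∣ s := orderOf_dvd_of_pow_eq_one hvs
    have h5 : Nat.Coprime 2 s := by
      rw [Nat.coprime_primes Nat.prime_two hs]
      exact Ne.symm hs2
    have h6 : orderOf v ∣ 1 := by
      have := Nat.dvd_gcd h3 h4
      rwa [h5] at this
    exact orderOf_eq_one_iff.mp (Nat.dvd_one.mp h6)
  have hcyc : ∀ Q : Subgroup G, IsPGroup s Q → IsCyclic Q := fun Q hQ =>
    Cfsg.Agent.Lib.Helper18.isCyclic_of_fpf_odd N hN1 hs2 hVp
      (fun x hx hxs => hfpf x hx ⟨1, by simpa using hxs⟩) Q hQ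
  -- Sylow subgroup of `K` and the Frattini argument
  obtain ⟨P⟩ : Nonempty (Sylow s K) := inferInstance
  have hfrat := Sylow.normalizer_sup_eq_top P
  have hKtop : K ≠ ⊤ := by
    intro htop
    have : (⟨g, hga⟩ : H) ∈ K := by rw [htop]; trivial
    rcases (hKmem _).mp this with h5 | h5
    · exact hgH1 h5
    · exact h5 b' hgH
  obtain ⟨y, hyN, hyK⟩ : ∃ y : H, y ∈ Subgroup.normalizer
      (((P : Subgroup K).map K.subtype : Subgroup H) : Set H) ∧ y ∉ K := by
    by_contra hcon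
    push Not at hcon
    apply hKtop
    rw [eq_top_iff, ← hfrat]
    exact sup_le hcon le_rfl
  have hy1 : y ≠ 1 := fun h4 => hyK (by rw [h4]; exact K.one_mem)
  obtain ⟨c, hyc⟩ : ∃ c : SubMulAction.ofStabilizer G a, y • c = c := by
    by_contra hcon
    push Not at hcon
    exact hyK ((hKmem y).mpr (Or.inr hcon))
  have hca : (c : Ω) ≠ a := (hmemΩ' c).mp c.2
  have hyG1 : (y : G) ≠ 1 := fun h4 => hy1 (Subtype.ext h4)
  have hyGa : (y : G) • a = a := y.2
  have hyGc : (y : G) • (c : Ω) = c := by rw [← hsmul, hyc]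
  -- the image of `P` in `G`
  set Q : Subgroup G := ((P : Subgroup K).map K.subtype).map H.subtype with hQ
  have hQp : IsPGroup s Q := (P.isPGroup'.map K.subtype).map H.subtype
  haveI := hcyc Q hQp
  obtain ⟨x₀, hx₀⟩ := IsCyclic.exists_generator (α := Q)
  have hordx₀ : orderOf x₀ = Nat.card Q := orderOf_eq_card_of_forall_mem_zpowers hx₀
  have hcardQ : Nat.card Q = Nat.card P := by
    have e1 := (Subgroup.equivMapOfInjective (P : Subgroup K) K.subtype K.subtype_injective)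
    have e2 := (Subgroup.equivMapOfInjective ((P : Subgroup K).map K.subtype) H.subtype
      H.subtype_injective)
    exact (Nat.card_congr (e1.trans e2).toEquiv).symm
  have hqQ : s ^ k ∣ Nat.card Q := by
    rw [hcardQ]
    apply Sylow.pow_dvd_card_of_pow_dvd_card
    rw [hcardK]
    exact hdvd
  set x : G := (x₀ : G) with hx
  have hordx : orderOf x = Nat.card Q := by rw [hx, Subgroup.orderOf_coe, hordx₀]
  have hQx : ∀ q ∈ Q, q ∈ Subgroup.zpowers x := by
    intro q hq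
    have := hx₀ ⟨q, hq⟩
    rw [Subgroup.mem_zpowers_iff] at this ⊢
    obtain ⟨i, hi⟩ := this
    exact ⟨i, by
      have := congrArg Subtype.val hi
      simpa using this⟩
  have hxQ : ∀ c ∈ Subgroup.zpowers x, c ∈ Q := by
    intro c hc
    rw [Subgroup.mem_zpowers_iff] at hc
    obtain ⟨i, rfl⟩ := hc
    exact Q.zpow_mem x₀.2 i
  -- irreducibility
  have hfree : ∀ c ∈ Subgroup.zpowers x, c ≠ 1 → ∀ v ∈ N, c * v = v * c → v = 1 := by
    intro c hc hc1
    obtain ⟨e, he⟩ := hQp ⟨c, hxQ c hc⟩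
    have he' : c ^ s ^ e = 1 := by
      have := congrArg Subtype.val he
      simpa using this
    exact hfpf c hc1 ⟨e, he'⟩
  have hirr := irreducible_of_free (N := N) hsq hm hprim x (by rw [hordx]; exact hqQ) hfree
  -- elements normalizing `Q`
  have hstep : ∀ z : G, z ≠ 1 → z • a = a → z • (c : Ω) = c → (∀ q ∈ Q, z * q * z⁻¹ ∈ Q) →
      ∀ j : ℕ, z ^ j = 1 → m ∣ j := by
    intro z hz1 hza hzc hzQ j hj
    exact h.step hcomm hsq hm x hirr hca z hz1 hza hzc (hQx _ (hzQ x x₀.2)) j hj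
  have hyQ : ∀ q ∈ Q, (y : G) * q * (y : G)⁻¹ ∈ Q := by
    rintro _ ⟨q, hq, rfl⟩
    have h3 : y * q * y⁻¹ ∈ (P : Subgroup K).map K.subtype := by
      have := (Subgroup.mem_set_normalizer_iff.mp hyN q).mp hq
      exact this
    exact ⟨y * q * y⁻¹, h3, by simp⟩
  have hpowQ : ∀ i : ℕ, ∀ q ∈ Q, (y : G) ^ i * q * ((y : G) ^ i)⁻¹ ∈ Q := by
    intro i
    induction i with
    | zero => intro q hq; simpa using hq
    | succ i ih =>
      intro q hq
      have := hyQ _ (ih q hq)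
      have e : (y : G) ^ (i + 1) * q * ((y : G) ^ (i + 1))⁻¹
          = (y : G) * ((y : G) ^ i * q * ((y : G) ^ i)⁻¹) * (y : G)⁻¹ := by
        rw [pow_succ']; group
      rw [e]; exact this
  have hpowa : ∀ i : ℕ, (y : G) ^ i • a = a := by
    intro i
    induction i with
    | zero => simp
    | succ i ih => rw [pow_succ, mul_smul, hyGa, ih]
  have hpowc : ∀ i : ℕ, (y : G) ^ i • (c : Ω) = c := by
    intro i
    induction i with
    | zero => simp
    | succ i ih => rw [pow_succ, mul_smul, hyGc, ih]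
  set o := orderOf (y : G) with ho
  have ho0 : o ≠ 0 := (orderOf_pos (y : G)).ne'
  have hmo : m ∣ o := hstep y hyG1 hyGa hyGc hyQ o (pow_orderOf_eq_one _)
  have hm1 : m ≠ 1 := by omega
  set r := m.minFac with hr
  have hrp : r.Prime := Nat.minFac_prime hm1
  have hrm : r ∣ m := Nat.minFac_dvd m
  have hro : r ∣ o := dvd_trans hrm hmo
  have hord' : orderOf ((y : G) ^ (o / r)) = r := orderOf_pow_orderOf_div ho0 hro
  have hy'1 : (y : G) ^ (o / r) ≠ 1 := by
    intro h4
    rw [h4, orderOf_one] at hord'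
    exact hrp.one_lt.ne hord'
  have hpr : ((y : G) ^ (o / r)) ^ r = 1 := by
    have := pow_orderOf_eq_one ((y : G) ^ (o / r))
    rwa [hord'] at this
  have hmr : m ∣ r := hstep ((y : G) ^ (o / r)) hy'1 (hpowa _) (hpowc _) (hpowQ _) r hpr
  rcases (Nat.dvd_prime hrp).mp hmr with h4 | h4
  · exact absurd h4 hm1
  · rw [h4]; exact hrp

end Cfsg.Agent.Lib.Helper1.ZR

namespace Cfsg.Agent.Lib.Helper1.ZR

open MulAction

/-- a faithful doubly transitive group in which only the identity fixes three points, some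
non-identity element fixes two points, with a regular normal subgroup, has degree `2 ^ p` -/
theorem zass_regular_card {G Ω : Type*} [Group G] [MulAction G Ω] [Fintype Ω] [FaithfulSMul G Ω]
    (h2 : MulAction.IsMultiplyPretransitive G Ω 2)
    (h3 : ∀ g : G, ∀ a b c : Ω, a ≠ b → b ≠ c → a ≠ c → g • a = a → g • b = b → g • c = c → g = 1)
    (hfix : ∃ g : G, g ≠ 1 ∧ ∃ a b : Ω, a ≠ b ∧ g • a = a ∧ g • b = b)
    (N : Subgroup G) [N.Normal] (hNt : MulAction.IsPretransitive N Ω)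
    (hNr : ∀ a : Ω, MulAction.stabilizer N a = ⊥) :
    ∃ p : ℕ, p.Prime ∧ Fintype.card Ω = 2 ^ p := by
  classical
  have h : Hyp G Ω N := by
    refine ⟨?_, ?_, h3, inferInstance, ?_, ?_⟩
    · intro g hg
      apply FaithfulSMul.eq_of_smul_eq_smul (α := Ω)
      intro ω
      rw [hg ω, one_smul]
    · intro a b c d hab hcd
      exact MulAction.is_two_pretransitive_iff.mp h2 hab hcd
    · intro a b
      obtain ⟨n, hn⟩ := hNt.exists_smul_eq a b
      exact ⟨n.1, n.2, hn⟩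
    · intro n hn a hna
      have : (⟨n, hn⟩ : N) ∈ MulAction.stabilizer N a := by
        rw [MulAction.mem_stabilizer_iff]
        exact hna
      rw [hNr a, Subgroup.mem_bot] at this
      exact congrArg Subtype.val this
  obtain ⟨g, hg1, a, b, hab, hga, hgb⟩ := hfix
  have hfix' : ∃ g : G, g ≠ 1 ∧ ∃ a b : Ω, a ≠ b ∧ g • a = a ∧ g • b = b :=
    ⟨g, hg1, a, b, hab, hga, hgb⟩
  have hsq := h.sq hfix'
  haveI := h.finite
  have hpg : IsPGroup 2 N := by
    intro n
    refine ⟨1, ?_⟩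
    apply Subtype.ext
    have := hsq n n.2
    simp only [pow_one, SubmonoidClass.mk_pow, OneMemClass.coe_one]
    rw [pow_two]
    exact this
  obtain ⟨m, hm⟩ := (IsPGroup.iff_card (G := N)).mp hpg
  have hΩ : Fintype.card Ω = 2 ^ m := by
    rw [← Nat.card_eq_fintype_card, ← h.card_eq a, hm]
  have h3pts : ∃ ω : Ω, ω ≠ a ∧ ω ≠ b := by
    by_contra hcon
    push Not at hcon
    apply hg1
    apply h.faithful
    intro ω
    by_cases hω : ω = a
    · rw [hω, hga]
    · rw [hcon ω hω, hgb]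
  obtain ⟨ω, hωa, hωb⟩ := h3pts
  have hcard3 : 3 ≤ Fintype.card Ω := by
    have h4 : ({a, b, ω} : Finset Ω).card = 3 := by
      rw [Finset.card_insert_of_notMem, Finset.card_pair (Ne.symm hωb)]
      simp only [Finset.mem_insert, Finset.mem_singleton, not_or]
      exact ⟨hab, Ne.symm hωa⟩
    rw [← h4]
    exact Finset.card_le_univ _
  have hm2 : 2 ≤ m := by
    by_contra hlt
    push Not at hlt
    have : 2 ^ m ≤ 2 ^ 1 := Nat.pow_le_pow_right (by norm_num) (by omega)
    omega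
  exact ⟨m, h.prime_exp hg1 hab hga hgb hm hm2, hΩ⟩

end Cfsg.Agent.Lib.Helper1.ZR
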